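import Mathlib
import Groth.Agent.Lib.Lead.RLR3
import Groth.Agent.Lib.Lead.Hom2

/-!
# Ascent of regularity along flat local homomorphisms with regular closed fibre
-/

namespace Groth.Agent.Helper14.RegAscent

open IsLocalRing Groth.Agent.Lead

universe u

theorem flat_quotient_map {A B : Type u} [CommRing A] [CommRing B] [Algebra A B] [Module.Flat A B]
    (I : Ideal A) : Module.Flat (A ⧸ I) (B ⧸ I.map (algebraMap A B)) :=
  Module.Flat.of_linearEquiv
    (Algebra.TensorProduct.quotIdealMapEquivQuotTensor B I).toLinearEquiv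

theorem isLocalHom_quotient_map {A B : Type u} [CommRing A] [CommRing B] [IsLocalRing A]
    [IsLocalRing B] [Algebra A B] [IsLocalHom (algebraMap A B)] (I : Ideal A)
    (hJ : I.map (algebraMap A B) ≠ ⊤) :
    IsLocalHom (algebraMap (A ⧸ I) (B ⧸ I.map (algebraMap A B))) := by
  constructor
  intro a ha
  obtain ⟨a, rfl⟩ := Ideal.Quotient.mk_surjective a
  by_contra hna
  have h1 : a ∈ maximalIdeal A := by
    rw [mem_maximalIdeal, mem_nonunits_iff]
    intro hu
    exact hna (hu.map _)
  have h2 : algebraMap A B a ∈ maximalIdeal B := map_nonunit _ a h1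
  rw [Ideal.Quotient.algebraMap_quotient_map_quotient] at ha
  -- a unit mod J lying in the maximal ideal
  obtain ⟨c, hc⟩ := ha.exists_right_inv
  obtain ⟨c, rfl⟩ := Ideal.Quotient.mk_surjective c
  rw [← map_mul, ← map_one (Ideal.Quotient.mk _), Ideal.Quotient.eq] at hc
  have hJle : I.map (algebraMap A B) ≤ maximalIdeal B := le_maximalIdeal hJ
  have h3 : algebraMap A B a * c ∈ maximalIdeal B := Ideal.mul_mem_right _ _ h2
  have h4 : (1 : B) ∈ maximalIdeal B := by
    have := sub_mem h3 (hJle hc)
    simpa using this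
  exact (Ideal.ne_top_iff_one _).mp (maximalIdeal.isMaximal B).ne_top h4

theorem ascent_aux : ∀ (d : ℕ) (A B : Type u) [CommRing A] [CommRing B] [IsRegularLocalRing A]
    [IsLocalRing B] [IsNoetherianRing B] [Algebra A B] [IsLocalHom (algebraMap A B)]
    [Module.Flat A B], (maximalIdeal A).spanFinrank = d →
    IsRegularLocalRing (B ⧸ (maximalIdeal A).map (algebraMap A B)) → IsRegularLocalRing B := by
  intro d
  induction d with
  | zero =>
    intro A B _ _ _ _ _ _ _ _ hd hfib
    have h0 : maximalIdeal A = ⊥ :=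
      (Submodule.spanFinrank_eq_zero_iff_eq_bot (maximalIdeal A).fg_of_isNoetherianRing).mp hd
    have h1 : (maximalIdeal A).map (algebraMap A B) = ⊥ := by rw [h0, Ideal.map_bot]
    exact IsRegularLocalRing.of_ringEquiv
      ((Ideal.quotEquivOfEq h1).trans (RingEquiv.quotientBot B))
  | succ d ih =>
    intro A B _ _ _ _ _ _ _ _ hd hfib
    have hne : maximalIdeal A ≠ ⊥ := by
      intro h0
      rw [h0] at hd
      simp at hd
    obtain ⟨x, hx, hx2⟩ := Hom.exists_mem_maximalIdeal_notMem_sq hne
    obtain ⟨n, y, hn, hspan⟩ := RLR.exists_generators_of_notMem_sq hx hx2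
    have hnd : n = d := by omega
    set I : Ideal A := Ideal.span {x} with hI
    have hIle : I ≤ maximalIdeal A := by
      rw [hI, Ideal.span_le, Set.singleton_subset_iff]; exact hx
    have hItop : I ≠ ⊤ := fun h => (maximalIdeal.isMaximal A).ne_top (top_le_iff.mp (h.symm.trans_le hIle))
    haveI : IsLocalRing (A ⧸ I) := RLR.isLocalRing_quotient hItop
    obtain ⟨hA'reg, hA'dim⟩ := RLR.isRegularLocalRing_quotient_aux x y hspan hn
    set J : Ideal B := I.map (algebraMap A B) with hJ
    have hxB : algebraMap A B x ∈ maximalIdeal B := map_nonunit _ x hx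
    have hJeq : J = Ideal.span {algebraMap A B x} := by
      rw [hJ, hI, Ideal.map_span, Set.image_singleton]
    have hJle : J ≤ maximalIdeal B := by
      rw [hJeq, Ideal.span_le, Set.singleton_subset_iff]; exact hxB
    have hJtop : J ≠ ⊤ := fun h => (maximalIdeal.isMaximal B).ne_top (top_le_iff.mp (h.symm.trans_le hJle))
    haveI : IsLocalRing (B ⧸ J) := RLR.isLocalRing_quotient hJtop
    haveI : Module.Flat (A ⧸ I) (B ⧸ J) := flat_quotient_map I
    haveI : IsLocalHom (algebraMap (A ⧸ I) (B ⧸ J)) := isLocalHom_quotient_map I hJtop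
    have hd' : (maximalIdeal (A ⧸ I)).spanFinrank = n :=
      RLR.spanFinrank_maximalIdeal_eq_of_dim hA'dim
    -- the closed fibres agree
    set M : Ideal B := (maximalIdeal A).map (algebraMap A B) with hM
    have hJM : J ≤ M := Ideal.map_mono hIle
    have hfibeq : (maximalIdeal (A ⧸ I)).map (algebraMap (A ⧸ I) (B ⧸ J)) =
        M.map (Ideal.Quotient.mk J) := by
      rw [← map_maximalIdeal_of_surjective (Ideal.Quotient.mk I) Ideal.Quotient.mk_surjective,
        Ideal.map_map, hM, Ideal.map_map]
      rfl
    have hfib' : IsRegularLocalRing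
        ((B ⧸ J) ⧸ (maximalIdeal (A ⧸ I)).map (algebraMap (A ⧸ I) (B ⧸ J))) :=
      IsRegularLocalRing.of_ringEquiv
        ((DoubleQuot.quotQuotEquivQuotOfLE hJM).symm.trans (Ideal.quotEquivOfEq hfibeq.symm))
    have hBJ : IsRegularLocalRing (B ⧸ J) := ih (A ⧸ I) (B ⧸ J) (hd'.trans hnd) hfib'
    haveI : IsRegularLocalRing (B ⧸ Ideal.span {algebraMap A B x}) :=
      IsRegularLocalRing.of_ringEquiv (Ideal.quotEquivOfEq hJeq)
    -- `x` is a nonzerodivisor on `B`
    haveI : IsDomain A := RLR.isDomain A
    have hx0 : x ≠ 0 := by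
      rintro rfl
      exact hx2 (zero_mem _)
    have hregA : IsSMulRegular A x := by
      intro a b hab
      exact mul_left_cancel₀ hx0 hab
    have hregB : IsSMulRegular B (algebraMap A B x) := hregA.of_flat
    have hnzd : algebraMap A B x ∈ nonZeroDivisors B := by
      rw [mem_nonZeroDivisors_iff_right]
      intro b hb
      apply hregB
      show algebraMap A B x • b = algebraMap A B x • (0 : B)
      rw [smul_eq_mul, smul_eq_mul, mul_zero, mul_comm]
      exact hb
    exact RLR.of_quotient_regular (algebraMap A B x) hxB hnzd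

/-- **Ascent of regularity**: a flat local homomorphism of Noetherian local rings with regular
source and regular closed fibre has regular target. -/
theorem isRegularLocalRing_of_flat_of_fibre (A B : Type u) [CommRing A] [CommRing B]
    [IsRegularLocalRing A] [IsLocalRing B] [IsNoetherianRing B] [Algebra A B]
    [IsLocalHom (algebraMap A B)] [Module.Flat A B]
    (h : IsRegularLocalRing (B ⧸ (maximalIdeal A).map (algebraMap A B))) :
    IsRegularLocalRing B :=
  ascent_aux _ A B rfl h

end Groth.Agent.Helper14.RegAscent
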