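import Mathlib
import Groth.Agent.Lib.Helper14.RegAscent
import Groth.Agent.Lib.Lead.Hom14

/-!
# Noetherianity and regularity of local rings along étale (unramified, flat) maps
-/

namespace Groth.Agent.Helper14.EtaleReg

open IsLocalRing TensorProduct Groth.Agent.Lead

universe u

variable (A B : Type u) [CommRing A] [CommRing B] [Algebra A B]

section
variable (p : Ideal A) [p.IsPrime] (q : Ideal B) [q.IsPrime] [q.LiesOver p]

theorem isNoetherianRing_of_essFiniteType [Algebra.EssFiniteType A B]
    [IsNoetherianRing (Localization.AtPrime p)] : IsNoetherianRing (Localization.AtPrime q) := by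
  letI : Algebra (Localization.AtPrime p) (Localization.AtPrime q) :=
    Localization.AtPrime.algebraOfLiesOver p q
  haveI : Algebra.EssFiniteType A (Localization.AtPrime q) :=
    Algebra.EssFiniteType.comp A B (Localization.AtPrime q)
  haveI : Algebra.EssFiniteType (Localization.AtPrime p) (Localization.AtPrime q) :=
    Algebra.EssFiniteType.of_comp A _ _
  exact Algebra.EssFiniteType.isNoetherianRing (Localization.AtPrime p) (Localization.AtPrime q)

theorem faithfullyFlat_localization [Module.Flat A B] :
    letI : Algebra (Localization.AtPrime p) (Localization.AtPrime q) :=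
      Localization.AtPrime.algebraOfLiesOver p q
    Module.FaithfullyFlat (Localization.AtPrime p) (Localization.AtPrime q) := by
  letI : Algebra (Localization.AtPrime p) (Localization.AtPrime q) :=
    Localization.AtPrime.algebraOfLiesOver p q
  haveI : IsLocalHom (algebraMap (Localization.AtPrime p) (Localization.AtPrime q)) :=
    Localization.isLocalHom_localRingHom _ _ _ _
  exact Module.FaithfullyFlat.of_flat_of_isLocalHom

theorem isNoetherianRing_of_flat [Module.Flat A B]
    [IsNoetherianRing (Localization.AtPrime q)] : IsNoetherianRing (Localization.AtPrime p) := by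
  letI : Algebra (Localization.AtPrime p) (Localization.AtPrime q) :=
    Localization.AtPrime.algebraOfLiesOver p q
  haveI := faithfullyFlat_localization A B p q
  exact Hom.isNoetherianRing_of_faithfullyFlat (Localization.AtPrime p) (Localization.AtPrime q)

theorem isRegularLocalRing_of_flat [Module.Flat A B]
    [IsRegularLocalRing (Localization.AtPrime q)] : IsRegularLocalRing (Localization.AtPrime p) := by
  letI : Algebra (Localization.AtPrime p) (Localization.AtPrime q) :=
    Localization.AtPrime.algebraOfLiesOver p q
  haveI : IsLocalHom (algebraMap (Localization.AtPrime p) (Localization.AtPrime q)) :=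
    Localization.isLocalHom_localRingHom _ _ _ _
  haveI := isNoetherianRing_of_flat A B p q
  exact Hom.isRegularLocalRing_of_flat (Localization.AtPrime p) (Localization.AtPrime q)

theorem isRegularLocalRing_of_unramified_flat [Algebra.EssFiniteType A B] [Module.Flat A B]
    [Algebra.IsUnramifiedAt A q]
    [IsRegularLocalRing (Localization.AtPrime p)] : IsRegularLocalRing (Localization.AtPrime q) := by
  letI : Algebra (Localization.AtPrime p) (Localization.AtPrime q) :=
    Localization.AtPrime.algebraOfLiesOver p q
  haveI : IsLocalHom (algebraMap (Localization.AtPrime p) (Localization.AtPrime q)) :=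
    Localization.isLocalHom_localRingHom _ _ _ _
  haveI := isNoetherianRing_of_essFiniteType A B p q
  have hmap := ((Algebra.isUnramifiedAt_iff_map_eq A p q).mp inferInstance).2
  have hmap' : (maximalIdeal (Localization.AtPrime p)).map
      (algebraMap (Localization.AtPrime p) (Localization.AtPrime q)) =
      maximalIdeal (Localization.AtPrime q) := by
    rw [← Localization.AtPrime.map_eq_maximalIdeal, Ideal.map_map,
      ← IsScalarTower.algebraMap_eq, hmap]
  apply RegAscent.isRegularLocalRing_of_flat_of_fibre (Localization.AtPrime p)
    (Localization.AtPrime q)
  rw [hmap']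
  change IsRegularLocalRing (ResidueField (Localization.AtPrime q))
  infer_instance

end

end Groth.Agent.Helper14.EtaleReg
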