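import Mathlib

/-!
# Quotients of an adic completion by powers of the ideal (finitely generated ideal)
-/

set_option autoImplicit false
universe u

namespace Groth.Agent.Helper14.AdicComplQuot

variable {S : Type u} [CommRing S] (𝔫 : Ideal S)

theorem evalₐ_eq_zero_iff (h𝔫 : 𝔫.FG) (m : ℕ) (x : AdicCompletion 𝔫 S) :
    AdicCompletion.evalₐ 𝔫 m x = 0 ↔ x ∈ (𝔫.map (algebraMap S (AdicCompletion 𝔫 S))) ^ m := by
  have h1 : AdicCompletion.evalₐ 𝔫 m x = 0 ↔ AdicCompletion.eval 𝔫 S m x = 0 := by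
    constructor
    · intro h
      rw [← AdicCompletion.factor_evalₐ_eq_eval 𝔫 x (by rw [smul_eq_mul, Ideal.mul_top]), h,
        map_zero]
    · intro h
      rw [← AdicCompletion.factor_eval_eq_evalₐ 𝔫 x (by rw [smul_eq_mul, Ideal.mul_top]), h,
        map_zero]
  rw [h1, ← LinearMap.mem_ker, ← AdicCompletion.pow_smul_top_eq_ker_eval h𝔫, ← Ideal.map_pow,
    Ideal.smul_top_eq_map]
  rfl

theorem algebraMap_sub_mem (h𝔫 : 𝔫.FG) (m : ℕ) (x : AdicCompletion 𝔫 S) (s : S)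
    (hs : Ideal.Quotient.mk (𝔫 ^ m) s = AdicCompletion.evalₐ 𝔫 m x) :
    x - algebraMap S (AdicCompletion 𝔫 S) s ∈ (𝔫.map (algebraMap S (AdicCompletion 𝔫 S))) ^ m := by
  rw [← evalₐ_eq_zero_iff 𝔫 h𝔫, map_sub, AdicCompletion.algebraMap_apply, Algebra.algebraMap_self,
    RingHom.id_apply, AdicCompletion.evalₐ_of, hs, sub_self]

end Groth.Agent.Helper14.AdicComplQuot
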