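import Mathlib
import Groth.Agent.Lib.Lead.Depth16
import Groth.Agent.Lib.Lead.Depth12

/-!
# Cohen–Macaulay rings: adjacent primes have heights differing by one
-/

namespace Groth.Agent.Helper14.CMCatenary

open Groth.Agent.Lead IsLocalRing

universe u

/-- In a CM local ring, `dim A ≤ dim A/P + ht P`. -/
theorem ringKrullDim_le_quotient_add_height (A : Type u) [CommRing A]
    [hA : LocCoh.IsCohenMacaulayLocalRing A] (P : Ideal A) (hP : P ≠ ⊤) :
    ringKrullDim A ≤ ringKrullDim (A ⧸ P) + ((P.height : ℕ∞) : WithBot ℕ∞) := by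
  have hCM : LocCoh.IsCohenMacaulayModule A A := hA.supportDim_eq_depth
  have h1 := Depth.supportDim_eq_add_idealDepth_of_CM P hP A hCM
  have h2 : Module.supportDim A (A ⧸ (P • (⊤ : Submodule A A))) = ringKrullDim (A ⧸ P) := by
    have : (P • (⊤ : Submodule A A)) = P := by rw [smul_eq_mul, Ideal.mul_top]
    rw [this]
    exact Module.supportDim_quotient_eq_ringKrullDim P
  rw [Module.supportDim_self_eq_ringKrullDim, h2] at h1
  rw [h1]
  gcongr
  exact_mod_cast Depth.idealDepth_self_le_height P

theorem height_eq_of_covBy (R : Type u) [CommRing R] [IsNoetherianRing R]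
    (hCM : ∀ (q : Ideal R) [q.IsPrime], LocCoh.IsCohenMacaulayLocalRing (Localization.AtPrime q))
    (p p' : PrimeSpectrum R) (h : p ⋖ p') : p'.asIdeal.height = p.asIdeal.height + 1 := by
  haveI := hCM p'.asIdeal
  set A := Localization.AtPrime p'.asIdeal with hA
  have hle : p.asIdeal ≤ p'.asIdeal := h.le
  have hdisj : Disjoint (p'.asIdeal.primeCompl : Set R) (p.asIdeal : Set R) := by
    rw [Set.disjoint_left]
    intro x hx hxp
    exact hx (hle hxp)
  set P : Ideal A := p.asIdeal.map (algebraMap R A) with hP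
  haveI hPprime : P.IsPrime :=
    IsLocalization.isPrime_of_isPrime_disjoint p'.asIdeal.primeCompl A _ p.isPrime hdisj
  have hPh : P.height = p.asIdeal.height :=
    IsLocalization.height_map_of_disjoint p'.asIdeal.primeCompl p.asIdeal hdisj
  have hdimA : ringKrullDim A = p'.asIdeal.height :=
    IsLocalization.AtPrime.ringKrullDim_eq_height p'.asIdeal A
  have hcomapP : P.comap (algebraMap R A) = p.asIdeal :=
    IsLocalization.under_map_of_isPrime_disjoint p'.asIdeal.primeCompl A p.isPrime hdisj
  have hquot : ringKrullDim (A ⧸ P) ≤ 1 := by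
    rw [ringKrullDim_quotient, Order.krullDim_le_one_iff]
    rintro ⟨J, hJ⟩
    have hJ' : P ≤ J.asIdeal := (PrimeSpectrum.mem_zeroLocus _ _).mp hJ
    set j : PrimeSpectrum R := ⟨J.asIdeal.comap (algebraMap R A), Ideal.comap_isPrime _ _⟩ with hj
    have hpj : p ≤ j := by
      show p.asIdeal ≤ J.asIdeal.comap (algebraMap R A)
      rw [← hcomapP]
      exact Ideal.comap_mono hJ'
    have hjp' : j ≤ p' := by
      show J.asIdeal.comap (algebraMap R A) ≤ p'.asIdeal
      have h1 : J.asIdeal ≤ maximalIdeal A := le_maximalIdeal J.isPrime.ne_top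
      have h2 := Ideal.comap_mono (f := algebraMap R A) h1
      have h3 : (maximalIdeal A).comap (algebraMap R A) = p'.asIdeal :=
        IsLocalization.AtPrime.under_maximalIdeal A p'.asIdeal
      rwa [h3] at h2
    have hJmap : J.asIdeal = (J.asIdeal.comap (algebraMap R A)).map (algebraMap R A) :=
      (IsLocalization.map_comap p'.asIdeal.primeCompl A J.asIdeal).symm
    rcases h.eq_or_eq hpj hjp' with hjeq | hjeq
    · left
      intro y _
      show J ≤ y.1
      show J.asIdeal ≤ y.1.asIdeal
      have : J.asIdeal = P := by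
        rw [hJmap, hP]
        congr 1
        exact congrArg PrimeSpectrum.asIdeal hjeq
      rw [this]
      exact (PrimeSpectrum.mem_zeroLocus _ _).mp y.2
    · right
      intro y _
      show y.1.asIdeal ≤ J.asIdeal
      have : J.asIdeal = maximalIdeal A := by
        rw [hJmap, ← Localization.AtPrime.map_eq_maximalIdeal]
        congr 1
        exact congrArg PrimeSpectrum.asIdeal hjeq
      rw [this]
      exact le_maximalIdeal y.1.isPrime.ne_top
  have h1 := ringKrullDim_le_quotient_add_height A P hPprime.ne_top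
  rw [hdimA, hPh] at h1
  have h2 : ((p'.asIdeal.height : ℕ∞) : WithBot ℕ∞) ≤ 1 + ((p.asIdeal.height : ℕ∞) : WithBot ℕ∞) := by
    refine h1.trans ?_
    gcongr
  have h3 : p'.asIdeal.height ≤ 1 + p.asIdeal.height := by exact_mod_cast h2
  have hlt : p.asIdeal < p'.asIdeal := h.lt
  have h4 : p.asIdeal.height + 1 ≤ p'.asIdeal.height :=
    Ideal.height_add_one_le_of_lt_of_isPrime hlt
  rw [add_comm] at h3
  exact le_antisymm h3 h4

end Groth.Agent.Helper14.CMCatenary
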