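import Groth.Agent.Lib.Helper14.Catenary
import Mathlib.RingTheory.Spectrum.Prime.Topology
import Mathlib.RingTheory.Spectrum.Prime.RingHom
import Mathlib.RingTheory.Localization.Ideal
import Mathlib.RingTheory.Ideal.MinimalPrime.Basic

set_option autoImplicit false
universe u v

namespace Groth.Agent.Helper14

/-- Spectrum embedding induced by a surjective ring map. -/
noncomputable def specEmbOfSurjective {A : Type u} {B : Type v} [CommRing A] [CommRing B]
    (f : A →+* B) (hf : Function.Surjective f) : PrimeSpectrum B ↪o PrimeSpectrum A where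
  toFun := PrimeSpectrum.comap f
  inj' := PrimeSpectrum.comap_injective_of_surjective f hf
  map_rel_iff' := by
    intro p q
    exact Ideal.comap_le_comap_iff_of_surjective f hf p.asIdeal q.asIdeal

theorem range_specEmbOfSurjective {A : Type u} {B : Type v} [CommRing A] [CommRing B]
    (f : A →+* B) (hf : Function.Surjective f) :
    Set.range (specEmbOfSurjective f hf) = PrimeSpectrum.zeroLocus (RingHom.ker f) :=
  range_comap_of_surjective _ f hf

theorem isUpperSet_range_specEmbOfSurjective {A : Type u} {B : Type v} [CommRing A] [CommRing B]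
    (f : A →+* B) (hf : Function.Surjective f) :
    IsUpperSet (Set.range (specEmbOfSurjective f hf)) := by
  rw [range_specEmbOfSurjective]
  intro p q hpq hp
  rw [PrimeSpectrum.mem_zeroLocus] at hp ⊢
  exact hp.trans hpq

/-- Spectrum embedding induced by a localization. -/
noncomputable def specEmbOfLocalization {A : Type u} (B : Type v) [CommRing A] [CommRing B]
    [Algebra A B] (S : Submonoid A) [IsLocalization S B] :
    PrimeSpectrum B ↪o PrimeSpectrum A where
  toFun := PrimeSpectrum.comap (algebraMap A B)
  inj' := PrimeSpectrum.localization_comap_injective B S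
  map_rel_iff' := by
    intro p q
    exact (IsLocalization.orderEmbedding S B).map_rel_iff' (a := p.asIdeal) (b := q.asIdeal)

theorem ordConnected_range_specEmbOfLocalization {A : Type u} (B : Type v) [CommRing A]
    [CommRing B] [Algebra A B] (S : Submonoid A) [IsLocalization S B] :
    (Set.range (specEmbOfLocalization B S)).OrdConnected := by
  have hr : Set.range (specEmbOfLocalization B S) =
      {p : PrimeSpectrum A | Disjoint (S : Set A) p.asIdeal} :=
    PrimeSpectrum.localization_comap_range B S
  rw [hr]
  have hlow : IsLowerSet {p : PrimeSpectrum A | Disjoint (S : Set A) p.asIdeal} := by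
    intro p q hqp hp
    exact Set.disjoint_of_subset_right hqp hp
  exact hlow.ordConnected

theorem isCatenary_of_isLocalization {A : Type u} (B : Type u) [CommRing A] [CommRing B]
    [Algebra A B] (S : Submonoid A) [IsLocalization S B] (hA : CAlg.IsCatenary A) :
    CAlg.IsCatenary B :=
  IsCatPoset.of_embedding (specEmbOfLocalization B S)
    (ordConnected_range_specEmbOfLocalization B S) hA

theorem isCatenary_of_surjective {A : Type u} {B : Type u} [CommRing A] [CommRing B]
    (f : A →+* B) (hf : Function.Surjective f) (hA : CAlg.IsCatenary A) :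
    CAlg.IsCatenary B :=
  IsCatPoset.of_embedding (specEmbOfSurjective f hf)
    (isUpperSet_range_specEmbOfSurjective f hf).ordConnected hA

theorem isCatenary_of_minimalPrimes {R : Type u} [CommRing R]
    (h : ∀ p ∈ minimalPrimes R, CAlg.IsCatenary (R ⧸ p)) : CAlg.IsCatenary R := by
  refine IsCatPoset.of_cover (ι := minimalPrimes R) (fun p => PrimeSpectrum (R ⧸ (p : Ideal R)))
    (fun p => specEmbOfSurjective (Ideal.Quotient.mk (p : Ideal R)) Ideal.Quotient.mk_surjective)
    (fun p => isUpperSet_range_specEmbOfSurjective _ _) ?_ (fun p => h p p.2)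
  intro q
  obtain ⟨p, hp, hpq⟩ := Ideal.exists_minimalPrimes_le (I := ⊥) (J := q.asIdeal) bot_le
  refine ⟨⟨p, hp⟩, ?_⟩
  rw [range_specEmbOfSurjective, PrimeSpectrum.mem_zeroLocus, Ideal.mk_ker]
  exact hpq

end Groth.Agent.Helper14
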