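import Groth.Prelude.Def_Found
import Mathlib.Order.RelSeries
import Mathlib.Order.Cover
import Mathlib.Order.UpperLower.Basic

set_option autoImplicit false
universe u v w

namespace Groth.Agent.Helper14

/-- Order-theoretic form of `CAlg.IsCatenary`. -/
def IsCatPoset (P : Type u) [PartialOrder P] : Prop :=
  (∀ p q : P, p ≤ q → ∃ n : ℕ, ∀ s : LTSeries P, s.head = p → s.last = q → s.length ≤ n) ∧
  ∀ s t : LTSeries P, s.head = t.head → s.last = t.last →
    (∀ i : Fin s.length, s (Fin.castSucc i) ⋖ s (Fin.succ i)) →
    (∀ i : Fin t.length, t (Fin.castSucc i) ⋖ t (Fin.succ i)) →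
    s.length = t.length

theorem isCatenary_iff (R : Type u) [CommRing R] :
    CAlg.IsCatenary R ↔ IsCatPoset (PrimeSpectrum R) := Iff.rfl

theorem IsCatPoset.of_embedding {P : Type u} {Q : Type v} [PartialOrder P] [PartialOrder Q]
    (e : Q ↪o P) (he : (Set.range e).OrdConnected) (h : IsCatPoset P) : IsCatPoset Q := by
  constructor
  · intro p q hpq
    obtain ⟨n, hn⟩ := h.1 (e p) (e q) (e.monotone hpq)
    refine ⟨n, fun s hs hl => ?_⟩
    have h1 := hn (s.map e e.strictMono) (by rw [LTSeries.head_map, hs])
      (by rw [LTSeries.last_map, hl])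
    simpa using h1
  · intro s t hst hst' hs ht
    have h1 := h.2 (s.map e e.strictMono) (t.map e e.strictMono)
      (by rw [LTSeries.head_map, LTSeries.head_map, hst])
      (by rw [LTSeries.last_map, LTSeries.last_map, hst'])
      (fun i => (he.apply_covBy_apply_iff e).mpr (hs i))
      (fun i => (he.apply_covBy_apply_iff e).mpr (ht i))
    simpa using h1

/-- Lift a series through an order embedding when all its members are in the range. -/
noncomputable def liftSeries {P : Type u} {Q : Type v} [PartialOrder P] [PartialOrder Q]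
    (e : Q ↪o P) (s : LTSeries P) (hs : ∀ i, s i ∈ Set.range e) : LTSeries Q :=
  LTSeries.mk s.length (fun i => Classical.choose (hs i)) (by
    intro i j hij
    rw [← e.lt_iff_lt, Classical.choose_spec (hs i), Classical.choose_spec (hs j)]
    exact s.strictMono hij)

theorem liftSeries_length {P : Type u} {Q : Type v} [PartialOrder P] [PartialOrder Q]
    (e : Q ↪o P) (s : LTSeries P) (hs : ∀ i, s i ∈ Set.range e) :
    (liftSeries e s hs).length = s.length := rfl

theorem liftSeries_apply {P : Type u} {Q : Type v} [PartialOrder P] [PartialOrder Q]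
    (e : Q ↪o P) (s : LTSeries P) (hs : ∀ i, s i ∈ Set.range e) (i : Fin (s.length + 1)) :
    e ((liftSeries e s hs) i) = s i := Classical.choose_spec (hs i)

theorem IsCatPoset.of_cover {P : Type u} [PartialOrder P] {ι : Type w} (Q : ι → Type v)
    [∀ i, PartialOrder (Q i)] (e : ∀ i, Q i ↪o P) (hup : ∀ i, IsUpperSet (Set.range (e i)))
    (hcov : ∀ p : P, ∃ i, p ∈ Set.range (e i)) (h : ∀ i, IsCatPoset (Q i)) : IsCatPoset P := by
  have hmem : ∀ (i : ι) (s : LTSeries P), s.head ∈ Set.range (e i) →
      ∀ j, s j ∈ Set.range (e i) := by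
    intro i s hs j
    exact hup i (s.head_le j) hs
  constructor
  · intro p q hpq
    obtain ⟨i, p', rfl⟩ := hcov p
    obtain ⟨q', rfl⟩ := hup i hpq ⟨p', rfl⟩
    obtain ⟨n, hn⟩ := (h i).1 p' q' ((e i).le_iff_le.mp hpq)
    refine ⟨n, fun s hs hl => ?_⟩
    have hsm := hmem i s (hs ▸ ⟨p', rfl⟩)
    have h1 := hn (liftSeries (e i) s hsm)
      ((e i).injective (by
        change (e i) ((liftSeries (e i) s hsm) 0) = _
        rw [liftSeries_apply]; exact hs))
      ((e i).injective (by
        change (e i) ((liftSeries (e i) s hsm) (Fin.last _)) = _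
        rw [liftSeries_apply]; exact hl))
    exact h1
  · intro s t hst hst' hs ht
    obtain ⟨i, hi⟩ := hcov s.head
    have hsm := hmem i s hi
    have htm := hmem i t (hst ▸ hi)
    have hoc : (Set.range (e i)).OrdConnected := (hup i).ordConnected
    have h1 := (h i).2 (liftSeries (e i) s hsm) (liftSeries (e i) t htm)
      ((e i).injective (by
        change (e i) ((liftSeries (e i) s hsm) 0) = (e i) ((liftSeries (e i) t htm) 0)
        rw [liftSeries_apply, liftSeries_apply]; exact hst))
      ((e i).injective (by
        change (e i) ((liftSeries (e i) s hsm) (Fin.last _)) =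
          (e i) ((liftSeries (e i) t htm) (Fin.last _))
        rw [liftSeries_apply, liftSeries_apply]; exact hst'))
      (fun j => by
        rw [← hoc.apply_covBy_apply_iff (e i)]
        have := hs j
        rw [← liftSeries_apply (e i) s hsm, ← liftSeries_apply (e i) s hsm] at this
        exact this)
      (fun j => by
        rw [← hoc.apply_covBy_apply_iff (e i)]
        have := ht j
        rw [← liftSeries_apply (e i) t htm, ← liftSeries_apply (e i) t htm] at this
        exact this)
    exact h1

end Groth.Agent.Helper14
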