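import Mathlib.Order.KrullDimension
import Mathlib.Order.Cover
universe u
namespace Groth.Agent.Helper14

open Order

theorem head_insertNth {α : Type u} [Preorder α] (s : LTSeries α) (i : Fin s.length) (a : α)
    (h1 : s (Fin.castSucc i) < a) (h2 : a < s i.succ) : (s.insertNth i a h1 h2).head = s.head := by
  have h0 : (0 : Fin (s.length + 1 + 1)) < Fin.castSucc i.succ := by
    rw [Fin.lt_def]; simp
  show (Fin.castSucc i.succ).insertNth (α := fun _ => α) a s 0 = s 0
  rw [Fin.insertNth_apply_below h0]
  simp

theorem covBy_of_length_eq_coheight {α : Type u} [Preorder α] (s : LTSeries α)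
    (h : (s.length : ℕ∞) = coheight s.head) (i : Fin s.length) : s (Fin.castSucc i) ⋖ s i.succ := by
  by_contra hcon
  rw [not_covBy_iff (s.step i)] at hcon
  obtain ⟨r, h1, h2⟩ := hcon
  have := length_le_coheight_head (p := s.insertNth i r h1 h2)
  rw [head_insertNth, ← h] at this
  simp only [RelSeries.insertNth_length] at this
  have h3 : (s.length + 1 : ℕ) ≤ s.length := by exact_mod_cast this
  omega

theorem isMax_last_of_length_eq_coheight {α : Type u} [Preorder α] (s : LTSeries α)
    (h : (s.length : ℕ∞) = coheight s.head) : IsMax s.last := by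
  rw [isMax_iff_forall_not_lt]
  intro r hr
  have := length_le_coheight_head (p := s.snoc r hr)
  rw [RelSeries.head_snoc, ← h] at this
  simp only [RelSeries.snoc_length] at this
  have h3 : (s.length + 1 : ℕ) ≤ s.length := by exact_mod_cast this
  omega

/-- Prepend an element to an `LTSeries`, with function `Fin.cons`. -/
def consSeries {α : Type u} [Preorder α] (t : LTSeries α) (p : α) (h : p < t.head) : LTSeries α where
  length := t.length + 1
  toFun := Fin.cons (α := fun _ => α) p t
  step := by
    intro i
    induction i using Fin.cases with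
    | zero => exact h
    | succ j =>
      show Fin.cons (α := fun _ => α) p t (Fin.castSucc j.succ) < Fin.cons (α := fun _ => α) p t j.succ.succ
      rw [← Fin.succ_castSucc, Fin.cons_succ, Fin.cons_succ]
      exact t.step j

@[simp] theorem consSeries_length {α : Type u} [Preorder α] (t : LTSeries α) (p : α) (h : p < t.head) :
    (consSeries t p h).length = t.length + 1 := rfl

@[simp] theorem consSeries_head {α : Type u} [Preorder α] (t : LTSeries α) (p : α) (h : p < t.head) :
    (consSeries t p h).head = p := rfl

@[simp] theorem consSeries_last {α : Type u} [Preorder α] (t : LTSeries α) (p : α) (h : p < t.head) :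
    (consSeries t p h).last = t.last := by
  show Fin.cons (α := fun _ => α) p t (Fin.last (t.length + 1)) = t (Fin.last t.length)
  rw [← Fin.succ_last, Fin.cons_succ]

theorem consSeries_covBy {α : Type u} [Preorder α] (t : LTSeries α) (p : α) (h : p < t.head)
    (hcov : p ⋖ t.head) (ht : ∀ i : Fin t.length, t (Fin.castSucc i) ⋖ t i.succ)
    (i : Fin (consSeries t p h).length) :
    (consSeries t p h) (Fin.castSucc i) ⋖ (consSeries t p h) i.succ := by
  induction i using Fin.cases with
  | zero => exact hcov
  | succ j =>
    show Fin.cons (α := fun _ => α) p t (Fin.castSucc j.succ) ⋖ Fin.cons (α := fun _ => α) p t j.succ.succ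
    rw [← Fin.succ_castSucc, Fin.cons_succ, Fin.cons_succ]
    exact ht j

end Groth.Agent.Helper14
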