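import Mathlib
import Groth.Agent.Lib.Lead.Miracle
import Groth.Agent.Lib.Helper9.RegLocExt
import Groth.Agent.Lib.Lead.DimF1
import Groth.Agent.S0565

/-!
# EGA 0_IV 17.3.3: regular local homomorphisms
-/

namespace Groth.Agent.Helper14.RegHomTFAE

open IsLocalRing

universe u

variable {A B : Type u} [CommRing A] [IsLocalRing A] [IsNoetherianRing A] [CommRing B]
  [IsLocalRing B] [IsNoetherianRing B] [Algebra A B] [IsLocalHom (algebraMap A B)]
  [IsLocalRing (B ⧸ (maximalIdeal A).map (algebraMap A B))]

omit [IsNoetherianRing A] [IsNoetherianRing B] in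
theorem map_le : (maximalIdeal A).map (algebraMap A B) ≤ maximalIdeal B := by
  rw [Ideal.map_le_iff_le_comap, IsLocalRing.maximalIdeal_comap]

/-- embedding dimensions are subadditive -/
theorem embdim_le : (maximalIdeal B).spanFinrank ≤ (maximalIdeal A).spanFinrank +
    (maximalIdeal (B ⧸ (maximalIdeal A).map (algebraMap A B))).spanFinrank := by
  classical
  set K := (maximalIdeal A).map (algebraMap A B) with hK
  obtain ⟨sA, hsAcard, hsA⟩ := Submodule.FG.exists_span_finset_card_eq_spanFinrank
    (IsNoetherian.noetherian (maximalIdeal A))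
  obtain ⟨s₀, hs₀card, hs₀⟩ := Submodule.FG.exists_span_finset_card_eq_spanFinrank
    (IsNoetherian.noetherian (maximalIdeal (B ⧸ K)))
  let σ : B ⧸ K → B := Function.surjInv Ideal.Quotient.mk_surjective
  have hσ : ∀ y, Ideal.Quotient.mk K (σ y) = y := Function.surjInv_eq Ideal.Quotient.mk_surjective
  set t : Finset B := s₀.image σ with ht
  have hmaxq : maximalIdeal (B ⧸ K) = (maximalIdeal B).map (Ideal.Quotient.mk K) :=
    Groth.Agent.Lead.DimF.maximalIdeal_quotient K
  have hKspan : K = Ideal.span ((algebraMap A B) '' (sA : Set A)) := by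
    rw [hK, ← Ideal.map_span]
    congr 1
    exact hsA.symm
  have hcomap : ((maximalIdeal B).map (Ideal.Quotient.mk K)).comap (Ideal.Quotient.mk K) =
      maximalIdeal B := by
    rw [Ideal.comap_map_of_surjective _ Ideal.Quotient.mk_surjective, ← RingHom.ker_eq_comap_bot,
      Ideal.mk_ker, sup_eq_left.mpr map_le]
  have hmaps₀ : (Ideal.span (t : Set B)).map (Ideal.Quotient.mk K) = maximalIdeal (B ⧸ K) := by
    rw [Ideal.map_span, ← hs₀]
    congr 1
    rw [ht, Finset.coe_image, ← Set.image_comp]
    have : (Ideal.Quotient.mk K) ∘ σ = id := funext hσ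
    rw [this, Set.image_id]
  have h𝔫 : maximalIdeal B = Ideal.span ((t : Set B) ∪ (algebraMap A B) '' (sA : Set A)) := by
    rw [Ideal.span_union, ← hKspan]
    apply le_antisymm
    · intro x hx
      have h1 : Ideal.Quotient.mk K x ∈ (Ideal.span (t : Set B)).map (Ideal.Quotient.mk K) := by
        rw [hmaps₀, hmaxq]
        exact Ideal.mem_map_of_mem _ hx
      have h2 : x ∈ ((Ideal.span (t : Set B)).map (Ideal.Quotient.mk K)).comap
          (Ideal.Quotient.mk K) := h1
      rw [Ideal.comap_map_of_surjective _ Ideal.Quotient.mk_surjective, ← RingHom.ker_eq_comap_bot,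
        Ideal.mk_ker] at h2
      exact h2
    · refine sup_le ?_ map_le
      rw [Ideal.span_le]
      intro x hx
      rw [← hcomap, ← hmaxq, ← hmaps₀]
      exact Ideal.mem_map_of_mem _ (Ideal.subset_span hx)
  have hfin : ((t : Set B) ∪ (algebraMap A B) '' (sA : Set A)).Finite :=
    t.finite_toSet.union (sA.finite_toSet.image _)
  have h1 := Submodule.spanFinrank_span_le_ncard_of_finite (R := B) hfin
  have h2 : ((t : Set B) ∪ (algebraMap A B) '' (sA : Set A)).ncard ≤ s₀.card + sA.card := by
    refine (Set.ncard_union_le _ _).trans (add_le_add ?_ ?_)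
    · rw [Set.ncard_coe_finset]
      exact Finset.card_image_le
    · have := Set.ncard_image_le (f := algebraMap A B) sA.finite_toSet
      rwa [Set.ncard_coe_finset] at this
  have h3 : (maximalIdeal B).spanFinrank ≤ ((t : Set B) ∪ (algebraMap A B) '' (sA : Set A)).ncard := by
    conv_lhs => rw [h𝔫]
    exact h1
  rw [← hsAcard, ← hs₀card]
  omega

/-- dimension inequality -/
theorem dim_le : ringKrullDim B ≤ ringKrullDim A +
    ringKrullDim (B ⧸ (maximalIdeal A).map (algebraMap A B)) := by
  haveI : (maximalIdeal B).LiesOver (maximalIdeal A) :=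
    ⟨(IsLocalRing.maximalIdeal_comap (algebraMap A B)).symm⟩
  have h1 := Ideal.height_le_height_add_of_liesOver (maximalIdeal A) (maximalIdeal B)
  rw [← Groth.Agent.Lead.DimF.maximalIdeal_quotient] at h1
  rw [← IsLocalRing.maximalIdeal_height_eq_ringKrullDim (R := B),
    ← IsLocalRing.maximalIdeal_height_eq_ringKrullDim (R := A),
    ← IsLocalRing.maximalIdeal_height_eq_ringKrullDim
      (R := B ⧸ (maximalIdeal A).map (algebraMap A B)), ← WithBot.coe_add]
  exact WithBot.coe_le_coe.mpr h1

/-- dimension formula for flat local homomorphisms -/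
theorem dim_eq_of_flat [Module.Flat A B] : ringKrullDim B = ringKrullDim A +
    ringKrullDim (B ⧸ (maximalIdeal A).map (algebraMap A B)) := by
  haveI : (maximalIdeal B).LiesOver (maximalIdeal A) :=
    ⟨(IsLocalRing.maximalIdeal_comap (algebraMap A B)).symm⟩
  have h1 := Ideal.height_eq_height_add_of_liesOver_of_hasGoingDown (maximalIdeal A) (maximalIdeal B)
  rw [← Groth.Agent.Lead.DimF.maximalIdeal_quotient] at h1
  rw [← IsLocalRing.maximalIdeal_height_eq_ringKrullDim (R := B),
    ← IsLocalRing.maximalIdeal_height_eq_ringKrullDim (R := A),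
    ← IsLocalRing.maximalIdeal_height_eq_ringKrullDim
      (R := B ⧸ (maximalIdeal A).map (algebraMap A B)), ← WithBot.coe_add]
  exact congrArg _ h1

end Groth.Agent.Helper14.RegHomTFAE
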