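import Mathlib
import Groth.Agent.Lib.Lead.RLR1

/-!
# Localizations of regular rings are regular
-/

set_option autoImplicit false
universe u

namespace Groth.Agent.Helper14.RegularLocalization

open TensorProduct

theorem isRegularRing_of_isLocalization {R : Type*} [CommRing R] (M : Submonoid R)
    (S : Type*) [CommRing S] [Algebra R S] [IsLocalization M S] [IsRegularRing R] :
    IsRegularRing S := by
  haveI : IsNoetherianRing S := IsLocalization.isNoetherianRing M S inferInstance
  rw [isRegularRing_iff]
  intro p hp
  haveI : IsLocalization.AtPrime (Localization.AtPrime p) (p.comap (algebraMap R S)) :=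
    IsLocalization.isLocalization_isLocalization_atPrime_isLocalization M
      (Localization.AtPrime p) p
  let e : Localization.AtPrime (p.comap (algebraMap R S)) ≃ₐ[R] Localization.AtPrime p :=
    IsLocalization.algEquiv (p.comap (algebraMap R S)).primeCompl _ _
  exact IsRegularLocalRing.of_ringEquiv e.toRingEquiv

theorem isRegularRing_tensor_localization {k A : Type u} [CommRing k] [CommRing A] [Algebra k A]
    (k' : Type u) [CommRing k'] [Algebra k k'] (hreg : IsRegularRing (k' ⊗[k] A))
    (M : Submonoid A) (B : Type u) [CommRing B] [Algebra A B] [Algebra k B] [IsScalarTower k A B]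
    [IsLocalization M B] : IsRegularRing (k' ⊗[k] B) := by
  letI : Algebra (k' ⊗[k] A) (k' ⊗[k] B) :=
    (Algebra.TensorProduct.map (AlgHom.id k' k') (IsScalarTower.toAlgHom k A B)).toRingHom.toAlgebra
  haveI : IsScalarTower k' (k' ⊗[k] A) (k' ⊗[k] B) := IsScalarTower.of_algebraMap_eq fun x => by
    change _ = Algebra.TensorProduct.map (AlgHom.id k' k') (IsScalarTower.toAlgHom k A B)
      (x ⊗ₜ 1)
    simp
  haveI := IsLocalization.tensorProduct_tensorProduct_right k k' M B (by
    ext a
    change Algebra.TensorProduct.map (AlgHom.id k' k') (IsScalarTower.toAlgHom k A B)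
      (1 ⊗ₜ a) = 1 ⊗ₜ algebraMap A B a
    simp)
  exact isRegularRing_of_isLocalization
    (M.map (Algebra.TensorProduct.includeRight (R := k) (A := k'))) (k' ⊗[k] B)

theorem isReduced_of_isRegularRing (R : Type u) [CommRing R] [IsRegularRing R] : IsReduced R := by
  apply isReduced_ofLocalizationMaximal
  intro J hJ
  haveI : IsRegularLocalRing (Localization.AtPrime J) :=
    IsRegularRing.isRegularLocalRing_localization J
  haveI := Groth.Agent.Lead.RLR.isDomain (Localization.AtPrime J)
  infer_instance

end Groth.Agent.Helper14.RegularLocalization
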