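import Mathlib
import Groth.Agent.Lib.Helper14.RegAscent

/-!
# Regularity of a localization from regularity of the base and of the fibre
-/

namespace Groth.Agent.Helper14.RegFiber

open IsLocalRing TensorProduct

universe u

variable {R S : Type u} [CommRing R] [CommRing S] [Algebra R S]

/-- If `R_p` is regular, `S` is Noetherian and flat over `R`, and the localization of the fibre
`κ(p) ⊗ S` at `q` is regular, then `S` localized at the contraction of `q` is regular. -/
theorem isRegularLocalRing_of_fiber [IsNoetherianRing S] [Module.Flat R S]
    (p : Ideal R) [p.IsPrime] (q : Ideal (p.Fiber S)) [q.IsPrime]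
    [IsRegularLocalRing (Localization.AtPrime p)]
    (hq : IsRegularLocalRing (Localization.AtPrime q)) :
    IsRegularLocalRing (Localization.AtPrime (q.comap
      (Algebra.TensorProduct.includeRight : S →ₐ[R] p.Fiber S))) := by
  set r : Ideal S := q.comap (Algebra.TensorProduct.includeRight : S →ₐ[R] p.Fiber S) with hr
  let _ : Algebra (Localization.AtPrime p) (Localization.AtPrime r) :=
    Localization.AtPrime.algebraOfLiesOver p r
  have : IsLocalHom (algebraMap (Localization.AtPrime p) (Localization.AtPrime r)) :=
    Localization.isLocalHom_localRingHom _ _ _ _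
  have e := Ideal.Fiber.localizationAlgEquivQuotient p q
  have hmap : (maximalIdeal (Localization.AtPrime p)).map
      (algebraMap (Localization.AtPrime p) (Localization.AtPrime r)) =
      p.map (algebraMap R (Localization.AtPrime r)) := by
    rw [← Localization.AtPrime.map_eq_maximalIdeal, Ideal.map_map,
      ← IsScalarTower.algebraMap_eq]
  apply RegAscent.isRegularLocalRing_of_flat_of_fibre (Localization.AtPrime p)
    (Localization.AtPrime r)
  exact @IsRegularLocalRing.of_ringEquiv (Localization.AtPrime q) _ hq _ _
    (e.toRingEquiv.trans (Ideal.quotEquivOfEq hmap.symm))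

/-- If `R_p` is regular (`p = r ∩ R`), `S` is Noetherian and flat over `R`, and the fibre ring
`κ(p) ⊗ S` is a regular ring, then `S_r` is regular. -/
theorem isRegularLocalRing_localization [IsNoetherianRing S] [Module.Flat R S]
    (r : Ideal S) [r.IsPrime]
    (hp : IsRegularLocalRing (Localization.AtPrime (r.comap (algebraMap R S))))
    (hF : IsRegularRing ((r.comap (algebraMap R S)).Fiber S)) :
    IsRegularLocalRing (Localization.AtPrime r) := by
  set p : Ideal R := r.comap (algebraMap R S) with hpdef
  let P : PrimeSpectrum R := ⟨p, inferInstance⟩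
  let r0 : PrimeSpectrum.comap (algebraMap R S) ⁻¹' {P} := ⟨⟨r, inferInstance⟩, rfl⟩
  let Q : PrimeSpectrum (p.Fiber S) := PrimeSpectrum.preimageEquivFiber R S P r0
  have hQ : (PrimeSpectrum.preimageEquivFiber R S P).symm Q = r0 :=
    (PrimeSpectrum.preimageEquivFiber R S P).symm_apply_apply r0
  have hQr : Q.asIdeal.comap (Algebra.TensorProduct.includeRight : S →ₐ[R] p.Fiber S) = r := by
    have := congrArg (fun z => z.1.asIdeal) hQ
    exact this
  have key : ∀ (r' : Ideal S) [r'.IsPrime], r' = r →
      IsRegularLocalRing (Localization.AtPrime r') → IsRegularLocalRing (Localization.AtPrime r) := by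
    intro r' _ h
    subst h
    exact id
  haveI : Q.asIdeal.IsPrime := Q.isPrime
  have hq : IsRegularLocalRing (Localization.AtPrime Q.asIdeal) :=
    IsRegularRing.isRegularLocalRing_localization Q.asIdeal
  exact key _ hQr (isRegularLocalRing_of_fiber p Q.asIdeal hq)

end Groth.Agent.Helper14.RegFiber
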