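import Mathlib

set_option autoImplicit false
universe u

namespace Groth.Agent.Helper14

open AlgebraicGeometry CategoryTheory Opposite TopologicalSpace

variable {R : CommRingCat.{u}}

/-- On a basic open, the map induced by `tilde.map f` is injective if `f` is. -/
theorem tilde_map_app_basicOpen_injective {M N : ModuleCat.{u} R} (f : M ⟶ N)
    (hf : Function.Injective f.hom) (r : R) :
    Function.Injective
      ((modulesSpecToSheaf.map (tilde.map f)).1.app (op (PrimeSpectrum.basicOpen r))).hom := by
  set φ := ((modulesSpecToSheaf.map (tilde.map f)).1.app (op (PrimeSpectrum.basicOpen r))).hom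
    with hφ
  have hcomm : φ ∘ₗ (tilde.toOpen M (PrimeSpectrum.basicOpen r)).hom =
      (tilde.toOpen N (PrimeSpectrum.basicOpen r)).hom ∘ₗ f.hom := by
    have := tilde.toOpen_map_app f (PrimeSpectrum.basicOpen r)
    exact congrArg ModuleCat.Hom.hom this
  have hmap : φ = IsLocalizedModule.map (Submonoid.powers (r : R))
      (tilde.toOpen M (PrimeSpectrum.basicOpen r)).hom
      (tilde.toOpen N (PrimeSpectrum.basicOpen r)).hom f.hom := by
    apply IsLocalizedModule.ext (Submonoid.powers (r : R))
      (tilde.toOpen M (PrimeSpectrum.basicOpen r)).hom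
      (IsLocalizedModule.map_units (tilde.toOpen N (PrimeSpectrum.basicOpen r)).hom)
    rw [hcomm, IsLocalizedModule.map_comp]
  rw [hmap]
  exact IsLocalizedModule.map_injective _ _ _ _ hf


theorem tilde_map_app_injective {M N : ModuleCat.{u} R} (f : M ⟶ N)
    (hf : Function.Injective f.hom) (U : (Opens (Spec R))ᵒᵖ) :
    Function.Injective ((modulesSpecToSheaf.map (tilde.map f)).1.app U).hom := by
  intro s t hst
  apply TopCat.Presheaf.IsSheaf.section_ext (modulesSpecToSheaf.obj (tilde M)).2
  intro x hxU
  obtain ⟨a, ⟨_, ⟨r, rfl⟩, rfl⟩, hxr, hrU : PrimeSpectrum.basicOpen _ ≤ _⟩ :=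
    PrimeSpectrum.isBasis_basic_opens.exists_subset_of_mem_open hxU U.unop.2
  refine ⟨_, hrU, hxr, ?_⟩
  apply tilde_map_app_basicOpen_injective f hf r
  have nat := fun (z : _) =>
    congr($((modulesSpecToSheaf.map (tilde.map f)).1.naturality (homOfLE hrU).op).hom z)
  have h1 := nat s
  have h2 := nat t
  simp only [ModuleCat.hom_comp, LinearMap.comp_apply] at h1 h2
  erw [h1, h2]
  exact congrArg _ hst

theorem tilde_map_mono {M N : ModuleCat.{u} R} (f : M ⟶ N) (hf : Function.Injective f.hom) :
    Mono (tilde.map f) := by
  apply Functor.mono_of_mono_map (modulesSpecToSheaf (R := R))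
  have : ∀ U, Mono ((modulesSpecToSheaf.map (tilde.map f)).1.app U) := fun U =>
    (ModuleCat.mono_iff_injective _).mpr (tilde_map_app_injective f hf U)
  have : Mono (modulesSpecToSheaf.map (tilde.map f)).1 := NatTrans.mono_of_mono_app _
  exact Sheaf.Hom.mono_of_presheaf_mono _ _ _


open Limits

instance tilde_preservesFiniteColimits : PreservesFiniteColimits (tilde.functor R) := by
  have : PreservesColimitsOfSize.{0, 0} (tilde.functor R) :=
    (tilde.adjunction (R := R)).leftAdjoint_preservesColimits
  exact PreservesColimitsOfSize.preservesFiniteColimits _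

instance tilde_preservesFiniteLimits : PreservesFiniteLimits (tilde.functor R) := by
  rw [Functor.preservesFiniteLimits_iff_forall_exact_map_and_mono]
  intro S hS
  have h0 := (Functor.preservesFiniteColimits_iff_forall_exact_map_and_epi
    (tilde.functor R)).mp tilde_preservesFiniteColimits
  have h1 := h0 S hS
  refine ⟨h1.1, ?_⟩
  have : Mono S.f := hS.mono_f
  exact tilde_map_mono S.f ((ModuleCat.mono_iff_injective _).mp this)

end Groth.Agent.Helper14
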