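import Mathlib

/-!
# Transcendence degrees of residue extensions via arbitrary "fraction-dense" fields
-/

namespace Groth.Agent.Helper14.TrdegBridge

universe u

open Polynomial

/-- a ring `A` mapping to a field `k` with kernel `p`, every element of `k` being a fraction:
then `k` is algebraic over `A ⧸ p` (algebra structure through the lift). -/
theorem isAlgebraic_of_fraction {A k : Type*} [CommRing A] [Field k] (p : Ideal A)
    (a : A →+* k) (ha : RingHom.ker a = p)
    (hfa : ∀ z : k, ∃ r s, a s ≠ 0 ∧ z * a s = a r) :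
    letI : Algebra (A ⧸ p) k := (Ideal.Quotient.lift p a (fun x hx => by
      rw [← ha] at hx; exact hx)).toAlgebra
    Algebra.IsAlgebraic (A ⧸ p) k := by
  letI : Algebra (A ⧸ p) k := (Ideal.Quotient.lift p a (fun x hx => by
      rw [← ha] at hx; exact hx)).toAlgebra
  refine ⟨fun z => ?_⟩
  obtain ⟨r, s, hs, hz⟩ := hfa z
  refine ⟨C (Ideal.Quotient.mk p s) * X - C (Ideal.Quotient.mk p r), ?_, ?_⟩
  · intro h0
    have h1 := congrArg (fun f => Polynomial.coeff f 1) h0
    simp only [coeff_sub, coeff_C_mul, coeff_X_one, mul_one, coeff_C_succ, sub_zero,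
      coeff_zero] at h1
    apply hs
    have h2 : algebraMap (A ⧸ p) k (Ideal.Quotient.mk p s) = a s := rfl
    rw [← h2, h1, map_zero]
  · have h2 : ∀ t, algebraMap (A ⧸ p) k (Ideal.Quotient.mk p t) = a t := fun _ => rfl
    simp only [map_sub, map_mul, aeval_C, aeval_X, h2]
    rw [mul_comm, hz, sub_self]

/-- **L1**: the transcendence degree of a residue extension can be computed in any pair of fields
in which the quotient domains are fraction-dense. -/
theorem trdeg_eq_of_fraction {A B k K : Type u} [CommRing A] [CommRing B] [Field k] [Field K]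
    [Algebra A B] (p : Ideal A) [p.IsPrime] (q : Ideal B) [q.IsPrime] [q.LiesOver p]
    (a : A →+* k) (ha : RingHom.ker a = p) (b : B →+* K) (hb : RingHom.ker b = q) (g : k →+* K)
    (hcomm : g.comp a = b.comp (algebraMap A B))
    (hfa : ∀ z : k, ∃ r s, a s ≠ 0 ∧ z * a s = a r)
    (hfb : ∀ z : K, ∃ r s, b s ≠ 0 ∧ z * b s = b r) :
    @Algebra.trdeg k K _ _ g.toAlgebra = Algebra.trdeg (A ⧸ p) (B ⧸ q) := by
  letI algkK : Algebra k K := g.toAlgebra
  let abar : A ⧸ p →+* k := Ideal.Quotient.lift p a (fun x hx => by rw [← ha] at hx; exact hx)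
  let bbar : B ⧸ q →+* K := Ideal.Quotient.lift q b (fun x hx => by rw [← hb] at hx; exact hx)
  letI : Algebra (A ⧸ p) k := abar.toAlgebra
  letI : Algebra (B ⧸ q) K := bbar.toAlgebra
  letI : Algebra (A ⧸ p) K := (g.comp abar).toAlgebra
  haveI : IsScalarTower (A ⧸ p) k K := IsScalarTower.of_algebraMap_eq (fun _ => rfl)
  haveI : IsScalarTower (A ⧸ p) (B ⧸ q) K := by
    refine IsScalarTower.of_algebraMap_eq (fun r => ?_)
    obtain ⟨r, rfl⟩ := Ideal.Quotient.mk_surjective r
    rw [Ideal.Quotient.algebraMap_mk_of_liesOver]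
    change g (a r) = b (algebraMap A B r)
    exact congrFun (congrArg DFunLike.coe hcomm) r
  have hainj : Function.Injective abar := (Ideal.injective_lift_iff _).mpr ha
  have hbinj : Function.Injective bbar := (Ideal.injective_lift_iff _).mpr hb
  haveI : FaithfulSMul (A ⧸ p) k := (faithfulSMul_iff_algebraMap_injective _ _).mpr hainj
  haveI : FaithfulSMul (B ⧸ q) K := (faithfulSMul_iff_algebraMap_injective _ _).mpr hbinj
  haveI : FaithfulSMul k K := (faithfulSMul_iff_algebraMap_injective _ _).mpr g.injective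
  haveI : Algebra.IsAlgebraic (A ⧸ p) k := isAlgebraic_of_fraction p a ha hfa
  haveI : Algebra.IsAlgebraic (B ⧸ q) K := isAlgebraic_of_fraction q b hb hfb
  have t1 := _root_.trdeg_add_eq (A ⧸ p) k (A := K)
  have t2 := _root_.trdeg_add_eq (A ⧸ p) (B ⧸ q) (A := K)
  have z1 : Algebra.trdeg (A ⧸ p) k = 0 := _root_.trdeg_eq_zero
  have z2 : Algebra.trdeg (B ⧸ q) K = 0 := _root_.trdeg_eq_zero
  rw [z1, zero_add] at t1
  rw [z2, add_zero] at t2
  rw [t1, t2]


/-- the composite `A → A ⧸ p → Frac (A ⧸ p)` has kernel `p`. -/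
theorem ker_toFrac {A : Type*} [CommRing A] (p : Ideal A) [p.IsPrime] :
    RingHom.ker ((algebraMap (A ⧸ p) (FractionRing (A ⧸ p))).comp (Ideal.Quotient.mk p)) = p := by
  ext x
  rw [RingHom.mem_ker, RingHom.comp_apply,
    (injective_iff_map_eq_zero' _).mp (IsFractionRing.injective (A ⧸ p) (FractionRing (A ⧸ p))),
    Ideal.Quotient.eq_zero_iff_mem]

/-- every element of `Frac (A ⧸ p)` is a fraction of images of elements of `A`. -/
theorem fraction_toFrac {A : Type*} [CommRing A] (p : Ideal A) [p.IsPrime]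
    (z : FractionRing (A ⧸ p)) :
    ∃ r s, ((algebraMap (A ⧸ p) (FractionRing (A ⧸ p))).comp (Ideal.Quotient.mk p)) s ≠ 0 ∧
      z * ((algebraMap (A ⧸ p) (FractionRing (A ⧸ p))).comp (Ideal.Quotient.mk p)) s =
        ((algebraMap (A ⧸ p) (FractionRing (A ⧸ p))).comp (Ideal.Quotient.mk p)) r := by
  obtain ⟨⟨x, y⟩, hxy⟩ := IsLocalization.surj (nonZeroDivisors (A ⧸ p)) z
  obtain ⟨r, rfl⟩ := Ideal.Quotient.mk_surjective x
  obtain ⟨s, hs⟩ := Ideal.Quotient.mk_surjective (y : A ⧸ p)
  refine ⟨r, s, ?_, ?_⟩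
  · rw [RingHom.comp_apply, hs]
    exact IsFractionRing.to_map_ne_zero_of_mem_nonZeroDivisors y.2
  · rw [RingHom.comp_apply, RingHom.comp_apply, hs]
    exact hxy

/-- **Lemma T**: transcendence degrees of residue extensions are invariant under compatible
surjections. -/
theorem trdeg_quotient_eq_of_surjective {A B A' B' : Type u} [CommRing A] [CommRing B]
    [CommRing A'] [CommRing B'] [Algebra A B] [Algebra A' B']
    (α : A →+* A') (hα : Function.Surjective α) (β : B →+* B') (hβ : Function.Surjective β)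
    (hαβ : β.comp (algebraMap A B) = (algebraMap A' B').comp α)
    (p' : Ideal A') [p'.IsPrime] (q' : Ideal B') [q'.IsPrime] [q'.LiesOver p']
    (p : Ideal A) [p.IsPrime] (q : Ideal B) [q.IsPrime] [q.LiesOver p]
    (hp : p = p'.comap α) (hq : q = q'.comap β) :
    Algebra.trdeg (A ⧸ p) (B ⧸ q) = Algebra.trdeg (A' ⧸ p') (B' ⧸ q') := by
  let k := FractionRing (A' ⧸ p')
  let K := FractionRing (B' ⧸ q')
  let a' : A' →+* k := (algebraMap (A' ⧸ p') k).comp (Ideal.Quotient.mk p')
  let b' : B' →+* K := (algebraMap (B' ⧸ q') K).comp (Ideal.Quotient.mk q')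
  have hinj : Function.Injective
      ((algebraMap (B' ⧸ q') K).comp (algebraMap (A' ⧸ p') (B' ⧸ q'))) :=
    (IsFractionRing.injective (B' ⧸ q') K).comp
      (FaithfulSMul.algebraMap_injective (A' ⧸ p') (B' ⧸ q'))
  let g : k →+* K := IsFractionRing.lift hinj
  have hcomm' : g.comp a' = b'.comp (algebraMap A' B') := by
    ext r
    change g (algebraMap (A' ⧸ p') k (Ideal.Quotient.mk p' r)) = _
    rw [IsFractionRing.lift_algebraMap]
    rfl
  have e1 := trdeg_eq_of_fraction p' q' a' (ker_toFrac p') b' (ker_toFrac q') g hcomm'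
    (fraction_toFrac p') (fraction_toFrac q')
  have hcomm : g.comp (a'.comp α) = (b'.comp β).comp (algebraMap A B) := by
    ext r
    have h1 := congrFun (congrArg DFunLike.coe hcomm') (α r)
    have h2 := congrFun (congrArg DFunLike.coe hαβ) r
    simp only [RingHom.comp_apply] at h1 h2 ⊢
    rw [h1, h2]
  have hka : RingHom.ker (a'.comp α) = p := by
    rw [← RingHom.comap_ker, ker_toFrac p', hp]
  have hkb : RingHom.ker (b'.comp β) = q := by
    rw [← RingHom.comap_ker, ker_toFrac q', hq]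
  have hfa : ∀ z : k, ∃ r s, (a'.comp α) s ≠ 0 ∧ z * (a'.comp α) s = (a'.comp α) r := by
    intro z
    obtain ⟨r', s', h1, h2⟩ := fraction_toFrac p' z
    obtain ⟨r, rfl⟩ := hα r'
    obtain ⟨s, rfl⟩ := hα s'
    exact ⟨r, s, h1, h2⟩
  have hfb : ∀ z : K, ∃ r s, (b'.comp β) s ≠ 0 ∧ z * (b'.comp β) s = (b'.comp β) r := by
    intro z
    obtain ⟨r', s', h1, h2⟩ := fraction_toFrac q' z
    obtain ⟨r, rfl⟩ := hβ r'
    obtain ⟨s, rfl⟩ := hβ s'
    exact ⟨r, s, h1, h2⟩
  have e2 := trdeg_eq_of_fraction p q (a'.comp α) hka (b'.comp β) hkb g hcomm hfa hfb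
  rw [← e2, e1]

end Groth.Agent.Helper14.TrdegBridge
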