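import Mathlib
import Groth.Agent.Lib.Helper14.TrdegBridge

/-!
# Residue fields of schemes on affine charts: evaluation maps, kernels, fractions, and the
transcendence degree bridge
-/

namespace Groth.Agent.Helper14.ResFieldBridge

universe u

open AlgebraicGeometry CategoryTheory TopologicalSpace

/-- the kernel of the evaluation map at `x` on an affine open is the prime ideal of `x`. -/
theorem ker_evaluation {X : Scheme.{u}} {U : X.Opens} (hU : IsAffineOpen U) (x : X) (hx : x ∈ U) :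
    RingHom.ker (X.evaluation U x hx).hom = (hU.primeIdealOf ⟨x, hx⟩).asIdeal := by
  letI := X.presheaf.algebra_section_stalk ⟨x, hx⟩
  haveI := hU.isLocalization_stalk ⟨x, hx⟩
  ext b
  rw [RingHom.mem_ker]
  change IsLocalRing.residue (X.presheaf.stalk x) ((X.presheaf.germ U x hx).hom b) = 0 ↔ _
  rw [IsLocalRing.residue_eq_zero_iff]
  exact IsLocalization.AtPrime.to_map_mem_maximal_iff (X.presheaf.stalk x)
    (hU.primeIdealOf ⟨x, hx⟩).asIdeal b

/-- every element of the residue field is a fraction of evaluations. -/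
theorem fraction_evaluation {X : Scheme.{u}} {U : X.Opens} (hU : IsAffineOpen U) (x : X)
    (hx : x ∈ U) (z : X.residueField x) :
    ∃ r s, (X.evaluation U x hx).hom s ≠ 0 ∧
      z * (X.evaluation U x hx).hom s = (X.evaluation U x hx).hom r := by
  letI := X.presheaf.algebra_section_stalk ⟨x, hx⟩
  haveI := hU.isLocalization_stalk ⟨x, hx⟩
  obtain ⟨w, rfl⟩ := X.residue_surjective x z
  obtain ⟨⟨r, s⟩, hrs⟩ := IsLocalization.surj (hU.primeIdealOf ⟨x, hx⟩).asIdeal.primeCompl w
  refine ⟨r, s, ?_, ?_⟩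
  · intro h0
    have : (s : Γ(X, U)) ∈ RingHom.ker (X.evaluation U x hx).hom := h0
    rw [ker_evaluation hU x hx] at this
    exact s.2 this
  · have := congrArg (X.residue x).hom hrs
    rw [map_mul] at this
    exact this

/-- the dimension of the stalk is the height of the prime. -/
theorem ringKrullDim_stalk {X : Scheme.{u}} {U : X.Opens} (hU : IsAffineOpen U) (x : X)
    (hx : x ∈ U) :
    ringKrullDim (X.presheaf.stalk x) = (hU.primeIdealOf ⟨x, hx⟩).asIdeal.height := by
  letI := X.presheaf.algebra_section_stalk ⟨x, hx⟩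
  haveI := hU.isLocalization_stalk ⟨x, hx⟩
  exact IsLocalization.AtPrime.ringKrullDim_eq_height (hU.primeIdealOf ⟨x, hx⟩).asIdeal
    (X.presheaf.stalk x)

/-- compatibility of evaluations with `appLE`. -/
theorem evaluation_appLE {X S : Scheme.{u}} (f : X ⟶ S) {U : X.Opens} {V : S.Opens}
    (e : U ≤ f ⁻¹ᵁ V) (x : X) (hx : x ∈ U) :
    (f.residueFieldMap x).hom.comp (S.evaluation V (f x) (e hx)).hom =
      (X.evaluation U x hx).hom.comp (f.appLE V U e).hom := by
  have h1 := Scheme.evaluation_naturality f (V := V) x (e hx)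
  have h2 : f.appLE V U e ≫ X.evaluation U x hx =
      f.app V ≫ X.evaluation (f ⁻¹ᵁ V) x (e hx) := by
    rw [Scheme.Hom.appLE, Category.assoc]
    congr 1
    simp only [Scheme.evaluation]
    rw [← Category.assoc, TopCat.Presheaf.germ_res]
  rw [← h2] at h1
  have := congrArg CommRingCat.Hom.hom h1
  exact this

/-- **The bridge**: the transcendence degree of the residue field extension at `x` is that of
`A ⧸ p → B ⧸ q` on any affine chart. -/
theorem trdeg_residueField_eq {X S : Scheme.{u}} (f : X ⟶ S) {U : X.Opens} (hU : IsAffineOpen U)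
    {V : S.Opens} (hV : IsAffineOpen V) (e : U ≤ f ⁻¹ᵁ V) (x : X) (hx : x ∈ U)
    [Algebra Γ(S, V) Γ(X, U)] (halg : algebraMap Γ(S, V) Γ(X, U) = (f.appLE V U e).hom)
    (p : Ideal Γ(S, V)) [p.IsPrime] (q : Ideal Γ(X, U)) [q.IsPrime] [q.LiesOver p]
    (hq : q = (hU.primeIdealOf ⟨x, hx⟩).asIdeal) :
    @Algebra.trdeg (S.residueField (f x)) (X.residueField x) _ _
      (f.residueFieldMap x).hom.toAlgebra = Algebra.trdeg (Γ(S, V) ⧸ p) (Γ(X, U) ⧸ q) := by
  have hp : p = (hV.primeIdealOf ⟨f x, e hx⟩).asIdeal := by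
    rw [(‹q.LiesOver p›).over, hq, Ideal.under_def, halg,
      ← IsAffineOpen.comap_primeIdealOf_appLE V hV U hU e hx]
    rfl
  refine TrdegBridge.trdeg_eq_of_fraction p q (S.evaluation V (f x) (e hx)).hom ?_
    (X.evaluation U x hx).hom ?_ (f.residueFieldMap x).hom ?_ ?_ ?_
  · rw [ker_evaluation hV, hp]
  · rw [ker_evaluation hU, hq]
  · rw [halg]; exact evaluation_appLE f e x hx
  · exact fraction_evaluation hV (f x) (e hx)
  · exact fraction_evaluation hU x hx


/-- `fromSpec` of a prime lands in `U`. -/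
theorem fromSpec_mem {X : Scheme.{u}} {U : X.Opens} (hU : IsAffineOpen U)
    (y : PrimeSpectrum Γ(X, U)) : hU.fromSpec y ∈ U := by
  rw [← SetLike.mem_coe, ← hU.range_fromSpec]
  exact ⟨y, rfl⟩

/-- `primeIdealOf` inverts `fromSpec`. -/
theorem primeIdealOf_fromSpec {X : Scheme.{u}} {U : X.Opens} (hU : IsAffineOpen U)
    (y : PrimeSpectrum Γ(X, U)) : hU.primeIdealOf ⟨hU.fromSpec y, fromSpec_mem hU y⟩ = y := by
  apply hU.fromSpec.isOpenEmbedding.injective
  exact hU.fromSpec_primeIdealOf ⟨hU.fromSpec y, fromSpec_mem hU y⟩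

/-- the prime of `f x` is the contraction of the prime of `x`. -/
theorem under_primeIdealOf {X S : Scheme.{u}} (f : X ⟶ S) {U : X.Opens} (hU : IsAffineOpen U)
    {V : S.Opens} (hV : IsAffineOpen V) (e : U ≤ f ⁻¹ᵁ V) (x : X) (hx : x ∈ U)
    [Algebra Γ(S, V) Γ(X, U)] (halg : algebraMap Γ(S, V) Γ(X, U) = (f.appLE V U e).hom) :
    (hU.primeIdealOf ⟨x, hx⟩).asIdeal.under Γ(S, V) = (hV.primeIdealOf ⟨f x, e hx⟩).asIdeal := by
  rw [Ideal.under_def, halg, ← IsAffineOpen.comap_primeIdealOf_appLE V hV U hU e hx]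
  rfl

/-- specialization of points on an affine open in terms of primes. -/
theorem specializes_fromSpec_iff {X : Scheme.{u}} {U : X.Opens} (hU : IsAffineOpen U)
    (y z : PrimeSpectrum Γ(X, U)) : hU.fromSpec y ⤳ hU.fromSpec z ↔ y ≤ z := by
  rw [PrimeSpectrum.le_iff_specializes]
  exact hU.fromSpec.isOpenEmbedding.isInducing.specializes_iff

/-- minimal primes of an affine chart give generic points of irreducible components. -/
theorem closure_mem_irreducibleComponents {X : Scheme.{u}} {U : X.Opens} (hU : IsAffineOpen U)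
    (y : PrimeSpectrum Γ(X, U)) (hy : y.asIdeal ∈ minimalPrimes Γ(X, U)) :
    closure {hU.fromSpec y} ∈ irreducibleComponents X := by
  refine ⟨isIrreducible_singleton.closure, fun Z hZ hle => ?_⟩
  have hZ' : IsIrreducible (closure Z) := hZ.closure
  obtain ⟨ζ, hζ⟩ := QuasiSober.sober hZ' isClosed_closure
  have hξZ : hU.fromSpec y ∈ closure Z := subset_closure (hle (subset_closure rfl))
  have hsp : ζ ⤳ hU.fromSpec y := by
    rw [specializes_iff_mem_closure, hζ.def]
    exact hξZ
  have hζU : ζ ∈ U := hsp.mem_open U.isOpen (fromSpec_mem hU y)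
  have hζ' : hU.fromSpec (hU.primeIdealOf ⟨ζ, hζU⟩) = ζ := hU.fromSpec_primeIdealOf ⟨ζ, hζU⟩
  rw [← hζ', specializes_fromSpec_iff] at hsp
  have hmin : y.asIdeal ≤ (hU.primeIdealOf ⟨ζ, hζU⟩).asIdeal := by
    rw [minimalPrimes_eq_minimals] at hy
    exact hy.2 (hU.primeIdealOf ⟨ζ, hζU⟩).isPrime hsp
  have heq : hU.primeIdealOf ⟨ζ, hζU⟩ = y := le_antisymm hsp hmin
  rw [heq] at hζ'
  rw [hζ', hζ.def]
  exact subset_closure


/-- for a morphism locally of finite type, residue field extensions have finite transcendence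
degree. -/
theorem exists_nat_trdeg_residueField {X S : Scheme.{u}} (f : X ⟶ S) [LocallyOfFiniteType f]
    (x : X) :
    ∃ n : ℕ, @Algebra.trdeg (S.residueField (f x)) (X.residueField x) _ _
      (f.residueFieldMap x).hom.toAlgebra = n := by
  obtain ⟨V, hV, hxV, -⟩ :=
    exists_isAffineOpen_mem_and_subset (X := S) (x := f x) (U := ⊤) trivial
  obtain ⟨U, hU, hxU, hUV⟩ :=
    exists_isAffineOpen_mem_and_subset (X := X) (x := x) (U := f ⁻¹ᵁ V) hxV
  letI alg : Algebra Γ(S, V) Γ(X, U) := (f.appLE V U hUV).hom.toAlgebra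
  have halg : algebraMap Γ(S, V) Γ(X, U) = (f.appLE V U hUV).hom := rfl
  haveI : Algebra.FiniteType Γ(S, V) Γ(X, U) := Scheme.Hom.finiteType_appLE f hV hU hUV
  let q : Ideal Γ(X, U) := (hU.primeIdealOf ⟨x, hxU⟩).asIdeal
  haveI : q.IsPrime := (hU.primeIdealOf ⟨x, hxU⟩).isPrime
  let p : Ideal Γ(S, V) := q.under Γ(S, V)
  haveI : p.IsPrime := inferInstance
  haveI : q.LiesOver p := inferInstance
  rw [trdeg_residueField_eq f hU hV hUV x hxU halg p q rfl]
  haveI : Algebra.FiniteType Γ(S, V) (Γ(X, U) ⧸ q) := inferInstance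
  haveI : Algebra.FiniteType (Γ(S, V) ⧸ p) (Γ(X, U) ⧸ q) :=
    Algebra.FiniteType.of_restrictScalars_finiteType Γ(S, V) _ _
  exact Cardinal.lt_aleph0.mp trdeg_lt_aleph0_of_finiteType

end Groth.Agent.Helper14.ResFieldBridge
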