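import Mathlib
import Groth.Agent.Lib.Helper14.ResFieldBridge

/-!
# Maximal points of locally Noetherian schemes
-/

namespace Groth.Agent.Helper14.MaxPoints
universe u
open TopologicalSpace AlgebraicGeometry CategoryTheory

variable {X : Scheme.{u}} [IsLocallyNoetherian X]

omit [IsLocallyNoetherian X] in
/-- every point has a maximal generization. -/
theorem exists_maximal_specializes (x : X) :
    ∃ ξ : X, (∀ ξ' : X, ξ' ⤳ ξ → ξ' = ξ) ∧ ξ ⤳ x := by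
  obtain ⟨U₀, hU₀aff, hxU₀⟩ : ∃ U₀ : X.Opens, IsAffineOpen U₀ ∧ x ∈ U₀ := by
    obtain ⟨_, ⟨V, hV : IsAffineOpen V, rfl⟩, hxV, -⟩ :=
      (X.isBasis_affineOpens).exists_subset_of_mem_open (Set.mem_univ x) isOpen_univ
    exact ⟨V, hV, hxV⟩
  set px := hU₀aff.primeIdealOf ⟨x, hxU₀⟩ with hpx
  haveI hpxprime : px.asIdeal.IsPrime := px.isPrime
  have hfx : hU₀aff.fromSpec px = x := hU₀aff.fromSpec_primeIdealOf ⟨x, hxU₀⟩
  obtain ⟨P, hPmin, hPle⟩ := Ideal.exists_minimalPrimes_le (bot_le : (⊥ : Ideal Γ(X, U₀)) ≤ px.asIdeal)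
  haveI hPprime : P.IsPrime := hPmin.1.1
  let ξ := hU₀aff.fromSpec ⟨P, hPprime⟩
  have hξx : ξ ⤳ x := by
    rw [← hfx, ResFieldBridge.specializes_fromSpec_iff]
    exact hPle
  refine ⟨ξ, ?_, hξx⟩
  intro ξ' hξ'
  have hξU : ξ ∈ U₀ := ResFieldBridge.fromSpec_mem hU₀aff _
  have hξ'U : ξ' ∈ U₀ := hξ'.mem_open U₀.isOpen hξU
  have e : hU₀aff.fromSpec (hU₀aff.primeIdealOf ⟨ξ', hξ'U⟩) = ξ' :=
    hU₀aff.fromSpec_primeIdealOf ⟨ξ', hξ'U⟩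
  rw [← e, ResFieldBridge.specializes_fromSpec_iff] at hξ'
  have hle : P ≤ (hU₀aff.primeIdealOf ⟨ξ', hξ'U⟩).asIdeal :=
    hPmin.2 ⟨(hU₀aff.primeIdealOf ⟨ξ', hξ'U⟩).isPrime, bot_le⟩ hξ'
  have : hU₀aff.primeIdealOf ⟨ξ', hξ'U⟩ = ⟨P, hPprime⟩ := le_antisymm hξ' hle
  rw [← e, this]

/-- every point has an open neighbourhood all of whose maximal points generize it. -/
theorem exists_open_maximal_specializes (x : X) :
    ∃ U : X.Opens, x ∈ U ∧ ∀ ξ : X, ξ ∈ U → (∀ ξ' : X, ξ' ⤳ ξ → ξ' = ξ) → ξ ⤳ x := by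
  obtain ⟨U₀, hU₀aff, hxU₀⟩ : ∃ U₀ : X.Opens, IsAffineOpen U₀ ∧ x ∈ U₀ := by
    obtain ⟨_, ⟨V, hV : IsAffineOpen V, rfl⟩, hxV, -⟩ :=
      (X.isBasis_affineOpens).exists_subset_of_mem_open (Set.mem_univ x) isOpen_univ
    exact ⟨V, hV, hxV⟩
  haveI hNoeth : IsNoetherianRing Γ(X, U₀) :=
    IsLocallyNoetherian.component_noetherian ⟨U₀, hU₀aff⟩
  set px := hU₀aff.primeIdealOf ⟨x, hxU₀⟩ with hpx
  haveI hpxprime : px.asIdeal.IsPrime := px.isPrime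
  have hfx : hU₀aff.fromSpec px = x := hU₀aff.fromSpec_primeIdealOf ⟨x, hxU₀⟩
  have hfin : (minimalPrimes Γ(X, U₀)).Finite := minimalPrimes.finite_of_isNoetherianRing _
  let bad : Set (PrimeSpectrum Γ(X, U₀)) :=
    {P | P.asIdeal ∈ minimalPrimes Γ(X, U₀) ∧ ¬ P ≤ px}
  have hbadfin : bad.Finite := by
    have h1 : (PrimeSpectrum.asIdeal ⁻¹' (minimalPrimes Γ(X, U₀))).Finite :=
      hfin.preimage (fun a _ b _ h => PrimeSpectrum.ext h)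
    exact h1.subset (fun P hP => hP.1)
  let Z : Set X := ⋃ P ∈ bad, closure {hU₀aff.fromSpec P}
  have hZclosed : IsClosed Z := hbadfin.isClosed_biUnion (fun P _ => isClosed_closure)
  have hxZ : x ∉ Z := by
    intro hx
    simp only [Z, Set.mem_iUnion] at hx
    obtain ⟨P, hP, hxP⟩ := hx
    rw [← specializes_iff_mem_closure, ← hfx, ResFieldBridge.specializes_fromSpec_iff] at hxP
    exact hP.2 hxP
  refine ⟨U₀ ⊓ ⟨Zᶜ, hZclosed.isOpen_compl⟩, ⟨hxU₀, hxZ⟩, ?_⟩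
  rintro ξ ⟨hξU₀, hξZ⟩ hξmax
  set pξ := hU₀aff.primeIdealOf ⟨ξ, hξU₀⟩ with hpξ
  haveI hpξprime : pξ.asIdeal.IsPrime := pξ.isPrime
  have hfξ : hU₀aff.fromSpec pξ = ξ := hU₀aff.fromSpec_primeIdealOf ⟨ξ, hξU₀⟩
  have hmin : pξ.asIdeal ∈ minimalPrimes Γ(X, U₀) := by
    refine ⟨⟨pξ.isPrime, bot_le⟩, ?_⟩
    rintro q ⟨hq, -⟩ hqle
    have hQ : (⟨q, hq⟩ : PrimeSpectrum Γ(X, U₀)) ≤ pξ := hqle
    rw [← ResFieldBridge.specializes_fromSpec_iff hU₀aff, hfξ] at hQ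
    have e := hξmax _ hQ
    rw [← hfξ] at e
    have e' := hU₀aff.fromSpec.isOpenEmbedding.injective e
    rw [← e']
  have hle : pξ ≤ px := by
    by_contra hnot
    apply hξZ
    simp only [Z, Set.mem_iUnion]
    refine ⟨pξ, ⟨hmin, hnot⟩, ?_⟩
    rw [hfξ]
    exact subset_closure rfl
  rw [← hfξ, ← hfx, ResFieldBridge.specializes_fromSpec_iff]
  exact hle

end Groth.Agent.Helper14.MaxPoints
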