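import Mathlib

set_option autoImplicit false

namespace Groth.Agent.Helper14.PuncAff
open Submodule IsLocalRing

section General
variable {R : Type*} [CommRing R] {M M' : Type*} [AddCommGroup M] [Module R M]
  [AddCommGroup M'] [Module R M']

theorem length_ker_add_range (f : M →ₗ[R] M') :
    Module.length R M = Module.length R (LinearMap.ker f) + Module.length R (LinearMap.range f) :=
  Module.length_eq_add_of_exact (LinearMap.ker f).subtype f.rangeRestrict
    (Submodule.subtype_injective _) (LinearMap.surjective_rangeRestrict f)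
    (LinearMap.exact_iff.mpr (by rw [LinearMap.ker_rangeRestrict, Submodule.range_subtype]))

theorem length_mono {N₁ N₂ : Submodule R M} (h : N₁ ≤ N₂) :
    Module.length R N₁ ≤ Module.length R N₂ :=
  Module.length_le_of_injective (Submodule.inclusion h) (Submodule.inclusion_injective h)

end General

section Loewy
variable {R : Type*} [CommRing R] [IsLocalRing R]

/-- A module of length `≤ c` over a local ring is killed by `m ^ c`. -/
theorem smul_eq_zero_of_length_le (c : ℕ) : ∀ (M : Type*) [AddCommGroup M] [Module R M],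
    Module.length R M ≤ c → ∀ a ∈ (maximalIdeal R) ^ c, ∀ v : M, a • v = 0 := by
  induction c with
  | zero =>
    intro M _ _ hM a _ v
    have : Module.length R M = 0 := by simpa using hM
    rw [Module.length_eq_zero_iff] at this
    exact Subsingleton.elim _ _
  | succ c ih =>
    intro M _ _ hM a ha v
    have hfl : IsFiniteLength R M := by
      rw [← Module.length_ne_top_iff]
      intro h
      rw [h] at hM
      exact absurd hM (by simp)
    obtain ⟨hN, hA⟩ := isFiniteLength_iff_isNoetherian_isArtinian.mp hfl
    by_cases htop : (maximalIdeal R) • (⊤ : Submodule R M) = ⊤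
    · have hbot : (⊤ : Submodule R M) = ⊥ :=
        Submodule.eq_bot_of_le_smul_of_le_jacobson_bot (maximalIdeal R) ⊤
          (IsNoetherian.noetherian _) htop.ge
          (by rw [IsLocalRing.jacobson_eq_maximalIdeal ⊥ bot_ne_top])
      have : v ∈ (⊥ : Submodule R M) := hbot ▸ Submodule.mem_top
      rw [Submodule.mem_bot] at this
      rw [this, smul_zero]
    · have hlt := Submodule.length_lt htop
      have hle : Module.length R ↥((maximalIdeal R) • (⊤ : Submodule R M)) ≤ c := by
        have h1 : Module.length R ↥((maximalIdeal R) • (⊤ : Submodule R M)) < (c : ℕ∞) + 1 :=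
          lt_of_lt_of_le hlt (by exact_mod_cast hM)
        exact (ENat.lt_add_one_iff (ENat.coe_ne_top c)).mp h1
      have key := ih ↥((maximalIdeal R) • (⊤ : Submodule R M)) hle
      rw [pow_succ] at ha
      refine Submodule.mul_induction_on ha ?_ ?_
      · intro p hp q hq
        have hq' : q • v ∈ (maximalIdeal R) • (⊤ : Submodule R M) :=
          Submodule.smul_mem_smul hq Submodule.mem_top
        have := key p hp ⟨q • v, hq'⟩
        have h2 := congrArg Subtype.val this
        simpa [mul_smul] using h2
      · intro p q hp hq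
        rw [add_smul, hp, hq, add_zero]

end Loewy

end Groth.Agent.Helper14.PuncAff

namespace Groth.Agent.Helper14.PuncAff
open Submodule IsLocalRing

section Torsion
variable {R : Type*} [CommRing R] {W : Type*} [AddCommGroup W] [Module R W] (x : R)

/-- `x • T(n+1)` as a submodule of `W`. -/
noncomputable def S (n : ℕ) : Submodule R W :=
  (torsionBy R W (x ^ (n + 1))).map (LinearMap.lsmul R W x)

/-- the submodule `xW`. -/
noncomputable def xW : Submodule R W := LinearMap.range (LinearMap.lsmul R W x)

/-- image of `T(n)` in `W/xW`. -/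
noncomputable def Q (n : ℕ) : Submodule R (W ⧸ xW (W := W) x) :=
  (torsionBy R W (x ^ n)).map (xW (W := W) x).mkQ

theorem S_le (n : ℕ) : S (W := W) x n ≤ torsionBy R W (x ^ n) := by
  rintro _ ⟨w, hw, rfl⟩
  rw [SetLike.mem_coe, mem_torsionBy_iff] at hw
  rw [mem_torsionBy_iff]
  simp only [LinearMap.lsmul_apply]
  rw [← mul_smul, ← pow_succ]
  exact hw

theorem T_mono {i j : ℕ} (h : i ≤ j) : torsionBy R W (x ^ i) ≤ torsionBy R W (x ^ j) := by
  intro w hw
  rw [mem_torsionBy_iff] at hw ⊢
  obtain ⟨k, rfl⟩ := Nat.exists_eq_add_of_le h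
  rw [pow_add, mul_comm, mul_smul, hw, smul_zero]

/-- `ℓ(T(n+1)) = ℓ(T(1)) + ℓ(x T(n+1))`. -/
theorem length_T_succ (n : ℕ) :
    Module.length R (torsionBy R W (x ^ (n + 1))) =
      Module.length R (torsionBy R W x) + Module.length R (S (W := W) x n) := by
  let f : ↥(torsionBy R W (x ^ (n + 1))) →ₗ[R] W :=
    (LinearMap.lsmul R W x).comp (torsionBy R W (x ^ (n + 1))).subtype
  have h1 := length_ker_add_range f
  have hker : LinearMap.ker f = (torsionBy R W x).comap (torsionBy R W (x ^ (n + 1))).subtype := by
    ext w
    simp [f, mem_torsionBy_iff]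
  have hrange : LinearMap.range f = S (W := W) x n := by
    simp only [f, S]
    rw [LinearMap.range_comp, Submodule.range_subtype]
  have hle : torsionBy R W x ≤ torsionBy R W (x ^ (n + 1)) := by
    have := T_mono (W := W) x (i := 1) (j := n + 1) (by omega)
    simpa using this
  rw [h1, hker, hrange, (Submodule.comapSubtypeEquivOfLe hle).length_eq]

/-- `ℓ(T(n)) = ℓ(x T(n+1)) + ℓ(Q n)`. -/
theorem length_T_eq (n : ℕ) :
    Module.length R (torsionBy R W (x ^ n)) =
      Module.length R (S (W := W) x n) + Module.length R (Q (W := W) x n) := by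
  let g : ↥(torsionBy R W (x ^ n)) →ₗ[R] (W ⧸ xW (W := W) x) :=
    (xW (W := W) x).mkQ.comp (torsionBy R W (x ^ n)).subtype
  have h1 := length_ker_add_range g
  have hker : LinearMap.ker g = (S (W := W) x n).comap (torsionBy R W (x ^ n)).subtype := by
    ext w
    simp only [g, LinearMap.mem_ker, LinearMap.comp_apply, Submodule.subtype_apply,
      Submodule.mkQ_apply, Submodule.Quotient.mk_eq_zero, Submodule.mem_comap]
    constructor
    · rintro ⟨v, hv⟩
      refine ⟨v, ?_, hv⟩
      rw [SetLike.mem_coe, mem_torsionBy_iff]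
      have hw := w.2
      rw [mem_torsionBy_iff, ← hv] at hw
      simp only [LinearMap.lsmul_apply] at hw
      rw [pow_succ, mul_smul]
      exact hw
    · rintro ⟨v, -, hv⟩
      exact ⟨v, hv⟩
  have hrange : LinearMap.range g = Q (W := W) x n := by
    simp only [g, Q]
    rw [LinearMap.range_comp, Submodule.range_subtype]
  rw [h1, hker, hrange, (Submodule.comapSubtypeEquivOfLe (S_le (W := W) x n)).length_eq]

theorem length_T_ne_top (hc : Module.length R (torsionBy R W x) ≠ ⊤) (n : ℕ) :
    Module.length R (torsionBy R W (x ^ n)) ≠ ⊤ := by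
  induction n with
  | zero =>
    have : torsionBy R W (x ^ 0) = ⊥ := by
      ext w; simp [mem_torsionBy_iff]
    rw [this]
    simp
  | succ n ih =>
    rw [length_T_succ]
    have h1 : Module.length R (S (W := W) x n) ≤ Module.length R (torsionBy R W (x ^ n)) :=
      length_mono (S_le (W := W) x n)
    have h2 : Module.length R (S (W := W) x n) ≠ ⊤ := ne_top_of_le_ne_top ih h1
    exact WithTop.add_ne_top.mpr ⟨hc, h2⟩

theorem length_Q_le (hc : Module.length R (torsionBy R W x) ≠ ⊤) (n : ℕ) :
    Module.length R (Q (W := W) x n) ≤ Module.length R (torsionBy R W x) := by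
  have h1 := length_T_succ (W := W) x n
  have h2 := length_T_eq (W := W) x n
  have h3 : Module.length R (torsionBy R W (x ^ n)) ≤ Module.length R (torsionBy R W (x ^ (n + 1))) :=
    length_mono (T_mono (W := W) x (Nat.le_succ n))
  have h4 : Module.length R (S (W := W) x n) ≠ ⊤ :=
    ne_top_of_le_ne_top (length_T_ne_top (W := W) x hc n) (length_mono (S_le (W := W) x n))
  rw [h1, h2, add_comm (Module.length R (torsionBy R W x))] at h3
  exact (ENat.add_le_add_iff_left h4).mp h3

end Torsion

section Main
variable {R : Type*} [CommRing R] [IsLocalRing R] {W : Type*} [AddCommGroup W] [Module R W]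

/-- Key lemma: if `W` is `x`-power torsion and `W[x]` has finite length `c`, then
`m ^ c` maps `W` into `xW`. -/
theorem exists_smul_eq_smul (x : R) (htors : ∀ w : W, ∃ n : ℕ, x ^ n • w = 0)
    (c : ℕ) (hc : Module.length R (torsionBy R W x) = c) :
    ∀ a ∈ (maximalIdeal R) ^ c, ∀ w : W, ∃ w' : W, a • w = x • w' := by
  intro a ha w
  obtain ⟨n, hn⟩ := htors w
  have hw : (xW (W := W) x).mkQ w ∈ Q (W := W) x n :=
    Submodule.mem_map_of_mem ((mem_torsionBy_iff _ _).mpr hn)
  have hle : Module.length R (Q (W := W) x n) ≤ c := by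
    rw [← hc]
    exact length_Q_le x (by rw [hc]; exact ENat.coe_ne_top c) n
  have := smul_eq_zero_of_length_le c ↥(Q (W := W) x n) hle a ha ⟨_, hw⟩
  have h2 := congrArg Subtype.val this
  simp only [Submodule.coe_smul, Submodule.coe_zero, Submodule.mkQ_apply] at h2
  rw [← Submodule.Quotient.mk_smul, Submodule.Quotient.mk_eq_zero] at h2
  obtain ⟨w', hw'⟩ := h2
  exact ⟨w', hw'.symm⟩

end Main

end Groth.Agent.Helper14.PuncAff
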