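import Mathlib
import Groth.Agent.Lib.Helper14.PuncAffA

set_option autoImplicit false

namespace Groth.Agent.Helper14.PuncAff
open Submodule IsLocalRing

section FiniteLength
variable {D : Type*} [CommRing D] [IsLocalRing D] [IsNoetherianRing D]

theorem isArtinianRing_quotient_pow (N : ℕ) :
    IsArtinianRing (D ⧸ (maximalIdeal D) ^ (N + 1)) := by
  set I := (maximalIdeal D) ^ (N + 1) with hI
  have hIle : I ≤ maximalIdeal D := Ideal.pow_le_self (by omega)
  have hIne : I ≠ ⊤ := fun h => (maximalIdeal.isMaximal D).ne_top (top_le_iff.mp (h ▸ hIle))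
  haveI : Nontrivial (D ⧸ I) := Ideal.Quotient.nontrivial_iff.mpr hIne
  haveI := IsLocalRing.of_surjective' (Ideal.Quotient.mk I) Ideal.Quotient.mk_surjective
  haveI := IsLocalHom.of_surjective (Ideal.Quotient.mk I) Ideal.Quotient.mk_surjective
  have hmap : (maximalIdeal D).map (Ideal.Quotient.mk I) = maximalIdeal (D ⧸ I) := by
    ext x
    obtain ⟨x, rfl⟩ := Ideal.Quotient.mk_surjective x
    simp [sup_eq_left.mpr (le_maximalIdeal hIne)]
  rw [isArtinianRing_iff_isNilpotent_maximalIdeal]
  refine ⟨N + 1, ?_⟩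
  rw [← hmap, ← Ideal.map_pow, Ideal.zero_eq_bot, Ideal.map_eq_bot_iff_le_ker, Ideal.mk_ker]

theorem isFiniteLength_of_finite_of_pow_smul {M : Type*} [AddCommGroup M] [Module D M]
    [Module.Finite D M] (N : ℕ) (h : ∀ a ∈ (maximalIdeal D) ^ N, ∀ v : M, a • v = 0) :
    IsFiniteLength D M := by
  set I := (maximalIdeal D) ^ (N + 1) with hI
  have htors : Module.IsTorsionBySet D M (I : Set D) := by
    intro v a
    exact h a.1 (Ideal.pow_le_pow_right (Nat.le_succ N) a.2) v
  letI := htors.module
  haveI : IsScalarTower D (D ⧸ I) M := htors.isScalarTower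
  haveI : IsArtinianRing (D ⧸ I) := isArtinianRing_quotient_pow N
  haveI : Module.Finite (D ⧸ I) M := Module.Finite.of_restrictScalars_finite D (D ⧸ I) M
  have hA : IsArtinian (D ⧸ I) M := inferInstance
  rw [isFiniteLength_iff_isNoetherian_isArtinian]
  exact ⟨inferInstance, isArtinian_of_surjective_algebraMap (R := D ⧸ I) (S := D)
    Ideal.Quotient.mk_surjective⟩

end FiniteLength

section Main
variable {D B : Type*} [CommRing D] [IsLocalRing D] [IsNoetherianRing D]
  [CommRing B] [Algebra D B]

/-- **Algebraic core** of "the punctured spectrum of a Noetherian local ring of dimension `≥ 2`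
is not affine". -/
theorem isUnit_of_conductor (x : D) (hx : x ∈ maximalIdeal D)
    (hreg : ∀ b : B, algebraMap D B x * b = 0 → b = 0)
    (hcond : ∀ b : B, ∃ N : ℕ, ∀ a ∈ (maximalIdeal D) ^ N,
      ∃ d : D, algebraMap D B a * b = algebraMap D B d)
    (htop : Ideal.map (algebraMap D B) (maximalIdeal D) = ⊤) :
    IsUnit (algebraMap D B x) := by
  classical
  set D' : Submodule D B := LinearMap.range (Algebra.linearMap D B) with hD'
  let W := B ⧸ D'
  -- every element of `W` is killed by a power of `m`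
  have hkill : ∀ w : W, ∃ N : ℕ, ∀ a ∈ (maximalIdeal D) ^ N, a • w = 0 := by
    intro w
    obtain ⟨b, rfl⟩ := D'.mkQ_surjective w
    obtain ⟨N, hN⟩ := hcond b
    refine ⟨N, fun a ha => ?_⟩
    obtain ⟨d, hd⟩ := hN a ha
    rw [← map_smul, Submodule.mkQ_apply, Submodule.Quotient.mk_eq_zero]
    refine ⟨d, ?_⟩
    rw [Algebra.linearMap_apply, ← hd, Algebra.smul_def]
  have htors : ∀ w : W, ∃ n : ℕ, x ^ n • w = 0 := by
    intro w
    obtain ⟨N, hN⟩ := hkill w
    exact ⟨N, hN _ (Ideal.pow_mem_pow hx N)⟩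
  -- `W[x]` is finitely generated
  have hinj : Function.Injective (LinearMap.lsmul D B x) := by
    rw [injective_iff_map_eq_zero]
    intro b hb
    apply hreg b
    rw [← Algebra.smul_def]
    exact hb
  set E : Submodule D B := D'.comap (LinearMap.lsmul D B x) with hE
  have hEfg : E.FG := by
    apply Submodule.fg_of_fg_map_injective (LinearMap.lsmul D B x) hinj
    have hle : E.map (LinearMap.lsmul D B x) ≤ D' := Submodule.map_comap_le _ _
    haveI : IsNoetherian D ↥D' := by
      rw [hD']
      exact isNoetherian_of_surjective (Algebra.linearMap D B).rangeRestrict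
        (LinearMap.range_rangeRestrict _)
    have h1 : ((E.map (LinearMap.lsmul D B x)).comap D'.subtype).FG := IsNoetherian.noetherian _
    have h2 := h1.map D'.subtype
    rwa [Submodule.map_comap_subtype, inf_of_le_right hle] at h2
  have hWx : torsionBy D W x = E.map D'.mkQ := by
    ext w
    obtain ⟨b, rfl⟩ := D'.mkQ_surjective w
    rw [mem_torsionBy_iff, ← map_smul, Submodule.mkQ_apply, Submodule.Quotient.mk_eq_zero]
    constructor
    · intro h
      exact ⟨b, h, rfl⟩
    · rintro ⟨b', hb', hbb'⟩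
      rw [Submodule.mkQ_apply, Submodule.mkQ_apply, Submodule.Quotient.eq] at hbb'
      have h1 : x • b' ∈ D' := hb'
      have h2 : x • (b' - b) ∈ D' := D'.smul_mem x hbb'
      have : x • b = x • b' - x • (b' - b) := by rw [smul_sub]; abel
      rw [this]
      exact D'.sub_mem h1 h2
  have hWxfg : (torsionBy D W x).FG := by rw [hWx]; exact hEfg.map _
  haveI : Module.Finite D ↥(torsionBy D W x) := Module.Finite.iff_fg.mpr hWxfg
  -- uniform annihilation
  obtain ⟨s, hs⟩ := hWxfg
  have hunif : ∃ N : ℕ, ∀ a ∈ (maximalIdeal D) ^ N, ∀ v : ↥(torsionBy D W x), a • v = 0 := by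
    choose Nw hNw using hkill
    refine ⟨s.sup Nw, fun a ha v => ?_⟩
    apply Subtype.ext
    rw [Submodule.coe_smul, Submodule.coe_zero]
    have hv : (v : W) ∈ Submodule.span D (s : Set W) := by rw [hs]; exact v.2
    refine Submodule.span_induction ?_ ?_ ?_ ?_ hv
    · intro w hw
      exact hNw w a (Ideal.pow_le_pow_right (Finset.le_sup hw) ha)
    · simp
    · intro p q _ _ hp hq
      rw [smul_add, hp, hq, add_zero]
    · intro r p _ hp
      rw [smul_comm, hp, smul_zero]
  obtain ⟨N, hN⟩ := hunif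
  have hfl : IsFiniteLength D ↥(torsionBy D W x) := isFiniteLength_of_finite_of_pow_smul N hN
  rw [← Module.length_ne_top_iff] at hfl
  obtain ⟨c, hc⟩ := ENat.ne_top_iff_exists.mp hfl
  have key := exists_smul_eq_smul (R := D) (W := W) x htors c hc.symm
  -- `m^c B ⊆ xB + D'`
  set V : Submodule D B := LinearMap.range (LinearMap.lsmul D B x) ⊔ D' with hV
  have hV1 : ∀ a ∈ (maximalIdeal D) ^ c, ∀ b : B, a • b ∈ V := by
    intro a ha b
    obtain ⟨w', hw'⟩ := key a ha (D'.mkQ b)
    obtain ⟨b', rfl⟩ := D'.mkQ_surjective w'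
    rw [← map_smul, ← map_smul, Submodule.mkQ_apply, Submodule.mkQ_apply,
      Submodule.Quotient.eq] at hw'
    have : a • b = x • b' + (a • b - x • b') := by abel
    rw [this]
    exact Submodule.add_mem_sup ⟨b', rfl⟩ hw'
  have hmapc : Ideal.map (algebraMap D B) ((maximalIdeal D) ^ c) = ⊤ := by
    rw [Ideal.map_pow, htop]
    exact Ideal.top_pow B c
  have hVtop : ∀ b : B, b ∈ V := by
    have h1 : (1 : B) ∈ Ideal.map (algebraMap D B) ((maximalIdeal D) ^ c) := by
      rw [hmapc]; trivial
    have h2 : ∀ y ∈ Ideal.map (algebraMap D B) ((maximalIdeal D) ^ c), ∀ b : B, y * b ∈ V := by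
      intro y hy
      refine Submodule.span_induction ?_ ?_ ?_ ?_ hy
      · rintro _ ⟨a, ha, rfl⟩ b
        rw [← Algebra.smul_def]
        exact hV1 a ha b
      · intro b; rw [zero_mul]; exact V.zero_mem
      · intro p q _ _ hp hq b
        rw [add_mul]; exact V.add_mem (hp b) (hq b)
      · intro r p _ hp b
        rw [smul_eq_mul, mul_comm r p, mul_assoc]
        exact hp (r * b)
    intro b
    have := h2 1 h1 b
    rwa [one_mul] at this
  -- surjectivity of `D → B / xB`
  set I' : Ideal B := Ideal.span {algebraMap D B x} with hI'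
  let ψ : D →+* B ⧸ I' := (Ideal.Quotient.mk I').comp (algebraMap D B)
  have hψ : Function.Surjective ψ := by
    intro y
    obtain ⟨b, rfl⟩ := Ideal.Quotient.mk_surjective y
    obtain ⟨_, ⟨β, rfl⟩, _, ⟨d, rfl⟩, hsum⟩ := Submodule.mem_sup.mp (hVtop b)
    refine ⟨d, ?_⟩
    simp only [ψ, RingHom.comp_apply]
    rw [← hsum, map_add, Algebra.linearMap_apply, LinearMap.lsmul_apply, Algebra.smul_def]
    have : (Ideal.Quotient.mk I') (algebraMap D B x * β) = 0 := by
      rw [Ideal.Quotient.eq_zero_iff_mem]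
      exact Ideal.mul_mem_right _ _ (Ideal.mem_span_singleton_self _)
    rw [this, zero_add]
  have hψtop : Ideal.map ψ (maximalIdeal D) = ⊤ := by
    have : Ideal.map ψ (maximalIdeal D) =
        Ideal.map (Ideal.Quotient.mk I') (Ideal.map (algebraMap D B) (maximalIdeal D)) := by
      rw [Ideal.map_map]
    rw [this, htop, Ideal.map_top]
  have h1 : (1 : B ⧸ I') ∈ Ideal.map ψ (maximalIdeal D) := by rw [hψtop]; trivial
  rw [Ideal.mem_map_iff_of_surjective ψ hψ] at h1
  obtain ⟨e, he, heq⟩ := h1
  have hu : IsUnit (1 - e) := by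
    by_contra hnu
    have : (1 - e) ∈ maximalIdeal D := (IsLocalRing.mem_maximalIdeal _).mpr hnu
    have h1 : (1 : D) ∈ maximalIdeal D := by
      have := (maximalIdeal D).add_mem this he
      simpa using this
    exact (maximalIdeal.isMaximal D).ne_top ((Ideal.eq_top_iff_one _).mpr h1)
  have hz : ψ (1 - e) = 0 := by rw [map_sub, map_one, heq, sub_self]
  have hz1 : (1 : B ⧸ I') = 0 := by
    have := (hu.map ψ)
    rw [hz] at this
    exact (isUnit_zero_iff.mp this).symm ▸ rfl
  have h1mem : (1 : B) ∈ I' := by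
    rw [← Ideal.Quotient.eq_zero_iff_mem, map_one]
    exact hz1
  rw [hI', Ideal.mem_span_singleton'] at h1mem
  obtain ⟨β, hβ⟩ := h1mem
  exact IsUnit.of_mul_eq_one β (by rw [mul_comm]; exact hβ)

end Main

end Groth.Agent.Helper14.PuncAff
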