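import Mathlib
import Groth.Prelude.Def_FEt
import Groth.Agent.Lib.Helper14.PuncAffB

set_option autoImplicit false

namespace Groth.Agent.Helper14.PuncAff
universe u
open AlgebraicGeometry CategoryTheory IsLocalRing TopologicalSpace

section Conductor
variable {X : Scheme.{u}} [IsAffine X] {U : X.Opens} (hU : IsAffineOpen U)

include hU in
/-- **Conductor lemma**: if `D(f) ⊆ U` with `U` an affine open of the affine scheme `X`, then any
section `b` over `U` becomes a global section after multiplication by a power of `f`. -/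
theorem exists_pow_mul_eq_res (f : Γ(X, ⊤)) (hf : X.basicOpen f ≤ U) (b : Γ(X, U)) :
    ∃ (n : ℕ) (d : Γ(X, ⊤)),
      (X.presheaf.map (homOfLE le_top : U ⟶ ⊤).op f) ^ n * b =
        X.presheaf.map (homOfLE le_top : U ⟶ ⊤).op d := by
  set ρ := X.presheaf.map (homOfLE le_top : U ⟶ ⊤).op with hρ
  set V := X.basicOpen f with hV
  let i₁ : V ⟶ ⊤ := homOfLE le_top
  let i₂ : V ⟶ U := homOfLE hf
  have e : V = X.basicOpen (ρ f) := by
    rw [hρ, Scheme.basicOpen_res]
    exact (inf_eq_right.mpr hf).symm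
  have L1 := (isAffineOpen_top X).isLocalization_of_eq_basicOpen f i₁ rfl
  have L2 := hU.isLocalization_of_eq_basicOpen (ρ f) i₂ e
  have hcomp : ∀ t : Γ(X, ⊤), X.presheaf.map i₂.op (ρ t) = X.presheaf.map i₁.op t := by
    intro t
    rw [hρ, ← CommRingCat.comp_apply, ← X.presheaf.map_comp]
    rfl
  letI := (X.presheaf.map i₁.op).hom.toAlgebra
  obtain ⟨n, d, hnd⟩ := IsLocalization.Away.surj (S := Γ(X, V)) f (X.presheaf.map i₂.op b)
  rw [RingHom.algebraMap_toAlgebra] at hnd
  letI := (X.presheaf.map i₂.op).hom.toAlgebra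
  have h0 : algebraMap Γ(X, U) Γ(X, V) ((ρ f) ^ n * b) = algebraMap Γ(X, U) Γ(X, V) (ρ d) := by
    rw [RingHom.algebraMap_toAlgebra]
    change X.presheaf.map i₂.op ((ρ f) ^ n * b) = X.presheaf.map i₂.op (ρ d)
    rw [map_mul, map_pow, hcomp, hcomp, mul_comm]
    exact hnd
  obtain ⟨k, hk⟩ := @IsLocalization.Away.exists_of_eq _ _ _ _ _ (ρ f) L2 _ _ h0
  refine ⟨k + n, f ^ k * d, ?_⟩
  rw [map_mul, map_pow, pow_add, mul_assoc]
  exact hk

end Conductor

end Groth.Agent.Helper14.PuncAff

namespace Groth.Agent.Helper14.PuncAff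
universe u
open AlgebraicGeometry CategoryTheory IsLocalRing TopologicalSpace

section Domain
variable (D : Type u) [CommRing D] [IsLocalRing D]

theorem mem_puncturedSpec_iff (p : PrimeSpectrum D) :
    p ∈ FEt.puncturedSpec D ↔ p ≠ closedPoint D := Iff.rfl

theorem basicOpen_le_puncturedSpec {f : D} (hf : f ∈ maximalIdeal D) :
    PrimeSpectrum.basicOpen f ≤ FEt.puncturedSpec D := by
  intro p hp
  show p ≠ closedPoint D
  rintro rfl
  exact hp hf

variable [IsDomain D] [IsNoetherianRing D]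

/-- The punctured spectrum of a Noetherian local domain having a nonzero nonmaximal prime is not
affine. -/
theorem not_isAffineOpen_puncturedSpec_of_domain (q : Ideal D) [hqp : q.IsPrime] (hq0 : q ≠ ⊥)
    (hqm : q ≠ maximalIdeal D) : ¬ IsAffineOpen (FEt.puncturedSpec D) := by
  intro hU
  set R := CommRingCat.of D with hR
  set X := Spec R with hX
  set U : X.Opens := FEt.puncturedSpec D with hUdef
  set ρ := X.presheaf.map (homOfLE le_top : U ⟶ ⊤).op with hρ
  let φ : D →+* Γ(X, U) := ρ.hom.comp (Scheme.ΓSpecIso R).inv.hom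
  letI : Algebra D Γ(X, U) := φ.toAlgebra
  have hφ : ∀ a : D, algebraMap D Γ(X, U) a = ρ ((Scheme.ΓSpecIso R).inv a) := fun a => rfl
  -- basic opens
  have hbo : ∀ a : D, X.basicOpen (algebraMap D Γ(X, U) a) = U ⊓ PrimeSpectrum.basicOpen a := by
    intro a
    rw [hφ, hρ, Scheme.basicOpen_res, basicOpen_eq_of_affine]
  -- `U` is nonempty, so `Γ(X, U)` is a domain and `φ` is injective
  let η : PrimeSpectrum D := ⟨⊥, Ideal.isPrime_bot⟩
  have hηU : η ∈ U := by
    rw [hUdef, mem_puncturedSpec_iff]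
    intro h
    have h1 : (⊥ : Ideal D) = maximalIdeal D := congrArg PrimeSpectrum.asIdeal h
    apply hq0
    exact le_bot_iff.mp (h1 ▸ le_maximalIdeal hqp.ne_top)
  haveI : Nonempty U := ⟨⟨η, hηU⟩⟩
  haveI : IsIntegral X := inferInstance
  haveI : IsDomain Γ(X, U) := inferInstance
  have hinj : Function.Injective (algebraMap D Γ(X, U)) := by
    have h1 : Function.Injective ρ := map_injective_of_isIntegral (X := X) (homOfLE le_top : U ⟶ ⊤)
    have h2 : Function.Injective (Scheme.ΓSpecIso R).inv :=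
      (ConcreteCategory.bijective_of_isIso (Scheme.ΓSpecIso R).inv).1
    exact h1.comp h2
  -- choose `x ∈ q`, `x ≠ 0`
  obtain ⟨x, hxq, hx0⟩ : ∃ x ∈ q, x ≠ 0 := by
    by_contra hcon
    push Not at hcon
    exact hq0 ((Submodule.eq_bot_iff q).mpr hcon)
  have hqle : q ≤ maximalIdeal D := le_maximalIdeal hqp.ne_top
  have hxm : x ∈ maximalIdeal D := hqle hxq
  have hreg : ∀ b : Γ(X, U), algebraMap D Γ(X, U) x * b = 0 → b = 0 := by
    intro b hb
    rcases mul_eq_zero.mp hb with h | h
    · exact absurd (hinj (h.trans (map_zero _).symm)) hx0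
    · exact h
  have hcond : ∀ b : Γ(X, U), ∃ N : ℕ, ∀ a ∈ (maximalIdeal D) ^ N,
      ∃ d : D, algebraMap D Γ(X, U) a * b = algebraMap D Γ(X, U) d := by
    intro b
    -- the conductor ideal
    let c : Ideal D :=
      { carrier := {a | ∃ d : D, algebraMap D Γ(X, U) a * b = algebraMap D Γ(X, U) d}
        add_mem' := by
          rintro a a' ⟨d, hd⟩ ⟨d', hd'⟩
          exact ⟨d + d', by rw [map_add, add_mul, hd, hd', map_add]⟩
        zero_mem' := ⟨0, by simp⟩
        smul_mem' := by
          rintro r a ⟨d, hd⟩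
          exact ⟨r * d, by rw [smul_eq_mul, map_mul, mul_assoc, hd, map_mul]⟩ }
    have hrad : maximalIdeal D ≤ c.radical := by
      intro f hf
      have hfU : X.basicOpen ((Scheme.ΓSpecIso R).inv f) ≤ U := by
        rw [basicOpen_eq_of_affine]
        exact basicOpen_le_puncturedSpec D hf
      obtain ⟨n, d, hnd⟩ := exists_pow_mul_eq_res hU ((Scheme.ΓSpecIso R).inv f) hfU b
      refine ⟨n, (Scheme.ΓSpecIso R).hom d, ?_⟩
      rw [map_pow, hφ, hφ]
      rw [← hρ] at hnd
      rw [hnd]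
      congr 1
      exact (Iso.hom_inv_id_apply (Scheme.ΓSpecIso R) d).symm
    obtain ⟨N, hN⟩ := Ideal.exists_pow_le_of_le_radical_of_fg hrad
      (IsNoetherian.noetherian (maximalIdeal D))
    exact ⟨N, fun a ha => hN ha⟩
  have htop : Ideal.map (algebraMap D Γ(X, U)) (maximalIdeal D) = ⊤ := by
    rw [Ideal.map, ← hU.self_le_iSup_basicOpen_iff]
    intro p hp
    have hp' : p ≠ closedPoint D := hp
    obtain ⟨f, hfm, hfp⟩ : ∃ f ∈ maximalIdeal D, f ∉ p.asIdeal := by
      by_contra hcon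
      push Not at hcon
      apply hp'
      apply PrimeSpectrum.ext
      exact le_antisymm (le_maximalIdeal p.2.ne_top) hcon
    rw [Opens.mem_iSup]
    refine ⟨⟨algebraMap D Γ(X, U) f, ⟨f, hfm, rfl⟩⟩, ?_⟩
    rw [hbo]
    exact ⟨hp, hfp⟩
  have hunit := isUnit_of_conductor (D := D) (B := Γ(X, U)) x hxm hreg hcond htop
  have h1 := Scheme.basicOpen_of_isUnit X hunit
  rw [hbo] at h1
  let qq : PrimeSpectrum D := ⟨q, hqp⟩
  have hqU : qq ∈ U := by
    rw [hUdef, mem_puncturedSpec_iff]
    intro h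
    exact hqm (congrArg PrimeSpectrum.asIdeal h)
  have : qq ∈ U ⊓ PrimeSpectrum.basicOpen x := by rw [h1]; exact hqU
  exact this.2 hxq

end Domain

end Groth.Agent.Helper14.PuncAff
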