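import Mathlib
import Groth.Prelude.Def_FEt
import Groth.Agent.Lib.Helper14.PuncAffC

set_option autoImplicit false

namespace Groth.Agent.Helper14.PuncAff
universe u
open AlgebraicGeometry CategoryTheory IsLocalRing TopologicalSpace

section Local
variable (A : Type u) [CommRing A] [IsLocalRing A] [IsNoetherianRing A]

/-- If the punctured spectrum of a Noetherian local ring is affine, then `dim A ≤ 1`. -/
theorem ringKrullDim_le_one_of_isAffineOpen (hU : IsAffineOpen (FEt.puncturedSpec A)) :
    ringKrullDim A ≤ 1 := by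
  have h1 : ((1 : ℕ) : WithBot ℕ∞) = 1 := rfl
  rw [← h1, ← Ring.krullDimLE_iff, Ring.krullDimLE_one_iff]
  intro p1 hp1
  by_contra hcon
  push Not at hcon
  obtain ⟨hmin, hmax⟩ := hcon
  obtain ⟨p0, hp0min, hp01⟩ := Ideal.exists_minimalPrimes_le (J := p1) (I := ⊥) bot_le
  haveI hp0 : p0.IsPrime := hp0min.1.1
  have hne01 : p0 ≠ p1 := fun h => hmin (h ▸ hp0min)
  -- the domain `D = A / p0`
  let D := A ⧸ p0
  haveI : Nontrivial D := Ideal.Quotient.nontrivial_iff.mpr hp0.ne_top
  haveI : IsLocalRing D :=
    IsLocalRing.of_surjective' (Ideal.Quotient.mk p0) Ideal.Quotient.mk_surjective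
  haveI : IsLocalHom (Ideal.Quotient.mk p0) :=
    IsLocalHom.of_surjective (Ideal.Quotient.mk p0) Ideal.Quotient.mk_surjective
  haveI : IsDomain D := Ideal.Quotient.isDomain p0
  let q : Ideal D := p1.map (Ideal.Quotient.mk p0)
  have hker : RingHom.ker (Ideal.Quotient.mk p0) ≤ p1 := by rw [Ideal.mk_ker]; exact hp01
  haveI hq : q.IsPrime := Ideal.map_isPrime_of_surjective Ideal.Quotient.mk_surjective hker
  have hcomap : q.comap (Ideal.Quotient.mk p0) = p1 := by
    rw [Ideal.comap_map_of_surjective _ Ideal.Quotient.mk_surjective, ← RingHom.ker_eq_comap_bot,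
      sup_eq_left.mpr hker]
  have hq0 : q ≠ ⊥ := by
    intro h
    apply hne01
    have : p1 ≤ p0 := by
      have h2 := (Ideal.map_eq_bot_iff_le_ker _).mp h
      rwa [Ideal.mk_ker] at h2
    exact le_antisymm hp01 this
  have hqm : q ≠ maximalIdeal D := by
    intro h
    apply hmax
    rw [← hcomap, h]
    exact Ideal.comap_isMaximal_of_surjective _ Ideal.Quotient.mk_surjective
  -- transfer affineness
  let f : Spec (CommRingCat.of D) ⟶ Spec (CommRingCat.of A) :=
    Spec.map (CommRingCat.ofHom (Ideal.Quotient.mk p0))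
  haveI : IsClosedImmersion f :=
    IsClosedImmersion.spec_of_surjective _ Ideal.Quotient.mk_surjective
  have hpre : f ⁻¹ᵁ (FEt.puncturedSpec A) = FEt.puncturedSpec D := by
    ext P
    change f P ≠ closedPoint A ↔ P ≠ closedPoint D
    have hfP : (f P).asIdeal = P.asIdeal.comap (Ideal.Quotient.mk p0) := rfl
    constructor
    · intro h1 h2
      apply h1
      apply PrimeSpectrum.ext
      rw [hfP, h2]
      exact IsLocalRing.maximalIdeal_comap (Ideal.Quotient.mk p0)
    · intro h1 h2
      apply h1
      apply PrimeSpectrum.ext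
      have h3 : P.asIdeal.comap (Ideal.Quotient.mk p0) = maximalIdeal A := by
        rw [← hfP, h2]; rfl
      have h4 : (maximalIdeal D).comap (Ideal.Quotient.mk p0) = maximalIdeal A :=
        IsLocalRing.maximalIdeal_comap (Ideal.Quotient.mk p0)
      exact Ideal.comap_injective_of_surjective _ Ideal.Quotient.mk_surjective (h3.trans h4.symm)
  have hUD : IsAffineOpen (FEt.puncturedSpec D) := by
    rw [← hpre]
    exact hU.preimage f
  exact not_isAffineOpen_puncturedSpec_of_domain D q hq0 hqm hUD

/-- If `dim A ≤ 1`, the punctured spectrum is affine. -/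
theorem isAffineOpen_of_ringKrullDim_le_one (h : ringKrullDim A ≤ 1) :
    IsAffineOpen (FEt.puncturedSpec A) := by
  have h1 : ((1 : ℕ) : WithBot ℕ∞) = 1 := rfl
  rw [← h1, ← Ring.krullDimLE_iff, Ring.krullDimLE_one_iff] at h
  by_cases hm : maximalIdeal A ∈ minimalPrimes A
  · -- the punctured spectrum is empty
    have : FEt.puncturedSpec A = ⊥ := by
      ext p
      simp only [Opens.coe_bot, Set.mem_empty_iff_false, iff_false, SetLike.mem_coe]
      intro hp
      apply hp
      apply PrimeSpectrum.ext
      have hle : p.asIdeal ≤ maximalIdeal A := le_maximalIdeal p.2.ne_top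
      exact le_antisymm hle (hm.2 ⟨p.2, bot_le⟩ hle)
    rw [this]
    exact isAffineOpen_bot _
  · -- prime avoidance
    have hfin : (minimalPrimes A).Finite := minimalPrimes.finite_of_isNoetherianRing A
    obtain ⟨f, hfm, hfnot'⟩ : ∃ f ∈ maximalIdeal A, ∀ p ∈ minimalPrimes A, f ∉ p := by
      by_contra hcon
      push Not at hcon
      have hsub : ((maximalIdeal A : Ideal A) : Set A) ⊆
          ⋃ i ∈ (↑hfin.toFinset : Set (Ideal A)), ((i : Ideal A) : Set A) := by
        intro f hf
        obtain ⟨p, hp, hfp⟩ := hcon f hf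
        simp only [Set.mem_iUnion]
        exact ⟨p, by simpa using hp, hfp⟩
      obtain ⟨p, hp, hle⟩ := (Ideal.subset_union_prime (R := A) (s := hfin.toFinset)
        (f := fun i => i) ⊥ ⊥ (fun p hp _ _ => by
          rw [Set.Finite.mem_toFinset] at hp
          exact hp.1.1)).mp hsub
      rw [Set.Finite.mem_toFinset] at hp
      apply hm
      have : p = maximalIdeal A :=
        (Ideal.IsMaximal.eq_of_le (maximalIdeal.isMaximal A) hp.1.1.ne_top hle).symm
      exact this ▸ hp
    have : FEt.puncturedSpec A = PrimeSpectrum.basicOpen f := by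
      apply le_antisymm
      · intro p hp
        have hp' : p ≠ closedPoint A := hp
        rcases h p.asIdeal p.2 with h' | h'
        · exact hfnot' _ h'
        · exact absurd (PrimeSpectrum.ext (IsLocalRing.eq_maximalIdeal h')) hp'
      · exact basicOpen_le_puncturedSpec A hfm
    rw [this]
    have h2 := (isAffineOpen_top (Spec (CommRingCat.of A))).basicOpen
      ((Scheme.ΓSpecIso (CommRingCat.of A)).inv f)
    rwa [basicOpen_eq_of_affine] at h2

/-- **S1574**. -/
theorem isAffineOpen_puncturedSpec_iff :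
    IsAffineOpen (FEt.puncturedSpec A) ↔ ringKrullDim A ≤ 1 :=
  ⟨ringKrullDim_le_one_of_isAffineOpen A, isAffineOpen_of_ringKrullDim_le_one A⟩

end Local

end Groth.Agent.Helper14.PuncAff
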