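import Mathlib
import Groth.Prelude.Def_FEt
import Groth.Agent.Lib.Helper14.PuncAffD
import Groth.Agent.Lib.Helper14.MaxPoints

set_option autoImplicit false

namespace Groth.Agent.Helper14.PuncAff
universe u
open AlgebraicGeometry CategoryTheory IsLocalRing TopologicalSpace Limits

section Sch
variable (X : Scheme.{u}) [IsLocallyNoetherian X] (U : X.Opens) [IsAffineHom U.ι]

/-- **S2851**: the complement of an open subscheme with affine inclusion has codimension `≤ 1`. -/
theorem dim_stalk_le_one (ξ : X) (hξ : ξ ∉ U) (hmax : ∀ η : X, η ∉ U → η ⤳ ξ → η = ξ) :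
    ringKrullDim (X.presheaf.stalk ξ) ≤ 1 := by
  set A := X.presheaf.stalk ξ with hA
  set j := X.fromSpecStalk ξ with hj
  have hpre : j ⁻¹ᵁ U = FEt.puncturedSpec A := by
    ext p
    change j p ∈ U ↔ p ≠ closedPoint A
    constructor
    · intro h hp
      apply hξ
      rw [hp, hj, Scheme.fromSpecStalk_closedPoint] at h
      exact h
    · intro hp
      by_contra hU'
      have hsp : j p ⤳ ξ := by
        have : j p ∈ Set.range j := ⟨p, rfl⟩
        rw [hj, Scheme.range_fromSpecStalk] at this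
        exact this
      have h1 := hmax (j p) hU' hsp
      apply hp
      apply (Scheme.Hom.isEmbedding j).injective
      rw [h1, hj, Scheme.fromSpecStalk_closedPoint]
  haveI : IsAffineHom (pullback.fst j U.ι) := MorphismProperty.pullback_fst _ _ inferInstance
  haveI : IsAffine (pullback j U.ι) := isAffine_of_isAffineHom (pullback.fst j U.ι)
  have haff : IsAffineOpen (j ⁻¹ᵁ U) := IsAffine.of_isIso (pullbackRestrictIsoRestrict j U).inv
  rw [hpre] at haff
  exact ringKrullDim_le_one_of_isAffineOpen A haff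

end Sch

end Groth.Agent.Helper14.PuncAff

namespace Groth.Agent.Helper14.PuncAff
universe u
open AlgebraicGeometry CategoryTheory IsLocalRing TopologicalSpace Limits

section Sch2
variable (X : Scheme.{u}) [IsLocallyNoetherian X] (U : X.Opens)

/-- a point of `closure U ∖ U` has a local ring of dimension `≥ 1` (i.e. `≠ 0`). -/
theorem dim_stalk_ne_zero_of_mem_closure (ξ : X) (hξ : ξ ∉ U) (hcl : ξ ∈ closure (U : Set X)) :
    ringKrullDim (X.presheaf.stalk ξ) ≠ 0 := by
  intro h0
  have hng : ∀ ξ' : X, ξ' ⤳ ξ → ξ' = ξ := by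
    rw [AlgebraicGeometry.ringKrullDim_stalk_eq_coheight] at h0
    have h1 : Order.coheight ξ = 0 := by exact_mod_cast h0
    rw [Order.coheight_eq_zero] at h1
    intro ξ' hξ'
    have h2 : ξ ≤ ξ' := Scheme.le_iff_specializes.mpr hξ'
    have h3 : ξ' ≤ ξ := h1 h2
    exact (hξ'.antisymm (Scheme.le_iff_specializes.mp h3)).eq
  obtain ⟨W, hξW, hW⟩ := MaxPoints.exists_open_maximal_specializes ξ
  obtain ⟨u, huW, huU⟩ := mem_closure_iff.mp hcl W.1 W.2 hξW
  obtain ⟨ζ, hζmax, hζu⟩ := MaxPoints.exists_maximal_specializes u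
  have hζW : ζ ∈ W := hζu.mem_open W.2 huW
  have hζU : ζ ∈ U := hζu.mem_open U.2 huU
  have h1 : ζ ⤳ ξ := hW ζ hζW hζmax
  have h2 : ζ = ξ := hng ζ h1
  exact hξ (h2 ▸ hζU)

variable [IsAffineHom U.ι]

/-- **S12210**. -/
theorem dim_stalk_eq_one (ξ : X) (hξ : ξ ∉ U) (hmax : ∀ η : X, η ∉ U → η ⤳ ξ → η = ξ)
    (hcl : ξ ∈ closure (U : Set X)) : ringKrullDim (X.presheaf.stalk ξ) = 1 := by
  have h1 := dim_stalk_le_one X U ξ hξ hmax
  have h0 := dim_stalk_ne_zero_of_mem_closure X U ξ hξ hcl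
  rw [AlgebraicGeometry.ringKrullDim_stalk_eq_coheight] at h1 h0 ⊢
  have h1' : Order.coheight ξ ≤ 1 := by exact_mod_cast h1
  have h0' : Order.coheight ξ ≠ 0 := by
    intro h; apply h0; rw [h]; rfl
  have : Order.coheight ξ = 1 :=
    le_antisymm h1' (Order.one_le_iff_pos.mpr (pos_iff_ne_zero.mpr h0'))
  rw [this]; rfl

end Sch2

end Groth.Agent.Helper14.PuncAff
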