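import Mathlib
import Groth.Prelude.Def_Algz

set_option autoImplicit false
universe u
open CategoryTheory CategoryTheory.Limits AlgebraicGeometry Opposite TopologicalSpace

namespace Groth.Agent.Helper14.CohFormal

variable {A : Type u} [CommRing A] {X : Scheme.{u}} [X.Over (Spec (CommRingCat.of A))]

lemma smulModΓ_naturality {M N : X.Modules} (f : M ⟶ N) (r : Coh.Γtop X) :
    Formal.smulModΓ M r ≫ f = f ≫ Formal.smulModΓ N r := by
  apply SheafOfModules.hom_ext
  apply PresheafOfModules.hom_ext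
  intro U
  ext m
  change (f.val.app U).hom (Coh.resTop X U r • m) = Coh.resTop X U r • (f.val.app U).hom m
  exact (f.val.app U).hom.map_smul _ _

lemma smulMod_naturality {M N : X.Modules} (f : M ⟶ N) (a : A) :
    Formal.smulMod A M a ≫ f = f ≫ Formal.smulMod A N a :=
  smulModΓ_naturality f _

lemma smulFamily_comp_eq_zero {J : Ideal A} {M N : X.Modules} (hN : Formal.KilledBy J N)
    (f : M ⟶ N) : Formal.smulFamily J M ≫ f = 0 := by
  apply Sigma.hom_ext
  intro a
  rw [comp_zero, ← Category.assoc]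
  unfold Formal.smulFamily
  rw [Sigma.ι_desc, smulMod_naturality, hN a.1 a.2, comp_zero]


/-- `p` is a cokernel of the multiplication family of `J` on its source. -/
def IsCokerOf (J : Ideal A) {M N : X.Modules} (p : M ⟶ N) : Prop :=
  Epi p ∧ Formal.smulFamily J M ≫ p = 0 ∧
    ∀ (T : X.Modules) (ψ : M ⟶ T), Formal.smulFamily J M ≫ ψ = 0 → ∃ ψ' : N ⟶ T, p ≫ ψ' = ψ

lemma isCokerOf_of_isIso_desc (J : Ideal A) {M N : X.Modules} (p : M ⟶ N)
    (h : Formal.smulFamily J M ≫ p = 0) [IsIso (cokernel.desc _ p h)] : IsCokerOf J p := by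
  have hp : p = cokernel.π (Formal.smulFamily J M) ≫ cokernel.desc _ p h :=
    (cokernel.π_desc _ _ _).symm
  refine ⟨?_, h, fun T ψ hψ => ?_⟩
  · rw [hp]; infer_instance
  · refine ⟨inv (cokernel.desc _ p h) ≫ cokernel.desc _ ψ hψ, ?_⟩
    calc p ≫ inv (cokernel.desc _ p h) ≫ cokernel.desc _ ψ hψ
        = (cokernel.π (Formal.smulFamily J M) ≫ cokernel.desc _ p h) ≫
            inv (cokernel.desc _ p h) ≫ cokernel.desc _ ψ hψ := by rw [← hp]
      _ = ψ := by rw [Category.assoc, IsIso.hom_inv_id_assoc, cokernel.π_desc]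

variable {I : Ideal A} {F : ℕᵒᵖ ⥤ X.Modules} (hF : Formal.IsCohFormal I F)

include hF in
lemma isCokerOf_succ (n : ℕ) :
    IsCokerOf (I ^ (n + 1)) (F.map (homOfLE (Nat.le_succ n)).op) := by
  obtain ⟨h, hiso⟩ := hF.2.2 n
  haveI := hiso
  exact isCokerOf_of_isIso_desc _ _ h

lemma tr_succ (F : ℕᵒᵖ ⥤ X.Modules) {n k : ℕ} (h : n ≤ k) :
    ARSys.tr F (h.trans (Nat.le_succ k)) = F.map (homOfLE (Nat.le_succ k)).op ≫ ARSys.tr F h := by
  unfold ARSys.tr
  rw [← F.map_comp]
  rfl

include hF in
theorem isCokerOf_tr {n k : ℕ} (h : n ≤ k) : IsCokerOf (I ^ (n + 1)) (ARSys.tr F h) := by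
  induction k, h using Nat.le_induction with
  | base =>
    have e : ARSys.tr F (le_refl n) = 𝟙 _ := by
      unfold ARSys.tr
      exact F.map_id _
    rw [e]
    refine ⟨inferInstance, ?_, fun T ψ _ => ⟨ψ, Category.id_comp _⟩⟩
    rw [Category.comp_id]
    have := smulFamily_comp_eq_zero (hF.2.1 n) (𝟙 (F.obj (op n)))
    rwa [Category.comp_id] at this
  | succ k h ih =>
    obtain ⟨hq1, hq2, hq3⟩ := isCokerOf_succ hF k
    obtain ⟨hp1, hp2, hp3⟩ := ih
    rw [tr_succ F h]
    refine ⟨?_, ?_, fun T ψ hψ => ?_⟩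
    · haveI := hq1; haveI := hp1; infer_instance
    · apply Sigma.hom_ext
      intro a
      rw [comp_zero, ← Category.assoc]
      unfold Formal.smulFamily
      rw [Sigma.ι_desc, ← Category.assoc, smulMod_naturality, Category.assoc]
      have : Formal.smulMod A (F.obj (op k)) (a : A) ≫ ARSys.tr F h = 0 := by
        have := congrArg (fun t => Sigma.ι (fun _ : (I ^ (n + 1) : Ideal A) => F.obj (op k)) a ≫ t) hp2
        simp only [comp_zero] at this
        rw [← Category.assoc] at this
        unfold Formal.smulFamily at this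
        rwa [Sigma.ι_desc] at this
      rw [this, comp_zero]
    · -- ψ kills I^{k+1}
      have hψ' : Formal.smulFamily (I ^ (k + 1)) (F.obj (op (k + 1))) ≫ ψ = 0 := by
        apply Sigma.hom_ext
        intro a
        rw [comp_zero, ← Category.assoc]
        unfold Formal.smulFamily
        rw [Sigma.ι_desc]
        have ha : (a : A) ∈ I ^ (n + 1) := Ideal.pow_le_pow_right (Nat.succ_le_succ h) a.2
        have := congrArg (fun t => Sigma.ι (fun _ : (I ^ (n + 1) : Ideal A) => F.obj (op (k + 1)))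
          ⟨a, ha⟩ ≫ t) hψ
        simp only [comp_zero] at this
        rw [← Category.assoc] at this
        unfold Formal.smulFamily at this
        rwa [Sigma.ι_desc] at this
      obtain ⟨ψ₁, hψ₁⟩ := hq3 T ψ hψ'
      have hψ₁' : Formal.smulFamily (I ^ (n + 1)) (F.obj (op k)) ≫ ψ₁ = 0 := by
        apply Sigma.hom_ext
        intro a
        rw [comp_zero, ← Category.assoc]
        unfold Formal.smulFamily
        rw [Sigma.ι_desc]
        haveI := hq1
        rw [← cancel_epi (F.map (homOfLE (Nat.le_succ k)).op), comp_zero, ← Category.assoc,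
          ← smulMod_naturality, Category.assoc, hψ₁]
        have := congrArg (fun t => Sigma.ι (fun _ : (I ^ (n + 1) : Ideal A) => F.obj (op (k + 1)))
          a ≫ t) hψ
        simp only [comp_zero] at this
        rw [← Category.assoc] at this
        unfold Formal.smulFamily at this
        rwa [Sigma.ι_desc] at this
      obtain ⟨ψ₂, hψ₂⟩ := hp3 T ψ₁ hψ₁'
      exact ⟨ψ₂, by rw [Category.assoc, hψ₂, hψ₁]⟩


include hF in
lemma epi_tr {n k : ℕ} (h : n ≤ k) : Epi (ARSys.tr F h) := (isCokerOf_tr hF h).1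

variable {G : ℕᵒᵖ ⥤ X.Modules} (hG : Formal.IsCohFormal I G)

include hF hG in
/-- factorisation of a levelwise map out of a re-indexed system. -/
theorem existsUnique_factor (m : ℕ → ℕ) (hm : Monotone m)
    (hle : ∀ n : ℕ, n ≤ m n) (π : DerCA.reindex F hm ⟶ F)
    (hπ : ∀ n : ℕ, π.app (op n) = F.map (homOfLE (hle n)).op) (α : DerCA.reindex F hm ⟶ G) :
    ∃! β : F ⟶ G, π ≫ β = α := by
  have hπ' : ∀ n : ℕ, π.app (op n) = ARSys.tr F (hle n) := hπ
  have hex : ∀ n : ℕ, ∃ b : F.obj (op n) ⟶ G.obj (op n), π.app (op n) ≫ b = α.app (op n) := by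
    intro n
    rw [hπ']
    exact (isCokerOf_tr hF (hle n)).2.2 _ (α.app (op n)) (smulFamily_comp_eq_zero (hG.2.1 n) _)
  choose b hb using hex
  have hepi : ∀ n : ℕ, Epi (π.app (op n)) := fun n => by rw [hπ']; exact epi_tr hF _
  have hnat : ∀ (x y : ℕᵒᵖ) (f : x ⟶ y), F.map f ≫ b y.unop = b x.unop ≫ G.map f := by
    intro x y f
    haveI := hepi x.unop
    rw [← cancel_epi (π.app (op x.unop))]
    have e1 : π.app (op x.unop) ≫ F.map f = (DerCA.reindex F hm).map f ≫ π.app (op y.unop) :=
      (π.naturality f).symm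
    rw [← Category.assoc, e1, Category.assoc, hb, ← Category.assoc, hb]
    exact α.naturality f
  refine ⟨{ app := fun x => b x.unop, naturality := hnat }, ?_, fun β' hβ' => ?_⟩
  · apply NatTrans.ext
    funext x
    exact hb x.unop
  · apply NatTrans.ext
    funext x
    haveI := hepi x.unop
    change β'.app (op x.unop) = b x.unop
    rw [← cancel_epi (π.app (op x.unop))]
    have := congrArg (fun t => t.app (op x.unop)) hβ'
    simp only [NatTrans.comp_app] at this
    rw [this]
    exact (hb x.unop).symm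


/-- the canonical levelwise map from a re-indexed system. -/
noncomputable def reindexπ (F : ℕᵒᵖ ⥤ X.Modules) {m : ℕ → ℕ} (hm : Monotone m)
    (hle : ∀ n : ℕ, n ≤ m n) : DerCA.reindex F hm ⟶ F where
  app x := F.map (homOfLE (hle x.unop)).op
  naturality x y f := by
    change F.map _ ≫ F.map _ = F.map _ ≫ F.map _
    rw [← F.map_comp, ← F.map_comp]
    congr 1

include hF hG in
theorem nonempty_iso_of_isProIsomorphic (h : Algz.IsProIsomorphic F G) : Nonempty (F ≅ G) := by
  obtain ⟨m, hm, hle, a, ha⟩ := h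
  set P := reindexπ F hm hle with hP
  obtain ⟨β, hβ, -⟩ := existsUnique_factor hF hG m hm hle P (fun n => rfl) a
  have hβn : ∀ n : ℕ, P.app (op n) ≫ β.app (op n) = a.app (op n) := fun n =>
    congrArg (fun t => t.app (op n)) hβ
  have hepiP : ∀ n : ℕ, Epi (P.app (op n)) := fun n => epi_tr hF (hle n)
  have hiso : ∀ x : ℕᵒᵖ, IsIso (β.app x) := by
    intro x
    obtain ⟨n, rfl⟩ : ∃ n, x = op n := ⟨x.unop, rfl⟩
    obtain ⟨k, hk, b, hb1, hb2⟩ := ha n
    haveI hepiG : Epi (ARSys.tr G hk) := epi_tr hG hk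
    haveI hepiF : Epi (ARSys.tr F hk) := epi_tr hF hk
    haveI := hepiP k
    -- epi
    haveI : Epi (β.app (op n)) := by
      have e : ARSys.tr G hk = (b ≫ P.app (op n)) ≫ β.app (op n) := by
        rw [Category.assoc, hβn, hb2]
      exact epi_of_epi_fac e.symm
    -- split mono
    obtain ⟨γ', hγ'⟩ := (isCokerOf_tr hG hk).2.2 _ (b ≫ P.app (op n))
      (smulFamily_comp_eq_zero (hF.2.1 n) _)
    have hsplit : β.app (op n) ≫ γ' = 𝟙 _ := by
      rw [← cancel_epi (ARSys.tr F hk), ← cancel_epi (P.app (op k))]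
      have nat : ARSys.tr F hk ≫ β.app (op n) = β.app (op k) ≫ ARSys.tr G hk :=
        β.naturality (homOfLE hk).op
      rw [Category.comp_id, ← Category.assoc (ARSys.tr F hk), nat, Category.assoc, hγ',
        ← Category.assoc, ← Category.assoc, hβn k, hb1]
      exact P.naturality (homOfLE hk).op
    haveI : Mono (β.app (op n)) := mono_of_mono_fac hsplit
    exact isIso_of_mono_of_epi _
  haveI : IsIso β := NatIso.isIso_of_isIso_app β
  exact ⟨asIso β⟩

end Groth.Agent.Helper14.CohFormal
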