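import Mathlib
import Groth.Agent.Lib.Helper14.CohFormalA
import Groth.Agent.Lib.Helper13.FinTypeRestrict
import Groth.Agent.Lib.Helper13.Qcqs

set_option autoImplicit false
universe u
open CategoryTheory CategoryTheory.Limits AlgebraicGeometry Opposite TopologicalSpace

namespace Groth.Agent.Helper14.CohFormal

variable {A : Type u} [CommRing A]

section Restrict

variable {X : Scheme.{u}} (U : X.Opens)

/-- restriction of multiplication by a global function. -/
lemma restrict_smulModΓ (M : X.Modules) (r : Coh.Γtop X) :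
    (Scheme.Modules.restrictFunctor U.ι).map (Formal.smulModΓ M r) =
      Formal.smulModΓ (M.restrict U.ι) (U.ι.appTop.hom r) := by
  apply SheafOfModules.hom_ext
  apply PresheafOfModules.hom_ext
  intro V
  ext m
  obtain ⟨V⟩ := V
  let r' : Γ(X, ⊤) := r
  change (X.presheaf.map (homOfLE (le_top : U.ι ''ᵁ V ≤ ⊤)).op r' : Γ(X, U.ι ''ᵁ V)) •
      (show Γ(M, U.ι ''ᵁ V) from m) =
    ((U.ι.appIso V).inv ((U : Scheme.{u}).presheaf.map (homOfLE (le_top : V ≤ ⊤)).op
      (U.ι.appTop r')) : Γ(X, U.ι ''ᵁ V)) • (show Γ(M, U.ι ''ᵁ V) from m)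
  congr 1
  have h1 : X.presheaf.map (homOfLE (le_top : U.ι ''ᵁ V ≤ ⊤)).op ≫ (U.ι.appIso V).hom =
      U.ι.appTop ≫ (U : Scheme.{u}).presheaf.map (homOfLE (le_top : V ≤ ⊤)).op := by
    rw [Scheme.Hom.appIso_hom', Scheme.Hom.map_appLE]
    rfl
  have h2 := congr($h1 r')
  have h3 := congrArg (U.ι.appIso V).inv h2
  simp only [CommRingCat.comp_apply] at h3
  rw [← h3]
  exact (congr($((U.ι.appIso V).hom_inv_id) _)).symm


variable [hX : X.Over (Spec (CommRingCat.of A))] [hU : U.toScheme.Over (Spec (CommRingCat.of A))]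
  (hc : (U.toScheme ↘ Spec (CommRingCat.of A)) = U.ι ≫ (X ↘ Spec (CommRingCat.of A)))

include hc in
lemma restrict_smulMod (M : X.Modules) (a : A) :
    (Scheme.Modules.restrictFunctor U.ι).map (Formal.smulMod A M a) =
      Formal.smulMod A (M.restrict U.ι) a := by
  unfold Formal.smulMod
  rw [restrict_smulModΓ]
  congr 1
  unfold Coh.toGlobal
  rw [hc]
  rfl

include hc in
lemma killedBy_restrict {J : Ideal A} {M : X.Modules} (h : Formal.KilledBy J M) :
    Formal.KilledBy J (M.restrict U.ι) := by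
  intro a ha
  rw [← restrict_smulMod U hc, h a ha]
  exact (Scheme.Modules.restrictFunctor U.ι).map_zero _ _

lemma smulFamily_comp_eq_zero_iff {J : Ideal A} {Y : Scheme.{u}} [Y.Over (Spec (CommRingCat.of A))]
    {M T : Y.Modules} (ψ : M ⟶ T) :
    Formal.smulFamily J M ≫ ψ = 0 ↔ ∀ a ∈ J, Formal.smulMod A M a ≫ ψ = 0 := by
  constructor
  · intro h a ha
    have := congrArg (fun t => Sigma.ι (fun _ : J => M) ⟨a, ha⟩ ≫ t) h
    simp only [comp_zero] at this
    rw [← Category.assoc] at this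
    unfold Formal.smulFamily at this
    rwa [Sigma.ι_desc] at this
  · intro h
    apply Sigma.hom_ext
    intro a
    rw [comp_zero, ← Category.assoc]
    unfold Formal.smulFamily
    rw [Sigma.ι_desc]
    exact h a.1 a.2

include hc in
theorem isCokerOf_restrict {J : Ideal A} {M N : X.Modules} {q : M ⟶ N} (h : IsCokerOf J q) :
    IsCokerOf J ((Scheme.Modules.restrictFunctor U.ι).map q) := by
  obtain ⟨h1, h2, h3⟩ := h
  let adj := Scheme.Modules.restrictAdjunction U.ι
  refine ⟨?_, ?_, fun T ψ hψ => ?_⟩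
  · haveI := h1
    infer_instance
  · rw [smulFamily_comp_eq_zero_iff]
    intro a ha
    rw [← restrict_smulMod U hc, ← Functor.map_comp,
      (smulFamily_comp_eq_zero_iff q).mp h2 a ha]
    exact (Scheme.Modules.restrictFunctor U.ι).map_zero _ _
  · have hψ' : Formal.smulFamily J M ≫ adj.homEquiv _ _ ψ = 0 := by
      rw [smulFamily_comp_eq_zero_iff]
      intro a ha
      rw [← Adjunction.homEquiv_naturality_left, restrict_smulMod U hc,
        (smulFamily_comp_eq_zero_iff ψ).mp hψ a ha]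
      rw [Adjunction.homEquiv_unit, Functor.map_zero, comp_zero]
    obtain ⟨χ, hχ⟩ := h3 _ _ hψ'
    refine ⟨(adj.homEquiv _ _).symm χ, ?_⟩
    rw [← Adjunction.homEquiv_naturality_left_symm, hχ, Equiv.symm_apply_apply]

end Restrict

section Converse

variable {X : Scheme.{u}} [X.Over (Spec (CommRingCat.of A))]

theorem exists_isIso_desc_of_isCokerOf {J : Ideal A} {M N : X.Modules} {q : M ⟶ N}
    (h : IsCokerOf J q) :
    ∃ h' : Formal.smulFamily J M ≫ q = 0, IsIso (cokernel.desc _ q h') := by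
  obtain ⟨h1, h2, h3⟩ := h
  refine ⟨h2, ?_⟩
  haveI := h1
  obtain ⟨ψ', hψ'⟩ := h3 _ (cokernel.π (Formal.smulFamily J M)) (cokernel.condition _)
  have hsplit : cokernel.desc _ q h2 ≫ ψ' = 𝟙 _ := by
    rw [← cancel_epi (cokernel.π (Formal.smulFamily J M)), ← Category.assoc, cokernel.π_desc, hψ',
      Category.comp_id]
  haveI : Mono (cokernel.desc _ q h2) := mono_of_mono_fac hsplit
  haveI : Epi (cokernel.desc _ q h2) := by
    have : cokernel.π (Formal.smulFamily J M) ≫ cokernel.desc _ q h2 = q := cokernel.π_desc _ _ _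
    exact epi_of_epi_fac this
  exact isIso_of_mono_of_epi _

end Converse


section RestrictSys

variable {X : Scheme.{u}} (U : X.Opens)
  [hX : X.Over (Spec (CommRingCat.of A))] [hU : U.toScheme.Over (Spec (CommRingCat.of A))]
  (hc : (U.toScheme ↘ Spec (CommRingCat.of A)) = U.ι ≫ (X ↘ Spec (CommRingCat.of A)))

include hc in
theorem isCohFormal_restrictSys {I : Ideal A} {G : ℕᵒᵖ ⥤ X.Modules} (hG : Formal.IsCohFormal I G) :
    Formal.IsCohFormal I (Algz.restrictSys U G) := by
  refine ⟨fun n => ?_, fun n => ?_, fun n => ?_⟩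
  · obtain ⟨h1, h2⟩ := hG.1 n
    haveI := h1
    haveI := h2
    exact ⟨Scheme.Modules.isQuasicoherent_restrictFunctor U.ι _,
      Groth.Agent.Helper13.FinType.isFiniteType_restrict U.ι _⟩
  · exact killedBy_restrict U hc (hG.2.1 n)
  · exact exists_isIso_desc_of_isCokerOf (isCokerOf_restrict U hc (isCokerOf_succ hG n))

end RestrictSys

section ProIso

variable {C D : Type*} [Category C] [Category D]

theorem isProIsomorphic_map (R : C ⥤ D) {X Y : ARSys.PS C} (h : Algz.IsProIsomorphic X Y) :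
    Algz.IsProIsomorphic (X ⋙ R) (Y ⋙ R) := by
  obtain ⟨m, hm, hle, a, ha⟩ := h
  refine ⟨m, hm, hle, Functor.whiskerRight a R, fun n => ?_⟩
  obtain ⟨k, hk, b, hb1, hb2⟩ := ha n
  refine ⟨k, hk, R.map b, ?_, ?_⟩
  · change R.map (a.app (op k)) ≫ R.map b = R.map (ARSys.tr (DerCA.reindex X hm) hk)
    rw [← R.map_comp, hb1]
  · change R.map b ≫ R.map (a.app (op n)) = R.map (ARSys.tr Y hk)
    rw [← R.map_comp, hb2]

theorem isProIsomorphic_of_iso_left {X X' Y : ARSys.PS C} (e : X' ≅ X)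
    (h : Algz.IsProIsomorphic X Y) : Algz.IsProIsomorphic X' Y := by
  obtain ⟨m, hm, hle, a, ha⟩ := h
  let e' : DerCA.reindex X' hm ≅ DerCA.reindex X hm := Functor.isoWhiskerLeft (Monotone.functor hm).op e
  refine ⟨m, hm, hle, e'.hom ≫ a, fun n => ?_⟩
  obtain ⟨k, hk, b, hb1, hb2⟩ := ha n
  refine ⟨k, hk, b ≫ e'.inv.app (op n), ?_, ?_⟩
  · rw [NatTrans.comp_app, Category.assoc, ← Category.assoc (a.app (op k)), hb1]
    have nat : ARSys.tr (DerCA.reindex X' hm) hk ≫ e'.hom.app (op n) =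
        e'.hom.app (op k) ≫ ARSys.tr (DerCA.reindex X hm) hk := e'.hom.naturality (homOfLE hk).op
    rw [← Category.assoc, ← nat, Category.assoc, ← NatTrans.comp_app, e'.hom_inv_id,
      NatTrans.id_app, Category.comp_id]
  · rw [NatTrans.comp_app, Category.assoc, ← Category.assoc (e'.inv.app (op n)),
      ← NatTrans.comp_app, e'.inv_hom_id, NatTrans.id_app, Category.id_comp, hb2]

end ProIso


section SectSys

variable (A)

/-- for quasi-coherent terms, the system `(H⁰(U, G_n))~` restricts back to `G` on `U`. -/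
theorem nonempty_restrictSys_sectSys_iso (U : (Spec (CommRingCat.of A)).Opens) [QuasiCompact U.ι]
    (G : ℕᵒᵖ ⥤ (U : Scheme.{u}).Modules) (hG : ∀ x : ℕᵒᵖ, (G.obj x).IsQuasicoherent) :
    Nonempty (Algz.restrictSys U (Algz.sectSys A U G) ≅ G) := by
  let τ := Scheme.Modules.fromTildeΓNatTrans (R := CommRingCat.of A)
  let P := Scheme.Modules.pushforward U.ι
  let Rr := Scheme.Modules.restrictFunctor U.ι
  -- first iso: tilde Γ of the pushforward is the pushforward
  let t1 : (G ⋙ P) ⋙ (moduleSpecΓFunctor (R := CommRingCat.of A) ⋙ tilde.functor (CommRingCat.of A)) ⟶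
      (G ⋙ P) ⋙ 𝟭 _ := Functor.whiskerLeft (G ⋙ P) τ
  have ht1 : ∀ x : ℕᵒᵖ, IsIso (t1.app x) := by
    intro x
    haveI := hG x
    haveI : (P.obj (G.obj x)).IsQuasicoherent :=
      Groth.Agent.Helper13.Qcqs.isQuasicoherent_pushforward_of_qcqs U.ι (G.obj x)
    exact Scheme.Modules.isIso_fromTildeΓ_of_isQuasicoherent (P.obj (G.obj x))
  haveI : ∀ x : ℕᵒᵖ, IsIso (t1.app x) := ht1
  haveI : IsIso t1 := NatIso.isIso_of_isIso_app t1
  let e0 := asIso t1
  let e1 : Algz.sectSys A U G ≅ G ⋙ P := e0 ≪≫ Functor.rightUnitor _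
  let e2 : (G ⋙ P) ⋙ Rr ≅ G :=
    Functor.associator _ _ _ ≪≫ Functor.isoWhiskerLeft G (asIso (Scheme.Modules.restrictAdjunction U.ι).counit) ≪≫
      Functor.rightUnitor _
  exact ⟨Functor.isoWhiskerRight e1 Rr ≪≫ e2⟩

end SectSys

end Groth.Agent.Helper14.CohFormal
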