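import Mathlib
import Groth.Agent.Lib.Helper14.CohFormalB
import Groth.Agent.Lib.Helper13.FittPullback

set_option autoImplicit false
universe u
open CategoryTheory CategoryTheory.Limits AlgebraicGeometry Opposite TopologicalSpace

namespace Groth.Agent.Helper14.CohFormal

variable {A : Type u} [CommRing A]

section Adj

variable {X Y : Scheme.{u}} [X.Over (Spec (CommRingCat.of A))] [Y.Over (Spec (CommRingCat.of A))]
  {L : Y.Modules ⥤ X.Modules} {R : X.Modules ⥤ Y.Modules} (adj : L ⊣ R)
  (hL : ∀ (M : Y.Modules) (a : A), L.map (Formal.smulMod A M a) = Formal.smulMod A (L.obj M) a)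

include hL in
lemma killedBy_map_of_adj [L.PreservesZeroMorphisms] {J : Ideal A} {M : Y.Modules}
    (h : Formal.KilledBy J M) : Formal.KilledBy J (L.obj M) := by
  intro a ha
  rw [← hL, h a ha, Functor.map_zero]

include adj hL in
theorem isCokerOf_map_of_adj [L.PreservesZeroMorphisms] [R.PreservesZeroMorphisms]
    {J : Ideal A} {M N : Y.Modules} {q : M ⟶ N} (h : IsCokerOf J q) : IsCokerOf J (L.map q) := by
  obtain ⟨h1, h2, h3⟩ := h
  refine ⟨?_, ?_, fun T ψ hψ => ?_⟩
  · haveI := h1
    haveI := adj.isLeftAdjoint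
    infer_instance
  · rw [smulFamily_comp_eq_zero_iff]
    intro a ha
    rw [← hL, ← Functor.map_comp, (smulFamily_comp_eq_zero_iff q).mp h2 a ha, Functor.map_zero]
  · have hψ' : Formal.smulFamily J M ≫ adj.homEquiv _ _ ψ = 0 := by
      rw [smulFamily_comp_eq_zero_iff]
      intro a ha
      rw [← Adjunction.homEquiv_naturality_left, hL,
        (smulFamily_comp_eq_zero_iff ψ).mp hψ a ha]
      rw [Adjunction.homEquiv_unit, Functor.map_zero, comp_zero]
    obtain ⟨χ, hχ⟩ := h3 _ _ hψ'
    refine ⟨(adj.homEquiv _ _).symm χ, ?_⟩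
    rw [← Adjunction.homEquiv_naturality_left_symm, hχ, Equiv.symm_apply_apply]

end Adj

section Pushforward

variable {X Y : Scheme.{u}} (f : X ⟶ Y)

lemma pushforward_smulModΓ (N : X.Modules) (r : Coh.Γtop Y) :
    (Scheme.Modules.pushforward f).map (Formal.smulModΓ N (f.appTop.hom r)) =
      Formal.smulModΓ ((Scheme.Modules.pushforward f).obj N) r := by
  apply SheafOfModules.hom_ext
  apply PresheafOfModules.hom_ext
  intro V
  ext m
  obtain ⟨V⟩ := V
  let r' : Γ(Y, ⊤) := r
  change (X.presheaf.map (homOfLE (le_top : f ⁻¹ᵁ V ≤ ⊤)).op (f.appTop r') : Γ(X, f ⁻¹ᵁ V)) •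
      (show Γ(N, f ⁻¹ᵁ V) from m) =
    (f.app V (Y.presheaf.map (homOfLE (le_top : V ≤ ⊤)).op r') : Γ(X, f ⁻¹ᵁ V)) •
      (show Γ(N, f ⁻¹ᵁ V) from m)
  congr 1
  have := congr($(f.naturality (homOfLE (le_top : V ≤ ⊤)).op) r')
  exact this.symm

variable [X.Over (Spec (CommRingCat.of A))] [Y.Over (Spec (CommRingCat.of A))]
  (hf : f ≫ (Y ↘ Spec (CommRingCat.of A)) = X ↘ Spec (CommRingCat.of A))

include hf in
lemma pushforward_smulMod (N : X.Modules) (a : A) :
    (Scheme.Modules.pushforward f).map (Formal.smulMod A N a) =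
      Formal.smulMod A ((Scheme.Modules.pushforward f).obj N) a := by
  unfold Formal.smulMod
  rw [← pushforward_smulModΓ]
  congr 2
  unfold Coh.toGlobal
  rw [← hf]
  rfl

include hf in
lemma pullback_smulMod (M : Y.Modules) (a : A) :
    (Scheme.Modules.pullback f).map (Formal.smulMod A M a) =
      Formal.smulMod A ((Scheme.Modules.pullback f).obj M) a := by
  let adj := Scheme.Modules.pullbackPushforwardAdjunction f
  apply (adj.homEquiv _ _).injective
  rw [Adjunction.homEquiv_unit, Adjunction.homEquiv_unit, pushforward_smulMod f hf]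
  have h1 := smulMod_naturality (adj.unit.app M) a
  have h2 := adj.unit.naturality (Formal.smulMod A M a)
  exact h2.symm.trans h1

include hf in
theorem isCohFormal_pullback {I : Ideal A} {G : ℕᵒᵖ ⥤ Y.Modules} (hG : Formal.IsCohFormal I G) :
    Formal.IsCohFormal I (G ⋙ Scheme.Modules.pullback f) := by
  refine ⟨fun n => ?_, fun n => ?_, fun n => ?_⟩
  · obtain ⟨h1, h2⟩ := hG.1 n
    haveI := h1
    haveI := h2
    exact ⟨Groth.Agent.Helper13.Pullback.isQuasicoherent_pullback f _,
      Groth.Agent.Helper13.FittSheaf.isFiniteType_pullback f _⟩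
  · exact killedBy_map_of_adj (pullback_smulMod f hf) (hG.2.1 n)
  · exact exists_isIso_desc_of_isCokerOf (isCokerOf_map_of_adj
      (Scheme.Modules.pullbackPushforwardAdjunction f) (pullback_smulMod f hf) (isCokerOf_succ hG n))

end Pushforward

end Groth.Agent.Helper14.CohFormal
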