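import Mathlib
import Groth.Agent.Lib.Helper14.CohFormalC

set_option autoImplicit false
universe u
open CategoryTheory CategoryTheory.Limits AlgebraicGeometry Opposite TopologicalSpace

namespace Groth.Agent.Helper14.CohFormal

variable {A : Type u} [CommRing A] {X : Scheme.{u}} [X.Over (Spec (CommRingCat.of A))]

lemma isCokerOf_π (J : Ideal A) (M : X.Modules) :
    IsCokerOf J (cokernel.π (Formal.smulFamily J M)) :=
  ⟨inferInstance, cokernel.condition _, fun _ ψ hψ => ⟨cokernel.desc _ ψ hψ, cokernel.π_desc _ _ _⟩⟩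

lemma IsCokerOf.iso_comp {J : Ideal A} {M M' N : X.Modules} (e : M' ≅ M) {p : M ⟶ N}
    (h : IsCokerOf J p) : IsCokerOf J (e.hom ≫ p) := by
  obtain ⟨h1, h2, h3⟩ := h
  refine ⟨?_, ?_, fun T ψ hψ => ?_⟩
  · haveI := h1; infer_instance
  · rw [smulFamily_comp_eq_zero_iff]
    intro a ha
    rw [← Category.assoc, smulMod_naturality, Category.assoc,
      (smulFamily_comp_eq_zero_iff p).mp h2 a ha, comp_zero]
  · have : Formal.smulFamily J M ≫ e.inv ≫ ψ = 0 := by
      rw [smulFamily_comp_eq_zero_iff]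
      intro a ha
      rw [← Category.assoc, smulMod_naturality, Category.assoc,
        (smulFamily_comp_eq_zero_iff ψ).mp hψ a ha, comp_zero]
    obtain ⟨ψ', hψ'⟩ := h3 T _ this
    exact ⟨ψ', by rw [Category.assoc, hψ', e.hom_inv_id_assoc]⟩

/-- two cokernels of the same family are uniquely isomorphic. -/
theorem IsCokerOf.exists_iso {J : Ideal A} {M N N' : X.Modules} {p : M ⟶ N} {p' : M ⟶ N'}
    (h : IsCokerOf J p) (h' : IsCokerOf J p') : ∃ ε : N ≅ N', p ≫ ε.hom = p' := by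
  obtain ⟨a, ha⟩ := h.2.2 _ p' h'.2.1
  obtain ⟨b, hb⟩ := h'.2.2 _ p h.2.1
  haveI := h.1
  haveI := h'.1
  refine ⟨⟨a, b, ?_, ?_⟩, ha⟩
  · rw [← cancel_epi p, ← Category.assoc, ha, hb, Category.comp_id]
  · rw [← cancel_epi p', ← Category.assoc, hb, ha, Category.comp_id]

lemma IsCokerOf.isIso_of_killedBy {J : Ideal A} {M N : X.Modules} {p : M ⟶ N}
    (h : IsCokerOf J p) (hM : Formal.KilledBy J M) : IsIso p := by
  obtain ⟨ψ', hψ'⟩ := h.2.2 _ (𝟙 M) (by
    have := smulFamily_comp_eq_zero hM (𝟙 M)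
    exact this)
  haveI := h.1
  haveI : Mono p := mono_of_mono_fac hψ'
  exact isIso_of_mono_of_epi _

lemma killedBy_of_le {J J' : Ideal A} (h : J ≤ J') {M : X.Modules} (hM : Formal.KilledBy J' M) :
    Formal.KilledBy J M := fun a ha => hM a (h ha)

lemma tr_comp (F : ℕᵒᵖ ⥤ X.Modules) {a b c : ℕ} (h1 : a ≤ b) (h2 : b ≤ c) :
    ARSys.tr F h2 ≫ ARSys.tr F h1 = ARSys.tr F (h1.trans h2) := by
  unfold ARSys.tr
  rw [← F.map_comp]
  rfl

/-- a coherent formal module uniformly killed by a power of `I` is the completion of one of its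
terms. -/
theorem exists_completion_iso_of_killedBy {I : Ideal A} {F : ℕᵒᵖ ⥤ X.Modules}
    (hF : Formal.IsCohFormal I F) (c : ℕ) (hc : ∀ n : ℕ, Formal.KilledBy (I ^ c) (F.obj (op n))) :
    Nonempty (Formal.completion I (F.obj (op c)) ≅ F) := by
  set M := F.obj (op c) with hM
  -- the transition maps to position `c` are isomorphisms
  have hiso : ∀ {k : ℕ} (h : c ≤ k), IsIso (ARSys.tr F h) := fun {k} h =>
    (isCokerOf_tr hF h).isIso_of_killedBy
      (killedBy_of_le (Ideal.pow_le_pow_right (Nat.le_succ c)) (hc k))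
  let e : ∀ n : ℕ, M ≅ F.obj (op (n + c)) := fun n =>
    haveI := hiso (Nat.le_add_left c n)
    (asIso (ARSys.tr F (Nat.le_add_left c n))).symm
  let θ : ∀ n : ℕ, M ⟶ F.obj (op n) := fun n => (e n).hom ≫ ARSys.tr F (Nat.le_add_right n c)
  have hθ : ∀ n, IsCokerOf (I ^ (n + 1)) (θ n) := fun n =>
    (isCokerOf_tr hF (Nat.le_add_right n c)).iso_comp (e n)
  have hθ' : ∀ n, ARSys.tr F (Nat.le_add_left c n) ≫ θ n = ARSys.tr F (Nat.le_add_right n c) := by
    intro n
    haveI := hiso (Nat.le_add_left c n)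
    change ARSys.tr F (Nat.le_add_left c n) ≫ inv (ARSys.tr F (Nat.le_add_left c n)) ≫ _ = _
    rw [IsIso.hom_inv_id_assoc]
  have hcompat : ∀ n, θ (n + 1) ≫ ARSys.tr F (Nat.le_succ n) = θ n := by
    intro n
    haveI := hiso (Nat.le_add_left c (n + 1))
    rw [← cancel_epi (ARSys.tr F (Nat.le_add_left c (n + 1))), ← Category.assoc, hθ' (n + 1),
      tr_comp]
    have h1 : ARSys.tr F (Nat.le_add_left c (n + 1)) =
        ARSys.tr F (show n + c ≤ n + 1 + c by omega) ≫ ARSys.tr F (Nat.le_add_left c n) :=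
      (tr_comp F _ _).symm
    rw [h1, Category.assoc, hθ' n, tr_comp]
  have hex : ∀ n, ∃ ε : Formal.modPow I (n + 1) M ≅ F.obj (op n),
      Formal.modPowπ I (n + 1) M ≫ ε.hom = θ n := fun n =>
    (isCokerOf_π (I ^ (n + 1)) M).exists_iso (hθ n)
  choose ε hε' using hex
  let τ : Formal.completion I M ⟶ F := NatTrans.ofOpSequence (fun n => (ε n).hom) (by
    intro n
    have e1 : (Formal.completion I M).map (homOfLE (n.le_add_right 1)).op =
        Formal.modPowTrans I (n + 1) M := Functor.ofOpSequence_map_homOfLE_succ _ n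
    rw [e1]
    change (Formal.modPowTrans I (n + 1) M ≫ (ε n).hom :
        Formal.modPow I (n + 1 + 1) M ⟶ F.obj (op n)) =
      (ε (n + 1)).hom ≫ ARSys.tr F (Nat.le_succ n)
    haveI : Epi (Formal.modPowπ I (n + 1 + 1) M) := (isCokerOf_π (I ^ (n + 1 + 1)) M).1
    rw [← cancel_epi (Formal.modPowπ I (n + 1 + 1) M), ← Category.assoc, Formal.modPowπ_trans,
      hε' n, ← Category.assoc, hε' (n + 1)]
    exact (hcompat n).symm)
  haveI : ∀ x : ℕᵒᵖ, IsIso (τ.app x) := fun x => by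
    change IsIso (ε x.unop).hom
    infer_instance
  haveI : IsIso τ := NatIso.isIso_of_isIso_app τ
  exact ⟨asIso τ⟩

end Groth.Agent.Helper14.CohFormal
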