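import Mathlib
import Groth.Agent.Lib.Helper14.CohFormalD
import Groth.Agent.Lib.Helper13.QCohKer
import Groth.Agent.Lib.Helper13.FinTypeEpi
import Groth.Agent.Lib.Helper5.QCS1

set_option autoImplicit false
universe u
open CategoryTheory CategoryTheory.Limits AlgebraicGeometry Opposite TopologicalSpace

namespace Groth.Agent.Helper14.CohFormal

variable {A : Type u} [CommRing A] {X : Scheme.{u}} [X.Over (Spec (CommRingCat.of A))]

lemma killedBy_modPow (I : Ideal A) (n : ℕ) (M : X.Modules) :
    Formal.KilledBy (I ^ n) (Formal.modPow I n M) := by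
  intro a ha
  haveI : Epi (Formal.modPowπ I n M) := (isCokerOf_π (I ^ n) M).1
  rw [← cancel_epi (Formal.modPowπ I n M), comp_zero, ← smulMod_naturality]
  exact (smulFamily_comp_eq_zero_iff _).mp (cokernel.condition (Formal.smulFamily (I ^ n) M)) a ha

lemma isCokerOf_modPowTrans (I : Ideal A) (n : ℕ) (M : X.Modules) :
    IsCokerOf (I ^ n) (Formal.modPowTrans I n M) := by
  haveI : Epi (Formal.modPowπ I n M) := (isCokerOf_π (I ^ n) M).1
  haveI : Epi (Formal.modPowπ I (n + 1) M) := (isCokerOf_π (I ^ (n + 1)) M).1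
  refine ⟨?_, smulFamily_comp_eq_zero (killedBy_modPow I n M) _, fun T ψ hψ => ?_⟩
  · haveI : Epi (Formal.modPowπ I (n + 1) M ≫ Formal.modPowTrans I n M) := by
      rw [Formal.modPowπ_trans]; infer_instance
    exact epi_of_epi (Formal.modPowπ I (n + 1) M) _
  · have h0 : Formal.smulFamily (I ^ n) M ≫ (Formal.modPowπ I (n + 1) M ≫ ψ) = 0 := by
      rw [smulFamily_comp_eq_zero_iff]
      intro a ha
      rw [← Category.assoc, smulMod_naturality, Category.assoc,
        (smulFamily_comp_eq_zero_iff ψ).mp hψ a ha, comp_zero]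
    obtain ⟨ψ', hψ'⟩ := (isCokerOf_π (I ^ n) M).2.2 T _ h0
    refine ⟨ψ', ?_⟩
    rw [← cancel_epi (Formal.modPowπ I (n + 1) M), ← Category.assoc, Formal.modPowπ_trans]
    exact hψ'

theorem isCohFormal_completion (I : Ideal A) {M : X.Modules} (hM : Coh.IsCoh M) :
    Formal.IsCohFormal I (Formal.completion I M) := by
  obtain ⟨h1, h2⟩ := hM
  haveI := h1
  haveI := h2
  refine ⟨fun n => ?_, fun n => ?_, fun n => ?_⟩
  · change Coh.IsCoh (Formal.modPow I (n + 1) M)
    constructor
    · haveI : (∐ fun _ : ↥(I ^ (n + 1)) => M).IsQuasicoherent :=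
        Groth.Agent.Helper5.QCS.isQuasicoherent_sigma _ (fun _ => h1)
      exact Groth.Agent.Helper13.QCohLocal.isQuasicoherent_cokernel _
    · haveI : Epi (Formal.modPowπ I (n + 1) M) := (isCokerOf_π (I ^ (n + 1)) M).1
      exact Groth.Agent.Helper13.FinType.isFiniteType_of_epi (Formal.modPowπ I (n + 1) M)
  · exact killedBy_modPow I (n + 1) M
  · have e1 : (Formal.completion I M).map (homOfLE (Nat.le_succ n)).op =
        Formal.modPowTrans I (n + 1) M := Functor.ofOpSequence_map_homOfLE_succ _ n
    have := exists_isIso_desc_of_isCokerOf (isCokerOf_modPowTrans I (n + 1) M)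
    rw [e1]
    exact this

/-- two inverse systems which are both the system of quotients `M / I^(n+1) M` of the same module
are isomorphic. -/
theorem nonempty_iso_of_isCokerOf {I : Ideal A} {M : X.Modules} {F F' : ℕᵒᵖ ⥤ X.Modules}
    (θ : ∀ n : ℕ, M ⟶ F.obj (op n)) (θ' : ∀ n : ℕ, M ⟶ F'.obj (op n))
    (hθ : ∀ n, IsCokerOf (I ^ (n + 1)) (θ n)) (hθ' : ∀ n, IsCokerOf (I ^ (n + 1)) (θ' n))
    (hc : ∀ n, θ (n + 1) ≫ F.map (homOfLE (Nat.le_succ n)).op = θ n)
    (hc' : ∀ n, θ' (n + 1) ≫ F'.map (homOfLE (Nat.le_succ n)).op = θ' n) :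
    Nonempty (F ≅ F') := by
  have hex : ∀ n, ∃ ε : F.obj (op n) ≅ F'.obj (op n), θ n ≫ ε.hom = θ' n := fun n =>
    (hθ n).exists_iso (hθ' n)
  choose ε hε using hex
  let τ : F ⟶ F' := NatTrans.ofOpSequence (fun n => (ε n).hom) (by
    intro n
    haveI : Epi (θ (n + 1)) := (hθ (n + 1)).1
    rw [← cancel_epi (θ (n + 1)), ← Category.assoc, hc n, hε n, ← Category.assoc, hε (n + 1),
      hc' n])
  haveI : ∀ x : ℕᵒᵖ, IsIso (τ.app x) := fun x => by
    change IsIso (ε x.unop).hom
    infer_instance
  haveI : IsIso τ := NatIso.isIso_of_isIso_app τ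
  exact ⟨asIso τ⟩

end Groth.Agent.Helper14.CohFormal

namespace Groth.Agent.Helper14.CohFormal

variable {A : Type u} [CommRing A]

section RestrictCompletion

variable {X : Scheme.{u}} (U : X.Opens)
  [hX : X.Over (Spec (CommRingCat.of A))] [hU : U.toScheme.Over (Spec (CommRingCat.of A))]
  (hc : (U.toScheme ↘ Spec (CommRingCat.of A)) = U.ι ≫ (X ↘ Spec (CommRingCat.of A)))

include hc in
/-- the restriction of the completion of `M'` is the completion of any module isomorphic to the
restriction of `M'`. -/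
theorem nonempty_restrictSys_completion_iso (I : Ideal A) (M' : X.Modules)
    (F : (U : Scheme.{u}).Modules) (e0 : M'.restrict U.ι ≅ F) :
    Nonempty (Algz.restrictSys U (Formal.completion I M') ≅ Formal.completion I F) := by
  refine nonempty_iso_of_isCokerOf (I := I) (M := M'.restrict U.ι)
    (F := Algz.restrictSys U (Formal.completion I M')) (F' := Formal.completion I F)
    (fun n => (Scheme.Modules.restrictFunctor U.ι).map (Formal.modPowπ I (n + 1) M'))
    (fun n => e0.hom ≫ Formal.modPowπ I (n + 1) F)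
    (fun n => isCokerOf_restrict U hc (isCokerOf_π (I ^ (n + 1)) M'))
    (fun n => (isCokerOf_π (I ^ (n + 1)) F).iso_comp e0) ?_ ?_
  · intro n
    have e1 : (Formal.completion I M').map (homOfLE (Nat.le_succ n)).op =
        Formal.modPowTrans I (n + 1) M' := Functor.ofOpSequence_map_homOfLE_succ _ n
    change (Scheme.Modules.restrictFunctor U.ι).map (Formal.modPowπ I (n + 1 + 1) M') ≫
      (Scheme.Modules.restrictFunctor U.ι).map
        ((Formal.completion I M').map (homOfLE (Nat.le_succ n)).op) = _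
    rw [e1, ← Functor.map_comp]
    exact congrArg (Scheme.Modules.restrictFunctor U.ι).map (Formal.modPowπ_trans I (n + 1) M')
  · intro n
    have e1 : (Formal.completion I F).map (homOfLE (Nat.le_succ n)).op =
        Formal.modPowTrans I (n + 1) F := Functor.ofOpSequence_map_homOfLE_succ _ n
    rw [e1, Category.assoc]
    congr 1
    exact Formal.modPowπ_trans I (n + 1) F

end RestrictCompletion

end Groth.Agent.Helper14.CohFormal
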