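import Mathlib
import Groth.Agent.Lib.Helper14.CohFormalE
import Groth.Prelude.Def_Formal2

set_option autoImplicit false
universe u
open CategoryTheory CategoryTheory.Limits AlgebraicGeometry Opposite TopologicalSpace

namespace Groth.Agent.Helper14.CohFormal

variable {A : Type u} [CommRing A] {X : Scheme.{u}} [X.Over (Spec (CommRingCat.of A))]

/-- every module killed by `K'` is killed by `K` ("`K O_X ⊆ K' O_X`"). -/
def Sub (K K' : Ideal A) (X : Scheme.{u}) [X.Over (Spec (CommRingCat.of A))] : Prop :=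
  ∀ F : X.Modules, Formal.KilledBy K' F → Formal.KilledBy K F

lemma killedBy_coker (K : Ideal A) (M : X.Modules) :
    Formal.KilledBy K (cokernel (Formal.smulFamily K M)) := by
  intro a ha
  rw [← cancel_epi (cokernel.π (Formal.smulFamily K M)), comp_zero, ← smulMod_naturality]
  exact (smulFamily_comp_eq_zero_iff _).mp (cokernel.condition (Formal.smulFamily K M)) a ha

lemma IsCokerOf.killedBy {K : Ideal A} {M N : X.Modules} {p : M ⟶ N} (h : IsCokerOf K p) :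
    Formal.KilledBy K N := by
  intro a ha
  haveI := h.1
  rw [← cancel_epi p, comp_zero, ← smulMod_naturality]
  exact (smulFamily_comp_eq_zero_iff _).mp h.2.1 a ha

lemma IsCokerOf.comp_of_sub {K₁ K₂ : Ideal A} (hsub : Sub K₁ K₂ X) {M N Q : X.Modules}
    {p : M ⟶ N} (hp : IsCokerOf K₁ p) {q : N ⟶ Q} (hq : IsCokerOf K₂ q) :
    IsCokerOf K₂ (p ≫ q) := by
  haveI := hp.1
  haveI := hq.1
  refine ⟨inferInstance, ?_, fun T ψ hψ => ?_⟩
  · rw [smulFamily_comp_eq_zero_iff]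
    intro a ha
    rw [← Category.assoc, smulMod_naturality, Category.assoc,
      (smulFamily_comp_eq_zero_iff q).mp hq.2.1 a ha, comp_zero]
  · have h1 : Formal.smulFamily K₁ M ≫ ψ = 0 := by
      rw [smulFamily_comp_eq_zero_iff]
      intro a ha
      have e : ψ = cokernel.π (Formal.smulFamily K₂ M) ≫ cokernel.desc _ ψ hψ :=
        (cokernel.π_desc _ _ _).symm
      rw [e, ← Category.assoc, smulMod_naturality,
        hsub _ (killedBy_coker K₂ M) a ha, comp_zero, zero_comp]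
    obtain ⟨ψ₁, hψ₁⟩ := hp.2.2 T ψ h1
    have h2 : Formal.smulFamily K₂ N ≫ ψ₁ = 0 := by
      rw [smulFamily_comp_eq_zero_iff]
      intro a ha
      rw [← cancel_epi p, comp_zero, ← Category.assoc, ← smulMod_naturality, Category.assoc, hψ₁]
      exact (smulFamily_comp_eq_zero_iff ψ).mp hψ a ha
    obtain ⟨ψ₂, hψ₂⟩ := hq.2.2 T ψ₁ h2
    exact ⟨ψ₂, by rw [Category.assoc, hψ₂, hψ₁]⟩

lemma IsCokerOf.of_epi_comp {K : Ideal A} {M N Q : X.Modules} {p : M ⟶ N} [Epi p] {r : N ⟶ Q}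
    (h : IsCokerOf K (p ≫ r)) : IsCokerOf K r := by
  haveI := h.1
  refine ⟨epi_of_epi p r, ?_, fun T ψ hψ => ?_⟩
  · rw [smulFamily_comp_eq_zero_iff]
    intro a ha
    rw [← cancel_epi p, comp_zero, ← Category.assoc, ← smulMod_naturality, Category.assoc]
    exact (smulFamily_comp_eq_zero_iff _).mp h.2.1 a ha
  · have h1 : Formal.smulFamily K M ≫ (p ≫ ψ) = 0 := by
      rw [smulFamily_comp_eq_zero_iff]
      intro a ha
      rw [← Category.assoc, smulMod_naturality, Category.assoc,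
        (smulFamily_comp_eq_zero_iff ψ).mp hψ a ha, comp_zero]
    obtain ⟨ψ', hψ'⟩ := h.2.2 T _ h1
    refine ⟨ψ', ?_⟩
    rw [← cancel_epi p, ← Category.assoc]
    exact hψ'

lemma isCoh_modPow (K : Ideal A) (n : ℕ) {M : X.Modules} (hM : Coh.IsCoh M) :
    Coh.IsCoh (Formal.modPow K n M) := by
  obtain ⟨h1, h2⟩ := hM
  haveI := h1
  haveI := h2
  constructor
  · haveI : (∐ fun _ : ↥(K ^ n) => M).IsQuasicoherent :=
      Groth.Agent.Helper5.QCS.isQuasicoherent_sigma _ (fun _ => h1)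
    exact Groth.Agent.Helper13.QCohLocal.isQuasicoherent_cokernel _
  · haveI : Epi (Formal.modPowπ K n M) := (isCokerOf_π (K ^ n) M).1
    exact Groth.Agent.Helper13.FinType.isFiniteType_of_epi (Formal.modPowπ K n M)

section Q

variable (K : Ideal A) (m : ℕ → ℕ) (hm : Monotone m)

/-- the `n`-th term `F_{m n} / K^(n+1) F_{m n}`. -/
noncomputable def Qobj (F : ℕᵒᵖ ⥤ X.Modules) (n : ℕ) : X.Modules :=
  Formal.modPow K (n + 1) (F.obj (op (m n)))

noncomputable def Qπ (F : ℕᵒᵖ ⥤ X.Modules) (n : ℕ) : F.obj (op (m n)) ⟶ Qobj K m F n :=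
  Formal.modPowπ K (n + 1) (F.obj (op (m n)))

lemma isCokerOf_Qπ (F : ℕᵒᵖ ⥤ X.Modules) (n : ℕ) : IsCokerOf (K ^ (n + 1)) (Qπ K m F n) :=
  isCokerOf_π _ _

instance (F : ℕᵒᵖ ⥤ X.Modules) (n : ℕ) : Epi (Qπ K m F n) := (isCokerOf_Qπ K m F n).1

lemma killedBy_Qobj (F : ℕᵒᵖ ⥤ X.Modules) (n : ℕ) :
    Formal.KilledBy (K ^ (n + 1)) (Qobj K m F n) := killedBy_modPow K (n + 1) _

lemma killedBy_Qobj_succ (F : ℕᵒᵖ ⥤ X.Modules) (n : ℕ) :
    Formal.KilledBy (K ^ (n + 1 + 1)) (Qobj K m F n) :=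
  killedBy_of_le (Ideal.pow_le_pow_right (Nat.le_succ _)) (killedBy_Qobj K m F n)

include hm in
noncomputable def Qtr (F : ℕᵒᵖ ⥤ X.Modules) (n : ℕ) : Qobj K m F (n + 1) ⟶ Qobj K m F n :=
  cokernel.desc _ (ARSys.tr F (hm (Nat.le_succ n)) ≫ Qπ K m F n)
    (smulFamily_comp_eq_zero (killedBy_Qobj_succ K m F n) _)

@[reassoc]
lemma Qπ_tr (F : ℕᵒᵖ ⥤ X.Modules) (n : ℕ) :
    Qπ K m F (n + 1) ≫ Qtr K m hm F n = ARSys.tr F (hm (Nat.le_succ n)) ≫ Qπ K m F n :=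
  cokernel.π_desc _ _ _

noncomputable def Qsys (F : ℕᵒᵖ ⥤ X.Modules) : ℕᵒᵖ ⥤ X.Modules :=
  Functor.ofOpSequence (X := fun n => Qobj K m F n) (fun n => Qtr K m hm F n)

lemma Qsys_map_succ (F : ℕᵒᵖ ⥤ X.Modules) (n : ℕ) :
    (Qsys K m hm F).map (homOfLE (Nat.le_succ n)).op = Qtr K m hm F n :=
  Functor.ofOpSequence_map_homOfLE_succ _ n

noncomputable def Qmap {F G : ℕᵒᵖ ⥤ X.Modules} (φ : F ⟶ G) (n : ℕ) :
    Qobj K m F n ⟶ Qobj K m G n :=
  cokernel.desc _ (φ.app (op (m n)) ≫ Qπ K m G n)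
    (smulFamily_comp_eq_zero (killedBy_Qobj K m G n) _)

@[reassoc]
lemma Qπ_map {F G : ℕᵒᵖ ⥤ X.Modules} (φ : F ⟶ G) (n : ℕ) :
    Qπ K m F n ≫ Qmap K m φ n = φ.app (op (m n)) ≫ Qπ K m G n :=
  cokernel.π_desc _ _ _

noncomputable def Qnat {F G : ℕᵒᵖ ⥤ X.Modules} (φ : F ⟶ G) : Qsys K m hm F ⟶ Qsys K m hm G :=
  NatTrans.ofOpSequence (fun n => Qmap K m φ n) (by
    intro n
    have e1 : (Qsys K m hm F).map (homOfLE (n.le_add_right 1)).op = Qtr K m hm F n :=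
      Qsys_map_succ K m hm F n
    have e2 : (Qsys K m hm G).map (homOfLE (n.le_add_right 1)).op = Qtr K m hm G n :=
      Qsys_map_succ K m hm G n
    rw [e1, e2]
    change (Qtr K m hm F n ≫ Qmap K m φ n : Qobj K m F (n + 1) ⟶ Qobj K m G n) =
      Qmap K m φ (n + 1) ≫ Qtr K m hm G n
    rw [← cancel_epi (Qπ K m F (n + 1)), Qπ_tr_assoc, Qπ_map, Qπ_map_assoc, Qπ_tr]
    have e3 : ARSys.tr F (hm (Nat.le_succ n)) ≫ φ.app (op (m n)) =
        φ.app (op (m (n + 1))) ≫ ARSys.tr G (hm (Nat.le_succ n)) := φ.naturality _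
    rw [← Category.assoc, e3, Category.assoc])

lemma Qnat_app {F G : ℕᵒᵖ ⥤ X.Modules} (φ : F ⟶ G) (n : ℕ) :
    (Qnat K m hm φ).app (op n) = Qmap K m φ n := rfl

/-- the functor `F ↦ (F_{m n} / K^(n+1))_n`. -/
noncomputable def Q : (ℕᵒᵖ ⥤ X.Modules) ⥤ (ℕᵒᵖ ⥤ X.Modules) where
  obj F := Qsys K m hm F
  map φ := Qnat K m hm φ
  map_id F := by
    apply NatTrans.ext
    funext x
    change Qmap K m (𝟙 F) x.unop = 𝟙 _
    rw [← cancel_epi (Qπ K m F x.unop), Qπ_map]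
    simp
  map_comp {F G H} φ ψ := by
    apply NatTrans.ext
    funext x
    change Qmap K m (φ ≫ ψ) x.unop = Qmap K m φ x.unop ≫ Qmap K m ψ x.unop
    rw [← cancel_epi (Qπ K m F x.unop), Qπ_map, ← Category.assoc, Qπ_map, Category.assoc, Qπ_map]
    simp

lemma Qπ_tr_le (F : ℕᵒᵖ ⥤ X.Modules) {a b : ℕ} (h : a ≤ b) :
    Qπ K m F b ≫ ARSys.tr (Qsys K m hm F) h = ARSys.tr F (hm h) ≫ Qπ K m F a := by
  induction b, h using Nat.le_induction with
  | base =>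
    have e1 : ARSys.tr (Qsys K m hm F) (le_refl a) = 𝟙 _ := (Qsys K m hm F).map_id _
    have e2 : ARSys.tr F (hm (le_refl a)) = 𝟙 _ := F.map_id _
    rw [e1, e2, Category.id_comp]
    exact Category.comp_id _
  | succ b h ih =>
    have e1 : ARSys.tr (Qsys K m hm F) (h.trans (Nat.le_succ b)) =
        (Qsys K m hm F).map (homOfLE (Nat.le_succ b)).op ≫ ARSys.tr (Qsys K m hm F) h :=
      tr_succ _ h
    have e2 : (Qsys K m hm F).map (homOfLE (Nat.le_succ b)).op = Qtr K m hm F b :=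
      Qsys_map_succ K m hm F b
    have e3 : ARSys.tr F (hm (h.trans (Nat.le_succ b))) =
        ARSys.tr F (hm (Nat.le_succ b)) ≫ ARSys.tr F (hm h) := (tr_comp F _ _).symm
    change Qπ K m F (b + 1) ≫ ARSys.tr (Qsys K m hm F) (h.trans (Nat.le_succ b)) =
      ARSys.tr F (hm (h.trans (Nat.le_succ b))) ≫ Qπ K m F a
    rw [e1, e2, e3]
    change Qπ K m F (b + 1) ≫ (Qtr K m hm F b ≫ ARSys.tr (Qsys K m hm F) h :
      Qobj K m F (b + 1) ⟶ Qobj K m F a) = _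
    rw [Qπ_tr_assoc]
    change ARSys.tr F (hm (Nat.le_succ b)) ≫ (Qπ K m F b ≫ ARSys.tr (Qsys K m hm F) h) = _
    rw [ih, Category.assoc]
    rfl

/-- `Qπ` with codomain typed as a term of the system `Qsys`. -/
noncomputable def Qπs (F : ℕᵒᵖ ⥤ X.Modules) (n : ℕ) :
    F.obj (op (m n)) ⟶ (Qsys K m hm F).obj (op n) := Qπ K m F n

lemma isCokerOf_Qπs (F : ℕᵒᵖ ⥤ X.Modules) (n : ℕ) : IsCokerOf (K ^ (n + 1)) (Qπs K m hm F n) :=
  isCokerOf_Qπ K m F n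

lemma Qπs_tr_le (F : ℕᵒᵖ ⥤ X.Modules) {a b : ℕ} (h : a ≤ b) :
    Qπs K m hm F b ≫ ARSys.tr (Qsys K m hm F) h = ARSys.tr F (hm h) ≫ Qπs K m hm F a :=
  Qπ_tr_le K m hm F h

lemma Qπs_nat {F G : ℕᵒᵖ ⥤ X.Modules} (φ : F ⟶ G) (n : ℕ) :
    Qπs K m hm F n ≫ (Qnat K m hm φ).app (op n) = φ.app (op (m n)) ≫ Qπs K m hm G n :=
  Qπ_map K m φ n

end Q

section Main

variable {I K : Ideal A} {m : ℕ → ℕ} (hm : Monotone m)

include hm in
theorem isCohFormal_Qsys (hsub : ∀ n, Sub (I ^ (m n + 1)) (K ^ (n + 1)) X)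
    {F : ℕᵒᵖ ⥤ X.Modules} (hF : Formal.IsCohFormal I F) :
    Formal.IsCohFormal K (Qsys K m hm F) := by
  refine ⟨fun n => isCoh_modPow K (n + 1) (hF.1 (m n)), fun n => killedBy_Qobj K m F n,
    fun n => ?_⟩
  have h1 : IsCokerOf (K ^ (n + 1)) (ARSys.tr F (hm (Nat.le_succ n)) ≫ Qπ K m F n) :=
    (isCokerOf_tr hF (hm (Nat.le_succ n))).comp_of_sub (hsub n) (isCokerOf_Qπ K m F n)
  rw [← Qπ_tr] at h1
  have h2 : IsCokerOf (K ^ (n + 1)) (Qtr K m hm F n) := h1.of_epi_comp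
  have e1 := Qsys_map_succ K m hm F n
  have h3 : IsCokerOf (K ^ (n + 1)) ((Qsys K m hm F).map (homOfLE (Nat.le_succ n)).op) := by
    rw [e1]; exact h2
  exact exists_isIso_desc_of_isCokerOf h3

end Main

section Equiv

variable (I J : Ideal A) (m m' : ℕ → ℕ) (hm : Monotone m) (hm' : Monotone m')

/-- the functor `Coh(X, I) ⥤ Coh(X, J)`, `F ↦ (F_{m n} / J^(n+1))`. -/
noncomputable def Φ (hsub : ∀ n, Sub (I ^ (m n + 1)) (J ^ (n + 1)) X) :
    Formal2.CohFormalCat I X ⥤ Formal2.CohFormalCat J X :=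
  ObjectProperty.lift _ (ObjectProperty.ι _ ⋙ Q J m hm)
    (fun F => isCohFormal_Qsys hm hsub F.property)

theorem nonempty_comp_iso_id (hsub : ∀ n, Sub (I ^ (m n + 1)) (J ^ (n + 1)) X)
    (hsub' : ∀ n, Sub (J ^ (m' n + 1)) (I ^ (n + 1)) X) (hle : ∀ n, n ≤ m (m' n)) :
    Nonempty (Φ I J m hm hsub ⋙ Φ J I m' hm' hsub' ≅ 𝟭 (Formal2.CohFormalCat I X)) := by
  -- the projections
  let P : ∀ (F : ℕᵒᵖ ⥤ X.Modules) (n : ℕ),
      F.obj (op (m (m' n))) ⟶ (Qsys I m' hm' (Qsys J m hm F)).obj (op n) := fun F n =>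
    Qπs J m hm F (m' n) ≫ Qπs I m' hm' (Qsys J m hm F) n
  have hP : ∀ (F : ℕᵒᵖ ⥤ X.Modules) (n : ℕ), IsCokerOf (I ^ (n + 1)) (P F n) := fun F n =>
    (isCokerOf_Qπs J m hm F (m' n)).comp_of_sub (hsub' n)
      (isCokerOf_Qπs I m' hm' (Qsys J m hm F) n)
  have hPepi : ∀ (F : ℕᵒᵖ ⥤ X.Modules) (n : ℕ), Epi (P F n) := fun F n => (hP F n).1
  have hPtr : ∀ (F : ℕᵒᵖ ⥤ X.Modules) (n : ℕ),
      P F (n + 1) ≫ ARSys.tr (Qsys I m' hm' (Qsys J m hm F)) (Nat.le_succ n) =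
        ARSys.tr F (hm (hm' (Nat.le_succ n))) ≫ P F n := by
    intro F n
    change (Qπs J m hm F (m' (n + 1)) ≫ Qπs I m' hm' (Qsys J m hm F) (n + 1)) ≫ _ =
      _ ≫ (Qπs J m hm F (m' n) ≫ Qπs I m' hm' (Qsys J m hm F) n)
    rw [Category.assoc, Qπs_tr_le, ← Category.assoc, Qπs_tr_le, Category.assoc]
  have hPmap : ∀ {F G : ℕᵒᵖ ⥤ X.Modules} (φ : F ⟶ G) (n : ℕ),
      P F n ≫ (Qnat I m' hm' (Qnat J m hm φ)).app (op n) = φ.app (op (m (m' n))) ≫ P G n := by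
    intro F G φ n
    change (Qπs J m hm F (m' n) ≫ Qπs I m' hm' (Qsys J m hm F) n) ≫ _ =
      _ ≫ (Qπs J m hm G (m' n) ≫ Qπs I m' hm' (Qsys J m hm G) n)
    rw [Category.assoc, Qπs_nat, ← Category.assoc, Qπs_nat, Category.assoc]
  have hex : ∀ (F : Formal2.CohFormalCat I X) (n : ℕ),
      ∃ ε : (Qsys I m' hm' (Qsys J m hm F.obj)).obj (op n) ≅ F.obj.obj (op n),
        P F.obj n ≫ ε.hom = ARSys.tr F.obj (hle n) := fun F n =>
    (hP F.obj n).exists_iso (isCokerOf_tr F.property (hle n))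
  choose ε hε using hex
  let τ : ∀ F : Formal2.CohFormalCat I X, Qsys I m' hm' (Qsys J m hm F.obj) ⟶ F.obj := fun F =>
    NatTrans.ofOpSequence (fun n => (ε F n).hom) (by
      intro n
      haveI := hPepi F.obj (n + 1)
      rw [← cancel_epi (P F.obj (n + 1)), ← Category.assoc]
      have e0 := hPtr F.obj n
      rw [e0, Category.assoc, hε F n, ← Category.assoc, hε F (n + 1), tr_comp, tr_comp])
  have hτ : ∀ (F : Formal2.CohFormalCat I X), IsIso (τ F) := fun F => by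
    haveI : ∀ x : ℕᵒᵖ, IsIso ((τ F).app x) := fun x => by
      change IsIso (ε F x.unop).hom
      infer_instance
    exact NatIso.isIso_of_isIso_app (τ F)
  refine ⟨NatIso.ofComponents
    (fun F => ObjectProperty.isoMk _ (@asIso _ _ _ _ (τ F) (hτ F))) ?_⟩
  intro F G φ
  apply ObjectProperty.hom_ext
  change Qnat I m' hm' (Qnat J m hm φ.hom) ≫ τ G = τ F ≫ φ.hom
  apply NatTrans.ext
  funext x
  haveI := hPepi F.obj x.unop
  change (Qnat I m' hm' (Qnat J m hm φ.hom)).app (op x.unop) ≫ (ε G x.unop).hom =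
    (ε F x.unop).hom ≫ φ.hom.app (op x.unop)
  rw [← cancel_epi (P F.obj x.unop), ← Category.assoc, hPmap, Category.assoc, hε G,
    ← Category.assoc, hε F]
  exact (φ.hom.naturality _).symm

theorem nonempty_equivalence (hm : Monotone m) (hm' : Monotone m')
    (hsub : ∀ n, Sub (I ^ (m n + 1)) (J ^ (n + 1)) X)
    (hsub' : ∀ n, Sub (J ^ (m' n + 1)) (I ^ (n + 1)) X) (hle : ∀ n, n ≤ m n)
    (hle' : ∀ n, n ≤ m' n) :
    Nonempty (Formal2.CohFormalCat I X ≌ Formal2.CohFormalCat J X) := by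
  obtain ⟨η⟩ := nonempty_comp_iso_id I J m m' hm hm' hsub hsub'
    (fun n => (hle' n).trans (hle (m' n)))
  obtain ⟨ε⟩ := nonempty_comp_iso_id J I m' m hm' hm hsub' hsub
    (fun n => (hle n).trans (hle' (m n)))
  exact ⟨CategoryTheory.Equivalence.mk (Φ I J m hm hsub) (Φ J I m' hm' hsub') η.symm ε⟩

end Equiv

end Groth.Agent.Helper14.CohFormal
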