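import Mathlib
import Groth.Agent.Lib.Helper14.CohFormalP

set_option autoImplicit false
universe u
open CategoryTheory CategoryTheory.Limits AlgebraicGeometry Opposite TopologicalSpace

namespace Groth.Agent.Helper14.CohFormal

section Sections

variable {A : Type u} [CommRing A] {X : Scheme.{u}} [X.Over (Spec (CommRingCat.of A))]

/-- the ring map `A → Γ(X, U)`. -/
noncomputable def toΓ (U : X.Opens) : A →+* Γ(X, U) :=
  (X.presheaf.map (homOfLE (le_top : U ≤ ⊤)).op).hom.comp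
    ((X ↘ Spec (CommRingCat.of A)).appTop.hom.comp (Scheme.ΓSpecIso (CommRingCat.of A)).inv.hom)

lemma smulMod_app (F : X.Modules) (a : A) (U : X.Opens) (s : Γ(F, U)) :
    (Formal.smulMod A F a).app U s = toΓ U a • s := rfl

lemma smulMod_eq_zero_iff (F : X.Modules) (a : A) :
    Formal.smulMod A F a = 0 ↔ ∀ (U : X.Opens) (s : Γ(F, U)), toΓ U a • s = 0 := by
  constructor
  · intro h U s
    rw [← smulMod_app, h]
    rfl
  · intro h
    apply Scheme.Modules.hom_ext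
    intro U
    ext s
    exact h U s

lemma toΓ_res {U V : X.Opens} (h : U ≤ V) (a : A) :
    X.presheaf.map (homOfLE h).op (toΓ V a) = toΓ (A := A) U a := by
  unfold toΓ
  simp only [RingHom.comp_apply]
  rw [← CommRingCat.comp_apply, ← Functor.map_comp]
  rfl

lemma smul_eq_zero_of_mem_map {K : Ideal A} {F : X.Modules} (hF : Formal.KilledBy K F)
    {W U : X.Opens} (hUW : U ≤ W) (b : Γ(X, W)) (hb : b ∈ Ideal.map (toΓ (A := A) W) K)
    (s : Γ(F, U)) : X.presheaf.map (homOfLE hUW).op b • s = 0 := by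
  induction hb using Submodule.span_induction with
  | mem x hx =>
    obtain ⟨j, hj, rfl⟩ := hx
    rw [toΓ_res]
    exact (smulMod_eq_zero_iff F j).1 (hF j hj) U s
  | zero => rw [map_zero, zero_smul]
  | add x y _ _ hx hy => rw [map_add, add_smul, hx, hy, add_zero]
  | smul r x _ hx => rw [smul_eq_mul, map_mul, mul_smul, hx, smul_zero]

/-- the structure morphism restricted to an affine open is `Spec` of `toΓ`. -/
lemma fromSpec_comp_over {W : X.Opens} (hW : IsAffineOpen W) :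
    hW.fromSpec ≫ (X ↘ Spec (CommRingCat.of A)) =
      Spec.map (CommRingCat.ofHom (toΓ (A := A) W)) := by
  apply ext_of_isAffine
  rw [Scheme.Hom.comp_appTop]
  rw [← cancel_mono (Scheme.ΓSpecIso Γ(X, W)).hom, Scheme.ΓSpecIso_naturality]
  rw [← cancel_epi (Scheme.ΓSpecIso (CommRingCat.of A)).inv, Iso.inv_hom_id_assoc]
  have e1 : hW.fromSpec.appTop ≫ (Scheme.ΓSpecIso Γ(X, W)).hom =
      X.presheaf.map (homOfLE (le_top : W ≤ ⊤)).op := by
    change hW.fromSpec.app ⊤ ≫ _ = _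
    rw [hW.fromSpec_app_of_le ⊤ le_top]
    simp
  rw [Category.assoc, e1]
  rfl

lemma map_le_radical_map {I J : Ideal A}
    (hV : (fun x : X => (X ↘ Spec (CommRingCat.of A)) x) ⁻¹' PrimeSpectrum.zeroLocus (J : Set A) ⊆
      (fun x : X => (X ↘ Spec (CommRingCat.of A)) x) ⁻¹' PrimeSpectrum.zeroLocus (I : Set A))
    {W : X.Opens} (hW : IsAffineOpen W) :
    Ideal.map (toΓ (A := A) W) I ≤ (Ideal.map (toΓ (A := A) W) J).radical := by
  rw [Ideal.radical_eq_sInf]
  apply le_sInf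
  rintro P ⟨hJP, hP⟩
  rw [Ideal.map_le_iff_le_comap] at hJP ⊢
  let y : Spec Γ(X, W) := ⟨P, hP⟩
  have hy : (X ↘ Spec (CommRingCat.of A)) (hW.fromSpec y) =
      (Spec.map (CommRingCat.ofHom (toΓ (A := A) W))) y := by
    rw [← fromSpec_comp_over hW]; rfl
  have hy2 : ((Spec.map (CommRingCat.ofHom (toΓ (A := A) W))) y : PrimeSpectrum A).asIdeal =
      Ideal.comap (toΓ (A := A) W) P := rfl
  have h1 : hW.fromSpec y ∈ (fun x : X => (X ↘ Spec (CommRingCat.of A)) x) ⁻¹'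
      PrimeSpectrum.zeroLocus (J : Set A) := by
    change (X ↘ Spec (CommRingCat.of A)) (hW.fromSpec y) ∈ PrimeSpectrum.zeroLocus (J : Set A)
    rw [hy]
    change (J : Set A) ⊆ (Ideal.comap (toΓ (A := A) W) P : Set A)
    exact hJP
  have h2 := hV h1
  change (X ↘ Spec (CommRingCat.of A)) (hW.fromSpec y) ∈ PrimeSpectrum.zeroLocus (I : Set A) at h2
  rw [hy] at h2
  intro a ha
  exact h2 ha

theorem exists_sub_of_zeroLocus_subset [IsNoetherian X] {I J : Ideal A}
    (hV : (fun x : X => (X ↘ Spec (CommRingCat.of A)) x) ⁻¹' PrimeSpectrum.zeroLocus (J : Set A) ⊆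
      (fun x : X => (X ↘ Spec (CommRingCat.of A)) x) ⁻¹' PrimeSpectrum.zeroLocus (I : Set A)) :
    ∃ c : ℕ, 1 ≤ c ∧ ∀ k : ℕ, Sub (I ^ (c * k)) (J ^ k) X := by
  classical
  have hex : ∀ W : X.affineOpens, ∃ c : ℕ,
      (Ideal.map (toΓ (A := A) W.1) I) ^ c ≤ Ideal.map (toΓ (A := A) W.1) J := by
    intro W
    haveI : IsNoetherianRing Γ(X, W.1) := IsLocallyNoetherian.component_noetherian W
    exact Ideal.exists_pow_le_of_le_radical_of_fg (map_le_radical_map hV W.2)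
      (IsNoetherian.noetherian _)
  choose cW hcW using hex
  obtain ⟨t, ht⟩ := isCompact_univ.elim_finite_subcover
    (fun W : X.affineOpens => ((W.1 : X.Opens) : Set X)) (fun W => W.1.isOpen) (by
      intro x _
      obtain ⟨W, hW, hxW, -⟩ := X.isBasis_affineOpens.exists_subset_of_mem_open
        (Set.mem_univ x) isOpen_univ
      obtain ⟨W', hW', rfl⟩ := hW
      exact Set.mem_iUnion.2 ⟨⟨W', hW'⟩, hxW⟩)
  refine ⟨1 + ∑ W ∈ t, cW W, Nat.le_add_right 1 _, fun k F hF a ha => ?_⟩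
  rw [smulMod_eq_zero_iff]
  intro U s
  have hle : ∀ W ∈ t, cW W ≤ 1 + ∑ W ∈ t, cW W := fun W hW =>
    (Finset.single_le_sum (f := cW) (fun _ _ => Nat.zero_le _) hW).trans (Nat.le_add_left _ 1)
  apply TopCat.Sheaf.eq_of_locally_eq' ⟨F.presheaf, F.isSheaf⟩
    (fun W : t => U ⊓ W.1.1) U (fun W => homOfLE inf_le_left)
  · intro x hx
    have hx' := ht (Set.mem_univ x)
    rw [Set.mem_iUnion₂] at hx'
    obtain ⟨W, hWt, hxW⟩ := hx'
    exact Opens.mem_iSup.2 ⟨⟨W, hWt⟩, ⟨hx, hxW⟩⟩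
  · intro W
    rw [map_zero]
    have e1 := Scheme.Modules.map_smul F (homOfLE (inf_le_left : U ⊓ W.1.1 ≤ U)) (toΓ U a) s
    refine e1.trans ?_
    rw [toΓ_res, ← toΓ_res (inf_le_right : U ⊓ W.1.1 ≤ W.1.1)]
    apply smul_eq_zero_of_mem_map hF
    have h1 : toΓ (A := A) W.1.1 a ∈ Ideal.map (toΓ (A := A) W.1.1)
        (I ^ ((1 + ∑ W ∈ t, cW W) * k)) := Ideal.mem_map_of_mem _ ha
    rw [Ideal.map_pow] at h1 ⊢
    have h2 : (Ideal.map (toΓ (A := A) W.1.1) I) ^ ((1 + ∑ W ∈ t, cW W) * k) ≤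
        (Ideal.map (toΓ (A := A) W.1.1) J) ^ k := by
      calc (Ideal.map (toΓ (A := A) W.1.1) I) ^ ((1 + ∑ W ∈ t, cW W) * k)
          ≤ (Ideal.map (toΓ (A := A) W.1.1) I) ^ (cW W.1 * k) :=
            Ideal.pow_le_pow_right (Nat.mul_le_mul_right k (hle W.1 W.2))
        _ = ((Ideal.map (toΓ (A := A) W.1.1) I) ^ cW W.1) ^ k := pow_mul _ _ _
        _ ≤ (Ideal.map (toΓ (A := A) W.1.1) J) ^ k := Ideal.pow_right_mono (hcW W.1) k
    exact h2 h1

theorem nonempty_equivalence_of_zeroLocus_eq [IsNoetherian X] (I J : Ideal A)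
    (hV : (fun x : X => (X ↘ Spec (CommRingCat.of A)) x) ⁻¹' PrimeSpectrum.zeroLocus (I : Set A) =
      (fun x : X => (X ↘ Spec (CommRingCat.of A)) x) ⁻¹' PrimeSpectrum.zeroLocus (J : Set A)) :
    Nonempty (Formal2.CohFormalCat I X ≌ Formal2.CohFormalCat J X) := by
  obtain ⟨c, hc1, hc⟩ := exists_sub_of_zeroLocus_subset (X := X) (I := I) (J := J) hV.ge
  obtain ⟨c', hc1', hc'⟩ := exists_sub_of_zeroLocus_subset (X := X) (I := J) (J := I) hV.le
  have hpos : ∀ (d : ℕ), 1 ≤ d → ∀ n : ℕ, n + 1 ≤ d * (n + 1) := fun d hd n =>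
    Nat.le_mul_of_pos_left _ hd
  refine nonempty_equivalence I J (fun n => c * (n + 1) - 1) (fun n => c' * (n + 1) - 1)
    ?_ ?_ ?_ ?_ ?_ ?_
  · intro a b h
    exact Nat.sub_le_sub_right (Nat.mul_le_mul_left c (Nat.succ_le_succ h)) 1
  · intro a b h
    exact Nat.sub_le_sub_right (Nat.mul_le_mul_left c' (Nat.succ_le_succ h)) 1
  · intro n
    have e : c * (n + 1) - 1 + 1 = c * (n + 1) := by
      have := hpos c hc1 n
      omega
    change Sub (I ^ (c * (n + 1) - 1 + 1)) (J ^ (n + 1)) X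
    rw [e]
    exact hc (n + 1)
  · intro n
    have e : c' * (n + 1) - 1 + 1 = c' * (n + 1) := by
      have := hpos c' hc1' n
      omega
    change Sub (J ^ (c' * (n + 1) - 1 + 1)) (I ^ (n + 1)) X
    rw [e]
    exact hc' (n + 1)
  · intro n
    have := hpos c hc1 n
    change n ≤ c * (n + 1) - 1
    omega
  · intro n
    have := hpos c' hc1' n
    change n ≤ c' * (n + 1) - 1
    omega

end Sections

end Groth.Agent.Helper14.CohFormal
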