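import Mathlib
import Groth.Agent.Lib.Helper14.CohFormalQ
import Groth.Agent.Lib.Helper13.AffSurj

set_option autoImplicit false
universe u
open CategoryTheory CategoryTheory.Limits AlgebraicGeometry Opposite TopologicalSpace

namespace Groth.Agent.Helper14.CohFormal

section SmulAlg

variable {A : Type u} [CommRing A] {X : Scheme.{u}} [X.Over (Spec (CommRingCat.of A))]

lemma smulMod_mul (F : X.Modules) (a b : A) :
    Formal.smulMod A F (a * b) = Formal.smulMod A F a ≫ Formal.smulMod A F b := by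
  apply Scheme.Modules.hom_ext
  intro U
  ext s
  change toΓ U (a * b) • s = toΓ U b • (toΓ U a • s)
  rw [map_mul, mul_comm, mul_smul]

lemma smulMod_one (F : X.Modules) : Formal.smulMod A F (1 : A) = 𝟙 F := by
  apply Scheme.Modules.hom_ext
  intro U
  ext s
  change toΓ U (1 : A) • s = s
  rw [map_one, one_smul]

lemma smulMod_pow_succ (F : X.Modules) (a : A) (n : ℕ) :
    Formal.smulMod A F (a ^ (n + 1)) = Formal.smulMod A F (a ^ n) ≫ Formal.smulMod A F a := by
  rw [pow_succ, smulMod_mul]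

lemma smulMod_pow_succ' (F : X.Modules) (a : A) (n : ℕ) :
    Formal.smulMod A F (a ^ (n + 1)) = Formal.smulMod A F a ≫ Formal.smulMod A F (a ^ n) := by
  rw [pow_succ', smulMod_mul]

lemma killedBy_span_pow_of (F : X.Modules) (f : A) (n : ℕ)
    (h : Formal.smulMod A F (f ^ n) = 0) : Formal.KilledBy (Ideal.span ({f} : Set A) ^ n) F := by
  intro a ha
  rw [Ideal.span_singleton_pow, Ideal.mem_span_singleton'] at ha
  obtain ⟨b, rfl⟩ := ha
  rw [smulMod_mul, h, comp_zero]

lemma epi_smul_pow_of_epi {C : X.Modules} (a : A) (h : Epi (Formal.smulMod A C a)) (k : ℕ) :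
    Epi (Formal.smulMod A C (a ^ k)) := by
  induction k with
  | zero => rw [pow_zero, smulMod_one]; infer_instance
  | succ k ih =>
    rw [smulMod_pow_succ]
    haveI := ih
    haveI := h
    infer_instance

end SmulAlg

section Sys

variable {A : Type u} [CommRing A] {X : Scheme.{u}} [X.Over (Spec (CommRingCat.of A))]

/-- the structure of condition (1). -/
structure FSys (f : A) (G : ℕᵒᵖ ⥤ X.Modules) where
  i : ∀ n, G.obj (op n) ⟶ G.obj (op (n + 1))
  mono : ∀ n, Mono (i n)
  fac : ∀ n, ARSys.tr G (Nat.le_succ n) ≫ i n = Formal.smulMod A (G.obj (op (n + 1))) f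
  zero : ∀ n, i n ≫ ARSys.tr G (Nat.zero_le (n + 1)) = 0
  exact : ∀ n, (ShortComplex.mk (i n) (ARSys.tr G (Nat.zero_le (n + 1))) (zero n)).ShortExact

variable {f : A} {G : ℕᵒᵖ ⥤ X.Modules} (S : FSys f G)

namespace FSys

instance (n : ℕ) : Mono (S.i n) := S.mono n

include S

lemma epi_p (n : ℕ) : Epi (ARSys.tr G (Nat.zero_le (n + 1))) := (S.exact n).epi_g

lemma tr_succ_zero (n : ℕ) :
    ARSys.tr G (Nat.le_succ (n + 1)) ≫ ARSys.tr G (Nat.zero_le (n + 1)) =
      ARSys.tr G (Nat.zero_le (n + 1 + 1)) := tr_comp G _ _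

/-- `f` kills `G_0`. -/
lemma smul_zero : Formal.smulMod A (G.obj (op 0)) f = 0 := by
  haveI := S.epi_p 0
  rw [← cancel_epi (ARSys.tr G (Nat.zero_le (0 + 1))), comp_zero, ← smulMod_naturality, ← S.fac 0,
    Category.assoc, S.zero 0, comp_zero]

/-- `f^(n+1)` kills `G_n`. -/
lemma smul_pow (n : ℕ) : Formal.smulMod A (G.obj (op n)) (f ^ (n + 1)) = 0 := by
  induction n with
  | zero => rw [zero_add, pow_one]; exact S.smul_zero
  | succ n ih =>
    rw [smulMod_pow_succ, ← S.fac n, ← Category.assoc, smulMod_naturality, ih, comp_zero,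
      zero_comp]

/-- the transition maps are epimorphisms. -/
lemma epi_t (n : ℕ) : Epi (ARSys.tr G (Nat.le_succ n)) := by
  induction n with
  | zero => exact S.epi_p 0
  | succ n ih =>
    haveI := ih
    have key : ∀ (C : X.Modules) (q : G.obj (op (n + 1)) ⟶ C), Epi q →
        ARSys.tr G (Nat.le_succ (n + 1)) ≫ q = 0 → q = 0 := by
      intro C q hqe hq0
      haveI := hqe
      -- `i_n ≫ q` is epi
      haveI h1 : Epi (S.i n ≫ q) := by
        apply Preadditive.epi_of_cancel_zero
        intro D r hr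
        rw [Category.assoc] at hr
        -- `q ≫ r` factors through `p_n`
        let r' : G.obj (op 0) ⟶ D := (S.exact n).gIsCokernel.desc (CokernelCofork.ofπ (q ≫ r) hr)
        have hr' : ARSys.tr G (Nat.zero_le (n + 1)) ≫ r' = q ≫ r :=
          (S.exact n).gIsCokernel.fac (CokernelCofork.ofπ (q ≫ r) hr) WalkingParallelPair.one
        have h0 : ARSys.tr G (Nat.zero_le (n + 1 + 1)) ≫ r' = 0 := by
          rw [← S.tr_succ_zero n, Category.assoc, hr', ← Category.assoc, hq0, zero_comp]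
        haveI := S.epi_p (n + 1)
        have hr0 : r' = 0 := (cancel_epi (ARSys.tr G (Nat.zero_le (n + 1 + 1)))).1
          (h0.trans comp_zero.symm)
        rw [hr0, comp_zero] at hr'
        exact (cancel_epi q).1 (hr'.symm.trans comp_zero.symm)
      -- multiplication by `f` on `C` is epi
      have h2 : Epi (Formal.smulMod A C f) := by
        haveI : Epi (ARSys.tr G (Nat.le_succ n) ≫ S.i n ≫ q) := inferInstance
        have e : ARSys.tr G (Nat.le_succ n) ≫ S.i n ≫ q = q ≫ Formal.smulMod A C f := by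
          rw [← Category.assoc, S.fac n, smulMod_naturality]
        rw [e] at this
        exact epi_of_epi q _
      -- a power of `f` kills `C`
      have h3 : Formal.smulMod A C (f ^ (n + 1 + 1)) = 0 := by
        rw [← cancel_epi q, comp_zero, ← smulMod_naturality, S.smul_pow (n + 1), zero_comp]
      haveI h4 := epi_smul_pow_of_epi f h2 (n + 1 + 1)
      have h5 : IsZero C := IsZero.of_epi_eq_zero _ h3
      exact h5.eq_of_tgt _ _
    apply Abelian.epi_of_cokernel_π_eq_zero
    exact key _ _ inferInstance (cokernel.condition _)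

lemma i_t (n : ℕ) :
    S.i n ≫ ARSys.tr G (Nat.le_succ n) = Formal.smulMod A (G.obj (op n)) f := by
  haveI := S.epi_t n
  rw [← cancel_epi (ARSys.tr G (Nat.le_succ n)), ← Category.assoc, S.fac n, smulMod_naturality]

lemma π_tr (n : ℕ) :
    limit.π G (op (n + 1)) ≫ ARSys.tr G (Nat.le_succ n) = limit.π G (op n) := limit.w G _

omit S in
lemma hom_ext_succ {T : X.Modules} (a b : T ⟶ limit G)
    (h : ∀ k : ℕ, a ≫ limit.π G (op (k + 1)) = b ≫ limit.π G (op (k + 1))) : a = b := by
  apply limit.hom_ext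
  intro j
  obtain ⟨k⟩ := j
  have e : limit.π G (op (k + 1)) ≫ ARSys.tr G (Nat.le_succ k) = limit.π G (op k) := limit.w G _
  rw [← e, ← Category.assoc, h k, Category.assoc]

/-- multiplication by `f` is a monomorphism on the limit. -/
lemma mono_smul_limit : Mono (Formal.smulMod A (limit G) f) := by
  apply Preadditive.mono_of_cancel_zero
  intro T ψ hψ
  apply limit.hom_ext
  intro j
  obtain ⟨n⟩ := j
  rw [zero_comp]
  have h1 : ψ ≫ limit.π G (op (n + 1)) ≫ Formal.smulMod A (G.obj (op (n + 1))) f = 0 := by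
    rw [← smulMod_naturality, ← Category.assoc, hψ, zero_comp]
  rw [← S.fac n, ← Category.assoc, ← Category.assoc] at h1
  have h2 : (ψ ≫ limit.π G (op (n + 1))) ≫ ARSys.tr G (Nat.le_succ n) = 0 :=
    (cancel_mono (S.i n)).1 (h1.trans zero_comp.symm)
  rw [Category.assoc, S.π_tr] at h2
  exact h2

/-- a map to the limit vanishing in `G_0` is divisible by `f`. -/
lemma exists_lift_smul {T : X.Modules} (ψ : T ⟶ limit G) (hψ : ψ ≫ limit.π G (op 0) = 0) :
    ∃ ψ' : T ⟶ limit G, ψ' ≫ Formal.smulMod A (limit G) f = ψ := by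
  have h0 : ∀ k : ℕ, (ψ ≫ limit.π G (op (k + 1))) ≫ ARSys.tr G (Nat.zero_le (k + 1)) = 0 := by
    intro k
    have e : limit.π G (op (k + 1)) ≫ ARSys.tr G (Nat.zero_le (k + 1)) = limit.π G (op 0) :=
      limit.w G _
    rw [Category.assoc, e, hψ]
  let χ : ∀ k : ℕ, T ⟶ G.obj (op k) := fun k =>
    (S.exact k).fIsKernel.lift (KernelFork.ofι (ψ ≫ limit.π G (op (k + 1))) (h0 k))
  have hχ : ∀ k, χ k ≫ S.i k = ψ ≫ limit.π G (op (k + 1)) := fun k =>
    (S.exact k).fIsKernel.fac (KernelFork.ofι (ψ ≫ limit.π G (op (k + 1))) (h0 k))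
      WalkingParallelPair.zero
  have hcomp : ∀ k, χ (k + 1) ≫ ARSys.tr G (Nat.le_succ k) = χ k := by
    intro k
    rw [← cancel_mono (S.i k), Category.assoc, S.fac k, ← S.i_t (k + 1), ← Category.assoc,
      hχ (k + 1), Category.assoc, S.π_tr, hχ k]
  let τ : (Functor.const ℕᵒᵖ).obj T ⟶ G := NatTrans.ofOpSequence (fun k => χ k) (by
    intro k
    change 𝟙 T ≫ χ k = χ (k + 1) ≫ ARSys.tr G (Nat.le_succ k)
    rw [Category.id_comp, hcomp k])
  refine ⟨limit.lift G ⟨T, τ⟩, ?_⟩
  apply hom_ext_succ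
  intro k
  have e1 : limit.lift G ⟨T, τ⟩ ≫ limit.π G (op (k + 1)) = χ (k + 1) := limit.lift_π _ _
  rw [Category.assoc, smulMod_naturality, ← Category.assoc, e1, ← S.i_t (k + 1),
    ← Category.assoc, hχ (k + 1), Category.assoc, S.π_tr]

/-- a map to the limit vanishing in `G_n` is divisible by `f^(n+1)`. -/
lemma exists_lift_smul_pow (n : ℕ) {T : X.Modules} (ψ : T ⟶ limit G)
    (hψ : ψ ≫ limit.π G (op n) = 0) :
    ∃ ψ' : T ⟶ limit G, ψ' ≫ Formal.smulMod A (limit G) (f ^ (n + 1)) = ψ := by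
  induction n generalizing T with
  | zero =>
    obtain ⟨ψ', h⟩ := S.exists_lift_smul ψ hψ
    exact ⟨ψ', by rw [zero_add, pow_one]; exact h⟩
  | succ n ih =>
    have h0 : ψ ≫ limit.π G (op 0) = 0 := by
      have e : limit.π G (op (n + 1)) ≫ ARSys.tr G (Nat.zero_le (n + 1)) = limit.π G (op 0) :=
        limit.w G _
      rw [← e, ← Category.assoc, hψ, zero_comp]
    obtain ⟨ψ₁, h1⟩ := S.exists_lift_smul ψ h0
    have h2 : ψ₁ ≫ limit.π G (op n) = 0 := by
      have e1 : (ψ₁ ≫ limit.π G (op n)) ≫ S.i n = 0 := by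
        rw [← S.π_tr n, Category.assoc, Category.assoc, S.fac n, ← smulMod_naturality,
          ← Category.assoc, h1, hψ]
      exact (cancel_mono (S.i n)).1 (e1.trans zero_comp.symm)
    obtain ⟨ψ₂, h3⟩ := ih ψ₁ h2
    refine ⟨ψ₂, ?_⟩
    rw [smulMod_pow_succ, ← Category.assoc, h3, h1]

end FSys

end Sys

section Geometric

variable {X : Scheme.{u}}

noncomputable instance preservesLimitsOfShape_toPresheaf :
    PreservesLimitsOfShape ℕᵒᵖ (Scheme.Modules.toPresheaf X) := by
  haveI : PreservesLimitsOfSize.{0, 0} (Scheme.Modules.toPresheaf X) :=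
    preservesSmallestLimits_of_preservesLimits _
  infer_instance

section AbLim

variable {H : ℕᵒᵖ ⥤ Ab.{u}}

lemma ab_tr_apply_of_succ (x : ∀ n, H.obj (op n))
    (hx : ∀ n, (ARSys.tr H (Nat.le_succ n)) (x (n + 1)) = x n) {a b : ℕ} (h : b ≤ a) :
    (ARSys.tr H h) (x a) = x b := by
  induction a, h using Nat.le_induction with
  | base =>
    have e : ARSys.tr H (le_refl b) = 𝟙 _ := H.map_id _
    rw [e]; rfl
  | succ a hba ih =>
    have e : ARSys.tr H (hba.trans (Nat.le_succ a)) =
        ARSys.tr H (Nat.le_succ a) ≫ ARSys.tr H hba := by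
      unfold ARSys.tr
      rw [← H.map_comp]
      rfl
    change (ARSys.tr H (hba.trans (Nat.le_succ a))) (x (a + 1)) = x b
    rw [e]
    change (ARSys.tr H hba) ((ARSys.tr H (Nat.le_succ a)) (x (a + 1))) = x b
    rw [hx a, ih]

lemma ab_exists_of_compatible {c : Cone H} (hc : IsLimit c) (x : ∀ n, H.obj (op n))
    (hx : ∀ n, (ARSys.tr H (Nat.le_succ n)) (x (n + 1)) = x n) :
    ∃ z : c.pt, ∀ n, (c.π.app (op n)) z = x n := by
  let s : (H ⋙ forget Ab.{u}).sections :=
    ⟨fun j => x j.unop, by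
      intro j j' f
      obtain ⟨a⟩ := j
      obtain ⟨b⟩ := j'
      have hba : b ≤ a := leOfHom f.unop
      exact ab_tr_apply_of_succ x hx hba⟩
  let e := Types.isLimitEquivSections (isLimitOfPreserves (forget Ab.{u}) hc)
  refine ⟨e.symm s, fun n => ?_⟩
  exact Types.isLimitEquivSections_symm_apply
    (isLimitOfPreserves (forget Ab.{u}) hc) s (op n)

end AbLim

variable (G : ℕᵒᵖ ⥤ X.Modules)

lemma exists_section_of_compatible (U : X.Opens) (x : ∀ k, Γ(G.obj (op k), U))
    (hx : ∀ k, (ARSys.tr G (Nat.le_succ k)).app U (x (k + 1)) = x k) :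
    ∃ z : Γ(limit G, U), ∀ k, (limit.π G (op k)).app U z = x k := by
  have hc1 := isLimitOfPreserves (Scheme.Modules.toPresheaf X) (limit.isLimit G)
  have hc2 := isLimitOfPreserves ((evaluation (Opens ↥X)ᵒᵖ Ab.{u}).obj (op U)) hc1
  exact ab_exists_of_compatible hc2 x hx

lemma tr_app_comp {a b c : ℕ} (h1 : a ≤ b) (h2 : b ≤ c) (U : X.Opens)
    (s : Γ(G.obj (op c), U)) :
    (ARSys.tr G h1).app U ((ARSys.tr G h2).app U s) = (ARSys.tr G (h1.trans h2)).app U s := by
  rw [← tr_comp G h1 h2]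
  rfl

open Groth.Agent.Helper13.QCoh Groth.Agent.Helper13.FinType in
/-- for a system of quasi-coherent modules with epimorphic transition maps, the projections
from the limit are epimorphisms. -/
theorem epi_limit_π (hqc : ∀ n, (G.obj (op n)).IsQuasicoherent)
    (ht : ∀ n, Epi (ARSys.tr G (Nat.le_succ n))) (n : ℕ) : Epi (limit.π G (op n)) := by
  have hsurj : ∀ (U : X.Opens), IsAffineOpen U →
      Function.Surjective ((limit.π G (op n)).app U) := by
    intro U hU s
    have hstep : ∀ (k : ℕ) (y : Γ(G.obj (op k), U)), ∃ y' : Γ(G.obj (op (k + 1)), U),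
        (ARSys.tr G (Nat.le_succ k)).app U y' = y := fun k y => by
      haveI := hqc k
      haveI := hqc (k + 1)
      haveI := ht k
      exact Groth.Agent.Helper13.AffSurj.surjective_app_of_epi (ARSys.tr G (Nat.le_succ k)) hU y
    choose st hst using hstep
    let y : ∀ j : ℕ, Γ(G.obj (op (n + j)), U) := fun j =>
      Nat.rec (motive := fun j => Γ(G.obj (op (n + j)), U)) s (fun j yj => st (n + j) yj) j
    have hys : ∀ j, y (j + 1) = st (n + j) (y j) := fun j => rfl
    have hyc : ∀ j, (ARSys.tr G (Nat.le_succ (n + j))).app U (y (j + 1)) = y j := fun j => by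
      rw [hys]; exact hst _ _
    let x : ∀ k, Γ(G.obj (op k), U) := fun k => (ARSys.tr G (Nat.le_add_left k n)).app U (y k)
    have hx : ∀ k, (ARSys.tr G (Nat.le_succ k)).app U (x (k + 1)) = x k := by
      intro k
      change (ARSys.tr G (Nat.le_succ k)).app U
        ((ARSys.tr G (Nat.le_add_left (k + 1) n)).app U (y (k + 1))) =
        (ARSys.tr G (Nat.le_add_left k n)).app U (y k)
      rw [tr_app_comp, ← hyc k, tr_app_comp]
    have hyn : ∀ j, (ARSys.tr G (Nat.le_add_right n j)).app U (y j) = s := by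
      intro j
      induction j with
      | zero =>
        have e : ARSys.tr G (Nat.le_add_right n 0) = 𝟙 _ := G.map_id _
        rw [e]; rfl
      | succ j ih =>
        rw [← ih, ← hyc j, tr_app_comp]
    obtain ⟨z, hz⟩ := exists_section_of_compatible G U x hx
    exact ⟨z, (hz n).trans (hyn n)⟩
  rw [epi_iff_stalkMap_surjective]
  intro p t
  obtain ⟨W, hpW, s, rfl⟩ := TopCat.Presheaf.exists_germ_eq (G.obj (op n)).presheaf t
  obtain ⟨_, ⟨V, hV, rfl⟩, hpV, hVW⟩ := X.isBasis_affineOpens.exists_subset_of_mem_open hpW W.2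
  have hV' : IsAffineOpen V := hV
  have hVW' : V ≤ W := hVW
  let s' : Γ(G.obj (op n), V) := (G.obj (op n)).presheaf.map (homOfLE hVW').op s
  obtain ⟨e, he⟩ := hsurj V hV' s'
  refine ⟨(limit G).presheaf.germ V p hpV e, ?_⟩
  rw [stalkMap_germ, he]
  exact TopCat.Presheaf.germ_res_apply _ (homOfLE hVW') p hpV s

end Geometric

section Final

variable {A : Type u} [CommRing A] {X : Scheme.{u}} [X.Over (Spec (CommRingCat.of A))]
  {f : A} {G : ℕᵒᵖ ⥤ X.Modules} (S : FSys f G)

include S in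
theorem FSys.isCokerOf_limit_π (hqc : ∀ n, (G.obj (op n)).IsQuasicoherent) (n : ℕ) :
    IsCokerOf (Ideal.span ({f} : Set A) ^ (n + 1)) (limit.π G (op n)) := by
  haveI hepi : Epi (limit.π G (op n)) := epi_limit_π G hqc S.epi_t n
  refine ⟨hepi, smulFamily_comp_eq_zero (killedBy_span_pow_of _ f (n + 1) (S.smul_pow n)) _,
    fun T ψ hψ => ?_⟩
  have h1 : Formal.smulMod A (limit G) (f ^ (n + 1)) ≫ ψ = 0 :=
    (smulFamily_comp_eq_zero_iff ψ).mp hψ _
      (Ideal.pow_mem_pow (Ideal.subset_span (Set.mem_singleton f)) _)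
  have h2 : kernel.ι (limit.π G (op n)) ≫ ψ = 0 := by
    obtain ⟨ψ', hψ'⟩ := S.exists_lift_smul_pow n (kernel.ι (limit.π G (op n)))
      (kernel.condition _)
    rw [← hψ', Category.assoc, h1, comp_zero]
  let hcok := Abelian.epiIsCokernelOfKernel
    (KernelFork.ofι (kernel.ι (limit.π G (op n))) (kernel.condition (limit.π G (op n))))
    (kernelIsKernel _)
  exact ⟨hcok.desc (CokernelCofork.ofπ ψ h2), hcok.fac _ WalkingParallelPair.one⟩

theorem exists_torsionFree_completion_iso (f : A) (G : ℕᵒᵖ ⥤ X.Modules)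
    (hqc : ∀ n : ℕᵒᵖ, Coh.IsQCoh (G.obj n))
    (h1 : ∀ n : ℕ, ∃ i : G.obj (op n) ⟶ G.obj (op (n + 1)), Mono i ∧
      G.map (homOfLE (Nat.le_succ n)).op ≫ i = Formal.smulMod A (G.obj (op (n + 1))) f ∧
      ∃ w : i ≫ G.map (homOfLE (Nat.zero_le (n + 1))).op = 0,
        (ShortComplex.mk i (G.map (homOfLE (Nat.zero_le (n + 1))).op) w).ShortExact) :
    ∃ F : X.Modules, Mono (Formal.smulMod A F f) ∧
      Nonempty (Formal.completion (Ideal.span ({f} : Set A)) F ≅ G) := by
  choose i hi using h1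
  let S : FSys f G :=
    { i := i
      mono := fun n => (hi n).1
      fac := fun n => (hi n).2.1
      zero := fun n => (hi n).2.2.choose
      exact := fun n => (hi n).2.2.choose_spec }
  refine ⟨limit G, S.mono_smul_limit, ?_⟩
  refine nonempty_iso_of_isCokerOf (I := Ideal.span ({f} : Set A)) (M := limit G)
    (F := Formal.completion (Ideal.span ({f} : Set A)) (limit G)) (F' := G)
    (fun n => Formal.modPowπ (Ideal.span ({f} : Set A)) (n + 1) (limit G))
    (fun n => limit.π G (op n))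
    (fun n => isCokerOf_π _ _)
    (fun n => S.isCokerOf_limit_π (fun n => hqc (op n)) n) ?_ ?_
  · intro n
    have e1 : (Formal.completion (Ideal.span ({f} : Set A)) (limit G)).map
        (homOfLE (Nat.le_succ n)).op =
        Formal.modPowTrans (Ideal.span ({f} : Set A)) (n + 1) (limit G) :=
      Functor.ofOpSequence_map_homOfLE_succ _ n
    rw [e1]
    exact Formal.modPowπ_trans _ (n + 1) (limit G)
  · intro n
    exact limit.w G _

end Final

end Groth.Agent.Helper14.CohFormal
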