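import Mathlib
import Groth.Agent.Lib.Helper14.CohFormalR

set_option autoImplicit false
universe u v
open CategoryTheory CategoryTheory.Limits AlgebraicGeometry Opposite TopologicalSpace

namespace Groth.Agent.Helper14.CohFormal

section Abstract

variable {C : Type u} [Category.{v} C] [Abelian C]

theorem ses_of_mono_comp {F Q₁ Q Qn : C} (φ ψ : F ⟶ F) [Mono ψ] (π₁ : F ⟶ Q₁) (π : F ⟶ Q)
    (πn : F ⟶ Qn) [Epi π₁] [Epi π] [Epi πn] (w₁ : φ ≫ π₁ = 0)
    (hk : ∀ {T : C} (y : T ⟶ F), y ≫ π = 0 → ∃ l : T ⟶ F, l ≫ φ ≫ ψ = y)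
    (hkn : ∀ {T : C} (y : T ⟶ F), y ≫ πn = 0 → ∃ z : T ⟶ F, z ≫ ψ = y)
    (i : Q₁ ⟶ Q) (hi : π₁ ≫ i = ψ ≫ π) (t : Q ⟶ Qn) (ht : π ≫ t = πn) (wn : ψ ≫ πn = 0) :
    Mono i ∧ ∃ w : i ≫ t = 0, (ShortComplex.mk i t w).ShortExact := by
  have hmono : Mono i := by
    apply Preadditive.mono_of_cancel_zero
    intro T k hk0
    obtain ⟨T', e, he, k', hk'⟩ := surjective_up_to_refinements_of_epi π₁ k
    have h1 : (k' ≫ ψ) ≫ π = 0 := by
      rw [Category.assoc, ← hi, ← Category.assoc, ← hk', Category.assoc, hk0, comp_zero]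
    obtain ⟨l, hl⟩ := hk _ h1
    have h2 : l ≫ φ = k' := by
      rw [← cancel_mono ψ, Category.assoc]; exact hl
    have h3 : e ≫ k = 0 := by rw [hk', ← h2, Category.assoc, w₁, comp_zero]
    exact (cancel_epi e).1 (h3.trans comp_zero.symm)
  have w : i ≫ t = 0 := by
    rw [← cancel_epi π₁, ← Category.assoc, hi, Category.assoc, ht, wn, comp_zero]
  refine ⟨hmono, w, ?_⟩
  haveI : Epi t := epi_of_epi_fac ht
  haveI := hmono
  refine ShortComplex.ShortExact.mk' ?_ inferInstance inferInstance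
  rw [ShortComplex.exact_iff_exact_up_to_refinements]
  intro T x₂ hx₂
  obtain ⟨T', e, he, y, hy⟩ := surjective_up_to_refinements_of_epi π x₂
  have h1 : y ≫ πn = 0 := by
    rw [← ht, ← Category.assoc, ← hy, Category.assoc]
    have : x₂ ≫ t = 0 := hx₂
    rw [this, comp_zero]
  obtain ⟨z, hz⟩ := hkn y h1
  refine ⟨T', e, he, z ≫ π₁, ?_⟩
  change e ≫ x₂ = (z ≫ π₁) ≫ i
  rw [Category.assoc, hi, ← Category.assoc, hz, hy]

end Abstract

section Concrete

variable {A : Type u} [CommRing A] {X : Scheme.{u}} [X.Over (Spec (CommRingCat.of A))]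

lemma mono_smul_pow {F : X.Modules} (a : A) (h : Mono (Formal.smulMod A F a)) (k : ℕ) :
    Mono (Formal.smulMod A F (a ^ k)) := by
  induction k with
  | zero => rw [pow_zero, smulMod_one]; infer_instance
  | succ k ih =>
    rw [smulMod_pow_succ]
    haveI := ih
    haveI := h
    infer_instance

lemma smulFamily_span_pow_comp_eq_zero {F T : X.Modules} (f : A) (k : ℕ) (ψ : F ⟶ T)
    (h : Formal.smulMod A F (f ^ k) ≫ ψ = 0) :
    Formal.smulFamily (Ideal.span ({f} : Set A) ^ k) F ≫ ψ = 0 := by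
  rw [smulFamily_comp_eq_zero_iff]
  intro a ha
  rw [Ideal.span_singleton_pow, Ideal.mem_span_singleton'] at ha
  obtain ⟨b, rfl⟩ := ha
  rw [smulMod_mul, Category.assoc, h, comp_zero]

lemma smul_pow_comp_modPowπ (F : X.Modules) (f : A) (k : ℕ) :
    Formal.smulMod A F (f ^ k) ≫ Formal.modPowπ (Ideal.span ({f} : Set A)) k F = 0 :=
  (smulFamily_comp_eq_zero_iff _).mp (cokernel.condition _) _
    (Ideal.pow_mem_pow (Ideal.subset_span (Set.mem_singleton f)) _)

lemma exists_lift_of_comp_modPowπ_eq_zero {F : X.Modules} (f : A)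
    (hF : Mono (Formal.smulMod A F f)) (k : ℕ) {T : X.Modules} (y : T ⟶ F)
    (hy : y ≫ Formal.modPowπ (Ideal.span ({f} : Set A)) k F = 0) :
    ∃ z : T ⟶ F, z ≫ Formal.smulMod A F (f ^ k) = y := by
  haveI := mono_smul_pow f hF k
  set Φ := Formal.smulMod A F (f ^ k) with hΦ
  have h0 : Formal.smulFamily (Ideal.span ({f} : Set A) ^ k) F ≫ cokernel.π Φ = 0 :=
    smulFamily_span_pow_comp_eq_zero f k _ (cokernel.condition Φ)
  have h1 : y ≫ cokernel.π Φ = 0 := by
    have e : cokernel.π Φ = Formal.modPowπ (Ideal.span ({f} : Set A)) k F ≫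
        cokernel.desc _ (cokernel.π Φ) h0 := (cokernel.π_desc _ _ _).symm
    rw [e, ← Category.assoc, hy, zero_comp]
  let hker := Abelian.monoIsKernelOfCokernel (CokernelCofork.ofπ (cokernel.π Φ)
    (cokernel.condition Φ)) (cokernelIsCokernel Φ)
  exact ⟨hker.lift (KernelFork.ofι y h1), hker.fac _ WalkingParallelPair.zero⟩

theorem exists_shortExact_modPow (f : A) (F : X.Modules) (hF : Mono (Formal.smulMod A F f))
    (n : ℕ) :
    ∃ i : Formal.modPow (Ideal.span ({f} : Set A)) 1 F ⟶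
        Formal.modPow (Ideal.span ({f} : Set A)) (n + 1) F,
      Mono i ∧
      Formal2.modPowLE (Ideal.span ({f} : Set A)) (Nat.le_add_left 1 n) F ≫ i =
        Formal.smulMod A (Formal.modPow (Ideal.span ({f} : Set A)) (n + 1) F) (f ^ n) ∧
      ∃ w : i ≫ Formal.modPowTrans (Ideal.span ({f} : Set A)) n F = 0,
        (ShortComplex.mk i (Formal.modPowTrans (Ideal.span ({f} : Set A)) n F) w).ShortExact := by
  set J := Ideal.span ({f} : Set A) with hJ
  have e1 : Formal.smulMod A F (f ^ 1) ≫ Formal.smulMod A F (f ^ n) ≫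
      Formal.modPowπ J (n + 1) F = 0 := by
    rw [← Category.assoc, ← smulMod_mul, ← pow_add, Nat.add_comm 1 n]
    exact smul_pow_comp_modPowπ F f (n + 1)
  let i : Formal.modPow J 1 F ⟶ Formal.modPow J (n + 1) F :=
    cokernel.desc _ (Formal.smulMod A F (f ^ n) ≫ Formal.modPowπ J (n + 1) F)
      (smulFamily_span_pow_comp_eq_zero f 1 _ e1)
  have hi : Formal.modPowπ J 1 F ≫ i =
      Formal.smulMod A F (f ^ n) ≫ Formal.modPowπ J (n + 1) F := cokernel.π_desc _ _ _
  haveI : Mono (Formal.smulMod A F (f ^ n)) := mono_smul_pow f hF n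
  haveI : Epi (Formal.modPowπ J 1 F) := (isCokerOf_π (J ^ 1) F).1
  haveI : Epi (Formal.modPowπ J (n + 1) F) := (isCokerOf_π (J ^ (n + 1)) F).1
  haveI : Epi (Formal.modPowπ J n F) := (isCokerOf_π (J ^ n) F).1
  have w₁ : Formal.smulMod A F f ≫ Formal.modPowπ J 1 F = 0 := by
    have := smul_pow_comp_modPowπ F f 1
    rwa [pow_one] at this
  obtain ⟨hmono, w, hses⟩ := ses_of_mono_comp (Formal.smulMod A F f) (Formal.smulMod A F (f ^ n))
    (Formal.modPowπ J 1 F) (Formal.modPowπ J (n + 1) F) (Formal.modPowπ J n F) w₁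
    (fun {T} y hy => by
      obtain ⟨z, hz⟩ := exists_lift_of_comp_modPowπ_eq_zero f hF (n + 1) y hy
      exact ⟨z, by rw [← smulMod_pow_succ']; exact hz⟩)
    (fun {T} y hy => exists_lift_of_comp_modPowπ_eq_zero f hF n y hy)
    i hi (Formal.modPowTrans J n F) (Formal.modPowπ_trans J n F) (smul_pow_comp_modPowπ F f n)
  refine ⟨i, hmono, ?_, w, hses⟩
  rw [← cancel_epi (Formal.modPowπ J (n + 1) F), ← Category.assoc, Formal2.modPowπ_modPowLE, hi,
    smulMod_naturality]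

end Concrete

end Groth.Agent.Helper14.CohFormal
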