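import Mathlib
import Groth.Agent.Lib.Helper14.CohFormalS
import Groth.Agent.Lib.Helper13.KerSec

set_option autoImplicit false
universe u
open CategoryTheory CategoryTheory.Limits AlgebraicGeometry Opposite TopologicalSpace
open Finset

namespace Groth.Agent.Helper14.CohFormal

section KerSections

variable {A : Type u} [CommRing A] {X : Scheme.{u}} [X.Over (Spec (CommRingCat.of A))]

/-- `J · Γ(M, W)` as a `Γ(X, W)`-submodule. -/
noncomputable abbrev smulSec (J : Ideal A) (M : X.Modules) (W : X.Opens) : Submodule Γ(X, W) Γ(M, W) :=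
  (Ideal.map (toΓ (A := A) W) J) • (⊤ : Submodule Γ(X, W) Γ(M, W))

lemma res_mem_map {J : Ideal A} {W W' : X.Opens} (h : W' ≤ W) {b : Γ(X, W)}
    (hb : b ∈ Ideal.map (toΓ (A := A) W) J) :
    X.presheaf.map (homOfLE h).op b ∈ Ideal.map (toΓ (A := A) W') J := by
  have e : (X.presheaf.map (homOfLE h).op).hom.comp (toΓ (A := A) W) = toΓ (A := A) W' := by
    ext a
    exact toΓ_res h a
  rw [← e, ← Ideal.map_map]
  exact Ideal.mem_map_of_mem _ hb

lemma res_mem_smulSec {J : Ideal A} {M : X.Modules} {W W' : X.Opens} (h : W' ≤ W) {t : Γ(M, W)}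
    (ht : t ∈ smulSec J M W) : M.presheaf.map (homOfLE h).op t ∈ smulSec J M W' := by
  refine Submodule.smul_induction_on ht (fun b hb y _ => ?_) (fun x y hx hy => ?_)
  · rw [Scheme.Modules.map_smul]
    exact Submodule.smul_mem_smul (res_mem_map h hb) Submodule.mem_top
  · rw [map_add]
    exact add_mem hx hy

/-- sections which are locally in `J · M`. -/
def IsLocSmul (J : Ideal A) (M : X.Modules) (V : X.Opens) (t : Γ(M, V)) : Prop :=
  ∀ y ∈ V, ∃ (W : X.Opens) (hW : W ≤ V), y ∈ W ∧ M.presheaf.map (homOfLE hW).op t ∈ smulSec J M W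

lemma isLocSmul_res {J : Ideal A} {M : X.Modules} {V V' : X.Opens} (h : V' ≤ V) {t : Γ(M, V)}
    (ht : IsLocSmul J M V t) : IsLocSmul J M V' (M.presheaf.map (homOfLE h).op t) := by
  intro y hy
  obtain ⟨W, hW, hyW, hmem⟩ := ht y (h hy)
  refine ⟨W ⊓ V', inf_le_right, ⟨hyW, hy⟩, ?_⟩
  have := res_mem_smulSec (inf_le_left : W ⊓ V' ≤ W) hmem
  rw [← ConcreteCategory.comp_apply, ← Functor.map_comp] at this ⊢
  exact this

lemma isLocSmul_of_mem {J : Ideal A} {M : X.Modules} {V : X.Opens} {t : Γ(M, V)}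
    (ht : t ∈ smulSec J M V) : IsLocSmul J M V t := by
  intro y hy
  refine ⟨V, le_rfl, hy, ?_⟩
  have e : M.presheaf.map (homOfLE (le_refl V)).op t = t := by
    have : (homOfLE (le_refl V)).op = 𝟙 (op V) := rfl
    rw [this, M.presheaf.map_id]
    rfl
  rw [e]
  exact ht

lemma isLocSmul_add {J : Ideal A} {M : X.Modules} {V : X.Opens} {s t : Γ(M, V)}
    (hs : IsLocSmul J M V s) (ht : IsLocSmul J M V t) : IsLocSmul J M V (s + t) := by
  intro y hy
  obtain ⟨W₁, hW₁, hy₁, h₁⟩ := hs y hy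
  obtain ⟨W₂, hW₂, hy₂, h₂⟩ := ht y hy
  refine ⟨W₁ ⊓ W₂, inf_le_left.trans hW₁, ⟨hy₁, hy₂⟩, ?_⟩
  rw [map_add]
  have a₁ := res_mem_smulSec (inf_le_left : W₁ ⊓ W₂ ≤ W₁) h₁
  have a₂ := res_mem_smulSec (inf_le_right : W₁ ⊓ W₂ ≤ W₂) h₂
  rw [← ConcreteCategory.comp_apply, ← Functor.map_comp] at a₁ a₂
  exact add_mem a₁ a₂

lemma isLocSmul_smul {J : Ideal A} {M : X.Modules} {V : X.Opens} (r : Γ(X, V)) {t : Γ(M, V)}
    (ht : IsLocSmul J M V t) : IsLocSmul J M V (r • t) := by
  intro y hy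
  obtain ⟨W, hW, hyW, h⟩ := ht y hy
  refine ⟨W, hW, hyW, ?_⟩
  rw [Scheme.Modules.map_smul]
  exact Submodule.smul_mem _ _ h

/-- the sub-presheaf of sections locally in `J · M`. -/
noncomputable def locSub (J : Ideal A) (M : X.Modules) : PresheafOfModules.Submodule M.val where
  obj V :=
    { carrier := {t | IsLocSmul J M V.unop t}
      add_mem' := fun hs ht => isLocSmul_add hs ht
      zero_mem' := isLocSmul_of_mem (Submodule.zero_mem _)
      smul_mem' := fun r _ ht => isLocSmul_smul r ht }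
  map := by
    intro V W f t ht
    exact isLocSmul_res (leOfHom f.unop) ht

open Groth.Agent.Helper13.FinType in
lemma isLocalSub_locSub (J : Ideal A) (M : X.Modules) : IsLocalSub M (locSub J M) := by
  intro V t h y hy
  obtain ⟨W, hW, hyW, hmem⟩ := h y hy
  obtain ⟨W', hW', hyW', hmem'⟩ := hmem y hyW
  refine ⟨W', hW'.trans hW, hyW', ?_⟩
  rw [← ConcreteCategory.comp_apply, ← Functor.map_comp] at hmem'
  exact hmem'

open Groth.Agent.Helper13.FinType Groth.Agent.Helper13.KerSec in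
/-- sections killed by a cokernel of the multiplication family of `J` are locally in `J · M`. -/
theorem isLocSmul_of_isCokerOf {J : Ideal A} {M N : X.Modules} {q : M ⟶ N} (h : IsCokerOf J q)
    (V : X.Opens) (x : Γ(M, V)) (hx : q.app V x = 0) : IsLocSmul J M V x := by
  let hS := isLocalSub_locSub J M
  let ι := subsheafι M (locSub J M) hS
  let π := cokernel.π ι
  have hπ : Formal.smulFamily J M ≫ π = 0 := by
    rw [smulFamily_comp_eq_zero_iff]
    intro a ha
    have hl : ∀ (V : X.Opens) (m : Γ(M, V)),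
        (Formal.smulMod A M a).app V m ∈ (locSub J M).obj (op V) := fun V m =>
      isLocSmul_of_mem (Submodule.smul_mem_smul (Ideal.mem_map_of_mem _ ha) Submodule.mem_top)
    rw [← subsheafLift_ι M (locSub J M) hS (Formal.smulMod A M a) hl, Category.assoc]
    change _ ≫ ι ≫ cokernel.π ι = 0
    rw [cokernel.condition, comp_zero]
  obtain ⟨ψ', hψ'⟩ := h.2.2 _ π hπ
  have hπx : π.app V x = 0 := by
    rw [← hψ']
    change ψ'.app V (q.app V x) = 0
    rw [hx, map_zero]
  obtain ⟨k, hk⟩ := exists_kernel_section π V x hπx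
  let hker := Abelian.monoIsKernelOfCokernel (CokernelCofork.ofπ π (cokernel.condition ι))
    (cokernelIsCokernel ι)
  let e : kernel π ⟶ subsheaf M (locSub J M) hS :=
    hker.lift (KernelFork.ofι (kernel.ι π) (kernel.condition π))
  have he : e ≫ ι = kernel.ι π := hker.fac _ WalkingParallelPair.zero
  have hx2 : x = ι.app V (e.app V k) := by
    rw [← hk, ← he]
    rfl
  rw [hx2]
  exact subsheafι_app_mem M (locSub J M) hS V _

section Affine

variable {J : Ideal A} {M : X.Modules} [M.IsQuasicoherent] {U : X.Opens} (hU : IsAffineOpen U)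

open Groth.Agent.Helper13.QCoh

include hU in
/-- clearing denominators in `J · M(D(g))`. -/
lemma exists_pow_smul_eq_res_of_mem (g : Γ(X, U)) (s : Γ(M, X.basicOpen g))
    (hs : s ∈ smulSec J M (X.basicOpen g)) :
    ∃ (n : ℕ) (t : Γ(M, U)), t ∈ smulSec J M U ∧
      M.presheaf.map (homOfLE (X.basicOpen_le g)).op t =
        (X.presheaf.map (homOfLE (X.basicOpen_le g)).op g) ^ n • s := by
  set g' := X.presheaf.map (homOfLE (X.basicOpen_le g)).op g with hg'
  -- the statement for a single product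
  have key : ∀ b ∈ Ideal.map (toΓ (A := A) (X.basicOpen g)) J, ∀ y : Γ(M, X.basicOpen g),
      ∃ (n : ℕ) (t : Γ(M, U)), t ∈ smulSec J M U ∧
        M.presheaf.map (homOfLE (X.basicOpen_le g)).op t = g' ^ n • (b • y) := by
    intro b hb
    induction hb using Submodule.span_induction with
    | mem b hb =>
      obtain ⟨a, ha, rfl⟩ := hb
      intro y
      obtain ⟨n, t₀, ht₀⟩ := exists_pow_smul_eq_res M hU g y
      refine ⟨n, toΓ (A := A) U a • t₀,
        Submodule.smul_mem_smul (Ideal.mem_map_of_mem _ ha) Submodule.mem_top, ?_⟩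
      rw [Scheme.Modules.map_smul, ht₀, toΓ_res, smul_comm]
    | zero =>
      intro y
      exact ⟨0, 0, Submodule.zero_mem _, by rw [map_zero, zero_smul, smul_zero]⟩
    | add b₁ b₂ _ _ h₁ h₂ =>
      intro y
      obtain ⟨n₁, t₁, ht₁, e₁⟩ := h₁ y
      obtain ⟨n₂, t₂, ht₂, e₂⟩ := h₂ y
      refine ⟨n₁ + n₂, g ^ n₂ • t₁ + g ^ n₁ • t₂,
        add_mem (Submodule.smul_mem _ _ ht₁) (Submodule.smul_mem _ _ ht₂), ?_⟩
      rw [map_add, Scheme.Modules.map_smul, Scheme.Modules.map_smul, e₁, e₂, map_pow, map_pow,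
        ← hg', add_smul, smul_add, pow_add, mul_smul, mul_smul,
        smul_comm (g' ^ n₂) (g' ^ n₁) (b₁ • y)]
    | smul c b₁ _ h₁ =>
      intro y
      obtain ⟨n, t, ht, e⟩ := h₁ (c • y)
      refine ⟨n, t, ht, ?_⟩
      rw [e, smul_eq_mul, mul_comm c b₁, mul_smul]
  refine Submodule.smul_induction_on hs (fun b hb y _ => key b hb y) (fun s₁ s₂ h₁ h₂ => ?_)
  obtain ⟨n₁, t₁, ht₁, e₁⟩ := h₁
  obtain ⟨n₂, t₂, ht₂, e₂⟩ := h₂
  refine ⟨n₁ + n₂, g ^ n₂ • t₁ + g ^ n₁ • t₂,
    add_mem (Submodule.smul_mem _ _ ht₁) (Submodule.smul_mem _ _ ht₂), ?_⟩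
  rw [map_add, Scheme.Modules.map_smul, Scheme.Modules.map_smul, e₁, e₂, map_pow, map_pow,
    ← hg', smul_add, pow_add, mul_smul, mul_smul, smul_comm (g' ^ n₂) (g' ^ n₁) s₁]

include hU in
lemma exists_pow_smul_mem_of_res_mem (g : Γ(X, U)) (t : Γ(M, U))
    (ht : M.presheaf.map (homOfLE (X.basicOpen_le g)).op t ∈ smulSec J M (X.basicOpen g)) :
    ∃ n : ℕ, g ^ n • t ∈ smulSec J M U := by
  obtain ⟨n, t', ht', e⟩ := exists_pow_smul_eq_res_of_mem hU g _ ht
  have h0 : M.presheaf.map (homOfLE (X.basicOpen_le g)).op (g ^ n • t - t') = 0 := by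
    rw [map_sub, Scheme.Modules.map_smul, e, map_pow, sub_self]
  obtain ⟨m, hm⟩ := exists_pow_smul_eq_zero M hU g _ h0
  refine ⟨m + n, ?_⟩
  rw [smul_sub, sub_eq_zero, smul_smul, ← pow_add] at hm
  rw [hm]
  exact Submodule.smul_mem _ _ ht'

include hU in
/-- on an affine open, a section of a quasi-coherent module which is locally in `J · M` is in
`J · M(U)`. -/
theorem mem_smulSec_of_isLocSmul (x : Γ(M, U)) (hx : IsLocSmul J M U x) : x ∈ smulSec J M U := by
  let s : Set Γ(X, U) := {g | ∃ n : ℕ, g ^ n • x ∈ smulSec J M U}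
  have hs : Ideal.span s = ⊤ := by
    rw [← hU.self_le_iSup_basicOpen_iff]
    intro y hy
    obtain ⟨W, hW, hyW, hmem⟩ := hx y hy
    obtain ⟨g, hgW, hyg⟩ := hU.exists_basicOpen_le ⟨y, hyW⟩ hy
    have h1 := res_mem_smulSec hgW hmem
    rw [← ConcreteCategory.comp_apply, ← Functor.map_comp] at h1
    have hgs : g ∈ s := exists_pow_smul_mem_of_res_mem hU g x h1
    exact Opens.mem_iSup.2 ⟨⟨g, hgs⟩, hyg⟩
  exact Submodule.mem_of_span_eq_top_of_smul_pow_mem _ s hs x (fun r => r.2)

include hU in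
/-- **kernel on affine sections**: if `q` is a cokernel of the multiplication family of `J` on
the quasi-coherent module `M` then the kernel of `q` on sections over an affine open `U` is
`J · M(U)`. -/
theorem mem_smulSec_of_isCokerOf {N : X.Modules} {q : M ⟶ N} (h : IsCokerOf J q)
    (x : Γ(M, U)) (hx : q.app U x = 0) : x ∈ smulSec J M U :=
  mem_smulSec_of_isLocSmul hU x (isLocSmul_of_isCokerOf h U x hx)

end Affine

end KerSections

section Alg

variable {B : Type*} [CommRing B]

lemma exists_sum_of_mem_span_range_smul {N : Type*} [AddCommGroup N] [Module B N] {r : ℕ}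
    (g : Fin r → B) (N' : Submodule B N) {y : N}
    (hy : y ∈ Ideal.span (Set.range g) • N') :
    ∃ c : Fin r → N, (∀ j, c j ∈ N') ∧ y = ∑ j, g j • c j := by
  refine Submodule.smul_induction_on hy (fun a ha n hn => ?_) (fun y₁ y₂ h₁ h₂ => ?_)
  · obtain ⟨c, rfl⟩ := (Ideal.mem_span_range_iff_exists_fun).1 ha
    refine ⟨fun j => c j • n, fun j => N'.smul_mem _ hn, ?_⟩
    rw [Finset.sum_smul]
    refine Finset.sum_congr rfl (fun j _ => ?_)
    change (c j • g j) • n = g j • (c j • n)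
    rw [smul_eq_mul, mul_comm, mul_smul]
  · obtain ⟨c₁, hc₁, rfl⟩ := h₁
    obtain ⟨c₂, hc₂, rfl⟩ := h₂
    refine ⟨fun j => c₁ j + c₂ j, fun j => N'.add_mem (hc₁ j) (hc₂ j), ?_⟩
    rw [← Finset.sum_add_distrib]
    refine Finset.sum_congr rfl (fun j _ => ?_)
    rw [smul_add]

/-- the kernel of the projection from an adic limit. -/
theorem ker_le_smul_top_of_adic_limit (𝔟 : Ideal B)
    {M : ℕ → Type*} [∀ m, AddCommGroup (M m)] [∀ m, Module B (M m)]
    (t : ∀ m, M (m + 1) →ₗ[B] M m)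
    (hker : ∀ m, LinearMap.ker (t m) ≤ 𝔟 ^ (m + 1) • ⊤)
    (hkill : ∀ m, ∀ b ∈ 𝔟 ^ (m + 1), ∀ y : M m, b • y = 0)
    {L : Type*} [AddCommGroup L] [Module B L] (p : ∀ m, L →ₗ[B] M m)
    (hp : ∀ m z, t m (p (m + 1) z) = p m z)
    (hsurj : ∀ m, Function.Surjective (p m))
    (hinj : ∀ z : L, (∀ m, p m z = 0) → z = 0)
    (hlift : ∀ y : ∀ m, M m, (∀ m, t m (y (m + 1)) = y m) → ∃ z : L, ∀ m, p m z = y m)
    (n : ℕ) (hfg : (𝔟 ^ (n + 1)).FG) :
    LinearMap.ker (p n) ≤ 𝔟 ^ (n + 1) • ⊤ := by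
  classical
  obtain ⟨r, g, hg⟩ := (Submodule.fg_iff_exists_fin_generating_family).1 hfg
  -- (b) kernels decrease
  have hdec : ∀ {a b : ℕ}, a ≤ b → ∀ z, p b z = 0 → p a z = 0 := by
    intro a b hab
    induction b, hab using Nat.le_induction with
    | base => exact fun z hz => hz
    | succ b _ ih =>
      intro z hz
      apply ih
      rw [← hp b z, hz, map_zero]
  -- (c)
  have hc : ∀ k, 𝔟 ^ (k + 1) • (⊤ : Submodule B L) ≤ LinearMap.ker (p k) := by
    intro k
    rw [Submodule.smul_le]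
    intro b hb z _
    rw [LinearMap.mem_ker, map_smul]
    exact hkill k b hb _
  -- (d) one step
  have step : ∀ (k : ℕ) (x : L), ∃ z : Fin r → L, (∀ j, z j ∈ 𝔟 ^ k • (⊤ : Submodule B L)) ∧
      (p (n + k) x = 0 → p (n + k + 1) (x - ∑ j, g j • z j) = 0) := by
    intro k x
    by_cases hx : p (n + k) x = 0
    swap
    · exact ⟨fun _ => 0, fun _ => Submodule.zero_mem _, fun h => absurd h hx⟩
    have h1 : p (n + k + 1) x ∈ LinearMap.ker (t (n + k)) := by
      rw [LinearMap.mem_ker, hp, hx]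
    have h2 := hker (n + k) h1
    have hg' : Ideal.span (Set.range g) = 𝔟 ^ (n + 1) := hg
    have e : 𝔟 ^ (n + k + 1) = Ideal.span (Set.range g) * 𝔟 ^ k := by
      rw [hg', ← pow_add]
      congr 1
      omega
    rw [e, Submodule.mul_smul] at h2
    obtain ⟨c, hc1, hc2⟩ := exists_sum_of_mem_span_range_smul g _ h2
    have hmap : ∀ j, ∃ z : L, z ∈ 𝔟 ^ k • (⊤ : Submodule B L) ∧ p (n + k + 1) z = c j := by
      intro j
      have h3 : c j ∈ Submodule.map (p (n + k + 1)) (𝔟 ^ k • (⊤ : Submodule B L)) := by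
        rw [Submodule.map_smul'', Submodule.map_top, LinearMap.range_eq_top.2 (hsurj _)]
        exact hc1 j
      obtain ⟨z, hz, hz'⟩ := h3
      exact ⟨z, hz, hz'⟩
    choose z hz1 hz2 using hmap
    refine ⟨z, hz1, fun _ => ?_⟩
    rw [map_sub, map_sum, hc2, sub_eq_zero]
    refine Finset.sum_congr rfl (fun j _ => ?_)
    rw [map_smul, hz2]
  choose zf hz1 hz2 using step
  intro x hx
  rw [LinearMap.mem_ker] at hx
  -- the sequence
  let xs : ℕ → L := fun k => Nat.rec x (fun k xk => xk - ∑ j, g j • zf k xk j) k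
  have hxs0 : xs 0 = x := rfl
  have hxss : ∀ k, xs (k + 1) = xs k - ∑ j, g j • zf k (xs k) j := fun k => rfl
  have hxk : ∀ k, p (n + k) (xs k) = 0 := by
    intro k
    induction k with
    | zero => exact hx
    | succ k ih =>
      rw [hxss]
      exact hz2 k (xs k) ih
  let zs : ℕ → Fin r → L := fun k j => zf k (xs k) j
  have hzs : ∀ k j, zs k j ∈ 𝔟 ^ k • (⊤ : Submodule B L) := fun k j => hz1 k (xs k) j
  -- (f) the sums
  have hZ : ∀ j, ∃ Z : L, ∀ m, p m Z = ∑ k ∈ range (m + 1), p m (zs k j) := by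
    intro j
    apply hlift (fun m => ∑ k ∈ range (m + 1), p m (zs k j))
    intro m
    rw [map_sum, Finset.sum_range_succ]
    have h0 : p m (zs (m + 1) j) = 0 := hc m (hzs (m + 1) j)
    simp only [hp]
    rw [h0, add_zero]
  choose Z hZ using hZ
  have hxZ : x = ∑ j, g j • Z j := by
    rw [← sub_eq_zero]
    apply hinj
    intro m
    rw [map_sub, map_sum]
    have e1 : ∑ j, p m (g j • Z j) = ∑ k ∈ range (m + 1), p m (xs k - xs (k + 1)) := by
      simp only [map_smul, hZ, Finset.smul_sum]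
      rw [Finset.sum_comm]
      refine Finset.sum_congr rfl (fun k _ => ?_)
      rw [hxss, sub_sub_cancel, map_sum]
      refine Finset.sum_congr rfl (fun j _ => ?_)
      rw [map_smul]
    rw [e1]
    simp only [map_sub]
    rw [Finset.sum_range_sub', hxs0, sub_sub_cancel]
    exact hdec (by omega) _ (hxk (m + 1))
  have hg' : Ideal.span (Set.range g) = 𝔟 ^ (n + 1) := hg
  rw [hxZ, ← hg']
  exact Submodule.sum_mem _ (fun j _ =>
    Submodule.smul_mem_smul (Ideal.subset_span (Set.mem_range_self j)) Submodule.mem_top)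

end Alg

section LimSections

variable {X : Scheme.{u}}

lemma hom_eq_zero_of_affine {M N : X.Modules} (φ : M ⟶ N)
    (h : ∀ (U : X.Opens), IsAffineOpen U → ∀ s : Γ(M, U), φ.app U s = 0) : φ = 0 := by
  apply Scheme.Modules.hom_ext
  intro V
  ext s
  have hex : ∀ y : V, ∃ W : X.Opens, IsAffineOpen W ∧ y.1 ∈ W ∧ W ≤ V := by
    intro y
    obtain ⟨_, ⟨W, hW, rfl⟩, hyW, hWV⟩ :=
      X.isBasis_affineOpens.exists_subset_of_mem_open y.2 V.2
    exact ⟨W, hW, hyW, hWV⟩
  choose W hW hyW hWV using hex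
  change φ.app V s = 0
  apply TopCat.Sheaf.eq_of_locally_eq' ⟨N.presheaf, N.isSheaf⟩ W V (fun y => homOfLE (hWV y))
  · intro y hy
    exact Opens.mem_iSup.2 ⟨⟨y, hy⟩, hyW ⟨y, hy⟩⟩
  · intro y
    have := φ.mapPresheaf.naturality (homOfLE (hWV y)).op
    have h2 := congr($this s)
    rw [map_zero]
    exact h2.symm.trans (h _ (hW y) _)

lemma limit_section_ext (G : ℕᵒᵖ ⥤ X.Modules) (U : X.Opens) (z z' : Γ(limit G, U))
    (h : ∀ k, (limit.π G (op k)).app U z = (limit.π G (op k)).app U z') : z = z' := by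
  have hc1 := isLimitOfPreserves (Scheme.Modules.toPresheaf X) (limit.isLimit G)
  have hc2 := isLimitOfPreserves ((evaluation (Opens ↥X)ᵒᵖ Ab.{u}).obj (op U)) hc1
  exact Concrete.isLimit_ext _ hc2 _ _ (fun j => h j.unop)

/-- the map on sections as a linear map. -/
noncomputable def appLin {M N : X.Modules} (φ : M ⟶ N) (U : X.Opens) :
    Γ(M, U) →ₗ[Γ(X, U)] Γ(N, U) where
  toFun := fun s => φ.app U s
  map_add' := fun a b => map_add _ a b
  map_smul' := fun r a => Scheme.Modules.Hom.app_smul φ r a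

lemma appLin_apply {M N : X.Modules} (φ : M ⟶ N) (U : X.Opens) (s : Γ(M, U)) :
    appLin φ U s = φ.app U s := rfl

/-- for a system of quasi-coherent modules with epimorphic transition maps, the projections
from the limit are surjective on sections over affine opens. -/
theorem surjective_limit_π_app (G : ℕᵒᵖ ⥤ X.Modules) (hqc : ∀ n, (G.obj (op n)).IsQuasicoherent)
    (ht : ∀ n, Epi (ARSys.tr G (Nat.le_succ n))) (n : ℕ) (U : X.Opens) (hU : IsAffineOpen U) :
    Function.Surjective ((limit.π G (op n)).app U) := by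
  intro s
  have hstep : ∀ (k : ℕ) (y : Γ(G.obj (op k), U)), ∃ y' : Γ(G.obj (op (k + 1)), U),
      (ARSys.tr G (Nat.le_succ k)).app U y' = y := fun k y => by
    haveI := hqc k
    haveI := hqc (k + 1)
    haveI := ht k
    exact Groth.Agent.Helper13.AffSurj.surjective_app_of_epi (ARSys.tr G (Nat.le_succ k)) hU y
  choose st hst using hstep
  let y : ∀ j : ℕ, Γ(G.obj (op (n + j)), U) := fun j =>
    Nat.rec (motive := fun j => Γ(G.obj (op (n + j)), U)) s (fun j yj => st (n + j) yj) j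
  have hys : ∀ j, y (j + 1) = st (n + j) (y j) := fun j => rfl
  have hyc : ∀ j, (ARSys.tr G (Nat.le_succ (n + j))).app U (y (j + 1)) = y j := fun j => by
    rw [hys]; exact hst _ _
  let x : ∀ k, Γ(G.obj (op k), U) := fun k => (ARSys.tr G (Nat.le_add_left k n)).app U (y k)
  have hx : ∀ k, (ARSys.tr G (Nat.le_succ k)).app U (x (k + 1)) = x k := by
    intro k
    change (ARSys.tr G (Nat.le_succ k)).app U
      ((ARSys.tr G (Nat.le_add_left (k + 1) n)).app U (y (k + 1))) =
      (ARSys.tr G (Nat.le_add_left k n)).app U (y k)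
    rw [tr_app_comp, ← hyc k, tr_app_comp]
  have hyn : ∀ j, (ARSys.tr G (Nat.le_add_right n j)).app U (y j) = s := by
    intro j
    induction j with
    | zero =>
      have e : ARSys.tr G (Nat.le_add_right n 0) = 𝟙 _ := G.map_id _
      rw [e]; rfl
    | succ j ih =>
      rw [← ih, ← hyc j, tr_app_comp]
  obtain ⟨z, hz⟩ := exists_section_of_compatible G U x hx
  exact ⟨z, (hz n).trans (hyn n)⟩

end LimSections

section QCohFormal

variable {A : Type u} [CommRing A] {X : Scheme.{u}} [X.Over (Spec (CommRingCat.of A))]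

lemma isCokerOf_succ_of_isQCohFormal {I : Ideal A} {G : ℕᵒᵖ ⥤ X.Modules}
    (hG : Formal2.IsQCohFormal I G) (n : ℕ) :
    IsCokerOf (I ^ (n + 1)) (ARSys.tr G (Nat.le_succ n)) := by
  obtain ⟨h, hiso⟩ := hG.2.2 n
  haveI := hiso
  exact isCokerOf_of_isIso_desc _ _ h

lemma smul_eq_zero_of_mem_map_self {K : Ideal A} {F : X.Modules} (hF : Formal.KilledBy K F)
    {U : X.Opens} (b : Γ(X, U)) (hb : b ∈ Ideal.map (toΓ (A := A) U) K) (s : Γ(F, U)) :
    b • s = 0 := by
  have := smul_eq_zero_of_mem_map hF (le_refl U) b hb s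
  have e : X.presheaf.map (homOfLE (le_refl U)).op b = b := by
    have : (homOfLE (le_refl U)).op = 𝟙 (op U) := rfl
    rw [this, X.presheaf.map_id]
    rfl
  rwa [e] at this

/-- sections over an affine open of the kernel of a projection from the limit of a
quasi-coherent formal system. -/
theorem mem_smulSec_of_limit_π_eq_zero {I : Ideal A} (hI : I.FG) {G : ℕᵒᵖ ⥤ X.Modules}
    (hG : Formal2.IsQCohFormal I G) (n : ℕ) {U : X.Opens} (hU : IsAffineOpen U)
    (x : Γ(limit G, U)) (hx : (limit.π G (op n)).app U x = 0) :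
    x ∈ smulSec (I ^ (n + 1)) (limit G) U := by
  have hqc : ∀ m, (G.obj (op m)).IsQuasicoherent := fun m => hG.1 m
  have hepi : ∀ m, Epi (ARSys.tr G (Nat.le_succ m)) := fun m =>
    (isCokerOf_succ_of_isQCohFormal hG m).1
  have key := ker_le_smul_top_of_adic_limit (Ideal.map (toΓ (A := A) U) I)
    (M := fun m => Γ(G.obj (op m), U))
    (fun m => appLin (ARSys.tr G (Nat.le_succ m)) U)
    (fun m y hy => by
      haveI := hqc (m + 1)
      have := mem_smulSec_of_isCokerOf hU (isCokerOf_succ_of_isQCohFormal hG m) y hy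
      unfold smulSec at this
      rwa [Ideal.map_pow] at this)
    (fun m b hb y => by
      rw [← Ideal.map_pow] at hb
      exact smul_eq_zero_of_mem_map_self (hG.2.1 m) b hb y)
    (L := Γ(limit G, U)) (fun m => appLin (limit.π G (op m)) U)
    (fun m z => by
      have := limit.w G (homOfLE (Nat.le_succ m)).op
      exact congrArg (fun ψ => ψ.app U z) this)
    (fun m => surjective_limit_π_app G hqc hepi m U hU)
    (fun z hz => limit_section_ext G U z 0 (fun k => (hz k).trans (map_zero _).symm))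
    (fun y hy => exists_section_of_compatible G U y hy)
    n ((hI.map _).pow)
  have := key hx
  unfold smulSec
  rwa [Ideal.map_pow]

open Groth.Agent.Helper13.KerSec in
/-- **limit of a quasi-coherent formal system**: `lim G / I^(n+1) = G_n`. -/
theorem isCokerOf_limit_π_of_isQCohFormal {I : Ideal A} (hI : I.FG) {G : ℕᵒᵖ ⥤ X.Modules}
    (hG : Formal2.IsQCohFormal I G) (n : ℕ) :
    IsCokerOf (I ^ (n + 1)) (limit.π G (op n)) := by
  have hqc : ∀ m, (G.obj (op m)).IsQuasicoherent := fun m => hG.1 m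
  have hepi' : ∀ m, Epi (ARSys.tr G (Nat.le_succ m)) := fun m =>
    (isCokerOf_succ_of_isQCohFormal hG m).1
  haveI hepi : Epi (limit.π G (op n)) := epi_limit_π G hqc hepi' n
  refine ⟨hepi, smulFamily_comp_eq_zero (hG.2.1 n) _, fun T ψ hψ => ?_⟩
  have h2 : kernel.ι (limit.π G (op n)) ≫ ψ = 0 := by
    apply hom_eq_zero_of_affine
    intro U hU k
    have hk := kernel_ι_app_comp (limit.π G (op n)) U k
    have hmem := mem_smulSec_of_limit_π_eq_zero hI hG n hU _ hk
    change ψ.app U ((kernel.ι (limit.π G (op n))).app U k) = 0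
    have hzero : ∀ b ∈ Ideal.map (toΓ (A := A) U) (I ^ (n + 1)), ∀ y : Γ(limit G, U),
        ψ.app U (b • y) = 0 := by
      intro b hb
      induction hb using Submodule.span_induction with
      | mem b hb =>
        obtain ⟨a, ha, rfl⟩ := hb
        intro y
        have := (smulFamily_comp_eq_zero_iff ψ).mp hψ a ha
        exact congrArg (fun θ => θ.app U y) this
      | zero => intro y; rw [zero_smul, map_zero]
      | add b₁ b₂ _ _ h₁ h₂ => intro y; rw [add_smul, map_add, h₁, h₂, add_zero]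
      | smul c b₁ _ h₁ => intro y; rw [smul_eq_mul, mul_comm, mul_smul]; exact h₁ _
    refine Submodule.smul_induction_on hmem (fun b hb y _ => hzero b hb y) (fun y₁ y₂ h₁ h₂ => ?_)
    rw [map_add, h₁, h₂, add_zero]
  let hcok := Abelian.epiIsCokernelOfKernel
    (KernelFork.ofι (kernel.ι (limit.π G (op n))) (kernel.condition (limit.π G (op n))))
    (kernelIsKernel _)
  exact ⟨hcok.desc (CokernelCofork.ofπ ψ h2), hcok.fac _ WalkingParallelPair.one⟩

end QCohFormal

end Groth.Agent.Helper14.CohFormal
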