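import Mathlib
import Groth.Agent.Lib.Helper18.PbCompat3
import Groth.Agent.Lib.Helper13.KerSec
import Groth.Agent.Lib.Helper13.Qcqs
import Groth.Agent.Lib.Helper13.QCohKer
import Groth.Agent.Lib.Helper13.FinAffine2
import Groth.Agent.Lib.Helper14.CohFormalT
import Groth.Prelude.Def_Dual3

set_option autoImplicit false
universe u
open CategoryTheory CategoryTheory.Limits AlgebraicGeometry Opposite TopologicalSpace TensorProduct

namespace Groth.Agent.Helper14.IdealMul

section Alg

variable {B B' : Type*} [CommRing B] [CommRing B'] [Algebra B B']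
  {M : Type*} [AddCommGroup M] [Module B M]

/-- for a surjective ring map, `1 ⊗ m = 0` iff `m ∈ ker • M`. -/
lemma one_tmul_eq_zero_iff (hsurj : Function.Surjective (algebraMap B B')) (m : M) :
    (1 : B') ⊗ₜ[B] m = 0 ↔ m ∈ RingHom.ker (algebraMap B B') • (⊤ : Submodule B M) := by
  let K := RingHom.ker (algebraMap B B')
  let e : (B ⧸ K) ≃ₐ[B] B' :=
    Ideal.quotientKerAlgEquivOfSurjective (f := Algebra.ofId B B') hsurj
  let E : B' ⊗[B] M ≃ₗ[B] (B ⧸ K) ⊗[B] M :=
    TensorProduct.congr e.symm.toLinearEquiv (LinearEquiv.refl B M)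
  have h1 : E ((1 : B') ⊗ₜ[B] m) = (1 : B ⧸ K) ⊗ₜ[B] m := by
    simp [E]
  have h2 : (TensorProduct.quotTensorEquivQuotSMul M K) ((1 : B ⧸ K) ⊗ₜ[B] m) =
      Submodule.Quotient.mk m := TensorProduct.quotTensorEquivQuotSMul_mk_one_tmul K m
  constructor
  · intro h
    have : (TensorProduct.quotTensorEquivQuotSMul M K) (E ((1 : B') ⊗ₜ[B] m)) = 0 := by
      rw [h, map_zero, map_zero]
    rw [h1, h2, Submodule.Quotient.mk_eq_zero] at this
    exact this
  · intro h
    apply E.injective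
    apply (TensorProduct.quotTensorEquivQuotSMul M K).injective
    rw [h1, h2, map_zero, map_zero, Submodule.Quotient.mk_eq_zero]
    exact h

end Alg

section IM1

open OmegaSh Groth.Agent.Helper13.Pullback Groth.Agent.Helper18.PbCompat

variable {X : Scheme.{u}} (I : X.IdealSheafData)

set_option maxRecDepth 8000 in
/-- **sections of the unit `F ⟶ i_* i^* F` over an affine open**: a section dies iff it lies in
`I(U) · F(U)`. -/
theorem pullSect_eq_zero_iff (F : X.Modules) [F.IsQuasicoherent] (U : X.affineOpens)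
    (m : Γ(F, U.1)) :
    pullSect I.subschemeι F U.1 m = 0 ↔
      m ∈ I.ideal U • (⊤ : Submodule Γ(X, U.1) Γ(F, U.1)) := by
  have hU' : IsAffineOpen (I.subschemeι ⁻¹ᵁ U.1) := U.2.preimage I.subschemeι
  letI := (I.subschemeι.appLE U.1 (I.subschemeι ⁻¹ᵁ U.1) le_rfl).hom.toAlgebra
  have h := sectionsPullbackEquiv_pullSect I.subschemeι F hU' U.2 le_rfl m
  have hid : ((Scheme.Modules.pullback I.subschemeι).obj F).presheaf.map
      (homOfLE (le_refl (I.subschemeι ⁻¹ᵁ U.1))).op (pullSect I.subschemeι F U.1 m) =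
      pullSect I.subschemeι F U.1 m := by
    have e : (homOfLE (le_refl (I.subschemeι ⁻¹ᵁ U.1))).op = 𝟙 _ := rfl
    rw [e, ((Scheme.Modules.pullback I.subschemeι).obj F).presheaf.map_id]
    rfl
  rw [hid] at h
  have hal : algebraMap Γ(X, U.1) Γ(I.subscheme, I.subschemeι ⁻¹ᵁ U.1) =
      (I.subschemeι.app U.1).hom := by
    change (I.subschemeι.appLE U.1 (I.subschemeι ⁻¹ᵁ U.1) le_rfl).hom = _
    rw [Scheme.Hom.appLE_eq_app]
  have hsurj : Function.Surjective
      (algebraMap Γ(X, U.1) Γ(I.subscheme, I.subschemeι ⁻¹ᵁ U.1)) := by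
    rw [hal]
    exact I.subschemeι_app_surjective U
  have hker : RingHom.ker (algebraMap Γ(X, U.1) Γ(I.subscheme, I.subschemeι ⁻¹ᵁ U.1)) =
      I.ideal U := by
    rw [hal]
    exact I.ker_subschemeι_app U
  rw [← hker, ← one_tmul_eq_zero_iff hsurj m, ← h]
  constructor
  · intro h0
    rw [h0, map_zero]
  · intro h0
    exact (sectionsPullbackEquiv I.subschemeι F hU' U.2 le_rfl).injective
      (h0.trans (map_zero _).symm)

end IM1

section Basic

open OmegaSh Groth.Agent.Helper13.KerSec Groth.Agent.Helper13.QCoh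

variable {X : Scheme.{u}} (I : X.IdealSheafData)

instance isQuasicoherent_idealMul (F : X.Modules) [F.IsQuasicoherent] :
    ((Dual3.idealMul I).obj F).IsQuasicoherent := by
  haveI : ((Scheme.Modules.pullback I.subschemeι).obj F).IsQuasicoherent :=
    Groth.Agent.Helper13.Pullback.isQuasicoherent_pullback _ F
  haveI : ((Scheme.Modules.pushforward I.subschemeι).obj
      ((Scheme.Modules.pullback I.subschemeι).obj F)).IsQuasicoherent :=
    Groth.Agent.Helper13.Qcqs.isQuasicoherent_pushforward_of_qcqs _ _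
  haveI : ((𝟭 X.Modules).obj F).IsQuasicoherent := ‹F.IsQuasicoherent›
  haveI : ((Scheme.Modules.pullback I.subschemeι ⋙ Scheme.Modules.pushforward I.subschemeι).obj
      F).IsQuasicoherent := ‹((Scheme.Modules.pushforward I.subschemeι).obj
      ((Scheme.Modules.pullback I.subschemeι).obj F)).IsQuasicoherent›
  exact Groth.Agent.Helper13.QCohLocal.isQuasicoherent_kernel
    ((Scheme.Modules.pullbackPushforwardAdjunction I.subschemeι).unit.app F)

lemma idealMulι_app_injective (F : X.Modules) (V : X.Opens) :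
    Function.Injective ((Dual3.idealMulι I F).app V) :=
  (mono_iff_app_injective (Dual3.idealMulι I F)).1 inferInstance V

theorem idealMulι_app_mem (F : X.Modules) [F.IsQuasicoherent] (U : X.affineOpens)
    (x : Γ((Dual3.idealMul I).obj F, U.1)) :
    (Dual3.idealMulι I F).app U.1 x ∈ I.ideal U • (⊤ : Submodule Γ(X, U.1) Γ(F, U.1)) := by
  rw [← pullSect_eq_zero_iff]
  exact kernel_ι_app_comp
    ((Scheme.Modules.pullbackPushforwardAdjunction I.subschemeι).unit.app F) U.1 x

theorem exists_idealMul_section (F : X.Modules) [F.IsQuasicoherent] (U : X.affineOpens)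
    (m : Γ(F, U.1)) (hm : m ∈ I.ideal U • (⊤ : Submodule Γ(X, U.1) Γ(F, U.1))) :
    ∃ x : Γ((Dual3.idealMul I).obj F, U.1), (Dual3.idealMulι I F).app U.1 x = m :=
  exists_kernel_section
    ((Scheme.Modules.pullbackPushforwardAdjunction I.subschemeι).unit.app F) U.1 m
    ((pullSect_eq_zero_iff I F U m).2 hm)

/-- a morphism out of a quasi-coherent module vanishes if it vanishes on the members of an affine
open cover. -/
lemma hom_eq_zero_of_affine_cover {M N : X.Modules} [M.IsQuasicoherent] (φ : M ⟶ N)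
    {ι : Type*} (W : ι → X.Opens) (hW : ∀ k, IsAffineOpen (W k)) (hcov : ∀ x : X, ∃ k, x ∈ W k)
    (h : ∀ k (s : Γ(M, W k)), φ.app (W k) s = 0) : φ = 0 := by
  apply Scheme.Modules.hom_ext
  intro V
  ext s
  change φ.app V s = 0
  have hex : ∀ y : V, ∃ (k : ι) (g : Γ(X, W k)), X.basicOpen g ≤ V ∧ y.1 ∈ X.basicOpen g := by
    intro y
    obtain ⟨k, hk⟩ := hcov y.1
    obtain ⟨g, hg1, hg2⟩ := (hW k).exists_basicOpen_le y hk
    exact ⟨k, g, hg1, hg2⟩
  choose k g hgV hyg using hex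
  apply TopCat.Sheaf.eq_of_locally_eq' ⟨N.presheaf, N.isSheaf⟩ (fun y => X.basicOpen (g y)) V
    (fun y => homOfLE (hgV y))
  · intro y hy
    exact Opens.mem_iSup.2 ⟨⟨y, hy⟩, hyg ⟨y, hy⟩⟩
  · intro y
    rw [map_zero]
    have hnat := φ.mapPresheaf.naturality (homOfLE (hgV y)).op
    have e1 := congr($hnat s)
    refine e1.symm.trans ?_
    set s' := M.presheaf.map (homOfLE (hgV y)).op s with hs'
    change φ.app (X.basicOpen (g y)) s' = 0
    obtain ⟨n, t, ht⟩ := exists_pow_smul_eq_res M (hW (k y)) (g y) s'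
    have hnat2 := φ.mapPresheaf.naturality (homOfLE (X.basicOpen_le (g y))).op
    have e2 := congr($hnat2 t)
    have e3 : φ.app (X.basicOpen (g y)) (M.presheaf.map (homOfLE (X.basicOpen_le (g y))).op t) =
        0 := by
      refine e2.trans ?_
      change N.presheaf.map _ (φ.app (W (k y)) t) = 0
      rw [h, map_zero]
    rw [ht, Scheme.Modules.Hom.app_smul] at e3
    have hunit : IsUnit ((X.presheaf.map (homOfLE (X.basicOpen_le (g y))).op (g y)) ^ n) :=
      (RingedSpace.isUnit_res_basicOpen _ (g y)).pow n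
    obtain ⟨u, hu⟩ := hunit
    rw [← hu] at e3
    have := congrArg (fun z => ((u⁻¹ : (Γ(X, X.basicOpen (g y)))ˣ) : Γ(X, X.basicOpen (g y))) • z) e3
    simp only [smul_smul, Units.inv_mul, one_smul, smul_zero] at this
    exact this

omit I in
lemma app_eq_zero_of_restrict_eq_zero {M N : X.Modules} (ψ : M ⟶ N) (U : X.Opens)
    (h : (Scheme.Modules.restrictFunctor U.ι).map ψ = 0) (V : X.Opens) (hV : V ≤ U)
    (s : Γ(M, V)) : ψ.app V s = 0 := by
  have hle : U.ι ''ᵁ (U.ι ⁻¹ᵁ V) ≤ V := by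
    rintro _ ⟨y, hy, rfl⟩
    exact hy
  have hge : V ≤ U.ι ''ᵁ (U.ι ⁻¹ᵁ V) := by
    intro x hx
    exact ⟨⟨x, hV hx⟩, hx, rfl⟩
  have h1 : ψ.app (U.ι ''ᵁ (U.ι ⁻¹ᵁ V)) (M.presheaf.map (homOfLE hle).op s) = 0 :=
    congrArg (fun θ => θ.app (U.ι ⁻¹ᵁ V) (M.presheaf.map (homOfLE hle).op s)) h
  have hnat := ψ.mapPresheaf.naturality (homOfLE hle).op
  have e1 := congr($hnat s)
  have e2 : N.presheaf.map (homOfLE hle).op (ψ.app V s) = 0 := e1.symm.trans h1
  have e3 := congrArg (N.presheaf.map (homOfLE hge).op) e2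
  rw [map_zero, ← ConcreteCategory.comp_apply, ← Functor.map_comp] at e3
  have e4 : (homOfLE hle).op ≫ (homOfLE hge).op = 𝟙 (op V) := rfl
  rw [e4, N.presheaf.map_id] at e3
  exact e3

end Basic

section S9516

open OmegaSh Groth.Agent.Helper13.KerSec Groth.Agent.Helper13.QCoh Groth.Agent.Helper13.FinType
open Groth.Agent.Helper14.CohFormal

variable {X : Scheme.{u}} [IsNoetherian X]

lemma finite_sections_idealMul (I : X.IdealSheafData) (G : X.Modules) (hG : Coh.IsCoh G)
    (W : X.affineOpens) : Module.Finite Γ(X, W.1) Γ((Dual3.idealMul I).obj G, W.1) := by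
  haveI := hG.1
  haveI := hG.2
  haveI : IsNoetherianRing Γ(X, W.1) := IsLocallyNoetherian.component_noetherian W
  haveI : Module.Finite Γ(X, W.1) Γ(G, W.1) := finite_sections_of_isFiniteType G W.2
  exact Module.Finite.of_injective (appLin (Dual3.idealMulι I G) W.1)
    (idealMulι_app_injective I G W.1)

omit [AlgebraicGeometry.IsNoetherian X] in
lemma basicOpen_le_of_mem_ideal (I : X.IdealSheafData) (U : X.Opens)
    (hU : (U : Set X) = (I.support : Set X)ᶜ) (W : X.affineOpens) (a : Γ(X, W.1))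
    (ha : a ∈ I.ideal W) : X.basicOpen a ≤ U := by
  intro x hx
  change x ∈ (U : Set X)
  rw [hU]
  intro hxs
  have := (Scheme.IdealSheafData.mem_support_iff.mp hxs) W
  rw [Scheme.mem_zeroLocus_iff] at this
  exact this a ha hx

/-- Step A: on an affine open, a power of `I` kills the image of a map which vanishes off the
support of `I`. -/
lemma exists_pow_smul_app_eq_zero (I : X.IdealSheafData) (U : X.Opens)
    (hU : (U : Set X) = (I.support : Set X)ᶜ) {P F : X.Modules} [F.IsQuasicoherent]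
    (ψ : P ⟶ F) (hψ : (Scheme.Modules.restrictFunctor U.ι).map ψ = 0)
    (W : X.affineOpens) [hfin : Module.Finite Γ(X, W.1) Γ(P, W.1)] :
    ∃ K : ℕ, ∀ b ∈ (I.ideal W) ^ K, ∀ s : Γ(P, W.1), b • ψ.app W.1 s = 0 := by
  classical
  haveI : IsNoetherianRing Γ(X, W.1) := IsLocallyNoetherian.component_noetherian W
  let Q : Submodule Γ(X, W.1) Γ(F, W.1) := LinearMap.range (appLin ψ W.1)
  have hrad : I.ideal W ≤ (Q.annihilator).radical := by
    intro a ha
    obtain ⟨T, hT⟩ := hfin.fg_top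
    -- each generator is killed by a power of `a`
    have hk : ∀ t : Γ(P, W.1), ∃ k : ℕ, a ^ k • ψ.app W.1 t = 0 := by
      intro t
      apply exists_pow_smul_eq_zero F W.2 a
      have hnat := ψ.mapPresheaf.naturality (homOfLE (X.basicOpen_le a)).op
      have e1 := congr($hnat t)
      refine e1.symm.trans ?_
      exact app_eq_zero_of_restrict_eq_zero ψ U hψ _ (basicOpen_le_of_mem_ideal I U hU W a ha) _
    choose k hk using hk
    refine ⟨T.sup k, ?_⟩
    rw [Submodule.mem_annihilator]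
    rintro _ ⟨s, rfl⟩
    have hs : s ∈ Submodule.span Γ(X, W.1) (T : Set Γ(P, W.1)) := by rw [hT]; trivial
    induction hs using Submodule.span_induction with
    | mem t ht =>
      have hle : k t ≤ T.sup k := Finset.le_sup ht
      obtain ⟨d, hd⟩ := Nat.exists_eq_add_of_le hle
      rw [hd, pow_add, mul_comm, mul_smul]
      change a ^ d • a ^ k t • ψ.app W.1 t = 0
      rw [hk t, smul_zero]
    | zero => rw [map_zero, smul_zero]
    | add x y _ _ hx hy => rw [map_add, smul_add, hx, hy, add_zero]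
    | smul r x _ hx => rw [map_smul, smul_comm, hx, smul_zero]
  obtain ⟨K, hK⟩ := Ideal.exists_pow_le_of_le_radical_of_fg hrad (IsNoetherian.noetherian _)
  refine ⟨K, fun b hb s => ?_⟩
  have := Submodule.mem_annihilator.1 (hK hb) (appLin ψ W.1 s) ⟨s, rfl⟩
  exact this

theorem hom_idealMul_pow_restrict_eq_zero (F G : X.Modules)
    (hF : Coh.IsQCoh F) (hG : Coh.IsCoh G) (I : X.IdealSheafData)
    (U : X.Opens) (hU : (U : Set X) = (I.support : Set X)ᶜ) (n : ℕ)
    (ψ : (Dual3.idealMul (I ^ n)).obj G ⟶ F)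
    (hψ : (Scheme.Modules.restrictFunctor U.ι).map ψ = 0) :
    ∃ (N : ℕ) (ι : (Dual3.idealMul (I ^ N)).obj G ⟶ (Dual3.idealMul (I ^ n)).obj G),
      ι ≫ Dual3.idealMulι (I ^ n) G = Dual3.idealMulι (I ^ N) G ∧ ι ≫ ψ = 0 := by
  classical
  haveI := hF
  haveI := hG.1
  haveI := hG.2
  have hex : ∀ W : X.affineOpens, ∃ K : ℕ, ∀ b ∈ (I.ideal W) ^ K,
      ∀ s : Γ((Dual3.idealMul (I ^ n)).obj G, W.1), b • ψ.app W.1 s = 0 := by
    intro W
    haveI := finite_sections_idealMul (I ^ n) G hG W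
    exact exists_pow_smul_app_eq_zero I U hU ψ hψ W
  choose KW hKW using hex
  obtain ⟨t, ht⟩ := isCompact_univ.elim_finite_subcover
    (fun W : X.affineOpens => ((W.1 : X.Opens) : Set X)) (fun W => W.1.isOpen) (by
      intro x _
      obtain ⟨W, hW, hxW, -⟩ := X.isBasis_affineOpens.exists_subset_of_mem_open
        (Set.mem_univ x) isOpen_univ
      obtain ⟨W', hW', rfl⟩ := hW
      exact Set.mem_iUnion.2 ⟨⟨W', hW'⟩, hxW⟩)
  let Ksum := ∑ W ∈ t, KW W
  have hle : ∀ W ∈ t, KW W ≤ Ksum := fun W hW =>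
    Finset.single_le_sum (f := KW) (fun _ _ => Nat.zero_le _) hW
  -- the map `ι`
  have h0 : Dual3.idealMulι (I ^ (n + Ksum)) G ≫
      (Scheme.Modules.pullbackPushforwardAdjunction (I ^ n).subschemeι).unit.app G = 0 := by
    apply hom_eq_zero_of_affine
    intro W hW x
    change pullSect (I ^ n).subschemeι G W ((Dual3.idealMulι (I ^ (n + Ksum)) G).app W x) = 0
    rw [pullSect_eq_zero_iff (I ^ n) G ⟨W, hW⟩]
    have h1 := idealMulι_app_mem (I ^ (n + Ksum)) G ⟨W, hW⟩ x
    rw [Scheme.IdealSheafData.ideal_pow] at h1 ⊢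
    exact Submodule.smul_mono_left (Ideal.pow_le_pow_right (Nat.le_add_right n Ksum)) h1
  let ι : (Dual3.idealMul (I ^ (n + Ksum))).obj G ⟶ (Dual3.idealMul (I ^ n)).obj G :=
    kernel.lift _ (Dual3.idealMulι (I ^ (n + Ksum)) G) h0
  have hι : ι ≫ Dual3.idealMulι (I ^ n) G = Dual3.idealMulι (I ^ (n + Ksum)) G :=
    kernel.lift_ι _ _ _
  refine ⟨n + Ksum, ι, hι, ?_⟩
  apply hom_eq_zero_of_affine_cover (ι ≫ ψ) (fun W : t => W.1.1) (fun W => W.1.2)
  · intro x
    have hx := ht (Set.mem_univ x)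
    rw [Set.mem_iUnion₂] at hx
    obtain ⟨W, hWt, hxW⟩ := hx
    exact ⟨⟨W, hWt⟩, hxW⟩
  · rintro ⟨W, hWt⟩ x
    change ψ.app W.1 (ι.app W.1 x) = 0
    have hy := idealMulι_app_mem (I ^ (n + Ksum)) G W x
    have hy2 : (Dual3.idealMulι (I ^ (n + Ksum)) G).app W.1 x =
        (Dual3.idealMulι (I ^ n) G).app W.1 (ι.app W.1 x) :=
      (congrArg (fun θ => θ.app W.1 x) hι).symm
    have e : (I ^ (n + Ksum)).ideal W = (I.ideal W) ^ Ksum * (I.ideal W) ^ n := by
      rw [Scheme.IdealSheafData.ideal_pow, ← pow_add, add_comm]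
      rfl
    rw [e, Submodule.mul_smul] at hy
    have key : ∀ y ∈ (I.ideal W) ^ Ksum • ((I.ideal W) ^ n • (⊤ : Submodule Γ(X, W.1) Γ(G, W.1))),
        ∃ x' : Γ((Dual3.idealMul (I ^ n)).obj G, W.1),
          (Dual3.idealMulι (I ^ n) G).app W.1 x' = y ∧ ψ.app W.1 x' = 0 := by
      intro y hy
      refine Submodule.smul_induction_on hy (fun b hb z hz => ?_) (fun y₁ y₂ h₁ h₂ => ?_)
      · obtain ⟨s, hs⟩ := exists_idealMul_section (I ^ n) G W z (by
          rw [Scheme.IdealSheafData.ideal_pow]; exact hz)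
        refine ⟨b • s, ?_, ?_⟩
        · rw [Scheme.Modules.Hom.app_smul, hs]
        · rw [Scheme.Modules.Hom.app_smul]
          exact hKW W b (Ideal.pow_le_pow_right (hle W hWt) hb) s
      · obtain ⟨x₁, hx₁, hx₁'⟩ := h₁
        obtain ⟨x₂, hx₂, hx₂'⟩ := h₂
        exact ⟨x₁ + x₂, by rw [map_add, hx₁, hx₂], by rw [map_add, hx₁', hx₂', add_zero]⟩
    obtain ⟨x', hx', hx'0⟩ := key _ hy
    have : x' = ι.app W.1 x :=
      idealMulι_app_injective (I ^ n) G W.1 (hx'.trans hy2)
    rw [← this]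
    exact hx'0

end S9516

end Groth.Agent.Helper14.IdealMul
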