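import Mathlib
import Groth.Agent.Lib.Helper14.IdealMulA

set_option autoImplicit false
universe u
open CategoryTheory CategoryTheory.Limits AlgebraicGeometry Opposite TopologicalSpace

namespace Groth.Agent.Helper14.IdealMul

open Groth.Agent.Helper14.CohFormal Groth.Agent.Helper13.KerSec Groth.Agent.Helper13.QCoh

section Sub

variable {X : Scheme.{u}}

/-- a quasi-coherent subobject whose sections over an affine cover lie in another subobject is
contained in it. -/
lemma mk_le_mk_of_sections {F P P' : X.Modules} [P.IsQuasicoherent] (m : P ⟶ F) [Mono m]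
    (m' : P' ⟶ F) [Mono m'] {ι : Type*} (W : ι → X.Opens) (hW : ∀ k, IsAffineOpen (W k))
    (hcov : ∀ x : X, ∃ k, x ∈ W k)
    (h : ∀ k (s : Γ(P, W k)), ∃ t : Γ(P', W k), m'.app (W k) t = m.app (W k) s) :
    Subobject.mk m ≤ Subobject.mk m' := by
  have h0 : m ≫ cokernel.π m' = 0 := by
    apply hom_eq_zero_of_affine_cover _ W hW hcov
    intro k s
    obtain ⟨t, ht⟩ := h k s
    change (cokernel.π m').app (W k) (m.app (W k) s) = 0
    rw [← ht]
    exact congrArg (fun θ => θ.app (W k) t) (cokernel.condition m')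
  exact Subobject.mk_le_mk_of_comm (Abelian.monoLift m' m h0) (Abelian.monoLift_comp m' m h0)

/-- the submodule of sections in the image of a map. -/
noncomputable def secRange {P F : X.Modules} (m : P ⟶ F) (U : X.Opens) :
    Submodule Γ(X, U) Γ(F, U) := LinearMap.range (appLin m U)

lemma mem_secRange {P F : X.Modules} (m : P ⟶ F) (U : X.Opens) (x : Γ(F, U)) :
    x ∈ secRange m U ↔ ∃ s : Γ(P, U), m.app U s = x := Iff.rfl

lemma secRange_comp_le {P Q F : X.Modules} (g : P ⟶ Q) (m : Q ⟶ F) (U : X.Opens) :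
    secRange (g ≫ m) U ≤ secRange m U := by
  rintro _ ⟨s, rfl⟩
  exact ⟨g.app U s, rfl⟩

lemma secRange_iso_comp {P Q F : X.Modules} (g : P ≅ Q) (m : Q ⟶ F) (U : X.Opens) :
    secRange (g.hom ≫ m) U = secRange m U := by
  apply le_antisymm (secRange_comp_le _ _ _)
  rintro _ ⟨s, rfl⟩
  refine ⟨g.inv.app U s, ?_⟩
  change (g.inv ≫ g.hom ≫ m).app U s = _
  rw [Iso.inv_hom_id_assoc]
  rfl

lemma secRange_mk_arrow {P F : X.Modules} (m : P ⟶ F) [Mono m] (U : X.Opens) :
    secRange (Subobject.mk m).arrow U = secRange m U := by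
  rw [← Subobject.underlyingIso_hom_comp_eq_mk, secRange_iso_comp]

lemma secRange_mono {F : X.Modules} {S T : Subobject F} (h : S ≤ T) (U : X.Opens) :
    secRange S.arrow U ≤ secRange T.arrow U := by
  rw [← Subobject.ofLE_arrow h]
  exact secRange_comp_le _ _ _

lemma inf_eq_mk_kernel {F : X.Modules} (S T : Subobject F) :
    S ⊓ T = Subobject.mk (kernel.ι (T.arrow ≫ cokernel.π S.arrow) ≫ T.arrow) := by
  apply le_antisymm
  · refine Subobject.le_mk_of_comm
      (kernel.lift _ (Subobject.ofLE (S ⊓ T) T inf_le_right) ?_) ?_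
    · rw [← Category.assoc, Subobject.ofLE_arrow, ← Subobject.ofLE_arrow (inf_le_left : S ⊓ T ≤ S),
        Category.assoc, cokernel.condition, comp_zero]
    · rw [← Category.assoc, kernel.lift_ι, Subobject.ofLE_arrow]
  · apply le_inf
    · refine Subobject.mk_le_of_comm (Abelian.monoLift S.arrow
        (kernel.ι (T.arrow ≫ cokernel.π S.arrow) ≫ T.arrow) ?_) (Abelian.monoLift_comp _ _ _)
      rw [Category.assoc, kernel.condition]
    · exact Subobject.mk_le_of_comm (kernel.ι (T.arrow ≫ cokernel.π S.arrow)) rfl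

lemma secRange_inf {F : X.Modules} (S T : Subobject F) (U : X.Opens) :
    secRange (S ⊓ T).arrow U = secRange S.arrow U ⊓ secRange T.arrow U := by
  apply le_antisymm
  · exact le_inf (secRange_mono inf_le_left U) (secRange_mono inf_le_right U)
  · rintro x ⟨⟨p, hp⟩, ⟨y, hy⟩⟩
    rw [inf_eq_mk_kernel, secRange_mk_arrow]
    have h0 : (T.arrow ≫ cokernel.π S.arrow).app U y = 0 := by
      change (cokernel.π S.arrow).app U (T.arrow.app U y) = 0
      have hy' : T.arrow.app U y = x := hy
      have hp' : S.arrow.app U p = x := hp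
      rw [hy', ← hp']
      exact congrArg (fun θ => θ.app U p) (cokernel.condition S.arrow)
    obtain ⟨z, hz⟩ := exists_kernel_section (T.arrow ≫ cokernel.π S.arrow) U y h0
    refine ⟨z, ?_⟩
    change T.arrow.app U ((kernel.ι (T.arrow ≫ cokernel.π S.arrow)).app U z) = x
    rw [hz]
    exact hy

lemma isQuasicoherent_inf {F : X.Modules} [F.IsQuasicoherent] (S T : Subobject F)
    [(Subobject.underlying.obj S).IsQuasicoherent] [(Subobject.underlying.obj T).IsQuasicoherent] :
    (Subobject.underlying.obj (S ⊓ T)).IsQuasicoherent := by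
  haveI : (cokernel S.arrow).IsQuasicoherent :=
    Groth.Agent.Helper13.QCohLocal.isQuasicoherent_cokernel S.arrow
  haveI : (kernel (T.arrow ≫ cokernel.π S.arrow)).IsQuasicoherent :=
    Groth.Agent.Helper13.QCohLocal.isQuasicoherent_kernel _
  rw [inf_eq_mk_kernel]
  exact Groth.Agent.Helper13.QCohLocal.isQuasicoherent_of_iso
    (Subobject.underlyingIso (kernel.ι (T.arrow ≫ cokernel.π S.arrow) ≫ T.arrow)).symm

lemma secRange_comp {P Q F : X.Modules} (g : P ⟶ Q) (m : Q ⟶ F) (U : X.Opens) :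
    secRange (g ≫ m) U = Submodule.map (appLin m U) (secRange g U) := by
  ext x
  constructor
  · rintro ⟨s, rfl⟩
    exact ⟨g.app U s, ⟨s, rfl⟩, rfl⟩
  · rintro ⟨_, ⟨s, rfl⟩, rfl⟩
    exact ⟨s, rfl⟩

lemma secRange_idealMulι (J : X.IdealSheafData) (Q : X.Modules) [Q.IsQuasicoherent]
    (U : X.affineOpens) :
    secRange (Dual3.idealMulι J Q) U.1 = J.ideal U • (⊤ : Submodule Γ(X, U.1) Γ(Q, U.1)) := by
  apply le_antisymm
  · rintro _ ⟨s, rfl⟩
    exact idealMulι_app_mem J Q U s
  · intro m hm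
    exact exists_idealMul_section J Q U m hm

lemma secRange_idealMulι_comp (J : X.IdealSheafData) {Q F : X.Modules} [Q.IsQuasicoherent]
    (m : Q ⟶ F) (U : X.affineOpens) :
    secRange (Dual3.idealMulι J Q ≫ m) U.1 = J.ideal U • secRange m U.1 := by
  rw [secRange_comp, secRange_idealMulι, Submodule.map_smul'', Submodule.map_top]
  rfl

lemma mk_eq_of_secRange_eq {F P : X.Modules} [P.IsQuasicoherent] (m : P ⟶ F) [Mono m]
    (S : Subobject F) [(Subobject.underlying.obj S).IsQuasicoherent]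
    {ι : Type*} (W : ι → X.Opens) (hW : ∀ k, IsAffineOpen (W k))
    (hcov : ∀ x : X, ∃ k, x ∈ W k)
    (h : ∀ k, secRange m (W k) = secRange S.arrow (W k)) :
    Subobject.mk m = S := by
  apply le_antisymm
  · rw [← Subobject.mk_arrow S]
    apply mk_le_mk_of_sections m S.arrow W hW hcov
    intro k s
    have : m.app (W k) s ∈ secRange S.arrow (W k) := by
      rw [← h k]
      exact ⟨s, rfl⟩
    exact this
  · conv_lhs => rw [← Subobject.mk_arrow S]
    apply mk_le_mk_of_sections S.arrow m W hW hcov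
    intro k s
    have : S.arrow.app (W k) s ∈ secRange m (W k) := by
      rw [h k]
      exact ⟨s, rfl⟩
    exact this

end Sub

section AR

variable {X : Scheme.{u}} [IsNoetherian X]

open Groth.Agent.Helper13.FinType in
theorem artinRees_subobject (F G : X.Modules) (hF : Coh.IsCoh F)
    (hG : Coh.IsQCoh G) (ι : G ⟶ F) [Mono ι] (I : X.IdealSheafData) :
    ∃ c : ℕ, ∀ n : ℕ, c ≤ n →
      Subobject.mk (Dual3.idealMulι (I ^ (n - c))
          (Subobject.underlying.obj (Subobject.mk (Dual3.idealMulι (I ^ c) F) ⊓ Subobject.mk ι)) ≫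
        (Subobject.mk (Dual3.idealMulι (I ^ c) F) ⊓ Subobject.mk ι).arrow) =
      Subobject.mk (Dual3.idealMulι (I ^ n) F) ⊓ Subobject.mk ι := by
  classical
  haveI := hF.1
  haveI := hF.2
  haveI : G.IsQuasicoherent := hG
  have hex : ∀ W : X.affineOpens, ∃ k : ℕ, ∀ n ≥ k,
      (I.ideal W) ^ n • (⊤ : Submodule Γ(X, W.1) Γ(F, W.1)) ⊓ secRange ι W.1 =
        (I.ideal W) ^ (n - k) • ((I.ideal W) ^ k • (⊤ : Submodule Γ(X, W.1) Γ(F, W.1)) ⊓
          secRange ι W.1) := by
    intro W
    haveI : IsNoetherianRing Γ(X, W.1) := IsLocallyNoetherian.component_noetherian W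
    haveI : Module.Finite Γ(X, W.1) Γ(F, W.1) := finite_sections_of_isFiniteType F W.2
    exact Ideal.exists_pow_inf_eq_pow_smul (I.ideal W) (secRange ι W.1)
  choose kW hkW using hex
  obtain ⟨t, ht⟩ := isCompact_univ.elim_finite_subcover
    (fun W : X.affineOpens => ((W.1 : X.Opens) : Set X)) (fun W => W.1.isOpen) (by
      intro x _
      obtain ⟨W, hW, hxW, -⟩ := X.isBasis_affineOpens.exists_subset_of_mem_open
        (Set.mem_univ x) isOpen_univ
      obtain ⟨W', hW', rfl⟩ := hW
      exact Set.mem_iUnion.2 ⟨⟨W', hW'⟩, hxW⟩)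
  let c := ∑ W ∈ t, kW W
  have hle : ∀ W ∈ t, kW W ≤ c := fun W hW =>
    Finset.single_le_sum (f := kW) (fun _ _ => Nat.zero_le _) hW
  refine ⟨c, fun n hn => ?_⟩
  -- quasi-coherence of the objects involved
  have hqA : ∀ k : ℕ, (Subobject.underlying.obj
      (Subobject.mk (Dual3.idealMulι (I ^ k) F))).IsQuasicoherent := fun k =>
    Groth.Agent.Helper13.QCohLocal.isQuasicoherent_of_iso
      (Subobject.underlyingIso (Dual3.idealMulι (I ^ k) F)).symm
  haveI hqB : (Subobject.underlying.obj (Subobject.mk ι)).IsQuasicoherent :=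
    Groth.Agent.Helper13.QCohLocal.isQuasicoherent_of_iso (Subobject.underlyingIso ι).symm
  haveI hqc := hqA c
  haveI hqn := hqA n
  haveI hq1 : (Subobject.underlying.obj
      (Subobject.mk (Dual3.idealMulι (I ^ c) F) ⊓ Subobject.mk ι)).IsQuasicoherent :=
    isQuasicoherent_inf _ _
  haveI hq2 : (Subobject.underlying.obj
      (Subobject.mk (Dual3.idealMulι (I ^ n) F) ⊓ Subobject.mk ι)).IsQuasicoherent :=
    isQuasicoherent_inf _ _
  -- sections of the intersections
  have hsec : ∀ (k : ℕ) (W : X.affineOpens),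
      secRange (Subobject.mk (Dual3.idealMulι (I ^ k) F) ⊓ Subobject.mk ι).arrow W.1 =
        (I.ideal W) ^ k • (⊤ : Submodule Γ(X, W.1) Γ(F, W.1)) ⊓ secRange ι W.1 := by
    intro k W
    rw [secRange_inf, secRange_mk_arrow, secRange_mk_arrow, secRange_idealMulι]
    rfl
  apply mk_eq_of_secRange_eq _ _ (fun W : t => W.1.1) (fun W => W.1.2)
  · intro x
    have hx := ht (Set.mem_univ x)
    rw [Set.mem_iUnion₂] at hx
    obtain ⟨W, hWt, hxW⟩ := hx
    exact ⟨⟨W, hWt⟩, hxW⟩
  · rintro ⟨W, hWt⟩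
    change secRange _ W.1 = secRange _ W.1
    rw [secRange_idealMulι_comp, hsec, hsec]
    change (I.ideal W) ^ (n - c) • _ = _
    have hk := hle W hWt
    rw [hkW W n (hk.trans hn), hkW W c hk, ← Submodule.mul_smul, ← pow_add]
    congr 2
    omega

end AR

end Groth.Agent.Helper14.IdealMul
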