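import Mathlib
import Groth.Agent.Lib.Helper14.IdealMulB

set_option autoImplicit false
universe u
open CategoryTheory CategoryTheory.Limits AlgebraicGeometry Opposite TopologicalSpace

namespace Groth.Agent.Helper14.IdealMul

open Groth.Agent.Helper14.CohFormal Groth.Agent.Helper13.KerSec Groth.Agent.Helper13.QCoh
open OmegaSh

section Alg

/-- an element which is locally killed near every prime containing `J` lies in `J^n M`. -/
lemma mem_pow_smul_top_of_forall_prime {A M : Type*} [CommRing A] [AddCommGroup M] [Module A M]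
    (J : Ideal A) (x : M)
    (h : ∀ 𝔭 : Ideal A, 𝔭.IsPrime → J ≤ 𝔭 → ∃ g ∉ 𝔭, ∃ k : ℕ, g ^ k • x = 0) (n : ℕ) :
    x ∈ J ^ n • (⊤ : Submodule A M) := by
  let 𝔞 : Ideal A := LinearMap.ker (LinearMap.toSpanSingleton A M x)
  have h𝔞 : ∀ a, a ∈ 𝔞 ↔ a • x = 0 := fun a => by
    change LinearMap.toSpanSingleton A M x a = 0 ↔ _
    rw [LinearMap.toSpanSingleton_apply]
  have htop : 𝔞 ⊔ J ^ n = ⊤ := by
    by_contra hne
    obtain ⟨𝔪, h𝔪, hle⟩ := Ideal.exists_le_maximal _ hne
    have hJ : J ≤ 𝔪 := h𝔪.isPrime.le_of_pow_le (le_sup_right.trans hle)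
    obtain ⟨g, hg, k, hk⟩ := h 𝔪 h𝔪.isPrime hJ
    have : g ^ k ∈ 𝔪 := hle (Ideal.mem_sup_left ((h𝔞 _).2 hk))
    exact hg (h𝔪.isPrime.mem_of_pow_mem k this)
  have h1 : (1 : A) ∈ 𝔞 ⊔ J ^ n := by rw [htop]; trivial
  obtain ⟨a, ha, j, hj, haj⟩ := Submodule.mem_sup.1 h1
  have hx : x = j • x := by
    have := congrArg (fun r => r • x) haj
    simp only [add_smul, one_smul, (h𝔞 a).1 ha, zero_add] at this
    exact this.symm
  rw [hx]
  exact Submodule.smul_mem_smul hj trivial

end Alg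

section Glob

variable {X : Scheme.{u}} (I : X.IdealSheafData)

/-- a section lying in `I(U)·F(U)` on every affine open `U ≤ V` comes from `(I·F)(V)`. -/
lemma exists_idealMul_section_of_affine (F : X.Modules) [F.IsQuasicoherent] (V : X.Opens)
    (s : Γ(F, V))
    (h : ∀ (U : X.affineOpens) (hUV : U.1 ≤ V),
      (F.presheaf.map (homOfLE hUV).op s : Γ(F, U.1)) ∈
        I.ideal U • (⊤ : Submodule Γ(X, U.1) Γ(F, U.1))) :
    ∃ t : Γ((Dual3.idealMul I).obj F, V), (Dual3.idealMulι I F).app V t = s := by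
  apply exists_kernel_section
    ((Scheme.Modules.pullbackPushforwardAdjunction I.subschemeι).unit.app F) V s
  set η := (Scheme.Modules.pullbackPushforwardAdjunction I.subschemeι).unit.app F with hη
  have hex : ∀ y : V, ∃ U : X.affineOpens, U.1 ≤ V ∧ y.1 ∈ U.1 := by
    intro y
    obtain ⟨W, hW, hyW, hWV⟩ := X.isBasis_affineOpens.exists_subset_of_mem_open
      y.2 V.isOpen
    obtain ⟨W', hW', rfl⟩ := hW
    exact ⟨⟨W', hW'⟩, hWV, hyW⟩
  choose U hUV hyU using hex
  apply TopCat.Sheaf.eq_of_locally_eq' ⟨Scheme.Modules.presheaf _, Scheme.Modules.isSheaf _⟩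
    (fun y : V => (U y).1) V (fun y => homOfLE (hUV y))
  · intro y hy
    exact Opens.mem_iSup.2 ⟨⟨y, hy⟩, hyU ⟨y, hy⟩⟩
  · intro y
    rw [map_zero]
    have hnat := η.mapPresheaf.naturality (homOfLE (hUV y)).op
    have e1 := congr($hnat s)
    refine e1.symm.trans ?_
    change pullSect I.subschemeι F (U y).1 (F.presheaf.map (homOfLE (hUV y)).op s) = 0
    rw [pullSect_eq_zero_iff I F (U y)]
    exact h (U y) (hUV y)

open Groth.Agent.Helper13.FinType in
theorem forall_exists_idealMul_pow_section_iff [IsLocallyNoetherian X] (F : X.Modules)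
    (hF : Coh.IsCoh F) (s : Γ(F, (⊤ : X.Opens))) :
    (∀ n : ℕ, ∃ t : Γ((Dual3.idealMul (I ^ n)).obj F, (⊤ : X.Opens)),
        (Dual3.idealMulι (I ^ n) F).app ⊤ t = s) ↔
      ∃ V : X.Opens, I.supportSet ⊆ (V : Set X) ∧
        F.presheaf.map (homOfLE le_top : V ⟶ ⊤).op s = 0 := by
  haveI := hF.1
  haveI := hF.2
  constructor
  · intro h
    have hr : ∀ U : X.affineOpens, ∃ r ∈ I.ideal U,
        r • (F.presheaf.map (homOfLE (le_top : U.1 ≤ ⊤)).op s : Γ(F, U.1)) =
          F.presheaf.map (homOfLE (le_top : U.1 ≤ ⊤)).op s := by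
      intro U
      haveI : IsNoetherianRing Γ(X, U.1) := IsLocallyNoetherian.component_noetherian U
      haveI : Module.Finite Γ(X, U.1) Γ(F, U.1) := finite_sections_of_isFiniteType F U.2
      have hmem : (F.presheaf.map (homOfLE (le_top : U.1 ≤ ⊤)).op s : Γ(F, U.1)) ∈
          (⨅ i : ℕ, (I.ideal U) ^ i • ⊤ : Submodule Γ(X, U.1) Γ(F, U.1)) := by
        rw [Submodule.mem_iInf]
        intro n
        obtain ⟨t, ht⟩ := h n
        have h1 := idealMulι_app_mem (I ^ n) F U
          (((Dual3.idealMul (I ^ n)).obj F).presheaf.map (homOfLE (le_top : U.1 ≤ ⊤)).op t)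
        have hnat := (Dual3.idealMulι (I ^ n) F).mapPresheaf.naturality
          (homOfLE (le_top : U.1 ≤ ⊤)).op
        have e1 := congr($hnat t)
        have e2 : (Dual3.idealMulι (I ^ n) F).app U.1
            (((Dual3.idealMul (I ^ n)).obj F).presheaf.map (homOfLE (le_top : U.1 ≤ ⊤)).op t) =
            F.presheaf.map (homOfLE (le_top : U.1 ≤ ⊤)).op s := by
          refine e1.trans ?_
          change F.presheaf.map _ ((Dual3.idealMulι (I ^ n) F).app ⊤ t) = _
          rw [ht]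
        rw [e2] at h1
        exact h1
      obtain ⟨⟨r, hr⟩, hrx⟩ := (Ideal.mem_iInf_smul_pow_eq_bot_iff _ _).1 hmem
      exact ⟨r, hr, hrx⟩
    choose r hrI hrs using hr
    refine ⟨⨆ U : X.affineOpens, X.basicOpen (1 - r U), ?_, ?_⟩
    · intro x hx
      obtain ⟨W, hW, hxW, -⟩ := X.isBasis_affineOpens.exists_subset_of_mem_open
        (Set.mem_univ x) isOpen_univ
      obtain ⟨W', hW', rfl⟩ := hW
      change x ∈ (⨆ U : X.affineOpens, X.basicOpen (1 - r U) : X.Opens)
      rw [Opens.mem_iSup]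
      refine ⟨⟨W', hW'⟩, ?_⟩
      have hz : x ∈ X.zeroLocus (U := W') (I.ideal ⟨W', hW'⟩) := by
        have : x ∈ I.supportSet ∩ W' := ⟨hx, hxW⟩
        rw [I.supportSet_inter ⟨W', hW'⟩] at this
        exact this.1
      rw [Scheme.mem_zeroLocus_iff] at hz
      have hnot : x ∉ X.basicOpen (r ⟨W', hW'⟩) := hz _ (hrI _)
      rw [Scheme.mem_basicOpen _ _ x hxW] at hnot ⊢
      rw [map_sub, map_one]
      exact IsLocalRing.isUnit_one_sub_self_of_mem_nonunits _ hnot
    · apply TopCat.Sheaf.eq_of_locally_eq' ⟨F.presheaf, F.isSheaf⟩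
        (fun U : X.affineOpens => X.basicOpen (1 - r U)) _
        (fun U => homOfLE (le_iSup (fun U : X.affineOpens => X.basicOpen (1 - r U)) U))
      · exact le_refl _
      · intro U
        rw [map_zero]
        have h0 : (1 - r U) • (F.presheaf.map (homOfLE (le_top : U.1 ≤ ⊤)).op s : Γ(F, U.1)) =
            0 := by
          rw [sub_smul, one_smul, hrs, sub_self]
        have h1 := congrArg (F.presheaf.map (homOfLE (X.basicOpen_le (1 - r U))).op) h0
        rw [Scheme.Modules.map_smul, map_zero] at h1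
        have hunit : IsUnit (X.presheaf.map (homOfLE (X.basicOpen_le (1 - r U))).op (1 - r U)) :=
          RingedSpace.isUnit_res_basicOpen _ (1 - r U)
        obtain ⟨u, hu⟩ := hunit
        rw [← hu] at h1
        have h2 := congrArg (fun z => ((u⁻¹ : (Γ(X, X.basicOpen (1 - r U)))ˣ) :
          Γ(X, X.basicOpen (1 - r U))) • z) h1
        simp only [smul_smul, Units.inv_mul, one_smul, smul_zero] at h2
        rw [← h2]
        simp only [← ConcreteCategory.comp_apply, ← Functor.map_comp]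
        rfl
  · rintro ⟨V, hZV, hsV⟩ n
    apply exists_idealMul_section_of_affine (I ^ n) F ⊤ s
    intro U hUV
    rw [Scheme.IdealSheafData.ideal_pow]
    change _ ∈ (I.ideal U) ^ n • (⊤ : Submodule Γ(X, U.1) Γ(F, U.1))
    apply mem_pow_smul_top_of_forall_prime
    intro 𝔭 h𝔭 hJ𝔭
    let P : PrimeSpectrum Γ(X, U.1) := ⟨𝔭, h𝔭⟩
    let y : X := U.2.fromSpec P
    have hyU : y ∈ U.1 := by
      have : y ∈ Set.range U.2.fromSpec := ⟨P, rfl⟩
      rw [U.2.range_fromSpec] at this
      exact this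
    have hyZ : y ∈ X.zeroLocus (U := U.1) (I.ideal U) := by
      have : P ∈ U.2.fromSpec ⁻¹' X.zeroLocus (U := U.1) (I.ideal U : Set Γ(X, U.1)) := by
        rw [U.2.fromSpec_preimage_zeroLocus]
        exact hJ𝔭
      exact this
    have hyS : y ∈ I.supportSet := by
      have : y ∈ X.zeroLocus (U := U.1) (I.ideal U) ∩ U.1 := ⟨hyZ, hyU⟩
      rw [← I.supportSet_inter U] at this
      exact this.1
    have hyV : y ∈ V := hZV hyS
    obtain ⟨g, hgV, hyg⟩ := U.2.exists_basicOpen_le ⟨y, hyV⟩ hyU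
    have hg𝔭 : g ∉ 𝔭 := by
      have : P ∈ (U.2.fromSpec ⁻¹ᵁ X.basicOpen g : (Spec Γ(X, U.1)).Opens) := hyg
      rw [U.2.fromSpec_preimage_basicOpen] at this
      exact this
    refine ⟨g, hg𝔭, ?_⟩
    apply exists_pow_smul_eq_zero F U.2 g
    have e : F.presheaf.map (homOfLE (X.basicOpen_le g)).op
        (F.presheaf.map (homOfLE hUV).op s) =
        F.presheaf.map (homOfLE hgV).op (F.presheaf.map (homOfLE le_top : V ⟶ ⊤).op s) := by
      simp only [← ConcreteCategory.comp_apply, ← Functor.map_comp]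
      rfl
    rw [e, hsV, map_zero]

end Glob

end Groth.Agent.Helper14.IdealMul
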