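import Mathlib
import Groth.Agent.Lib.Helper14.IdealMulD
import Groth.Agent.Lib.Helper13.ExtMain3
import Groth.Agent.Lib.Helper13.QCohFin

set_option autoImplicit false
universe u
open CategoryTheory CategoryTheory.Limits AlgebraicGeometry Opposite TopologicalSpace

namespace Groth.Agent.Helper14.IdealMul

open Groth.Agent.Helper14.CohFormal Groth.Agent.Helper13.KerSec Groth.Agent.Helper13.QCoh

section Restr

variable {X : Scheme.{u}} (U : X.Opens)

/-- a morphism which restricts to an isomorphism over `U` is bijective on sections over opens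
contained in `U`. -/
lemma app_bijective_of_isIso_restrict {M N : X.Modules} (ψ : M ⟶ N)
    [h : IsIso ((Scheme.Modules.restrictFunctor U.ι).map ψ)] (V : X.Opens) (hV : V ≤ U) :
    Function.Bijective (ψ.app V) := by
  have hle : U.ι ''ᵁ (U.ι ⁻¹ᵁ V) ≤ V := by
    rintro _ ⟨y, hy, rfl⟩
    exact hy
  have hge : V ≤ U.ι ''ᵁ (U.ι ⁻¹ᵁ V) := by
    intro x hx
    exact ⟨⟨x, hV hx⟩, hx, rfl⟩
  have hbij : Function.Bijective (ψ.app (U.ι ''ᵁ (U.ι ⁻¹ᵁ V))) := by
    have h1 : IsIso (((Scheme.Modules.restrictFunctor U.ι).map ψ).app (U.ι ⁻¹ᵁ V)) :=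
      inferInstance
    exact (ConcreteCategory.isIso_iff_bijective _).1 h1
  have hnat := ψ.mapPresheaf.naturality (homOfLE hle).op
  have e1 : ∀ s : Γ(M, V), ψ.app (U.ι ''ᵁ (U.ι ⁻¹ᵁ V)) (M.presheaf.map (homOfLE hle).op s) =
      N.presheaf.map (homOfLE hle).op (ψ.app V s) := fun s => congr($hnat s)
  have hM : ∀ s : Γ(M, V), M.presheaf.map (homOfLE hge).op (M.presheaf.map (homOfLE hle).op s) =
      s := by
    intro s
    rw [← ConcreteCategory.comp_apply, ← Functor.map_comp]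
    have e4 : (homOfLE hle).op ≫ (homOfLE hge).op = 𝟙 (op V) := rfl
    rw [e4, M.presheaf.map_id]
    rfl
  have hN : ∀ s : Γ(N, V), N.presheaf.map (homOfLE hge).op (N.presheaf.map (homOfLE hle).op s) =
      s := by
    intro s
    rw [← ConcreteCategory.comp_apply, ← Functor.map_comp]
    have e4 : (homOfLE hle).op ≫ (homOfLE hge).op = 𝟙 (op V) := rfl
    rw [e4, N.presheaf.map_id]
    rfl
  have hM' : ∀ s : Γ(M, U.ι ''ᵁ (U.ι ⁻¹ᵁ V)),
      M.presheaf.map (homOfLE hle).op (M.presheaf.map (homOfLE hge).op s) = s := by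
    intro s
    rw [← ConcreteCategory.comp_apply, ← Functor.map_comp]
    have e4 : (homOfLE hge).op ≫ (homOfLE hle).op = 𝟙 (op (U.ι ''ᵁ (U.ι ⁻¹ᵁ V))) := rfl
    rw [e4, M.presheaf.map_id]
    rfl
  constructor
  · intro s s' hss
    have h2 : M.presheaf.map (homOfLE hle).op s = M.presheaf.map (homOfLE hle).op s' := by
      apply hbij.1
      rw [e1, e1, hss]
    rw [← hM s, ← hM s', h2]
  · intro y
    obtain ⟨x, hx⟩ := hbij.2 (N.presheaf.map (homOfLE hle).op y)
    refine ⟨M.presheaf.map (homOfLE hge).op x, ?_⟩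
    rw [← hN (ψ.app V _), ← e1, hM', hx, hN]

open Groth.Agent.Helper13.FinType Groth.Agent.Helper13.Ext in
/-- **graph extension**: a morphism `φ : G|_U → F|_U` out of a finite type module extends to a
correspondence `G ← T → F` with `T` quasi-coherent of finite type and `T → G` an isomorphism
over `U`. -/
theorem exists_graph_extension [CompactSpace X] [QuasiSeparatedSpace X]
    (hU : IsCompact (U : Set X)) (F G : X.Modules) [F.IsQuasicoherent] [G.IsQuasicoherent]
    [SheafOfModules.IsFiniteType (R := X.ringCatSheaf) G]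
    (φ : (Scheme.Modules.restrictFunctor U.ι).obj G ⟶ (Scheme.Modules.restrictFunctor U.ι).obj F) :
    ∃ (T : X.Modules) (π : T ⟶ G) (p : T ⟶ F), T.IsQuasicoherent ∧
      SheafOfModules.IsFiniteType (R := X.ringCatSheaf) T ∧
      IsIso ((Scheme.Modules.restrictFunctor U.ι).map π) ∧
      (Scheme.Modules.restrictFunctor U.ι).map p =
        (Scheme.Modules.restrictFunctor U.ι).map π ≫ φ := by
  let R := Scheme.Modules.restrictFunctor U.ι
  haveI : (G ⊞ F).IsQuasicoherent := Groth.Agent.Helper13.QCohFin.isQuasicoherent_biprod G F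
  let i : R.obj G ⟶ R.obj (G ⊞ F) := R.map biprod.inl + φ ≫ R.map biprod.inr
  have hi1 : i ≫ R.map biprod.fst = 𝟙 _ := by
    change (R.map biprod.inl + φ ≫ R.map biprod.inr) ≫ R.map biprod.fst = 𝟙 _
    rw [Preadditive.add_comp, Category.assoc, ← R.map_comp, ← R.map_comp, biprod.inl_fst,
      biprod.inr_fst, R.map_id, R.map_zero, comp_zero, add_zero]
  have hi2 : i ≫ R.map biprod.snd = φ := by
    change (R.map biprod.inl + φ ≫ R.map biprod.inr) ≫ R.map biprod.snd = φ
    rw [Preadditive.add_comp, Category.assoc, ← R.map_comp, ← R.map_comp, biprod.inl_snd,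
      biprod.inr_snd, R.map_id, R.map_zero, Category.comp_id, zero_add]
  haveI : Mono i := mono_of_mono_fac hi1
  haveI : SheafOfModules.IsFiniteType (R := (U : Scheme.{u}).ringCatSheaf) (R.obj G) :=
    isFiniteType_restrict U.ι G
  obtain ⟨n, V, hV, hUV⟩ := exists_goodCover_of_qcqs (X := X)
  obtain ⟨T, i', e, hmono, hq, hft, he⟩ := exists_extension_of_wellOrdered_cover V hV.1 hV.2.1
    hV.2.2 U (hUV U hU) (G ⊞ F) i
  have h1 : R.map (i' ≫ biprod.fst) = e.hom := by
    rw [R.map_comp, ← he, Category.assoc, hi1, Category.comp_id]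
  refine ⟨T, i' ≫ biprod.fst, i' ≫ biprod.snd, hq, hft, ?_, ?_⟩
  · change IsIso (R.map (i' ≫ biprod.fst))
    rw [h1]
    infer_instance
  · change R.map (i' ≫ biprod.snd) = R.map (i' ≫ biprod.fst) ≫ φ
    rw [h1, R.map_comp, ← he, Category.assoc, hi2]

end Restr

section Alg

variable {A : Type*} [CommRing A] [IsNoetherianRing A]

/-- elements of a submodule of a finite module which are killed by powers of each `a ∈ J` are
killed by a power of `J`. -/
lemma exists_pow_smul_eq_zero_of_forall {M : Type*} [AddCommGroup M] [Module A M]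
    [Module.Finite A M] (J : Ideal A) (K : Submodule A M)
    (h : ∀ a ∈ J, ∀ k ∈ K, ∃ r : ℕ, a ^ r • k = 0) :
    ∃ m : ℕ, ∀ b ∈ J ^ m, ∀ k ∈ K, b • k = 0 := by
  classical
  haveI : IsNoetherian A M := isNoetherian_of_isNoetherianRing_of_finite A M
  have hrad : J ≤ (K.annihilator).radical := by
    intro a ha
    obtain ⟨T, hT⟩ := (IsNoetherian.noetherian K : K.FG)
    have hk : ∀ t : M, ∃ r : ℕ, t ∈ K → a ^ r • t = 0 := by
      intro t
      by_cases ht : t ∈ K
      · obtain ⟨r, hr⟩ := h a ha t ht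
        exact ⟨r, fun _ => hr⟩
      · exact ⟨0, fun h => absurd h ht⟩
    choose r hr using hk
    refine ⟨T.sup r, ?_⟩
    rw [Submodule.mem_annihilator]
    intro k hkK
    rw [← hT] at hkK
    induction hkK using Submodule.span_induction with
    | mem t ht =>
      have htK : t ∈ K := by rw [← hT]; exact Submodule.subset_span ht
      have hle : r t ≤ T.sup r := Finset.le_sup ht
      obtain ⟨d, hd⟩ := Nat.exists_eq_add_of_le hle
      rw [hd, pow_add, mul_comm, mul_smul, hr t htK, smul_zero]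
    | zero => rw [smul_zero]
    | add x y _ _ hx hy => rw [smul_add, hx, hy, add_zero]
    | smul c x _ hx => rw [smul_comm, hx, smul_zero]
  obtain ⟨m, hm⟩ := Ideal.exists_pow_le_of_le_radical_of_fg hrad (IsNoetherian.noetherian _)
  exact ⟨m, fun b hb k hk => Submodule.mem_annihilator.1 (hm hb) k hk⟩

/-- if powers of each `a ∈ J` move every element into `L`, a power of `J` does. -/
lemma exists_pow_smul_mem_of_forall {G : Type*} [AddCommGroup G] [Module A G]
    [Module.Finite A G] (J : Ideal A) (L : Submodule A G)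
    (h : ∀ a ∈ J, ∀ g : G, ∃ r : ℕ, a ^ r • g ∈ L) :
    ∃ n : ℕ, ∀ b ∈ J ^ n, ∀ g : G, b • g ∈ L := by
  obtain ⟨n, hn⟩ := exists_pow_smul_eq_zero_of_forall (M := G ⧸ L) J ⊤ (by
    intro a ha q _
    obtain ⟨g, rfl⟩ := Submodule.Quotient.mk_surjective L q
    obtain ⟨r, hr⟩ := h a ha g
    refine ⟨r, ?_⟩
    rw [← Submodule.Quotient.mk_smul, Submodule.Quotient.mk_eq_zero]
    exact hr)
  refine ⟨n, fun b hb g => ?_⟩
  have := hn b hb (Submodule.Quotient.mk g) trivial
  rwa [← Submodule.Quotient.mk_smul, Submodule.Quotient.mk_eq_zero] at this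

/-- Artin–Rees consequence: if a power of `J` kills `K ≤ M`, then `J^N M ∩ K = 0` for large
`N`. -/
lemma exists_pow_smul_top_inf_eq_bot {M : Type*} [AddCommGroup M] [Module A M]
    [Module.Finite A M] (J : Ideal A) (K : Submodule A M) (m : ℕ)
    (hm : ∀ b ∈ J ^ m, ∀ k ∈ K, b • k = 0) :
    ∃ N₀ : ℕ, ∀ N ≥ N₀, J ^ N • (⊤ : Submodule A M) ⊓ K = ⊥ := by
  obtain ⟨c, hc⟩ := Ideal.exists_pow_inf_eq_pow_smul J K
  refine ⟨c + m, fun N hN => ?_⟩
  rw [hc N (le_trans (Nat.le_add_right c m) hN), eq_bot_iff]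
  intro x hx
  refine Submodule.smul_induction_on hx (fun b hb k hk => ?_) (fun x y hx hy => ?_)
  · have hb' : b ∈ J ^ m := Ideal.pow_le_pow_right (by omega) hb
    rw [Submodule.mem_bot]
    exact hm b hb' k hk.2
  · rw [Submodule.mem_bot] at hx hy ⊢
    rw [hx, hy, add_zero]

end Alg

section Main

open Groth.Agent.Helper13.FinType

variable {X : Scheme.{u}} [IsNoetherian X] (I : X.IdealSheafData) (U : X.Opens)
  (hU : (U : Set X) = (I.support : Set X)ᶜ)

include hU in
/-- local bounds on an affine open. -/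
lemma exists_local_bounds {T G : X.Modules} (hT : Coh.IsCoh T) (hG : Coh.IsCoh G) (π : T ⟶ G)
    [IsIso ((Scheme.Modules.restrictFunctor U.ι).map π)] (W : X.affineOpens) :
    ∃ N₀ n : ℕ,
      (∀ N ≥ N₀, (I.ideal W) ^ N • (⊤ : Submodule Γ(X, W.1) Γ(T, W.1)) ⊓
        LinearMap.ker (appLin π W.1) = ⊥) ∧
      ∀ b ∈ (I.ideal W) ^ n, ∀ g : Γ(G, W.1), b • g ∈ LinearMap.range (appLin π W.1) := by
  haveI := hT.1
  haveI := hT.2
  haveI := hG.1
  haveI := hG.2
  haveI : IsNoetherianRing Γ(X, W.1) := IsLocallyNoetherian.component_noetherian W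
  haveI : Module.Finite Γ(X, W.1) Γ(T, W.1) := finite_sections_of_isFiniteType T W.2
  haveI : Module.Finite Γ(X, W.1) Γ(G, W.1) := finite_sections_of_isFiniteType G W.2
  have key : ∀ a ∈ I.ideal W, Function.Bijective (π.app (X.basicOpen a)) := fun a ha =>
    app_bijective_of_isIso_restrict U π _ (basicOpen_le_of_mem_ideal I U hU W a ha)
  have hnat : ∀ (a : Γ(X, W.1)) (t : Γ(T, W.1)),
      π.app (X.basicOpen a) (T.presheaf.map (homOfLE (X.basicOpen_le a)).op t) =
        G.presheaf.map (homOfLE (X.basicOpen_le a)).op (π.app W.1 t) := fun a t =>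
    congr($(π.mapPresheaf.naturality (homOfLE (X.basicOpen_le a)).op) t)
  have h1 : ∀ a ∈ I.ideal W, ∀ k ∈ LinearMap.ker (appLin π W.1), ∃ r : ℕ, a ^ r • k = 0 := by
    intro a ha k hk
    apply exists_pow_smul_eq_zero T W.2 a k
    apply (key a ha).1
    rw [map_zero, hnat]
    have : π.app W.1 k = 0 := hk
    rw [this, map_zero]
  have h2 : ∀ a ∈ I.ideal W, ∀ g : Γ(G, W.1),
      ∃ r : ℕ, a ^ r • g ∈ LinearMap.range (appLin π W.1) := by
    intro a ha g
    obtain ⟨t', ht'⟩ := (key a ha).2 (G.presheaf.map (homOfLE (X.basicOpen_le a)).op g)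
    obtain ⟨r, t'', ht''⟩ := exists_pow_smul_eq_res T W.2 a t'
    have h0 : G.presheaf.map (homOfLE (X.basicOpen_le a)).op (a ^ r • g - π.app W.1 t'') = 0 := by
      rw [map_sub, Scheme.Modules.map_smul, map_pow, ← hnat, ht'', Scheme.Modules.Hom.app_smul,
        ht', sub_self]
    obtain ⟨s, hs⟩ := exists_pow_smul_eq_zero G W.2 a _ h0
    refine ⟨s + r, a ^ s • t'', ?_⟩
    rw [smul_sub, sub_eq_zero] at hs
    rw [map_smul, pow_add, mul_smul, hs]
    rfl
  obtain ⟨m, hm⟩ := exists_pow_smul_eq_zero_of_forall (I.ideal W) _ h1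
  obtain ⟨N₀, hN₀⟩ := exists_pow_smul_top_inf_eq_bot (I.ideal W) _ m hm
  obtain ⟨n, hn⟩ := exists_pow_smul_mem_of_forall (I.ideal W) _ h2
  exact ⟨N₀, n, hN₀, hn⟩

include hU in
theorem exists_mono_pow_and_lift {T G : X.Modules} (hT : Coh.IsCoh T) (hG : Coh.IsCoh G)
    (π : T ⟶ G) [IsIso ((Scheme.Modules.restrictFunctor U.ι).map π)] :
    ∃ (N n : ℕ) (θ : (Dual3.idealMul (I ^ (N + n))).obj G ⟶ (Dual3.idealMul (I ^ N)).obj T),
      θ ≫ Dual3.idealMulι (I ^ N) T ≫ π = Dual3.idealMulι (I ^ (N + n)) G := by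
  classical
  haveI := hT.1
  haveI := hT.2
  haveI := hG.1
  haveI := hG.2
  choose N₀ n₀ h1 h2 using exists_local_bounds I U hU hT hG π
  obtain ⟨t, ht⟩ := isCompact_univ.elim_finite_subcover
    (fun W : X.affineOpens => ((W.1 : X.Opens) : Set X)) (fun W => W.1.isOpen) (by
      intro x _
      obtain ⟨W, hW, hxW, -⟩ := X.isBasis_affineOpens.exists_subset_of_mem_open
        (Set.mem_univ x) isOpen_univ
      obtain ⟨W', hW', rfl⟩ := hW
      exact Set.mem_iUnion.2 ⟨⟨W', hW'⟩, hxW⟩)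
  have hcov : ∀ x : X, ∃ W : t, x ∈ W.1.1 := by
    intro x
    have hx := ht (Set.mem_univ x)
    rw [Set.mem_iUnion₂] at hx
    obtain ⟨W, hWt, hxW⟩ := hx
    exact ⟨⟨W, hWt⟩, hxW⟩
  let N := ∑ W ∈ t, N₀ W
  let n := ∑ W ∈ t, n₀ W
  have hleN : ∀ W ∈ t, N₀ W ≤ N := fun W hW =>
    Finset.single_le_sum (f := N₀) (fun _ _ => Nat.zero_le _) hW
  have hlen : ∀ W ∈ t, n₀ W ≤ n := fun W hW =>
    Finset.single_le_sum (f := n₀) (fun _ _ => Nat.zero_le _) hW
  let ρ := Dual3.idealMulι (I ^ N) T ≫ π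
  -- `ρ` is a monomorphism
  haveI hρ : Mono ρ := by
    apply Preadditive.mono_of_kernel_zero
    haveI : (kernel ρ).IsQuasicoherent :=
      Groth.Agent.Helper13.QCohLocal.isQuasicoherent_kernel ρ
    apply hom_eq_zero_of_affine_cover _ (fun W : t => W.1.1) (fun W => W.1.2) hcov
    rintro ⟨W, hWt⟩ s
    have h0 : ρ.app W.1 ((kernel.ι ρ).app W.1 s) = 0 := kernel_ι_app_comp ρ W.1 s
    set x := (kernel.ι ρ).app W.1 s with hx
    change π.app W.1 ((Dual3.idealMulι (I ^ N) T).app W.1 x) = 0 at h0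
    have hy := idealMulι_app_mem (I ^ N) T W x
    rw [Scheme.IdealSheafData.ideal_pow] at hy
    have hmem : (Dual3.idealMulι (I ^ N) T).app W.1 x ∈
        (I.ideal W) ^ N • (⊤ : Submodule Γ(X, W.1) Γ(T, W.1)) ⊓
          LinearMap.ker (appLin π W.1) := ⟨hy, h0⟩
    rw [h1 W N (hleN W hWt), Submodule.mem_bot] at hmem
    apply idealMulι_app_injective (I ^ N) T W.1
    rw [hmem, map_zero]
  have hle : Subobject.mk (Dual3.idealMulι (I ^ (N + n)) G) ≤ Subobject.mk ρ := by
    apply mk_le_mk_of_sections _ _ (fun W : t => W.1.1) (fun W => W.1.2) hcov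
    rintro ⟨W, hWt⟩ s
    have hz := idealMulι_app_mem (I ^ (N + n)) G W s
    have e : (I ^ (N + n)).ideal W = (I.ideal W) ^ N * (I.ideal W) ^ n := by
      rw [Scheme.IdealSheafData.ideal_pow, ← pow_add]
      rfl
    rw [e, Submodule.mul_smul] at hz
    have hsub : (I.ideal W) ^ n • (⊤ : Submodule Γ(X, W.1) Γ(G, W.1)) ≤
        LinearMap.range (appLin π W.1) := by
      rw [Submodule.smul_le]
      intro b hb g _
      exact h2 W b (Ideal.pow_le_pow_right (hlen W hWt) hb) g
    have hz2 : (Dual3.idealMulι (I ^ (N + n)) G).app W.1 s ∈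
        Submodule.map (appLin π W.1) ((I.ideal W) ^ N • (⊤ : Submodule Γ(X, W.1) Γ(T, W.1))) := by
      rw [Submodule.map_smul'', Submodule.map_top]
      exact Submodule.smul_mono le_rfl hsub hz
    obtain ⟨y, hy, hyz⟩ := hz2
    obtain ⟨x, hx⟩ := exists_idealMul_section (I ^ N) T W y (by
      rw [Scheme.IdealSheafData.ideal_pow]; exact hy)
    refine ⟨x, ?_⟩
    change π.app W.1 ((Dual3.idealMulι (I ^ N) T).app W.1 x) = _
    rw [hx]
    exact hyz
  exact ⟨N, n, Subobject.ofMkLEMk _ _ hle, Subobject.ofMkLEMk_comp hle⟩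

include hU in
/-- **Deligne's formula, existence part.** -/
theorem exists_hom_idealMul_pow_restrict_eq (F G : X.Modules)
    (hF : Coh.IsQCoh F) (hG : Coh.IsCoh G)
    (φ : (Scheme.Modules.restrictFunctor U.ι).obj G ⟶
      (Scheme.Modules.restrictFunctor U.ι).obj F) :
    ∃ (n : ℕ) (ψ : (Dual3.idealMul (I ^ n)).obj G ⟶ F),
      (Scheme.Modules.restrictFunctor U.ι).map ψ =
        (Scheme.Modules.restrictFunctor U.ι).map (Dual3.idealMulι (I ^ n) G) ≫ φ := by
  haveI : F.IsQuasicoherent := hF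
  haveI := hG.1
  haveI := hG.2
  have hUc : IsCompact (U : Set X) := TopologicalSpace.NoetherianSpace.isCompact _
  obtain ⟨T, π, p, hTq, hTf, hπ, hp⟩ := exists_graph_extension U hUc F G φ
  haveI := hπ
  obtain ⟨N, n, θ, hθ⟩ := exists_mono_pow_and_lift I U hU ⟨hTq, hTf⟩ hG π
  refine ⟨N + n, θ ≫ Dual3.idealMulι (I ^ N) T ≫ p, ?_⟩
  rw [Functor.map_comp, Functor.map_comp, hp, ← hθ, Functor.map_comp, Functor.map_comp,
    Category.assoc, Category.assoc]

end Main

end Groth.Agent.Helper14.IdealMul
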