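import Mathlib

set_option autoImplicit false
universe v₁ v₂ v₃ u₁ u₂ u₃
open CategoryTheory

namespace Groth.Agent.Helper14.LocCrit

variable {C : Type u₁} [Category.{v₁} C] {D : Type u₂} [Category.{v₂} D] (L : C ⥤ D)

/-- the class of morphisms inverted by `L`. -/
abbrev WL : MorphismProperty C := (MorphismProperty.isomorphisms D).inverseImage L

variable (hfrac : ∀ (A B : C) (g : L.obj A ⟶ L.obj B), ∃ (A' : C) (s : A' ⟶ A) (f : A' ⟶ B),
    IsIso (L.map s) ∧ L.map s ≫ g = L.map f)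
  (heq : ∀ (A B : C) (f₁ f₂ : A ⟶ B), L.map f₁ = L.map f₂ →
    ∃ (A' : C) (t : A' ⟶ A), IsIso (L.map t) ∧ t ≫ f₁ = t ≫ f₂)

include hfrac heq in
theorem hasRightCalculusOfFractions : (WL L).HasRightCalculusOfFractions where
  toIsMultiplicative := inferInstance
  exists_rightFraction X Y φ := by
    haveI : IsIso (L.map φ.s) := φ.hs
    obtain ⟨X', s', f', hs', h⟩ := hfrac X Y (L.map φ.f ≫ inv (L.map φ.s))
    obtain ⟨X'', t, ht, hteq⟩ := heq X' φ.Y' (s' ≫ φ.f) (f' ≫ φ.s) (by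
      rw [L.map_comp, L.map_comp, ← h]
      simp)
    haveI := hs'
    haveI := ht
    refine ⟨⟨t ≫ s', ?_, t ≫ f'⟩, ?_⟩
    · change IsIso (L.map (t ≫ s'))
      rw [L.map_comp]
      infer_instance
    · simpa using hteq
  ext X Y Y' f₁ f₂ s hs h := by
    haveI : IsIso (L.map s) := hs
    have h1 : L.map f₁ = L.map f₂ := by
      rw [← cancel_mono (L.map s), ← L.map_comp, ← L.map_comp, h]
    obtain ⟨X', t, ht, hteq⟩ := heq X Y f₁ f₂ h1
    exact ⟨X', t, ht, hteq⟩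

section Equiv

variable {E : Type u₃} [Category.{v₃} E] (Q : C ⥤ E) [Q.IsLocalization (WL L)]
  (Ψ : E ⥤ D) (e : Q ⋙ Ψ ≅ L)

include hfrac in
lemma claimA (A B : C) (θ : L.obj A ⟶ L.obj B) :
    ∃ m : Q.obj A ⟶ Q.obj B, e.inv.app A ≫ Ψ.map m ≫ e.hom.app B = θ := by
  obtain ⟨A', s, f, hs, h⟩ := hfrac A B θ
  have hs' : (WL L) s := hs
  let iσ := Localization.isoOfHom Q (WL L) s hs'
  refine ⟨iσ.inv ≫ Q.map f, ?_⟩
  have hnats : Ψ.map (Q.map s) ≫ e.hom.app A = e.hom.app A' ≫ L.map s := e.hom.naturality s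
  have hnatf : Ψ.map (Q.map f) ≫ e.hom.app B = e.hom.app A' ≫ L.map f := e.hom.naturality f
  haveI : IsIso (L.map s) := hs
  rw [← cancel_epi (L.map s), h]
  have h2 : L.map s ≫ e.inv.app A = e.inv.app A' ≫ Ψ.map (Q.map s) := by
    rw [← cancel_mono (e.hom.app A), Category.assoc, Category.assoc, Iso.inv_hom_id_app,
      hnats, Iso.inv_hom_id_app_assoc]
    exact Category.comp_id _
  have h3 : Q.map s ≫ iσ.inv ≫ Q.map f = Q.map f := by
    rw [← Localization.isoOfHom_hom Q _ s hs']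
    exact Iso.hom_inv_id_assoc _ _
  rw [reassoc_of% h2, ← Ψ.map_comp_assoc, h3, hnatf, Iso.inv_hom_id_app_assoc]

lemma mu_left (hL : (WL L).IsInvertedBy L) (A B : C) (φ : (WL L).RightFraction A B) :
    e.inv.app A ≫ Ψ.map (φ.map Q (Localization.inverts _ _)) ≫ e.hom.app B = φ.map L hL := by
  haveI : IsIso (L.map φ.s) := hL _ φ.hs
  refine (cancel_epi (L.map φ.s)).mp ?_
  refine Eq.trans ?_ (MorphismProperty.RightFraction.map_s_comp_map φ L hL).symm
  have hnats : Ψ.map (Q.map φ.s) ≫ e.hom.app A = e.hom.app φ.X' ≫ L.map φ.s :=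
    e.hom.naturality φ.s
  have hnatf : Ψ.map (Q.map φ.f) ≫ e.hom.app B = e.hom.app φ.X' ≫ L.map φ.f :=
    e.hom.naturality φ.f
  have h2 : L.map φ.s ≫ e.inv.app A = e.inv.app φ.X' ≫ Ψ.map (Q.map φ.s) := by
    rw [← cancel_mono (e.hom.app A), Category.assoc, Category.assoc, Iso.inv_hom_id_app,
      hnats, Iso.inv_hom_id_app_assoc]
    exact Category.comp_id _
  rw [reassoc_of% h2, ← Ψ.map_comp_assoc, MorphismProperty.RightFraction.map_s_comp_map,
    hnatf, Iso.inv_hom_id_app_assoc]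

include hfrac heq e in
lemma claimB (A B : C) (m₁ m₂ : Q.obj A ⟶ Q.obj B) (h : Ψ.map m₁ = Ψ.map m₂) : m₁ = m₂ := by
  haveI := hasRightCalculusOfFractions L hfrac heq
  have hL : (WL L).IsInvertedBy L := fun _ _ _ hf => hf
  obtain ⟨φ₁, h₁⟩ := Localization.exists_rightFraction Q (WL L) m₁
  obtain ⟨φ₂, h₂⟩ := Localization.exists_rightFraction Q (WL L) m₂
  rw [h₁, h₂, MorphismProperty.RightFraction.map_eq_iff]
  have hψ : φ₁.map L hL = φ₂.map L hL := by
    rw [← mu_left L Q Ψ e hL A B φ₁, ← mu_left L Q Ψ e hL A B φ₂, ← h₁, ← h₂, h]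
  -- common denominator
  obtain ⟨ψ, hψc⟩ := MorphismProperty.HasRightCalculusOfFractions.exists_rightFraction
    (W := WL L) (MorphismProperty.LeftFraction.mk φ₁.s φ₂.s φ₂.hs)
  dsimp at hψc
  haveI : IsIso (L.map φ₁.s) := φ₁.hs
  haveI : IsIso (L.map φ₂.s) := φ₂.hs
  haveI : IsIso (L.map ψ.s) := ψ.hs
  have hu : IsIso (L.map (ψ.s ≫ φ₁.s)) := by
    rw [L.map_comp]
    infer_instance
  have h3 : L.map (ψ.s ≫ φ₁.f) = L.map (ψ.f ≫ φ₂.f) := by
    have e1 : L.map φ₁.f = L.map φ₁.s ≫ φ₁.map L hL :=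
      (MorphismProperty.RightFraction.map_s_comp_map φ₁ L hL).symm
    have e2 : L.map φ₂.f = L.map φ₂.s ≫ φ₂.map L hL :=
      (MorphismProperty.RightFraction.map_s_comp_map φ₂ L hL).symm
    rw [L.map_comp, L.map_comp, e1, e2, ← Category.assoc, ← Category.assoc, ← L.map_comp,
      ← L.map_comp, hψc, hψ]
  obtain ⟨Z', t, ht, hteq⟩ := heq _ _ _ _ h3
  haveI := ht
  refine ⟨Z', t ≫ ψ.s, t ≫ ψ.f, ?_, ?_, ?_⟩
  · rw [Category.assoc, Category.assoc, hψc]
  · simpa using hteq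
  · change IsIso (L.map ((t ≫ ψ.s) ≫ φ₁.s))
    rw [L.map_comp, L.map_comp]
    infer_instance

include hfrac heq e in
theorem full_faithful : Ψ.Full ∧ Ψ.Faithful := by
  haveI : Q.EssSurj := Localization.essSurj Q (WL L)
  refine ⟨⟨?_⟩, ⟨?_⟩⟩
  · intro X Y θ
    let a := Q.objObjPreimageIso X
    let b := Q.objObjPreimageIso Y
    obtain ⟨m, hm⟩ := claimA L hfrac Q Ψ e (Q.objPreimage X) (Q.objPreimage Y)
      (e.inv.app _ ≫ Ψ.map a.hom ≫ θ ≫ Ψ.map b.inv ≫ e.hom.app _)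
    have hm' : Ψ.map m = Ψ.map a.hom ≫ θ ≫ Ψ.map b.inv := by
      have h3 := congrArg (fun x => e.hom.app _ ≫ x ≫ e.inv.app _) hm
      simpa using h3
    refine ⟨a.inv ≫ m ≫ b.hom, ?_⟩
    rw [Ψ.map_comp, Ψ.map_comp, hm']
    simp only [Category.assoc, ← Ψ.map_comp, Iso.inv_hom_id, Ψ.map_id, Category.comp_id]
    rw [← Category.assoc, ← Ψ.map_comp, Iso.inv_hom_id, Ψ.map_id, Category.id_comp]
  · intro X Y f g h
    let a := Q.objObjPreimageIso X
    let b := Q.objObjPreimageIso Y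
    have h1 := claimB L hfrac heq Q Ψ e _ _ (a.hom ≫ f ≫ b.inv) (a.hom ≫ g ≫ b.inv)
      (by simp only [Functor.map_comp, h])
    have h2 : a.inv ≫ (a.hom ≫ f ≫ b.inv) ≫ b.hom = a.inv ≫ (a.hom ≫ g ≫ b.inv) ≫ b.hom := by
      rw [h1]
    simpa using h2

end Equiv

include hfrac heq in
/-- **localization criterion**: a functor `L` is a localization for the class of morphisms it
inverts as soon as it is essentially surjective, every morphism `L A ⟶ L B` is a right fraction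
and morphisms identified by `L` are equalized by a morphism inverted by `L`. -/
theorem isLocalization [L.EssSurj] : L.IsLocalization (WL L) := by
  have hL : (WL L).IsInvertedBy L := fun _ _ _ hf => hf
  let Ψ := Localization.Construction.lift L hL
  let e : (WL L).Q ⋙ Ψ ≅ L := eqToIso (Localization.Construction.fac L hL)
  obtain ⟨hfull, hfaith⟩ := full_faithful L hfrac heq (WL L).Q Ψ e
  haveI : Ψ.EssSurj := ⟨fun Y => ⟨(WL L).Q.obj (L.objPreimage Y),
    ⟨e.app _ ≪≫ L.objObjPreimageIso Y⟩⟩⟩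
  haveI : Ψ.IsEquivalence := { }
  exact ⟨hL, inferInstance⟩

end Groth.Agent.Helper14.LocCrit
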