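import Mathlib
import Groth.Agent.Lib.Helper14.IdealMulE
import Groth.Agent.Lib.Helper13.QCohStalk
import Groth.Prelude.Def_QCohCat
import Groth.Prelude.Def_CohB1

set_option autoImplicit false
universe u
open CategoryTheory CategoryTheory.Limits AlgebraicGeometry Opposite TopologicalSpace

namespace Groth.Agent.Helper14.RestrLoc

open Groth.Agent.Helper13.KerSec Groth.Agent.Helper13.QCoh Groth.Agent.Helper14.IdealMul

variable {X : Scheme.{u}} (U : X.Opens)

/-- a module is supported off `U` iff its sections over opens inside `U` vanish. -/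
lemma support_subset_compl_iff (K : X.Modules) :
    CohB1.support K ⊆ (U : Set X)ᶜ ↔ ∀ V : X.Opens, V ≤ U → ∀ s : Γ(K, V), s = 0 := by
  constructor
  · intro h V hV s
    apply TopCat.Presheaf.section_ext ⟨K.presheaf, K.isSheaf⟩ V
    intro x hx
    have hxs : x ∉ CohB1.support K := fun hmem => h hmem (hV hx)
    have hsub : Subsingleton (K.presheaf.stalk x) := by
      by_contra hne
      exact hxs hne
    exact hsub.elim _ _
  · intro h x hx hxU
    apply hx
    refine ⟨fun a b => ?_⟩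
    have h0 : ∀ c : K.presheaf.stalk x, c = 0 := by
      intro c
      obtain ⟨V, hxV, s, rfl⟩ := TopCat.Presheaf.exists_germ_eq K.presheaf c
      have hxVU : x ∈ V ⊓ U := ⟨hxV, hxU⟩
      have h1 := TopCat.Presheaf.germ_res_apply K.presheaf (homOfLE (inf_le_left : V ⊓ U ≤ V)) x
        hxVU s
      have h2 : K.presheaf.map (homOfLE (inf_le_left : V ⊓ U ≤ V)).op s = 0 :=
        h (V ⊓ U) inf_le_right _
      rw [← h1, h2, map_zero]
    rw [h0 a, h0 b]

/-- the restriction of `K` to `U` vanishes iff `K` is supported off `U`. -/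
lemma isZero_restrict_iff (K : X.Modules) :
    IsZero ((Scheme.Modules.restrictFunctor U.ι).obj K) ↔ CohB1.support K ⊆ (U : Set X)ᶜ := by
  rw [support_subset_compl_iff, Groth.Agent.Helper13.QCoh.isZero_iff_sections]
  constructor
  · intro h V hV s
    have hle : U.ι ''ᵁ (U.ι ⁻¹ᵁ V) ≤ V := by
      rintro _ ⟨y, hy, rfl⟩
      exact hy
    have hge : V ≤ U.ι ''ᵁ (U.ι ⁻¹ᵁ V) := by
      intro x hx
      exact ⟨⟨x, hV hx⟩, hx, rfl⟩
    have h1 : K.presheaf.map (homOfLE hle).op s = 0 :=
      (h (U.ι ⁻¹ᵁ V)).elim (α := Γ(K, U.ι ''ᵁ (U.ι ⁻¹ᵁ V))) _ _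
    have h2 : K.presheaf.map (homOfLE hge).op (K.presheaf.map (homOfLE hle).op s) = s := by
      rw [← ConcreteCategory.comp_apply, ← Functor.map_comp]
      have e4 : (homOfLE hle).op ≫ (homOfLE hge).op = 𝟙 (op V) := rfl
      rw [e4, K.presheaf.map_id]
      rfl
    rw [← h2, h1, map_zero]
  · intro h V'
    refine ⟨fun a b => ?_⟩
    have hle : U.ι ''ᵁ V' ≤ U := by
      rintro _ ⟨y, -, rfl⟩
      exact y.2
    have ha : (a : Γ(K, U.ι ''ᵁ V')) = 0 := h _ hle _
    have hb : (b : Γ(K, U.ι ''ᵁ V')) = 0 := h _ hle _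
    exact ha.trans hb.symm

lemma app_injective_iff_kernel {M N : X.Modules} (ψ : M ⟶ N) (W : X.Opens) :
    Function.Injective (ψ.app W) ↔ ∀ s : Γ(kernel ψ, W), s = 0 := by
  constructor
  · intro h s
    have h1 : ψ.app W ((kernel.ι ψ).app W s) = 0 := kernel_ι_app_comp ψ W s
    have h2 : (kernel.ι ψ).app W s = 0 := h (h1.trans (map_zero _).symm)
    exact (mono_iff_app_injective (kernel.ι ψ)).1 inferInstance W (h2.trans (map_zero _).symm)
  · intro h a b hab
    have h1 : ψ.app W (a - b) = 0 := by rw [map_sub, hab, sub_self]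
    obtain ⟨k, hk⟩ := exists_kernel_section ψ W (a - b) h1
    rw [h k, map_zero] at hk
    exact (sub_eq_zero.1 hk.symm)

lemma mono_restrict_iff {M N : X.Modules} (ψ : M ⟶ N) :
    Mono ((Scheme.Modules.restrictFunctor U.ι).map ψ) ↔
      CohB1.support (kernel ψ) ⊆ (U : Set X)ᶜ := by
  rw [← isZero_restrict_iff, Groth.Agent.Helper13.QCoh.isZero_iff_sections, mono_iff_app_injective]
  constructor
  · intro h V'
    have := (app_injective_iff_kernel ψ (U.ι ''ᵁ V')).1 (h V')
    exact ⟨fun a b => (this a).trans (this b).symm⟩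
  · intro h V'
    exact (app_injective_iff_kernel ψ (U.ι ''ᵁ V')).2 (fun s => (h V').elim _ _)

lemma epi_restrict_iff {M N : X.Modules} (ψ : M ⟶ N) :
    Epi ((Scheme.Modules.restrictFunctor U.ι).map ψ) ↔
      CohB1.support (cokernel ψ) ⊆ (U : Set X)ᶜ := by
  rw [← isZero_restrict_iff, Preadditive.epi_iff_isZero_cokernel]
  exact (PreservesCokernel.iso (Scheme.Modules.restrictFunctor U.ι) ψ).symm.isZero_iff

lemma isIso_restrict_iff {M N : X.Modules} (ψ : M ⟶ N) :
    IsIso ((Scheme.Modules.restrictFunctor U.ι).map ψ) ↔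
      CohB1.support (kernel ψ) ⊆ (U : Set X)ᶜ ∧ CohB1.support (cokernel ψ) ⊆ (U : Set X)ᶜ := by
  rw [← mono_restrict_iff, ← epi_restrict_iff]
  constructor
  · intro h
    exact ⟨inferInstance, inferInstance⟩
  · rintro ⟨h1, h2⟩
    exact isIso_of_mono_of_epi _

section Loc

variable [QuasiCompact U.ι]

/-- the restriction functor on quasi-coherent modules. -/
noncomputable abbrev resQ : QCohCat.QCoh X ⥤ QCohCat.QCoh (U : Scheme.{u}) :=
  ObjectProperty.lift (QCohCat.isQCoh (↑U : Scheme.{u}))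
    (ObjectProperty.ι (QCohCat.isQCoh X) ⋙ Scheme.Modules.restrictFunctor U.ι)
    (fun M => @Scheme.Modules.isQuasicoherent_restrictFunctor (↑U : Scheme.{u}) X U.ι
      inferInstance M.obj M.property)

/-- the direct image functor on quasi-coherent modules. -/
noncomputable abbrev pushQ : QCohCat.QCoh (U : Scheme.{u}) ⥤ QCohCat.QCoh X :=
  ObjectProperty.lift (QCohCat.isQCoh X)
    (ObjectProperty.ι (QCohCat.isQCoh (↑U : Scheme.{u})) ⋙ Scheme.Modules.pushforward U.ι)
    (fun N => by
      haveI : N.obj.IsQuasicoherent := N.property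
      exact Groth.Agent.Helper13.Qcqs.isQuasicoherent_pushforward_of_qcqs U.ι N.obj)

noncomputable def adjQ : resQ U ⊣ pushQ U :=
  (Scheme.Modules.restrictAdjunction U.ι).restrictFullyFaithful
    (ObjectProperty.fullyFaithfulι _) (ObjectProperty.fullyFaithfulι _)
    (Iso.refl _) (Iso.refl _)

theorem isLocalization_resQ :
    (resQ U).IsLocalization
      (fun (A B : QCohCat.QCoh X) (f : A ⟶ B) =>
        CohB1.support (kernel f.hom) ⊆ (↑U : Set X)ᶜ ∧
          CohB1.support (cokernel f.hom) ⊆ (↑U : Set X)ᶜ) := by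
  have h := (adjQ U).isLocalization
  have hW : (fun (A B : QCohCat.QCoh X) (f : A ⟶ B) =>
        CohB1.support (kernel f.hom) ⊆ (↑U : Set X)ᶜ ∧
          CohB1.support (cokernel f.hom) ⊆ (↑U : Set X)ᶜ) =
      (MorphismProperty.isomorphisms (QCohCat.QCoh (U : Scheme.{u}))).inverseImage (resQ U) := by
    ext A B f
    change _ ↔ IsIso ((resQ U).map f)
    rw [← isIso_restrict_iff]
    rw [← isIso_iff_of_reflects_iso ((resQ U).map f)
      (ObjectProperty.ι (QCohCat.isQCoh (↑U : Scheme.{u})))]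
    rfl
  rw [hW]
  exact h

end Loc

end Groth.Agent.Helper14.RestrLoc
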