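import Mathlib
import Groth.Agent.Lib.Helper14.IdealMulE
import Groth.Agent.Lib.Helper14.RestrLoc
import Groth.Agent.Lib.Helper14.LocCrit

set_option autoImplicit false
universe u
open CategoryTheory CategoryTheory.Limits AlgebraicGeometry Opposite TopologicalSpace

namespace Groth.Agent.Helper14.CohLoc

open Groth.Agent.Helper13.KerSec Groth.Agent.Helper13.QCoh Groth.Agent.Helper14.IdealMul
open Groth.Agent.Helper14.RestrLoc Groth.Agent.Helper13.FinType

variable {X : Scheme.{u}}

section Ideal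

variable (I : X.IdealSheafData) (U : X.Opens) (hU : (U : Set X) = (I.support : Set X)ᶜ)

include hU in
lemma ideal_eq_top_of_le (W : X.affineOpens) (hW : W.1 ≤ U) : I.ideal W = ⊤ := by
  have hW' : IsAffineOpen W.1 := W.2
  rw [← PrimeSpectrum.zeroLocus_empty_iff_eq_top, ← hW'.fromSpec_preimage_zeroLocus]
  apply Set.eq_empty_of_forall_notMem
  intro p hp
  have hp' : hW'.fromSpec p ∈ X.zeroLocus (U := W.1) (I.ideal W : Set Γ(X, W.1)) := hp
  have hpW : hW'.fromSpec p ∈ W.1 := by
    have : hW'.fromSpec p ∈ Set.range hW'.fromSpec := ⟨p, rfl⟩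
    rw [hW'.range_fromSpec] at this
    exact this
  have h1 : hW'.fromSpec p ∈ (I.support : Set X) ∩ W.1 := by
    rw [I.coe_support_inter W]
    exact ⟨hp', hpW⟩
  have h2 : hW'.fromSpec p ∈ (U : Set X) := hW hpW
  rw [hU] at h2
  exact h2 h1.1

include hU in
/-- the inclusion `I^n F → F` is an isomorphism over the complement of the support of `I`. -/
lemma isIso_restrict_idealMulι (F : X.Modules) [F.IsQuasicoherent] (n : ℕ) :
    IsIso ((Scheme.Modules.restrictFunctor U.ι).map (Dual3.idealMulι (I ^ n) F)) := by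
  rw [Scheme.Modules.Hom.isIso_iff_isIso_app]
  intro V'
  rw [ConcreteCategory.isIso_iff_bijective]
  have hle : U.ι ''ᵁ V' ≤ U := by
    rintro _ ⟨y, -, rfl⟩
    exact y.2
  constructor
  · exact idealMulι_app_injective (I ^ n) F (U.ι ''ᵁ V')
  · intro s
    apply exists_idealMul_section_of_affine (I ^ n) F (U.ι ''ᵁ V') s
    intro W hWV
    rw [Scheme.IdealSheafData.ideal_pow]
    change _ ∈ (I.ideal W) ^ n • (⊤ : Submodule Γ(X, W.1) Γ(F, W.1))
    rw [ideal_eq_top_of_le I U hU W (hWV.trans hle), Ideal.top_pow, Submodule.top_smul]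
    trivial

end Ideal

lemma isCoh_idealMul [IsNoetherian X] (I : X.IdealSheafData) (F : X.Modules) (hF : Coh.IsCoh F) :
    Coh.IsCoh ((Dual3.idealMul I).obj F) := by
  haveI := hF.1
  haveI := hF.2
  refine ⟨inferInstance, ?_⟩
  rw [isFiniteType_iff_finite_sections]
  intro W hW
  exact finite_sections_idealMul I F hF ⟨W, hW⟩

section Main

variable [IsNoetherian X] (U : X.Opens)
  (hres : ∀ M : X.Modules, Coh.IsCoh M → Coh.IsCoh ((Scheme.Modules.restrictFunctor U.ι).obj M))

/-- restriction on coherent modules. -/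
noncomputable abbrev resC :
    ObjectProperty.FullSubcategory (fun M : X.Modules => Coh.IsCoh M) ⥤
      ObjectProperty.FullSubcategory (fun N : (↑U : Scheme.{u}).Modules => Coh.IsCoh N) :=
  ObjectProperty.lift (fun N : (↑U : Scheme.{u}).Modules => Coh.IsCoh N)
    (ObjectProperty.ι (fun M : X.Modules => Coh.IsCoh M) ⋙ Scheme.Modules.restrictFunctor U.ι)
    (fun M => hres M.obj M.property)

open Groth.Agent.Helper13.Ext in
instance essSurj_resC : (resC U hres).EssSurj := by
  refine ⟨fun N => ?_⟩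
  obtain ⟨n, V, hV, hUV⟩ := exists_goodCover_of_qcqs (X := X)
  have hUc : IsCompact (U : Set X) := TopologicalSpace.NoetherianSpace.isCompact _
  haveI := N.property.1
  haveI := N.property.2
  obtain ⟨G', hq, hft, ⟨e⟩⟩ := exists_extension_of_module V hV U (hUV U hUc) N.obj
  exact ⟨⟨G', ⟨hq, hft⟩⟩, ⟨(ObjectProperty.fullyFaithfulι _).preimageIso e⟩⟩

theorem isLocalization_resC :
    (resC U hres).IsLocalization
      (fun (A B : ObjectProperty.FullSubcategory (fun M : X.Modules => Coh.IsCoh M)) (f : A ⟶ B) =>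
        CohB1.support (kernel f.hom) ⊆ (↑U : Set X)ᶜ ∧
          CohB1.support (cokernel f.hom) ⊆ (↑U : Set X)ᶜ) := by
  let Z : Closeds X := ⟨(U : Set X)ᶜ, U.isOpen.isClosed_compl⟩
  let I : X.IdealSheafData := Scheme.IdealSheafData.vanishingIdeal Z
  have hU : (U : Set X) = (I.support : Set X)ᶜ := by
    rw [Scheme.IdealSheafData.coe_support_vanishingIdeal]
    exact (compl_compl _).symm
  have hW : (fun (A B : ObjectProperty.FullSubcategory (fun M : X.Modules => Coh.IsCoh M))
      (f : A ⟶ B) => CohB1.support (kernel f.hom) ⊆ (↑U : Set X)ᶜ ∧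
          CohB1.support (cokernel f.hom) ⊆ (↑U : Set X)ᶜ) =
      Groth.Agent.Helper14.LocCrit.WL (resC U hres) := by
    ext A B f
    change _ ↔ IsIso ((resC U hres).map f)
    rw [← isIso_restrict_iff]
    rw [← isIso_iff_of_reflects_iso ((resC U hres).map f)
      (ObjectProperty.ι (fun N : (↑U : Scheme.{u}).Modules => Coh.IsCoh N))]
    rfl
  rw [hW]
  have hisoι : ∀ (A : ObjectProperty.FullSubcategory (fun M : X.Modules => Coh.IsCoh M)) (n : ℕ),
      IsIso ((resC U hres).map (ObjectProperty.homMk (Dual3.idealMulι (I ^ n) A.obj) :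
        (⟨(Dual3.idealMul (I ^ n)).obj A.obj, isCoh_idealMul _ _ A.property⟩ :
          ObjectProperty.FullSubcategory (fun M : X.Modules => Coh.IsCoh M)) ⟶ A)) := by
    intro A n
    haveI := A.property.1
    rw [← isIso_iff_of_reflects_iso _
      (ObjectProperty.ι (fun N : (↑U : Scheme.{u}).Modules => Coh.IsCoh N))]
    exact isIso_restrict_idealMulι I U hU A.obj n
  apply Groth.Agent.Helper14.LocCrit.isLocalization
  · intro A B g
    obtain ⟨n, ψ, hψ⟩ := exists_hom_idealMul_pow_restrict_eq I U hU B.obj A.obj B.property.1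
      A.property g.hom
    refine ⟨⟨(Dual3.idealMul (I ^ n)).obj A.obj, isCoh_idealMul _ _ A.property⟩,
      ObjectProperty.homMk (Dual3.idealMulι (I ^ n) A.obj), ObjectProperty.homMk ψ,
      hisoι A n, ?_⟩
    apply ObjectProperty.hom_ext
    exact hψ.symm
  · intro A B f₁ f₂ h
    have h' : (Scheme.Modules.restrictFunctor U.ι).map f₁.hom =
        (Scheme.Modules.restrictFunctor U.ι).map f₂.hom :=
      congrArg (fun θ => θ.hom) h
    let ψ : (Dual3.idealMul (I ^ 1)).obj A.obj ⟶ B.obj :=
      Dual3.idealMulι (I ^ 1) A.obj ≫ (f₁.hom - f₂.hom)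
    have hψ0 : (Scheme.Modules.restrictFunctor U.ι).map ψ = 0 := by
      change (Scheme.Modules.restrictFunctor U.ι).map
        (Dual3.idealMulι (I ^ 1) A.obj ≫ (f₁.hom - f₂.hom)) = 0
      rw [Functor.map_comp, Functor.map_sub, h', sub_self, comp_zero]
    obtain ⟨N, ι', h1, h2⟩ := hom_idealMul_pow_restrict_eq_zero B.obj A.obj B.property.1
      A.property I U hU 1 ψ hψ0
    refine ⟨⟨(Dual3.idealMul (I ^ N)).obj A.obj, isCoh_idealMul _ _ A.property⟩,
      ObjectProperty.homMk (Dual3.idealMulι (I ^ N) A.obj), hisoι A N, ?_⟩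
    apply ObjectProperty.hom_ext
    change Dual3.idealMulι (I ^ N) A.obj ≫ f₁.hom = Dual3.idealMulι (I ^ N) A.obj ≫ f₂.hom
    rw [← sub_eq_zero, ← Preadditive.comp_sub, ← h1, Category.assoc]
    exact h2

end Main

end Groth.Agent.Helper14.CohLoc
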