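import Mathlib
import Groth.Agent.Lib.Helper14.IdealMulB
import Groth.Agent.Lib.Helper13.IdealComap

set_option autoImplicit false
universe u
open CategoryTheory CategoryTheory.Limits AlgebraicGeometry Opposite TopologicalSpace

namespace Groth.Agent.Helper14.IdealMul

open Groth.Agent.Helper14.CohFormal Groth.Agent.Helper13.KerSec Groth.Agent.Helper13.QCoh

section Push

variable {Y X : Scheme.{u}} (f : Y ⟶ X)

lemma pushforward_map_app {F G : Y.Modules} (φ : F ⟶ G) (U : X.Opens)
    (s : Γ(F, f ⁻¹ᵁ U)) :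
    ((Scheme.Modules.pushforward f).map φ).app U s = φ.app (f ⁻¹ᵁ U) s := rfl

instance mono_pushforward_map {F G : Y.Modules} (φ : F ⟶ G) [Mono φ] :
    Mono ((Scheme.Modules.pushforward f).map φ) := by
  rw [mono_iff_app_injective]
  intro U
  exact (mono_iff_app_injective φ).1 inferInstance (f ⁻¹ᵁ U)

lemma pushforward_smul (F : Y.Modules) (U : X.Opens) (a : Γ(X, U))
    (x : Γ(F, f ⁻¹ᵁ U)) :
    (a • (show Γ((Scheme.Modules.pushforward f).obj F, U) from x) :
      Γ((Scheme.Modules.pushforward f).obj F, U)) =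
      (show Γ(F, f ⁻¹ᵁ U) from ((f.app U a : Γ(Y, f ⁻¹ᵁ U)) • x)) := rfl

/-- for an ideal `J` of `A` and a ring map `φ : A → B`, elements of `φ(J)B · M` lie in `J · M`
(as `A`-submodule). Stated elementwise to avoid restriction of scalars. -/
lemma smul_mem_of_mem_map {A B M : Type*} [CommRing A] [CommRing B] [AddCommGroup M]
    [Module A M] [Module B M] (φ : A →+* B) (hφ : ∀ (a : A) (x : M), φ a • x = a • x)
    (J : Ideal A) (y : M) (hy : y ∈ (J.map φ) • (⊤ : Submodule B M)) :
    y ∈ J • (⊤ : Submodule A M) := by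
  have hb : ∀ b ∈ J.map φ, ∀ x : M, b • x ∈ J • (⊤ : Submodule A M) := by
    intro b hb
    refine Submodule.span_induction (p := fun b _ => ∀ x : M, b • x ∈ J • (⊤ : Submodule A M))
      ?_ ?_ ?_ ?_ hb
    · rintro _ ⟨a, ha, rfl⟩ x
      rw [hφ]
      exact Submodule.smul_mem_smul ha trivial
    · intro x
      rw [zero_smul]
      exact zero_mem _
    · intro b₁ b₂ _ _ h₁ h₂ x
      rw [add_smul]
      exact add_mem (h₁ x) (h₂ x)
    · intro r b _ h x
      rw [smul_eq_mul, mul_comm, mul_smul]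
      exact h _
  refine Submodule.smul_induction_on hy (fun b hb' x _ => hb b hb' x) (fun x y hx hy => add_mem hx hy)

lemma smul_mem_map_of_mem {A B M : Type*} [CommRing A] [CommRing B] [AddCommGroup M]
    [Module A M] [Module B M] (φ : A →+* B) (hφ : ∀ (a : A) (x : M), φ a • x = a • x)
    (J : Ideal A) (y : M) (hy : y ∈ J • (⊤ : Submodule A M)) :
    y ∈ (J.map φ) • (⊤ : Submodule B M) := by
  refine Submodule.smul_induction_on hy (fun a ha x _ => ?_) (fun x y hx hy => add_mem hx hy)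
  rw [← hφ]
  exact Submodule.smul_mem_smul (Ideal.mem_map_of_mem _ ha) trivial

theorem idealMul_pushforward [IsAffineHom f] (F : Y.Modules) (hF : Coh.IsQCoh F)
    (I : X.IdealSheafData) :
    ∃ e : (Dual3.idealMul I).obj ((Scheme.Modules.pushforward f).obj F) ≅
        (Scheme.Modules.pushforward f).obj ((Dual3.idealMul (I.comap f)).obj F),
      e.hom ≫ (Scheme.Modules.pushforward f).map (Dual3.idealMulι (I.comap f) F) =
        Dual3.idealMulι I ((Scheme.Modules.pushforward f).obj F) := by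
  haveI : F.IsQuasicoherent := hF
  haveI : ((Scheme.Modules.pushforward f).obj F).IsQuasicoherent :=
    Groth.Agent.Helper13.Qcqs.isQuasicoherent_pushforward_of_qcqs f F
  haveI : ((Scheme.Modules.pushforward f).obj
      ((Dual3.idealMul (I.comap f)).obj F)).IsQuasicoherent :=
    Groth.Agent.Helper13.Qcqs.isQuasicoherent_pushforward_of_qcqs f _
  have hcov : ∀ x : X, ∃ W : X.affineOpens, x ∈ W.1 := by
    intro x
    obtain ⟨W, hW, hxW, -⟩ := X.isBasis_affineOpens.exists_subset_of_mem_open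
      (Set.mem_univ x) isOpen_univ
    obtain ⟨W', hW', rfl⟩ := hW
    exact ⟨⟨W', hW'⟩, hxW⟩
  -- the ideal of the pulled back ideal sheaf
  have hideal : ∀ W : X.affineOpens,
      (I.comap f).ideal ⟨f ⁻¹ᵁ W.1, W.2.preimage f⟩ = (I.ideal W).map (f.app W.1).hom := by
    intro W
    rw [Groth.Agent.Helper13.IdealComap.ideal_comap f I W ⟨f ⁻¹ᵁ W.1, W.2.preimage f⟩ le_rfl,
      ← Scheme.Hom.app_eq_appLE]
  have key : Subobject.mk (Dual3.idealMulι I ((Scheme.Modules.pushforward f).obj F)) =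
      Subobject.mk ((Scheme.Modules.pushforward f).map (Dual3.idealMulι (I.comap f) F)) := by
    apply le_antisymm
    · apply mk_le_mk_of_sections _ _ (fun W : X.affineOpens => W.1) (fun W => W.2) hcov
      intro W s
      have h1 := idealMulι_app_mem I ((Scheme.Modules.pushforward f).obj F) W s
      letI : Module Γ(X, W.1) Γ(F, f ⁻¹ᵁ W.1) :=
        (inferInstance : Module Γ(X, W.1) Γ((Scheme.Modules.pushforward f).obj F, W.1))
      have h2 := smul_mem_map_of_mem (M := Γ(F, f ⁻¹ᵁ W.1)) (f.app W.1).hom (fun a x => rfl)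
        (I.ideal W) _ h1
      rw [← hideal W] at h2
      obtain ⟨t, ht⟩ := exists_idealMul_section (I.comap f) F ⟨f ⁻¹ᵁ W.1, W.2.preimage f⟩ _ h2
      exact ⟨t, ht⟩
    · apply mk_le_mk_of_sections _ _ (fun W : X.affineOpens => W.1) (fun W => W.2) hcov
      intro W s
      have h1 := idealMulι_app_mem (I.comap f) F ⟨f ⁻¹ᵁ W.1, W.2.preimage f⟩ s
      rw [hideal W] at h1
      letI : Module Γ(Y, f ⁻¹ᵁ W.1) Γ((Scheme.Modules.pushforward f).obj F, W.1) :=
        (inferInstance : Module Γ(Y, f ⁻¹ᵁ W.1) Γ(F, f ⁻¹ᵁ W.1))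
      have h2 := smul_mem_of_mem_map (A := Γ(X, W.1))
        (M := Γ((Scheme.Modules.pushforward f).obj F, W.1)) (f.app W.1).hom (fun a x => rfl)
        (I.ideal W) _ h1
      obtain ⟨t, ht⟩ := exists_idealMul_section I ((Scheme.Modules.pushforward f).obj F) W _ h2
      exact ⟨t, ht⟩
  exact ⟨Subobject.isoOfMkEqMk _ _ key, Subobject.ofMkLEMk_comp _⟩

end Push

end Groth.Agent.Helper14.IdealMul
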