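import Mathlib

set_option autoImplicit false
universe u v

namespace Groth.Agent.Helper14

open PrimeSpectrum

/-- A clopen set `basicOpen e` for idempotent `e` is empty iff `e = 0`. -/
theorem basicOpen_eq_empty_of_idem {A : Type u} [CommRing A] {e : A} (he : IsIdempotentElem e) :
    (basicOpen e : Set (PrimeSpectrum A)) = ∅ ↔ e = 0 := by
  constructor
  · intro h
    have h1 : basicOpen e = ⊥ := TopologicalSpace.Opens.ext h
    rw [basicOpen_eq_bot_iff] at h1
    exact he.eq_zero_of_isNilpotent h1
  · rintro rfl
    simp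

theorem basicOpen_eq_univ_of_idem {A : Type u} [CommRing A] {e : A} (he : IsIdempotentElem e) :
    (basicOpen e : Set (PrimeSpectrum A)) = Set.univ ↔ e = 1 := by
  constructor
  · intro h
    have h1 : (basicOpen (1 - e) : Set (PrimeSpectrum A)) = ∅ := by
      rw [← zeroLocus_eq_basicOpen_of_isIdempotentElem e he, ← Set.compl_univ, ← h,
        basicOpen_eq_zeroLocus_compl, compl_compl]
    rw [basicOpen_eq_empty_of_idem he.one_sub] at h1
    exact (sub_eq_zero.1 h1).symm
  · rintro rfl
    simp

/-- `Spec A` is connected iff `A` is nontrivial with only trivial idempotents. -/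
theorem connectedSpace_primeSpectrum_iff {A : Type u} [CommRing A] :
    ConnectedSpace (PrimeSpectrum A) ↔
      Nontrivial A ∧ ∀ e : A, IsIdempotentElem e → e = 0 ∨ e = 1 := by
  constructor
  · intro h
    have hne : Nonempty (PrimeSpectrum A) := h.toNonempty
    refine ⟨(PrimeSpectrum.nonempty_iff_nontrivial).1 hne, fun e he => ?_⟩
    have hcl : IsClopen (basicOpen e : Set (PrimeSpectrum A)) := PrimeSpectrum.isClopen_iff.2 ⟨e, he, rfl⟩
    rcases _root_.isClopen_iff.1 hcl with h1 | h1
    · exact Or.inl ((basicOpen_eq_empty_of_idem he).1 h1)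
    · exact Or.inr ((basicOpen_eq_univ_of_idem he).1 h1)
  · rintro ⟨hnt, hid⟩
    have hpre : PreconnectedSpace (PrimeSpectrum A) := by
      rw [preconnectedSpace_iff_clopen]
      intro s hs
      obtain ⟨e, he, rfl⟩ := PrimeSpectrum.isClopen_iff.1 hs
      rcases hid e he with rfl | rfl
      · left; simp
      · right; simp
    exact { toPreconnectedSpace := hpre, toNonempty := PrimeSpectrum.nonempty_iff_nontrivial.2 hnt }

/-- Connectedness of the spectrum descends along injective ring homomorphisms. -/
theorem connectedSpace_of_injective {A : Type u} {B : Type v} [CommRing A] [CommRing B]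
    (φ : A →+* B) (hφ : Function.Injective φ) [h : ConnectedSpace (PrimeSpectrum B)] :
    ConnectedSpace (PrimeSpectrum A) := by
  rw [connectedSpace_primeSpectrum_iff] at h ⊢
  obtain ⟨hnt, hid⟩ := h
  refine ⟨⟨0, 1, fun h01 => zero_ne_one (α := B) (by rw [← map_zero φ, ← map_one φ, h01])⟩, ?_⟩
  intro e he
  rcases hid (φ e) (he.map φ) with h0 | h1
  · left; exact hφ (h0.trans (map_zero φ).symm)
  · right; exact hφ (h1.trans (map_one φ).symm)

end Groth.Agent.Helper14
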