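import Mathlib
import Groth.Agent.Lib.Helper14.SpecConn

/-!
# Tensor products over an algebraically closed field (helper14)

If `k` is algebraically closed, `K/k` a field extension and `R` a `k`-algebra with irreducible
(resp. connected) spectrum, then `K ⊗[k] R` has irreducible (resp. connected) spectrum.
The proof goes through finitely generated subalgebras `A ⊆ K`, the open map
`Spec (A ⊗ R) → Spec A` and closed points of `Spec A` (which are `k`-rational).
-/

set_option autoImplicit false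

namespace Groth.Agent.Helper14.AlgClosedTensor

open TensorProduct Function Groth.Agent.Helper14

universe u

variable {k : Type u} [Field k]

section fg

variable {K R : Type u} [CommRing K] [CommRing R] [Algebra k K] [Algebra k R]

/-- The map `A ⊗ R → K ⊗ R` for a subalgebra `A` of `K`. -/
noncomputable abbrev incl (A : Subalgebra k K) (R : Type u) [CommRing R] [Algebra k R] :
    A ⊗[k] R →ₐ[k] K ⊗[k] R :=
  Algebra.TensorProduct.map A.val (AlgHom.id k R)

theorem incl_injective (A : Subalgebra k K) : Injective (incl A R) :=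
  Module.Flat.rTensor_preserves_injective_linearMap (M := R) A.val.toLinearMap
    Subtype.val_injective

theorem range_incl_mono {A A' : Subalgebra k K} (h : A ≤ A') :
    (incl A R).range ≤ (incl A' R).range := by
  rintro _ ⟨x, rfl⟩
  refine ⟨Algebra.TensorProduct.map (Subalgebra.inclusion h) (AlgHom.id k R) x, ?_⟩
  induction x using TensorProduct.induction_on with
  | zero => simp
  | tmul a r => rfl
  | add x y hx hy => simp only [map_add, hx, hy]

theorem exists_fg_mem_range (x : K ⊗[k] R) :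
    ∃ A : Subalgebra k K, A.FG ∧ x ∈ (incl A R).range := by
  induction x using TensorProduct.induction_on with
  | zero => exact ⟨⊥, Subalgebra.fg_bot, zero_mem _⟩
  | tmul c r =>
    refine ⟨Algebra.adjoin k {c}, ?_, ?_⟩
    · have := Subalgebra.fg_adjoin_finset (R := k) ({c} : Finset K)
      simpa using this
    · exact ⟨(⟨c, Algebra.subset_adjoin (Set.mem_singleton c)⟩ : Algebra.adjoin k {c}) ⊗ₜ r, rfl⟩
  | add x y hx hy =>
    obtain ⟨A, hA, hxA⟩ := hx
    obtain ⟨B, hB, hyB⟩ := hy
    exact ⟨A ⊔ B, hA.sup hB, add_mem (range_incl_mono le_sup_left hxA)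
      (range_incl_mono le_sup_right hyB)⟩

theorem exists_fg_mem_range₂ (x y : K ⊗[k] R) :
    ∃ A : Subalgebra k K, A.FG ∧ x ∈ (incl A R).range ∧ y ∈ (incl A R).range := by
  obtain ⟨A, hA, hxA⟩ := exists_fg_mem_range x
  obtain ⟨B, hB, hyB⟩ := exists_fg_mem_range y
  exact ⟨A ⊔ B, hA.sup hB, range_incl_mono le_sup_left hxA, range_incl_mono le_sup_right hyB⟩

end fg

section ev

variable {A R : Type u} [CommRing A] [CommRing R] [Algebra k A] [Algebra k R]

/-- A maximal ideal of a finite type algebra over an algebraically closed field is the kernel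
of a `k`-point. -/
theorem exists_algHom_ker_eq [IsAlgClosed k] [Algebra.FiniteType k A] (m : Ideal A)
    [m.IsMaximal] : ∃ χ : A →ₐ[k] k, ∀ a, χ a = 0 ↔ a ∈ m := by
  let _ : Field (A ⧸ m) := Ideal.Quotient.field m
  have : Module.Finite k (A ⧸ m) := finite_of_finite_type_of_isJacobsonRing k (A ⧸ m)
  have : Algebra.IsIntegral k (A ⧸ m) := Algebra.IsIntegral.of_finite k (A ⧸ m)
  have hbij : Bijective (algebraMap k (A ⧸ m)) := IsAlgClosed.algebraMap_bijective_of_isIntegral
  let e : k ≃ₐ[k] (A ⧸ m) := AlgEquiv.ofBijective (Algebra.ofId k (A ⧸ m)) hbij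
  refine ⟨(e.symm : (A ⧸ m) →ₐ[k] k).comp (Ideal.Quotient.mkₐ k m), fun a => ?_⟩
  simp only [AlgHom.comp_apply, Ideal.Quotient.mkₐ_eq_mk]
  show e.symm (Ideal.Quotient.mk m a) = 0 ↔ a ∈ m
  rw [EmbeddingLike.map_eq_zero_iff, Ideal.Quotient.eq_zero_iff_mem]

/-- Evaluation at a `k`-point of `A`. -/
noncomputable def ev (χ : A →ₐ[k] k) (R : Type u) [CommRing R] [Algebra k R] :
    A ⊗[k] R →ₐ[k] R :=
  Algebra.TensorProduct.lift ((Algebra.ofId k R).comp χ) (AlgHom.id k R)
    (fun _ _ => Commute.all _ _)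

@[simp]
theorem ev_tmul (χ : A →ₐ[k] k) (a : A) (r : R) :
    ev χ R (a ⊗ₜ r) = algebraMap k R (χ a) * r := by
  simp [ev]

theorem sub_tmul_ev_mem (χ : A →ₐ[k] k) (Q : Ideal (A ⊗[k] R))
    (hQ : ∀ a, χ a = 0 → a ⊗ₜ[k] (1 : R) ∈ Q) (x : A ⊗[k] R) :
    x - (1 : A) ⊗ₜ[k] (ev χ R x) ∈ Q := by
  induction x using TensorProduct.induction_on with
  | zero => simp
  | tmul a r =>
    have h1 : a ⊗ₜ[k] r - (1 : A) ⊗ₜ[k] (ev χ R (a ⊗ₜ r)) =
        ((a - algebraMap k A (χ a)) ⊗ₜ[k] (1 : R)) * ((1 : A) ⊗ₜ[k] r) := by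
      rw [ev_tmul, Algebra.TensorProduct.tmul_mul_tmul, mul_one, one_mul, TensorProduct.sub_tmul,
        ← Algebra.smul_def, TensorProduct.tmul_smul, TensorProduct.smul_tmul',
        Algebra.algebraMap_eq_smul_one]
    rw [h1]
    apply Ideal.mul_mem_right
    apply hQ
    rw [map_sub, AlgHom.commutes, Algebra.algebraMap_self_apply, sub_self]
  | add x y hx hy =>
    have : x + y - (1 : A) ⊗ₜ[k] (ev χ R (x + y)) =
        (x - (1 : A) ⊗ₜ[k] (ev χ R x)) + (y - (1 : A) ⊗ₜ[k] (ev χ R y)) := by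
      rw [map_add, TensorProduct.tmul_add]; ring
    rw [this]
    exact Q.add_mem hx hy

end ev


section key

variable [IsAlgClosed k]

omit [IsAlgClosed k] in
theorem exists_isMaximal_mem_of_isOpen {A : Type u} [CommRing A] [Algebra k A]
    [Algebra.FiniteType k A] (U : Set (PrimeSpectrum A)) (hU : IsOpen U) (hne : U.Nonempty) :
    ∃ m : PrimeSpectrum A, m ∈ U ∧ m.asIdeal.IsMaximal := by
  have : IsJacobsonRing A := isJacobsonRing_of_finiteType (A := k)
  have : JacobsonSpace (PrimeSpectrum A) := PrimeSpectrum.isJacobsonRing_iff_jacobsonSpace.mp ‹_›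
  obtain ⟨x, hxU, hx⟩ := nonempty_inter_closedPoints hne hU.isLocallyClosed
  refine ⟨x, hxU, ?_⟩
  rw [mem_closedPoints_iff] at hx
  exact (PrimeSpectrum.isClosed_singleton_iff_isMaximal x).mp hx

variable {A R : Type u} [CommRing A] [CommRing R] [Algebra k A] [Algebra k R]

omit [IsAlgClosed k] in
theorem not_isNilpotent_ev (χ : A →ₐ[k] k) (f : A ⊗[k] R) (Q : Ideal (A ⊗[k] R)) [Q.IsPrime]
    (hf : f ∉ Q) (hQ : ∀ a, χ a = 0 → a ⊗ₜ[k] (1 : R) ∈ Q) : ¬ IsNilpotent (ev χ R f) := by
  intro hn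
  have h1 := sub_tmul_ev_mem χ Q hQ f
  have h2 : IsNilpotent ((1 : A) ⊗ₜ[k] (ev χ R f)) :=
    hn.map (Algebra.TensorProduct.includeRight (R := k) (A := A) (B := R))
  obtain ⟨n, hn2⟩ := h2
  have h3 : (1 : A) ⊗ₜ[k] (ev χ R f) ∈ Q :=
    Ideal.IsPrime.mem_of_pow_mem ‹_› n (hn2 ▸ Q.zero_mem)
  apply hf
  have : f = (f - (1 : A) ⊗ₜ[k] (ev χ R f)) + (1 : A) ⊗ₜ[k] (ev χ R f) := by ring
  rw [this]
  exact Q.add_mem h1 h3

theorem exists_ev_not_isNilpotent₂ [Algebra.FiniteType k A] [IsDomain A] (f g : A ⊗[k] R)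
    (hf : ¬ IsNilpotent f) (hg : ¬ IsNilpotent g) :
    ∃ χ : A →ₐ[k] k, ¬ IsNilpotent (ev χ R f) ∧ ¬ IsNilpotent (ev χ R g) := by
  have hopen := PrimeSpectrum.isOpenMap_comap_algebraMap_tensorProduct_of_field
    (K := k) (A := A) (B := R)
  have hU := hopen _ (PrimeSpectrum.basicOpen f).isOpen
  have hV := hopen _ (PrimeSpectrum.basicOpen g).isOpen
  have hne : ∀ h : A ⊗[k] R, ¬ IsNilpotent h →
      (PrimeSpectrum.comap (algebraMap A (A ⊗[k] R)) ''
        (PrimeSpectrum.basicOpen h : Set (PrimeSpectrum (A ⊗[k] R)))).Nonempty := by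
    intro h hh
    rw [Set.image_nonempty]
    by_contra hemp
    rw [Set.not_nonempty_iff_eq_empty] at hemp
    apply hh
    rw [← PrimeSpectrum.basicOpen_eq_bot_iff]
    exact TopologicalSpace.Opens.ext hemp
  obtain ⟨m, ⟨hmU, hmV⟩, hmax⟩ := exists_isMaximal_mem_of_isOpen (k := k) _ (hU.inter hV)
    (nonempty_preirreducible_inter hU hV (hne f hf) (hne g hg))
  obtain ⟨χ, hχ⟩ := exists_algHom_ker_eq (k := k) m.asIdeal
  refine ⟨χ, ?_, ?_⟩
  · obtain ⟨Q, hQf, hQm⟩ := hmU
    refine not_isNilpotent_ev χ f Q.asIdeal hQf ?_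
    intro a ha
    have : a ∈ (PrimeSpectrum.comap (algebraMap A (A ⊗[k] R)) Q).asIdeal := by
      rw [hQm]; exact (hχ a).mp ha
    exact this
  · obtain ⟨Q, hQg, hQm⟩ := hmV
    refine not_isNilpotent_ev χ g Q.asIdeal hQg ?_
    intro a ha
    have : a ∈ (PrimeSpectrum.comap (algebraMap A (A ⊗[k] R)) Q).asIdeal := by
      rw [hQm]; exact (hχ a).mp ha
    exact this

variable (K : Type u) [Field K] [Algebra k K] (R)

omit [IsAlgClosed k] in
theorem nontrivial_tensor [Nontrivial R] : Nontrivial (K ⊗[k] R) :=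
  Algebra.TensorProduct.nontrivial_of_algebraMap_injective_of_flat_left k K R
    (algebraMap k R).injective

/-- Over an algebraically closed field, extending scalars to a field extension preserves
irreducibility of the spectrum. -/
theorem isPrime_nilradical_tensor (hR : (nilradical R).IsPrime) :
    (nilradical (K ⊗[k] R)).IsPrime := by
  have hnt : Nontrivial R := by
    by_contra h
    rw [not_nontrivial_iff_subsingleton] at h
    exact hR.ne_top (Ideal.eq_top_iff_one _ |>.mpr (by rw [Subsingleton.elim (1 : R) 0]; exact zero_mem _))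
  have := nontrivial_tensor (k := k) R K
  rw [Ideal.isPrime_iff]
  refine ⟨?_, ?_⟩
  · rw [Ideal.ne_top_iff_one, mem_nilradical]
    exact not_isNilpotent_one
  · intro x y hxy
    by_contra hcon
    push Not at hcon
    obtain ⟨hx, hy⟩ := hcon
    rw [mem_nilradical] at hx hy hxy
    obtain ⟨A, hA, ⟨x', rfl⟩, ⟨y', rfl⟩⟩ := exists_fg_mem_range₂ x y
    have : Algebra.FiniteType k A := ⟨A.fg_top.mpr hA⟩
    have hx' : ¬ IsNilpotent x' := fun h => hx (h.map (incl A R))
    have hy' : ¬ IsNilpotent y' := fun h => hy (h.map (incl A R))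
    obtain ⟨χ, h1, h2⟩ := exists_ev_not_isNilpotent₂ (k := k) x' y' hx' hy'
    have hxy' : IsNilpotent (x' * y') := by
      rw [← map_mul] at hxy
      exact (IsNilpotent.map_iff (incl_injective A)).mp hxy
    have h3 : IsNilpotent (ev χ R x' * ev χ R y') := by
      rw [← map_mul]; exact hxy'.map (ev χ R)
    rcases hR.mem_or_mem (mem_nilradical.mpr h3) with h | h
    · exact h1 (mem_nilradical.mp h)
    · exact h2 (mem_nilradical.mp h)

theorem irreducibleSpace_tensor [IrreducibleSpace (PrimeSpectrum R)] :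
    IrreducibleSpace (PrimeSpectrum (K ⊗[k] R)) := by
  rw [PrimeSpectrum.irreducibleSpace_iff_isPrime_nilradical] at *
  exact isPrime_nilradical_tensor R K ‹_›

/-- Over an algebraically closed field, extending scalars to a field extension preserves
connectedness of the spectrum. -/
theorem connectedSpace_tensor [ConnectedSpace (PrimeSpectrum R)] :
    ConnectedSpace (PrimeSpectrum (K ⊗[k] R)) := by
  have hR := (connectedSpace_primeSpectrum_iff (A := R)).mp ‹_›
  obtain ⟨hnt, hid⟩ := hR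
  rw [connectedSpace_primeSpectrum_iff]
  refine ⟨nontrivial_tensor (k := k) R K, ?_⟩
  intro e he
  by_contra hcon
  push Not at hcon
  obtain ⟨h0, h1⟩ := hcon
  obtain ⟨A, hA, ⟨e', rfl⟩⟩ := exists_fg_mem_range e
  have : Algebra.FiniteType k A := ⟨A.fg_top.mpr hA⟩
  have he' : IsIdempotentElem e' := by
    apply incl_injective A
    show incl A R (e' * e') = incl A R e'
    rw [map_mul]
    exact he
  have hn0 : ¬ IsNilpotent e' := by
    intro hn
    apply h0
    rw [he'.eq_zero_of_isNilpotent hn, map_zero]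
  have hn1 : ¬ IsNilpotent (1 - e') := by
    intro hn
    apply h1
    have := he'.one_sub.eq_zero_of_isNilpotent hn
    rw [sub_eq_zero] at this
    rw [← this, map_one]
  obtain ⟨χ, h2, h3⟩ := exists_ev_not_isNilpotent₂ (k := k) e' (1 - e') hn0 hn1
  rcases hid (ev χ R e') (he'.map (ev χ R)) with h | h
  · exact h2 (h ▸ IsNilpotent.zero)
  · apply h3
    rw [map_sub, map_one, h, sub_self]
    exact IsNilpotent.zero

end key

end Groth.Agent.Helper14.AlgClosedTensor
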