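import Mathlib
import Groth.Prelude.Def_Algz

/-!
# The distance function `δ_Z`: basic computations
-/

namespace Groth.Agent.Helper14.DeltaZ
universe u
open TopologicalSpace Algz

variable {Y : Type u} [TopologicalSpace Y]

theorem codimPt_congr {w w' v v' : Y} (hw : w = w') (hv : v = v') (h : w ⤳ v) (h' : w' ⤳ v') :
    codimPt w v h = codimPt w' v' h' := by
  subst hw; subst hv; rfl

theorem codimPt_self (v : Y) (h : v ⤳ v) : codimPt v v h = 0 := by
  unfold codimPt
  rw [Order.height_eq_zero]
  intro b _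
  exact b.2

theorem codimPt_mono {w v v' : Y} (h : w ⤳ v) (hv : v ⤳ v') :
    codimPt w v h ≤ codimPt w v' (h.trans hv) := by
  unfold codimPt
  have hle : Specialization.toEquiv v' ≤ Specialization.toEquiv v :=
    Specialization.toEquiv_le_toEquiv.mpr hv
  let f : Set.Ici (Specialization.toEquiv v) → Set.Ici (Specialization.toEquiv v') :=
    fun a => ⟨a.1, le_trans hle a.2⟩
  have hf : StrictMono f := fun a b hab => hab
  exact Order.height_le_height_apply_of_strictMono f hf _

section T0
variable [T0Space Y]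

theorem eq_of_codimPt_eq_zero {w v : Y} (h : w ⤳ v) (h0 : codimPt w v h = 0) : w = v := by
  unfold codimPt at h0
  rw [Order.height_eq_zero] at h0
  have h1 : (⟨Specialization.toEquiv v, Set.mem_Ici.mpr le_rfl⟩ :
      Set.Ici (Specialization.toEquiv v)) ≤
      ⟨Specialization.toEquiv w, Specialization.toEquiv_le_toEquiv.mpr h⟩ :=
    Specialization.toEquiv_le_toEquiv.mpr h
  have h2 := h0 h1
  have h3 : v ⤳ w := Specialization.toEquiv_le_toEquiv.mp h2
  exact (h.antisymm h3).eq

theorem one_le_codimPt {w v : Y} (h : w ⤳ v) (hne : w ≠ v) : 1 ≤ codimPt w v h := by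
  rw [Order.one_le_iff_ne_zero]
  exact fun h0 => hne (eq_of_codimPt_eq_zero h h0)

omit [T0Space Y] in
theorem codimPt_le_one_of_immediate {w v : Y} (h : w ⤳ v)
    (himm : ∀ z : Y, w ⤳ z → z ⤳ v → z = w ∨ z = v) : codimPt w v h ≤ 1 := by
  unfold codimPt
  have : ((1 : ℕ) : ℕ∞) = 1 := rfl
  rw [← this, Order.height_le_coe_iff]
  intro a ha
  have h1 : Specialization.ofEquiv a.1 ⤳ v := Specialization.toEquiv_le_toEquiv.mp a.2
  have h2 : w ⤳ Specialization.ofEquiv a.1 := ha.le
  have hlt : Order.height a = 0 := by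
    rw [Order.height_eq_zero]
    rcases himm _ h2 h1 with e | e
    · exfalso
      have : a = ⟨Specialization.toEquiv w, Specialization.toEquiv_le_toEquiv.mpr h⟩ :=
        Subtype.ext (congrArg Specialization.toEquiv e)
      exact ha.ne this
    · intro b _
      have : a = ⟨Specialization.toEquiv v, Set.mem_Ici.mpr le_rfl⟩ :=
        Subtype.ext (congrArg Specialization.toEquiv e)
      rw [this]
      exact b.2
  rw [hlt]
  exact_mod_cast zero_lt_one

end T0

/-! ### Sums -/

variable {Z : Set Y} {y : Y} {k : ℕ} (S : DSystem Z y k)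

/-- the `c`-sum from `i` on. -/
noncomputable def csum (i : Fin (k + 1)) : ℕ∞ :=
  ∑ j ∈ Finset.univ.filter (fun j : Fin (k + 1) => i ≤ j), S.c j

/-- the `b`-sum from `i` on. -/
noncomputable def bsum (i : Fin (k + 1)) : ℕ∞ :=
  ∑ j ∈ Finset.univ.filter (fun j : Fin k => i.val ≤ j.val), S.b j

theorem delta_eq : S.delta = (k : ℕ∞) + Finset.univ.sup (fun i => csum S i - bsum S i) := rfl

theorem csum_eq (i : Fin (k + 1)) :
    csum S i = (∑ j : Fin k, if i.val ≤ j.val then S.c j.castSucc else 0) + S.c (Fin.last k) := by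
  unfold csum
  rw [Finset.sum_filter, Fin.sum_univ_castSucc]
  have h1 : ∀ j : Fin k, (if i ≤ j.castSucc then S.c j.castSucc else 0) =
      (if i.val ≤ j.val then S.c j.castSucc else 0) := by
    intro j
    simp [Fin.le_def]
  have h2 : (if i ≤ Fin.last k then S.c (Fin.last k) else 0) = S.c (Fin.last k) := by
    simp [Fin.le_last]
  rw [h2, Finset.sum_congr rfl (fun j _ => h1 j)]

theorem bsum_eq (i : Fin (k + 1)) :
    bsum S i = ∑ j : Fin k, if i.val ≤ j.val then S.b j else 0 := by
  unfold bsum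
  rw [Finset.sum_filter]

theorem delta_le (m : ℕ∞) (h : ∀ i, csum S i ≤ bsum S i + m) : S.delta ≤ k + m := by
  rw [delta_eq]
  gcongr
  apply Finset.sup_le
  intro i _
  rw [tsub_le_iff_left]
  exact h i

theorem deltaZ_le : deltaZ Z y ≤ S.delta := iInf_le_of_le k (iInf_le _ S)

theorem le_delta (i : Fin (k + 1)) : (k : ℕ∞) + (csum S i - bsum S i) ≤ S.delta := by
  rw [delta_eq]
  gcongr
  exact Finset.le_sup (f := fun i => csum S i - bsum S i) (Finset.mem_univ i)

end Groth.Agent.Helper14.DeltaZ
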