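import Mathlib
import Groth.Prelude.Def_Algz
import Groth.Agent.Lib.Helper14.DeltaZ

/-!
# `codimPt` and the local ring
-/

namespace Groth.Agent.Helper14.DeltaZ
universe u
open TopologicalSpace Algz AlgebraicGeometry

/-- `dim R/P` is the coheight of `P`. -/
theorem ringKrullDim_quotient_eq_coheight {R : Type*} [CommRing R] (P : PrimeSpectrum R) :
    ringKrullDim (R ⧸ P.asIdeal) = (Order.coheight P : WithBot ℕ∞) := by
  rw [ringKrullDim_quotient, Order.coheight_eq_krullDim_Ici]
  have : PrimeSpectrum.zeroLocus (P.asIdeal : Set R) = Set.Ici P := by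
    ext Q
    rw [PrimeSpectrum.mem_zeroLocus, Set.mem_Ici]
    rfl
  rw [this]

/-- an injective specialization-reflecting map bounds `codimPt` by the coheight. -/
theorem codimPt_le_coheight {Y : Type u} [TopologicalSpace Y] {T : Type*} [PartialOrder T]
    (g : T → Y) (hg : ∀ a b : T, g a ⤳ g b ↔ a ≤ b)
    (z : Y) (hz : ∀ y : Y, y ⤳ z → y ∈ Set.range g) (y : Y) (h : y ⤳ z) (P : T) (hP : g P = y) :
    codimPt y z h ≤ Order.coheight P := by
  unfold codimPt
  classical
  let f : Set.Ici (Specialization.toEquiv z) → Tᵒᵈ := fun a =>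
    OrderDual.toDual (hz (Specialization.ofEquiv a.1) (Specialization.toEquiv_le_toEquiv.mp a.2)).choose
  have hf : ∀ a, g (OrderDual.ofDual (f a)) = Specialization.ofEquiv a.1 := fun a =>
    (hz (Specialization.ofEquiv a.1) (Specialization.toEquiv_le_toEquiv.mp a.2)).choose_spec
  have hginj : Function.Injective g := by
    intro a b hab
    exact le_antisymm ((hg a b).mp (specializes_of_eq hab)) ((hg b a).mp (specializes_of_eq hab.symm))
  have hmono : StrictMono f := by
    intro a b hab
    have h1 : Specialization.ofEquiv b.1 ⤳ Specialization.ofEquiv a.1 := hab.le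
    rw [← hf a, ← hf b, hg] at h1
    have h2 : f a ≠ f b := by
      intro e
      have e' : Specialization.ofEquiv b.1 = Specialization.ofEquiv a.1 := by
        rw [← hf a, ← hf b, e]
      exact hab.ne (Subtype.ext (Specialization.ofEquiv.injective e'.symm))
    exact lt_of_le_of_ne h1 h2
  have := Order.height_le_height_apply_of_strictMono f hmono
    ⟨Specialization.toEquiv y, Specialization.toEquiv_le_toEquiv.mpr h⟩
  refine le_trans this ?_
  have e : f ⟨Specialization.toEquiv y, Specialization.toEquiv_le_toEquiv.mpr h⟩ =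
      OrderDual.toDual P := by
    have h1 := hf ⟨Specialization.toEquiv y, Specialization.toEquiv_le_toEquiv.mpr h⟩
    have h2 : g (OrderDual.ofDual (f ⟨Specialization.toEquiv y,
        Specialization.toEquiv_le_toEquiv.mpr h⟩)) = g P := by
      rw [h1, hP]; rfl
    exact congrArg OrderDual.toDual (hginj h2)
  rw [e]
  exact le_of_eq (Order.height_toDual P)

/-- `codimPt y z ≤ dim O_{Y,z}/P` for `P` the prime of `y`. -/
theorem codimPt_le_ringKrullDim_stalk (Y : Scheme.{u}) (y z : Y) (h : y ⤳ z)
    (P : PrimeSpectrum (Y.presheaf.stalk z)) (hP : (Y.fromSpecStalk z).base P = y) :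
    ((codimPt y z h : ℕ∞) : WithBot ℕ∞) ≤ ringKrullDim (Y.presheaf.stalk z ⧸ P.asIdeal) := by
  rw [ringKrullDim_quotient_eq_coheight]
  have hemb := (Y.fromSpecStalk z).isEmbedding
  have := codimPt_le_coheight (fun Q : PrimeSpectrum (Y.presheaf.stalk z) => (Y.fromSpecStalk z).base Q)
    (fun a b => by
      rw [PrimeSpectrum.le_iff_specializes]
      exact hemb.isInducing.specializes_iff)
    z (fun y' hy' => by
      have : y' ∈ Set.range (Y.fromSpecStalk z) := by
        rw [Scheme.range_fromSpecStalk]; exact hy'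
      exact this) y h P hP
  exact_mod_cast this

end Groth.Agent.Helper14.DeltaZ
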