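import Mathlib
import Groth.Agent.S4730

/-!
# The dimension inequality (Matsumura 15.1) for finite type extensions of Noetherian domains
-/

namespace Groth.Agent.Helper14.DimIneq

universe u

open Polynomial Ideal

/-- `comap` along a surjection is strictly monotone on prime spectra. -/
theorem comap_strictMono {A B : Type*} [CommRing A] [CommRing B] (f : A →+* B)
    (hf : Function.Surjective f) : StrictMono (PrimeSpectrum.comap f) :=
  Monotone.strictMono_of_injective
    (fun _ _ h => Ideal.comap_mono h) (PrimeSpectrum.comap_injective_of_surjective f hf)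

/-- heights can only grow along the comap of a surjection. -/
theorem height_le_height_comap {A B : Type*} [CommRing A] [CommRing B] (f : A →+* B)
    (hf : Function.Surjective f) (q : Ideal B) [hq : q.IsPrime] :
    q.height ≤ (q.comap f).height := by
  have h1 := Order.height_le_height_apply_of_strictMono _ (comap_strictMono f hf)
    (⟨q, hq⟩ : PrimeSpectrum B)
  rw [← PrimeSpectrum.height_eq_orderHeight, ← PrimeSpectrum.height_eq_orderHeight] at h1
  exact h1

/-- if the kernel is nonzero (in a domain), heights grow by at least one. -/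
theorem height_add_one_le_height_comap {A B : Type*} [CommRing A] [IsDomain A] [CommRing B]
    [IsNoetherianRing B]
    (f : A →+* B) (hf : Function.Surjective f) (hker : RingHom.ker f ≠ ⊥)
    (q : Ideal B) [hq : q.IsPrime] :
    q.height + 1 ≤ (q.comap f).height := by
  obtain ⟨l, hlast, hlen⟩ := q.exists_ltSeries_length_eq_height
  let l' : LTSeries (PrimeSpectrum A) := l.map (PrimeSpectrum.comap f) (comap_strictMono f hf)
  have hhead : (⟨⊥, Ideal.isPrime_bot⟩ : PrimeSpectrum A) < l'.head := by
    rw [LTSeries.head_map]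
    refine lt_of_le_of_ne (fun x hx => ?_) ?_
    · rw [(Ideal.mem_bot).mp hx]; exact zero_mem _
    · intro h
      apply hker
      rw [eq_bot_iff]
      intro x hx
      have h2 : x ∈ (PrimeSpectrum.comap f l.head).asIdeal := by
        change f x ∈ l.head.asIdeal
        rw [(RingHom.mem_ker).mp hx]; exact zero_mem _
      rw [← h] at h2
      exact h2
  let l'' : LTSeries (PrimeSpectrum A) := l'.cons ⟨⊥, Ideal.isPrime_bot⟩ hhead
  have hlast'' : l''.last = ⟨q.comap f, inferInstance⟩ := by
    rw [RelSeries.last_cons, LTSeries.last_map, hlast]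
    rfl
  have h1 := Order.length_le_height_last (p := l'')
  rw [hlast'', ← PrimeSpectrum.height_eq_orderHeight] at h1
  have h2 : l''.length = l.length + 1 := by simp [l'', l']
  rw [h2] at h1
  rw [← hlen]
  exact_mod_cast h1


/-- the dimension inequality for an extension generated by one element. -/
theorem one_gen (R : Type u) [CommRing R] [IsDomain R] [IsNoetherianRing R]
    (S : Type u) [CommRing S] [IsDomain S] [Algebra R S] [FaithfulSMul R S]
    (x : S) (hx : Algebra.adjoin R {x} = ⊤) (p : Ideal R) [p.IsPrime] (q : Ideal S) [q.IsPrime]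
    [q.LiesOver p] :
    (q.height : Cardinal.{u}) + Algebra.trdeg (R ⧸ p) (S ⧸ q) ≤
      (p.height : Cardinal.{u}) + Algebra.trdeg R S := by
  classical
  let ev : R[X] →ₐ[R] S := aeval x
  have hev : Function.Surjective ev := by
    rw [← AlgHom.range_eq_top, ← Algebra.adjoin_singleton_eq_range_aeval]; exact hx
  haveI : IsNoetherianRing S := isNoetherianRing_of_surjective _ _ ev.toRingHom hev
  let q' : Ideal R[X] := q.comap ev.toRingHom
  haveI hq' : q'.IsPrime := Ideal.comap_isPrime _ _
  haveI hlo : q'.LiesOver p := by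
    constructor
    ext r
    rw [Ideal.mem_comap, (‹q.LiesOver p›).over, Ideal.mem_comap]
    change _ ↔ ev (algebraMap R R[X] r) ∈ q
    rw [AlgHom.commutes]
  have key := Groth.Agent.S4730.result R p q'
  -- the induced map on quotients
  let φ0 : (R[X] ⧸ q') →+* (S ⧸ q) := Ideal.quotientMap q ev.toRingHom le_rfl
  have hφ0inj : Function.Injective φ0 := Ideal.quotientMap_injective
  have hφ0surj : Function.Surjective φ0 := Ideal.quotientMap_surjective hev
  let φ : (R[X] ⧸ q') →ₐ[R ⧸ p] (S ⧸ q) :=
    { φ0 with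
      commutes' := by
        intro r
        obtain ⟨r, rfl⟩ := Ideal.Quotient.mk_surjective r
        change φ0 (algebraMap (R ⧸ p) (R[X] ⧸ q') (Ideal.Quotient.mk p r)) =
          algebraMap (R ⧸ p) (S ⧸ q) (Ideal.Quotient.mk p r)
        rw [Ideal.Quotient.algebraMap_mk_of_liesOver, Ideal.Quotient.algebraMap_mk_of_liesOver]
        change Ideal.Quotient.mk q (ev (algebraMap R R[X] r)) = _
        rw [AlgHom.commutes] }
  have htr : Algebra.trdeg (R ⧸ p) (S ⧸ q) = Algebra.trdeg (R ⧸ p) (R[X] ⧸ q') :=
    ((AlgEquiv.ofBijective φ ⟨hφ0inj, hφ0surj⟩).trdeg_eq).symm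
  rw [htr]
  by_cases hker : RingHom.ker ev.toRingHom = ⊥
  · -- `ev` is an isomorphism
    have hinj : Function.Injective ev := (RingHom.injective_iff_ker_eq_bot ev.toRingHom).mpr hker
    have h1 : q.height ≤ q'.height := height_le_height_comap ev.toRingHom hev q
    have h2 : Algebra.trdeg R S = 1 := by
      rw [← (AlgEquiv.ofBijective ev ⟨hinj, hev⟩).trdeg_eq, Polynomial.trdeg_of_isDomain]
    rw [h2, key]
    gcongr
  · have h1 : q.height + 1 ≤ q'.height := height_add_one_le_height_comap ev.toRingHom hev hker q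
    have h3 : ((q.height + 1 : ℕ∞) : Cardinal.{u}) ≤ (q'.height : Cardinal.{u}) := by
      exact_mod_cast h1
    have h4 : (q.height : Cardinal.{u}) + Algebra.trdeg (R ⧸ p) (R[X] ⧸ q') + 1 ≤
        (p.height : Cardinal.{u}) + 1 := by
      rw [key]
      calc (q.height : Cardinal.{u}) + Algebra.trdeg (R ⧸ p) (R[X] ⧸ q') + 1
          = ((q.height + 1 : ℕ∞) : Cardinal.{u}) + Algebra.trdeg (R ⧸ p) (R[X] ⧸ q') := by
            push_cast; ring
        _ ≤ _ := by gcongr
    have h5 := (Cardinal.add_le_add_iff_of_lt_aleph0 Cardinal.one_lt_aleph0).mp h4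
    exact h5.trans (le_self_add)


/-- the dimension inequality, by induction on the number of generators. -/
theorem fin_gen (R : Type u) [CommRing R] [IsDomain R] [IsNoetherianRing R]
    (p : Ideal R) [p.IsPrime] :
    ∀ (n : ℕ) (S : Type u) [CommRing S] [IsDomain S] [Algebra R S] [FaithfulSMul R S]
      (x : Fin n → S) (_ : Algebra.adjoin R (Set.range x) = ⊤) (q : Ideal S) [q.IsPrime]
      [q.LiesOver p],
      (q.height : Cardinal.{u}) + Algebra.trdeg (R ⧸ p) (S ⧸ q) ≤
        (p.height : Cardinal.{u}) + Algebra.trdeg R S := by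
  intro n
  induction n with
  | zero =>
    intro S _ _ _ _ x hx q _ _
    refine one_gen R S 1 ?_ p q
    rw [eq_top_iff, ← hx]
    refine Algebra.adjoin_le ?_
    rintro _ ⟨i, rfl⟩
    exact i.elim0
  | succ n ih =>
    intro S _ _ _ _ x hx q _ _
    let S' : Subalgebra R S := Algebra.adjoin R (Set.range (x ∘ Fin.castSucc))
    have hinjRS : Function.Injective (algebraMap R S) := FaithfulSMul.algebraMap_injective R S
    haveI : FaithfulSMul R S' := by
      rw [faithfulSMul_iff_algebraMap_injective]
      intro a b hab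
      apply hinjRS
      have := congrArg (algebraMap S' S) hab
      rwa [← IsScalarTower.algebraMap_apply, ← IsScalarTower.algebraMap_apply] at this
    haveI : FaithfulSMul S' S := by
      rw [faithfulSMul_iff_algebraMap_injective]
      exact Subtype.val_injective
    haveI : Algebra.FiniteType R S' := by
      rw [← Subalgebra.fg_iff_finiteType, Subalgebra.fg_def]
      exact ⟨_, Set.finite_range _, rfl⟩
    haveI : IsNoetherianRing S' := Algebra.FiniteType.isNoetherianRing R S'
    let x' : Fin n → S' := fun i => ⟨x (Fin.castSucc i), Algebra.subset_adjoin ⟨i, rfl⟩⟩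
    have hx' : Algebra.adjoin R (Set.range x') = ⊤ := by
      have h := Algebra.adjoin_adjoin_coe_preimage (R := R) (s := Set.range (x ∘ Fin.castSucc))
      have h2 : Set.range x' = ((↑) : S' → S) ⁻¹' (Set.range (x ∘ Fin.castSucc)) := by
        ext y
        constructor
        · rintro ⟨i, rfl⟩; exact ⟨i, rfl⟩
        · rintro ⟨i, hi⟩; exact ⟨i, Subtype.ext hi⟩
      rw [h2]; exact h
    let q'' : Ideal S' := q.under S'
    haveI : q''.IsPrime := inferInstance
    haveI : q.LiesOver q'' := inferInstance
    haveI : q''.LiesOver p := inferInstance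
    have h1 := ih S' x' hx' q''
    have hx1 : Algebra.adjoin S' {x (Fin.last n)} = ⊤ := by
      have h3 : Set.range x = Set.range (x ∘ Fin.castSucc) ∪ {x (Fin.last n)} := by
        ext y
        constructor
        · rintro ⟨i, rfl⟩
          refine Fin.lastCases ?_ (fun j => ?_) i
          · right; rfl
          · left; exact ⟨j, rfl⟩
        · rintro (⟨i, rfl⟩ | rfl)
          · exact ⟨_, rfl⟩
          · exact ⟨_, rfl⟩
      rw [h3, Algebra.adjoin_union_eq_adjoin_adjoin] at hx
      rw [eq_top_iff]
      intro y _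
      have : y ∈ (Algebra.adjoin S' {x (Fin.last n)}).restrictScalars R := by
        rw [hx]; trivial
      exact this
    have h2 := one_gen S' S (x (Fin.last n)) hx1 q'' q
    have t1 := _root_.trdeg_add_eq R S' (A := S)
    haveI : IsScalarTower (R ⧸ p) (S' ⧸ q'') (S ⧸ q) := by
      refine IsScalarTower.of_algebraMap_eq (fun r => ?_)
      obtain ⟨r, rfl⟩ := Ideal.Quotient.mk_surjective r
      rw [Ideal.Quotient.algebraMap_mk_of_liesOver, Ideal.Quotient.algebraMap_mk_of_liesOver,
        Ideal.Quotient.algebraMap_mk_of_liesOver, ← IsScalarTower.algebraMap_apply]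
    have t2 := _root_.trdeg_add_eq (R ⧸ p) (S' ⧸ q'') (A := S ⧸ q)
    rw [← t1, ← t2]
    calc (q.height : Cardinal.{u}) +
          (Algebra.trdeg (R ⧸ p) (S' ⧸ q'') + Algebra.trdeg (S' ⧸ q'') (S ⧸ q))
        = ((q.height : Cardinal.{u}) + Algebra.trdeg (S' ⧸ q'') (S ⧸ q)) +
          Algebra.trdeg (R ⧸ p) (S' ⧸ q'') := by ring
      _ ≤ ((q''.height : Cardinal.{u}) + Algebra.trdeg S' S) +
          Algebra.trdeg (R ⧸ p) (S' ⧸ q'') := by gcongr
      _ = ((q''.height : Cardinal.{u}) + Algebra.trdeg (R ⧸ p) (S' ⧸ q'')) +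
          Algebra.trdeg S' S := by ring
      _ ≤ ((p.height : Cardinal.{u}) + Algebra.trdeg R S') + Algebra.trdeg S' S := by gcongr
      _ = _ := by ring

/-- **The dimension inequality** (Matsumura 15.1). -/
theorem dimension_inequality (R : Type u) [CommRing R] [IsDomain R]
    [IsNoetherianRing R] (S : Type u) [CommRing S] [IsDomain S] [Algebra R S]
    [FaithfulSMul R S] [Algebra.FiniteType R S] (p : Ideal R) [p.IsPrime] (q : Ideal S) [q.IsPrime]
    [q.LiesOver p] :
    (q.height : Cardinal.{u}) + Algebra.trdeg (R ⧸ p) (S ⧸ q) ≤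
      (p.height : Cardinal.{u}) + Algebra.trdeg R S := by
  obtain ⟨s, hs⟩ := (‹Algebra.FiniteType R S›).out
  obtain ⟨n, ⟨e⟩⟩ := Finite.exists_equiv_fin (s : Set S)
  refine fin_gen R p n S (fun i => (e.symm i : S)) ?_ q
  rw [← hs]
  congr 1
  ext y
  constructor
  · rintro ⟨i, rfl⟩; exact (e.symm i).2
  · intro hy; exact ⟨e ⟨y, hy⟩, by simp⟩

end Groth.Agent.Helper14.DimIneq
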