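import Mathlib
import Groth.Agent.Lib.Helper14.DimIneq
import Groth.Agent.Lib.Helper7.CatDim

/-!
# The dimension formula (Matsumura 15.6) over universally catenary Noetherian domains
-/

namespace Groth.Agent.Helper14.DimFormula

universe u

open Polynomial Ideal Order Groth.Agent.Helper14

/-- in a catenary poset with a unique minimal element, a saturated chain starting at the
minimal element computes the height of its last element. -/
theorem length_eq_height_of_saturated {X : Type u} [PartialOrder X] (hX : IsCatPoset X)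
    (huniq : ∀ a b : X, IsMin a → IsMin b → a = b) (s : LTSeries X) (hmin : IsMin s.head)
    (hsat : ∀ i : Fin s.length, s (Fin.castSucc i) ⋖ s i.succ) (hfin : height s.last < ⊤) :
    (s.length : ℕ∞) = height s.last := by
  obtain ⟨n, hn⟩ := ENat.ne_top_iff_exists.mp hfin.ne
  obtain ⟨l, hl_last, hl_len⟩ := exists_series_of_height_eq_coe s.last hn.symm
  have hl1 : (l.length : ℕ∞) = height l.last := by rw [hl_len, hl_last, hn]
  have hminl := Helper7.CatDim.isMin_head_of_length_eq_height l hl1
  have := hX.2 s l (huniq _ _ hmin hminl) hl_last.symm hsat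
    (Helper7.CatDim.covBy_of_length_eq_height l hl1)
  rw [this, hl1, hl_last]

/-- in a catenary poset with a unique minimal element, heights are additive along saturated
chains. -/
theorem height_eq_add_length {X : Type u} [PartialOrder X] (hX : IsCatPoset X)
    (huniq : ∀ a b : X, IsMin a → IsMin b → a = b) (s : LTSeries X)
    (hsat : ∀ i : Fin s.length, s (Fin.castSucc i) ⋖ s i.succ) (hfin : height s.last < ⊤) :
    height s.last = height s.head + s.length := by
  have hfin0 : height s.head < ⊤ :=
    lt_of_le_of_lt (height_mono (LTSeries.head_le_last s)) hfin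
  obtain ⟨n, hn⟩ := ENat.ne_top_iff_exists.mp hfin0.ne
  obtain ⟨t, ht_last, ht_len⟩ := exists_series_of_height_eq_coe s.head hn.symm
  have ht1 : (t.length : ℕ∞) = height t.last := by rw [ht_len, ht_last, hn]
  have hsat' := Helper7.CatDim.smash_covBy t s ht_last
    (Helper7.CatDim.covBy_of_length_eq_height t ht1) hsat
  have key := length_eq_height_of_saturated hX huniq (t.smash s ht_last)
    (by rw [RelSeries.head_smash]; exact Helper7.CatDim.isMin_head_of_length_eq_height t ht1)
    hsat' (by rw [RelSeries.last_smash]; exact hfin)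
  rw [RelSeries.last_smash] at key
  rw [← key, ← hn]
  have h2 : (t.smash s ht_last).length = t.length + s.length := rfl
  rw [h2, ht_len]
  push_cast
  rfl

/-- In a Noetherian catenary domain `P`, if `φ : P → S` is a surjection onto a domain, then
`ht (φ⁻¹ q) = ht (ker φ) + ht q`. -/
theorem height_comap_eq_add {P S : Type u} [CommRing P] [IsDomain P] [IsNoetherianRing P]
    [CommRing S] [IsDomain S] (hcat : CAlg.IsCatenary P) (φ : P →+* S)
    (hφ : Function.Surjective φ) (q : Ideal S) [hq : q.IsPrime] :
    (q.comap φ).height = (RingHom.ker φ).height + q.height := by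
  haveI : IsNoetherianRing S := isNoetherianRing_of_surjective _ _ φ hφ
  obtain ⟨l, hlast, hlen⟩ := q.exists_ltSeries_length_eq_height
  have hl1 : (l.length : ℕ∞) = height l.last := by
    rw [hlen, hlast, ← PrimeSpectrum.height_eq_orderHeight]
  have hminl := Helper7.CatDim.isMin_head_of_length_eq_height l hl1
  have hsatl := Helper7.CatDim.covBy_of_length_eq_height l hl1
  have hhead : l.head.asIdeal = ⊥ := by
    have h1 : (⟨⊥, Ideal.isPrime_bot⟩ : PrimeSpectrum S) ≤ l.head := fun x hx => by
      rw [(Ideal.mem_bot).mp hx]; exact zero_mem _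
    have h2 := hminl h1
    exact le_antisymm h2 bot_le
  let e := specEmbOfSurjective φ hφ
  have he : (Set.range e).OrdConnected :=
    (isUpperSet_range_specEmbOfSurjective φ hφ).ordConnected
  let l' : LTSeries (PrimeSpectrum P) := l.map e e.strictMono
  have hsat' : ∀ i : Fin l'.length, l' (Fin.castSucc i) ⋖ l' i.succ :=
    fun i => (he.apply_covBy_apply_iff e).mpr (hsatl i)
  have huniq : ∀ a b : PrimeSpectrum P, IsMin a → IsMin b → a = b := by
    have hb : ∀ a : PrimeSpectrum P, IsMin a → a = ⟨⊥, Ideal.isPrime_bot⟩ := by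
      intro a ha
      have h1 : (⟨⊥, Ideal.isPrime_bot⟩ : PrimeSpectrum P) ≤ a := fun x hx => by
        rw [(Ideal.mem_bot).mp hx]; exact zero_mem _
      exact le_antisymm (ha h1) h1
    intro a b ha hb'
    rw [hb a ha, hb b hb']
  have hlast' : l'.last = ⟨q.comap φ, inferInstance⟩ := by
    rw [LTSeries.last_map, hlast]; rfl
  have hhead' : l'.head = ⟨RingHom.ker φ, RingHom.ker_isPrime φ⟩ := by
    rw [LTSeries.head_map]
    apply PrimeSpectrum.ext
    change l.head.asIdeal.comap φ = _
    rw [hhead]; rfl
  have hfin : height l'.last < ⊤ := by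
    rw [hlast', ← PrimeSpectrum.height_eq_orderHeight]
    exact Ideal.height_lt_top (Ideal.IsPrime.ne_top')
  have key := height_eq_add_length ((isCatenary_iff P).mp hcat) huniq l' hsat' hfin
  rw [hlast', hhead', ← PrimeSpectrum.height_eq_orderHeight,
    ← PrimeSpectrum.height_eq_orderHeight] at key
  rw [key, ← hlen]
  rfl


/-- the dimension formula for an extension generated by one element. -/
theorem one_gen_eq (R : Type u) [CommRing R] [IsDomain R] (hR : CAlg.IsUniversallyCatenary R)
    (S : Type u) [CommRing S] [IsDomain S] [Algebra R S] [FaithfulSMul R S]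
    (x : S) (hx : Algebra.adjoin R {x} = ⊤) (p : Ideal R) [p.IsPrime] (q : Ideal S) [q.IsPrime]
    [q.LiesOver p] :
    (q.height : Cardinal.{u}) + Algebra.trdeg (R ⧸ p) (S ⧸ q) =
      (p.height : Cardinal.{u}) + Algebra.trdeg R S := by
  classical
  haveI : IsNoetherianRing R := hR.1
  let ev : R[X] →ₐ[R] S := aeval x
  have hev : Function.Surjective ev := by
    rw [← AlgHom.range_eq_top, ← Algebra.adjoin_singleton_eq_range_aeval]; exact hx
  haveI : IsNoetherianRing S := isNoetherianRing_of_surjective _ _ ev.toRingHom hev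
  let q' : Ideal R[X] := q.comap ev.toRingHom
  haveI hq' : q'.IsPrime := Ideal.comap_isPrime _ _
  haveI hlo : q'.LiesOver p := by
    constructor
    ext r
    rw [Ideal.mem_comap, (‹q.LiesOver p›).over, Ideal.mem_comap]
    change _ ↔ ev (algebraMap R R[X] r) ∈ q
    rw [AlgHom.commutes]
  have key := Groth.Agent.S4730.result R p q'
  -- the induced map on quotients
  let φ0 : (R[X] ⧸ q') →+* (S ⧸ q) := Ideal.quotientMap q ev.toRingHom le_rfl
  have hφ0inj : Function.Injective φ0 := Ideal.quotientMap_injective
  have hφ0surj : Function.Surjective φ0 := Ideal.quotientMap_surjective hev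
  let φ : (R[X] ⧸ q') →ₐ[R ⧸ p] (S ⧸ q) :=
    { φ0 with
      commutes' := by
        intro r
        obtain ⟨r, rfl⟩ := Ideal.Quotient.mk_surjective r
        change φ0 (algebraMap (R ⧸ p) (R[X] ⧸ q') (Ideal.Quotient.mk p r)) =
          algebraMap (R ⧸ p) (S ⧸ q) (Ideal.Quotient.mk p r)
        rw [Ideal.Quotient.algebraMap_mk_of_liesOver, Ideal.Quotient.algebraMap_mk_of_liesOver]
        change Ideal.Quotient.mk q (ev (algebraMap R R[X] r)) = _
        rw [AlgHom.commutes] }
  have htr : Algebra.trdeg (R ⧸ p) (S ⧸ q) = Algebra.trdeg (R ⧸ p) (R[X] ⧸ q') :=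
    ((AlgEquiv.ofBijective φ ⟨hφ0inj, hφ0surj⟩).trdeg_eq).symm
  rw [htr]
  by_cases hker : RingHom.ker ev.toRingHom = ⊥
  · -- `ev` is an isomorphism
    have hinj : Function.Injective ev := (RingHom.injective_iff_ker_eq_bot ev.toRingHom).mpr hker
    have h1 : q'.height = q.height :=
      (RingEquiv.ofBijective ev.toRingHom ⟨hinj, hev⟩).height_comap q
    have h2 : Algebra.trdeg R S = 1 := by
      rw [← (AlgEquiv.ofBijective ev ⟨hinj, hev⟩).trdeg_eq, Polynomial.trdeg_of_isDomain]
    rw [h2, key, h1]
  · have hinjRS : Function.Injective (algebraMap R S) := FaithfulSMul.algebraMap_injective R S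
    haveI hkp : (RingHom.ker ev.toRingHom).IsPrime := RingHom.ker_isPrime _
    have hkht : (RingHom.ker ev.toRingHom).height = 1 := by
      refine le_antisymm ?_ ?_
      · refine Groth.Agent.Helper7.PolyHeight.height_le_one_of_comap_C_eq_bot R _ ?_
        rw [eq_bot_iff]
        intro r hr
        rw [Ideal.mem_comap, RingHom.mem_ker] at hr
        have h3 : algebraMap R S r = 0 := by
          have : ev (algebraMap R R[X] r) = 0 := hr
          rwa [AlgHom.commutes] at this
        rw [Ideal.mem_bot]
        exact hinjRS (by rw [h3, map_zero])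
      · rw [Order.one_le_iff_ne_zero, Ne, Ideal.height_eq_zero_iff_eq_bot]
        exact hker
    have h1 : q'.height = 1 + q.height := by
      have := height_comap_eq_add (hR.2 R[X] inferInstance) ev.toRingHom hev q
      rw [hkht] at this
      exact this
    have halg : Algebra.IsAlgebraic R S := by
      obtain ⟨f, hf, hf0⟩ : ∃ f ∈ RingHom.ker ev.toRingHom, f ≠ 0 := by
        by_contra hcon
        push Not at hcon
        exact hker (eq_bot_iff.mpr fun f hf => (Ideal.mem_bot).mpr (hcon f hf))
      have hxalg : IsAlgebraic R x := ⟨f, hf0, hf⟩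
      have hall := (Algebra.isAlgebraic_adjoin_singleton_iff (R := R)).mpr hxalg
      exact ⟨fun y => hall y (by rw [hx]; trivial)⟩
    have h2 : Algebra.trdeg R S = 0 := _root_.trdeg_eq_zero
    rw [h2, add_zero]
    have h3 : (q'.height : Cardinal.{u}) = 1 + (q.height : Cardinal.{u}) := by
      rw [h1]; push_cast; rfl
    rw [h3] at key
    have h4 : (q.height : Cardinal.{u}) + Algebra.trdeg (R ⧸ p) (R[X] ⧸ q') + 1 =
        (p.height : Cardinal.{u}) + 1 := by
      rw [key]; ring
    exact Cardinal.add_one_inj.mp h4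

/-- the dimension formula, by induction on the number of generators. -/
theorem fin_gen_eq :
    ∀ (n : ℕ) (R : Type u) [CommRing R] [IsDomain R] (_ : CAlg.IsUniversallyCatenary R)
      (p : Ideal R) [p.IsPrime]
      (S : Type u) [CommRing S] [IsDomain S] [Algebra R S] [FaithfulSMul R S]
      (x : Fin n → S) (_ : Algebra.adjoin R (Set.range x) = ⊤) (q : Ideal S) [q.IsPrime]
      [q.LiesOver p],
      (q.height : Cardinal.{u}) + Algebra.trdeg (R ⧸ p) (S ⧸ q) =
        (p.height : Cardinal.{u}) + Algebra.trdeg R S := by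
  intro n
  induction n with
  | zero =>
    intro R _ _ hR p _ S _ _ _ _ x hx q _ _
    refine one_gen_eq R hR S 1 ?_ p q
    rw [eq_top_iff, ← hx]
    refine Algebra.adjoin_le ?_
    rintro _ ⟨i, rfl⟩
    exact i.elim0
  | succ n ih =>
    intro R _ _ hR p _ S _ _ _ _ x hx q _ _
    haveI : IsNoetherianRing R := hR.1
    let S' : Subalgebra R S := Algebra.adjoin R (Set.range (x ∘ Fin.castSucc))
    have hinjRS : Function.Injective (algebraMap R S) := FaithfulSMul.algebraMap_injective R S
    haveI : FaithfulSMul R S' := by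
      rw [faithfulSMul_iff_algebraMap_injective]
      intro a b hab
      apply hinjRS
      have := congrArg (algebraMap S' S) hab
      rwa [← IsScalarTower.algebraMap_apply, ← IsScalarTower.algebraMap_apply] at this
    haveI : FaithfulSMul S' S := by
      rw [faithfulSMul_iff_algebraMap_injective]
      exact Subtype.val_injective
    haveI hftS' : Algebra.FiniteType R S' := by
      rw [← Subalgebra.fg_iff_finiteType, Subalgebra.fg_def]
      exact ⟨_, Set.finite_range _, rfl⟩
    haveI : IsNoetherianRing S' := Algebra.FiniteType.isNoetherianRing R S'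
    have hS'cat : CAlg.IsUniversallyCatenary S' := by
      refine ⟨inferInstance, ?_⟩
      intro T _ _ hT
      letI : Algebra R T := ((algebraMap S' T).comp (algebraMap R S')).toAlgebra
      haveI : IsScalarTower R S' T := IsScalarTower.of_algebraMap_eq (fun _ => rfl)
      exact hR.2 T (Algebra.FiniteType.trans hftS' hT)
    let x' : Fin n → S' := fun i => ⟨x (Fin.castSucc i), Algebra.subset_adjoin ⟨i, rfl⟩⟩
    have hx' : Algebra.adjoin R (Set.range x') = ⊤ := by
      have h := Algebra.adjoin_adjoin_coe_preimage (R := R) (s := Set.range (x ∘ Fin.castSucc))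
      have h2 : Set.range x' = ((↑) : S' → S) ⁻¹' (Set.range (x ∘ Fin.castSucc)) := by
        ext y
        constructor
        · rintro ⟨i, rfl⟩; exact ⟨i, rfl⟩
        · rintro ⟨i, hi⟩; exact ⟨i, Subtype.ext hi⟩
      rw [h2]; exact h
    let q'' : Ideal S' := q.under S'
    haveI : q''.IsPrime := inferInstance
    haveI : q.LiesOver q'' := inferInstance
    haveI : q''.LiesOver p := inferInstance
    have h1 := ih R hR p S' x' hx' q''
    have hx1 : Algebra.adjoin S' {x (Fin.last n)} = ⊤ := by
      have h3 : Set.range x = Set.range (x ∘ Fin.castSucc) ∪ {x (Fin.last n)} := by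
        ext y
        constructor
        · rintro ⟨i, rfl⟩
          refine Fin.lastCases ?_ (fun j => ?_) i
          · right; rfl
          · left; exact ⟨j, rfl⟩
        · rintro (⟨i, rfl⟩ | rfl)
          · exact ⟨_, rfl⟩
          · exact ⟨_, rfl⟩
      rw [h3, Algebra.adjoin_union_eq_adjoin_adjoin] at hx
      rw [eq_top_iff]
      intro y _
      have : y ∈ (Algebra.adjoin S' {x (Fin.last n)}).restrictScalars R := by
        rw [hx]; trivial
      exact this
    have h2 := one_gen_eq S' hS'cat S (x (Fin.last n)) hx1 q'' q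
    have t1 := _root_.trdeg_add_eq R S' (A := S)
    haveI : IsScalarTower (R ⧸ p) (S' ⧸ q'') (S ⧸ q) := by
      refine IsScalarTower.of_algebraMap_eq (fun r => ?_)
      obtain ⟨r, rfl⟩ := Ideal.Quotient.mk_surjective r
      rw [Ideal.Quotient.algebraMap_mk_of_liesOver, Ideal.Quotient.algebraMap_mk_of_liesOver,
        Ideal.Quotient.algebraMap_mk_of_liesOver, ← IsScalarTower.algebraMap_apply]
    have t2 := _root_.trdeg_add_eq (R ⧸ p) (S' ⧸ q'') (A := S ⧸ q)
    rw [← t1, ← t2]
    calc (q.height : Cardinal.{u}) +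
          (Algebra.trdeg (R ⧸ p) (S' ⧸ q'') + Algebra.trdeg (S' ⧸ q'') (S ⧸ q))
        = ((q.height : Cardinal.{u}) + Algebra.trdeg (S' ⧸ q'') (S ⧸ q)) +
          Algebra.trdeg (R ⧸ p) (S' ⧸ q'') := by ring
      _ = ((q''.height : Cardinal.{u}) + Algebra.trdeg S' S) +
          Algebra.trdeg (R ⧸ p) (S' ⧸ q'') := by rw [h2]
      _ = ((q''.height : Cardinal.{u}) + Algebra.trdeg (R ⧸ p) (S' ⧸ q'')) +
          Algebra.trdeg S' S := by ring
      _ = ((p.height : Cardinal.{u}) + Algebra.trdeg R S') + Algebra.trdeg S' S := by rw [h1]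
      _ = _ := by ring

/-- **The dimension formula** (Matsumura 15.6). -/
theorem dimension_formula (R : Type u) [CommRing R] [IsDomain R]
    (hR : CAlg.IsUniversallyCatenary R) (S : Type u) [CommRing S] [IsDomain S] [Algebra R S]
    [FaithfulSMul R S] [Algebra.FiniteType R S] (p : Ideal R) [p.IsPrime] (q : Ideal S) [q.IsPrime]
    [q.LiesOver p] :
    (q.height : Cardinal.{u}) + Algebra.trdeg (R ⧸ p) (S ⧸ q) =
      (p.height : Cardinal.{u}) + Algebra.trdeg R S := by
  obtain ⟨s, hs⟩ := (‹Algebra.FiniteType R S›).out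
  obtain ⟨n, ⟨e⟩⟩ := Finite.exists_equiv_fin (s : Set S)
  refine fin_gen_eq n R hR p S (fun i => (e.symm i : S)) ?_ q
  rw [← hs]
  congr 1
  ext y
  constructor
  · rintro ⟨i, rfl⟩; exact (e.symm i).2
  · intro hy; exact ⟨e ⟨y, hy⟩, by simp⟩

end Groth.Agent.Helper14.DimFormula
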