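import Mathlib
import Groth.Prelude.Def_Found
import Groth.Agent.Lib.Helper14.DimFormula
import Groth.Agent.Lib.Helper14.TrdegBridge

namespace Groth.Agent.Helper14.DimFormulaLocal
universe u

/-- universal catenarity passes to surjective images. -/
theorem isUniversallyCatenary_of_surjective {R R' : Type u} [CommRing R] [CommRing R']
    (φ : R →+* R') (hφ : Function.Surjective φ) (hR : CAlg.IsUniversallyCatenary R) :
    CAlg.IsUniversallyCatenary R' := by
  haveI := hR.1
  refine ⟨isNoetherianRing_of_surjective R R' φ hφ, fun S _ _ hS => ?_⟩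
  letI : Algebra R R' := φ.toAlgebra
  letI : Algebra R S := ((algebraMap R' S).comp φ).toAlgebra
  haveI : IsScalarTower R R' S := IsScalarTower.of_algebraMap_eq (fun _ => rfl)
  haveI : Algebra.FiniteType R R' := Algebra.FiniteType.of_surjective (Algebra.ofId R R') hφ
  exact hR.2 S (Algebra.FiniteType.trans ‹Algebra.FiniteType R R'› hS)

section domain

variable (A₁ B₁ : Type u) [CommRing A₁] [IsDomain A₁] [CommRing B₁] [IsDomain B₁] [Algebra A₁ B₁]
  [FaithfulSMul A₁ B₁] [Algebra.FiniteType A₁ B₁] (p₁ : Ideal A₁) [p₁.IsPrime] (q₁ : Ideal B₁)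
  [q₁.IsPrime] [q₁.LiesOver p₁]

theorem dimension_formula_domain_local
    (hcat : CAlg.IsUniversallyCatenary (Localization.AtPrime p₁)) :
    (q₁.height : Cardinal.{u}) + Algebra.trdeg (A₁ ⧸ p₁) (B₁ ⧸ q₁) =
      (p₁.height : Cardinal.{u}) + Algebra.trdeg A₁ B₁ := by
  let M := p₁.primeCompl
  let M' := Algebra.algebraMapSubmonoid B₁ M
  let R := Localization.AtPrime p₁
  let S := Localization M'
  have hinj : Function.Injective (algebraMap A₁ B₁) := FaithfulSMul.algebraMap_injective A₁ B₁
  have hM' : M' ≤ nonZeroDivisors B₁ := by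
    rintro _ ⟨a, ha, rfl⟩
    refine mem_nonZeroDivisors_of_ne_zero ?_
    intro h0
    have : a = 0 := hinj (h0.trans (map_zero _).symm)
    exact ha (this ▸ p₁.zero_mem)
  haveI : IsDomain S := IsLocalization.isDomain_localization hM'
  have hRS : Function.Injective (algebraMap R S) := localizationAlgebra_injective R S hinj
  haveI : FaithfulSMul R S := (faithfulSMul_iff_algebraMap_injective R S).mpr hRS
  haveI : IsLocalization (Submonoid.map (algebraMap A₁ B₁) M) S :=
    (inferInstance : IsLocalization M' S)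
  haveI : Algebra.FiniteType R S := by
    have := RingHom.finiteType_localizationPreserves (algebraMap A₁ B₁) M R S
      (RingHom.finiteType_algebraMap.mpr inferInstance)
    exact RingHom.finiteType_algebraMap.mp this
  let P : Ideal R := IsLocalRing.maximalIdeal R
  let Q : Ideal S := q₁.map (algebraMap B₁ S)
  have hdisj : Disjoint (M' : Set B₁) (q₁ : Set B₁) := by
    rw [Set.disjoint_left]
    rintro _ ⟨a, ha, rfl⟩ hq
    apply ha
    rw [(‹q₁.LiesOver p₁›).over]
    exact hq
  haveI hQp : Q.IsPrime := IsLocalization.isPrime_of_isPrime_disjoint M' S q₁ ‹_› hdisj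
  have hQc : Q.comap (algebraMap B₁ S) = q₁ :=
    IsLocalization.comap_map_of_isPrime_disjoint M' S ‹_› hdisj
  have hPc : P.comap (algebraMap A₁ R) = p₁ := Localization.AtPrime.comap_maximalIdeal
  have hPQ : Q.comap (algebraMap R S) = P := by
    have h1 : (Q.comap (algebraMap R S)).comap (algebraMap A₁ R) = p₁ := by
      rw [Ideal.comap_comap, ← IsScalarTower.algebraMap_eq, IsScalarTower.algebraMap_eq A₁ B₁ S,
        ← Ideal.comap_comap, hQc, ← Ideal.under_def, ← (‹q₁.LiesOver p₁›).over]
    have e1 := IsLocalization.map_comap M R (Q.comap (algebraMap R S))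
    have e2 := IsLocalization.map_comap M R P
    rw [Ideal.under_def] at e1 e2
    rw [← e1, ← e2, h1, hPc]
  haveI : Q.LiesOver P := ⟨hPQ.symm⟩
  have key := DimFormula.dimension_formula R hcat S P Q
  have hdisjM : Disjoint (M : Set A₁) (p₁ : Set A₁) := by
    rw [Set.disjoint_left]
    intro a ha hp
    exact ha hp
  have h1 : Q.height = q₁.height := IsLocalization.height_map_of_disjoint M' q₁ hdisj
  have h2 : P.height = p₁.height := by
    have := IsLocalization.height_map_of_disjoint (S := R) M p₁ hdisjM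
    rwa [Localization.AtPrime.map_eq_maximalIdeal] at this
  have hMnz : M ≤ nonZeroDivisors A₁ := by
    intro a ha
    refine mem_nonZeroDivisors_of_ne_zero ?_
    rintro rfl
    exact ha p₁.zero_mem
  have h3 : Algebra.trdeg R S = Algebra.trdeg A₁ B₁ := by
    haveI : FaithfulSMul B₁ S :=
      (faithfulSMul_iff_algebraMap_injective B₁ S).mpr (IsLocalization.injective S hM')
    haveI : FaithfulSMul A₁ R :=
      (faithfulSMul_iff_algebraMap_injective A₁ R).mpr (IsLocalization.injective R hMnz)
    haveI : Algebra.IsAlgebraic B₁ S := IsLocalization.isAlgebraic S M'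
    haveI : Algebra.IsAlgebraic A₁ R := IsLocalization.isAlgebraic R M
    have t1 := _root_.trdeg_add_eq A₁ B₁ (A := S)
    have t2 := _root_.trdeg_add_eq A₁ R (A := S)
    have z1 : Algebra.trdeg B₁ S = 0 := _root_.trdeg_eq_zero
    have z2 : Algebra.trdeg A₁ R = 0 := _root_.trdeg_eq_zero
    rw [z1, add_zero] at t1
    rw [z2, zero_add] at t2
    rw [t1, t2]
  have h4 : Algebra.trdeg (R ⧸ P) (S ⧸ Q) = Algebra.trdeg (A₁ ⧸ p₁) (B₁ ⧸ q₁) := by
    let k := FractionRing (A₁ ⧸ p₁)
    let K := FractionRing (B₁ ⧸ q₁)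
    let a : A₁ →+* k := (algebraMap (A₁ ⧸ p₁) k).comp (Ideal.Quotient.mk p₁)
    let b : B₁ →+* K := (algebraMap (B₁ ⧸ q₁) K).comp (Ideal.Quotient.mk q₁)
    have hinj' : Function.Injective
        ((algebraMap (B₁ ⧸ q₁) K).comp (algebraMap (A₁ ⧸ p₁) (B₁ ⧸ q₁))) :=
      (IsFractionRing.injective (B₁ ⧸ q₁) K).comp
        (FaithfulSMul.algebraMap_injective (A₁ ⧸ p₁) (B₁ ⧸ q₁))
    let g : k →+* K := IsFractionRing.lift hinj'
    have hcomm : g.comp a = b.comp (algebraMap A₁ B₁) := by
      ext r
      change g (algebraMap (A₁ ⧸ p₁) k (Ideal.Quotient.mk p₁ r)) = _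
      rw [IsFractionRing.lift_algebraMap]
      rfl
    have hka : RingHom.ker a = p₁ := TrdegBridge.ker_toFrac p₁
    have hkb : RingHom.ker b = q₁ := TrdegBridge.ker_toFrac q₁
    have e1 := TrdegBridge.trdeg_eq_of_fraction p₁ q₁ a hka b hkb g hcomm
      (TrdegBridge.fraction_toFrac p₁) (TrdegBridge.fraction_toFrac q₁)
    have hua : ∀ y : M, IsUnit (a y) := by
      intro y
      refine IsUnit.mk0 _ ?_
      intro h0
      have : (y : A₁) ∈ RingHom.ker a := h0
      rw [hka] at this
      exact y.2 this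
    have hub : ∀ y : M', IsUnit (b y) := by
      intro y
      refine IsUnit.mk0 _ ?_
      intro h0
      have : (y : B₁) ∈ RingHom.ker b := h0
      rw [hkb] at this
      exact Set.disjoint_left.mp hdisj y.2 this
    let a' : R →+* k := IsLocalization.lift (M := M) hua
    let b' : S →+* K := IsLocalization.lift (M := M') hub
    have ha' : a'.comp (algebraMap A₁ R) = a := IsLocalization.lift_comp _
    have hb' : b'.comp (algebraMap B₁ S) = b := IsLocalization.lift_comp _
    have hka' : RingHom.ker a' = P := by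
      have e := IsLocalization.map_comap M R (RingHom.ker a')
      rw [Ideal.under_def, RingHom.comap_ker, ha', hka,
        Localization.AtPrime.map_eq_maximalIdeal] at e
      exact e.symm
    have hkb' : RingHom.ker b' = Q := by
      have e := IsLocalization.map_comap M' S (RingHom.ker b')
      rw [Ideal.under_def, RingHom.comap_ker, hb', hkb] at e
      exact e.symm
    have hcomm' : g.comp a' = b'.comp (algebraMap R S) := by
      apply IsLocalization.ringHom_ext M
      ext x
      simp only [RingHom.comp_apply]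
      have c1 : a' (algebraMap A₁ R x) = a x := congrFun (congrArg DFunLike.coe ha') x
      have c2 : algebraMap R S (algebraMap A₁ R x) = algebraMap B₁ S (algebraMap A₁ B₁ x) := by
        rw [← IsScalarTower.algebraMap_apply, ← IsScalarTower.algebraMap_apply]
      have c3 : b' (algebraMap B₁ S (algebraMap A₁ B₁ x)) = b (algebraMap A₁ B₁ x) :=
        congrFun (congrArg DFunLike.coe hb') _
      rw [c1, c2, c3]
      exact congrFun (congrArg DFunLike.coe hcomm) x
    have hfa' : ∀ z : k, ∃ r s, a' s ≠ 0 ∧ z * a' s = a' r := by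
      intro z
      obtain ⟨r, s, hs, h⟩ := TrdegBridge.fraction_toFrac p₁ z
      have hr' : ∀ x : A₁, a' (algebraMap A₁ R x) = a x := fun x =>
        congrFun (congrArg DFunLike.coe ha') x
      exact ⟨algebraMap A₁ R r, algebraMap A₁ R s, by rw [hr']; exact hs, by rw [hr', hr']; exact h⟩
    have hfb' : ∀ z : K, ∃ r s, b' s ≠ 0 ∧ z * b' s = b' r := by
      intro z
      obtain ⟨r, s, hs, h⟩ := TrdegBridge.fraction_toFrac q₁ z
      have hr' : ∀ x : B₁, b' (algebraMap B₁ S x) = b x := fun x =>
        congrFun (congrArg DFunLike.coe hb') x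
      exact ⟨algebraMap B₁ S r, algebraMap B₁ S s, by rw [hr']; exact hs, by rw [hr', hr']; exact h⟩
    have e2 := TrdegBridge.trdeg_eq_of_fraction P Q a' hka' b' hkb' g hcomm' hfa' hfb'
    exact e2.symm.trans e1
  rw [h1, h2, h3, h4] at key
  exact key

end domain

section general

variable (A B : Type u) [CommRing A] [CommRing B] [Algebra A B] [Algebra.FiniteType A B]
  (p₀ p : Ideal A) [p₀.IsPrime] [p.IsPrime] (q₀ q : Ideal B) [q₀.IsPrime] [q.IsPrime]
  [q₀.LiesOver p₀] [q.LiesOver p]

/-- **Dimension formula, local form**: only the local ring at `p` needs to be universally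
catenary, and the rings need not be domains: for primes `q₀ ≤ q` of `B` over `p₀ ≤ p`,
`ht (q/q₀) + trdeg κ(q)/κ(p) = ht (p/p₀) + trdeg κ(q₀)/κ(p₀)`. -/
theorem dimension_formula_local (hq : q₀ ≤ q)
    (hcat : CAlg.IsUniversallyCatenary (Localization.AtPrime p)) :
    ((q.map (Ideal.Quotient.mk q₀)).height : Cardinal.{u}) + Algebra.trdeg (A ⧸ p) (B ⧸ q) =
      ((p.map (Ideal.Quotient.mk p₀)).height : Cardinal.{u}) +
        Algebra.trdeg (A ⧸ p₀) (B ⧸ q₀) := by
  have hp : p₀ ≤ p := by
    rw [(‹q₀.LiesOver p₀›).over, (‹q.LiesOver p›).over]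
    exact Ideal.comap_mono hq
  let A₁ := A ⧸ p₀
  let B₁ := B ⧸ q₀
  haveI : Algebra.FiniteType A₁ B₁ := Algebra.FiniteType.of_restrictScalars_finiteType A A₁ B₁
  let p₁ : Ideal A₁ := p.map (Ideal.Quotient.mk p₀)
  let q₁ : Ideal B₁ := q.map (Ideal.Quotient.mk q₀)
  haveI hp₁ : p₁.IsPrime := Ideal.map_isPrime_of_surjective Ideal.Quotient.mk_surjective
    (by rw [Ideal.mk_ker]; exact hp)
  haveI hq₁ : q₁.IsPrime := Ideal.map_isPrime_of_surjective Ideal.Quotient.mk_surjective
    (by rw [Ideal.mk_ker]; exact hq)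
  have hpc : p₁.comap (Ideal.Quotient.mk p₀) = p := by
    rw [Ideal.comap_map_of_surjective' _ Ideal.Quotient.mk_surjective, Ideal.mk_ker]
    exact sup_eq_left.mpr hp
  have hqc : q₁.comap (Ideal.Quotient.mk q₀) = q := by
    rw [Ideal.comap_map_of_surjective' _ Ideal.Quotient.mk_surjective, Ideal.mk_ker]
    exact sup_eq_left.mpr hq
  have hαβ : (Ideal.Quotient.mk q₀).comp (algebraMap A B) =
      (algebraMap A₁ B₁).comp (Ideal.Quotient.mk p₀) := by
    ext x
    rfl
  haveI : q₁.LiesOver p₁ := by
    constructor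
    apply Ideal.comap_injective_of_surjective _ (Ideal.Quotient.mk_surjective (I := p₀))
    rw [hpc, Ideal.under_def, Ideal.comap_comap, ← hαβ, ← Ideal.comap_comap, hqc,
      (‹q.LiesOver p›).over]
  have hcat₁ : CAlg.IsUniversallyCatenary (Localization.AtPrime p₁) := by
    refine isUniversallyCatenary_of_surjective
      (Localization.localRingHom p p₁ (Ideal.Quotient.mk p₀) hpc.symm) ?_ hcat
    exact (RingHom.surjectiveOnStalks_of_surjective
      (Ideal.Quotient.mk_surjective (I := p₀))).localRingHom_surjective _ _ hpc.symm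
  have key := dimension_formula_domain_local A₁ B₁ p₁ q₁ hcat₁
  have hbr := TrdegBridge.trdeg_quotient_eq_of_surjective (Ideal.Quotient.mk p₀)
    Ideal.Quotient.mk_surjective (Ideal.Quotient.mk q₀) Ideal.Quotient.mk_surjective hαβ
    p₁ q₁ p q hpc.symm hqc.symm
  rw [hbr]
  have e0 : Algebra.trdeg A₁ B₁ = Algebra.trdeg (A ⧸ p₀) (B ⧸ q₀) := rfl
  rw [← e0]
  exact key

end general

end Groth.Agent.Helper14.DimFormulaLocal
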