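import Mathlib
import Groth.Agent.Lib.Helper14.DimIneq
import Groth.Agent.Lib.Helper14.TrdegBridge
import Groth.Agent.Lib.Helper7.CatDim

/-!
# The dimension inequality for finite type algebras over Noetherian rings (no domain hypotheses)
-/

namespace Groth.Agent.Helper14.DimIneqGen

universe u

open Ideal Order Groth.Agent.Helper14

/-- In a Noetherian ring every prime `q` contains a minimal prime `Q` with
`ht (q / Q) ≥ ht q`. -/
theorem exists_minimalPrime_height_le (B : Type u) [CommRing B] [IsNoetherianRing B]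
    (q : Ideal B) [hq : q.IsPrime] :
    ∃ (Q : Ideal B) (_ : Q.IsPrime), Q ∈ minimalPrimes B ∧ Q ≤ q ∧
      q.height ≤ (q.map (Ideal.Quotient.mk Q)).height := by
  obtain ⟨l, hlast, hlen⟩ := q.exists_ltSeries_length_eq_height
  have hl1 : (l.length : ℕ∞) = height l.last := by
    rw [hlen, hlast, ← PrimeSpectrum.height_eq_orderHeight]
  have hminl := Helper7.CatDim.isMin_head_of_length_eq_height l hl1
  let Q : Ideal B := l.head.asIdeal
  haveI hQp : Q.IsPrime := l.head.isPrime
  have hQq : Q ≤ q := by
    have := LTSeries.head_le_last l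
    rw [hlast] at this
    exact this
  have hQmin : Q ∈ minimalPrimes B := by
    rw [minimalPrimes_eq_minimals]
    refine ⟨hQp, fun J hJ hJQ => ?_⟩
    exact hminl (b := ⟨J, hJ⟩) hJQ
  refine ⟨Q, hQp, hQmin, hQq, ?_⟩
  let φ := Ideal.Quotient.mk Q
  have hφ : Function.Surjective φ := Ideal.Quotient.mk_surjective
  let e := specEmbOfSurjective φ hφ
  have hmem : ∀ i, l i ∈ Set.range e := by
    intro i
    rw [range_specEmbOfSurjective, PrimeSpectrum.mem_zeroLocus, Ideal.mk_ker]
    exact (LTSeries.head_le l i)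
  let l' := liftSeries e l hmem
  have hq'p : (q.map φ).IsPrime :=
    Ideal.map_isPrime_of_surjective hφ (by rw [Ideal.mk_ker]; exact hQq)
  have hcomap : (q.map φ).comap φ = q := by
    rw [Ideal.comap_map_of_surjective' φ hφ, Ideal.mk_ker]
    exact sup_eq_left.mpr hQq
  have hlast' : l'.last = ⟨q.map φ, hq'p⟩ := by
    apply e.injective
    rw [show e l'.last = l.last from liftSeries_apply e l hmem _, hlast]
    apply PrimeSpectrum.ext
    exact hcomap.symm
  have h1 := Order.length_le_height_last (p := l')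
  rw [hlast', ← PrimeSpectrum.height_eq_orderHeight] at h1
  rw [← hlen]
  exact h1

/-- **The dimension inequality for arbitrary finite type algebras over Noetherian rings.** -/
theorem height_add_trdeg_le (A B : Type u) [CommRing A] [IsNoetherianRing A] [CommRing B]
    [Algebra A B] [Algebra.FiniteType A B]
    (q : Ideal B) [q.IsPrime] (p : Ideal A) [p.IsPrime] [q.LiesOver p] (E : Cardinal.{u})
    (hE : ∀ (Q : Ideal B) [Q.IsPrime], Q ∈ minimalPrimes B → Q ≤ q →
      Algebra.trdeg (A ⧸ Q.under A) (B ⧸ Q) ≤ E) :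
    (q.height : Cardinal.{u}) + Algebra.trdeg (A ⧸ p) (B ⧸ q) ≤ (p.height : Cardinal.{u}) + E := by
  haveI : IsNoetherianRing B := Algebra.FiniteType.isNoetherianRing A B
  obtain ⟨Q, hQp, hQmin, hQq, hht⟩ := exists_minimalPrime_height_le B q
  haveI := hQp
  let P : Ideal A := Q.under A
  let R := A ⧸ P
  let S := B ⧸ Q
  let φ : B →+* S := Ideal.Quotient.mk Q
  have hφ : Function.Surjective φ := Ideal.Quotient.mk_surjective
  let α : A →+* R := Ideal.Quotient.mk P
  have hα : Function.Surjective α := Ideal.Quotient.mk_surjective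
  haveI hq'p : (q.map φ).IsPrime :=
    Ideal.map_isPrime_of_surjective hφ (by rw [Ideal.mk_ker]; exact hQq)
  have hcomap : (q.map φ).comap φ = q := by
    rw [Ideal.comap_map_of_surjective' φ hφ, Ideal.mk_ker]
    exact sup_eq_left.mpr hQq
  let q' : Ideal S := q.map φ
  let p' : Ideal R := q'.under R
  haveI : p'.IsPrime := inferInstance
  haveI : q'.LiesOver p' := inferInstance
  have hp'comap : p = p'.comap α := by
    ext x
    rw [Ideal.mem_comap, Ideal.mem_comap]
    change _ ↔ algebraMap R S (Ideal.Quotient.mk P x) ∈ q'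
    rw [Ideal.Quotient.algebraMap_mk_of_liesOver, ← Ideal.mem_comap, hcomap,
      (‹q.LiesOver p›).over, Ideal.mem_comap]
  have hpht : p'.height ≤ p.height := by
    rw [hp'comap]
    exact DimIneq.height_le_height_comap α hα p'
  haveI : Algebra.FiniteType A S := inferInstance
  haveI : Algebra.FiniteType R S := Algebra.FiniteType.of_restrictScalars_finiteType A R S
  have key := DimIneq.dimension_inequality R S p' q'
  have hT : Algebra.trdeg (A ⧸ p) (B ⧸ q) = Algebra.trdeg (R ⧸ p') (S ⧸ q') :=
    TrdegBridge.trdeg_quotient_eq_of_surjective α hα φ hφ (by ext x; rfl) p' q' p q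
      hp'comap hcomap.symm
  have hE' := hE Q hQmin hQq
  rw [hT]
  calc (q.height : Cardinal.{u}) + Algebra.trdeg (R ⧸ p') (S ⧸ q')
      ≤ (q'.height : Cardinal.{u}) + Algebra.trdeg (R ⧸ p') (S ⧸ q') := by
        have h3 : (q.height : Cardinal.{u}) ≤ (q'.height : Cardinal.{u}) := by exact_mod_cast hht
        gcongr
    _ ≤ (p'.height : Cardinal.{u}) + Algebra.trdeg R S := key
    _ ≤ (p.height : Cardinal.{u}) + E := by
        have h3 : (p'.height : Cardinal.{u}) ≤ (p.height : Cardinal.{u}) := by exact_mod_cast hpht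
        gcongr

end Groth.Agent.Helper14.DimIneqGen
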