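import Mathlib
import Groth.Agent.S2680
import Groth.Agent.Lib.Helper14.TrdegBridge

/-!
# A prime of the generic fibre of maximal height
-/

namespace Groth.Agent.Helper14.GenericFibrePrime

universe u

/-- For a finite type injective extension of domains `A ⊆ B` there is a prime `m` of `B` with
`m ∩ A = 0` of height `trdeg A B`. -/
theorem exists_prime (A B : Type u) [CommRing A] [IsDomain A] [CommRing B] [IsDomain B]
    [Algebra A B] [Algebra.FiniteType A B] [FaithfulSMul A B] :
    ∃ (m : Ideal B) (_ : m.IsPrime), m.under A = ⊥ ∧
      (m.height : Cardinal.{u}) = Algebra.trdeg A B := by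
  classical
  have hinj : Function.Injective (algebraMap A B) := FaithfulSMul.algebraMap_injective A B
  let K := FractionRing A
  let M : Submonoid B := Algebra.algebraMapSubmonoid B (nonZeroDivisors A)
  have hM : M ≤ nonZeroDivisors B := by
    rintro _ ⟨a, ha, rfl⟩
    refine mem_nonZeroDivisors_of_ne_zero ?_
    intro h0
    exact (nonZeroDivisors.ne_zero ha) (hinj (by rw [h0, map_zero]))
  let T := Localization M
  haveI : IsDomain T := IsLocalization.isDomain_localization hM
  haveI : FaithfulSMul B T :=
    (faithfulSMul_iff_algebraMap_injective B T).mpr (IsLocalization.injective T hM)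
  haveI : Algebra.FiniteType K T := by
    have h1 : (algebraMap A B).FiniteType := RingHom.finiteType_algebraMap.mpr inferInstance
    haveI : IsLocalization (Submonoid.map (algebraMap A B) (nonZeroDivisors A)) T :=
      inferInstanceAs (IsLocalization M (Localization M))
    have h2 := RingHom.finiteType_localizationPreserves (algebraMap A B) (nonZeroDivisors A) K T h1
    exact RingHom.finiteType_algebraMap.mp h2
  obtain ⟨m', hm'⟩ := Ideal.exists_maximal T
  haveI := hm'
  have h1 := Groth.Agent.S2680.height_maximal K T m'
  refine ⟨m'.under B, inferInstance, ?_, ?_⟩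
  · rw [eq_bot_iff]
    intro x hx
    rw [Ideal.mem_bot]
    by_contra hx0
    have h2 : algebraMap B T (algebraMap A B x) ∈ m' := hx
    have h3 : IsUnit (algebraMap B T (algebraMap A B x)) :=
      IsLocalization.map_units T (⟨algebraMap A B x, ⟨x, mem_nonZeroDivisors_of_ne_zero hx0, rfl⟩⟩ : M)
    exact hm'.ne_top (Ideal.eq_top_of_isUnit_mem _ h2 h3)
  · rw [IsLocalization.height_under M m', h1]
    haveI : Algebra.IsAlgebraic A K := IsLocalization.isAlgebraic K (nonZeroDivisors A)
    haveI : Algebra.IsAlgebraic B T := IsLocalization.isAlgebraic T M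
    haveI : FaithfulSMul K T :=
      (faithfulSMul_iff_algebraMap_injective K T).mpr (algebraMap K T).injective
    have t1 := _root_.trdeg_add_eq A K (A := T)
    have t2 := _root_.trdeg_add_eq A B (A := T)
    have z1 : Algebra.trdeg A K = 0 := _root_.trdeg_eq_zero
    have z2 : Algebra.trdeg B T = 0 := _root_.trdeg_eq_zero
    rw [z1, zero_add] at t1
    rw [z2, add_zero] at t2
    rw [t1, t2]

/-- fractions in a fraction ring. -/
theorem hfrac (R : Type u) [CommRing R] [IsDomain R] (z : FractionRing R) :
    ∃ r s, algebraMap R (FractionRing R) s ≠ 0 ∧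
      z * algebraMap R (FractionRing R) s = algebraMap R (FractionRing R) r := by
  obtain ⟨⟨x, y⟩, hxy⟩ := IsLocalization.surj (nonZeroDivisors R) z
  exact ⟨x, y, IsFractionRing.to_map_ne_zero_of_mem_nonZeroDivisors y.2, hxy⟩

/-- `trdeg A B = trdeg (Frac A) (Frac B)` for an injective extension of domains. -/
theorem trdeg_eq_trdeg_fractionRing (A B : Type u) [CommRing A] [IsDomain A] [CommRing B]
    [IsDomain B] [Algebra A B] [FaithfulSMul A B]
    (g : FractionRing A →+* FractionRing B)
    (hg : ∀ r, g (algebraMap A (FractionRing A) r) =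
      algebraMap B (FractionRing B) (algebraMap A B r)) :
    @Algebra.trdeg (FractionRing A) (FractionRing B) _ _ g.toAlgebra = Algebra.trdeg A B := by
  letI : Algebra (FractionRing A) (FractionRing B) := g.toAlgebra
  haveI : IsScalarTower A B (FractionRing B) := inferInstance
  haveI : IsScalarTower A (FractionRing A) (FractionRing B) :=
    IsScalarTower.of_algebraMap_eq (fun r => by
      rw [IsScalarTower.algebraMap_apply A B (FractionRing B)]; exact (hg r).symm)
  haveI : FaithfulSMul (FractionRing A) (FractionRing B) :=
    (faithfulSMul_iff_algebraMap_injective _ _).mpr g.injective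
  haveI : Algebra.IsAlgebraic A (FractionRing A) :=
    IsLocalization.isAlgebraic (FractionRing A) (nonZeroDivisors A)
  haveI : Algebra.IsAlgebraic B (FractionRing B) :=
    IsLocalization.isAlgebraic (FractionRing B) (nonZeroDivisors B)
  have t1 := _root_.trdeg_add_eq A (FractionRing A) (A := FractionRing B)
  have t2 := _root_.trdeg_add_eq A B (A := FractionRing B)
  have z1 : Algebra.trdeg A (FractionRing A) = 0 := _root_.trdeg_eq_zero
  have z2 : Algebra.trdeg B (FractionRing B) = 0 := _root_.trdeg_eq_zero
  rw [z1, zero_add] at t1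
  rw [z2, add_zero] at t2
  rw [t1, t2]

/-- `trdeg (A ⧸ ⊥) (B ⧸ ⊥) = trdeg A B` for domains. -/
theorem trdeg_quotient_bot (A B : Type u) [CommRing A] [IsDomain A] [CommRing B] [IsDomain B]
    [Algebra A B] [FaithfulSMul A B] [(⊥ : Ideal B).LiesOver (⊥ : Ideal A)] :
    Algebra.trdeg (A ⧸ (⊥ : Ideal A)) (B ⧸ (⊥ : Ideal B)) = Algebra.trdeg A B := by
  have hinj : Function.Injective
      ((algebraMap B (FractionRing B)).comp (algebraMap A B)) :=
    (IsFractionRing.injective B (FractionRing B)).comp (FaithfulSMul.algebraMap_injective A B)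
  have hg : ∀ r, (IsFractionRing.lift hinj : FractionRing A →+* FractionRing B)
      (algebraMap A (FractionRing A) r) =
      algebraMap B (FractionRing B) (algebraMap A B r) := fun r =>
    IsFractionRing.lift_algebraMap hinj r
  have hcomm : (IsFractionRing.lift hinj : FractionRing A →+* FractionRing B).comp
      (algebraMap A (FractionRing A)) =
      (algebraMap B (FractionRing B)).comp (algebraMap A B) := RingHom.ext hg
  have e1 := TrdegBridge.trdeg_eq_of_fraction (⊥ : Ideal A) (⊥ : Ideal B)
    (algebraMap A (FractionRing A))
    ((RingHom.injective_iff_ker_eq_bot _).mp (IsFractionRing.injective A (FractionRing A)))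
    (algebraMap B (FractionRing B))
    ((RingHom.injective_iff_ker_eq_bot _).mp (IsFractionRing.injective B (FractionRing B)))
    (IsFractionRing.lift hinj) hcomm (hfrac A) (hfrac B)
  rw [← e1]
  exact trdeg_eq_trdeg_fractionRing A B _ hg

end Groth.Agent.Helper14.GenericFibrePrime
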