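import Mathlib
import Groth.Prelude.Def_CurvBase
import Groth.Agent.Lib.Helper14.ResFieldBridge
import Groth.Agent.Lib.Helper14.GenericFibrePrime

/-!
# Schemes locally of finite type over a field: affine charts as finite type `k`-algebras and the
residue field bridge for `Curv2.resAlgebra`
-/

namespace Groth.Agent.Helper14.FieldSchemeBridge

universe u

open AlgebraicGeometry CategoryTheory TopologicalSpace

/-- the structure map `k → Γ(X, U)`. -/
noncomputable def kU (k : Type u) [Field k] (X : Scheme.{u}) [X.Over (Spec (CommRingCat.of k))]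
    (U : X.Opens) : k →+* Γ(X, U) :=
  (X.presheaf.map (homOfLE (le_top : U ≤ ⊤)).op).hom.comp
    (Coh.toGlobal (X ↘ Spec (CommRingCat.of k)))

theorem kU_finiteType (k : Type u) [Field k] (X : Scheme.{u}) [X.Over (Spec (CommRingCat.of k))]
    [LocallyOfFiniteType (X ↘ Spec (CommRingCat.of k))] {U : X.Opens} (hU : IsAffineOpen U) :
    (kU k X U).FiniteType := by
  have h1 := Scheme.Hom.finiteType_appLE (X ↘ Spec (CommRingCat.of k))
    (isAffineOpen_top (Spec (CommRingCat.of k))) hU (le_top)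
  have h2 : (kU k X U) = ((X ↘ Spec (CommRingCat.of k)).appLE ⊤ U le_top).hom.comp
      (Scheme.ΓSpecIso (CommRingCat.of k)).inv.hom := by
    ext r
    rfl
  rw [h2]
  refine RingHom.FiniteType.comp h1 (RingHom.FiniteType.of_surjective _ ?_)
  exact (ConcreteCategory.bijective_of_isIso (Scheme.ΓSpecIso (CommRingCat.of k)).inv).2

/-- the bridge over a field. -/
theorem trdeg_resAlgebra_eq (k : Type u) [Field k] (X : Scheme.{u})
    [X.Over (Spec (CommRingCat.of k))] {U : X.Opens} (hU : IsAffineOpen U) (x : X) (hx : x ∈ U)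
    [Algebra k Γ(X, U)] (halg : algebraMap k Γ(X, U) = kU k X U)
    (q : Ideal Γ(X, U)) [q.IsPrime] [q.LiesOver (⊥ : Ideal k)]
    (hq : q = (hU.primeIdealOf ⟨x, hx⟩).asIdeal) :
    @Algebra.trdeg k (X.residueField x) _ _ (Curv2.resAlgebra k X x) =
      Algebra.trdeg (k ⧸ (⊥ : Ideal k)) (Γ(X, U) ⧸ q) := by
  refine TrdegBridge.trdeg_eq_of_fraction (⊥ : Ideal k) q (RingHom.id k) ?_
    (X.evaluation U x hx).hom ?_ (Curv2.resMap k X x) ?_ ?_ ?_
  · exact (RingHom.injective_iff_ker_eq_bot _).mp (fun _ _ h => h)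
  · rw [ResFieldBridge.ker_evaluation hU, hq]
  · rw [halg]
    ext r
    simp only [RingHom.comp_apply, RingHom.id_apply, kU, Curv2.resMap, Curv2.stalkMap]
    change _ = (X.residue x).hom ((X.presheaf.germ U x hx).hom _)
    rw [TopCat.Presheaf.germ_res_apply]
  · intro z
    exact ⟨z, 1, by simp, by simp⟩
  · exact ResFieldBridge.fraction_evaluation hU x hx

/-- primes of a `k`-algebra lie over `⊥`. -/
theorem liesOver_bot (k : Type*) [Field k] {B : Type*} [CommRing B] [Algebra k B] (q : Ideal B)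
    [hq : q.IsPrime] : q.LiesOver (⊥ : Ideal k) := by
  constructor
  symm
  rw [eq_bot_iff]
  intro x hx
  rw [Ideal.mem_bot]
  by_contra hx0
  have h1 : algebraMap k B x ∈ q := hx
  have h2 : (1 : B) ∈ q := by
    have := q.mul_mem_left (algebraMap k B x⁻¹) h1
    rwa [← map_mul, inv_mul_cancel₀ hx0, map_one] at this
  exact hq.ne_top ((Ideal.eq_top_iff_one q).mpr h2)


/-- the bridge over a field, with an arbitrary (necessarily zero) prime of `k`. -/
theorem trdeg_resAlgebra_eq' (k : Type u) [Field k] (X : Scheme.{u})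
    [X.Over (Spec (CommRingCat.of k))] {U : X.Opens} (hU : IsAffineOpen U) (x : X) (hx : x ∈ U)
    [Algebra k Γ(X, U)] (halg : algebraMap k Γ(X, U) = kU k X U)
    (q : Ideal Γ(X, U)) [q.IsPrime] (p : Ideal k) [hp : p.IsPrime] [q.LiesOver p]
    (hq : q = (hU.primeIdealOf ⟨x, hx⟩).asIdeal) :
    @Algebra.trdeg k (X.residueField x) _ _ (Curv2.resAlgebra k X x) =
      Algebra.trdeg (k ⧸ p) (Γ(X, U) ⧸ q) := by
  have hp0 : p = ⊥ := (Ideal.eq_bot_or_top p).resolve_right hp.ne_top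
  refine TrdegBridge.trdeg_eq_of_fraction p q (RingHom.id k) ?_
    (X.evaluation U x hx).hom ?_ (Curv2.resMap k X x) ?_ ?_ ?_
  · rw [hp0]; exact (RingHom.injective_iff_ker_eq_bot _).mp (fun _ _ h => h)
  · rw [ResFieldBridge.ker_evaluation hU, hq]
  · rw [halg]
    ext r
    simp only [RingHom.comp_apply, RingHom.id_apply, kU, Curv2.resMap, Curv2.stalkMap]
    change _ = (X.residue x).hom ((X.presheaf.germ U x hx).hom _)
    rw [TopCat.Presheaf.germ_res_apply]
  · intro z
    exact ⟨z, 1, by simp, by simp⟩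
  · exact ResFieldBridge.fraction_evaluation hU x hx

/-- `trdeg (k ⧸ ⊥) S = trdeg k S`. -/
theorem trdeg_quotient_bot_field (k : Type u) [Field k] (S : Type u) [CommRing S] [IsDomain S]
    [Algebra k S] [(⊥ : Ideal S).LiesOver (⊥ : Ideal k)] :
    Algebra.trdeg (k ⧸ (⊥ : Ideal k)) (S ⧸ (⊥ : Ideal S)) = Algebra.trdeg k S :=
  GenericFibrePrime.trdeg_quotient_bot k S


/-- `trdeg (k ⧸ ⊥) (B ⧸ Q) = trdeg k (B ⧸ Q)`. -/
theorem trdeg_quotient_base (k : Type u) [Field k] (B : Type u) [CommRing B] [Algebra k B]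
    (Q : Ideal B) [Q.IsPrime] [Q.LiesOver (⊥ : Ideal k)] :
    Algebra.trdeg (k ⧸ (⊥ : Ideal k)) (B ⧸ Q) = Algebra.trdeg k (B ⧸ Q) := by
  haveI : FaithfulSMul k (k ⧸ (⊥ : Ideal k)) := by
    rw [faithfulSMul_iff_algebraMap_injective]
    exact (algebraMap k (k ⧸ (⊥ : Ideal k))).injective
  haveI : Algebra.IsIntegral k (k ⧸ (⊥ : Ideal k)) :=
    Algebra.IsIntegral.of_surjective (Algebra.ofId k (k ⧸ (⊥ : Ideal k)))
      Ideal.Quotient.mk_surjective
  haveI : Algebra.IsAlgebraic k (k ⧸ (⊥ : Ideal k)) := inferInstance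
  have t1 := _root_.trdeg_add_eq k (k ⧸ (⊥ : Ideal k)) (A := B ⧸ Q)
  have z1 : Algebra.trdeg k (k ⧸ (⊥ : Ideal k)) = 0 := _root_.trdeg_eq_zero
  rw [z1, zero_add] at t1
  exact t1

end Groth.Agent.Helper14.FieldSchemeBridge
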