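import Mathlib
import Groth.Agent.S2680
import Groth.Agent.Lib.Helper14.TrdegBridge
import Groth.Agent.Lib.Helper14.GenericFibrePrime

/-!
# The dimension formula for primes of the generic fibre (no Noetherian hypothesis on the base)
-/

namespace Groth.Agent.Helper14.GenFibFormula

universe u

/-- For a finite type injective extension of domains `R ⊆ S` and a prime `Q` of `S` with
`Q ∩ R = 0`: `ht Q + trdeg (R ⧸ ⊥) (S ⧸ Q) = trdeg R S`. -/
theorem height_add_trdeg_eq (R S : Type u) [CommRing R] [IsDomain R] [CommRing S] [IsDomain S]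
    [Algebra R S] [Algebra.FiniteType R S] [FaithfulSMul R S]
    (Q : Ideal S) [hQ : Q.IsPrime] [hQlo : Q.LiesOver (⊥ : Ideal R)] :
    (Q.height : Cardinal.{u}) + Algebra.trdeg (R ⧸ (⊥ : Ideal R)) (S ⧸ Q) = Algebra.trdeg R S := by
  classical
  have hinj : Function.Injective (algebraMap R S) := FaithfulSMul.algebraMap_injective R S
  let k := FractionRing R
  let M : Submonoid S := Algebra.algebraMapSubmonoid S (nonZeroDivisors R)
  have hM : M ≤ nonZeroDivisors S := by
    rintro _ ⟨a, ha, rfl⟩
    refine mem_nonZeroDivisors_of_ne_zero ?_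
    intro h0
    exact (nonZeroDivisors.ne_zero ha) (hinj (by rw [h0, map_zero]))
  let T := Localization M
  haveI : IsDomain T := IsLocalization.isDomain_localization hM
  haveI : FaithfulSMul S T :=
    (faithfulSMul_iff_algebraMap_injective S T).mpr (IsLocalization.injective T hM)
  haveI : Algebra.FiniteType k T := by
    have h1 : (algebraMap R S).FiniteType := RingHom.finiteType_algebraMap.mpr inferInstance
    haveI : IsLocalization (Submonoid.map (algebraMap R S) (nonZeroDivisors R)) T :=
      inferInstanceAs (IsLocalization M (Localization M))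
    have h2 := RingHom.finiteType_localizationPreserves (algebraMap R S) (nonZeroDivisors R) k T h1
    exact RingHom.finiteType_algebraMap.mp h2
  -- the extended prime
  have hdisj : Disjoint (M : Set S) (Q : Set S) := by
    rw [Set.disjoint_left]
    rintro _ ⟨a, ha, rfl⟩ hmem
    have h1 : a ∈ Q.under R := hmem
    rw [← hQlo.over, Ideal.mem_bot] at h1
    exact nonZeroDivisors.ne_zero ha h1
  let QT : Ideal T := Q.map (algebraMap S T)
  haveI hQT : QT.IsPrime := IsLocalization.isPrime_of_isPrime_disjoint M T Q hQ hdisj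
  have hQTunder : QT.under S = Q := IsLocalization.under_map_of_isPrime_disjoint M T hQ hdisj
  haveI : QT.LiesOver (⊥ : Ideal k) := by
    constructor
    symm
    rw [eq_bot_iff]
    intro x hx
    rw [Ideal.mem_bot]
    by_contra hx0
    have h1 : algebraMap k T x ∈ QT := hx
    have h2 : (1 : T) ∈ QT := by
      have := QT.mul_mem_left (algebraMap k T x⁻¹) h1
      rwa [← map_mul, inv_mul_cancel₀ hx0, map_one] at this
    exact hQT.ne_top ((Ideal.eq_top_iff_one QT).mpr h2)
  have key := Groth.Agent.Helper14.DimFormula.dimension_formula k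
    (Groth.Agent.S2680.isUniversallyCatenary_field k) T (⊥ : Ideal k) QT
  rw [Ideal.height_bot] at key
  have hht : QT.height = Q.height := by
    rw [← hQTunder]; exact (IsLocalization.height_under M QT).symm
  -- trdeg k T = trdeg R S
  have htr : Algebra.trdeg k T = Algebra.trdeg R S := by
    haveI : Algebra.IsAlgebraic R k := IsLocalization.isAlgebraic k (nonZeroDivisors R)
    haveI : Algebra.IsAlgebraic S T := IsLocalization.isAlgebraic T M
    haveI : FaithfulSMul k T :=
      (faithfulSMul_iff_algebraMap_injective k T).mpr (algebraMap k T).injective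
    have t1 := _root_.trdeg_add_eq R k (A := T)
    have t2 := _root_.trdeg_add_eq R S (A := T)
    have z1 : Algebra.trdeg R k = 0 := _root_.trdeg_eq_zero
    have z2 : Algebra.trdeg S T = 0 := _root_.trdeg_eq_zero
    rw [z1, zero_add] at t1
    rw [z2, add_zero] at t2
    rw [t1, t2]
  -- comparison of the residue transcendence degrees
  let L := FractionRing (T ⧸ QT)
  let bT : T →+* L := (algebraMap (T ⧸ QT) L).comp (Ideal.Quotient.mk QT)
  let g : k →+* L := bT.comp (algebraMap k T)
  have hkerbT : RingHom.ker bT = QT := TrdegBridge.ker_toFrac QT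
  have e1 : @Algebra.trdeg k L _ _ g.toAlgebra = Algebra.trdeg (k ⧸ (⊥ : Ideal k)) (T ⧸ QT) := by
    refine TrdegBridge.trdeg_eq_of_fraction (⊥ : Ideal k) QT (RingHom.id k) ?_ bT hkerbT g ?_ ?_
      (TrdegBridge.fraction_toFrac QT)
    · exact (RingHom.injective_iff_ker_eq_bot _).mp (fun _ _ h => h)
    · rfl
    · intro z
      exact ⟨z, 1, by simp, by simp⟩
  have hkerbS : RingHom.ker (bT.comp (algebraMap S T)) = Q := by
    rw [← RingHom.comap_ker, hkerbT]
    exact hQTunder
  have e2 : @Algebra.trdeg k L _ _ g.toAlgebra = Algebra.trdeg (R ⧸ (⊥ : Ideal R)) (S ⧸ Q) := by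
    refine TrdegBridge.trdeg_eq_of_fraction (⊥ : Ideal R) Q (algebraMap R k) ?_
      (bT.comp (algebraMap S T)) hkerbS g ?_ (GenericFibrePrime.hfrac R) ?_
    · exact (RingHom.injective_iff_ker_eq_bot _).mp (IsFractionRing.injective R k)
    · ext r
      simp only [RingHom.comp_apply, g]
      rw [← IsScalarTower.algebraMap_apply R k T, ← IsScalarTower.algebraMap_apply R S T]
    · intro z
      obtain ⟨ru, rv, hv, huv⟩ := TrdegBridge.fraction_toFrac QT z
      obtain ⟨⟨su, mu⟩, hsu⟩ := IsLocalization.surj M ru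
      obtain ⟨⟨sv, mv⟩, hsv⟩ := IsLocalization.surj M rv
      have hunit : ∀ m : M, bT (algebraMap S T m) ≠ 0 := by
        intro m h0
        have h1 : algebraMap S T m ∈ RingHom.ker bT := h0
        rw [hkerbT] at h1
        exact hQT.ne_top (Ideal.eq_top_of_isUnit_mem _ h1 (IsLocalization.map_units T m))
      refine ⟨su * mv, sv * mu, ?_, ?_⟩
      · simp only [RingHom.comp_apply, map_mul]
        refine mul_ne_zero ?_ (hunit mu)
        have : bT (algebraMap S T sv) = bT rv * bT (algebraMap S T mv) := by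
          rw [← map_mul, hsv]
        rw [this]
        exact mul_ne_zero hv (hunit mv)
      · simp only [RingHom.comp_apply, map_mul]
        have h1 : bT (algebraMap S T sv) = bT rv * bT (algebraMap S T mv) := by
          rw [← map_mul, hsv]
        have h2 : bT (algebraMap S T su) = bT ru * bT (algebraMap S T mu) := by
          rw [← map_mul, hsu]
        rw [h1, h2, ← huv]
        ring
  rw [← e2, e1, ← htr, ← hht]
  rw [key]
  simp


/-- setup lemma: for primes `q ≤ q'` of `B` over the same prime `p` of `A`, the prime `q'/q` of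
`B ⧸ q` lies over `⊥` in `A ⧸ p`, and the residue transcendence degrees agree. -/
theorem quotient_setup (A B : Type u) [CommRing A] [CommRing B] [Algebra A B]
    (p : Ideal A) [p.IsPrime] (q q' : Ideal B) [hq : q.IsPrime] [hq' : q'.IsPrime]
    [q.LiesOver p] [hlo' : q'.LiesOver p] (hle : q ≤ q') :
    ∃ (_ : (q'.map (Ideal.Quotient.mk q)).IsPrime)
      (_ : (q'.map (Ideal.Quotient.mk q)).LiesOver (⊥ : Ideal (A ⧸ p))),
      (q'.map (Ideal.Quotient.mk q)).comap (Ideal.Quotient.mk q) = q' ∧
      Algebra.trdeg (A ⧸ p) (B ⧸ q') =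
        Algebra.trdeg ((A ⧸ p) ⧸ (⊥ : Ideal (A ⧸ p))) ((B ⧸ q) ⧸ q'.map (Ideal.Quotient.mk q)) := by
  have hφ : Function.Surjective (Ideal.Quotient.mk q) := Ideal.Quotient.mk_surjective
  have hα : Function.Surjective (Ideal.Quotient.mk p) := Ideal.Quotient.mk_surjective
  haveI hQp : (q'.map (Ideal.Quotient.mk q)).IsPrime :=
    Ideal.map_isPrime_of_surjective hφ (by rw [Ideal.mk_ker]; exact hle)
  have hcomap : (q'.map (Ideal.Quotient.mk q)).comap (Ideal.Quotient.mk q) = q' := by
    rw [Ideal.comap_map_of_surjective' _ hφ, Ideal.mk_ker]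
    exact sup_eq_left.mpr hle
  haveI hQlo : (q'.map (Ideal.Quotient.mk q)).LiesOver (⊥ : Ideal (A ⧸ p)) := by
    constructor
    symm
    rw [eq_bot_iff]
    intro x hx
    obtain ⟨a, rfl⟩ := hα x
    rw [Ideal.mem_bot, Ideal.Quotient.eq_zero_iff_mem, hlo'.over, Ideal.mem_comap, ← hcomap,
      Ideal.mem_comap]
    have h1 : algebraMap (A ⧸ p) (B ⧸ q) (Ideal.Quotient.mk p a) ∈
        q'.map (Ideal.Quotient.mk q) := hx
    rwa [Ideal.Quotient.algebraMap_mk_of_liesOver] at h1
  refine ⟨hQp, hQlo, hcomap, ?_⟩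
  refine TrdegBridge.trdeg_quotient_eq_of_surjective (Ideal.Quotient.mk p) hα
    (Ideal.Quotient.mk q) hφ (by ext x; rfl) (⊥ : Ideal (A ⧸ p)) (q'.map (Ideal.Quotient.mk q))
    p q' ?_ hcomap.symm
  rw [← RingHom.ker_eq_comap_bot, Ideal.mk_ker]

/-- **Strict drop** of the residue transcendence degree along a proper specialization inside
a fibre (no Noetherian hypotheses). -/
theorem trdeg_lt_of_lt (A B : Type u) [CommRing A] [CommRing B] [Algebra A B]
    [Algebra.FiniteType A B]
    (p : Ideal A) [p.IsPrime] (q q' : Ideal B) [hq : q.IsPrime] [hq' : q'.IsPrime]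
    [q.LiesOver p] [hlo' : q'.LiesOver p] (hlt : q < q') :
    Algebra.trdeg (A ⧸ p) (B ⧸ q') < Algebra.trdeg (A ⧸ p) (B ⧸ q) := by
  obtain ⟨hQp, hQlo, hcomap, htr⟩ := quotient_setup A B p q q' hlt.le
  haveI := hQp
  haveI := hQlo
  haveI : Algebra.FiniteType A (B ⧸ q) := inferInstance
  haveI : Algebra.FiniteType (A ⧸ p) (B ⧸ q) :=
    Algebra.FiniteType.of_restrictScalars_finiteType A (A ⧸ p) (B ⧸ q)
  have key := height_add_trdeg_eq (A ⧸ p) (B ⧸ q) (q'.map (Ideal.Quotient.mk q))
  rw [← htr] at key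
  have hQne : q'.map (Ideal.Quotient.mk q) ≠ ⊥ := by
    intro h
    rw [h, ← RingHom.ker_eq_comap_bot, Ideal.mk_ker] at hcomap
    exact hlt.ne hcomap
  have hht : 1 ≤ (q'.map (Ideal.Quotient.mk q)).height := by
    rw [Order.one_le_iff_ne_zero, Ne, Ideal.height_eq_zero_iff_eq_bot]
    exact hQne
  have hfin : Algebra.trdeg (A ⧸ p) (B ⧸ q) < Cardinal.aleph0 := trdeg_lt_aleph0_of_finiteType
  obtain ⟨n, hn⟩ := Cardinal.lt_aleph0.mp hfin
  have hle : Algebra.trdeg (A ⧸ p) (B ⧸ q') ≤ Algebra.trdeg (A ⧸ p) (B ⧸ q) := by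
    rw [← key]; exact le_add_self
  obtain ⟨m, hm⟩ := Cardinal.lt_aleph0.mp (lt_of_le_of_lt hle hfin)
  rw [hn, hm] at key ⊢
  have h1 : ((m + 1 : ℕ) : Cardinal.{u}) ≤ (n : Cardinal.{u}) := by
    rw [← key, add_comm]
    push_cast
    gcongr
    have : ((1 : ℕ∞) : Cardinal.{u}) ≤ ((q'.map (Ideal.Quotient.mk q)).height : Cardinal.{u}) := by
      exact_mod_cast hht
    simpa using this
  have h2 : m + 1 ≤ n := by exact_mod_cast h1
  exact_mod_cast Nat.lt_of_succ_le h2

end Groth.Agent.Helper14.GenFibFormula
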