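import Mathlib
import Groth.Agent.S2680
import Groth.Agent.Lib.Helper14.DimIneqGen
import Groth.Agent.Lib.Helper14.GenFibFormula
import Groth.Agent.Lib.Helper14.FieldSchemeBridge

/-!
# Dimension theory of finite type algebras over a field: heights of primes versus transcendence
degrees of residue rings (`δ(P) = trdeg k (S ⧸ P)`)
-/

namespace Groth.Agent.Helper14.LocalDimAlg

universe u

open Ideal Groth.Agent.Helper14

section

variable (k S : Type u) [Field k] [CommRing S] [Algebra k S] [Algebra.FiniteType k S]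

/-- for primes `Q ≤ P` of a finite type `k`-algebra: `ht (P/Q) + δ(P) = δ(Q)`. -/
theorem height_map_add_trdeg (Q P : Ideal S) [hQ : Q.IsPrime] [hP : P.IsPrime] (h : Q ≤ P) :
    ((P.map (Ideal.Quotient.mk Q)).height : Cardinal.{u}) + Algebra.trdeg k (S ⧸ P) =
      Algebra.trdeg k (S ⧸ Q) := by
  haveI : Q.LiesOver (⊥ : Ideal k) := FieldSchemeBridge.liesOver_bot k Q
  haveI : P.LiesOver (⊥ : Ideal k) := FieldSchemeBridge.liesOver_bot k P
  obtain ⟨hQp, hQlo, hcomap, htr⟩ := GenFibFormula.quotient_setup k S (⊥ : Ideal k) Q P h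
  haveI := hQp
  haveI := hQlo
  haveI : Algebra.FiniteType k (S ⧸ Q) := inferInstance
  haveI : Algebra.FiniteType (k ⧸ (⊥ : Ideal k)) (S ⧸ Q) :=
    Algebra.FiniteType.of_restrictScalars_finiteType k (k ⧸ (⊥ : Ideal k)) (S ⧸ Q)
  have key := GenFibFormula.height_add_trdeg_eq (k ⧸ (⊥ : Ideal k)) (S ⧸ Q)
    (P.map (Ideal.Quotient.mk Q))
  rw [← htr, FieldSchemeBridge.trdeg_quotient_base, FieldSchemeBridge.trdeg_quotient_base] at key
  exact key

/-- `ht (P/Q) ≤ ht P`. -/
theorem height_map_le {S : Type*} [CommRing S] (Q P : Ideal S) [hQ : Q.IsPrime] [hP : P.IsPrime] (h : Q ≤ P) :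
    (P.map (Ideal.Quotient.mk Q)).height ≤ P.height := by
  have hφ : Function.Surjective (Ideal.Quotient.mk Q) := Ideal.Quotient.mk_surjective
  haveI hmax : (P.map (Ideal.Quotient.mk Q)).IsPrime :=
    Ideal.map_isPrime_of_surjective hφ (by rw [Ideal.mk_ker]; exact h)
  have hcomap : (P.map (Ideal.Quotient.mk Q)).comap (Ideal.Quotient.mk Q) = P := by
    rw [Ideal.comap_map_of_surjective' _ hφ, Ideal.mk_ker]
    exact sup_eq_left.mpr h
  have := DimIneq.height_le_height_comap (Ideal.Quotient.mk Q) hφ (P.map (Ideal.Quotient.mk Q))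
  rwa [hcomap] at this

/-- the residue ring at a maximal ideal has transcendence degree zero. -/
theorem trdeg_quotient_maximal (m : Ideal S) [hm : m.IsMaximal] : Algebra.trdeg k (S ⧸ m) = 0 := by
  letI : Field (S ⧸ m) := Ideal.Quotient.field m
  haveI : Algebra.FiniteType k (S ⧸ m) := inferInstance
  haveI : Module.Finite k (S ⧸ m) := finite_of_finite_type_of_isJacobsonRing k (S ⧸ m)
  haveI : Algebra.IsAlgebraic k (S ⧸ m) := Algebra.IsAlgebraic.of_finite k (S ⧸ m)
  exact _root_.trdeg_eq_zero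

/-- every maximal ideal over `p` has height at least `ht p + δ(p)`. -/
theorem height_add_trdeg_le_height_maximal (p m : Ideal S) [hp : p.IsPrime] [hm : m.IsMaximal]
    (h : p ≤ m) : (p.height : Cardinal.{u}) + Algebra.trdeg k (S ⧸ p) ≤ m.height := by
  haveI : IsNoetherianRing S := Algebra.FiniteType.isNoetherianRing k S
  obtain ⟨Q, hQp, hQmin, hQq, hht⟩ := DimIneqGen.exists_minimalPrime_height_le S p
  haveI := hQp
  have h1 := height_map_add_trdeg k S Q p hQq
  have h2 := height_map_add_trdeg k S Q m (hQq.trans h)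
  rw [trdeg_quotient_maximal, add_zero] at h2
  have h3 := height_map_le Q m (hQq.trans h)
  calc (p.height : Cardinal.{u}) + Algebra.trdeg k (S ⧸ p)
      ≤ ((p.map (Ideal.Quotient.mk Q)).height : Cardinal.{u}) + Algebra.trdeg k (S ⧸ p) := by
        gcongr
    _ = ((m.map (Ideal.Quotient.mk Q)).height : Cardinal.{u}) := by rw [h1, h2]
    _ ≤ m.height := Cardinal.ofENat_le_ofENat.mpr h3

/-- an element outside `p` lying in every minimal prime not contained in `p`. -/
theorem exists_avoid {S : Type*} [CommRing S] [IsNoetherianRing S] (p : Ideal S) [hp : p.IsPrime] :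
    ∃ g : S, g ∉ p ∧ ∀ Q ∈ minimalPrimes S, g ∉ Q → Q ≤ p := by
  classical
  have hfin : (minimalPrimes S).Finite := minimalPrimes.finite_of_isNoetherianRing S
  let F : Finset (Ideal S) := hfin.toFinset.filter (fun Q => ¬ Q ≤ p)
  have hnot : ¬ (F.inf id ≤ p) := by
    intro hle
    obtain ⟨Q, hQF, hQp⟩ := (Ideal.IsPrime.inf_le' hp).mp hle
    rw [Finset.mem_filter] at hQF
    exact hQF.2 hQp
  obtain ⟨g, hgF, hgp⟩ := SetLike.not_le_iff_exists.mp hnot
  refine ⟨g, hgp, fun Q hQ hgQ => ?_⟩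
  by_contra hQp
  have hQF : Q ∈ F := by
    rw [Finset.mem_filter]
    exact ⟨hfin.mem_toFinset.mpr hQ, hQp⟩
  have : F.inf id ≤ Q := Finset.inf_le (f := id) hQF
  exact hgQ (this hgF)

/-- if `g` lies in every minimal prime not contained in `p`, all primes avoiding `g` have height
at most `ht p + δ(p)`. -/
theorem height_le_of_avoid (p : Ideal S) [hp : p.IsPrime] (g : S)
    (hg : ∀ Q ∈ minimalPrimes S, g ∉ Q → Q ≤ p) (P : Ideal S) [hP : P.IsPrime] (hgP : g ∉ P) :
    (P.height : Cardinal.{u}) ≤ p.height + Algebra.trdeg k (S ⧸ p) := by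
  haveI : IsNoetherianRing S := Algebra.FiniteType.isNoetherianRing k S
  obtain ⟨Q, hQp, hQmin, hQP, hht⟩ := DimIneqGen.exists_minimalPrime_height_le S P
  haveI := hQp
  have hQle : Q ≤ p := hg Q hQmin (fun hgQ => hgP (hQP hgQ))
  have h1 := height_map_add_trdeg k S Q P hQP
  have h2 := height_map_add_trdeg k S Q p hQle
  have h3 := height_map_le Q p hQle
  calc (P.height : Cardinal.{u}) ≤ ((P.map (Ideal.Quotient.mk Q)).height : Cardinal.{u}) :=
        Cardinal.ofENat_le_ofENat.mpr hht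
    _ ≤ ((P.map (Ideal.Quotient.mk Q)).height : Cardinal.{u}) + Algebra.trdeg k (S ⧸ P) :=
        le_self_add
    _ = ((p.map (Ideal.Quotient.mk Q)).height : Cardinal.{u}) + Algebra.trdeg k (S ⧸ p) := by
        rw [h1, h2]
    _ ≤ p.height + Algebra.trdeg k (S ⧸ p) := by
        gcongr

end

end Groth.Agent.Helper14.LocalDimAlg
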