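import Mathlib
import Groth.Prelude.Def_Flat
import Groth.Agent.Lib.Helper14.LocalDimAlg

/-!
# Local dimension of schemes locally of finite type over a field
-/

namespace Groth.Agent.Helper14.LocalDimSch

universe u

open AlgebraicGeometry CategoryTheory TopologicalSpace Groth.Agent.Helper14

theorem topDim_eq {X : Scheme.{u}} : topologicalKrullDim X = Order.krullDim X := by
  unfold topologicalKrullDim
  exact Order.krullDim_eq_of_orderIso irreducibleSetEquivPoints

/-- the dimension of a scheme is the supremum of the dimensions of its local rings. -/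
theorem dim_eq_iSup_stalk {X : Scheme.{u}} :
    topologicalKrullDim X = ⨆ x : X, ringKrullDim (X.presheaf.stalk x) := by
  rw [topDim_eq, Order.krullDim_eq_iSup_coheight]
  refine iSup_congr fun x => ?_
  rw [AlgebraicGeometry.ringKrullDim_stalk_eq_coheight]

/-- the dimension of an open subset of a scheme is the supremum of the dimensions of the local
rings at its points. -/
theorem dim_opens {X : Scheme.{u}} (U : X.Opens) :
    topologicalKrullDim (U : Set X) = ⨆ x : U, ringKrullDim (X.presheaf.stalk x.1) := by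
  have h1 : topologicalKrullDim (U : Set X) = topologicalKrullDim (U.toScheme) := rfl
  rw [h1, dim_eq_iSup_stalk]
  refine iSup_congr fun x => ?_
  exact ringKrullDim_eq_of_ringEquiv (U.stalkIso x).commRingCatIsoToRingEquiv

theorem dim_opens_le {X : Scheme.{u}} (U : X.Opens) (d : WithBot ℕ∞)
    (h : ∀ x ∈ U, ringKrullDim (X.presheaf.stalk x) ≤ d) :
    topologicalKrullDim (U : Set X) ≤ d := by
  rw [dim_opens]
  exact iSup_le fun x => h x.1 x.2

theorem stalk_le_dim_opens {X : Scheme.{u}} (U : X.Opens) (x : X) (hx : x ∈ U) :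
    ringKrullDim (X.presheaf.stalk x) ≤ topologicalKrullDim (U : Set X) := by
  rw [dim_opens]
  exact le_iSup (fun x : U => ringKrullDim (X.presheaf.stalk x.1)) ⟨x, hx⟩


/-- membership in a basic open of an affine open in terms of the prime ideal. -/
theorem mem_basicOpen_iff {X : Scheme.{u}} {W : X.Opens} (hW : IsAffineOpen W) (g : Γ(X, W))
    (z : X) (hz : z ∈ W) :
    z ∈ X.basicOpen g ↔ g ∉ (hW.primeIdealOf ⟨z, hz⟩).asIdeal := by
  have h1 : hW.fromSpec (hW.primeIdealOf ⟨z, hz⟩) = z := hW.fromSpec_primeIdealOf ⟨z, hz⟩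
  have h2 : hW.primeIdealOf ⟨z, hz⟩ ∈ hW.fromSpec ⁻¹ᵁ X.basicOpen g ↔
      hW.primeIdealOf ⟨z, hz⟩ ∈ PrimeSpectrum.basicOpen g := by
    rw [hW.fromSpec_preimage_basicOpen]
    rfl
  rw [← PrimeSpectrum.mem_basicOpen, ← h2]
  change _ ↔ hW.fromSpec (hW.primeIdealOf ⟨z, hz⟩) ∈ X.basicOpen g
  rw [h1]

/-- cast helper. -/
theorem cast_le {h₁ h₂ : ℕ∞} {a : ℕ} (h : (h₁ : Cardinal.{u}) ≤ (h₂ : Cardinal.{u}) + (a : Cardinal.{u})) :
    (h₁ : WithBot ℕ∞) ≤ (h₂ : WithBot ℕ∞) + (a : WithBot ℕ∞) := by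
  have h' : (h₁ : Cardinal.{u}) ≤ ((h₂ + (a : ℕ∞) : ℕ∞) : Cardinal.{u}) := by
    rw [Cardinal.ofENat_add]
    simpa using h
  have := Cardinal.ofENat_le_ofENat.mp h'
  exact_mod_cast this

theorem cast_le' {h₁ h₂ : ℕ∞} {a : ℕ} (h : (h₂ : Cardinal.{u}) + (a : Cardinal.{u}) ≤ (h₁ : Cardinal.{u})) :
    (h₂ : WithBot ℕ∞) + (a : WithBot ℕ∞) ≤ (h₁ : WithBot ℕ∞) := by
  have h' : ((h₂ + (a : ℕ∞) : ℕ∞) : Cardinal.{u}) ≤ (h₁ : Cardinal.{u}) := by
    rw [Cardinal.ofENat_add]
    simpa using h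
  have := Cardinal.ofENat_le_ofENat.mp h'
  exact_mod_cast this

/-- **Local dimension of a scheme locally of finite type over a field**:
`dim_x X = dim O_{X,x} + trdeg_k κ(x)`. -/
theorem localDim_eq (k : Type u) [Field k] (X : Scheme.{u}) [X.Over (Spec (CommRingCat.of k))]
    [LocallyOfFiniteType (X ↘ Spec (CommRingCat.of k))] (x : X) (a : ℕ)
    (ha : @Algebra.trdeg k (X.residueField x) _ _ (Curv2.resAlgebra k X x) = a) :
    FlatMor.localDim X x = ringKrullDim (X.presheaf.stalk x) + (a : WithBot ℕ∞) := by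
  apply le_antisymm
  · obtain ⟨W, hW, hxW, -⟩ :=
      exists_isAffineOpen_mem_and_subset (X := X) (x := x) (U := ⊤) trivial
    letI alg : Algebra k Γ(X, W) := (FieldSchemeBridge.kU k X W).toAlgebra
    have halg : algebraMap k Γ(X, W) = FieldSchemeBridge.kU k X W := rfl
    haveI : Algebra.FiniteType k Γ(X, W) := FieldSchemeBridge.kU_finiteType k X hW
    haveI : IsNoetherianRing Γ(X, W) := Algebra.FiniteType.isNoetherianRing k _
    haveI hpp : (hW.primeIdealOf ⟨x, hxW⟩).asIdeal.IsPrime := (hW.primeIdealOf ⟨x, hxW⟩).isPrime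
    haveI : (hW.primeIdealOf ⟨x, hxW⟩).asIdeal.LiesOver (⊥ : Ideal k) :=
      FieldSchemeBridge.liesOver_bot k _
    have hδ : Algebra.trdeg k (Γ(X, W) ⧸ (hW.primeIdealOf ⟨x, hxW⟩).asIdeal) = a := by
      rw [← ha, FieldSchemeBridge.trdeg_resAlgebra_eq k X hW x hxW halg _ rfl,
        FieldSchemeBridge.trdeg_quotient_base]
    obtain ⟨g, hgp, hg⟩ := LocalDimAlg.exists_avoid (hW.primeIdealOf ⟨x, hxW⟩).asIdeal
    have hxU : x ∈ X.basicOpen g := (mem_basicOpen_iff hW g x hxW).mpr hgp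
    have h1 : FlatMor.localDim X x ≤ topologicalKrullDim ((X.basicOpen g : X.Opens) : Set X) := by
      unfold FlatMor.localDim
      exact iInf_le _ (⟨X.basicOpen g, hxU⟩ : {U : Opens X // x ∈ U})
    refine h1.trans (dim_opens_le _ _ fun z hz => ?_)
    have hzW : z ∈ W := X.basicOpen_le g hz
    rw [ResFieldBridge.ringKrullDim_stalk hW z hzW, ResFieldBridge.ringKrullDim_stalk hW x hxW]
    haveI : (hW.primeIdealOf ⟨z, hzW⟩).asIdeal.IsPrime := (hW.primeIdealOf ⟨z, hzW⟩).isPrime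
    have := LocalDimAlg.height_le_of_avoid k Γ(X, W) (hW.primeIdealOf ⟨x, hxW⟩).asIdeal g hg
      (hW.primeIdealOf ⟨z, hzW⟩).asIdeal ((mem_basicOpen_iff hW g z hzW).mp hz)
    rw [hδ] at this
    exact cast_le this
  · unfold FlatMor.localDim
    refine le_iInf ?_
    rintro ⟨U, hxU⟩
    obtain ⟨W, hW, hxW, hWU⟩ :=
      exists_isAffineOpen_mem_and_subset (X := X) (x := x) (U := U) hxU
    letI alg : Algebra k Γ(X, W) := (FieldSchemeBridge.kU k X W).toAlgebra
    have halg : algebraMap k Γ(X, W) = FieldSchemeBridge.kU k X W := rfl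
    haveI : Algebra.FiniteType k Γ(X, W) := FieldSchemeBridge.kU_finiteType k X hW
    haveI : IsNoetherianRing Γ(X, W) := Algebra.FiniteType.isNoetherianRing k _
    haveI hpp : (hW.primeIdealOf ⟨x, hxW⟩).asIdeal.IsPrime := (hW.primeIdealOf ⟨x, hxW⟩).isPrime
    haveI : (hW.primeIdealOf ⟨x, hxW⟩).asIdeal.LiesOver (⊥ : Ideal k) :=
      FieldSchemeBridge.liesOver_bot k _
    have hδ : Algebra.trdeg k (Γ(X, W) ⧸ (hW.primeIdealOf ⟨x, hxW⟩).asIdeal) = a := by
      rw [← ha, FieldSchemeBridge.trdeg_resAlgebra_eq k X hW x hxW halg _ rfl,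
        FieldSchemeBridge.trdeg_quotient_base]
    obtain ⟨m, hm, hpm⟩ := Ideal.exists_le_maximal (hW.primeIdealOf ⟨x, hxW⟩).asIdeal hpp.ne_top
    have hzW : hW.fromSpec ⟨m, hm.isPrime⟩ ∈ W := ResFieldBridge.fromSpec_mem hW _
    refine le_trans ?_ (stalk_le_dim_opens U (hW.fromSpec ⟨m, hm.isPrime⟩) (hWU hzW))
    rw [ResFieldBridge.ringKrullDim_stalk hW _ hzW, ResFieldBridge.primeIdealOf_fromSpec,
      ResFieldBridge.ringKrullDim_stalk hW x hxW]
    have := LocalDimAlg.height_add_trdeg_le_height_maximal k Γ(X, W)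
      (hW.primeIdealOf ⟨x, hxW⟩).asIdeal m hpm
    rw [hδ] at this
    exact cast_le' this

end Groth.Agent.Helper14.LocalDimSch
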