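import Mathlib
import Groth.Prelude.Def_Flat
import Groth.Agent.Lib.Helper14.LocalDimSch

/-!
# Local dimension of the prime spectrum of a finite type algebra over a field
-/

namespace Groth.Agent.Helper14.LocalDimSpec

universe u

open AlgebraicGeometry CategoryTheory TopologicalSpace Groth.Agent.Helper14

/-- the dimension of an open subset of a prime spectrum is the supremum of the heights of its
points. -/
theorem dim_opens (S : Type u) [CommRing S] (U : Opens (PrimeSpectrum S)) :
    topologicalKrullDim (U : Set (PrimeSpectrum S)) =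
      ⨆ P : U, ((P.1.asIdeal.height : ℕ∞) : WithBot ℕ∞) := by
  have h := LocalDimSch.dim_opens (X := Spec (CommRingCat.of S)) U
  refine h.trans (iSup_congr fun P => ?_)
  rw [AlgebraicGeometry.ringKrullDim_stalk_eq_coheight,
    ← AlgebraicGeometry.idealHeight_eq_coheight]

theorem dim_opens_le (S : Type u) [CommRing S] (U : Opens (PrimeSpectrum S)) (d : WithBot ℕ∞)
    (h : ∀ P ∈ U, ((P.asIdeal.height : ℕ∞) : WithBot ℕ∞) ≤ d) :
    topologicalKrullDim (U : Set (PrimeSpectrum S)) ≤ d := by
  rw [dim_opens]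
  exact iSup_le fun P => h P.1 P.2

theorem height_le_dim_opens (S : Type u) [CommRing S] (U : Opens (PrimeSpectrum S))
    (P : PrimeSpectrum S) (hP : P ∈ U) :
    ((P.asIdeal.height : ℕ∞) : WithBot ℕ∞) ≤ topologicalKrullDim (U : Set (PrimeSpectrum S)) := by
  rw [dim_opens]
  exact le_iSup (fun P : U => ((P.1.asIdeal.height : ℕ∞) : WithBot ℕ∞)) ⟨P, hP⟩

/-- `trdeg k κ(p) = trdeg k (S ⧸ p)`. -/
theorem trdeg_residueField (k S : Type u) [Field k] [CommRing S] [Algebra k S] (p : Ideal S)
    [p.IsPrime] : Algebra.trdeg k p.ResidueField = Algebra.trdeg k (S ⧸ p) := by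
  haveI : Algebra.IsAlgebraic (S ⧸ p) p.ResidueField :=
    IsLocalization.isAlgebraic p.ResidueField (nonZeroDivisors (S ⧸ p))
  haveI : FaithfulSMul k (S ⧸ p) := inferInstance
  haveI : FaithfulSMul (S ⧸ p) p.ResidueField :=
    (faithfulSMul_iff_algebraMap_injective _ _).mpr (IsFractionRing.injective _ _)
  have t := _root_.trdeg_add_eq k (S ⧸ p) (A := p.ResidueField)
  have z : Algebra.trdeg (S ⧸ p) p.ResidueField = 0 := _root_.trdeg_eq_zero
  rw [z, add_zero] at t
  exact t.symm

section

variable (k S : Type u) [Field k] [CommRing S] [Algebra k S] [Algebra.FiniteType k S]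

/-- in a finite type algebra over a field, an element outside a prime `p` lies outside some maximal
ideal containing `p`. -/
theorem exists_maximal_not_mem {S : Type*} [CommRing S] [hJ : IsJacobsonRing S] (p : Ideal S)
    [hp : p.IsPrime] (f : S) (hf : f ∉ p) :
    ∃ m : Ideal S, m.IsMaximal ∧ p ≤ m ∧ f ∉ m := by
  have hj : p.jacobson = p := hJ.out' p hp.isRadical
  have hf' : f ∉ p.jacobson := by rwa [hj]
  rw [Ideal.jacobson, Ideal.mem_sInf] at hf'
  push Not at hf'
  obtain ⟨m, ⟨hpm, hm⟩, hfm⟩ := hf'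
  exact ⟨m, hm, hpm, hfm⟩

/-- **Local dimension of `Spec S` at `p`** for a finite type `k`-algebra. -/
theorem localDim_eq (p : Ideal S) [hp : p.IsPrime] (r : ℕ) (hr : Algebra.trdeg k (S ⧸ p) = r) :
    FlatMor.localDim (PrimeSpectrum S) ⟨p, hp⟩ =
      ((p.height : ℕ∞) : WithBot ℕ∞) + (r : WithBot ℕ∞) := by
  haveI : IsNoetherianRing S := Algebra.FiniteType.isNoetherianRing k S
  apply le_antisymm
  · obtain ⟨g, hgp, hg⟩ := LocalDimAlg.exists_avoid p
    have hxU : (⟨p, hp⟩ : PrimeSpectrum S) ∈ PrimeSpectrum.basicOpen g := hgp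
    have h1 : FlatMor.localDim (PrimeSpectrum S) ⟨p, hp⟩ ≤
        topologicalKrullDim ((PrimeSpectrum.basicOpen g : Opens (PrimeSpectrum S)) :
          Set (PrimeSpectrum S)) := by
      unfold FlatMor.localDim
      exact iInf_le _ (⟨PrimeSpectrum.basicOpen g, hxU⟩ :
        {U : Opens (PrimeSpectrum S) // (⟨p, hp⟩ : PrimeSpectrum S) ∈ U})
    refine h1.trans (dim_opens_le S _ _ fun P hP => ?_)
    haveI := P.isPrime
    have := LocalDimAlg.height_le_of_avoid k S p g hg P.asIdeal hP
    rw [hr] at this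
    exact LocalDimSch.cast_le this
  · unfold FlatMor.localDim
    refine le_iInf ?_
    rintro ⟨U, hxU⟩
    obtain ⟨_, ⟨_, ⟨f, rfl⟩, rfl⟩, hpf, hfU⟩ :=
      PrimeSpectrum.isBasis_basic_opens.exists_subset_of_mem_open hxU U.isOpen
    haveI : IsJacobsonRing S := isJacobsonRing_of_finiteType (A := k)
    obtain ⟨m, hm, hpm, hfm⟩ := exists_maximal_not_mem p f hpf
    have hmU : (⟨m, hm.isPrime⟩ : PrimeSpectrum S) ∈ U := hfU hfm
    refine le_trans ?_ (height_le_dim_opens S U ⟨m, hm.isPrime⟩ hmU)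
    have := LocalDimAlg.height_add_trdeg_le_height_maximal k S p m hpm
    rw [hr] at this
    exact LocalDimSch.cast_le' this

end

end Groth.Agent.Helper14.LocalDimSpec
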