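import Mathlib
import Groth.Prelude.Def_Flat
import Groth.Agent.Lib.Helper14.LocalDimSpec

/-!
# Affine charts of scheme-theoretic fibres

For `f : X ⟶ Y`, affine opens `U ≤ f ⁻¹ᵁ V` with `A = Γ(Y, V)`, `B = Γ(X, U)` and a prime `p` of
`A` with point `y = hV.fromSpec p`, we construct an open embedding
`chart : PrimeSpectrum (κ(p) ⊗[A] B) → f.fiber y`
and deduce the dimension of the local rings and the local dimension of the fibre on this chart.
-/

namespace Groth.Agent.Helper14.FibreChart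

universe u

open AlgebraicGeometry CategoryTheory TopologicalSpace Topology Groth.Agent.Helper14

/-- local dimension is invariant under open embeddings. -/
theorem localDim_openEmbedding {S T : Type*} [TopologicalSpace S] [TopologicalSpace T] (j : S → T)
    (hj : IsOpenEmbedding j) (s : S) : FlatMor.localDim T (j s) = FlatMor.localDim S s := by
  unfold FlatMor.localDim
  apply le_antisymm
  · refine le_iInf ?_
    rintro ⟨W', hsW'⟩
    let W : Opens T := ⟨j '' (W' : Set S), hj.isOpenMap _ W'.isOpen⟩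
    have hW : j s ∈ W := ⟨s, hsW', rfl⟩
    refine (iInf_le _ (⟨W, hW⟩ : {W : Opens T // j s ∈ W})).trans ?_
    have h := (hj.isEmbedding.homeomorphImage (W' : Set S)).symm.isInducing.topologicalKrullDim_le
    exact h
  · refine le_iInf ?_
    rintro ⟨W, hsW⟩
    let W' : Opens S := ⟨j ⁻¹' (W : Set T), W.isOpen.preimage hj.continuous⟩
    have hW' : s ∈ W' := hsW
    refine (iInf_le _ (⟨W', hW'⟩ : {W : Opens S // s ∈ W})).trans ?_
    have hind : IsInducing (fun w : (W' : Set S) => (⟨j w.1, w.2⟩ : (W : Set T))) := by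
      have h1 : IsInducing (fun w : (W' : Set S) => j w.1) :=
        hj.isInducing.comp IsInducing.subtypeVal
      exact IsInducing.of_comp (by fun_prop) continuous_subtype_val h1
    exact hind.topologicalKrullDim_le

section

variable {X Y : Scheme.{u}} (f : X ⟶ Y) {U : X.Opens} (hU : IsAffineOpen U) {V : Y.Opens}
  (hV : IsAffineOpen V) (e : U ≤ f ⁻¹ᵁ V) [Algebra Γ(Y, V) Γ(X, U)]
  (halg : algebraMap Γ(Y, V) Γ(X, U) = (f.appLE V U e).hom)

include halg in
/-- `f` on the chart is the comap. -/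
theorem map_fromSpec (P : PrimeSpectrum Γ(X, U)) :
    f (hU.fromSpec P) = hV.fromSpec (PrimeSpectrum.comap (algebraMap Γ(Y, V) Γ(X, U)) P) := by
  have h1 := IsAffineOpen.SpecMap_appLE_fromSpec f hV hU e
  have h2 : f (hU.fromSpec P) = hV.fromSpec ((Spec.map (f.appLE V U e)) P) := by
    rw [← Scheme.Hom.comp_apply, ← Scheme.Hom.comp_apply, h1]
  rw [h2, halg]
  rfl


variable (p : PrimeSpectrum Γ(Y, V))

include halg in
/-- the set-theoretic fibre on the chart. -/
theorem mem_preimage_iff (P : PrimeSpectrum Γ(X, U)) :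
    P ∈ PrimeSpectrum.comap (algebraMap Γ(Y, V) Γ(X, U)) ⁻¹' {p} ↔
      hU.fromSpec P ∈ (f : X → Y) ⁻¹' {hV.fromSpec p} := by
  rw [Set.mem_preimage, Set.mem_singleton_iff, Set.mem_preimage, Set.mem_singleton_iff,
    map_fromSpec f hU hV e halg]
  exact (hV.fromSpec.isOpenEmbedding.injective.eq_iff).symm

/-- the chart into the set-theoretic fibre. -/
noncomputable def chartSet :
    (PrimeSpectrum.comap (algebraMap Γ(Y, V) Γ(X, U)) ⁻¹' {p} : Set (PrimeSpectrum Γ(X, U))) →
      ((f : X → Y) ⁻¹' {hV.fromSpec p} : Set X) :=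
  fun P => ⟨hU.fromSpec P.1, (mem_preimage_iff f hU hV e halg p P.1).mp P.2⟩

theorem chartSet_isOpenEmbedding : IsOpenEmbedding (chartSet f hU hV e halg p) := by
  have hset : PrimeSpectrum.comap (algebraMap Γ(Y, V) Γ(X, U)) ⁻¹' {p} =
      (hU.fromSpec : PrimeSpectrum Γ(X, U) → X) ⁻¹' ((f : X → Y) ⁻¹' {hV.fromSpec p}) :=
    Set.ext (mem_preimage_iff f hU hV e halg p)
  have h1 := Set.restrictPreimage_isOpenEmbedding ((f : X → Y) ⁻¹' {hV.fromSpec p})
    hU.fromSpec.isOpenEmbedding
  have h2 := (Homeomorph.setCongr hset).isOpenEmbedding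
  exact h1.comp h2

/-- **The chart** of the scheme-theoretic fibre. -/
noncomputable def chart (Q : PrimeSpectrum (p.asIdeal.Fiber Γ(X, U))) : f.fiber (hV.fromSpec p) :=
  (f.fiberHomeo (hV.fromSpec p)).symm (chartSet f hU hV e halg p
    ((PrimeSpectrum.preimageHomeomorphFiber Γ(Y, V) Γ(X, U) p).symm Q))

theorem chart_isOpenEmbedding : IsOpenEmbedding (chart f hU hV e halg p) :=
  (f.fiberHomeo (hV.fromSpec p)).symm.isOpenEmbedding.comp
    ((chartSet_isOpenEmbedding f hU hV e halg p).comp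
      (PrimeSpectrum.preimageHomeomorphFiber Γ(Y, V) Γ(X, U) p).symm.isOpenEmbedding)

theorem fiberι_chart (Q : PrimeSpectrum (p.asIdeal.Fiber Γ(X, U))) :
    f.fiberι (hV.fromSpec p) (chart f hU hV e halg p Q) =
      hU.fromSpec (PrimeSpectrum.comap Algebra.TensorProduct.includeRight.toRingHom Q) := by
  unfold chart
  rw [Scheme.Hom.fiberι_fiberHomeo_symm]
  rfl


/-- **Dimension of the local ring of the fibre** on the chart. -/
theorem ringKrullDim_stalk_chart (Q : PrimeSpectrum (p.asIdeal.Fiber Γ(X, U))) :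
    ringKrullDim ((f.fiber (hV.fromSpec p)).presheaf.stalk (chart f hU hV e halg p Q)) =
      ((Q.asIdeal.height : ℕ∞) : WithBot ℕ∞) := by
  rw [AlgebraicGeometry.ringKrullDim_stalk_eq_coheight]
  have h1 := Topology.IsOpenEmbedding.coheight_eq
    (X := ↥(Spec (CommRingCat.of (p.asIdeal.Fiber Γ(X, U)))))
    (Y := ↥(f.fiber (hV.fromSpec p))) (x := Q) (chart f hU hV e halg p)
    (chart_isOpenEmbedding f hU hV e halg p)
  have h2 := AlgebraicGeometry.idealHeight_eq_coheight
    (CommRingCat.of (p.asIdeal.Fiber Γ(X, U))) Q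
  rw [h2]
  exact congrArg _ h1

/-- **Local dimension of the fibre** on the chart. -/
theorem localDim_chart (Q : PrimeSpectrum (p.asIdeal.Fiber Γ(X, U))) :
    FlatMor.localDim (f.fiber (hV.fromSpec p)) (chart f hU hV e halg p Q) =
      FlatMor.localDim (PrimeSpectrum (p.asIdeal.Fiber Γ(X, U))) Q :=
  localDim_openEmbedding _ (chart_isOpenEmbedding f hU hV e halg p) Q

end

section transport

variable {X Y : Scheme.{u}} (f : X ⟶ Y)

theorem stalk_asFiber_congr (x : X) (y : Y) (h : f x = y) :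
    ringKrullDim ((f.fiber (f x)).presheaf.stalk (f.asFiber x)) =
      ringKrullDim ((f.fiber y).presheaf.stalk ((f.fiberHomeo y).symm ⟨x, h⟩)) := by
  subst h
  rfl

theorem localDim_asFiber_congr (x : X) (y : Y) (h : f x = y) :
    FlatMor.fibreDimAt f x = FlatMor.localDim (f.fiber y) ((f.fiberHomeo y).symm ⟨x, h⟩) := by
  subst h
  rfl

end transport

section point

variable {X Y : Scheme.{u}} (f : X ⟶ Y) {U : X.Opens} (hU : IsAffineOpen U) {V : Y.Opens}
  (hV : IsAffineOpen V) (e : U ≤ f ⁻¹ᵁ V) [Algebra Γ(Y, V) Γ(X, U)]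
  (halg : algebraMap Γ(Y, V) Γ(X, U) = (f.appLE V U e).hom) (x : X) (hx : x ∈ U)

include halg in
theorem primeIdealOf_mem :
    hU.primeIdealOf ⟨x, hx⟩ ∈ PrimeSpectrum.comap (algebraMap Γ(Y, V) Γ(X, U)) ⁻¹'
      {hV.primeIdealOf ⟨f x, e hx⟩} := by
  rw [Set.mem_preimage, Set.mem_singleton_iff, halg]
  exact IsAffineOpen.comap_primeIdealOf_appLE V hV U hU e hx

/-- the prime of the fibre ring `κ(p) ⊗ B` attached to a point `x` of the chart. -/
noncomputable def fibPrime :
    PrimeSpectrum ((hV.primeIdealOf ⟨f x, e hx⟩).asIdeal.Fiber Γ(X, U)) :=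
  PrimeSpectrum.preimageHomeomorphFiber Γ(Y, V) Γ(X, U) (hV.primeIdealOf ⟨f x, e hx⟩)
    ⟨hU.primeIdealOf ⟨x, hx⟩, primeIdealOf_mem f hU hV e halg x hx⟩

theorem comap_fibPrime :
    PrimeSpectrum.comap Algebra.TensorProduct.includeRight.toRingHom
      (fibPrime f hU hV e halg x hx) = hU.primeIdealOf ⟨x, hx⟩ := by
  have := (PrimeSpectrum.preimageHomeomorphFiber Γ(Y, V) Γ(X, U)
    (hV.primeIdealOf ⟨f x, e hx⟩)).symm_apply_apply
      ⟨hU.primeIdealOf ⟨x, hx⟩, primeIdealOf_mem f hU hV e halg x hx⟩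
  exact congrArg Subtype.val this

theorem chart_fibPrime :
    chart f hU hV e halg (hV.primeIdealOf ⟨f x, e hx⟩) (fibPrime f hU hV e halg x hx) =
      (f.fiberHomeo (hV.fromSpec (hV.primeIdealOf ⟨f x, e hx⟩))).symm
        ⟨x, (hV.fromSpec_primeIdealOf ⟨f x, e hx⟩).symm⟩ := by
  unfold chart fibPrime
  rw [Homeomorph.symm_apply_apply]
  congr 1
  exact Subtype.ext (hU.fromSpec_primeIdealOf ⟨x, hx⟩)

/-- **Dimension of the local ring of the fibre at a point**, in terms of the fibre ring. -/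
theorem ringKrullDim_fibre_stalk :
    ringKrullDim ((f.fiber (f x)).presheaf.stalk (f.asFiber x)) =
      (((fibPrime f hU hV e halg x hx).asIdeal.height : ℕ∞) : WithBot ℕ∞) := by
  rw [stalk_asFiber_congr f x _ (hV.fromSpec_primeIdealOf ⟨f x, e hx⟩).symm,
    ← chart_fibPrime f hU hV e halg x hx, ringKrullDim_stalk_chart]

/-- **Local dimension of the fibre at a point**, in terms of the fibre ring. -/
theorem fibreDimAt_eq :
    FlatMor.fibreDimAt f x =
      FlatMor.localDim (PrimeSpectrum ((hV.primeIdealOf ⟨f x, e hx⟩).asIdeal.Fiber Γ(X, U)))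
        (fibPrime f hU hV e halg x hx) := by
  rw [localDim_asFiber_congr f x _ (hV.fromSpec_primeIdealOf ⟨f x, e hx⟩).symm,
    ← chart_fibPrime f hU hV e halg x hx, localDim_chart]

end point

section chartpoint

variable {X Y : Scheme.{u}} (f : X ⟶ Y) {U : X.Opens} (hU : IsAffineOpen U) {V : Y.Opens}
  (hV : IsAffineOpen V) (e : U ≤ f ⁻¹ᵁ V) [Algebra Γ(Y, V) Γ(X, U)]
  (halg : algebraMap Γ(Y, V) Γ(X, U) = (f.appLE V U e).hom) (p : PrimeSpectrum Γ(Y, V))
  (Q : PrimeSpectrum (p.asIdeal.Fiber Γ(X, U)))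

theorem comap_comap_includeRight :
    PrimeSpectrum.comap (algebraMap Γ(Y, V) Γ(X, U))
      (PrimeSpectrum.comap Algebra.TensorProduct.includeRight.toRingHom Q) = p :=
  ((PrimeSpectrum.preimageHomeomorphFiber Γ(Y, V) Γ(X, U) p).symm Q).2

include halg in
theorem map_fromSpec_comap :
    f (hU.fromSpec (PrimeSpectrum.comap Algebra.TensorProduct.includeRight.toRingHom Q)) =
      hV.fromSpec p := by
  rw [map_fromSpec f hU hV e halg, comap_comap_includeRight]

include halg in
theorem mem_fibre :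
    hU.fromSpec (PrimeSpectrum.comap Algebra.TensorProduct.includeRight.toRingHom Q) ∈
      (f : X → Y) ⁻¹' {hV.fromSpec p} := by
  rw [Set.mem_preimage, Set.mem_singleton_iff]
  exact map_fromSpec_comap f hU hV e halg p Q

theorem chart_eq (z : X)
    (hz : z = hU.fromSpec (PrimeSpectrum.comap Algebra.TensorProduct.includeRight.toRingHom Q))
    (hm : z ∈ (f : X → Y) ⁻¹' {hV.fromSpec p}) :
    chart f hU hV e halg p Q = (f.fiberHomeo (hV.fromSpec p)).symm ⟨z, hm⟩ := by
  apply (f.fiberHomeo (hV.fromSpec p)).injective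
  rw [Homeomorph.apply_symm_apply]
  apply Subtype.ext
  rw [Scheme.Hom.fiberHomeo_apply, fiberι_chart]
  exact hz.symm

include hV e halg in
/-- dimension of the local ring of the fibre at the point of a prime of the fibre ring. -/
theorem ringKrullDim_fibre_stalk_fromSpec (z : X)
    (hz : z = hU.fromSpec (PrimeSpectrum.comap Algebra.TensorProduct.includeRight.toRingHom Q)) :
    ringKrullDim ((f.fiber (f z)).presheaf.stalk (f.asFiber z)) =
      ((Q.asIdeal.height : ℕ∞) : WithBot ℕ∞) := by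
  have hm : z ∈ (f : X → Y) ⁻¹' {hV.fromSpec p} := by
    rw [hz]; exact mem_fibre f hU hV e halg p Q
  rw [stalk_asFiber_congr f z _ hm, ← chart_eq f hU hV e halg p Q z hz hm,
    ringKrullDim_stalk_chart]

include hV e halg in
/-- local dimension of the fibre at the point of a prime of the fibre ring. -/
theorem fibreDimAt_fromSpec (z : X)
    (hz : z = hU.fromSpec (PrimeSpectrum.comap Algebra.TensorProduct.includeRight.toRingHom Q)) :
    FlatMor.fibreDimAt f z = FlatMor.localDim (PrimeSpectrum (p.asIdeal.Fiber Γ(X, U))) Q := by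
  have hm : z ∈ (f : X → Y) ⁻¹' {hV.fromSpec p} := by
    rw [hz]; exact mem_fibre f hU hV e halg p Q
  rw [localDim_asFiber_congr f z _ hm, ← chart_eq f hU hV e halg p Q z hz hm, localDim_chart]

end chartpoint

end Groth.Agent.Helper14.FibreChart
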