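import Mathlib
import Groth.Prelude.Def_Flat
import Groth.Agent.Lib.Helper14.LocalDimSpec
import Groth.Agent.Lib.Helper14.LocalDimAlg
import Groth.Agent.Lib.Helper14.LocalDimSch
import Groth.Agent.Lib.Helper14.DimIneqGen
import Groth.Agent.Lib.Helper14.TrdegBridge
import Groth.Agent.Lib.Helper14.ResFieldBridge
import Groth.Agent.Lib.Helper14.FibreChart

/-!
# Fibre dimension: the general formula and the generic fibre
-/

namespace Groth.Agent.Helper14.FibreGeneric
universe u
open TensorProduct TopologicalSpace AlgebraicGeometry CategoryTheory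

section Ealg

variable (k S : Type u) [Field k] [CommRing S] [Algebra k S] [Algebra.FiniteType k S]

/-- in a finite type algebra over a field whose spectrum is irreducible (a prime `Q₀` contained
in all primes), the local dimension at every point is `trdeg k (S ⧸ Q₀)`. -/
theorem localDim_eq_of_unique_minimal (Q₀ : Ideal S) [hQ₀ : Q₀.IsPrime]
    (hmin : ∀ Q : Ideal S, Q.IsPrime → Q₀ ≤ Q) (r : ℕ)
    (hr : Algebra.trdeg k (S ⧸ Q₀) = r) (Q : Ideal S) [hQ : Q.IsPrime] :
    FlatMor.localDim (PrimeSpectrum S) ⟨Q, hQ⟩ = (r : WithBot ℕ∞) := by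
  haveI : IsNoetherianRing S := Algebra.FiniteType.isNoetherianRing k S
  obtain ⟨Q₁, hQ₁p, hQ₁min, hQ₁Q, hht⟩ := DimIneqGen.exists_minimalPrime_height_le S Q
  have hQ₁ : Q₁ = Q₀ :=
    le_antisymm (hQ₁min.2 ⟨hQ₀, bot_le⟩ (hmin Q₁ hQ₁p)) (hmin Q₁ hQ₁p)
  subst hQ₁
  have h1 := LocalDimAlg.height_map_add_trdeg k S Q₁ Q (hmin Q hQ)
  have h2 : (Q.map (Ideal.Quotient.mk Q₁)).height = Q.height :=
    le_antisymm (LocalDimAlg.height_map_le Q₁ Q (hmin Q hQ)) hht
  obtain ⟨r', hr'⟩ : ∃ r' : ℕ, Algebra.trdeg k (S ⧸ Q) = r' := by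
    have : Algebra.trdeg k (S ⧸ Q) ≤ r := by
      rw [← hr, ← h1]; exact le_add_self
    exact Cardinal.lt_aleph0.mp (this.trans_lt (Cardinal.nat_lt_aleph0 r))
  rw [LocalDimSpec.localDim_eq k S Q r' hr']
  rw [hr', hr, h2] at h1
  have e1 : ((r : ℕ∞) : Cardinal.{u}) = (r : Cardinal.{u}) := Cardinal.ofENat_nat r
  apply le_antisymm
  · have := LocalDimSch.cast_le' (h₁ := (r : ℕ∞)) (h₂ := Q.height) (a := r') (by rw [e1, h1])
    exact_mod_cast this
  · have := LocalDimSch.cast_le (h₁ := (r : ℕ∞)) (h₂ := Q.height) (a := r') (by rw [e1, h1])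
    exact_mod_cast this

end Ealg


section Alg2

variable (A B : Type u) [CommRing A] [CommRing B] [Algebra A B]

theorem fraction_residueField (p : Ideal A) [p.IsPrime] (z : p.ResidueField) :
    ∃ r s : A, algebraMap A p.ResidueField s ≠ 0 ∧
      z * algebraMap A p.ResidueField s = algebraMap A p.ResidueField r := by
  obtain ⟨⟨x, y⟩, hxy⟩ := IsLocalization.surj (nonZeroDivisors (A ⧸ p)) z
  obtain ⟨r, rfl⟩ := Ideal.Quotient.mk_surjective x
  obtain ⟨s, hs⟩ := Ideal.Quotient.mk_surjective (y : A ⧸ p)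
  refine ⟨r, s, ?_, ?_⟩
  · rw [IsScalarTower.algebraMap_apply A (A ⧸ p) p.ResidueField, Ideal.Quotient.algebraMap_eq, hs]
    exact IsFractionRing.to_map_ne_zero_of_mem_nonZeroDivisors y.2
  · rw [IsScalarTower.algebraMap_apply A (A ⧸ p) p.ResidueField,
      IsScalarTower.algebraMap_apply A (A ⧸ p) p.ResidueField, Ideal.Quotient.algebraMap_eq, hs]
    exact hxy

theorem trdeg_residueField_comp (k F : Type u) [Field k] [CommRing F] [Algebra k F] (Q : Ideal F)
    [Q.IsPrime] :
    @Algebra.trdeg k Q.ResidueField _ _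
      ((algebraMap F Q.ResidueField).comp (algebraMap k F)).toAlgebra =
      Algebra.trdeg k (F ⧸ Q) := by
  rw [← LocalDimSpec.trdeg_residueField k F Q]
  congr 1

/-- the transcendence degree of the residue field of the fibre ring at `Q` over `κ(p)`
is the transcendence degree of `B ⧸ q` over `A ⧸ p`. -/
theorem trdeg_fiber_quotient (p : Ideal A) [p.IsPrime] (Q : Ideal (p.Fiber B)) [Q.IsPrime]
    (q : Ideal B) [q.IsPrime] [q.LiesOver p]
    (hq : Q.comap Algebra.TensorProduct.includeRight.toRingHom = q) :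
    Algebra.trdeg p.ResidueField (p.Fiber B ⧸ Q) = Algebra.trdeg (A ⧸ p) (B ⧸ q) := by
  rw [← trdeg_residueField_comp p.ResidueField (p.Fiber B) Q]
  let K := Q.ResidueField
  let b : B →+* K := (algebraMap (p.Fiber B) K).comp
    (Algebra.TensorProduct.includeRight : B →ₐ[A] p.Fiber B).toRingHom
  let g : p.ResidueField →+* K :=
    (algebraMap (p.Fiber B) K).comp (algebraMap p.ResidueField (p.Fiber B))
  have hb : RingHom.ker b = q := by
    rw [← hq, ← RingHom.comap_ker, Ideal.ker_algebraMap_residueField]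
  have hcomm : g.comp (algebraMap A p.ResidueField) = b.comp (algebraMap A B) := by
    ext r
    simp only [RingHom.comp_apply, b, g, AlgHom.toRingHom_eq_coe, RingHom.coe_coe,
      AlgHom.commutes]
    rw [← IsScalarTower.algebraMap_apply A p.ResidueField (p.Fiber B)]
  have hfb : ∀ z : K, ∃ r s, b s ≠ 0 ∧ z * b s = b r := by
    intro z
    obtain ⟨r₁, s₁, hs₁, h₁⟩ := fraction_residueField (p.Fiber B) Q z
    obtain ⟨c₁, hc₁, t₁, e₁⟩ := Ideal.Fiber.exists_smul_eq_one_tmul p r₁
    obtain ⟨c₂, hc₂, t₂, e₂⟩ := Ideal.Fiber.exists_smul_eq_one_tmul p s₁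
    have hbt : ∀ t : B, b t = algebraMap (p.Fiber B) K ((1 : p.ResidueField) ⊗ₜ[A] t) :=
      fun t => rfl
    have hbc : ∀ (c : A) (t : B), b (c • t) = g (algebraMap A p.ResidueField c) * b t := by
      intro c t
      rw [Algebra.smul_def, map_mul, ← RingHom.comp_apply b, ← hcomm, RingHom.comp_apply]
    have hu : ∀ c : A, c ∉ p → g (algebraMap A p.ResidueField c) ≠ 0 := by
      intro c hc h0
      have := g.injective (h0.trans (map_zero _).symm)
      exact hc (Ideal.algebraMap_residueField_eq_zero.mp this)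
    have hgc : ∀ c : A, g (algebraMap A p.ResidueField c) =
        algebraMap (p.Fiber B) K (algebraMap A (p.Fiber B) c) := by
      intro c
      simp only [g, RingHom.comp_apply]
      rw [← IsScalarTower.algebraMap_apply A p.ResidueField (p.Fiber B)]
    have hb1 : b t₁ = g (algebraMap A p.ResidueField c₁) * algebraMap (p.Fiber B) K r₁ := by
      rw [hbt, ← e₁, Algebra.smul_def, map_mul, hgc]
    have hb2 : b t₂ = g (algebraMap A p.ResidueField c₂) * algebraMap (p.Fiber B) K s₁ := by
      rw [hbt, ← e₂, Algebra.smul_def, map_mul, hgc]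
    refine ⟨c₂ • t₁, c₁ • t₂, ?_, ?_⟩
    · rw [hbc, hb2]
      exact mul_ne_zero (hu c₁ hc₁) (mul_ne_zero (hu c₂ hc₂) hs₁)
    · rw [hbc, hbc, hb1, hb2, ← h₁]
      ring
  exact TrdegBridge.trdeg_eq_of_fraction p q (algebraMap A p.ResidueField)
    (Ideal.ker_algebraMap_residueField p) b hb g hcomm
    (fraction_residueField A p) hfb

end Alg2


section scheme

variable {X Y : Scheme.{u}} (f : X ⟶ Y) [LocallyOfFiniteType f]

/-- **General formula**: `dim_x X_y = dim O_{X_y,x} + trdeg κ(x)/κ(y)`. -/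
theorem fibreDimAt_eq_stalk_add_trdeg (x : X) (n : ℕ)
    (hn : @Algebra.trdeg (Y.residueField (f x)) (X.residueField x) _ _
      (f.residueFieldMap x).hom.toAlgebra = n) :
    FlatMor.fibreDimAt f x =
      ringKrullDim ((f.fiber (f x)).presheaf.stalk (f.asFiber x)) + (n : WithBot ℕ∞) := by
  obtain ⟨V, hV, hyV, -⟩ := exists_isAffineOpen_mem_and_subset (x := f x)
    (U := (⊤ : Y.Opens)) trivial
  obtain ⟨U, hU, hxU, e⟩ := exists_isAffineOpen_mem_and_subset (x := x)
    (U := f ⁻¹ᵁ V) hyV
  letI alg : Algebra Γ(Y, V) Γ(X, U) := (f.appLE V U e).hom.toAlgebra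
  have halg : algebraMap Γ(Y, V) Γ(X, U) = (f.appLE V U e).hom := rfl
  haveI : Algebra.FiniteType Γ(Y, V) Γ(X, U) := f.finiteType_appLE hV hU e
  let p : Ideal Γ(Y, V) := (hV.primeIdealOf ⟨f x, e hxU⟩).asIdeal
  haveI : p.IsPrime := (hV.primeIdealOf ⟨f x, e hxU⟩).isPrime
  let q : Ideal Γ(X, U) := (hU.primeIdealOf ⟨x, hxU⟩).asIdeal
  haveI : q.IsPrime := (hU.primeIdealOf ⟨x, hxU⟩).isPrime
  haveI : q.LiesOver p := ⟨(ResFieldBridge.under_primeIdealOf f hU hV e x hxU halg).symm⟩
  let Qx := FibreChart.fibPrime f hU hV e halg x hxU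
  have hq : Qx.asIdeal.comap Algebra.TensorProduct.includeRight.toRingHom = q :=
    congrArg PrimeSpectrum.asIdeal (FibreChart.comap_fibPrime f hU hV e halg x hxU)
  have h1 := ResFieldBridge.trdeg_residueField_eq f hU hV e x hxU halg p q rfl
  have h2 := trdeg_fiber_quotient Γ(Y, V) Γ(X, U) p Qx.asIdeal q hq
  rw [FibreChart.fibreDimAt_eq f hU hV e halg x hxU,
    FibreChart.ringKrullDim_fibre_stalk f hU hV e halg x hxU]
  exact LocalDimSpec.localDim_eq p.ResidueField (p.Fiber Γ(X, U)) Qx.asIdeal n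
    (h2.trans (h1.symm.trans hn))

end scheme

section generic

variable {X Y : Scheme.{u}} [IrreducibleSpace X] (f : X ⟶ Y) [LocallyOfFiniteType f]

/-- on an irreducible scheme, all points of the fibre through the generic point have the same
local fibre dimension. -/
theorem fibreDimAt_eq_of_map_eq_generic (x : X) (hx : f x = f (genericPoint X)) :
    FlatMor.fibreDimAt f x = FlatMor.fibreDimAt f (genericPoint X) := by
  obtain ⟨V, hV, hyV, -⟩ := exists_isAffineOpen_mem_and_subset (x := f x)
    (U := (⊤ : Y.Opens)) trivial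
  obtain ⟨U, hU, hxU, e⟩ := exists_isAffineOpen_mem_and_subset (x := x)
    (U := f ⁻¹ᵁ V) hyV
  letI alg : Algebra Γ(Y, V) Γ(X, U) := (f.appLE V U e).hom.toAlgebra
  have halg : algebraMap Γ(Y, V) Γ(X, U) = (f.appLE V U e).hom := rfl
  haveI : Algebra.FiniteType Γ(Y, V) Γ(X, U) := f.finiteType_appLE hV hU e
  have hξU : genericPoint X ∈ U :=
    ((genericPoint_spec X).mem_open_set_iff U.isOpen).mpr ⟨x, trivial, hxU⟩
  let p : PrimeSpectrum Γ(Y, V) := hV.primeIdealOf ⟨f (genericPoint X), e hξU⟩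
  let Qξ := FibreChart.fibPrime f hU hV e halg (genericPoint X) hξU
  let qx := hU.primeIdealOf ⟨x, hxU⟩
  have hpx : hV.primeIdealOf ⟨f x, e hxU⟩ = p := by
    simp only [p]
    congr 1
    exact Subtype.ext hx
  have hqx : qx ∈ PrimeSpectrum.comap (algebraMap Γ(Y, V) Γ(X, U)) ⁻¹' {p} := by
    have := FibreChart.primeIdealOf_mem f hU hV e halg x hxU
    rw [hpx] at this
    exact this
  let Qx := PrimeSpectrum.preimageHomeomorphFiber Γ(Y, V) Γ(X, U) p ⟨qx, hqx⟩
  have hQx : PrimeSpectrum.comap Algebra.TensorProduct.includeRight.toRingHom Qx = qx :=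
    congrArg Subtype.val
      ((PrimeSpectrum.preimageHomeomorphFiber Γ(Y, V) Γ(X, U) p).symm_apply_apply ⟨qx, hqx⟩)
  have e1 := FibreChart.fibreDimAt_fromSpec f hU hV e halg p Qx x
    (by rw [hQx]; exact (hU.fromSpec_primeIdealOf ⟨x, hxU⟩).symm)
  have e2 := FibreChart.fibreDimAt_eq f hU hV e halg (genericPoint X) hξU
  haveI : p.asIdeal.IsPrime := p.isPrime
  haveI : Qξ.asIdeal.IsPrime := Qξ.isPrime
  haveI : Qx.asIdeal.IsPrime := Qx.isPrime
  obtain ⟨r, hr⟩ : ∃ r : ℕ,
      Algebra.trdeg p.asIdeal.ResidueField (p.asIdeal.Fiber Γ(X, U) ⧸ Qξ.asIdeal) = r :=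
    Cardinal.lt_aleph0.mp trdeg_lt_aleph0_of_finiteType
  have hmin : ∀ Q : Ideal (p.asIdeal.Fiber Γ(X, U)), Q.IsPrime → Qξ.asIdeal ≤ Q := by
    intro Q hQ
    let Q' : PrimeSpectrum (p.asIdeal.Fiber Γ(X, U)) := ⟨Q, hQ⟩
    let q' := PrimeSpectrum.comap Algebra.TensorProduct.includeRight.toRingHom Q'
    have hsp : hU.fromSpec (hU.primeIdealOf ⟨genericPoint X, hξU⟩) ⤳ hU.fromSpec q' := by
      rw [hU.fromSpec_primeIdealOf ⟨genericPoint X, hξU⟩]
      exact genericPoint_specializes _
    rw [ResFieldBridge.specializes_fromSpec_iff] at hsp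
    rw [← FibreChart.comap_fibPrime f hU hV e halg (genericPoint X) hξU] at hsp
    have := (PrimeSpectrum.preimageOrderIsoFiber Γ(Y, V) Γ(X, U) p).symm.le_iff_le
      (x := Qξ) (y := Q')
    exact this.mp hsp
  rw [e1, e2]
  have a1 := localDim_eq_of_unique_minimal p.asIdeal.ResidueField (p.asIdeal.Fiber Γ(X, U))
    Qξ.asIdeal hmin r hr Qx.asIdeal
  have a2 := localDim_eq_of_unique_minimal p.asIdeal.ResidueField (p.asIdeal.Fiber Γ(X, U))
    Qξ.asIdeal hmin r hr Qξ.asIdeal
  exact a1.trans a2.symm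

end generic

section dimfibre

/-- the dimension of a local ring of a scheme is at most the local dimension at the point. -/
theorem stalk_le_localDim {Z : Scheme.{u}} (z : Z) :
    ringKrullDim (Z.presheaf.stalk z) ≤ FlatMor.localDim Z z := by
  unfold FlatMor.localDim
  refine le_iInf ?_
  rintro ⟨U, hz⟩
  exact LocalDimSch.stalk_le_dim_opens U z hz

/-- the local dimension is at most the dimension. -/
theorem localDim_le_dim {T : Type*} [TopologicalSpace T] (z : T) :
    FlatMor.localDim T z ≤ topologicalKrullDim T := by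
  unfold FlatMor.localDim
  refine (iInf_le _ (⟨⊤, trivial⟩ : {U : Opens T // z ∈ U})).trans ?_
  exact topologicalKrullDim_subspace_le T _

variable {X Y : Scheme.{u}} [IrreducibleSpace X] (f : X ⟶ Y) [LocallyOfFiniteType f]

/-- the dimension of the fibre through the generic point of an irreducible scheme is the local
fibre dimension at the generic point. -/
theorem dim_genericFibre :
    topologicalKrullDim (f.fiber (f (genericPoint X))) =
      FlatMor.fibreDimAt f (genericPoint X) := by
  apply le_antisymm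
  · rw [LocalDimSch.dim_eq_iSup_stalk]
    refine iSup_le fun z => ?_
    refine (stalk_le_localDim z).trans ?_
    have hz : f (f.fiberι (f (genericPoint X)) z) = f (genericPoint X) :=
      (f.fiberHomeo (f (genericPoint X)) z).2
    have h1 := FibreChart.localDim_asFiber_congr f (f.fiberι (f (genericPoint X)) z)
      (f (genericPoint X)) hz
    have h2 : (f.fiberHomeo (f (genericPoint X))).symm
        ⟨f.fiberι (f (genericPoint X)) z, hz⟩ = z :=
      (f.fiberHomeo (f (genericPoint X))).symm_apply_apply z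
    rw [h2] at h1
    rw [← h1, fibreDimAt_eq_of_map_eq_generic f _ hz]
  · exact localDim_le_dim _

end dimfibre

section dominant

variable {X Y : Scheme.{u}} [IrreducibleSpace X] [IrreducibleSpace Y] (f : X ⟶ Y)

/-- a dominant morphism of irreducible schemes maps the generic point to the generic point. -/
theorem map_genericPoint (hf : DenseRange f) : f (genericPoint X) = genericPoint Y := by
  apply ((genericPoint_spec Y).eq _).symm
  have h1 := (genericPoint_spec X).image f.continuous
  have h2 : closure (f '' (Set.univ : Set X)) = (Set.univ : Set Y) := by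
    rw [Set.image_univ]
    exact hf.closure_range
  rw [h2] at h1
  exact h1

theorem zero_le_localDim {T : Type*} [TopologicalSpace T] (z : T) :
    0 ≤ FlatMor.localDim T z := by
  unfold FlatMor.localDim
  refine le_iInf ?_
  rintro ⟨U, hz⟩
  haveI : Nonempty (U : Set T) := ⟨⟨z, hz⟩⟩
  haveI : Nonempty (IrreducibleCloseds (U : Set T)) :=
    ⟨⟨closure {⟨z, hz⟩}, isIrreducible_singleton.closure, isClosed_closure⟩⟩
  exact Order.krullDim_nonneg

variable [LocallyOfFiniteType f]

/-- **Lower bound on fibre dimensions** (consequence of Chevalley's semicontinuity): the local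
fibre dimension at the generic point is the smallest one. -/
theorem fibreDimAt_generic_le (hopen : ∀ n : ℕ, IsOpen {x : X | FlatMor.fibreDimAt f x ≤ n})
    (x : X) : FlatMor.fibreDimAt f (genericPoint X) ≤ FlatMor.fibreDimAt f x := by
  have h0 := zero_le_localDim (f.asFiber x)
  change 0 ≤ FlatMor.fibreDimAt f x at h0
  generalize hb : FlatMor.fibreDimAt f x = b at h0
  induction b using WithBot.recBotCoe with
  | bot => exact absurd h0 (by simp)
  | coe b =>
    induction b using ENat.recTopCoe with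
    | top => exact le_top
    | coe n =>
      have hx : x ∈ {x : X | FlatMor.fibreDimAt f x ≤ n} := by
        show FlatMor.fibreDimAt f x ≤ n
        rw [hb]; rfl
      have hξ : genericPoint X ∈ {x : X | FlatMor.fibreDimAt f x ≤ n} :=
        ((genericPoint_spec X).mem_open_set_iff (hopen n)).mpr ⟨x, trivial, hx⟩
      exact hξ

end dominant

end Groth.Agent.Helper14.FibreGeneric
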