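import Mathlib
import Groth.Prelude.Def_Flat
import Groth.Prelude.Def_Found
import Groth.Agent.Lib.Helper14.DimFormulaLocal
import Groth.Agent.Lib.Helper14.FibreGeneric

/-!
# The dimension formula for schemes
-/

namespace Groth.Agent.Helper14.DimFormulaSch
universe u
open TensorProduct TopologicalSpace AlgebraicGeometry CategoryTheory

/-- if `Q₀` is the unique minimal prime, heights can be computed modulo `Q₀`. -/
theorem height_map_eq_of_unique_minimal {S : Type u} [CommRing S] [IsNoetherianRing S]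
    (Q₀ : Ideal S) [hQ₀ : Q₀.IsPrime]
    (hmin : ∀ Q : Ideal S, Q.IsPrime → Q₀ ≤ Q) (Q : Ideal S) [hQ : Q.IsPrime] :
    (Q.map (Ideal.Quotient.mk Q₀)).height = Q.height := by
  obtain ⟨Q₁, hQ₁p, hQ₁min, hQ₁Q, hht⟩ := DimIneqGen.exists_minimalPrime_height_le S Q
  have hQ₁ : Q₁ = Q₀ :=
    le_antisymm (hQ₁min.2 ⟨hQ₀, bot_le⟩ (hmin Q₁ hQ₁p)) (hmin Q₁ hQ₁p)
  subst hQ₁
  exact le_antisymm (LocalDimAlg.height_map_le Q₁ Q (hmin Q hQ)) hht

/-- universal catenarity is invariant under ring isomorphisms. -/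
theorem isUniversallyCatenary_of_ringEquiv {R R' : Type u} [CommRing R] [CommRing R']
    (e : R ≃+* R') (hR : CAlg.IsUniversallyCatenary R) : CAlg.IsUniversallyCatenary R' :=
  DimFormulaLocal.isUniversallyCatenary_of_surjective e.toRingHom e.surjective hR

section

variable {X Y : Scheme.{u}} [IrreducibleSpace X] (f : X ⟶ Y)

/-- every prime of an affine chart of an irreducible scheme contains the prime of the generic
point. -/
theorem primeIdealOf_generic_le {Z : Scheme.{u}} [IrreducibleSpace Z] {U : Z.Opens}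
    (hU : IsAffineOpen U) (hξ : genericPoint Z ∈ U) (Q : PrimeSpectrum Γ(Z, U)) :
    hU.primeIdealOf ⟨genericPoint Z, hξ⟩ ≤ Q := by
  rw [← ResFieldBridge.specializes_fromSpec_iff hU, hU.fromSpec_primeIdealOf ⟨genericPoint Z, hξ⟩]
  exact genericPoint_specializes _

theorem genericPoint_mem {Z : Scheme.{u}} [IrreducibleSpace Z] (U : Z.Opens) (z : Z) (hz : z ∈ U) :
    genericPoint Z ∈ U :=
  ((genericPoint_spec Z).mem_open_set_iff U.isOpen).mpr ⟨z, trivial, hz⟩

end

section main

variable {X Y : Scheme.{u}} [IrreducibleSpace X] [IrreducibleSpace Y] [IsLocallyNoetherian Y]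
  (f : X ⟶ Y) [LocallyOfFiniteType f]

/-- **Dimension formula for schemes**: `dim O_{X,x} + trdeg κ(x)/κ(y) = dim O_{Y,y} + trdeg K(X)/K(Y)`
when `O_{Y,y}` is universally catenary. -/
theorem dimension_formula_sch (hgen : f (genericPoint X) = genericPoint Y) (x : X)
    (hcat : CAlg.IsUniversallyCatenary (Y.presheaf.stalk (f x))) (n E : ℕ)
    (hn : @Algebra.trdeg (Y.residueField (f x)) (X.residueField x) _ _
      (f.residueFieldMap x).hom.toAlgebra = n)
    (hE : @Algebra.trdeg (Y.residueField (f (genericPoint X))) (X.residueField (genericPoint X)) _ _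
      (f.residueFieldMap (genericPoint X)).hom.toAlgebra = E) :
    ringKrullDim (X.presheaf.stalk x) + (n : WithBot ℕ∞) =
      ringKrullDim (Y.presheaf.stalk (f x)) + (E : WithBot ℕ∞) := by
  obtain ⟨V, hV, hyV, -⟩ := exists_isAffineOpen_mem_and_subset (x := f x)
    (U := (⊤ : Y.Opens)) trivial
  obtain ⟨U, hU, hxU, e⟩ := exists_isAffineOpen_mem_and_subset (x := x)
    (U := f ⁻¹ᵁ V) hyV
  letI alg : Algebra Γ(Y, V) Γ(X, U) := (f.appLE V U e).hom.toAlgebra
  have halg : algebraMap Γ(Y, V) Γ(X, U) = (f.appLE V U e).hom := rfl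
  haveI : Algebra.FiniteType Γ(Y, V) Γ(X, U) := f.finiteType_appLE hV hU e
  haveI : IsNoetherianRing Γ(Y, V) := IsLocallyNoetherian.component_noetherian ⟨V, hV⟩
  haveI : IsNoetherianRing Γ(X, U) := Algebra.FiniteType.isNoetherianRing Γ(Y, V) Γ(X, U)
  have hξU : genericPoint X ∈ U := genericPoint_mem U x hxU
  let p : Ideal Γ(Y, V) := (hV.primeIdealOf ⟨f x, e hxU⟩).asIdeal
  haveI : p.IsPrime := (hV.primeIdealOf ⟨f x, e hxU⟩).isPrime
  let q : Ideal Γ(X, U) := (hU.primeIdealOf ⟨x, hxU⟩).asIdeal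
  haveI : q.IsPrime := (hU.primeIdealOf ⟨x, hxU⟩).isPrime
  haveI : q.LiesOver p := ⟨(ResFieldBridge.under_primeIdealOf f hU hV e x hxU halg).symm⟩
  let p₀ : Ideal Γ(Y, V) := (hV.primeIdealOf ⟨f (genericPoint X), e hξU⟩).asIdeal
  haveI : p₀.IsPrime := (hV.primeIdealOf ⟨f (genericPoint X), e hξU⟩).isPrime
  let q₀ : Ideal Γ(X, U) := (hU.primeIdealOf ⟨genericPoint X, hξU⟩).asIdeal
  haveI : q₀.IsPrime := (hU.primeIdealOf ⟨genericPoint X, hξU⟩).isPrime
  haveI : q₀.LiesOver p₀ :=
    ⟨(ResFieldBridge.under_primeIdealOf f hU hV e (genericPoint X) hξU halg).symm⟩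
  have hq : q₀ ≤ q := primeIdealOf_generic_le hU hξU _
  have hqmin : ∀ Q : Ideal Γ(X, U), Q.IsPrime → q₀ ≤ Q := fun Q hQ =>
    primeIdealOf_generic_le hU hξU ⟨Q, hQ⟩
  have hηV : genericPoint Y ∈ V := genericPoint_mem V (f x) (e hxU)
  have hp₀ : hV.primeIdealOf ⟨f (genericPoint X), e hξU⟩ = hV.primeIdealOf ⟨genericPoint Y, hηV⟩ := by
    congr 1
    exact Subtype.ext hgen
  have hpmin : ∀ P : Ideal Γ(Y, V), P.IsPrime → p₀ ≤ P := fun P hP => by
    have := primeIdealOf_generic_le hV hηV ⟨P, hP⟩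
    rw [← hp₀] at this
    exact this
  -- transport universal catenarity
  have hcat' : CAlg.IsUniversallyCatenary (Localization.AtPrime p) := by
    letI := Y.presheaf.algebra_section_stalk ⟨f x, e hxU⟩
    haveI := hV.isLocalization_stalk ⟨f x, e hxU⟩
    exact isUniversallyCatenary_of_ringEquiv
      (IsLocalization.algEquiv p.primeCompl (Y.presheaf.stalk (f x))
        (Localization.AtPrime p)).toRingEquiv hcat
  have key := DimFormulaLocal.dimension_formula_local Γ(Y, V) Γ(X, U) p₀ p q₀ q hq hcat'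
  rw [height_map_eq_of_unique_minimal q₀ hqmin q, height_map_eq_of_unique_minimal p₀ hpmin p] at key
  have h1 := ResFieldBridge.trdeg_residueField_eq f hU hV e x hxU halg p q rfl
  have h2 := ResFieldBridge.trdeg_residueField_eq f hU hV e (genericPoint X) hξU halg p₀ q₀ rfl
  rw [← h1, ← h2, hn, hE] at key
  rw [ResFieldBridge.ringKrullDim_stalk hU x hxU, ResFieldBridge.ringKrullDim_stalk hV (f x) (e hxU)]
  have key' : ((q.height + (n : ℕ∞) : ℕ∞) : Cardinal.{u}) = ((p.height + (E : ℕ∞) : ℕ∞) : Cardinal.{u}) := by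
    rw [Cardinal.ofENat_add, Cardinal.ofENat_add, Cardinal.ofENat_nat, Cardinal.ofENat_nat]
    exact key
  have key'' := Cardinal.ofENat_inj.mp key'
  exact_mod_cast congrArg (fun z : ℕ∞ => (z : WithBot ℕ∞)) key''

end main

section genstalk

variable {X Y : Scheme.{u}} [IrreducibleSpace X] (f : X ⟶ Y)

/-- the local ring of the fibre at the generic point of an irreducible scheme has dimension 0. -/
theorem ringKrullDim_stalk_genericFibre :
    ringKrullDim ((f.fiber (f (genericPoint X))).presheaf.stalk (f.asFiber (genericPoint X))) = 0 := by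
  obtain ⟨V, hV, hyV, -⟩ := exists_isAffineOpen_mem_and_subset (x := f (genericPoint X))
    (U := (⊤ : Y.Opens)) trivial
  obtain ⟨U, hU, hξU, e⟩ := exists_isAffineOpen_mem_and_subset (x := genericPoint X)
    (U := f ⁻¹ᵁ V) hyV
  letI alg : Algebra Γ(Y, V) Γ(X, U) := (f.appLE V U e).hom.toAlgebra
  have halg : algebraMap Γ(Y, V) Γ(X, U) = (f.appLE V U e).hom := rfl
  let p : PrimeSpectrum Γ(Y, V) := hV.primeIdealOf ⟨f (genericPoint X), e hξU⟩
  let Qξ := FibreChart.fibPrime f hU hV e halg (genericPoint X) hξU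
  haveI : Qξ.asIdeal.IsPrime := Qξ.isPrime
  have hmin : ∀ Q : Ideal (p.asIdeal.Fiber Γ(X, U)), Q.IsPrime → Qξ.asIdeal ≤ Q := by
    intro Q hQ
    let Q' : PrimeSpectrum (p.asIdeal.Fiber Γ(X, U)) := ⟨Q, hQ⟩
    let q' := PrimeSpectrum.comap Algebra.TensorProduct.includeRight.toRingHom Q'
    have hsp : hU.fromSpec (hU.primeIdealOf ⟨genericPoint X, hξU⟩) ⤳ hU.fromSpec q' := by
      rw [hU.fromSpec_primeIdealOf ⟨genericPoint X, hξU⟩]
      exact genericPoint_specializes _
    rw [ResFieldBridge.specializes_fromSpec_iff] at hsp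
    rw [← FibreChart.comap_fibPrime f hU hV e halg (genericPoint X) hξU] at hsp
    have := (PrimeSpectrum.preimageOrderIsoFiber Γ(Y, V) Γ(X, U) p).symm.le_iff_le
      (x := Qξ) (y := Q')
    exact this.mp hsp
  rw [FibreChart.ringKrullDim_fibre_stalk f hU hV e halg (genericPoint X) hξU]
  have h0 : Qξ.asIdeal.height = 0 := by
    rw [Ideal.height_eq_zero_iff]
    exact ⟨⟨Qξ.isPrime, bot_le⟩, fun Q hQ _ => hmin Q hQ.1⟩
  change ((Qξ.asIdeal.height : ℕ∞) : WithBot ℕ∞) = 0
  rw [h0]
  rfl

end genstalk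

section closedpt

variable {X Y : Scheme.{u}} (f : X ⟶ Y) [LocallyOfFiniteType f]

/-- every non-empty fibre contains a point whose residue field is algebraic over the residue field
of the base point (a closed point of the fibre). -/
theorem exists_trdeg_eq_zero (x' : X) :
    ∃ x : X, f x = f x' ∧ @Algebra.trdeg (Y.residueField (f x)) (X.residueField x) _ _
      (f.residueFieldMap x).hom.toAlgebra = 0 := by
  obtain ⟨V, hV, hyV, -⟩ := exists_isAffineOpen_mem_and_subset (x := f x')
    (U := (⊤ : Y.Opens)) trivial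
  obtain ⟨U, hU, hxU', e⟩ := exists_isAffineOpen_mem_and_subset (x := x')
    (U := f ⁻¹ᵁ V) hyV
  letI alg : Algebra Γ(Y, V) Γ(X, U) := (f.appLE V U e).hom.toAlgebra
  have halg : algebraMap Γ(Y, V) Γ(X, U) = (f.appLE V U e).hom := rfl
  haveI : Algebra.FiniteType Γ(Y, V) Γ(X, U) := f.finiteType_appLE hV hU e
  let p : PrimeSpectrum Γ(Y, V) := hV.primeIdealOf ⟨f x', e hxU'⟩
  haveI : p.asIdeal.IsPrime := p.isPrime
  let Q' := FibreChart.fibPrime f hU hV e halg x' hxU'
  haveI : Nontrivial (p.asIdeal.Fiber Γ(X, U)) := by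
    refine ⟨⟨0, 1, fun h01 => Q'.isPrime.ne_top ?_⟩⟩
    rw [Ideal.eq_top_iff_one, ← h01]
    exact Q'.asIdeal.zero_mem
  obtain ⟨M, hM⟩ := Ideal.exists_maximal (p.asIdeal.Fiber Γ(X, U))
  let Q : PrimeSpectrum (p.asIdeal.Fiber Γ(X, U)) := ⟨M, hM.isPrime⟩
  let qq : PrimeSpectrum Γ(X, U) :=
    PrimeSpectrum.comap Algebra.TensorProduct.includeRight.toRingHom Q
  have hfx : f (hU.fromSpec qq) = f x' := by
    rw [FibreChart.map_fromSpec_comap f hU hV e halg p Q]
    exact hV.fromSpec_primeIdealOf ⟨f x', e hxU'⟩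
  refine ⟨hU.fromSpec qq, hfx, ?_⟩
  have hxU : hU.fromSpec qq ∈ U := ResFieldBridge.fromSpec_mem hU qq
  have hqq : hU.primeIdealOf ⟨hU.fromSpec qq, hxU⟩ = qq := ResFieldBridge.primeIdealOf_fromSpec hU qq
  haveI : qq.asIdeal.IsPrime := qq.isPrime
  haveI : qq.asIdeal.LiesOver p.asIdeal := by
    constructor
    have := FibreChart.comap_comap_includeRight (X := X) (Y := Y) (U := U) (V := V) p Q
    exact (congrArg PrimeSpectrum.asIdeal this).symm
  have h1 := ResFieldBridge.trdeg_residueField_eq f hU hV e (hU.fromSpec qq) hxU halg p.asIdeal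
    qq.asIdeal (by rw [hqq])
  have h2 := FibreGeneric.trdeg_fiber_quotient Γ(Y, V) Γ(X, U) p.asIdeal M qq.asIdeal rfl
  have h3 := LocalDimAlg.trdeg_quotient_maximal p.asIdeal.ResidueField (p.asIdeal.Fiber Γ(X, U)) M
  rw [h1, ← h2, h3]

end closedpt

section core

/-- the dimension of the generic fibre is the transcendence degree of the function fields. -/
theorem dim_genericFibre_eq {X Y : Scheme.{u}} [IrreducibleSpace X] (f : X ⟶ Y)
    [LocallyOfFiniteType f] (E : ℕ)
    (hE : @Algebra.trdeg (Y.residueField (f (genericPoint X))) (X.residueField (genericPoint X)) _ _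
      (f.residueFieldMap (genericPoint X)).hom.toAlgebra = E) :
    topologicalKrullDim (f.fiber (f (genericPoint X))) = (E : WithBot ℕ∞) := by
  rw [FibreGeneric.dim_genericFibre, FibreGeneric.fibreDimAt_eq_stalk_add_trdeg f _ E hE,
    ringKrullDim_stalk_genericFibre, zero_add]

variable {X Y : Scheme.{u}} [IrreducibleSpace X] [IrreducibleSpace Y] [IsLocallyNoetherian Y]
  (f : X ⟶ Y) [LocallyOfFiniteType f]

theorem stalk_le (hgen : f (genericPoint X) = genericPoint Y) (x : X)
    (hcat : CAlg.IsUniversallyCatenary (Y.presheaf.stalk (f x))) (E : ℕ)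
    (hE : @Algebra.trdeg (Y.residueField (f (genericPoint X))) (X.residueField (genericPoint X)) _ _
      (f.residueFieldMap (genericPoint X)).hom.toAlgebra = E) :
    ringKrullDim (X.presheaf.stalk x) ≤
      ringKrullDim (Y.presheaf.stalk (f x)) + (E : WithBot ℕ∞) := by
  obtain ⟨n, hn⟩ := ResFieldBridge.exists_nat_trdeg_residueField f x
  have hDF := dimension_formula_sch f hgen x hcat n E hn hE
  rw [← hDF]
  have h0 : (0 : WithBot ℕ∞) ≤ (n : WithBot ℕ∞) := by exact_mod_cast (Nat.zero_le n)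
  exact le_add_of_nonneg_right h0

theorem exists_stalk_eq (hgen : f (genericPoint X) = genericPoint Y) (x' : X)
    (hcat : CAlg.IsUniversallyCatenary (Y.presheaf.stalk (f x'))) (E : ℕ)
    (hE : @Algebra.trdeg (Y.residueField (f (genericPoint X))) (X.residueField (genericPoint X)) _ _
      (f.residueFieldMap (genericPoint X)).hom.toAlgebra = E) :
    ∃ x : X, f x = f x' ∧ ringKrullDim (X.presheaf.stalk x) =
      ringKrullDim (Y.presheaf.stalk (f x')) + (E : WithBot ℕ∞) := by
  obtain ⟨x, hx, h0⟩ := exists_trdeg_eq_zero f x'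
  refine ⟨x, hx, ?_⟩
  rw [← hx] at hcat ⊢
  have hDF := dimension_formula_sch f hgen x hcat 0 E (by rw [h0]; rfl) hE
  rw [← hDF]
  simp

theorem iSup_add_le_aux {ι : Sort*} (a : ι → WithBot ℕ∞) (E : ℕ) (D : WithBot ℕ∞)
    (h : ∀ i, a i + (E : WithBot ℕ∞) ≤ D) : (⨆ i, a i) + (E : WithBot ℕ∞) ≤ D := by
  have hE : ((E : ℕ) : WithBot ℕ∞) = ((E : ℕ∞) : WithBot ℕ∞) := rfl
  induction D using WithBot.recBotCoe with
  | bot =>
    have h1 : ∀ i, a i = ⊥ := by
      intro i
      have := h i
      rw [le_bot_iff] at this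
      by_contra hne
      obtain ⟨m, hm⟩ := WithBot.ne_bot_iff_exists.mp hne
      rw [← hm, hE, ← WithBot.coe_add] at this
      exact WithBot.coe_ne_bot this
    have : (⨆ i, a i) = ⊥ := by
      rw [eq_bot_iff]
      exact iSup_le fun i => (h1 i).le
    rw [this, WithBot.bot_add]
  | coe D =>
    induction D using ENat.recTopCoe with
    | top => exact le_top
    | coe d =>
      by_cases hEd : E ≤ d
      · have h1 : ∀ i, a i ≤ ((d - E : ℕ) : WithBot ℕ∞) := by
          intro i
          have := h i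
          generalize a i = ai at this
          induction ai using WithBot.recBotCoe with
          | bot => exact bot_le
          | coe m =>
            rw [hE, ← WithBot.coe_add, WithBot.coe_le_coe] at this
            have hm : m ≠ ⊤ := by
              rintro rfl
              simp at this
            lift m to ℕ using hm
            have : m + E ≤ d := by exact_mod_cast this
            have h4 : m ≤ d - E := by omega
            change (((m : ℕ) : ℕ∞) : WithBot ℕ∞) ≤ (((d - E : ℕ) : ℕ∞) : WithBot ℕ∞)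
            exact WithBot.coe_le_coe.mpr (by exact_mod_cast h4)
        have h2 : (⨆ i, a i) ≤ ((d - E : ℕ) : WithBot ℕ∞) := iSup_le h1
        calc (⨆ i, a i) + (E : WithBot ℕ∞) ≤ ((d - E : ℕ) : WithBot ℕ∞) + (E : WithBot ℕ∞) :=
              add_le_add_left h2 _
          _ = ((d : ℕ∞) : WithBot ℕ∞) := by
              have h3 : d - E + E = d := by omega
              calc ((d - E : ℕ) : WithBot ℕ∞) + (E : WithBot ℕ∞)
                  = ((d - E + E : ℕ) : WithBot ℕ∞) := by push_cast; rfl
                _ = _ := by rw [h3]; rfl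
      · have h1 : ∀ i, a i = ⊥ := by
          intro i
          have := h i
          by_contra hne
          obtain ⟨m, hm⟩ := WithBot.ne_bot_iff_exists.mp hne
          rw [← hm, hE, ← WithBot.coe_add, WithBot.coe_le_coe] at this
          have h3 : ((E : ℕ) : ℕ∞) ≤ (d : ℕ∞) := le_add_self.trans this
          exact hEd (by exact_mod_cast h3)
        have : (⨆ i, a i) = ⊥ := by
          rw [eq_bot_iff]
          exact iSup_le fun i => (h1 i).le
        rw [this, WithBot.bot_add]
        exact bot_le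

end core

section dimX

variable {X Y : Scheme.{u}} [IrreducibleSpace X] [IrreducibleSpace Y] [IsLocallyNoetherian Y]
  (f : X ⟶ Y) [LocallyOfFiniteType f]

/-- **Dimension of the source**: `dim X = sup_{y ∈ f(X)} dim O_{Y,y} + trdeg K(X)/K(Y)`. -/
theorem dim_eq_iSup_add (hgen : f (genericPoint X) = genericPoint Y)
    (hcat : ∀ x : X, CAlg.IsUniversallyCatenary (Y.presheaf.stalk (f x))) (E : ℕ)
    (hE : @Algebra.trdeg (Y.residueField (f (genericPoint X))) (X.residueField (genericPoint X)) _ _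
      (f.residueFieldMap (genericPoint X)).hom.toAlgebra = E) :
    topologicalKrullDim X =
      (⨆ y ∈ Set.range f, ringKrullDim (Y.presheaf.stalk y)) + (E : WithBot ℕ∞) := by
  rw [LocalDimSch.dim_eq_iSup_stalk]
  apply le_antisymm
  · refine iSup_le fun x => (stalk_le f hgen x (hcat x) E hE).trans ?_
    refine add_le_add_left ?_ _
    exact le_iSup₂ (f := fun y (_ : y ∈ Set.range f) => ringKrullDim (Y.presheaf.stalk y))
      (f x) ⟨x, rfl⟩
  · refine iSup_add_le_aux _ E _ fun y => ?_
    refine iSup_add_le_aux _ E _ ?_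
    rintro ⟨x', rfl⟩
    obtain ⟨x, -, hx⟩ := exists_stalk_eq f hgen x' (hcat x') E hE
    rw [← hx]
    exact le_iSup (fun x => ringKrullDim (X.presheaf.stalk x)) x

end dimX

theorem add_nat_cancel (a b : WithBot ℕ∞) (n : ℕ)
    (h : a + (n : WithBot ℕ∞) = b + (n : WithBot ℕ∞)) : a = b := by
  have hn : ((n : ℕ) : WithBot ℕ∞) = ((n : ℕ∞) : WithBot ℕ∞) := rfl
  rw [hn] at h
  induction a using WithBot.recBotCoe with
  | bot =>
    induction b using WithBot.recBotCoe with
    | bot => rfl
    | coe b =>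
      exfalso
      rw [WithBot.bot_add, ← WithBot.coe_add] at h
      exact WithBot.coe_ne_bot h.symm
  | coe a =>
    induction b using WithBot.recBotCoe with
    | bot =>
      exfalso
      rw [WithBot.bot_add, ← WithBot.coe_add] at h
      exact WithBot.coe_ne_bot h
    | coe b =>
      rw [← WithBot.coe_add, ← WithBot.coe_add] at h
      have h'' := WithBot.coe_injective h
      rw [ENat.add_left_injective_of_ne_top (ENat.natCast_ne_top n) h'']

end Groth.Agent.Helper14.DimFormulaSch
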