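import Mathlib
import Groth.Prelude.Def_Cyc
import Groth.Agent.Lib.Helper14.ResFieldBridge

/-!
# Dimension of `O_{X,z}/𝔭_ξ`
-/

namespace Groth.Agent.Helper14.LocQuotDim
universe u
open TopologicalSpace AlgebraicGeometry CategoryTheory

section ring

variable {A : Type u} [CommRing A] (R : Type u) [CommRing R] [Algebra A R]
  (p p' : Ideal A) [p.IsPrime] [p'.IsPrime] [IsLocalization.AtPrime R p']

/-- `dim (A_{p'} / p A_{p'}) = ht (p'/p)`. -/
theorem ringKrullDim_quotient_map (hpp' : p ≤ p') :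
    ringKrullDim (R ⧸ p.map (algebraMap A R)) =
      ((p'.map (Ideal.Quotient.mk p)).height : WithBot ℕ∞) := by
  haveI hP' : (p'.map (Ideal.Quotient.mk p)).IsPrime :=
    Ideal.map_isPrime_of_surjective Ideal.Quotient.mk_surjective
      (by rw [Ideal.mk_ker]; exact hpp')
  have hsub : Algebra.algebraMapSubmonoid (A ⧸ p) p'.primeCompl =
      (p'.map (Ideal.Quotient.mk p)).primeCompl := by
    ext b
    constructor
    · rintro ⟨a, ha, rfl⟩
      intro hmem
      have : a ∈ (p'.map (Ideal.Quotient.mk p)).comap (Ideal.Quotient.mk p) := hmem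
      rw [Ideal.comap_map_of_surjective' _ Ideal.Quotient.mk_surjective, Ideal.mk_ker,
        sup_eq_left.mpr hpp'] at this
      exact ha this
    · intro hb
      obtain ⟨a, rfl⟩ := Ideal.Quotient.mk_surjective b
      refine ⟨a, ?_, rfl⟩
      intro ha
      exact hb (Ideal.mem_map_of_mem _ ha)
  haveI h1 : IsLocalization (Algebra.algebraMapSubmonoid (A ⧸ p) p'.primeCompl)
      (R ⧸ p.map (algebraMap A R)) := inferInstance
  rw [hsub] at h1
  haveI : IsLocalization.AtPrime (R ⧸ p.map (algebraMap A R)) (p'.map (Ideal.Quotient.mk p)) := h1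
  exact IsLocalization.AtPrime.ringKrullDim_eq_height (p'.map (Ideal.Quotient.mk p))
    (R ⧸ p.map (algebraMap A R))

end ring

section sch

variable {X : Scheme.{u}} {U : X.Opens} (hU : IsAffineOpen U)

/-- `dim O_{X,z}/𝔭_ξ = ht (p_z/p_ξ)` in an affine chart. -/
theorem ringKrullDim_locQuot (z ξ : X) (hz : z ∈ U) (hξ : ξ ∈ U) (h : ξ ⤳ z) :
    ringKrullDim (Cyc.LocQuot z ξ h) =
      (((hU.primeIdealOf ⟨z, hz⟩).asIdeal.map
        (Ideal.Quotient.mk (hU.primeIdealOf ⟨ξ, hξ⟩).asIdeal)).height : WithBot ℕ∞) := by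
  letI := X.presheaf.algebra_section_stalk ⟨z, hz⟩
  haveI := hU.isLocalization_stalk ⟨z, hz⟩
  let p : Ideal Γ(X, U) := (hU.primeIdealOf ⟨ξ, hξ⟩).asIdeal
  haveI : p.IsPrime := (hU.primeIdealOf ⟨ξ, hξ⟩).isPrime
  let p' : Ideal Γ(X, U) := (hU.primeIdealOf ⟨z, hz⟩).asIdeal
  haveI : p'.IsPrime := (hU.primeIdealOf ⟨z, hz⟩).isPrime
  have e1 : hU.fromSpec (hU.primeIdealOf ⟨ξ, hξ⟩) = ξ := hU.fromSpec_primeIdealOf ⟨ξ, hξ⟩
  have e2 : hU.fromSpec (hU.primeIdealOf ⟨z, hz⟩) = z := hU.fromSpec_primeIdealOf ⟨z, hz⟩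
  have hpp' : p ≤ p' := by
    have : hU.primeIdealOf ⟨ξ, hξ⟩ ≤ hU.primeIdealOf ⟨z, hz⟩ := by
      rw [← ResFieldBridge.specializes_fromSpec_iff hU, e1, e2]
      exact h
    exact this
  let K : Ideal (X.presheaf.stalk z) := RingHom.ker (Cyc.specMap z ξ h)
  haveI hK : K.IsPrime := RingHom.ker_isPrime _
  have hcomap : K.comap (algebraMap Γ(X, U) (X.presheaf.stalk z)) = p := by
    change _ = (hU.primeIdealOf ⟨ξ, hξ⟩).asIdeal
    rw [← ResFieldBridge.ker_evaluation hU ξ hξ]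
    ext a
    rw [Ideal.mem_comap, RingHom.mem_ker, RingHom.mem_ker]
    have : Cyc.specMap z ξ h (algebraMap Γ(X, U) (X.presheaf.stalk z) a) =
        (X.evaluation U ξ hξ).hom a := by
      change (X.residue ξ).hom ((X.presheaf.stalkSpecializes h).hom
        ((X.presheaf.germ U z hz).hom a)) = (X.residue ξ).hom ((X.presheaf.germ U ξ hξ).hom a)
      rw [TopCat.Presheaf.germ_stalkSpecializes_apply]
    rw [this]
  have hK' : K = p.map (algebraMap Γ(X, U) (X.presheaf.stalk z)) := by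
    rw [← hcomap]
    exact (IsLocalization.map_comap p'.primeCompl (X.presheaf.stalk z) K).symm
  have h1 : ringKrullDim (Cyc.LocQuot z ξ h) =
      ringKrullDim (X.presheaf.stalk z ⧸ p.map (algebraMap Γ(X, U) (X.presheaf.stalk z))) :=
    ringKrullDim_eq_of_ringEquiv (Ideal.quotEquivOfEq hK')
  rw [h1]
  exact ringKrullDim_quotient_map (X.presheaf.stalk z) p p' hpp'

end sch

end Groth.Agent.Helper14.LocQuotDim
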