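import Mathlib
import Groth.Prelude.Def_Cyc
import Groth.Prelude.Def_Found
import Groth.Agent.Lib.Helper14.DimFormulaSch
import Groth.Agent.Lib.Helper14.LocQuotDim
import Groth.Agent.Lib.Helper14.DimIneq
import Groth.Agent.Lib.Helper14.TrdegBridge

/-!
# The dimension formula and inequality along a specialization `ξ ⤳ x`
-/

namespace Groth.Agent.Helper14.PointwiseDim
universe u
open TensorProduct TopologicalSpace AlgebraicGeometry CategoryTheory

section ring

variable (A B : Type u) [CommRing A] [IsNoetherianRing A] [CommRing B] [Algebra A B]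
  [Algebra.FiniteType A B]
  (p₀ p : Ideal A) [p₀.IsPrime] [p.IsPrime] (q₀ q : Ideal B) [q₀.IsPrime] [q.IsPrime]
  [q₀.LiesOver p₀] [q.LiesOver p]

/-- **Dimension inequality, local form**: for primes `q₀ ≤ q` of `B` over `p₀ ≤ p`,
`ht (q/q₀) + trdeg κ(q)/κ(p) ≤ ht (p/p₀) + trdeg κ(q₀)/κ(p₀)`. -/
theorem dimension_inequality_local (hq : q₀ ≤ q) :
    ((q.map (Ideal.Quotient.mk q₀)).height : Cardinal.{u}) + Algebra.trdeg (A ⧸ p) (B ⧸ q) ≤
      ((p.map (Ideal.Quotient.mk p₀)).height : Cardinal.{u}) +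
        Algebra.trdeg (A ⧸ p₀) (B ⧸ q₀) := by
  have hp : p₀ ≤ p := by
    rw [(‹q₀.LiesOver p₀›).over, (‹q.LiesOver p›).over]
    exact Ideal.comap_mono hq
  let A₁ := A ⧸ p₀
  let B₁ := B ⧸ q₀
  haveI : Algebra.FiniteType A₁ B₁ := Algebra.FiniteType.of_restrictScalars_finiteType A A₁ B₁
  let p₁ : Ideal A₁ := p.map (Ideal.Quotient.mk p₀)
  let q₁ : Ideal B₁ := q.map (Ideal.Quotient.mk q₀)
  haveI hp₁ : p₁.IsPrime := Ideal.map_isPrime_of_surjective Ideal.Quotient.mk_surjective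
    (by rw [Ideal.mk_ker]; exact hp)
  haveI hq₁ : q₁.IsPrime := Ideal.map_isPrime_of_surjective Ideal.Quotient.mk_surjective
    (by rw [Ideal.mk_ker]; exact hq)
  have hpc : p₁.comap (Ideal.Quotient.mk p₀) = p := by
    rw [Ideal.comap_map_of_surjective' _ Ideal.Quotient.mk_surjective, Ideal.mk_ker]
    exact sup_eq_left.mpr hp
  have hqc : q₁.comap (Ideal.Quotient.mk q₀) = q := by
    rw [Ideal.comap_map_of_surjective' _ Ideal.Quotient.mk_surjective, Ideal.mk_ker]
    exact sup_eq_left.mpr hq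
  have hαβ : (Ideal.Quotient.mk q₀).comp (algebraMap A B) =
      (algebraMap A₁ B₁).comp (Ideal.Quotient.mk p₀) := by
    ext x
    rfl
  haveI : q₁.LiesOver p₁ := by
    constructor
    apply Ideal.comap_injective_of_surjective _ (Ideal.Quotient.mk_surjective (I := p₀))
    rw [hpc, Ideal.under_def, Ideal.comap_comap, ← hαβ, ← Ideal.comap_comap, hqc,
      (‹q.LiesOver p›).over]
  haveI : FaithfulSMul A₁ B₁ := by
    rw [faithfulSMul_iff_algebraMap_injective]
    rw [injective_iff_map_eq_zero]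
    intro a ha
    obtain ⟨a, rfl⟩ := Ideal.Quotient.mk_surjective a
    have h1 : algebraMap A B a ∈ q₀ := by
      rw [← Ideal.Quotient.eq_zero_iff_mem]
      exact ha
    rw [Ideal.Quotient.eq_zero_iff_mem, (‹q₀.LiesOver p₀›).over]
    exact h1
  have key := DimIneq.dimension_inequality A₁ B₁ p₁ q₁
  -- identify residue rings
  have hbr := TrdegBridge.trdeg_quotient_eq_of_surjective (Ideal.Quotient.mk p₀)
    Ideal.Quotient.mk_surjective (Ideal.Quotient.mk q₀) Ideal.Quotient.mk_surjective hαβ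
    p₁ q₁ p q hpc.symm hqc.symm
  rw [hbr]
  exact key

end ring

section sch

variable {X Y : Scheme.{u}} [IsLocallyNoetherian Y] (f : X ⟶ Y) [LocallyOfFiniteType f]

/-- **Pointwise dimension inequality and formula** along a specialization `ξ ⤳ x`. -/
theorem formula_aux (x ξ : X) (h : ξ ⤳ x) (n E : ℕ)
    (hn : @Algebra.trdeg (Y.residueField (f x)) (X.residueField x) _ _
      (f.residueFieldMap x).hom.toAlgebra = n)
    (hE : @Algebra.trdeg (Y.residueField (f ξ)) (X.residueField ξ) _ _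
      (f.residueFieldMap ξ).hom.toAlgebra = E) :
    (ringKrullDim (Cyc.LocQuot x ξ h) + (n : WithBot ℕ∞) ≤
      ringKrullDim (Cyc.LocQuot (f x) (f ξ) (h.map f.continuous)) + (E : WithBot ℕ∞)) ∧
    (CAlg.IsUniversallyCatenary (Y.presheaf.stalk (f x)) →
      ringKrullDim (Cyc.LocQuot x ξ h) + (n : WithBot ℕ∞) =
        ringKrullDim (Cyc.LocQuot (f x) (f ξ) (h.map f.continuous)) + (E : WithBot ℕ∞)) := by
  obtain ⟨V, hV, hyV, -⟩ := exists_isAffineOpen_mem_and_subset (x := f x)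
    (U := (⊤ : Y.Opens)) trivial
  obtain ⟨U, hU, hxU, e⟩ := exists_isAffineOpen_mem_and_subset (x := x)
    (U := f ⁻¹ᵁ V) hyV
  letI alg : Algebra Γ(Y, V) Γ(X, U) := (f.appLE V U e).hom.toAlgebra
  have halg : algebraMap Γ(Y, V) Γ(X, U) = (f.appLE V U e).hom := rfl
  haveI : Algebra.FiniteType Γ(Y, V) Γ(X, U) := f.finiteType_appLE hV hU e
  haveI : IsNoetherianRing Γ(Y, V) := IsLocallyNoetherian.component_noetherian ⟨V, hV⟩
  haveI : IsNoetherianRing Γ(X, U) := Algebra.FiniteType.isNoetherianRing Γ(Y, V) Γ(X, U)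
  have hξU : ξ ∈ U := h.mem_open U.isOpen hxU
  let p : Ideal Γ(Y, V) := (hV.primeIdealOf ⟨f x, e hxU⟩).asIdeal
  haveI : p.IsPrime := (hV.primeIdealOf ⟨f x, e hxU⟩).isPrime
  let q : Ideal Γ(X, U) := (hU.primeIdealOf ⟨x, hxU⟩).asIdeal
  haveI : q.IsPrime := (hU.primeIdealOf ⟨x, hxU⟩).isPrime
  haveI : q.LiesOver p := ⟨(ResFieldBridge.under_primeIdealOf f hU hV e x hxU halg).symm⟩
  let p₀ : Ideal Γ(Y, V) := (hV.primeIdealOf ⟨f ξ, e hξU⟩).asIdeal
  haveI : p₀.IsPrime := (hV.primeIdealOf ⟨f ξ, e hξU⟩).isPrime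
  let q₀ : Ideal Γ(X, U) := (hU.primeIdealOf ⟨ξ, hξU⟩).asIdeal
  haveI : q₀.IsPrime := (hU.primeIdealOf ⟨ξ, hξU⟩).isPrime
  haveI : q₀.LiesOver p₀ := ⟨(ResFieldBridge.under_primeIdealOf f hU hV e ξ hξU halg).symm⟩
  have hq : q₀ ≤ q := by
    have : hU.primeIdealOf ⟨ξ, hξU⟩ ≤ hU.primeIdealOf ⟨x, hxU⟩ := by
      rw [← ResFieldBridge.specializes_fromSpec_iff hU, hU.fromSpec_primeIdealOf ⟨ξ, hξU⟩,
        hU.fromSpec_primeIdealOf ⟨x, hxU⟩]
      exact h
    exact this
  have h1 := ResFieldBridge.trdeg_residueField_eq f hU hV e x hxU halg p q rfl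
  have h2 := ResFieldBridge.trdeg_residueField_eq f hU hV e ξ hξU halg p₀ q₀ rfl
  rw [LocQuotDim.ringKrullDim_locQuot hU x ξ hxU hξU h,
    LocQuotDim.ringKrullDim_locQuot hV (f x) (f ξ) (e hxU) (e hξU) (h.map f.continuous)]
  constructor
  · have key := dimension_inequality_local Γ(Y, V) Γ(X, U) p₀ p q₀ q hq
    rw [← h1, ← h2, hn, hE] at key
    have key' : (((q.map (Ideal.Quotient.mk q₀)).height + (n : ℕ∞) : ℕ∞) : Cardinal.{u}) ≤
        (((p.map (Ideal.Quotient.mk p₀)).height + (E : ℕ∞) : ℕ∞) : Cardinal.{u}) := by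
      rw [Cardinal.ofENat_add, Cardinal.ofENat_add, Cardinal.ofENat_nat, Cardinal.ofENat_nat]
      exact key
    have key'' := Cardinal.ofENat_le_ofENat.mp key'
    exact_mod_cast (WithBot.coe_le_coe.mpr key'')
  · intro hcat
    have hcat' : CAlg.IsUniversallyCatenary (Localization.AtPrime p) := by
      letI := Y.presheaf.algebra_section_stalk ⟨f x, e hxU⟩
      haveI := hV.isLocalization_stalk ⟨f x, e hxU⟩
      exact DimFormulaSch.isUniversallyCatenary_of_ringEquiv
        (IsLocalization.algEquiv p.primeCompl (Y.presheaf.stalk (f x))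
          (Localization.AtPrime p)).toRingEquiv hcat
    have key := DimFormulaLocal.dimension_formula_local Γ(Y, V) Γ(X, U) p₀ p q₀ q hq hcat'
    rw [← h1, ← h2, hn, hE] at key
    have key' : (((q.map (Ideal.Quotient.mk q₀)).height + (n : ℕ∞) : ℕ∞) : Cardinal.{u}) =
        (((p.map (Ideal.Quotient.mk p₀)).height + (E : ℕ∞) : ℕ∞) : Cardinal.{u}) := by
      rw [Cardinal.ofENat_add, Cardinal.ofENat_add, Cardinal.ofENat_nat, Cardinal.ofENat_nat]
      exact key
    have key'' := Cardinal.ofENat_inj.mp key'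
    exact_mod_cast congrArg (fun z : ℕ∞ => (z : WithBot ℕ∞)) key''

end sch

end Groth.Agent.Helper14.PointwiseDim
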