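import Mathlib
import Groth.Prelude.Def_Cyc
import Groth.Agent.Lib.Helper14.ResFieldBridge
import Groth.Agent.Lib.Helper14.DimFormulaSch

/-!
# Dimension functions and heights
-/

namespace Groth.Agent.Helper14.DimFun
universe u
open TopologicalSpace AlgebraicGeometry CategoryTheory

/-- a function dropping by one along covering relations drops by the height. -/
theorem exists_isMin_of_height {α : Type*} [PartialOrder α] (δ : α → ℤ)
    (hδ : ∀ y x : α, y ⋖ x → δ y = δ x + 1) :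
    ∀ (n : ℕ) (x : α), Order.height x = n → ∃ y ≤ x, IsMin y ∧ δ y = δ x + n := by
  intro n
  induction n with
  | zero =>
    intro x hx
    refine ⟨x, le_rfl, ?_, by simp⟩
    exact Order.height_eq_zero.mp (by exact_mod_cast hx)
  | succ n ih =>
    intro x hx
    have hx' : Order.height x = (n : ℕ∞) + 1 := by exact_mod_cast hx
    obtain ⟨-, ⟨y, hyx, hy⟩, hall⟩ := Order.height_eq_coe_add_one_iff.mp hx'
    have hcov : y ⋖ x := by
      refine ⟨hyx, fun z hyz hzx => ?_⟩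
      have h1 := Order.height_add_one_le hyz
      have h2 := hall z hzx
      rw [hy] at h1
      have : (n : ℕ∞) + 1 ≤ n := h1.trans h2
      have : (n + 1 : ℕ) ≤ n := by exact_mod_cast this
      omega
    obtain ⟨y₀, hy₀, hmin, hδ₀⟩ := ih y hy
    refine ⟨y₀, hy₀.trans hyx.le, hmin, ?_⟩
    rw [hδ₀, hδ y x hcov]
    push_cast
    ring

section ring

variable {A : Type u} [CommRing A]

/-- covering relations in `Spec (A/p)` give covering relations in `Spec A`. -/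
theorem comap_mk_covBy (p : Ideal A) (P₁ P₂ : PrimeSpectrum (A ⧸ p)) (h : P₁ ⋖ P₂) :
    PrimeSpectrum.comap (Ideal.Quotient.mk p) P₁ ⋖ PrimeSpectrum.comap (Ideal.Quotient.mk p) P₂ := by
  let e := p.primeSpectrumQuotientOrderIsoZeroLocus
  have h1 : ∀ P : PrimeSpectrum (A ⧸ p), (e P).1 = PrimeSpectrum.comap (Ideal.Quotient.mk p) P :=
    fun P => rfl
  rw [← h1, ← h1]
  have h2 : e P₁ ⋖ e P₂ := (apply_covBy_apply_iff e).mpr h
  refine ⟨h2.1, fun Q hQ1 hQ2 => ?_⟩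
  have hQ : Q ∈ PrimeSpectrum.zeroLocus (p : Set A) := by
    have := (e P₁).2
    rw [PrimeSpectrum.mem_zeroLocus] at this ⊢
    exact this.trans hQ1.le
  exact h2.2 (c := ⟨Q, hQ⟩) hQ1 hQ2

/-- a function on `Spec A` dropping by one along covering relations drops by `ht (p'/p)` from
`p` to `p'`. -/
theorem delta_eq_add_height [IsNoetherianRing A] (δ : PrimeSpectrum A → ℤ)
    (hδ : ∀ P₁ P₂ : PrimeSpectrum A, P₁ ⋖ P₂ → δ P₁ = δ P₂ + 1)
    (p p' : Ideal A) [hp : p.IsPrime] [hp' : p'.IsPrime] (hpp' : p ≤ p') :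
    ∃ n : ℕ, (p'.map (Ideal.Quotient.mk p)).height = n ∧ δ ⟨p, hp⟩ = δ ⟨p', hp'⟩ + n := by
  let P' : Ideal (A ⧸ p) := p'.map (Ideal.Quotient.mk p)
  haveI hP' : P'.IsPrime := Ideal.map_isPrime_of_surjective Ideal.Quotient.mk_surjective
    (by rw [Ideal.mk_ker]; exact hpp')
  have hfin : P'.height ≠ ⊤ := Ideal.height_ne_top hP'.ne_top
  obtain ⟨n, hn⟩ := ENat.ne_top_iff_exists.mp hfin
  refine ⟨n, hn.symm, ?_⟩
  have hh : Order.height (⟨P', hP'⟩ : PrimeSpectrum (A ⧸ p)) = n := by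
    rw [hn]
    exact (PrimeSpectrum.height_eq_orderHeight (⟨P', hP'⟩ : PrimeSpectrum (A ⧸ p))).symm
  obtain ⟨y, hy, hmin, hδy⟩ := exists_isMin_of_height
    (fun P : PrimeSpectrum (A ⧸ p) => δ (PrimeSpectrum.comap (Ideal.Quotient.mk p) P))
    (fun P₁ P₂ h => hδ _ _ (comap_mk_covBy p P₁ P₂ h)) n ⟨P', hP'⟩ hh
  have hy0 : y = ⟨⊥, Ideal.isPrime_bot⟩ := by
    apply le_antisymm
    · exact hmin (b := ⟨⊥, Ideal.isPrime_bot⟩) (by
        change (⊥ : Ideal (A ⧸ p)) ≤ y.asIdeal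
        exact bot_le)
    · change (⊥ : Ideal (A ⧸ p)) ≤ y.asIdeal
      exact bot_le
  subst hy0
  have e1 : PrimeSpectrum.comap (Ideal.Quotient.mk p) ⟨⊥, Ideal.isPrime_bot⟩ = ⟨p, hp⟩ := by
    apply PrimeSpectrum.ext
    change (⊥ : Ideal (A ⧸ p)).comap (Ideal.Quotient.mk p) = p
    rw [← RingHom.ker_eq_comap_bot, Ideal.mk_ker]
  have e2 : PrimeSpectrum.comap (Ideal.Quotient.mk p) ⟨P', hP'⟩ = ⟨p', hp'⟩ := by
    apply PrimeSpectrum.ext
    change P'.comap (Ideal.Quotient.mk p) = p'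
    rw [Ideal.comap_map_of_surjective' _ Ideal.Quotient.mk_surjective, Ideal.mk_ker]
    exact sup_eq_left.mpr hpp'
  simp only [e1, e2] at hδy
  exact hδy

end ring

section scheme

variable {S : Scheme.{u}} (δ : S → ℤ) (hδ : Cyc.IsDimFun S δ) {V : S.Opens} (hV : IsAffineOpen V)

include hδ in
theorem delta_fromSpec_covBy (P₁ P₂ : PrimeSpectrum Γ(S, V)) (h : P₁ ⋖ P₂) :
    δ (hV.fromSpec P₁) = δ (hV.fromSpec P₂) + 1 := by
  have hsp : hV.fromSpec P₁ ⤳ hV.fromSpec P₂ :=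
    (ResFieldBridge.specializes_fromSpec_iff hV _ _).mpr h.le
  have hne : hV.fromSpec P₁ ≠ hV.fromSpec P₂ :=
    fun e => h.lt.ne (hV.fromSpec.isOpenEmbedding.injective e)
  refine (hδ _ _ hsp hne).2 ?_
  intro z hz1 hz2
  have hzV : z ∈ V := hz2.mem_open V.isOpen (ResFieldBridge.fromSpec_mem hV P₂)
  have hz : hV.fromSpec (hV.primeIdealOf ⟨z, hzV⟩) = z := hV.fromSpec_primeIdealOf ⟨z, hzV⟩
  rw [← hz] at hz1 hz2 ⊢
  rw [ResFieldBridge.specializes_fromSpec_iff] at hz1 hz2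
  rcases h.eq_or_eq hz1 hz2 with e | e
  · left; rw [e]
  · right; rw [e]

include hδ in
/-- a dimension function drops by `ht (p'/p)` along a specialization, computed in an affine
chart. -/
theorem delta_eq_add_height_sch [IsNoetherianRing Γ(S, V)] (y y' : S) (hy : y ∈ V) (hy' : y' ∈ V)
    (h : y ⤳ y') :
    ∃ n : ℕ, ((hV.primeIdealOf ⟨y', hy'⟩).asIdeal.map
      (Ideal.Quotient.mk (hV.primeIdealOf ⟨y, hy⟩).asIdeal)).height = n ∧ δ y = δ y' + n := by
  have hle : hV.primeIdealOf ⟨y, hy⟩ ≤ hV.primeIdealOf ⟨y', hy'⟩ := by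
    rw [← ResFieldBridge.specializes_fromSpec_iff hV, hV.fromSpec_primeIdealOf ⟨y, hy⟩,
      hV.fromSpec_primeIdealOf ⟨y', hy'⟩]
    exact h
  haveI := (hV.primeIdealOf ⟨y, hy⟩).isPrime
  haveI := (hV.primeIdealOf ⟨y', hy'⟩).isPrime
  obtain ⟨n, hn, hn'⟩ := delta_eq_add_height (fun P => δ (hV.fromSpec P))
    (fun P₁ P₂ h => delta_fromSpec_covBy δ hδ hV P₁ P₂ h)
    (hV.primeIdealOf ⟨y, hy⟩).asIdeal (hV.primeIdealOf ⟨y', hy'⟩).asIdeal hle
  refine ⟨n, hn, ?_⟩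
  have e1 : hV.fromSpec (hV.primeIdealOf ⟨y, hy⟩) = y := hV.fromSpec_primeIdealOf ⟨y, hy⟩
  have e2 : hV.fromSpec (hV.primeIdealOf ⟨y', hy'⟩) = y' := hV.fromSpec_primeIdealOf ⟨y', hy'⟩
  simp only at hn'
  have e1' : hV.fromSpec ⟨(hV.primeIdealOf ⟨y, hy⟩).asIdeal, (hV.primeIdealOf ⟨y, hy⟩).isPrime⟩ = y :=
    e1
  have e2' : hV.fromSpec ⟨(hV.primeIdealOf ⟨y', hy'⟩).asIdeal,
      (hV.primeIdealOf ⟨y', hy'⟩).isPrime⟩ = y' := e2
  rw [e1', e2'] at hn'
  exact hn'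

end scheme

section covby

variable {B : Type u} [CommRing B] [IsNoetherianRing B]

/-- if `q ⋖ q'` in `Spec B` then `ht (q'/q) = 1`. -/
theorem height_map_eq_one_of_covBy (q q' : PrimeSpectrum B) (h : q ⋖ q') :
    (q'.asIdeal.map (Ideal.Quotient.mk q.asIdeal)).height = 1 := by
  haveI := q.isPrime
  haveI := q'.isPrime
  let Q' : Ideal (B ⧸ q.asIdeal) := q'.asIdeal.map (Ideal.Quotient.mk q.asIdeal)
  have hqq' : q.asIdeal ≤ q'.asIdeal := h.le
  haveI hQ' : Q'.IsPrime := Ideal.map_isPrime_of_surjective Ideal.Quotient.mk_surjective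
    (by rw [Ideal.mk_ker]; exact hqq')
  have hc : ∀ P : PrimeSpectrum (B ⧸ q.asIdeal),
      q ≤ PrimeSpectrum.comap (Ideal.Quotient.mk q.asIdeal) P := by
    intro P
    change q.asIdeal ≤ P.asIdeal.comap (Ideal.Quotient.mk q.asIdeal)
    conv_lhs => rw [← Ideal.mk_ker (I := q.asIdeal), RingHom.ker_eq_comap_bot]
    exact Ideal.comap_mono bot_le
  have e2 : PrimeSpectrum.comap (Ideal.Quotient.mk q.asIdeal) ⟨Q', hQ'⟩ = q' := by
    apply PrimeSpectrum.ext
    change Q'.comap (Ideal.Quotient.mk q.asIdeal) = q'.asIdeal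
    rw [Ideal.comap_map_of_surjective' _ Ideal.Quotient.mk_surjective, Ideal.mk_ker]
    exact sup_eq_left.mpr hqq'
  have hinj : Function.Injective (PrimeSpectrum.comap (Ideal.Quotient.mk q.asIdeal)) :=
    PrimeSpectrum.comap_injective_of_surjective _ Ideal.Quotient.mk_surjective
  have hmono : ∀ P₁ P₂ : PrimeSpectrum (B ⧸ q.asIdeal), P₁ ≤ P₂ →
      PrimeSpectrum.comap (Ideal.Quotient.mk q.asIdeal) P₁ ≤
        PrimeSpectrum.comap (Ideal.Quotient.mk q.asIdeal) P₂ := fun P₁ P₂ h12 =>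
    Ideal.comap_mono (f := Ideal.Quotient.mk q.asIdeal) h12
  have e1 : PrimeSpectrum.comap (Ideal.Quotient.mk q.asIdeal) ⟨⊥, Ideal.isPrime_bot⟩ = q := by
    apply PrimeSpectrum.ext
    change (⊥ : Ideal (B ⧸ q.asIdeal)).comap (Ideal.Quotient.mk q.asIdeal) = q.asIdeal
    rw [← RingHom.ker_eq_comap_bot, Ideal.mk_ker]
  have hlt : ∀ y : PrimeSpectrum (B ⧸ q.asIdeal), y < ⟨Q', hQ'⟩ → y = ⟨⊥, Ideal.isPrime_bot⟩ := by
    intro y hy
    have h1 := hc y
    have h2 : PrimeSpectrum.comap (Ideal.Quotient.mk q.asIdeal) y ≤ q' := by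
      rw [← e2]; exact hmono _ _ hy.le
    rcases h.eq_or_eq h1 h2 with e | e
    · apply hinj
      rw [e, e1]
    · exfalso
      rw [← e2] at e
      exact hy.ne (hinj e)
  have hbot : (⟨⊥, Ideal.isPrime_bot⟩ : PrimeSpectrum (B ⧸ q.asIdeal)) < ⟨Q', hQ'⟩ := by
    refine lt_of_le_of_ne ?_ ?_
    · change (⊥ : Ideal (B ⧸ q.asIdeal)) ≤ Q'
      exact bot_le
    · intro e
      have := congrArg (PrimeSpectrum.comap (Ideal.Quotient.mk q.asIdeal)) e
      rw [e1, e2] at this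
      exact h.lt.ne this
  have hmin0 : Order.height (⟨⊥, Ideal.isPrime_bot⟩ : PrimeSpectrum (B ⧸ q.asIdeal)) = 0 := by
    rw [Order.height_eq_zero]
    intro b _
    change (⊥ : Ideal (B ⧸ q.asIdeal)) ≤ b.asIdeal
    exact bot_le
  have hfin : Q'.height ≠ ⊤ := Ideal.height_ne_top hQ'.ne_top
  have hh : Order.height (⟨Q', hQ'⟩ : PrimeSpectrum (B ⧸ q.asIdeal)) = ((0 : ℕ) : ℕ∞) + 1 := by
    rw [Order.height_eq_coe_add_one_iff]
    refine ⟨?_, ⟨_, hbot, by rw [hmin0]; rfl⟩, fun y hy => ?_⟩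
    · rw [← PrimeSpectrum.height_eq_orderHeight]
      exact hfin.lt_top
    · rw [hlt y hy, hmin0]
      rfl
  have : Q'.height = 1 := by
    rw [PrimeSpectrum.height_eq_orderHeight (⟨Q', hQ'⟩ : PrimeSpectrum (B ⧸ q.asIdeal)), hh]
    simp
  exact this

end covby

section immediate

variable {X : Scheme.{u}} {U : X.Opens} (hU : IsAffineOpen U)

/-- an immediate specialization gives a covering relation of primes in an affine chart. -/
theorem primeIdealOf_covBy (x x' : X) (hx : x ∈ U) (hx' : x' ∈ U) (h : x ⤳ x') (hne : x ≠ x')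
    (himm : ∀ z : X, x ⤳ z → z ⤳ x' → z = x ∨ z = x') :
    hU.primeIdealOf ⟨x, hx⟩ ⋖ hU.primeIdealOf ⟨x', hx'⟩ := by
  have e1 : hU.fromSpec (hU.primeIdealOf ⟨x, hx⟩) = x := hU.fromSpec_primeIdealOf ⟨x, hx⟩
  have e2 : hU.fromSpec (hU.primeIdealOf ⟨x', hx'⟩) = x' := hU.fromSpec_primeIdealOf ⟨x', hx'⟩
  have hle : hU.primeIdealOf ⟨x, hx⟩ ≤ hU.primeIdealOf ⟨x', hx'⟩ := by
    rw [← ResFieldBridge.specializes_fromSpec_iff hU, e1, e2]
    exact h
  refine ⟨lt_of_le_of_ne hle ?_, ?_⟩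
  · intro e
    rw [e, e2] at e1
    exact hne e1.symm
  · intro Q hQ1 hQ2
    have h1 : x ⤳ hU.fromSpec Q := by
      rw [← e1, ResFieldBridge.specializes_fromSpec_iff hU]
      exact hQ1.le
    have h2 : hU.fromSpec Q ⤳ x' := by
      rw [← e2, ResFieldBridge.specializes_fromSpec_iff hU]
      exact hQ2.le
    rcases himm _ h1 h2 with e | e
    · rw [← e1] at e
      exact hQ1.ne (hU.fromSpec.isOpenEmbedding.injective e).symm
    · rw [← e2] at e
      exact hQ2.ne (hU.fromSpec.isOpenEmbedding.injective e)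

end immediate

section main

/-- **Induced dimension functions**: if `δ` is a dimension function on a locally Noetherian scheme
with universally catenary local rings and `f : X ⟶ S` is locally of finite type, then
`δ_X(x) = δ(f x) + trdeg κ(x)/κ(f x)` is a dimension function. -/
theorem isDimFun_of_deltaCompat {X S : Scheme.{u}} (f : X ⟶ S) [LocallyOfFiniteType f]
    (δ : S → ℤ) (hS : Cyc.IsSetup S δ) (δX : X → ℤ) (hδ : Cyc.DeltaCompat f δX δ) :
    Cyc.IsDimFun X δX := by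
  obtain ⟨hNoeth, hcatS, hdim⟩ := hS
  haveI := hNoeth
  intro x x' hsp hne
  obtain ⟨V, hV, hyV, -⟩ := exists_isAffineOpen_mem_and_subset (x := f x')
    (U := (⊤ : S.Opens)) trivial
  obtain ⟨U, hU, hxU', e⟩ := exists_isAffineOpen_mem_and_subset (x := x')
    (U := f ⁻¹ᵁ V) hyV
  have hxU : x ∈ U := hsp.mem_open U.isOpen hxU'
  letI alg : Algebra Γ(S, V) Γ(X, U) := (f.appLE V U e).hom.toAlgebra
  have halg : algebraMap Γ(S, V) Γ(X, U) = (f.appLE V U e).hom := rfl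
  haveI : Algebra.FiniteType Γ(S, V) Γ(X, U) := f.finiteType_appLE hV hU e
  haveI : IsNoetherianRing Γ(S, V) := IsLocallyNoetherian.component_noetherian ⟨V, hV⟩
  haveI : IsNoetherianRing Γ(X, U) := Algebra.FiniteType.isNoetherianRing Γ(S, V) Γ(X, U)
  let p : Ideal Γ(S, V) := (hV.primeIdealOf ⟨f x, e hxU⟩).asIdeal
  haveI : p.IsPrime := (hV.primeIdealOf ⟨f x, e hxU⟩).isPrime
  let q : Ideal Γ(X, U) := (hU.primeIdealOf ⟨x, hxU⟩).asIdeal
  haveI : q.IsPrime := (hU.primeIdealOf ⟨x, hxU⟩).isPrime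
  haveI : q.LiesOver p := ⟨(ResFieldBridge.under_primeIdealOf f hU hV e x hxU halg).symm⟩
  let p' : Ideal Γ(S, V) := (hV.primeIdealOf ⟨f x', e hxU'⟩).asIdeal
  haveI : p'.IsPrime := (hV.primeIdealOf ⟨f x', e hxU'⟩).isPrime
  let q' : Ideal Γ(X, U) := (hU.primeIdealOf ⟨x', hxU'⟩).asIdeal
  haveI : q'.IsPrime := (hU.primeIdealOf ⟨x', hxU'⟩).isPrime
  haveI : q'.LiesOver p' := ⟨(ResFieldBridge.under_primeIdealOf f hU hV e x' hxU' halg).symm⟩
  have e1 : hU.fromSpec (hU.primeIdealOf ⟨x, hxU⟩) = x := hU.fromSpec_primeIdealOf ⟨x, hxU⟩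
  have e2 : hU.fromSpec (hU.primeIdealOf ⟨x', hxU'⟩) = x' := hU.fromSpec_primeIdealOf ⟨x', hxU'⟩
  have hqle : hU.primeIdealOf ⟨x, hxU⟩ ≤ hU.primeIdealOf ⟨x', hxU'⟩ := by
    rw [← ResFieldBridge.specializes_fromSpec_iff hU, e1, e2]
    exact hsp
  have hq : q ≤ q' := hqle
  have hqne : q ≠ q' := by
    intro hqq
    have : hU.primeIdealOf ⟨x, hxU⟩ = hU.primeIdealOf ⟨x', hxU'⟩ := PrimeSpectrum.ext hqq
    rw [this, e2] at e1
    exact hne e1.symm
  have hcat' : CAlg.IsUniversallyCatenary (Localization.AtPrime p') := by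
    letI := S.presheaf.algebra_section_stalk ⟨f x', e hxU'⟩
    haveI := hV.isLocalization_stalk ⟨f x', e hxU'⟩
    exact DimFormulaSch.isUniversallyCatenary_of_ringEquiv
      (IsLocalization.algEquiv p'.primeCompl (S.presheaf.stalk (f x'))
        (Localization.AtPrime p')).toRingEquiv (hcatS (f x'))
  have key := DimFormulaLocal.dimension_formula_local Γ(S, V) Γ(X, U) p p' q q' hq hcat'
  obtain ⟨n, hn, hδx⟩ := hδ x
  obtain ⟨n', hn', hδx'⟩ := hδ x'
  have h1 := ResFieldBridge.trdeg_residueField_eq f hU hV e x hxU halg p q rfl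
  have h1' := ResFieldBridge.trdeg_residueField_eq f hU hV e x' hxU' halg p' q' rfl
  have hn2 : Algebra.trdeg (Γ(S, V) ⧸ p) (Γ(X, U) ⧸ q) = n := h1.symm.trans hn
  have hn2' : Algebra.trdeg (Γ(S, V) ⧸ p') (Γ(X, U) ⧸ q') = n' := h1'.symm.trans hn'
  obtain ⟨s, hs, hδs⟩ := delta_eq_add_height_sch δ hdim hV (f x) (f x') (e hxU) (e hxU')
    (hsp.map f.continuous)
  have hQ'prime : (q'.map (Ideal.Quotient.mk q)).IsPrime :=
    Ideal.map_isPrime_of_surjective Ideal.Quotient.mk_surjective (by rw [Ideal.mk_ker]; exact hq)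
  have hfin : (q'.map (Ideal.Quotient.mk q)).height ≠ ⊤ := Ideal.height_ne_top hQ'prime.ne_top
  obtain ⟨r, hr⟩ := ENat.ne_top_iff_exists.mp hfin
  rw [hn2, hn2', ← hr] at key
  have hs' : ((hV.primeIdealOf ⟨f x', e hxU'⟩).asIdeal.map
      (Ideal.Quotient.mk (hV.primeIdealOf ⟨f x, e hxU⟩).asIdeal)).height = s := hs
  change (((r : ℕ∞) : Cardinal.{u})) + (n' : Cardinal.{u}) =
    (((p'.map (Ideal.Quotient.mk p)).height : ℕ∞) : Cardinal.{u}) + (n : Cardinal.{u}) at key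
  rw [hs'] at key
  have hnat : r + n' = s + n := by
    have : ((r + n' : ℕ) : Cardinal.{u}) = ((s + n : ℕ) : Cardinal.{u}) := by
      push_cast
      rw [Cardinal.ofENat_nat, Cardinal.ofENat_nat] at key
      exact key
    exact_mod_cast this
  have hr1 : 1 ≤ r := by
    rcases Nat.eq_zero_or_pos r with h0 | h0
    · exfalso
      rw [h0] at hr
      have hz : (q'.map (Ideal.Quotient.mk q)).height = 0 := by rw [← hr]; rfl
      rw [Ideal.height_eq_zero_iff_eq_bot, Ideal.map_eq_bot_iff_le_ker, Ideal.mk_ker] at hz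
      exact hqne (le_antisymm hq hz)
    · exact h0
  have hδeq : δX x = δX x' + r := by
    rw [hδx, hδx', hδs]
    have : (r : ℤ) + n' = s + n := by exact_mod_cast hnat
    linarith
  refine ⟨by rw [hδeq]; have : (1 : ℤ) ≤ r := by exact_mod_cast hr1
             linarith, fun himm => ?_⟩
  have hcov := primeIdealOf_covBy hU x x' hxU hxU' hsp hne himm
  have hone := height_map_eq_one_of_covBy _ _ hcov
  change (q'.map (Ideal.Quotient.mk q)).height = 1 at hone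
  rw [← hr] at hone
  have : r = 1 := by exact_mod_cast hone
  rw [hδeq, this]
  rfl

end main

section generic

/-- on an irreducible locally Noetherian scheme a dimension function drops from the generic point to
`ξ` by `dim O_{X,ξ}`. -/
theorem delta_generic {X : Scheme.{u}} [IrreducibleSpace X] [IsLocallyNoetherian X] (δ : X → ℤ)
    (hδ : Cyc.IsDimFun X δ) (ξ : X) :
    ∃ m : ℕ, ringKrullDim (X.presheaf.stalk ξ) = (m : WithBot ℕ∞) ∧
      δ (genericPoint X) = δ ξ + m := by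
  obtain ⟨U, hU, hξU, -⟩ := exists_isAffineOpen_mem_and_subset (x := ξ)
    (U := (⊤ : X.Opens)) trivial
  have hηU : genericPoint X ∈ U := DimFormulaSch.genericPoint_mem U ξ hξU
  haveI : IsNoetherianRing Γ(X, U) := IsLocallyNoetherian.component_noetherian ⟨U, hU⟩
  obtain ⟨m, hm, hδm⟩ := delta_eq_add_height_sch δ hδ hU (genericPoint X) ξ hηU hξU
    (genericPoint_specializes ξ)
  refine ⟨m, ?_, hδm⟩
  haveI := (hU.primeIdealOf ⟨genericPoint X, hηU⟩).isPrime
  haveI := (hU.primeIdealOf ⟨ξ, hξU⟩).isPrime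
  rw [ResFieldBridge.ringKrullDim_stalk hU ξ hξU,
    ← DimFormulaSch.height_map_eq_of_unique_minimal (hU.primeIdealOf ⟨genericPoint X, hηU⟩).asIdeal
      (fun Q hQ => DimFormulaSch.primeIdealOf_generic_le hU hηU ⟨Q, hQ⟩)
      (hU.primeIdealOf ⟨ξ, hξU⟩).asIdeal, hm]
  rfl


end generic

end Groth.Agent.Helper14.DimFun
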