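import Mathlib
import Groth.Prelude.Def_Cyc
import Groth.Agent.Lib.Helper14.DimFun
import Groth.Agent.S2680

/-!
# Dimension of the closure of a point of a scheme locally of finite type over a field
-/

namespace Groth.Agent.Helper14.DimClosure
universe u
open TopologicalSpace AlgebraicGeometry CategoryTheory

section top

/-- a function strictly decreasing along specializations and with values in `[c, N]` bounds the
dimension of a sober space. -/
theorem topDim_le_of_strictAnti {T : Type*} [TopologicalSpace T] [QuasiSober T] [T0Space T]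
    (δ : T → ℤ) (hδ : ∀ t t' : T, t ⤳ t' → t ≠ t' → δ t' < δ t) (c N : ℤ)
    (hc : ∀ t, c ≤ δ t) (hN : ∀ t, δ t ≤ N) :
    topologicalKrullDim T ≤ (((N - c).toNat : ℕ) : WithBot ℕ∞) := by
  unfold topologicalKrullDim
  letI : PartialOrder T := specializationOrder T
  rw [Order.krullDim_eq_of_orderIso (irreducibleSetEquivPoints (α := T))]
  refine iSup_le fun p => ?_
  have hmono : StrictMono δ := by
    intro a b hab
    have h1 : b ⤳ a := hab.le
    have h2 : b ≠ a := hab.ne'
    exact hδ b a h1 h2
  have h := LTSeries.head_add_length_le_int (p.map δ hmono)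
  have hh : (p.map δ hmono).head = δ p.head := rfl
  have hl : (p.map δ hmono).last = δ p.last := rfl
  have hlen : (p.map δ hmono).length = p.length := rfl
  rw [hh, hl, hlen] at h
  have h3 : (p.length : ℤ) ≤ N - c := by
    have := hc p.head
    have := hN p.last
    linarith
  have h4 : p.length ≤ (N - c).toNat := by omega
  exact_mod_cast h4

/-- a map from a poset to the points of a `T₀` space turning strict inequalities into strict
specializations bounds the dimension from below. -/
theorem krullDim_le_topDim_of_strictAnti {α : Type*} [PartialOrder α] {T : Type*}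
    [TopologicalSpace T] [T0Space T] (φ : α → T)
    (hφ : ∀ a b : α, a < b → φ a ⤳ φ b ∧ φ a ≠ φ b) :
    Order.krullDim α ≤ topologicalKrullDim T := by
  unfold topologicalKrullDim
  rw [← Order.krullDim_orderDual (α := IrreducibleCloseds T)]
  let ψ : α → (IrreducibleCloseds T)ᵒᵈ := fun a =>
    OrderDual.toDual ⟨closure {φ a}, isIrreducible_singleton.closure, isClosed_closure⟩
  refine Order.krullDim_le_of_strictMono ψ ?_
  intro a b hab
  obtain ⟨h1, h2⟩ := hφ a b hab
  have hsub : closure {φ b} ⊆ closure {φ a} := specializes_iff_closure_subset.mp h1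
  change (⟨closure {φ b}, _, _⟩ : IrreducibleCloseds T) < ⟨closure {φ a}, _, _⟩
  refine lt_of_le_of_ne hsub ?_
  intro heq
  have heq' : closure {φ b} = closure {φ a} := congrArg (fun Z : IrreducibleCloseds T => (Z : Set T)) heq
  have h3 : φ b ⤳ φ a := specializes_iff_closure_subset.mpr heq'.ge
  exact h2 ((h1.antisymm h3).eq)

end top

section sch

variable {Y : Scheme.{u}} [IsLocallyNoetherian Y] (δ : Y → ℤ) (hδ : Cyc.IsDimFun Y δ)

include hδ in
/-- **Dimension of the closure of a point** through a dimension function: if `t` is a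
specialization of `η` at which `δ` takes its minimal value `c` on the closure of `η`, then
`dim closure {η} = δ η - c`. -/
theorem dim_closure_of_isDimFun (η t : Y) (hηt : η ⤳ t) (c : ℤ)
    (hc : ∀ y, η ⤳ y → c ≤ δ y) (hct : δ t = c) :
    topologicalKrullDim (closure ({η} : Set Y)) = (((δ η - c).toNat : ℕ) : WithBot ℕ∞) := by
  apply le_antisymm
  · haveI : QuasiSober (closure ({η} : Set Y)) :=
      (isClosed_closure.isClosedEmbedding_subtypeVal).quasiSober
    refine topDim_le_of_strictAnti (fun z : closure ({η} : Set Y) => δ z.1) ?_ c (δ η) ?_ ?_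
    · intro z z' hzz' hne
      have h1 : (z : Y) ⤳ (z' : Y) := (subtype_specializes_iff z z').mp hzz'
      exact (hδ _ _ h1 (fun e => hne (Subtype.ext e))).1
    · intro z
      exact hc z.1 (specializes_iff_mem_closure.mpr z.2)
    · intro z
      have h1 : η ⤳ (z : Y) := specializes_iff_mem_closure.mpr z.2
      by_cases e : η = z.1
      · rw [← e]
      · exact (hδ _ _ h1 e).1.le
  · obtain ⟨V, hV, htV, -⟩ := exists_isAffineOpen_mem_and_subset (x := t)
      (U := (⊤ : Y.Opens)) trivial
    have hηV : η ∈ V := hηt.mem_open V.isOpen htV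
    haveI : IsNoetherianRing Γ(Y, V) := IsLocallyNoetherian.component_noetherian ⟨V, hV⟩
    obtain ⟨m, hm, hδm⟩ := DimFun.delta_eq_add_height_sch δ hδ hV η t hηV htV hηt
    have hmc : (δ η - c).toNat = m := by
      rw [hδm, hct]
      simp
    rw [hmc]
    let p : Ideal Γ(Y, V) := (hV.primeIdealOf ⟨η, hηV⟩).asIdeal
    haveI : p.IsPrime := (hV.primeIdealOf ⟨η, hηV⟩).isPrime
    let p' : Ideal Γ(Y, V) := (hV.primeIdealOf ⟨t, htV⟩).asIdeal
    haveI : p'.IsPrime := (hV.primeIdealOf ⟨t, htV⟩).isPrime
    have hpp' : p ≤ p' := by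
      have : hV.primeIdealOf ⟨η, hηV⟩ ≤ hV.primeIdealOf ⟨t, htV⟩ := by
        rw [← ResFieldBridge.specializes_fromSpec_iff hV, hV.fromSpec_primeIdealOf ⟨η, hηV⟩,
          hV.fromSpec_primeIdealOf ⟨t, htV⟩]
        exact hηt
      exact this
    have hP' : (p'.map (Ideal.Quotient.mk p)).IsPrime :=
      Ideal.map_isPrime_of_surjective Ideal.Quotient.mk_surjective
        (by rw [Ideal.mk_ker]; exact hpp')
    have hh : Order.height (⟨p'.map (Ideal.Quotient.mk p), hP'⟩ : PrimeSpectrum (Γ(Y, V) ⧸ p)) = m := by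
      rw [← PrimeSpectrum.height_eq_orderHeight]
      exact hm
    have h1 : ((m : ℕ∞) : WithBot ℕ∞) ≤ Order.krullDim (PrimeSpectrum (Γ(Y, V) ⧸ p)) := by
      rw [← hh]
      exact Order.height_le_krullDim _
    refine le_trans (by exact_mod_cast h1) ?_
    -- the map to the closure
    have hmem : ∀ P : PrimeSpectrum (Γ(Y, V) ⧸ p),
        hV.fromSpec (PrimeSpectrum.comap (Ideal.Quotient.mk p) P) ∈ closure ({η} : Set Y) := by
      intro P
      have e1 : hV.fromSpec (hV.primeIdealOf ⟨η, hηV⟩) = η := hV.fromSpec_primeIdealOf ⟨η, hηV⟩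
      rw [← specializes_iff_mem_closure]
      conv_lhs => rw [← e1]
      rw [ResFieldBridge.specializes_fromSpec_iff hV]
      change p ≤ P.asIdeal.comap (Ideal.Quotient.mk p)
      conv_lhs => rw [← Ideal.mk_ker (I := p), RingHom.ker_eq_comap_bot]
      exact Ideal.comap_mono bot_le
    refine krullDim_le_topDim_of_strictAnti
      (fun P : PrimeSpectrum (Γ(Y, V) ⧸ p) =>
        (⟨hV.fromSpec (PrimeSpectrum.comap (Ideal.Quotient.mk p) P), hmem P⟩ :
          closure ({η} : Set Y))) ?_
    intro P₁ P₂ h12
    have hinj : Function.Injective (PrimeSpectrum.comap (Ideal.Quotient.mk p)) :=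
      PrimeSpectrum.comap_injective_of_surjective _ Ideal.Quotient.mk_surjective
    have hle : PrimeSpectrum.comap (Ideal.Quotient.mk p) P₁ ≤
        PrimeSpectrum.comap (Ideal.Quotient.mk p) P₂ :=
      Ideal.comap_mono (f := Ideal.Quotient.mk p) h12.le
    constructor
    · rw [subtype_specializes_iff]
      exact (ResFieldBridge.specializes_fromSpec_iff hV _ _).mpr hle
    · intro e
      have e' := congrArg Subtype.val e
      exact h12.ne (hinj (hV.fromSpec.isOpenEmbedding.injective e'))

end sch

section field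

variable (k : Type u) [Field k]

theorem isUniversallyCatenary_stalk_specField (s : Spec (CommRingCat.of k)) :
    CAlg.IsUniversallyCatenary ((Spec (CommRingCat.of k)).presheaf.stalk s) := by
  have hU := isAffineOpen_top (Spec (CommRingCat.of k))
  have hs : s ∈ (⊤ : (Spec (CommRingCat.of k)).Opens) := trivial
  letI := (Spec (CommRingCat.of k)).presheaf.algebra_section_stalk
    (⟨s, hs⟩ : (⊤ : (Spec (CommRingCat.of k)).Opens))
  haveI := hU.isLocalization_stalk ⟨s, hs⟩
  let e := Scheme.ΓSpecIso (CommRingCat.of k)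
  let φ : k →+* (Spec (CommRingCat.of k)).presheaf.stalk s :=
    (algebraMap Γ(Spec (CommRingCat.of k), ⊤) ((Spec (CommRingCat.of k)).presheaf.stalk s)).comp
      e.inv.hom
  refine DimFormulaLocal.isUniversallyCatenary_of_surjective φ ?_
    (Groth.Agent.S2680.isUniversallyCatenary_field k)
  intro z
  obtain ⟨⟨a, m⟩, h⟩ := IsLocalization.surj (hU.primeIdealOf ⟨s, hs⟩).asIdeal.primeCompl z
  have hm0 : e.hom.hom (m : Γ(Spec (CommRingCat.of k), ⊤)) ≠ 0 := by
    intro h0
    have : (m : Γ(Spec (CommRingCat.of k), ⊤)) = 0 := by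
      have := congrArg e.inv.hom h0
      rw [map_zero] at this
      rw [← this]
      exact (congrFun (congrArg DFunLike.coe (congrArg CommRingCat.Hom.hom e.hom_inv_id)) _).symm
    exact m.2 (by rw [this]; exact Ideal.zero_mem _)
  refine ⟨e.hom.hom a * (e.hom.hom (m : Γ(Spec (CommRingCat.of k), ⊤)))⁻¹, ?_⟩
  have hinv : ∀ x : Γ(Spec (CommRingCat.of k), ⊤), e.inv.hom (e.hom.hom x) = x := fun x =>
    congrFun (congrArg DFunLike.coe (congrArg CommRingCat.Hom.hom e.hom_inv_id)) x
  have hφm : φ (e.hom.hom (m : Γ(Spec (CommRingCat.of k), ⊤))) =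
      algebraMap Γ(Spec (CommRingCat.of k), ⊤)
        ((Spec (CommRingCat.of k)).presheaf.stalk s) (m : Γ(Spec (CommRingCat.of k), ⊤)) := by
    change algebraMap _ _ (e.inv.hom (e.hom.hom _)) = _
    rw [hinv]
  have hmunit : algebraMap Γ(Spec (CommRingCat.of k), ⊤)
      ((Spec (CommRingCat.of k)).presheaf.stalk s) (m : Γ(Spec (CommRingCat.of k), ⊤)) *
      φ (e.hom.hom (m : Γ(Spec (CommRingCat.of k), ⊤)))⁻¹ = 1 := by
    rw [← hφm, ← map_mul, mul_inv_cancel₀ hm0, map_one]
  have ha : φ (e.hom.hom a) = algebraMap Γ(Spec (CommRingCat.of k), ⊤)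
      ((Spec (CommRingCat.of k)).presheaf.stalk s) a := by
    change algebraMap _ _ (e.inv.hom (e.hom.hom a)) = _
    rw [hinv]
  rw [map_mul, ha, ← h, mul_assoc, hmunit, mul_one]

theorem isSetup_specField : Cyc.IsSetup (Spec (CommRingCat.of k)) (fun _ => 0) := by
  refine ⟨inferInstance, isUniversallyCatenary_stalk_specField k, ?_⟩
  intro x y _ hne
  exfalso
  haveI : Subsingleton (PrimeSpectrum k) := inferInstance
  exact hne (Subsingleton.elim (α := PrimeSpectrum k) x y)

end field

section trdegFun

/-- the transcendence degree of the residue field extension, as an integer. -/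
noncomputable def trdegFun {Y S : Scheme.{u}} (g : Y ⟶ S) (y : Y) : ℤ :=
  (Cardinal.toNat (@Algebra.trdeg (S.residueField (g y)) (Y.residueField y) _ _
    (g.residueFieldMap y).hom.toAlgebra) : ℤ)

theorem trdegFun_eq {Y S : Scheme.{u}} (g : Y ⟶ S) (y : Y) (n : ℕ)
    (hn : @Algebra.trdeg (S.residueField (g y)) (Y.residueField y) _ _
      (g.residueFieldMap y).hom.toAlgebra = n) : trdegFun g y = n := by
  unfold trdegFun
  rw [hn, Cardinal.toNat_natCast]

theorem trdegFun_nonneg {Y S : Scheme.{u}} (g : Y ⟶ S) (y : Y) : 0 ≤ trdegFun g y := by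
  unfold trdegFun
  exact Int.natCast_nonneg _

theorem deltaCompat_trdegFun {Y S : Scheme.{u}} (g : Y ⟶ S) [LocallyOfFiniteType g] :
    Cyc.DeltaCompat g (trdegFun g) (fun _ => 0) := by
  intro y
  obtain ⟨n, hn⟩ := ResFieldBridge.exists_nat_trdeg_residueField g y
  exact ⟨n, hn, by rw [trdegFun_eq g y n hn, zero_add]⟩

theorem isDimFun_trdegFun (k : Type u) [Field k] {Y : Scheme.{u}}
    (g : Y ⟶ Spec (CommRingCat.of k)) [LocallyOfFiniteType g] : Cyc.IsDimFun Y (trdegFun g) :=
  DimFun.isDimFun_of_deltaCompat g (fun _ => 0) (isSetup_specField k) (trdegFun g)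
    (deltaCompat_trdegFun g)

end trdegFun

section closedpt

variable {X Y : Scheme.{u}} (f : X ⟶ Y) [LocallyOfFiniteType f]

/-- every point specializes to a point of the same fibre whose residue field is algebraic over the
residue field of the base point (a closed point of the fibre). -/
theorem exists_specializes_trdeg_eq_zero (x' : X) :
    ∃ x : X, x' ⤳ x ∧ f x = f x' ∧ @Algebra.trdeg (Y.residueField (f x)) (X.residueField x) _ _
      (f.residueFieldMap x).hom.toAlgebra = 0 := by
  obtain ⟨V, hV, hyV, -⟩ := exists_isAffineOpen_mem_and_subset (x := f x')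
    (U := (⊤ : Y.Opens)) trivial
  obtain ⟨U, hU, hxU', e⟩ := exists_isAffineOpen_mem_and_subset (x := x')
    (U := f ⁻¹ᵁ V) hyV
  letI alg : Algebra Γ(Y, V) Γ(X, U) := (f.appLE V U e).hom.toAlgebra
  have halg : algebraMap Γ(Y, V) Γ(X, U) = (f.appLE V U e).hom := rfl
  haveI : Algebra.FiniteType Γ(Y, V) Γ(X, U) := f.finiteType_appLE hV hU e
  let p : PrimeSpectrum Γ(Y, V) := hV.primeIdealOf ⟨f x', e hxU'⟩
  haveI : p.asIdeal.IsPrime := p.isPrime
  let Q' := FibreChart.fibPrime f hU hV e halg x' hxU'
  obtain ⟨M, hM, hQM⟩ := Ideal.exists_le_maximal Q'.asIdeal Q'.isPrime.ne_top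
  let Q : PrimeSpectrum (p.asIdeal.Fiber Γ(X, U)) := ⟨M, hM.isPrime⟩
  let qq : PrimeSpectrum Γ(X, U) :=
    PrimeSpectrum.comap Algebra.TensorProduct.includeRight.toRingHom Q
  have hfx : f (hU.fromSpec qq) = f x' := by
    rw [FibreChart.map_fromSpec_comap f hU hV e halg p Q]
    exact hV.fromSpec_primeIdealOf ⟨f x', e hxU'⟩
  have hsp : x' ⤳ hU.fromSpec qq := by
    have e1 : hU.fromSpec (hU.primeIdealOf ⟨x', hxU'⟩) = x' := hU.fromSpec_primeIdealOf ⟨x', hxU'⟩
    conv_lhs => rw [← e1]
    rw [ResFieldBridge.specializes_fromSpec_iff hU,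
      ← FibreChart.comap_fibPrime f hU hV e halg x' hxU']
    exact Ideal.comap_mono (f := Algebra.TensorProduct.includeRight.toRingHom) hQM
  refine ⟨hU.fromSpec qq, hsp, hfx, ?_⟩
  have hxU : hU.fromSpec qq ∈ U := ResFieldBridge.fromSpec_mem hU qq
  have hqq : hU.primeIdealOf ⟨hU.fromSpec qq, hxU⟩ = qq := ResFieldBridge.primeIdealOf_fromSpec hU qq
  haveI : qq.asIdeal.IsPrime := qq.isPrime
  haveI : qq.asIdeal.LiesOver p.asIdeal := by
    constructor
    have := FibreChart.comap_comap_includeRight (X := X) (Y := Y) (U := U) (V := V) p Q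
    exact (congrArg PrimeSpectrum.asIdeal this).symm
  have h1 := ResFieldBridge.trdeg_residueField_eq f hU hV e (hU.fromSpec qq) hxU halg p.asIdeal
    qq.asIdeal (by rw [hqq])
  have h2 := FibreGeneric.trdeg_fiber_quotient Γ(Y, V) Γ(X, U) p.asIdeal M qq.asIdeal rfl
  have h3 := LocalDimAlg.trdeg_quotient_maximal p.asIdeal.ResidueField (p.asIdeal.Fiber Γ(X, U)) M
  rw [h1, ← h2, h3]

end closedpt

section main

variable (k : Type u) [Field k] {Y : Scheme.{u}} (g : Y ⟶ Spec (CommRingCat.of k))
  [LocallyOfFiniteType g]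

/-- **Dimension of the closure of a point** of a scheme locally of finite type over a field: it is
the transcendence degree of the residue field. -/
theorem dim_closure_eq (η : Y) :
    topologicalKrullDim (closure ({η} : Set Y)) = (((trdegFun g η).toNat : ℕ) : WithBot ℕ∞) := by
  haveI : IsLocallyNoetherian Y := LocallyOfFiniteType.isLocallyNoetherian g
  obtain ⟨t, hηt, -, ht0⟩ := exists_specializes_trdeg_eq_zero g η
  have h := dim_closure_of_isDimFun (trdegFun g) (isDimFun_trdegFun k g) η t hηt 0
    (fun y _ => trdegFun_nonneg g y) (trdegFun_eq g t 0 (by rw [ht0]; rfl))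
  rw [h, sub_zero]

end main

section tower

/-- additivity of transcendence degrees of residue fields along a composition. -/
theorem trdeg_comp {X Y Z : Scheme.{u}} (f : X ⟶ Y) (g : Y ⟶ Z) (x : X) :
    @Algebra.trdeg (Z.residueField ((f ≫ g) x)) (X.residueField x) _ _
        ((f ≫ g).residueFieldMap x).hom.toAlgebra =
      @Algebra.trdeg (Z.residueField (g (f x))) (Y.residueField (f x)) _ _
          (g.residueFieldMap (f x)).hom.toAlgebra +
        @Algebra.trdeg (Y.residueField (f x)) (X.residueField x) _ _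
          (f.residueFieldMap x).hom.toAlgebra := by
  letI a1 : Algebra (Z.residueField (g (f x))) (Y.residueField (f x)) :=
    (g.residueFieldMap (f x)).hom.toAlgebra
  letI a2 : Algebra (Y.residueField (f x)) (X.residueField x) :=
    (f.residueFieldMap x).hom.toAlgebra
  letI a3 : Algebra (Z.residueField (g (f x))) (X.residueField x) :=
    ((f ≫ g).residueFieldMap x).hom.toAlgebra
  haveI : IsScalarTower (Z.residueField (g (f x))) (Y.residueField (f x)) (X.residueField x) := by
    refine IsScalarTower.of_algebraMap_eq (fun r => ?_)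
    change ((f ≫ g).residueFieldMap x).hom r = (f.residueFieldMap x).hom ((g.residueFieldMap (f x)).hom r)
    rw [Scheme.residueFieldMap_comp]
    rfl
  haveI : FaithfulSMul (Z.residueField (g (f x))) (Y.residueField (f x)) :=
    (faithfulSMul_iff_algebraMap_injective _ _).mpr (RingHom.injective _)
  haveI : FaithfulSMul (Y.residueField (f x)) (X.residueField x) :=
    (faithfulSMul_iff_algebraMap_injective _ _).mpr (RingHom.injective _)
  exact (_root_.trdeg_add_eq (Z.residueField (g (f x))) (Y.residueField (f x))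
    (A := X.residueField x)).symm


end tower

end Groth.Agent.Helper14.DimClosure
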