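import Mathlib
import Groth.Agent.Lib.Helper14.DimClosure

/-!
# Irreducible components of fibres and residue fields
-/

namespace Groth.Agent.Helper14.FibreComp
universe u
open TopologicalSpace AlgebraicGeometry CategoryTheory

theorem trdeg_congr {F Y : Scheme.{u}} {h₁ h₂ : F ⟶ Y} (e : h₁ = h₂) (z : F) :
    @Algebra.trdeg (Y.residueField (h₁ z)) (F.residueField z) _ _
      (h₁.residueFieldMap z).hom.toAlgebra =
    @Algebra.trdeg (Y.residueField (h₂ z)) (F.residueField z) _ _
      (h₂.residueFieldMap z).hom.toAlgebra := by
  subst e; rfl

/-- residue field extensions along morphisms surjective on stalks are trivial. -/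
theorem trdeg_of_surjectiveOnStalks {F X : Scheme.{u}} (h : F ⟶ X) [SurjectiveOnStalks h] (z : F) :
    @Algebra.trdeg (X.residueField (h z)) (F.residueField z) _ _
      (h.residueFieldMap z).hom.toAlgebra = 0 := by
  letI := (h.residueFieldMap z).hom.toAlgebra
  have hsurj : Function.Surjective (algebraMap (X.residueField (h z)) (F.residueField z)) := by
    have h1 : Function.Surjective ((h.stalkMap z ≫ F.residue z).hom) := by
      rw [CommRingCat.hom_comp]
      exact (IsLocalRing.residue_surjective).comp (h.stalkMap_surjective z)
    rw [← Scheme.residue_residueFieldMap, CommRingCat.hom_comp] at h1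
    have h2 : Function.Surjective ((h.residueFieldMap z).hom ∘ (X.residue (h z)).hom) := h1
    exact Function.Surjective.of_comp h2
  haveI : Algebra.IsIntegral (X.residueField (h z)) (F.residueField z) :=
    Algebra.isIntegral_of_surjective hsurj
  haveI : Algebra.IsAlgebraic (X.residueField (h z)) (F.residueField z) := inferInstance
  exact _root_.trdeg_eq_zero

/-- the residue field extension of a point of a fibre over the base point, computed in the fibre
or in the total space. -/
theorem trdeg_fibre {X Y : Scheme.{u}} (f : X ⟶ Y) (y : Y) (z : f.fiber y) :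
    @Algebra.trdeg (Y.residueField (f (f.fiberι y z))) (X.residueField (f.fiberι y z)) _ _
      (f.residueFieldMap (f.fiberι y z)).hom.toAlgebra =
    @Algebra.trdeg ((Spec (Y.residueField y)).residueField (f.fiberToSpecResidueField y z))
      ((f.fiber y).residueField z) _ _
      ((f.fiberToSpecResidueField y).residueFieldMap z).hom.toAlgebra := by
  have h1 := DimClosure.trdeg_comp (f.fiberι y) f z
  have h2 := DimClosure.trdeg_comp (f.fiberToSpecResidueField y) (Y.fromSpecResidueField y) z
  have h3 := trdeg_congr (f.fiber_fac y) z
  rw [trdeg_of_surjectiveOnStalks (f.fiberι y) z, add_zero] at h1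
  rw [trdeg_of_surjectiveOnStalks (Y.fromSpecResidueField y), zero_add] at h2
  rw [← h1, h3, h2]

/-- irreducible components of a scheme are closures of maximal points. -/
theorem exists_maximal_of_mem_irreducibleComponents {F : Scheme.{u}} (T : Set F)
    (hT : T ∈ irreducibleComponents F) :
    ∃ z : F, closure {z} = T ∧ ∀ z' : F, z' ⤳ z → z' = z := by
  have hclosed : IsClosed T := isClosed_of_mem_irreducibleComponents T hT
  obtain ⟨z, hz⟩ := QuasiSober.sober hT.1 hclosed
  refine ⟨z, hz.def, fun z' hz' => ?_⟩
  have h1 : T ⊆ closure {z'} := by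
    rw [← hz.def]
    exact (specializes_iff_closure_subset.mp hz')
  have h2 : closure {z'} ⊆ T := hT.2 isIrreducible_singleton.closure h1
  have h3 : z ⤳ z' := by
    rw [specializes_iff_mem_closure, hz.def]
    exact h2 (subset_closure rfl)
  exact (hz'.antisymm h3).eq

/-- the local ring at a maximal point has dimension zero. -/
theorem ringKrullDim_stalk_of_maximal {F : Scheme.{u}} (z : F) (hz : ∀ z' : F, z' ⤳ z → z' = z) :
    ringKrullDim (F.presheaf.stalk z) = 0 := by
  rw [AlgebraicGeometry.ringKrullDim_stalk_eq_coheight]
  have : Order.coheight z = 0 := by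
    rw [Order.coheight_eq_zero]
    intro b hb
    have : b ⤳ z := Scheme.le_iff_specializes.mp hb
    rw [hz b this]
  rw [this]
  rfl

end Groth.Agent.Helper14.FibreComp
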