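import Mathlib
import Groth.Prelude.Def_Cyc
import Groth.Agent.Lib.Helper14.DimFun
import Groth.Agent.Lib.Helper14.LocQuotDim
import Groth.Agent.Lib.Helper14.DimIneqGen

/-!
# Lemmas on `dim O_{X,x}/𝔭_ξ`
-/

namespace Groth.Agent.Helper14.LocQuotLemmas
universe u
open TopologicalSpace AlgebraicGeometry CategoryTheory

variable {S : Scheme.{u}} [IsLocallyNoetherian S]

/-- a dimension function drops by `dim O_{S,y'}/𝔭_y` along a specialization `y ⤳ y'`. -/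
theorem delta_eq_add_locQuot (δ : S → ℤ) (hδ : Cyc.IsDimFun S δ) (y y' : S) (h : y ⤳ y') :
    ∃ m : ℕ, ringKrullDim (Cyc.LocQuot y' y h) = (m : WithBot ℕ∞) ∧ δ y = δ y' + m := by
  obtain ⟨V, hV, hy'V, -⟩ := exists_isAffineOpen_mem_and_subset (x := y')
    (U := (⊤ : S.Opens)) trivial
  have hyV : y ∈ V := h.mem_open V.isOpen hy'V
  haveI : IsNoetherianRing Γ(S, V) := IsLocallyNoetherian.component_noetherian ⟨V, hV⟩
  obtain ⟨m, hm, hδm⟩ := DimFun.delta_eq_add_height_sch δ hδ hV y y' hyV hy'V h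
  refine ⟨m, ?_, hδm⟩
  rw [LocQuotDim.ringKrullDim_locQuot hV y' y hy'V hyV h, hm]
  rfl

/-- every point has a maximal generization computing the dimension of its local ring. -/
theorem exists_maximal_locQuot_eq (x : S) :
    ∃ ξ : S, (∀ ξ' : S, ξ' ⤳ ξ → ξ' = ξ) ∧ ∃ h : ξ ⤳ x,
      ringKrullDim (Cyc.LocQuot x ξ h) = ringKrullDim (S.presheaf.stalk x) := by
  obtain ⟨V, hV, hxV, -⟩ := exists_isAffineOpen_mem_and_subset (x := x)
    (U := (⊤ : S.Opens)) trivial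
  haveI : IsNoetherianRing Γ(S, V) := IsLocallyNoetherian.component_noetherian ⟨V, hV⟩
  set q := hV.primeIdealOf ⟨x, hxV⟩ with hq
  haveI : q.asIdeal.IsPrime := q.isPrime
  have hfx : hV.fromSpec q = x := hV.fromSpec_primeIdealOf ⟨x, hxV⟩
  obtain ⟨Q, hQp, hQmin, hQq, hht⟩ := DimIneqGen.exists_minimalPrime_height_le Γ(S, V) q.asIdeal
  let ξ := hV.fromSpec ⟨Q, hQp⟩
  have hξV : ξ ∈ V := ResFieldBridge.fromSpec_mem hV _
  have hξx : ξ ⤳ x := by
    rw [← hfx, ResFieldBridge.specializes_fromSpec_iff]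
    exact hQq
  have hprime : hV.primeIdealOf ⟨ξ, hξV⟩ = ⟨Q, hQp⟩ := ResFieldBridge.primeIdealOf_fromSpec hV _
  refine ⟨ξ, ?_, hξx, ?_⟩
  · intro ξ' hξ'
    have hξ'V : ξ' ∈ V := hξ'.mem_open V.isOpen hξV
    have e : hV.fromSpec (hV.primeIdealOf ⟨ξ', hξ'V⟩) = ξ' :=
      hV.fromSpec_primeIdealOf ⟨ξ', hξ'V⟩
    rw [← e, ResFieldBridge.specializes_fromSpec_iff] at hξ'
    have hle : Q ≤ (hV.primeIdealOf ⟨ξ', hξ'V⟩).asIdeal :=
      hQmin.2 ⟨(hV.primeIdealOf ⟨ξ', hξ'V⟩).isPrime, bot_le⟩ hξ'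
    have : hV.primeIdealOf ⟨ξ', hξ'V⟩ = ⟨Q, hQp⟩ := le_antisymm hξ' hle
    rw [← e, this]
  · rw [LocQuotDim.ringKrullDim_locQuot hV x ξ hxV hξV hξx, ResFieldBridge.ringKrullDim_stalk hV x hxV,
      hprime]
    apply le_antisymm
    · exact_mod_cast (WithBot.coe_le_coe.mpr (LocalDimAlg.height_map_le Q q.asIdeal hQq))
    · exact_mod_cast (WithBot.coe_le_coe.mpr hht)

end Groth.Agent.Helper14.LocQuotLemmas
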