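import Mathlib
import Groth.Prelude.Def_Flat
import Groth.Agent.Lib.Helper14.FibreComp
import Groth.Agent.Lib.Helper14.FibreGeneric
import Groth.Agent.Lib.Helper14.FibreChart
import Groth.Agent.Lib.Helper14.DimClosure

/-!
# Dimension of the irreducible components of fibres
-/

namespace Groth.Agent.Helper14.GenericEquidim
universe u
open TopologicalSpace AlgebraicGeometry CategoryTheory Topology

/-- a constructible subset of an irreducible space is, or its complement is, a neighbourhood of the
generic point. -/
theorem constructible_nhds_generic {S : Type*} [TopologicalSpace S] (η : S)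
    (hη : ∀ U : Set S, IsOpen U → U.Nonempty → η ∈ U) {C : Set S} (hC : IsConstructible C) :
    C ∈ nhds η ∨ Cᶜ ∈ nhds η := by
  induction hC using IsConstructible.empty_union_induction with
  | open_retrocompact U hU _ =>
    by_cases h : U.Nonempty
    · exact Or.inl (hU.mem_nhds (hη U hU h))
    · right
      rw [Set.not_nonempty_iff_eq_empty] at h
      rw [h, Set.compl_empty]
      exact Filter.univ_mem
  | union s _ t _ hs ht =>
    rcases hs with hs | hs
    · exact Or.inl (Filter.mem_of_superset hs Set.subset_union_left)
    · rcases ht with ht | ht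
      · exact Or.inl (Filter.mem_of_superset ht Set.subset_union_right)
      · right
        rw [Set.compl_union]
        exact Filter.inter_mem hs ht
  | compl s _ hs =>
    rcases hs with hs | hs
    · right; rwa [compl_compl]
    · left; exact hs

theorem not_mem_closure_of_constructible {S : Type*} [TopologicalSpace S] (η : S)
    (hη : ∀ U : Set S, IsOpen U → U.Nonempty → η ∈ U) {C : Set S} (hC : IsConstructible C)
    (h : η ∉ C) : η ∉ closure C := by
  rcases constructible_nhds_generic η hη hC with h1 | h1
  · exact absurd (mem_of_mem_nhds h1) h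
  · intro hcl
    rw [mem_closure_iff_nhds] at hcl
    obtain ⟨x, hx1, hx2⟩ := hcl _ h1
    exact hx1 hx2

variable {X Y : Scheme.{u}} (f : X ⟶ Y) [LocallyOfFiniteType f]

/-- the closure of a maximal point of a fibre has dimension the local dimension of the fibre. -/
theorem dim_closure_maximal (s : Y) (z : f.fiber s)
    (hz : ∀ z' : f.fiber s, z' ⤳ z → z' = z) :
    topologicalKrullDim (closure ({z} : Set (f.fiber s))) =
      FlatMor.fibreDimAt f (f.fiberι s z) := by
  haveI : LocallyOfFiniteType (f.fiberToSpecResidueField s) :=
    MorphismProperty.pullback_snd _ _ inferInstance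
  obtain ⟨n, hn⟩ := ResFieldBridge.exists_nat_trdeg_residueField f (f.fiberι s z)
  have h1 := DimClosure.dim_closure_eq (Y.residueField s) (f.fiberToSpecResidueField s) z
  have hn' := hn
  rw [FibreComp.trdeg_fibre f s z] at hn'
  rw [DimClosure.trdegFun_eq _ z n hn'] at h1
  rw [h1, FibreGeneric.fibreDimAt_eq_stalk_add_trdeg f (f.fiberι s z) n hn]
  have hfs : f (f.fiberι s z) = s := (f.fiberHomeo s z).2
  rw [FibreChart.stalk_asFiber_congr f (f.fiberι s z) s hfs]
  have hz' : (f.fiberHomeo s).symm ⟨f.fiberι s z, hfs⟩ = z := by
    apply (f.fiberHomeo s).injective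
    rw [Homeomorph.apply_symm_apply]
    exact Subtype.ext rfl
  rw [hz', FibreComp.ringKrullDim_stalk_of_maximal z hz, zero_add]
  simp

end Groth.Agent.Helper14.GenericEquidim
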