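import Mathlib
import Groth.Prelude.Def_Flat
import Groth.Agent.Lib.Helper14.LocalDimSpec
import Groth.Agent.Lib.Helper18.DimFG

/-!
# Chevalley's upper semicontinuity of fibre dimension: the algebra
-/

namespace Groth.Agent.Helper14.Chevalley
universe u
open TensorProduct TopologicalSpace

theorem add_one_le_of_lt' (n : ℕ) (x : WithBot ℕ∞) (h : (n : WithBot ℕ∞) < x) :
    (n : WithBot ℕ∞) + 1 ≤ x := by
  induction x using WithBot.recBotCoe with
  | bot => exact absurd h (by simp)
  | coe x =>
    have h' : (n : ℕ∞) < x := by exact_mod_cast h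
    have := Order.add_one_le_of_lt h'
    exact_mod_cast this

theorem not_add_one_le (n : ℕ) : ¬ ((n : WithBot ℕ∞) + 1 ≤ n) := by
  intro h
  have : ((n + 1 : ℕ) : WithBot ℕ∞) ≤ (n : ℕ) := by exact_mod_cast h
  have := Nat.cast_le.mp this
  omega

/-- a bound on the local dimension of a prime spectrum is attained on a basic open. -/
theorem exists_basicOpen_dim_le (S : Type u) [CommRing S] (Q : PrimeSpectrum S) (n : ℕ)
    (h : FlatMor.localDim (PrimeSpectrum S) Q ≤ n) :
    ∃ f : S, f ∉ Q.asIdeal ∧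
      topologicalKrullDim ((PrimeSpectrum.basicOpen f : Opens (PrimeSpectrum S)) :
        Set (PrimeSpectrum S)) ≤ n := by
  by_contra hcon
  push Not at hcon
  have : ((n : WithBot ℕ∞) + 1) ≤ FlatMor.localDim (PrimeSpectrum S) Q := by
    unfold FlatMor.localDim
    refine le_iInf ?_
    rintro ⟨U, hxU⟩
    obtain ⟨_, ⟨_, ⟨f, rfl⟩, rfl⟩, hpf, hfU⟩ :=
      PrimeSpectrum.isBasis_basic_opens.exists_subset_of_mem_open hxU U.isOpen
    have h1 := hcon f hpf
    have h2 : topologicalKrullDim ((PrimeSpectrum.basicOpen f : Opens (PrimeSpectrum S)) :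
        Set (PrimeSpectrum S)) ≤ topologicalKrullDim (U : Set (PrimeSpectrum S)) :=
      LocalDimSpec.dim_opens_le S _ _ fun P hP => LocalDimSpec.height_le_dim_opens S U P (hfU hP)
    exact (add_one_le_of_lt' n _ h1).trans h2
  exact not_add_one_le n (this.trans h)

/-- the local dimension is bounded by the dimension of any open neighbourhood. -/
theorem localDim_le_of_mem (S : Type u) [CommRing S] (Q : PrimeSpectrum S)
    (U : Opens (PrimeSpectrum S)) (hQ : Q ∈ U) :
    FlatMor.localDim (PrimeSpectrum S) Q ≤ topologicalKrullDim (U : Set (PrimeSpectrum S)) := by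
  unfold FlatMor.localDim
  exact iInf_le _ (⟨U, hQ⟩ : {U : Opens (PrimeSpectrum S) // Q ∈ U})

theorem dim_basicOpen_eq (S : Type u) [CommRing S] (f : S) :
    topologicalKrullDim ((PrimeSpectrum.basicOpen f : Opens (PrimeSpectrum S)) :
      Set (PrimeSpectrum S)) = ringKrullDim (Localization.Away f) := by
  have hemb := PrimeSpectrum.localization_away_isOpenEmbedding (Localization.Away f) f
  have hrange := PrimeSpectrum.localization_away_comap_range (Localization.Away f) f
  rw [← PrimeSpectrum.topologicalKrullDim_eq_ringKrullDim]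
  let e := hemb.toIsEmbedding.toHomeomorph
  have h1 := IsHomeomorph.topologicalKrullDim_eq _ e.isHomeomorph
  rw [h1, hrange]

section fibre

variable (R B C : Type u) [CommRing R] [CommRing B] [CommRing C] [Algebra R B] [Algebra B C]
  [Algebra R C] [IsScalarTower R B C]

theorem dim_basicOpen_fiber (g : B) [IsLocalization.Away g C] (p' : Ideal R) [p'.IsPrime] :
    topologicalKrullDim ((PrimeSpectrum.basicOpen ((1 : p'.ResidueField) ⊗ₜ[R] g) :
      Opens (PrimeSpectrum (p'.Fiber B))) : Set (PrimeSpectrum (p'.Fiber B))) =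
      ringKrullDim (p'.Fiber C) := by
  rw [dim_basicOpen_eq]
  exact (ringKrullDim_eq_of_ringEquiv
    (IsLocalization.Away.tensorProductEquivTMulRight R p'.ResidueField g C).toRingEquiv).symm

end fibre


section tower
variable {R A C : Type u} [CommRing R] [CommRing A] [CommRing C] [Algebra R A] [Algebra A C]
  [Algebra R C] [IsScalarTower R A C]
  (p : Ideal R) [p.IsPrime] (P : Ideal A) [P.IsPrime]

theorem fiber_finite (hpP : p = P.comap (algebraMap R A))
    (hfin : (Algebra.TensorProduct.map (AlgHom.id p.ResidueField p.ResidueField)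
      (IsScalarTower.toAlgHom R A C)).toRingHom.Finite) :
    Module.Finite P.ResidueField (P.Fiber C) := by
  let K := p.ResidueField
  let κ := P.ResidueField
  let ι : K ⊗[R] A →ₐ[K] K ⊗[R] C :=
    Algebra.TensorProduct.map (AlgHom.id K K) (IsScalarTower.toAlgHom R A C)
  let j : K →ₐ[R] κ := Ideal.ResidueField.mapₐ p P (Algebra.ofId R A) hpP
  let θ : K ⊗[R] A →ₐ[R] κ :=
    Algebra.TensorProduct.lift j (IsScalarTower.toAlgHom R A κ) (fun _ _ => .all _ _)
  let ψ : K ⊗[R] C →ₐ[R] κ ⊗[A] C :=
    Algebra.TensorProduct.lift (((Algebra.ofId κ (κ ⊗[A] C)).restrictScalars R).comp j)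
      ((Algebra.TensorProduct.includeRight : C →ₐ[A] κ ⊗[A] C).restrictScalars R)
      (fun _ _ => .all _ _)
  have hcomp : ∀ a : K ⊗[R] A, ψ (ι a) = algebraMap κ (κ ⊗[A] C) (θ a) := by
    intro a
    induction a using TensorProduct.induction_on with
    | zero => simp
    | add x y hx hy => simp only [map_add, hx, hy]
    | tmul k a =>
      simp only [ι, ψ, θ, Algebra.TensorProduct.map_tmul, Algebra.TensorProduct.lift_tmul,
        AlgHom.coe_id, id_eq, IsScalarTower.coe_toAlgHom', AlgHom.coe_comp,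
        AlgHom.coe_restrictScalars', Function.comp_apply, Algebra.ofId_apply,
        Algebra.TensorProduct.includeRight_apply, map_mul]
      congr 1
      rw [Algebra.TensorProduct.algebraMap_apply, Algebra.algebraMap_self, RingHom.id_apply,
        Algebra.algebraMap_eq_smul_one (A := C), ← TensorProduct.smul_tmul,
        Algebra.algebraMap_eq_smul_one (A := κ)]
  letI : Algebra (K ⊗[R] A) (K ⊗[R] C) := ι.toRingHom.toAlgebra
  haveI : Module.Finite (K ⊗[R] A) (K ⊗[R] C) := hfin
  obtain ⟨s, hs⟩ := (Module.Finite.fg_top : (⊤ : Submodule (K ⊗[R] A) (K ⊗[R] C)).FG)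
  classical
  refine ⟨⟨s.image ψ, ?_⟩⟩
  rw [eq_top_iff]
  have h1 : ∀ y : K ⊗[R] C, ψ y ∈ Submodule.span κ ((s.image ψ : Finset _) : Set (κ ⊗[A] C)) := by
    intro y
    have hy : y ∈ Submodule.span (K ⊗[R] A) (s : Set (K ⊗[R] C)) := hs ▸ Submodule.mem_top
    induction hy using Submodule.span_induction with
    | mem x hx => exact Submodule.subset_span (by simpa using ⟨x, hx, rfl⟩)
    | zero => simp
    | add x y _ _ hx hy => rw [map_add]; exact Submodule.add_mem _ hx hy
    | smul a x _ hx =>
      have : ψ (a • x) = θ a • ψ x := by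
        rw [Algebra.smul_def, map_mul, Algebra.smul_def]
        congr 1
        exact hcomp a
      rw [this]; exact Submodule.smul_mem _ _ hx
  intro z _
  clear * - h1
  induction z using TensorProduct.induction_on with
  | zero => simp
  | add x y hx hy => exact Submodule.add_mem _ hx hy
  | tmul x c =>
    have : x ⊗ₜ[A] c = x • ψ (1 ⊗ₜ c) := by simp [ψ, TensorProduct.smul_tmul']
    rw [this]; exact Submodule.smul_mem _ _ (h1 _)

theorem quasiFiniteAt_of_bc_finite [Algebra.FiniteType A C] (hpP : p = P.comap (algebraMap R A))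
    (hfin : (Algebra.TensorProduct.map (AlgHom.id p.ResidueField p.ResidueField)
      (IsScalarTower.toAlgHom R A C)).toRingHom.Finite)
    (q : Ideal C) [q.IsPrime] [q.LiesOver P] : Algebra.QuasiFiniteAt A q := by
  haveI := fiber_finite p P hpP hfin
  let q' : Ideal (P.Fiber C) := (PrimeSpectrum.primesOverOrderIsoFiber A C P ⟨q, ‹_›, ‹_›⟩).asIdeal
  have hq' : q'.comap Algebra.TensorProduct.includeRight.toRingHom = q :=
    congr($((PrimeSpectrum.primesOverOrderIsoFiber A C P).symm_apply_apply ⟨q, ‹_›, ‹_›⟩).1)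
  exact Algebra.QuasiFiniteAt.of_quasiFiniteAt_residueField P q q' hq'

/-- openness of the quasi-finite locus, algebraic form. -/
theorem exists_away_quasiFinite [Algebra.FiniteType A C] (q : Ideal C) [q.IsPrime]
    [Algebra.QuasiFiniteAt A q] :
    ∃ g : C, g ∉ q ∧ Algebra.QuasiFinite A (Localization.Away g) := by
  obtain ⟨S', hS', r, hrp, H⟩ :=
    Algebra.QuasiFiniteAt.exists_fg_and_exists_notMem_and_awayMap_bijective (R := A) q
  have : Module.Finite A S' := ⟨(Submodule.fg_top _).mpr hS'⟩
  have : Algebra.QuasiFinite A (Localization.Away r) := .trans _ S' _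
  exact ⟨r.1, hrp, .of_surjective_algHom (Localization.awayMapₐ S'.val r) H.2⟩

end tower

section dimB

variable (n : ℕ) (R C : Type u) [CommRing R] [CommRing C] [Algebra R C]
  [Algebra (MvPolynomial (Fin n) R) C] [IsScalarTower R (MvPolynomial (Fin n) R) C]

theorem ringKrullDim_fiber_mvPolynomial (p' : Ideal R) [p'.IsPrime] :
    ringKrullDim (p'.Fiber (MvPolynomial (Fin n) R)) = n := by
  rw [ringKrullDim_eq_of_ringEquiv
    (MvPolynomial.algebraTensorAlgEquiv R p'.ResidueField (σ := Fin n)).toRingEquiv,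
    MvPolynomial.ringKrullDim_of_isNoetherianRing, ringKrullDim_eq_zero_of_field]
  simp

theorem ringKrullDim_fiber_le_of_quasiFinite [Algebra.QuasiFinite (MvPolynomial (Fin n) R) C]
    (p' : Ideal R) [p'.IsPrime] : ringKrullDim (p'.Fiber C) ≤ n := by
  rw [← ringKrullDim_fiber_mvPolynomial n R p']
  let A := MvPolynomial (Fin n) R
  let pp : PrimeSpectrum R := ⟨p', inferInstance⟩
  let eC := PrimeSpectrum.preimageOrderIsoFiber R C pp
  let eA := PrimeSpectrum.preimageOrderIsoFiber R A pp
  let mid : (PrimeSpectrum.comap (algebraMap R C) ⁻¹' {pp}) →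
      (PrimeSpectrum.comap (algebraMap R A) ⁻¹' {pp}) := fun q =>
    ⟨PrimeSpectrum.comap (algebraMap A C) q.1, by
      have := q.2
      simp only [Set.mem_preimage, Set.mem_singleton_iff] at this ⊢
      rw [← PrimeSpectrum.comap_comp_apply, ← IsScalarTower.algebraMap_eq]
      exact this⟩
  have hmid : StrictMono mid := by
    intro q₁ q₂ h
    have hle : q₁.1.asIdeal ≤ q₂.1.asIdeal := h.le
    refine lt_of_le_of_ne (fun x hx => hle hx) ?_
    intro heq
    have h2 : q₁.1.asIdeal.under A = q₂.1.asIdeal.under A := by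
      have := congrArg (fun t => t.1.asIdeal) heq
      exact this
    have := Algebra.QuasiFinite.eq_of_le_of_under_eq (R := A) q₁.1.asIdeal q₂.1.asIdeal hle h2
    exact h.ne (Subtype.ext (PrimeSpectrum.ext this))
  have hg : StrictMono (fun Q : PrimeSpectrum (p'.Fiber C) => eA (mid (eC.symm Q))) :=
    eA.strictMono.comp (hmid.comp eC.symm.strictMono)
  exact Order.krullDim_le_of_strictMono _ hg

end dimB

section lift

variable (R C : Type u) [CommRing R] [CommRing C] [Algebra R C] [Algebra.FiniteType R C]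
  (p : Ideal R) [p.IsPrime]

theorem exists_lift_noether (n : ℕ) [Nontrivial (p.Fiber C)]
    (hdim : ringKrullDim (p.Fiber C) ≤ n) :
    ∃ Φ : MvPolynomial (Fin n) R →ₐ[R] C,
      (Algebra.TensorProduct.map (AlgHom.id p.ResidueField p.ResidueField) Φ).toRingHom.Finite := by
  classical
  let K := p.ResidueField
  obtain ⟨s, g, -, hgfin, hs⟩ := Groth.Agent.Helper18.DimFG.exists_noether (k := K) (p.Fiber C)
  have hsn : s ≤ n := by
    rw [hs] at hdim
    exact_mod_cast hdim
  -- lifts of the images of the variables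
  have hex : ∀ j : Fin s, ∃ r : R, r ∉ p ∧ ∃ c : C, r • g (MvPolynomial.X j) = 1 ⊗ₜ[R] c :=
    fun j => Ideal.Fiber.exists_smul_eq_one_tmul p (g (MvPolynomial.X j))
  choose r hr c hc using hex
  let u : Fin s → K := fun j => algebraMap R K (r j)
  have hu : ∀ j, u j ≠ 0 := fun j => by
    intro h0
    exact hr j (Ideal.algebraMap_residueField_eq_zero.mp h0)
  let τ : MvPolynomial (Fin n) K →ₐ[K] MvPolynomial (Fin s) K :=
    MvPolynomial.aeval (fun i : Fin n =>
      if h : i.1 < s then MvPolynomial.C (u ⟨i.1, h⟩) * MvPolynomial.X ⟨i.1, h⟩ else 0)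
  have hτ : Function.Surjective τ := by
    rw [← AlgHom.range_eq_top, eq_top_iff, ← MvPolynomial.adjoin_range_X]
    refine Algebra.adjoin_le ?_
    rintro _ ⟨j, rfl⟩
    rw [SetLike.mem_coe, AlgHom.mem_range]
    refine ⟨MvPolynomial.C (u j)⁻¹ * MvPolynomial.X ⟨j.1, lt_of_lt_of_le j.2 hsn⟩, ?_⟩
    have h1 : τ (MvPolynomial.X ⟨j.1, lt_of_lt_of_le j.2 hsn⟩) =
        MvPolynomial.C (u j) * MvPolynomial.X j := by
      simp only [τ, MvPolynomial.aeval_X, Fin.is_lt, dite_true, Fin.eta]
    have h2 : τ (MvPolynomial.C (u j)⁻¹) = MvPolynomial.C (u j)⁻¹ := by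
      simp only [τ, MvPolynomial.aeval_C, MvPolynomial.algebraMap_eq]
    rw [map_mul, h1, h2, ← mul_assoc, ← MvPolynomial.C_mul, inv_mul_cancel₀ (hu j),
      MvPolynomial.C_1, one_mul]
  let c' : Fin n → C := fun i => if h : i.1 < s then c ⟨i.1, h⟩ else 0
  let Φ : MvPolynomial (Fin n) R →ₐ[R] C := MvPolynomial.aeval c'
  refine ⟨Φ, ?_⟩
  let e := MvPolynomial.algebraTensorAlgEquiv R K (σ := Fin n)
  have key : Algebra.TensorProduct.map (AlgHom.id K K) Φ = (g.comp τ).comp e.toAlgHom := by
    apply Algebra.TensorProduct.ext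
    · ext
    · apply MvPolynomial.algHom_ext
      intro i
      have he : e ((1 : K) ⊗ₜ[R] (MvPolynomial.X i : MvPolynomial (Fin n) R)) =
          MvPolynomial.X i := by
        simp only [e, MvPolynomial.algebraTensorAlgEquiv_tmul, MvPolynomial.map_X, one_smul]
      have hΦ : Φ (MvPolynomial.X i) = c' i := by simp only [Φ, MvPolynomial.aeval_X]
      have hτi : τ (MvPolynomial.X i) =
          if h : i.1 < s then MvPolynomial.C (u ⟨i.1, h⟩) * MvPolynomial.X ⟨i.1, h⟩ else 0 := by
        simp only [τ, MvPolynomial.aeval_X]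
      show (Algebra.TensorProduct.map (AlgHom.id K K) Φ) (1 ⊗ₜ MvPolynomial.X i) =
        g (τ (e (1 ⊗ₜ MvPolynomial.X i)))
      rw [he, Algebra.TensorProduct.map_tmul, map_one, hΦ, hτi]
      by_cases h : i.1 < s
      · simp only [c', h, dite_true, map_mul]
        rw [← hc ⟨i.1, h⟩, Algebra.smul_def]
        congr 1
        rw [← MvPolynomial.algebraMap_eq, AlgHom.commutes]
        simp only [u]
        rw [IsScalarTower.algebraMap_apply R K (p.Fiber C)]
      · simp only [c', h, dite_false, map_zero, TensorProduct.tmul_zero]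
  rw [key]
  exact (hgfin.comp (RingHom.Finite.of_surjective _ hτ)).comp
    (RingHom.Finite.of_surjective _ e.surjective)

end lift

section core

theorem core (R B' : Type u) [CommRing R] [CommRing B'] [Algebra R B'] [Algebra.FiniteType R B']
    (p : Ideal R) [p.IsPrime] (q' : Ideal B') [q'.IsPrime]
    (hq' : q'.comap (algebraMap R B') = p) (n : ℕ) (hdim : ringKrullDim (p.Fiber B') ≤ n) :
    ∃ g' : B', g' ∉ q' ∧ ∀ (p' : Ideal R) [p'.IsPrime],
      ringKrullDim (p'.Fiber (Localization.Away g')) ≤ n := by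
  haveI : Nontrivial (p.Fiber B') := by
    have Q := PrimeSpectrum.preimageOrderIsoFiber R B' ⟨p, inferInstance⟩
      ⟨⟨q', inferInstance⟩, PrimeSpectrum.ext hq'⟩
    exact PrimeSpectrum.nonempty_iff_nontrivial.mp ⟨Q⟩
  obtain ⟨Φ, hΦ⟩ := exists_lift_noether R B' p n hdim
  let A := MvPolynomial (Fin n) R
  letI : Algebra A B' := Φ.toRingHom.toAlgebra
  haveI : IsScalarTower R A B' := IsScalarTower.of_algebraMap_eq (fun r => (Φ.commutes r).symm)
  haveI : Algebra.FiniteType A B' := Algebra.FiniteType.of_restrictScalars_finiteType R A B'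
  let P : Ideal A := q'.comap (algebraMap A B')
  haveI : P.IsPrime := Ideal.comap_isPrime _ _
  haveI : q'.LiesOver P := ⟨rfl⟩
  have hpP : p = P.comap (algebraMap R A) := by
    rw [← hq', Ideal.comap_comap, ← IsScalarTower.algebraMap_eq]
  have hto : IsScalarTower.toAlgHom R A B' = Φ := AlgHom.ext fun _ => rfl
  haveI := quasiFiniteAt_of_bc_finite p P hpP (by rw [hto]; exact hΦ) q'
  obtain ⟨g', hg', hqf⟩ := exists_away_quasiFinite (A := A) q'
  refine ⟨g', hg', fun p' _ => ?_⟩
  exact ringKrullDim_fiber_le_of_quasiFinite n R (Localization.Away g') p'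

end core

section main

variable (R B : Type u) [CommRing R] [CommRing B] [Algebra R B] [Algebra.FiniteType R B]

/-- **Chevalley's semicontinuity, algebraic form**: if the fibre ring `κ(p) ⊗ B` has local
dimension at most `n` at `Q`, then there is `g ∈ B`, not in the prime of `Q`, such that all
fibre rings `κ(p') ⊗ B` have local dimension at most `n` at all points of `D(1 ⊗ g)`. -/
theorem alg_chevalley (p : Ideal R) [p.IsPrime] (Q : PrimeSpectrum (p.Fiber B)) (n : ℕ)
    (h : FlatMor.localDim (PrimeSpectrum (p.Fiber B)) Q ≤ n) :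
    ∃ g : B, ((1 : p.ResidueField) ⊗ₜ[R] g) ∉ Q.asIdeal ∧
      ∀ (p' : Ideal R) [p'.IsPrime] (Q' : PrimeSpectrum (p'.Fiber B)),
        ((1 : p'.ResidueField) ⊗ₜ[R] g) ∉ Q'.asIdeal →
          FlatMor.localDim (PrimeSpectrum (p'.Fiber B)) Q' ≤ n := by
  obtain ⟨y, hyQ, hy⟩ := exists_basicOpen_dim_le _ Q n h
  obtain ⟨r, hr, h₀, hrh⟩ := Ideal.Fiber.exists_smul_eq_one_tmul p y
  have hunit : IsUnit (algebraMap R (p.Fiber B) r) := by
    rw [IsScalarTower.algebraMap_apply R p.ResidueField (p.Fiber B)]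
    refine (IsUnit.mk0 _ ?_).map _
    intro h0
    exact hr (Ideal.algebraMap_residueField_eq_zero.mp h0)
  have hbo : PrimeSpectrum.basicOpen ((1 : p.ResidueField) ⊗ₜ[R] h₀) =
      PrimeSpectrum.basicOpen y := by
    rw [← hrh, Algebra.smul_def]
    ext Q'
    simp only [PrimeSpectrum.mem_basicOpen, SetLike.mem_coe]
    rw [Ideal.unit_mul_mem_iff_mem _ hunit]
  rw [← hbo] at hy
  have hh₀Q : ((1 : p.ResidueField) ⊗ₜ[R] h₀) ∉ Q.asIdeal := by
    have : Q ∈ PrimeSpectrum.basicOpen ((1 : p.ResidueField) ⊗ₜ[R] h₀) := by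
      rw [hbo]; exact hyQ
    exact this
  let B' := Localization.Away h₀
  haveI : Algebra.FiniteType R B' :=
    Algebra.FiniteType.trans (inferInstance : Algebra.FiniteType R B)
      (IsLocalization.finiteType_of_monoid_fg (Submonoid.powers h₀) _)
  have hdim : ringKrullDim (p.Fiber B') ≤ n := by
    rw [← dim_basicOpen_fiber R B B' h₀ p]
    exact hy
  let q : Ideal B := Q.asIdeal.comap Algebra.TensorProduct.includeRight.toRingHom
  haveI : q.IsPrime := Ideal.comap_isPrime _ _
  have hh₀q : h₀ ∉ q := hh₀Q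
  have hqp : q.comap (algebraMap R B) = p :=
    congrArg PrimeSpectrum.asIdeal
      ((PrimeSpectrum.preimageOrderIsoFiber R B ⟨p, inferInstance⟩).symm Q).2
  have hdisj : Disjoint (Submonoid.powers h₀ : Set B) (q : Set B) := by
    rwa [Ideal.disjoint_powers_iff_notMem_of_isPrime]
  let q' : Ideal B' := q.map (algebraMap B B')
  haveI : q'.IsPrime := IsLocalization.isPrime_of_isPrime_disjoint (.powers h₀) _ _ ‹_› hdisj
  have hq'q : q'.comap (algebraMap B B') = q :=
    IsLocalization.comap_map_of_isPrime_disjoint (.powers h₀) _ ‹_› hdisj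
  have hq' : q'.comap (algebraMap R B') = p := by
    rw [IsScalarTower.algebraMap_eq R B B', ← Ideal.comap_comap, hq'q, hqp]
  obtain ⟨g', hg', hall⟩ := core R B' p q' hq' n hdim
  let b : B := (IsLocalization.Away.sec h₀ g').1
  have hassoc := IsLocalization.Away.associated_sec_fst h₀ g'
  haveI : IsLocalization.Away (h₀ * b) (Localization.Away g') :=
    .mul_of_associated _ _ g' hassoc
  refine ⟨h₀ * b, ?_, fun p' _ Q' hQ' => ?_⟩
  · have hb : b ∉ q := by
      intro hmem
      apply hg'
      rw [Ideal.mem_iff_of_associated hassoc.symm]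
      exact Ideal.mem_map_of_mem (algebraMap B B') hmem
    have : h₀ * b ∉ q := Ideal.IsPrime.mul_notMem ‹_› hh₀q hb
    exact this
  · have hmem : Q' ∈ PrimeSpectrum.basicOpen ((1 : p'.ResidueField) ⊗ₜ[R] (h₀ * b)) := hQ'
    refine (localDim_le_of_mem _ Q' _ hmem).trans ?_
    rw [dim_basicOpen_fiber R B (Localization.Away g') (h₀ * b) p']
    exact hall p'

end main

end Groth.Agent.Helper14.Chevalley
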