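import Mathlib
import Groth.Prelude.Def_Flat
import Groth.Agent.Lib.Helper14.GenericEquidim
import Groth.Agent.S0402

/-!
# Connected components of fibres which are irreducible
-/

namespace Groth.Agent.Helper14.SectionComp
universe u
open TopologicalSpace AlgebraicGeometry CategoryTheory

section top

variable {F X : Type*} [TopologicalSpace F] [TopologicalSpace X]

/-- connected components in the range of an embedding. -/
theorem connectedComponentIn_range (e : F → X) (he : Topology.IsEmbedding e) (z : F) :
    connectedComponentIn (Set.range e) (e z) = e '' connectedComponent z := by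
  apply Set.Subset.antisymm
  · set D := connectedComponentIn (Set.range e) (e z) with hD
    have hDr : D ⊆ Set.range e := connectedComponentIn_subset _ _
    have himg : e '' (e ⁻¹' D) = D := by
      rw [Set.image_preimage_eq_inter_range, Set.inter_eq_left.mpr hDr]
    have hpre : IsPreconnected (e ⁻¹' D) := by
      rw [← he.isInducing.isPreconnected_image, himg]
      exact isPreconnected_connectedComponentIn
    have hz : z ∈ e ⁻¹' D := mem_connectedComponentIn ⟨z, rfl⟩
    have hsub : e ⁻¹' D ⊆ connectedComponent z := hpre.subset_connectedComponent hz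
    rw [← himg]
    exact Set.image_mono hsub
  · exact (isPreconnected_connectedComponent.image e he.continuous.continuousOn).subset_connectedComponentIn
      ⟨z, mem_connectedComponent, rfl⟩ (Set.image_subset_range _ _)

/-- irreducibility can be tested after an embedding. -/
theorem isIrreducible_of_image (e : F → X) (he : Topology.IsInducing e) (s : Set F)
    (h : IsIrreducible (e '' s)) : IsIrreducible s := by
  refine ⟨h.nonempty.of_image, ?_⟩
  intro U V hU hV hsU hsV
  obtain ⟨U', hU', rfl⟩ := he.isOpen_iff.mp hU
  obtain ⟨V', hV', rfl⟩ := he.isOpen_iff.mp hV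
  obtain ⟨a, ha, haU⟩ := hsU
  obtain ⟨b, hb, hbV⟩ := hsV
  obtain ⟨_, ⟨c, hc, rfl⟩, hcU, hcV⟩ := h.2 U' V' hU' hV' ⟨e a, ⟨a, ha, rfl⟩, haU⟩
    ⟨e b, ⟨b, hb, rfl⟩, hbV⟩
  exact ⟨c, hc, hcU, hcV⟩

/-- the dimension of the image of a subset under an embedding. -/
theorem topDim_image (e : F → X) (he : Topology.IsEmbedding e) (s : Set F) :
    topologicalKrullDim ↥(e '' s) = topologicalKrullDim ↥s := by
  have h1 : Topology.IsEmbedding (fun a : s => e a.1) := he.comp Topology.IsEmbedding.subtypeVal
  have hr : Set.range (fun a : s => e a.1) = e '' s := by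
    ext x
    constructor
    · rintro ⟨a, rfl⟩
      exact ⟨a.1, a.2, rfl⟩
    · rintro ⟨a, ha, rfl⟩
      exact ⟨⟨a, ha⟩, rfl⟩
  rw [← hr]
  exact (IsHomeomorph.topologicalKrullDim_eq _ h1.toHomeomorph.isHomeomorph).symm

theorem le_of_forall_nat_le (a b : WithBot ℕ∞) (hb : 0 ≤ b)
    (h : ∀ n : ℕ, b ≤ n → a ≤ n) : a ≤ b := by
  induction b using WithBot.recBotCoe with
  | bot => exact absurd hb (by simp)
  | coe b =>
    induction b using ENat.recTopCoe with
    | top => exact le_top
    | coe n => exact h n le_rfl

end top

section sch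

/-- connected components of a locally Noetherian scheme are open. -/
theorem isOpen_connectedComponent (F : Scheme.{u}) [IsLocallyNoetherian F] (z : F) :
    IsOpen (connectedComponent z) := by
  rw [isOpen_iff_forall_mem_open]
  intro w hw
  obtain ⟨W, hW, hwW, -⟩ := exists_isAffineOpen_mem_and_subset (x := w)
    (U := (⊤ : F.Opens)) trivial
  haveI : NoetherianSpace ↥W := by
    haveI : IsNoetherian (W : Scheme.{u}) :=
      { toIsLocallyNoetherian := inferInstance
        toCompactSpace := isCompact_iff_compactSpace.mp hW.isCompact }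
    exact inferInstanceAs (NoetherianSpace (W : Scheme.{u}))
  let w' : ↥W := ⟨w, hwW⟩
  let 𝒯 : Set (Set ↥W) := {Z | Z ∈ irreducibleComponents ↥W ∧ w' ∉ Z}
  have hfin : 𝒯.Finite :=
    (NoetherianSpace.finite_irreducibleComponents (α := ↥W)).subset (fun Z hZ => hZ.1)
  have hcl : IsClosed (⋃₀ 𝒯) := by
    rw [Set.sUnion_eq_biUnion]
    exact hfin.isClosed_biUnion (fun Z hZ => isClosed_of_mem_irreducibleComponents Z hZ.1)
  refine ⟨Subtype.val '' (⋃₀ 𝒯)ᶜ, ?_, W.isOpen.isOpenMap_subtype_val _ hcl.isOpen_compl,
    ⟨w', ?_, rfl⟩⟩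
  · rintro _ ⟨v', hv', rfl⟩
    have hv'' : v' ∈ ⋃₀ irreducibleComponents ↥W := by
      rw [sUnion_irreducibleComponents]; trivial
    obtain ⟨Z, hZ, hvZ⟩ := hv''
    have hwZ : w' ∈ Z := by
      by_contra hcon
      exact hv' ⟨Z, ⟨hZ, hcon⟩, hvZ⟩
    have hirr : IsIrreducible (Subtype.val '' Z : Set F) :=
      hZ.1.image _ continuous_subtype_val.continuousOn
    have hsub : (Subtype.val '' Z : Set F) ⊆ connectedComponent w :=
      hirr.isConnected.isPreconnected.subset_connectedComponent ⟨w', hwZ, rfl⟩
    rw [connectedComponent_eq hw]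
    exact hsub ⟨v', hvZ, rfl⟩
  · rintro ⟨Z, ⟨-, hZ⟩, hwZ⟩
    exact hZ hwZ

variable {X Y : Scheme.{u}} (f : X ⟶ Y) [LocallyOfFiniteType f]

/-- the local fibre dimension does not increase under generization. -/
theorem fibreDimAt_le_of_specializes (x' x : X) (h : x' ⤳ x) :
    FlatMor.fibreDimAt f x' ≤ FlatMor.fibreDimAt f x := by
  refine le_of_forall_nat_le _ _ (FibreGeneric.zero_le_localDim _) fun n hn => ?_
  exact h.mem_open (Groth.Agent.S0402.result f n) hn

/-- **Dimension of an irreducible connected component of a fibre**: it is the local dimension of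
the fibre at any of its points. -/
theorem dim_connComp_eq (x : X) (hirr : IsIrreducible (connectedComponentIn (f ⁻¹' {f x}) x)) :
    topologicalKrullDim ↥(connectedComponentIn (f ⁻¹' {f x}) x) = FlatMor.fibreDimAt f x := by
  set y := f x with hy
  set z := f.asFiber x with hz
  have hιz : f.fiberι y z = x := f.fiberι_asFiber x
  have hemb := (f.fiberι y).isEmbedding
  have hC : connectedComponentIn (f ⁻¹' {y}) x = f.fiberι y '' connectedComponent z := by
    rw [← connectedComponentIn_range _ hemb z, f.range_fiberι y, hιz]
  haveI : LocallyOfFiniteType (f.fiberToSpecResidueField y) :=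
    MorphismProperty.pullback_snd _ _ inferInstance
  haveI : IsLocallyNoetherian (f.fiber y) :=
    LocallyOfFiniteType.isLocallyNoetherian (f.fiberToSpecResidueField y)
  have hopen := isOpen_connectedComponent (f.fiber y) z
  have hirrF : IsIrreducible (connectedComponent z) := by
    apply isIrreducible_of_image _ hemb.isInducing
    rw [← hC]; exact hirr
  obtain ⟨η, hη⟩ := QuasiSober.sober hirrF isClosed_connectedComponent
  have hηcl : closure ({η} : Set (f.fiber y)) = connectedComponent z := hη.def
  have hηz : η ⤳ z := by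
    rw [specializes_iff_mem_closure, hηcl]; exact mem_connectedComponent
  have hηmem : η ∈ connectedComponent z := hηcl ▸ subset_closure rfl
  have hηmax : ∀ z' : f.fiber y, z' ⤳ η → z' = η := by
    intro z' hz'
    have h1 : η ∈ closure ({z'} : Set (f.fiber y)) := specializes_iff_mem_closure.mp hz'
    have h2 : closure ({z'} : Set (f.fiber y)) ⊆ connectedComponent η :=
      (isIrreducible_singleton.closure.isConnected.isPreconnected).subset_connectedComponent h1
    rw [← connectedComponent_eq hηmem, ← hηcl] at h2
    have h3 : η ⤳ z' := specializes_iff_mem_closure.mpr (h2 (subset_closure rfl))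
    exact (hz'.antisymm h3).eq
  have hdim := GenericEquidim.dim_closure_maximal f y η hηmax
  rw [hηcl] at hdim
  rw [hC, topDim_image _ hemb, hdim]
  apply le_antisymm
  · have := fibreDimAt_le_of_specializes f (f.fiberι y η) (f.fiberι y z)
      (hηz.map (f.fiberι y).continuous)
    rw [hιz] at this
    exact this
  · rw [← hdim]
    change FlatMor.localDim (f.fiber (f x)) (f.asFiber x) ≤ _
    unfold FlatMor.localDim
    exact iInf_le _ (⟨⟨connectedComponent z, hopen⟩, mem_connectedComponent⟩ :
      {U : Opens (f.fiber y) // z ∈ U})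

end sch

end Groth.Agent.Helper14.SectionComp
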