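import Mathlib
import Groth.Prelude.Def_Cyc
import Groth.Agent.Lib.Helper14.LocQuotLemmas
import Groth.Agent.Lib.Helper14.SectionComp
import Groth.Agent.Lib.Helper14.FibreComp
import Groth.Agent.Lib.Helper14.DimFormulaSch

/-!
# Chevalley's semicontinuity along a specialization

If `ξ ⤳ x` then the fibre of `closure {ξ}` over `f x` has, near `x`, dimension at least
`trdeg κ(ξ)/κ(f ξ)`.
-/

namespace Groth.Agent.Helper14.RestrictedChevalley
universe u
open TopologicalSpace AlgebraicGeometry CategoryTheory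

theorem trdeg_eq_of_eq {X Y : Scheme.{u}} (f : X ⟶ Y) (a b : X) (hab : a = b) (n : Cardinal.{u})
    (hn : @Algebra.trdeg (Y.residueField (f b)) (X.residueField b) _ _
      (f.residueFieldMap b).hom.toAlgebra = n) :
    @Algebra.trdeg (Y.residueField (f a)) (X.residueField a) _ _
      (f.residueFieldMap a).hom.toAlgebra = n := by
  subst hab; exact hn

/-- the irreducible case. -/
theorem rc_irreducible {W Y : Scheme.{u}} [IrreducibleSpace W] (f : W ⟶ Y) [LocallyOfFiniteType f]
    (w : W) (E : ℕ)
    (hE : @Algebra.trdeg (Y.residueField (f (genericPoint W))) (W.residueField (genericPoint W)) _ _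
      (f.residueFieldMap (genericPoint W)).hom.toAlgebra = E) :
    ∃ w₁ : W, w₁ ⤳ w ∧ f w₁ = f w ∧ ∃ n₁ : ℕ,
      @Algebra.trdeg (Y.residueField (f w₁)) (W.residueField w₁) _ _
        (f.residueFieldMap w₁).hom.toAlgebra = n₁ ∧ E ≤ n₁ := by
  set y := f w with hy
  haveI : LocallyOfFiniteType (f.fiberToSpecResidueField y) :=
    MorphismProperty.pullback_snd _ _ inferInstance
  haveI : IsLocallyNoetherian (f.fiber y) :=
    LocallyOfFiniteType.isLocallyNoetherian (f.fiberToSpecResidueField y)
  set z₀ := f.asFiber w with hz₀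
  have hιz₀ : f.fiberι y z₀ = w := f.fiberι_asFiber w
  obtain ⟨nw, hnw⟩ := ResFieldBridge.exists_nat_trdeg_residueField f w
  have h1 : FlatMor.fibreDimAt f (genericPoint W) = (E : WithBot ℕ∞) := by
    rw [FibreGeneric.fibreDimAt_eq_stalk_add_trdeg f _ E hE,
      DimFormulaSch.ringKrullDim_stalk_genericFibre, zero_add]
  have h2 := SectionComp.fibreDimAt_le_of_specializes f (genericPoint W) w
    (genericPoint_specializes w)
  have h3 := FibreGeneric.fibreDimAt_eq_stalk_add_trdeg f w nw hnw
  obtain ⟨t, -, ht, htdim⟩ := LocQuotLemmas.exists_maximal_locQuot_eq (S := f.fiber y) z₀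
  obtain ⟨m, hm, hδ⟩ := LocQuotLemmas.delta_eq_add_locQuot
    (DimClosure.trdegFun (f.fiberToSpecResidueField y))
    (DimClosure.isDimFun_trdegFun (Y.residueField y) (f.fiberToSpecResidueField y)) t z₀ ht
  have hz₀trdeg : DimClosure.trdegFun (f.fiberToSpecResidueField y) z₀ = nw := by
    apply DimClosure.trdegFun_eq
    rw [← FibreComp.trdeg_fibre f y z₀]
    exact trdeg_eq_of_eq f _ _ hιz₀ _ hnw
  obtain ⟨n₁, hn₁⟩ := ResFieldBridge.exists_nat_trdeg_residueField
    (f.fiberToSpecResidueField y) t
  have hn₁' := DimClosure.trdegFun_eq (f.fiberToSpecResidueField y) t n₁ hn₁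
  rw [hn₁', hz₀trdeg] at hδ
  have hn₁eq : n₁ = nw + m := by exact_mod_cast hδ
  rw [htdim] at hm
  rw [h1, h3, hm] at h2
  have hE' : E ≤ m + nw := by exact_mod_cast h2
  refine ⟨f.fiberι y t, ?_, (f.fiberHomeo y t).2, n₁, ?_, by omega⟩
  · have := ht.map (f.fiberι y).continuous
    rw [hιz₀] at this
    exact this
  · rw [FibreComp.trdeg_fibre f y t]
    exact hn₁

/-- **Chevalley's semicontinuity along a specialization.** -/
theorem rc {X Y : Scheme.{u}} (f : X ⟶ Y) [LocallyOfFiniteType f] (x ξ : X) (h : ξ ⤳ x) (E : ℕ)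
    (hE : @Algebra.trdeg (Y.residueField (f ξ)) (X.residueField ξ) _ _
      (f.residueFieldMap ξ).hom.toAlgebra = E) :
    ∃ x₁ : X, ξ ⤳ x₁ ∧ x₁ ⤳ x ∧ f x₁ = f x ∧ ∃ n₁ : ℕ,
      @Algebra.trdeg (Y.residueField (f x₁)) (X.residueField x₁) _ _
        (f.residueFieldMap x₁).hom.toAlgebra = n₁ ∧ E ≤ n₁ := by
  let I := Scheme.IdealSheafData.vanishingIdeal (X := X) ⟨closure {ξ}, isClosed_closure⟩
  let i := I.subschemeι
  have hrange : Set.range i = closure ({ξ} : Set X) := by
    rw [Scheme.IdealSheafData.range_subschemeι]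
    exact Scheme.IdealSheafData.coe_support_vanishingIdeal _
  have hemb : Topology.IsEmbedding i := i.isEmbedding
  haveI : IrreducibleSpace I.subscheme := by
    rw [irreducibleSpace_def]
    apply SectionComp.isIrreducible_of_image _ hemb.isInducing
    rw [Set.top_eq_univ, Set.image_univ, hrange]
    exact isIrreducible_singleton.closure
  have hgen : i (genericPoint I.subscheme) = ξ := by
    have h1 : closure ({i (genericPoint I.subscheme)} : Set X) = closure {ξ} := by
      apply Set.Subset.antisymm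
      · apply closure_minimal _ isClosed_closure
        rw [Set.singleton_subset_iff, ← hrange]
        exact ⟨_, rfl⟩
      · rw [← hrange, ← Set.image_univ, ← (genericPoint_spec I.subscheme).def, ← Set.image_singleton]
        exact image_closure_subset_closure_image i.continuous
    have h2 : Inseparable (i (genericPoint I.subscheme)) ξ :=
      inseparable_iff_closure_eq.mpr h1
    exact h2.eq
  obtain ⟨w, hw⟩ : x ∈ Set.range i := by
    rw [hrange]; exact specializes_iff_mem_closure.mp h
  have hE' : @Algebra.trdeg (Y.residueField ((i ≫ f) (genericPoint I.subscheme)))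
      (I.subscheme.residueField (genericPoint I.subscheme)) _ _
      ((i ≫ f).residueFieldMap (genericPoint I.subscheme)).hom.toAlgebra = E := by
    rw [DimClosure.trdeg_comp i f, FibreComp.trdeg_of_surjectiveOnStalks i, add_zero]
    exact trdeg_eq_of_eq f _ _ hgen _ hE
  obtain ⟨w₁, hw₁w, hfw₁, n₁, hn₁, hEn₁⟩ := rc_irreducible (i ≫ f) w E hE'
  refine ⟨i w₁, ?_, ?_, ?_, n₁, ?_, hEn₁⟩
  · rw [← hgen]
    exact (genericPoint_specializes w₁).map i.continuous
  · rw [← hw]
    exact hw₁w.map i.continuous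
  · rw [← hw]
    exact hfw₁
  · rw [DimClosure.trdeg_comp i f, FibreComp.trdeg_of_surjectiveOnStalks i, add_zero] at hn₁
    exact hn₁

end Groth.Agent.Helper14.RestrictedChevalley
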