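import Mathlib
import Groth.Prelude.Def_Cyc
import Groth.Prelude.Def_Flat
import Groth.Agent.Lib.Helper14.PointwiseDim
import Groth.Agent.Lib.Helper14.RestrictedChevalley

/-!
# `dim O_{X,x} ≤ dim O_{Y,y} + dim O_{X_y,x}` and related lemmas
-/

namespace Groth.Agent.Helper14.FibreDimIneq
universe u
open TopologicalSpace AlgebraicGeometry CategoryTheory

theorem exists_nat_dim (R : Type*) [CommRing R] [Nontrivial R] (h : ringKrullDim R < ⊤) :
    ∃ n : ℕ, ringKrullDim R = (n : WithBot ℕ∞) := by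
  have h0 : 0 ≤ ringKrullDim R := ringKrullDim_nonneg_of_nontrivial
  generalize ringKrullDim R = d at h h0
  induction d using WithBot.recBotCoe with
  | bot => exact absurd h0 (by simp)
  | coe d =>
    induction d using ENat.recTopCoe with
    | top => exact absurd h (lt_irrefl _)
    | coe n => exact ⟨n, rfl⟩

theorem exists_nat_dim_stalk {X : Scheme.{u}} [IsLocallyNoetherian X] (x : X) :
    ∃ n : ℕ, ringKrullDim (X.presheaf.stalk x) = (n : WithBot ℕ∞) :=
  exists_nat_dim _ ringKrullDim_lt_top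

instance {X : Scheme.{u}} (x ξ : X) (h : ξ ⤳ x) : Nontrivial (Cyc.LocQuot x ξ h) :=
  Ideal.Quotient.nontrivial_iff.mpr (RingHom.ker_ne_top _)

theorem exists_nat_dim_locQuot {X : Scheme.{u}} [IsLocallyNoetherian X] (x ξ : X) (h : ξ ⤳ x) :
    ∃ n : ℕ, ringKrullDim (Cyc.LocQuot x ξ h) = (n : WithBot ℕ∞) ∧
      (n : WithBot ℕ∞) ≤ ringKrullDim (X.presheaf.stalk x) := by
  have h1 : ringKrullDim (Cyc.LocQuot x ξ h) ≤ ringKrullDim (X.presheaf.stalk x) :=
    ringKrullDim_quotient_le _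
  obtain ⟨n, hn⟩ := exists_nat_dim (Cyc.LocQuot x ξ h) (lt_of_le_of_lt h1 ringKrullDim_lt_top)
  exact ⟨n, hn, hn ▸ h1⟩

theorem locQuot_congr {X : Scheme.{u}} (a b η : X) (hab : a = b) (h : η ⤳ a) (h' : η ⤳ b) :
    ringKrullDim (Cyc.LocQuot a η h) = ringKrullDim (Cyc.LocQuot b η h') := by
  subst hab; rfl

/-- a point whose local ring has dimension zero has no proper generization. -/
theorem maximal_of_stalk_eq_zero {F : Scheme.{u}} (z : F)
    (hz : ringKrullDim (F.presheaf.stalk z) = 0) (z' : F) (h : z' ⤳ z) : z' = z := by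
  rw [AlgebraicGeometry.ringKrullDim_stalk_eq_coheight] at hz
  have h0 : Order.coheight z = 0 := by exact_mod_cast hz
  rw [Order.coheight_eq_zero] at h0
  have h1 : z ≤ z' := Scheme.le_iff_specializes.mpr h
  have h2 : z ⤳ z' := Scheme.le_iff_specializes.mp (h0 h1)
  exact (h.antisymm h2).eq

section main

variable {X Y : Scheme.{u}} [IsLocallyNoetherian Y] (f : X ⟶ Y) [LocallyOfFiniteType f]

/-- **The dimension inequality for local rings of a morphism locally of finite type**: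
`dim O_{X,x} ≤ dim O_{Y,f x} + dim O_{X_{f x},x}`. -/
theorem stalk_le (x : X) :
    ringKrullDim (X.presheaf.stalk x) ≤ ringKrullDim (Y.presheaf.stalk (f x)) +
      ringKrullDim ((f.fiber (f x)).presheaf.stalk (f.asFiber x)) := by
  haveI : IsLocallyNoetherian X := LocallyOfFiniteType.isLocallyNoetherian f
  obtain ⟨nx, hnx⟩ := ResFieldBridge.exists_nat_trdeg_residueField f x
  obtain ⟨ξ, -, hξx, hdim⟩ := LocQuotLemmas.exists_maximal_locQuot_eq x
  obtain ⟨nξ, hnξ⟩ := ResFieldBridge.exists_nat_trdeg_residueField f ξ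
  have hPF := (PointwiseDim.formula_aux f x ξ hξx nx nξ hnx hnξ).1
  obtain ⟨x₁, -, hx₁x, hfx₁, n₁, hn₁, hle⟩ := RestrictedChevalley.rc f x ξ hξx nξ hnξ
  have h1 := FibreGeneric.fibreDimAt_eq_stalk_add_trdeg f x₁ n₁ hn₁
  have h2 := FibreGeneric.fibreDimAt_eq_stalk_add_trdeg f x nx hnx
  have h3 := SectionComp.fibreDimAt_le_of_specializes f x₁ x hx₁x
  haveI : LocallyOfFiniteType (f.fiberToSpecResidueField (f x)) :=
    MorphismProperty.pullback_snd _ _ inferInstance
  haveI : IsLocallyNoetherian (f.fiber (f x)) :=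
    LocallyOfFiniteType.isLocallyNoetherian (f.fiberToSpecResidueField (f x))
  haveI : LocallyOfFiniteType (f.fiberToSpecResidueField (f x₁)) :=
    MorphismProperty.pullback_snd _ _ inferInstance
  haveI : IsLocallyNoetherian (f.fiber (f x₁)) :=
    LocallyOfFiniteType.isLocallyNoetherian (f.fiberToSpecResidueField (f x₁))
  obtain ⟨a, ha⟩ := exists_nat_dim_stalk x
  obtain ⟨b, hb⟩ := exists_nat_dim_stalk (f x)
  obtain ⟨c, hc⟩ := exists_nat_dim_stalk (f.asFiber x)
  obtain ⟨c₁, hc₁⟩ := exists_nat_dim_stalk (f.asFiber x₁)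
  obtain ⟨d, hd, hdb⟩ := exists_nat_dim_locQuot (f x) (f ξ) (hξx.map f.continuous)
  rw [hdim, ha, hd] at hPF
  rw [h1, h2, hc, hc₁] at h3
  rw [hb] at hdb
  rw [ha, hb, hc]
  have e1 : a + nx ≤ d + nξ := by exact_mod_cast hPF
  have e2 : c₁ + n₁ ≤ c + nx := by exact_mod_cast h3
  have e3 : d ≤ b := by exact_mod_cast hdb
  have : a ≤ b + c := by omega
  exact_mod_cast this

end main

end Groth.Agent.Helper14.FibreDimIneq
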