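import Mathlib
import Groth.Prelude.Def_Cyc
import Groth.Prelude.Def_Flat
import Groth.Agent.Lib.Helper14.FibreDimIneq
import Groth.Agent.Lib.Helper14.DeltaZStalk

/-!
# Maximal points, closures of points in fibres
-/

namespace Groth.Agent.Helper14.FibreClosure
universe u
open TopologicalSpace AlgebraicGeometry CategoryTheory

section top

variable {X : Scheme.{u}}

/-- the closure of a maximal point is an irreducible component. -/
theorem closure_mem_irreducibleComponents_of_maximal (ξ : X) (hξ : ∀ ξ' : X, ξ' ⤳ ξ → ξ' = ξ) :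
    closure ({ξ} : Set X) ∈ irreducibleComponents X := by
  refine ⟨isIrreducible_singleton.closure, fun Z hZ hle => ?_⟩
  obtain ⟨ζ, hζ⟩ := QuasiSober.sober hZ.closure isClosed_closure
  have hsp : ζ ⤳ ξ := by
    rw [specializes_iff_mem_closure, hζ.def]
    exact subset_closure (hle (subset_closure rfl))
  rw [hξ ζ hsp] at hζ
  rw [hζ.def]
  exact subset_closure

/-- in an irreducible scheme the only maximal point is the generic point. -/
theorem eq_genericPoint_of_maximal [IrreducibleSpace X] (ξ : X) (hξ : ∀ ξ' : X, ξ' ⤳ ξ → ξ' = ξ) :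
    ξ = genericPoint X :=
  (hξ _ (genericPoint_specializes ξ)).symm

/-- the prime of `O_{X,x}` attached to a generization `ξ` maps to `ξ`. -/
theorem fromSpecStalk_ker (x ξ : X) (h : ξ ⤳ x) :
    (X.fromSpecStalk x) (⟨RingHom.ker (Cyc.specMap x ξ h), RingHom.ker_isPrime _⟩ :
      PrimeSpectrum (X.presheaf.stalk x)) = ξ := by
  have h1 := Scheme.fromSpecStalk_closedPoint (x := ξ)
  rw [← Scheme.SpecMap_stalkSpecializes_fromSpecStalk h] at h1
  rw [Scheme.Hom.comp_apply] at h1
  convert h1 using 2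
  apply PrimeSpectrum.ext
  change RingHom.ker (Cyc.specMap x ξ h) =
    (IsLocalRing.maximalIdeal (X.presheaf.stalk ξ)).comap (X.presheaf.stalkSpecializes h).hom
  unfold Cyc.specMap
  rw [CommRingCat.hom_comp, ← RingHom.comap_ker]
  congr 1
  exact IsLocalRing.ker_residue

/-- if `dim O_{X,x}/𝔭_ξ = dim O_{X,x}` then `ξ` is a maximal point. -/
theorem maximal_of_locQuot_eq [IsLocallyNoetherian X] (x ξ : X) (h : ξ ⤳ x)
    (hdim : ringKrullDim (Cyc.LocQuot x ξ h) = ringKrullDim (X.presheaf.stalk x))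
    (ξ' : X) (hξ' : ξ' ⤳ ξ) : ξ' = ξ := by
  set P : PrimeSpectrum (X.presheaf.stalk x) :=
    ⟨RingHom.ker (Cyc.specMap x ξ h), RingHom.ker_isPrime _⟩ with hP
  set P' : PrimeSpectrum (X.presheaf.stalk x) :=
    ⟨RingHom.ker (Cyc.specMap x ξ' (hξ'.trans h)), RingHom.ker_isPrime _⟩ with hP'
  have e1 : (X.fromSpecStalk x) P = ξ := fromSpecStalk_ker x ξ h
  have e2 : (X.fromSpecStalk x) P' = ξ' := fromSpecStalk_ker x ξ' (hξ'.trans h)
  have hle : P' ≤ P := by
    rw [PrimeSpectrum.le_iff_specializes]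
    have hind := (X.fromSpecStalk x).isEmbedding.isInducing
    have : (X.fromSpecStalk x) P' ⤳ (X.fromSpecStalk x) P := by rw [e1, e2]; exact hξ'
    exact hind.specializes_iff.mp this
  have hco : ringKrullDim (Cyc.LocQuot x ξ h) = (Order.coheight P : WithBot ℕ∞) :=
    DeltaZ.ringKrullDim_quotient_eq_coheight P
  by_contra hne
  have hlt : P' < P := lt_of_le_of_ne hle (fun e => hne (by rw [← e1, ← e2, e]))
  have h2 := Order.coheight_add_one_le hlt
  have h3 : (Order.coheight P' : WithBot ℕ∞) ≤ ringKrullDim (X.presheaf.stalk x) :=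
    Order.coheight_le_krullDim P'
  obtain ⟨n, hn⟩ := FibreDimIneq.exists_nat_dim_stalk x
  rw [hdim, hn] at hco
  rw [hn] at h3
  have h4 : Order.coheight P = (n : ℕ∞) := by exact_mod_cast hco.symm
  have h5 : Order.coheight P' ≤ (n : ℕ∞) := by exact_mod_cast h3
  rw [h4] at h2
  have h6 : ((n + 1 : ℕ) : ℕ∞) ≤ (n : ℕ∞) := by
    push_cast
    exact h2.trans h5
  have : n + 1 ≤ n := by exact_mod_cast h6
  omega

end top

section fibre

variable {X Y : Scheme.{u}} (f : X ⟶ Y) [LocallyOfFiniteType f]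

/-- the closure of a point inside its fibre has dimension the transcendence degree of its residue
field. -/
theorem topDim_closure_inter_fibre (ξ : X) (nξ : ℕ)
    (hnξ : @Algebra.trdeg (Y.residueField (f ξ)) (X.residueField ξ) _ _
      (f.residueFieldMap ξ).hom.toAlgebra = nξ) :
    topologicalKrullDim ↥(closure ({ξ} : Set X) ∩ f ⁻¹' {f ξ}) = (nξ : WithBot ℕ∞) := by
  haveI : LocallyOfFiniteType (f.fiberToSpecResidueField (f ξ)) :=
    MorphismProperty.pullback_snd _ _ inferInstance
  have hemb := (f.fiberι (f ξ)).isEmbedding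
  have hι : f.fiberι (f ξ) (f.asFiber ξ) = ξ := f.fiberι_asFiber ξ
  have hset : closure ({ξ} : Set X) ∩ f ⁻¹' {f ξ} =
      f.fiberι (f ξ) '' closure {f.asFiber ξ} := by
    rw [hemb.isInducing.closure_eq_preimage_closure_image, Set.image_singleton, hι,
      Set.image_preimage_eq_inter_range, f.range_fiberι]
  rw [hset, SectionComp.topDim_image _ hemb,
    DimClosure.dim_closure_eq (Y.residueField (f ξ)) (f.fiberToSpecResidueField (f ξ))]
  have htr : DimClosure.trdegFun (f.fiberToSpecResidueField (f ξ)) (f.asFiber ξ) = nξ := by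
    apply DimClosure.trdegFun_eq
    rw [← FibreComp.trdeg_fibre f (f ξ) (f.asFiber ξ)]
    exact RestrictedChevalley.trdeg_eq_of_eq f _ _ hι _ hnξ
  rw [htr]
  simp

end fibre

end Groth.Agent.Helper14.FibreClosure
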