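import Mathlib
import Groth.Prelude.Def_Cyc
import Groth.Agent.Lib.Helper14.FibreClosure

/-!
# Minimal primes of local rings and maximal points
-/

namespace Groth.Agent.Helper14.MinPrimePts
universe u
open TopologicalSpace AlgebraicGeometry CategoryTheory

variable {X : Scheme.{u}}

theorem fromSpecStalk_specializes (x : X) (P : PrimeSpectrum (X.presheaf.stalk x)) :
    (X.fromSpecStalk x) P ⤳ x := by
  have : (X.fromSpecStalk x) P ∈ Set.range (X.fromSpecStalk x) := ⟨P, rfl⟩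
  rw [Scheme.range_fromSpecStalk] at this
  exact this

theorem fromSpecStalk_injective (x : X) : Function.Injective (X.fromSpecStalk x) :=
  (X.fromSpecStalk x).isEmbedding.injective

/-- the prime attached to the point `fromSpecStalk x P` is `P`. -/
theorem ker_specMap_fromSpecStalk (x : X) (P : PrimeSpectrum (X.presheaf.stalk x))
    (h : (X.fromSpecStalk x) P ⤳ x) :
    RingHom.ker (Cyc.specMap x ((X.fromSpecStalk x) P) h) = P.asIdeal := by
  have h1 := FibreClosure.fromSpecStalk_ker x _ h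
  have h2 := fromSpecStalk_injective x h1
  exact congrArg PrimeSpectrum.asIdeal h2

theorem ker_specMap_congr (x ξ ξ' : X) (e : ξ = ξ') (h : ξ ⤳ x) (h' : ξ' ⤳ x) :
    RingHom.ker (Cyc.specMap x ξ h) = RingHom.ker (Cyc.specMap x ξ' h') := by
  subst e; rfl

theorem ker_specMap_le_iff (x ξ ξ' : X) (h : ξ ⤳ x) (h' : ξ' ⤳ x) :
    RingHom.ker (Cyc.specMap x ξ' h') ≤ RingHom.ker (Cyc.specMap x ξ h) ↔ ξ' ⤳ ξ := by
  set P : PrimeSpectrum (X.presheaf.stalk x) :=
    ⟨RingHom.ker (Cyc.specMap x ξ h), RingHom.ker_isPrime _⟩ with hP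
  set P' : PrimeSpectrum (X.presheaf.stalk x) :=
    ⟨RingHom.ker (Cyc.specMap x ξ' h'), RingHom.ker_isPrime _⟩ with hP'
  have e1 : (X.fromSpecStalk x) P = ξ := FibreClosure.fromSpecStalk_ker x ξ h
  have e2 : (X.fromSpecStalk x) P' = ξ' := FibreClosure.fromSpecStalk_ker x ξ' h'
  have hind := (X.fromSpecStalk x).isEmbedding.isInducing
  change P' ≤ P ↔ _
  rw [PrimeSpectrum.le_iff_specializes]
  constructor
  · intro hle
    have := hle.map (X.fromSpecStalk x).continuous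
    rw [e1, e2] at this
    exact this
  · intro hsp
    have : (X.fromSpecStalk x) P' ⤳ (X.fromSpecStalk x) P := by rw [e1, e2]; exact hsp
    exact hind.specializes_iff.mp this

/-- maximal points through `x` give minimal primes of the local ring. -/
theorem ker_specMap_mem_minimalPrimes (x ξ : X) (h : ξ ⤳ x) (hξ : ∀ ξ' : X, ξ' ⤳ ξ → ξ' = ξ) :
    RingHom.ker (Cyc.specMap x ξ h) ∈ minimalPrimes (X.presheaf.stalk x) := by
  refine ⟨⟨RingHom.ker_isPrime _, bot_le⟩, fun Q hQ hle => ?_⟩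
  haveI := hQ.1
  set ξ' := (X.fromSpecStalk x) ⟨Q, hQ.1⟩ with hξ'
  have hsp := fromSpecStalk_specializes x ⟨Q, hQ.1⟩
  have hker := ker_specMap_fromSpecStalk x ⟨Q, hQ.1⟩ hsp
  have h1 : ξ' ⤳ ξ := by
    rw [← ker_specMap_le_iff x ξ ξ' h hsp, hker]
    exact hle
  have h2 := hξ ξ' h1
  have : RingHom.ker (Cyc.specMap x ξ h) = Q :=
    (ker_specMap_congr x ξ ξ' h2.symm h hsp).trans hker
  exact this.le

/-- minimal primes of the local ring at `x` come from maximal points through `x`. -/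
theorem exists_maximal_of_mem_minimalPrimes (x : X) (𝔭 : Ideal (X.presheaf.stalk x))
    (h𝔭 : 𝔭 ∈ minimalPrimes (X.presheaf.stalk x)) :
    ∃ (ξ : X) (h : ξ ⤳ x), RingHom.ker (Cyc.specMap x ξ h) = 𝔭 ∧ ∀ ξ' : X, ξ' ⤳ ξ → ξ' = ξ := by
  haveI := h𝔭.1.1
  set ξ := (X.fromSpecStalk x) ⟨𝔭, h𝔭.1.1⟩ with hξ
  have hsp := fromSpecStalk_specializes x ⟨𝔭, h𝔭.1.1⟩
  have hker : RingHom.ker (Cyc.specMap x ξ hsp) = 𝔭 :=
    ker_specMap_fromSpecStalk x ⟨𝔭, h𝔭.1.1⟩ hsp
  refine ⟨ξ, hsp, hker, fun ξ' hξ' => ?_⟩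
  have h' : ξ' ⤳ x := hξ'.trans hsp
  have hle : RingHom.ker (Cyc.specMap x ξ' h') ≤ RingHom.ker (Cyc.specMap x ξ hsp) :=
    (ker_specMap_le_iff x ξ ξ' hsp h').mpr hξ'
  have hge : RingHom.ker (Cyc.specMap x ξ hsp) ≤ RingHom.ker (Cyc.specMap x ξ' h') := by
    rw [hker]
    apply h𝔭.2 ⟨RingHom.ker_isPrime _, bot_le⟩
    rw [← hker]
    exact hle
  exact ((ker_specMap_le_iff x ξ' ξ h' hsp).mp hge).antisymm hξ' |>.eq.symm

/-- compatibility of the primes attached to generizations with morphisms. -/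
theorem comap_ker_specMap {Y : Scheme.{u}} (f : X ⟶ Y) (x ξ : X) (h : ξ ⤳ x) :
    (RingHom.ker (Cyc.specMap x ξ h)).comap (f.stalkMap x).hom =
      RingHom.ker (Cyc.specMap (f x) (f ξ) (h.map f.continuous)) := by
  have key : (Cyc.specMap x ξ h).comp (f.stalkMap x).hom =
      (f.residueFieldMap ξ).hom.comp (Cyc.specMap (f x) (f ξ) (h.map f.continuous)) := by
    unfold Cyc.specMap
    rw [← CommRingCat.hom_comp, ← CommRingCat.hom_comp]
    congr 1
    rw [Category.assoc, Scheme.residue_residueFieldMap, ← Category.assoc, ← Category.assoc,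
      Scheme.Hom.stalkSpecializes_stalkMap]
  rw [RingHom.comap_ker, key]
  ext a
  simp only [RingHom.mem_ker, RingHom.comp_apply]
  exact map_eq_zero_iff _ (RingHom.injective _)

end Groth.Agent.Helper14.MinPrimePts
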