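import Mathlib
import Groth.Prelude.Def_Flat
import Groth.Agent.Lib.Helper14.SectionComp
import Groth.Agent.Lib.Helper14.RestrictedChevalley

/-!
# Connected components of fibres, continued
-/

namespace Groth.Agent.Helper14.SectionComp
universe u
open TopologicalSpace AlgebraicGeometry CategoryTheory

variable {X Y : Scheme.{u}} (f : X ⟶ Y) [LocallyOfFiniteType f]

omit [LocallyOfFiniteType f] in
theorem connComp_eq_image (x : X) :
    connectedComponentIn (f ⁻¹' {f x}) x =
      f.fiberι (f x) '' connectedComponent (f.asFiber x) := by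
  have hιz : f.fiberι (f x) (f.asFiber x) = x := f.fiberι_asFiber x
  rw [← connectedComponentIn_range _ (f.fiberι (f x)).isEmbedding (f.asFiber x),
    f.range_fiberι (f x), hιz]

theorem isLocallyNoetherian_fiber (y : Y) : IsLocallyNoetherian (f.fiber y) := by
  haveI : LocallyOfFiniteType (f.fiberToSpecResidueField y) :=
    MorphismProperty.pullback_snd _ _ inferInstance
  exact LocallyOfFiniteType.isLocallyNoetherian (f.fiberToSpecResidueField y)

/-- the local dimension of the fibre is at most the dimension of the connected component. -/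
theorem fibreDimAt_le_dim_connComp (x : X) :
    FlatMor.fibreDimAt f x ≤ topologicalKrullDim ↥(connectedComponentIn (f ⁻¹' {f x}) x) := by
  haveI := isLocallyNoetherian_fiber f (f x)
  rw [connComp_eq_image, topDim_image _ (f.fiberι (f x)).isEmbedding]
  have hopen := isOpen_connectedComponent (f.fiber (f x)) (f.asFiber x)
  change FlatMor.localDim (f.fiber (f x)) (f.asFiber x) ≤ _
  unfold FlatMor.localDim
  exact iInf_le _ (⟨⟨connectedComponent (f.asFiber x), hopen⟩, mem_connectedComponent⟩ :
    {U : Opens (f.fiber (f x)) // f.asFiber x ∈ U})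

/-- the generic point of an irreducible connected component of a fibre. -/
theorem connComp_generic (x : X) (hirr : IsIrreducible (connectedComponentIn (f ⁻¹' {f x}) x)) :
    ∃ η : f.fiber (f x), (∀ z' : f.fiber (f x), z' ⤳ η → z' = η) ∧
      closure {η} = connectedComponent (f.asFiber x) ∧
      FlatMor.fibreDimAt f (f.fiberι (f x) η) = FlatMor.fibreDimAt f x := by
  haveI := isLocallyNoetherian_fiber f (f x)
  set y := f x with hy
  set z := f.asFiber x with hz
  have hιz : f.fiberι y z = x := f.fiberι_asFiber x
  have hemb := (f.fiberι y).isEmbedding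
  have hC := connComp_eq_image f x
  have hirrF : IsIrreducible (connectedComponent z) := by
    apply isIrreducible_of_image _ hemb.isInducing
    rw [← hC]; exact hirr
  obtain ⟨η, hη⟩ := QuasiSober.sober hirrF isClosed_connectedComponent
  have hηcl : closure ({η} : Set (f.fiber y)) = connectedComponent z := hη.def
  have hηz : η ⤳ z := by
    rw [specializes_iff_mem_closure, hηcl]; exact mem_connectedComponent
  have hηmem : η ∈ connectedComponent z := hηcl ▸ subset_closure rfl
  have hηmax : ∀ z' : f.fiber y, z' ⤳ η → z' = η := by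
    intro z' hz'
    have h1 : η ∈ closure ({z'} : Set (f.fiber y)) := specializes_iff_mem_closure.mp hz'
    have h2 : closure ({z'} : Set (f.fiber y)) ⊆ connectedComponent η :=
      (isIrreducible_singleton.closure.isConnected.isPreconnected).subset_connectedComponent h1
    rw [← connectedComponent_eq hηmem, ← hηcl] at h2
    have h3 : η ⤳ z' := specializes_iff_mem_closure.mpr (h2 (subset_closure rfl))
    exact (hz'.antisymm h3).eq
  refine ⟨η, hηmax, hηcl, ?_⟩
  have hdim := GenericEquidim.dim_closure_maximal f y η hηmax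
  rw [hηcl] at hdim
  apply le_antisymm
  · have := fibreDimAt_le_of_specializes f (f.fiberι y η) (f.fiberι y z)
      (hηz.map (f.fiberι y).continuous)
    rw [hιz] at this
    exact this
  · rw [← hdim]
    have := fibreDimAt_le_dim_connComp f x
    rw [hC, topDim_image _ hemb] at this
    exact this

/-- **Key lemma**: if `ζ ⤳ x`, the connected component of the fibre through `x` is irreducible, and
the local fibre dimension at `x` is at most `trdeg κ(ζ)/κ(f ζ)`, then this component lies in the
closure of `ζ`. -/
theorem connComp_subset_closure (x ζ : X) (hζx : ζ ⤳ x)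
    (hirr : IsIrreducible (connectedComponentIn (f ⁻¹' {f x}) x)) (nζ : ℕ)
    (hnζ : @Algebra.trdeg (Y.residueField (f ζ)) (X.residueField ζ) _ _
      (f.residueFieldMap ζ).hom.toAlgebra = nζ)
    (hdim : FlatMor.fibreDimAt f x ≤ (nζ : WithBot ℕ∞)) :
    connectedComponentIn (f ⁻¹' {f x}) x ⊆ closure {ζ} := by
  haveI := isLocallyNoetherian_fiber f (f x)
  haveI : LocallyOfFiniteType (f.fiberToSpecResidueField (f x)) :=
    MorphismProperty.pullback_snd _ _ inferInstance
  obtain ⟨x₁, hζx₁, hx₁x, hfx₁, n₁, hn₁, hle⟩ := RestrictedChevalley.rc f x ζ hζx nζ hnζ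
  obtain ⟨η, hηmax, hηcl, hηdim⟩ := connComp_generic f x hirr
  have hemb := (f.fiberι (f x)).isEmbedding
  set z := f.asFiber x with hz
  have hιz : f.fiberι (f x) z = x := f.fiberι_asFiber x
  -- the point of the fibre corresponding to x₁
  let a : f.fiber (f x) := (f.fiberHomeo (f x)).symm ⟨x₁, hfx₁⟩
  have hιa : f.fiberι (f x) a = x₁ := f.fiberι_fiberHomeo_symm (f x) ⟨x₁, hfx₁⟩
  have haz : a ⤳ z := by
    rw [← hemb.isInducing.specializes_iff, hιa, hιz]
    exact hx₁x
  have hamem : a ∈ connectedComponent z := by
    have h1 : z ∈ closure ({a} : Set (f.fiber (f x))) := specializes_iff_mem_closure.mp haz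
    have h2 : closure ({a} : Set (f.fiber (f x))) ⊆ connectedComponent z :=
      (isIrreducible_singleton.closure.isConnected.isPreconnected).subset_connectedComponent h1
    exact h2 (subset_closure rfl)
  have hηa : η ⤳ a := by
    rw [specializes_iff_mem_closure, hηcl]; exact hamem
  have htra : DimClosure.trdegFun (f.fiberToSpecResidueField (f x)) a = n₁ := by
    apply DimClosure.trdegFun_eq
    rw [← FibreComp.trdeg_fibre f (f x) a]
    exact RestrictedChevalley.trdeg_eq_of_eq f _ _ hιa _ hn₁
  have hdimη := GenericEquidim.dim_closure_maximal f (f x) η hηmax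
  rw [DimClosure.dim_closure_eq (Y.residueField (f x)) (f.fiberToSpecResidueField (f x)) η,
    hηdim] at hdimη
  have hnonneg := DimClosure.trdegFun_nonneg (f.fiberToSpecResidueField (f x)) η
  have hηle : DimClosure.trdegFun (f.fiberToSpecResidueField (f x)) η ≤ nζ := by
    rw [← hdimη] at hdim
    have h3 : (DimClosure.trdegFun (f.fiberToSpecResidueField (f x)) η).toNat ≤ nζ := by
      exact_mod_cast hdim
    omega
  have haη : a = η := by
    by_contra hne
    have := ((DimClosure.isDimFun_trdegFun (Y.residueField (f x))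
      (f.fiberToSpecResidueField (f x))) η a hηa (Ne.symm hne)).1
    rw [htra] at this
    have h4 : (nζ : ℤ) ≤ n₁ := by exact_mod_cast hle
    omega
  rw [connComp_eq_image, ← hηcl]
  refine (image_closure_subset_closure_image (f.fiberι (f x)).continuous).trans ?_
  rw [Set.image_singleton, ← haη, hιa]
  exact closure_minimal (Set.singleton_subset_iff.mpr (specializes_iff_mem_closure.mp hζx₁))
    isClosed_closure

/-- an irreducible component of a fibre (as a subset of the total space) has a generic point,
maximal in its fibre. -/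
theorem exists_generic_of_fibre_component (y' : Y) (Z : Set X) (hZy : Z ⊆ f ⁻¹' {y'})
    (hZ : IsIrreducible Z)
    (hZmax : ∀ Z' : Set X, IsIrreducible Z' → Z' ⊆ f ⁻¹' {y'} → Z ⊆ Z' → Z' = Z) :
    ∃ (ζ : X) (nζ : ℕ), ζ ∈ Z ∧ Z ⊆ closure {ζ} ∧ f ζ = y' ∧
      @Algebra.trdeg (Y.residueField (f ζ)) (X.residueField ζ) _ _
        (f.residueFieldMap ζ).hom.toAlgebra = nζ ∧
      topologicalKrullDim ↥Z = (nζ : WithBot ℕ∞) ∧
      FlatMor.fibreDimAt f ζ = (nζ : WithBot ℕ∞) := by
  haveI := isLocallyNoetherian_fiber f y'
  haveI : LocallyOfFiniteType (f.fiberToSpecResidueField y') :=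
    MorphismProperty.pullback_snd _ _ inferInstance
  have hemb := (f.fiberι y').isEmbedding
  set ZF : Set (f.fiber y') := f.fiberι y' ⁻¹' Z with hZF
  have himg : f.fiberι y' '' ZF = Z := by
    rw [Set.image_preimage_eq_inter_range, f.range_fiberι y', Set.inter_eq_left.mpr hZy]
  have hZFirr : IsIrreducible ZF := by
    apply isIrreducible_of_image _ hemb.isInducing
    rw [himg]; exact hZ
  have hZFcomp : ZF ∈ irreducibleComponents (f.fiber y') := by
    refine ⟨hZFirr, ?_⟩
    intro Z'' hZ'' hle
    have h1 : IsIrreducible (f.fiberι y' '' Z'') :=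
      hZ''.image _ (f.fiberι y').continuous.continuousOn
    have h2 : f.fiberι y' '' Z'' ⊆ f ⁻¹' {y'} := by
      rw [← f.range_fiberι y']; exact Set.image_subset_range _ _
    have h3 : Z ⊆ f.fiberι y' '' Z'' := by
      rw [← himg]; exact Set.image_mono hle
    have h4 := hZmax _ h1 h2 h3
    intro w hw
    have : f.fiberι y' w ∈ Z := h4 ▸ ⟨w, hw, rfl⟩
    exact this
  obtain ⟨ζF, hζcl, hζmax⟩ := FibreComp.exists_maximal_of_mem_irreducibleComponents ZF hZFcomp
  obtain ⟨nζ, hnζ⟩ := ResFieldBridge.exists_nat_trdeg_residueField f (f.fiberι y' ζF)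
  have hdim := GenericEquidim.dim_closure_maximal f y' ζF hζmax
  have hdim2 := DimClosure.dim_closure_eq (Y.residueField y') (f.fiberToSpecResidueField y') ζF
  have htr : DimClosure.trdegFun (f.fiberToSpecResidueField y') ζF = nζ := by
    apply DimClosure.trdegFun_eq
    rw [← FibreComp.trdeg_fibre f y' ζF]
    exact hnζ
  rw [htr] at hdim2
  have hζmem : ζF ∈ ZF := hζcl ▸ subset_closure rfl
  refine ⟨f.fiberι y' ζF, nζ, hζmem, ?_, (f.fiberHomeo y' ζF).2, hnζ, ?_, ?_⟩
  · rw [← himg, ← hζcl]
    refine (image_closure_subset_closure_image (f.fiberι y').continuous).trans ?_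
    rw [Set.image_singleton]
  · rw [← himg, topDim_image _ hemb, ← hζcl, hdim2]
    simp
  · rw [← hdim, hdim2]
    simp

end Groth.Agent.Helper14.SectionComp
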