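import Mathlib
import Groth.Prelude.Def_Cyc
import Groth.Prelude.Def_Flat
import Groth.Prelude.Def_EGA43
import Groth.Agent.Lib.Helper14.FibreClosure
import Groth.Agent.Lib.Helper14.SectionComp2
import Groth.Agent.Lib.Helper14.MinPrimePts

/-!
# API for `EGA43.IsEquidimAt`
-/

namespace Groth.Agent.Helper14.EquidimAt
universe u
open TopologicalSpace AlgebraicGeometry CategoryTheory

section general
variable {X Y : Scheme.{u}} (f : X ⟶ Y)

/-- residue field extensions can be computed on an open subscheme. -/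
theorem trdeg_opens (U : X.Opens) (z : U) :
    @Algebra.trdeg (Y.residueField ((U.ι ≫ f) z)) ((U : Scheme).residueField z) _ _
      ((U.ι ≫ f).residueFieldMap z).hom.toAlgebra =
    @Algebra.trdeg (Y.residueField (f (U.ι z))) (X.residueField (U.ι z)) _ _
      (f.residueFieldMap (U.ι z)).hom.toAlgebra := by
  rw [DimClosure.trdeg_comp U.ι f z, FibreComp.trdeg_of_surjectiveOnStalks U.ι z, add_zero]

variable [LocallyOfFiniteType f]

/-- the dimension of the closure of a point in its fibre. -/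
theorem topDim_closure_asFiber (ξ : X) (nξ : ℕ)
    (hnξ : @Algebra.trdeg (Y.residueField (f ξ)) (X.residueField ξ) _ _
      (f.residueFieldMap ξ).hom.toAlgebra = nξ) :
    topologicalKrullDim ↥(closure ({f.asFiber ξ} : Set (f.fiber (f ξ)))) = (nξ : WithBot ℕ∞) := by
  haveI : LocallyOfFiniteType (f.fiberToSpecResidueField (f ξ)) :=
    MorphismProperty.pullback_snd _ _ inferInstance
  have hι : f.fiberι (f ξ) (f.asFiber ξ) = ξ := f.fiberι_asFiber ξ
  rw [DimClosure.dim_closure_eq (Y.residueField (f ξ)) (f.fiberToSpecResidueField (f ξ))]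
  have htr : DimClosure.trdegFun (f.fiberToSpecResidueField (f ξ)) (f.asFiber ξ) = nξ := by
    apply DimClosure.trdegFun_eq
    rw [← FibreComp.trdeg_fibre f (f ξ) (f.asFiber ξ)]
    exact RestrictedChevalley.trdeg_eq_of_eq f _ _ hι _ hnξ
  rw [htr]
  simp

/-- the local dimension of a fibre is the transcendence degree of the residue field of a suitable
maximal point of the fibre. -/
theorem exists_maximal_trdeg_eq_fibreDimAt (x : X) :
    ∃ (z : X) (n : ℕ), z ⤳ x ∧ f z = f x ∧ (∀ z' : X, f z' = f z → z' ⤳ z → z' = z) ∧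
      @Algebra.trdeg (Y.residueField (f z)) (X.residueField z) _ _
        (f.residueFieldMap z).hom.toAlgebra = n ∧
      FlatMor.fibreDimAt f x = (n : WithBot ℕ∞) := by
  haveI := SectionComp.isLocallyNoetherian_fiber f (f x)
  haveI : LocallyOfFiniteType (f.fiberToSpecResidueField (f x)) :=
    MorphismProperty.pullback_snd _ _ inferInstance
  obtain ⟨ζ, hζmax, hζζ₀, hdim⟩ := LocQuotLemmas.exists_maximal_locQuot_eq (f.asFiber x)
  have hδ := DimClosure.isDimFun_trdegFun (Y.residueField (f x)) (f.fiberToSpecResidueField (f x))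
  obtain ⟨m, hm, hδm⟩ := LocQuotLemmas.delta_eq_add_locQuot _ hδ ζ (f.asFiber x) hζζ₀
  obtain ⟨nx, hnx⟩ := ResFieldBridge.exists_nat_trdeg_residueField f x
  obtain ⟨nz, hnz⟩ := ResFieldBridge.exists_nat_trdeg_residueField f (f.fiberι (f x) ζ)
  have hι : f.fiberι (f x) (f.asFiber x) = x := f.fiberι_asFiber x
  have hfz : f (f.fiberι (f x) ζ) = f x := (f.fiberHomeo (f x) ζ).2
  have h1 : DimClosure.trdegFun (f.fiberToSpecResidueField (f x)) (f.asFiber x) = nx := by
    apply DimClosure.trdegFun_eq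
    rw [← FibreComp.trdeg_fibre f (f x) (f.asFiber x)]
    exact RestrictedChevalley.trdeg_eq_of_eq f _ _ hι _ hnx
  have h2 : DimClosure.trdegFun (f.fiberToSpecResidueField (f x)) ζ = nz := by
    apply DimClosure.trdegFun_eq
    rw [← FibreComp.trdeg_fibre f (f x) ζ]
    exact hnz
  rw [h1, h2] at hδm
  refine ⟨f.fiberι (f x) ζ, nz, ?_, hfz, ?_, hnz, ?_⟩
  · have := hζζ₀.map (f.fiberι (f x)).continuous
    rw [hι] at this
    exact this
  · intro z' hfz' hz'
    have hmem : z' ∈ f ⁻¹' {f x} := hfz'.trans hfz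
    have hspec : (f.fiberHomeo (f x)).symm ⟨z', hmem⟩ ⤳ ζ := by
      have h3 : ζ = (f.fiberHomeo (f x)).symm ⟨f.fiberι (f x) ζ, hfz⟩ := by
        apply (f.fiberHomeo (f x)).injective
        rw [Homeomorph.apply_symm_apply]
        exact Subtype.ext rfl
      rw [h3]
      apply Specializes.map _ (f.fiberHomeo (f x)).symm.continuous
      rw [subtype_specializes_iff]
      exact hz'
    have h4 := congrArg (f.fiberι (f x)) (hζmax _ hspec)
    rw [f.fiberι_fiberHomeo_symm] at h4
    exact h4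
  · rw [FibreGeneric.fibreDimAt_eq_stalk_add_trdeg f x nx hnx, ← hdim, hm]
    have : (nz : ℤ) = nx + m := hδm
    have : nz = nx + m := by exact_mod_cast this
    rw [this]
    push_cast
    rw [add_comm]

/-- transcendence degrees of points of the fibre specializing to `x` are bounded by the local
dimension of the fibre. -/
theorem trdeg_le_fibreDimAt (x z : X) (hz : z ⤳ x) (n : ℕ)
    (hn : @Algebra.trdeg (Y.residueField (f z)) (X.residueField z) _ _
        (f.residueFieldMap z).hom.toAlgebra = n) :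
    (n : WithBot ℕ∞) ≤ FlatMor.fibreDimAt f x := by
  refine le_trans ?_ (SectionComp.fibreDimAt_le_of_specializes f z x hz)
  rw [FibreGeneric.fibreDimAt_eq_stalk_add_trdeg f z n hn]
  have h0 : (0 : WithBot ℕ∞) ≤ ringKrullDim ((f.fiber (f z)).presheaf.stalk (f.asFiber z)) :=
    ringKrullDim_nonneg_of_nontrivial
  calc (n : WithBot ℕ∞) = 0 + n := by rw [zero_add]
    _ ≤ _ := add_le_add_left h0 _

end general

section equidim
variable {X Y : Scheme.{u}} (f : X ⟶ Y) [LocallyOfFiniteType f]

theorem maximal_opens (U : X.Opens) (ξ : X) (hξU : ξ ∈ U) (hξ : ∀ ξ' : X, ξ' ⤳ ξ → ξ' = ξ) :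
    ∀ ξ' : U, ξ' ⤳ (⟨ξ, hξU⟩ : U) → ξ' = ⟨ξ, hξU⟩ := by
  intro ξ' h
  have h1 : U.ι ξ' ⤳ U.ι (⟨ξ, hξU⟩ : U) := h.map U.ι.continuous
  apply Subtype.ext
  exact hξ _ h1

/-- **Unpacking equidimensionality at a point.** -/
theorem spec {x : X} (h : EGA43.IsEquidimAt f x) : ∃ (e : ℕ) (U : X.Opens), x ∈ U ∧
    (∀ ξ : X, ξ ∈ U → (∀ ξ' : X, ξ' ⤳ ξ → ξ' = ξ) →
      (∀ η' : Y, η' ⤳ f ξ → η' = f ξ) ∧ f ξ ⤳ f x) ∧
    (∀ z : X, z ∈ U → (∀ z' : X, f z' = f z → z' ⤳ z → z' = z) →
      @Algebra.trdeg (Y.residueField (f z)) (X.residueField z) _ _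
        (f.residueFieldMap z).hom.toAlgebra = e) ∧
    (∀ x' : X, x' ∈ U → FlatMor.fibreDimAt f x' = e) := by
  obtain ⟨e, U, hxU, h1, h2⟩ := h
  have part2 : ∀ z : X, z ∈ U → (∀ z' : X, f z' = f z → z' ⤳ z → z' = z) →
      @Algebra.trdeg (Y.residueField (f z)) (X.residueField z) _ _
        (f.residueFieldMap z).hom.toAlgebra = e := by
    intro z hzU hzmax
    set g := U.ι ≫ f with hg
    let zU : U := ⟨z, hzU⟩
    obtain ⟨n, hn⟩ := ResFieldBridge.exists_nat_trdeg_residueField g zU
    have hdim := topDim_closure_asFiber g zU n hn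
    have hmax : ∀ ζ' : g.fiber (g zU), ζ' ⤳ g.asFiber zU → ζ' = g.asFiber zU := by
      intro ζ' hζ'
      have h3 := hζ'.map (g.fiberι (g zU)).continuous
      rw [g.fiberι_asFiber] at h3
      have h4 : (U.ι (g.fiberι (g zU) ζ')) ⤳ z := h3.map U.ι.continuous
      have h5 : f (U.ι (g.fiberι (g zU) ζ')) = f z := (g.fiberHomeo (g zU) ζ').2
      have h6 := hzmax _ h5 h4
      have h7 : g.fiberι (g zU) ζ' = zU := Subtype.ext h6
      apply (g.fiberι (g zU)).isEmbedding.injective
      rw [h7, g.fiberι_asFiber]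
    have hcomp := FibreClosure.closure_mem_irreducibleComponents_of_maximal _ hmax
    have h8 := h2 zU _ hcomp
    rw [hdim] at h8
    have hne : n = e := by exact_mod_cast h8
    have h9 := trdeg_opens f U zU
    rw [hn, hne] at h9
    exact h9.symm
  refine ⟨e, U, hxU, ?_, part2, ?_⟩
  · intro ξ hξU hξmax
    let ξU : U := ⟨ξ, hξU⟩
    have hmaxU := maximal_opens U ξ hξU hξmax
    have hcomp := FibreClosure.closure_mem_irreducibleComponents_of_maximal (X := U) ξU hmaxU
    obtain ⟨W, hW, hxW, hcl⟩ := h1 _ hcomp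
    have hcl' : closure {f ξ} = W := by
      rw [← hcl, closure_image_closure (U.ι ≫ f).continuous, Set.image_singleton]
      rfl
    constructor
    · intro η' hη'
      have hsub : W ⊆ closure {η'} := by
        rw [← hcl']; exact specializes_iff_closure_subset.mp hη'
      have h3 := hW.2 isIrreducible_singleton.closure hsub
      have h4 : f ξ ⤳ η' := by
        rw [specializes_iff_mem_closure, hcl']; exact h3 (subset_closure rfl)
      exact (hη'.antisymm h4).eq
    · rw [specializes_iff_mem_closure, hcl']; exact hxW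
  · intro x' hx'U
    obtain ⟨z, n, hzx', hfz, hzmax, hn, hfd⟩ := exists_maximal_trdeg_eq_fibreDimAt f x'
    have hzU : z ∈ U := hzx'.mem_open U.isOpen hx'U
    have h3 := part2 z hzU hzmax
    rw [hn] at h3
    have : n = e := by exact_mod_cast h3
    rw [hfd, this]

end equidim

end Groth.Agent.Helper14.EquidimAt
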