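import Mathlib

namespace Groth.Agent.Helper14.FieldTensor
universe u
open TensorProduct MvPolynomial

/-- a field is flat over any subdomain. -/
theorem flat_of_injective (A L : Type*) [CommRing A] [IsDomain A] [Field L] [Algebra A L]
    (h : Function.Injective (algebraMap A L)) : Module.Flat A L := by
  let F := FractionRing A
  letI : Algebra F L := (IsFractionRing.lift h).toAlgebra
  haveI : IsScalarTower A F L := IsScalarTower.of_algebraMap_eq (fun a => by
    rw [RingHom.algebraMap_toAlgebra]; exact (IsFractionRing.lift_algebraMap h a).symm)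
  haveI : Module.Flat A F := IsLocalization.flat F (nonZeroDivisors A)
  haveI : Module.Flat F L := inferInstance
  exact Module.Flat.trans A F L

variable {k K L : Type u} [Field k] [Field K] [Field L] [Algebra k K] [Algebra k L]
variable {ι : Type*}

/-- **Key lemma**: if `t` is algebraically independent over `k` in the field `L`, then nonzero
divisors of `k[T] ⊗ K` map to nonzero divisors of `L ⊗ K`. -/
theorem map_mem_nonZeroDivisors (t : ι → L) (ht : AlgebraicIndependent k t)
    (P : MvPolynomial ι k ⊗[k] K) (hP : P ∈ nonZeroDivisors (MvPolynomial ι k ⊗[k] K)) :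
    Algebra.TensorProduct.map (aeval t : MvPolynomial ι k →ₐ[k] L) (AlgHom.id k K) P ∈
      nonZeroDivisors (L ⊗[k] K) := by
  letI alg : Algebra (MvPolynomial ι k) L := (aeval t : MvPolynomial ι k →ₐ[k] L).toRingHom.toAlgebra
  have halg : ∀ a : MvPolynomial ι k, algebraMap (MvPolynomial ι k) L a = aeval t a := fun _ => rfl
  haveI : IsScalarTower k (MvPolynomial ι k) L := IsScalarTower.of_algebraMap_eq (fun c => by
    rw [halg, MvPolynomial.algebraMap_eq, aeval_C])
  have hinj : Function.Injective (algebraMap (MvPolynomial ι k) L) := ht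
  haveI : Module.Flat (MvPolynomial ι k) L := flat_of_injective _ _ hinj
  let e := Algebra.TensorProduct.cancelBaseChange k (MvPolynomial ι k) (MvPolynomial ι k) L K
  have h2 : ∀ P' : MvPolynomial ι k ⊗[k] K, e ((1 : L) ⊗ₜ[MvPolynomial ι k] P') =
      Algebra.TensorProduct.map (aeval t : MvPolynomial ι k →ₐ[k] L) (AlgHom.id k K) P' := by
    intro P'
    induction P' using TensorProduct.induction_on with
    | zero => simp
    | tmul a c =>
      rw [Algebra.TensorProduct.cancelBaseChange_tmul, Algebra.TensorProduct.map_tmul]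
      rw [Algebra.smul_def, mul_one, halg]
      rfl
    | add x y hx hy =>
      rw [TensorProduct.tmul_add, map_add, map_add, hx, hy]
  -- multiplication by `P`
  let mulP : (MvPolynomial ι k ⊗[k] K) →ₗ[MvPolynomial ι k] (MvPolynomial ι k ⊗[k] K) :=
    LinearMap.mulLeft (MvPolynomial ι k) P
  have hmulP : Function.Injective mulP := by
    rw [injective_iff_map_eq_zero]
    intro x hx
    have : P * x = 0 := hx
    rw [mul_comm] at this
    exact (mem_nonZeroDivisors_iff_right.mp hP) x this
  have hlT := Module.Flat.lTensor_preserves_injective_linearMap (M := L) mulP hmulP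
  have h3' : LinearMap.mulLeft (MvPolynomial ι k) ((1 : L) ⊗ₜ[MvPolynomial ι k] P) =
      LinearMap.lTensor L mulP := by
    apply TensorProduct.ext'
    intro l s
    rw [LinearMap.mulLeft_apply, Algebra.TensorProduct.tmul_mul_tmul, one_mul,
      LinearMap.lTensor_tmul]
    rfl
  have h3 : ∀ y : L ⊗[MvPolynomial ι k] (MvPolynomial ι k ⊗[k] K),
      ((1 : L) ⊗ₜ[MvPolynomial ι k] P) * y = LinearMap.lTensor L mulP y := by
    intro y
    rw [← h3']
    rfl
  rw [mem_nonZeroDivisors_iff_right]
  intro x hx
  have h1 : ((1 : L) ⊗ₜ[MvPolynomial ι k] P) * e.symm x = 0 := by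
    apply e.injective
    rw [map_mul, h2, AlgEquiv.apply_symm_apply, map_zero, mul_comm]
    exact hx
  rw [h3] at h1
  have h4 : e.symm x = 0 := by
    apply hlT
    rw [h1, map_zero]
  have := congrArg e h4
  rwa [AlgEquiv.apply_symm_apply, map_zero] at this


section pushout
open Cardinal

variable {k L K T : Type u} [Field k] [Field L] [Field K] [CommRing T]
  [Algebra k L] [Algebra k K] [Algebra L T] [Algebra K T] [Algebra k T]
  [IsScalarTower k L T] [IsScalarTower k K T] [Algebra.IsPushout k L K T]

/-- **Thm A**: the residue domains of `L ⊗[k] K` have transcendence degree over `K` at most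
`trdeg k L`. -/
theorem trdeg_quotient_le (Q : Ideal T) [Q.IsPrime] :
    Algebra.trdeg K (T ⧸ Q) ≤ Algebra.trdeg k L := by
  obtain ⟨s, hs⟩ := exists_isTranscendenceBasis k L
  let ψ : L →ₐ[k] T ⧸ Q := ((Ideal.Quotient.mkₐ k Q).comp (IsScalarTower.toAlgHom k L T))
  have hψ : Function.Injective ψ := RingHom.injective ψ.toRingHom
  have hψdef : ∀ l, ψ l = Ideal.Quotient.mk Q (algebraMap L T l) := fun _ => rfl
  let s' : Set (T ⧸ Q) := ψ '' s
  have hcard : #s' ≤ #s := Cardinal.mk_image_le
  rw [← hs.cardinalMk_eq_trdeg]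
  refine le_trans ?_ hcard
  -- generation
  have hgen : Algebra.adjoin K (Set.range ψ) = ⊤ := by
    rw [eq_top_iff]
    rintro z -
    obtain ⟨w, rfl⟩ := Ideal.Quotient.mk_surjective z
    obtain ⟨x, rfl⟩ := (Algebra.IsPushout.equiv k L K T).surjective w
    induction x using TensorProduct.induction_on with
    | zero => simp
    | tmul l c =>
      rw [Algebra.IsPushout.equiv_tmul, map_mul]
      refine Subalgebra.mul_mem _ (Algebra.subset_adjoin ⟨l, rfl⟩) ?_
      exact Subalgebra.algebraMap_mem _ c
    | add x y hx hy =>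
      rw [map_add, map_add]
      exact Subalgebra.add_mem _ hx hy
  set B := Algebra.adjoin K s' with hB
  have hgenB : ∀ z : T ⧸ Q, z ∈ Algebra.adjoin B (Set.range ψ) := by
    intro z
    have h1 : Algebra.adjoin K (Set.range ψ) ≤
        (Algebra.adjoin B (Set.range ψ)).restrictScalars K :=
      Algebra.adjoin_le Algebra.subset_adjoin
    have : z ∈ Algebra.adjoin K (Set.range ψ) := by rw [hgen]; trivial
    exact h1 this
  -- restriction of ψ
  have hmap : ∀ a ∈ Algebra.adjoin k s, ψ a ∈ B := by
    intro a ha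
    have h1 : (Algebra.adjoin k s).map ψ ≤ B.restrictScalars k := by
      rw [AlgHom.map_adjoin]
      exact Algebra.adjoin_le (fun x hx => Algebra.subset_adjoin hx)
    exact h1 ⟨a, ha, rfl⟩
  let f : Algebra.adjoin k s →+* B :=
    (ψ.toRingHom.comp (Algebra.adjoin k s).val.toRingHom).codRestrict B.toSubring
      (fun a => hmap a.1 a.2)
  have hf : Function.Injective f := by
    intro a b hab
    have := congrArg Subtype.val hab
    exact Subtype.ext (hψ this)
  haveI halgL : Algebra.IsAlgebraic (Algebra.adjoin k s) L := by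
    have := hs.isAlgebraic
    rwa [Subtype.range_coe] at this
  have halg : ∀ l : L, IsAlgebraic B (ψ l) := by
    intro l
    have h0 : IsAlgebraic (Algebra.adjoin k s) l := Algebra.IsAlgebraic.isAlgebraic l
    exact h0.ringHom_of_comp_eq f ψ.toRingHom hf (by ext a; rfl)
  have hall := (Algebra.isAlgebraic_adjoin_iff (R := B) (s := Set.range ψ)).mpr
    (by rintro x ⟨l, rfl⟩; exact halg l)
  haveI : Algebra.IsAlgebraic B (T ⧸ Q) := ⟨fun z => hall z (hgenB z)⟩
  exact Algebra.IsAlgebraic.trdeg_le_cardinalMk K s'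

/-- **Thm B**: at a minimal prime of `L ⊗[k] K`, the transcendence degree over `K` is at least
`trdeg k L`. -/
theorem le_trdeg_quotient_of_minimal (Q : Ideal T) (hQ : Q ∈ minimalPrimes T) :
    Algebra.trdeg k L ≤ Algebra.trdeg K (T ⧸ Q) := by
  haveI : Q.IsPrime := hQ.1.1
  obtain ⟨ι, t, ht⟩ := exists_isTranscendenceBasis' k L
  rw [← ht.cardinalMk_eq_trdeg]
  let x : ι → T := fun i => algebraMap L T (t i)
  let y : ι → T ⧸ Q := fun i => Ideal.Quotient.mk Q (x i)
  suffices hy : AlgebraicIndependent K y from hy.cardinalMk_le_trdeg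
  rw [AlgebraicIndependent, injective_iff_map_eq_zero]
  intro P hP
  by_contra hP0
  have h1 : aeval y P = Ideal.Quotient.mk Q (aeval x P) := by
    have := MvPolynomial.comp_aeval_apply (R := K) x (Ideal.Quotient.mkₐ K Q) P
    exact this.symm
  rw [h1, Ideal.Quotient.eq_zero_iff_mem] at hP
  -- the iso `k[t] ⊗ K ≃ K[t]`
  let ε : MvPolynomial ι k ⊗[k] K ≃ₐ[k] MvPolynomial ι K :=
    (Algebra.TensorProduct.comm k (MvPolynomial ι k) K).trans
      ((MvPolynomial.algebraTensorAlgEquiv k K).restrictScalars k)
  have hε : ∀ (p : MvPolynomial ι k) (c : K), ε (p ⊗ₜ c) = c • MvPolynomial.map (algebraMap k K) p := by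
    intro p c
    change (MvPolynomial.algebraTensorAlgEquiv k K) (c ⊗ₜ p) = _
    rw [MvPolynomial.algebraTensorAlgEquiv_tmul]
  set P' := ε.symm P with hP'
  have hεP' : ε P' = P := ε.apply_symm_apply P
  have hP'nzd : P' ∈ nonZeroDivisors (MvPolynomial ι k ⊗[k] K) := by
    rw [mem_nonZeroDivisors_iff_right]
    intro z hz
    have := congrArg ε hz
    rw [map_mul, map_zero, hεP'] at this
    rcases mul_eq_zero.mp this with h | h
    · exact (EmbeddingLike.map_eq_zero_iff (f := ε)).mp h
    · exact absurd h hP0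
  have hN := map_mem_nonZeroDivisors t ht.1 P' hP'nzd
  set e := Algebra.IsPushout.equiv k L K T with he
  have hcomp : ∀ z : MvPolynomial ι k ⊗[k] K,
      e (Algebra.TensorProduct.map (aeval t : MvPolynomial ι k →ₐ[k] L) (AlgHom.id k K) z) =
        aeval x (ε z) := by
    intro z
    induction z using TensorProduct.induction_on with
    | zero => simp
    | tmul p c =>
      rw [Algebra.TensorProduct.map_tmul, Algebra.IsPushout.equiv_tmul, hε, map_smul,
        MvPolynomial.aeval_map_algebraMap, Algebra.smul_def, mul_comm]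
      congr 1
      exact (MvPolynomial.aeval_algebraMap_apply T t p).symm
    | add z w hz hw =>
      rw [map_add, map_add, map_add, map_add, hz, hw]
  have hNT : aeval x P ∈ nonZeroDivisors T := by
    rw [← hεP', ← hcomp]
    rw [mem_nonZeroDivisors_iff_right]
    intro w hw
    have h2 := congrArg e.symm hw
    rw [map_mul, map_zero, AlgEquiv.symm_apply_apply] at h2
    have h3 := (mem_nonZeroDivisors_iff_right.mp hN) _ h2
    exact (EmbeddingLike.map_eq_zero_iff (f := e.symm)).mp h3
  exact Set.disjoint_left.mp (Ideal.disjoint_nonZeroDivisors_of_mem_minimalPrimes hQ) hP hNT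

theorem trdeg_quotient_eq_of_minimal (Q : Ideal T) (hQ : Q ∈ minimalPrimes T) :
    haveI : Q.IsPrime := hQ.1.1
    Algebra.trdeg K (T ⧸ Q) = Algebra.trdeg k L :=
  haveI : Q.IsPrime := hQ.1.1
  le_antisymm (trdeg_quotient_le Q) (le_trdeg_quotient_of_minimal Q hQ)

end pushout

end Groth.Agent.Helper14.FieldTensor
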