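import Mathlib
import Groth.Agent.Lib.Helper14.FieldTensor
import Groth.Agent.Lib.Helper14.TrdegBridge
import Groth.Agent.Lib.Helper14.FibreGeneric
import Groth.Agent.Lib.Helper14.FibreComp

namespace Groth.Agent.Helper14.FibreBC
universe u
open AlgebraicGeometry CategoryTheory Limits Scheme.Pullback TensorProduct

section ring

theorem trdeg_congr_algebra {k K : Type*} [CommRing k] [CommRing K] (a1 a2 : Algebra k K)
    (h : @algebraMap k K _ _ a1 = @algebraMap k K _ _ a2) :
    @Algebra.trdeg k K _ _ a1 = @Algebra.trdeg k K _ _ a2 := by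
  have : a1 = a2 := Algebra.algebra_ext _ _ (fun r => congrFun (congrArg DFunLike.coe h) r)
  rw [this]

/-- transcendence degree of a field over `k` in which the `k`-algebra `B ⧸ q` is fraction-dense. -/
theorem trdeg_eq_of_fraction_field {B k K : Type u} [CommRing B] [Field k] [Field K] [Algebra k B]
    [Algebra k K] (q : Ideal B) [q.IsPrime] (b : B →ₐ[k] K) (hb : RingHom.ker b = q)
    (hfb : ∀ z : K, ∃ r s, b s ≠ 0 ∧ z * b s = b r) :
    Algebra.trdeg k K = Algebra.trdeg k (B ⧸ q) := by
  let bbar : B ⧸ q →ₐ[k] K := Ideal.Quotient.liftₐ q b (fun x hx => by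
    rw [← hb] at hx; exact hx)
  have hbbar : ∀ x, bbar (Ideal.Quotient.mk q x) = b x := fun x => rfl
  have hinj : Function.Injective bbar := by
    rw [injective_iff_map_eq_zero]
    intro z hz
    obtain ⟨x, rfl⟩ := Ideal.Quotient.mk_surjective z
    rw [hbbar] at hz
    rw [Ideal.Quotient.eq_zero_iff_mem, ← hb]
    exact hz
  letI : Algebra (B ⧸ q) K := bbar.toRingHom.toAlgebra
  haveI : IsScalarTower k (B ⧸ q) K := IsScalarTower.of_algebraMap_eq (fun r => by
    change _ = bbar (algebraMap k (B ⧸ q) r)
    rw [AlgHom.commutes])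
  haveI : FaithfulSMul (B ⧸ q) K := (faithfulSMul_iff_algebraMap_injective _ _).mpr hinj
  haveI : Algebra.IsAlgebraic (B ⧸ q) K := by
    have := TrdegBridge.isAlgebraic_of_fraction q b.toRingHom hb hfb
    convert this using 1
    apply Algebra.algebra_ext
    intro r
    obtain ⟨x, rfl⟩ := Ideal.Quotient.mk_surjective r
    rfl
  have t2 := _root_.trdeg_add_eq k (B ⧸ q) (A := K)
  have z2 : Algebra.trdeg (B ⧸ q) K = 0 := _root_.trdeg_eq_zero
  rw [z2, add_zero] at t2
  exact t2.symm

end ring

section scheme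
variable {X Y S : Scheme.{u}} {f : X ⟶ S} {g : Y ⟶ S}

/-- canonical map `R ⟶ κ(p)` for `Spec R`. -/
noncomputable def can (R : CommRingCat.{u}) (p : Spec R) : R ⟶ (Spec R).residueField p :=
  CommRingCat.ofHom (algebraMap R p.asIdeal.ResidueField) ≫ (Scheme.Spec.residueFieldIso R p).inv

lemma SpecMap_can (R : CommRingCat.{u}) (p : Spec R) :
    Spec.map (can R p) = (Spec R).fromSpecResidueField p := by
  rw [can, Spec.map_comp]
  exact Scheme.Spec.map_residueFieldIso_inv_eq_fromSpecResidueField R p

lemma fraction_can (R : CommRingCat.{u}) (p : Spec R) (z : (Spec R).residueField p) :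
    ∃ r s : R, (can R p).hom s ≠ 0 ∧ z * (can R p).hom s = (can R p).hom r := by
  set ι := (Scheme.Spec.residueFieldIso R p) with hι
  have hcan : ∀ r : R, (can R p).hom r = ι.inv.hom (algebraMap R p.asIdeal.ResidueField r) :=
    fun r => rfl
  obtain ⟨r, s, hs, hrs⟩ := FibreGeneric.fraction_residueField R p.asIdeal (ι.hom.hom z)
  have hinj : Function.Injective ι.inv.hom := RingHom.injective _
  have hz : ι.inv.hom (ι.hom.hom z) = z := by
    rw [← CommRingCat.comp_apply, Iso.hom_inv_id]; rfl
  refine ⟨r, s, ?_, ?_⟩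
  · rw [hcan]
    intro h0
    exact hs (hinj (h0.trans (map_zero _).symm))
  · rw [hcan, hcan, ← hrs, map_mul, hz]

lemma ker_can (R : CommRingCat.{u}) (p : Spec R) : RingHom.ker (can R p).hom = p.asIdeal := by
  ext r
  rw [RingHom.mem_ker]
  change (Scheme.Spec.residueFieldIso R p).inv.hom (algebraMap R p.asIdeal.ResidueField r) = 0 ↔ _
  rw [map_eq_zero_iff _ (RingHom.injective _)]
  exact Ideal.algebraMap_residueField_eq_zero

/-- transport lemma. -/
lemma exists_desc_aux (t : ↑(pullback f g)) {F : CommRingCat.{u}} (t' : ↑(pullback f g))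
    (h : t' = t) (e' : Triplet.ofPoint t' = Triplet.ofPoint t)
    (ψ : (pullback f g).residueField t' ⟶ F) :
    ∃ φ : (pullback f g).residueField t ⟶ F,
      (Triplet.tensorCongr e'.symm).hom ≫ ofPointTensor t' ≫ ψ = ofPointTensor t ≫ φ := by
  subst h
  exact ⟨ψ, by simp⟩

/-- **L1'**: the residue field of a point of the pullback embeds into the residue field of the
corresponding prime of `κ(x) ⊗ κ(y)`, compatibly. -/
lemma exists_desc (t : ↑(pullback f g)) :
    ∃ φ : (pullback f g).residueField t ⟶
        (Spec (Triplet.ofPoint t).tensor).residueField (SpecOfPoint t),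
      ofPointTensor t ≫ φ = can _ (SpecOfPoint t) := by
  set T := Triplet.ofPoint t with hT
  set p := SpecOfPoint t with hp
  have h : T.SpecTensorTo p = t := SpecTensorTo_SpecOfPoint t
  obtain ⟨φ, hφ⟩ := exists_desc_aux t (T.SpecTensorTo p) h (T.ofPoint_SpecTensorTo p)
    (Scheme.Hom.residueFieldMap T.SpecTensorTo p)
  refine ⟨φ, ?_⟩
  rw [← hφ]
  apply Spec.map_injective
  rw [SpecMap_can, ← Triplet.Spec_ofPointTensor_SpecTensorTo T p]
  simp only [Spec.map_comp, Category.assoc]

/-- fraction-density of `κ(t)` over `κ(x) ⊗ κ(y)`. -/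
lemma fraction_ofPointTensor (t : ↑(pullback f g)) (z : (pullback f g).residueField t) :
    ∃ r s : (Triplet.ofPoint t).tensor, (ofPointTensor t).hom s ≠ 0 ∧
      z * (ofPointTensor t).hom s = (ofPointTensor t).hom r := by
  obtain ⟨φ, hφ⟩ := exists_desc t
  obtain ⟨r, s, hs, hrs⟩ := fraction_can _ (SpecOfPoint t) (φ.hom z)
  have hc : ∀ r, (can _ (SpecOfPoint t)).hom r = φ.hom ((ofPointTensor t).hom r) := by
    intro r; rw [← hφ]; rfl
  have hinj : Function.Injective φ.hom := RingHom.injective _
  refine ⟨r, s, ?_, ?_⟩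
  · intro h0; apply hs; rw [hc, h0, map_zero]
  · apply hinj; rw [map_mul, ← hc, ← hc]; exact hrs

lemma ker_ofPointTensor (t : ↑(pullback f g)) :
    RingHom.ker (ofPointTensor t).hom = (SpecOfPoint t).asIdeal := rfl

/-- maximal points of the fibres of `snd` correspond to minimal primes of `κ(x) ⊗ κ(y)`. -/
lemma specOfPoint_mem_minimalPrimes (t : ↑(pullback f g))
    (hmax : ∀ t' : ↑(pullback f g), t' ⤳ t → pullback.snd f g t' = pullback.snd f g t → t' = t) :
    (SpecOfPoint t).asIdeal ∈ minimalPrimes (Triplet.ofPoint t).tensor := by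
  rw [minimalPrimes_eq_minimals]
  refine ⟨(SpecOfPoint t).isPrime, fun Q₁ hQ₁ hle => ?_⟩
  let q₁ : Spec (Triplet.ofPoint t).tensor := ⟨Q₁, hQ₁⟩
  have hsp : q₁ ⤳ SpecOfPoint t := (PrimeSpectrum.le_iff_specializes _ _).mp hle
  have h1 : (Triplet.ofPoint t).SpecTensorTo q₁ ⤳ (Triplet.ofPoint t).SpecTensorTo (SpecOfPoint t) :=
    hsp.map (Triplet.ofPoint t).SpecTensorTo.continuous
  rw [SpecTensorTo_SpecOfPoint] at h1
  have h2 : pullback.snd f g ((Triplet.ofPoint t).SpecTensorTo q₁) = pullback.snd f g t :=
    Triplet.snd_SpecTensorTo_apply _ _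
  have h3 := hmax _ h1 h2
  have h4 : carrierEquiv.symm ⟨Triplet.ofPoint t, q₁⟩ =
      carrierEquiv.symm (⟨Triplet.ofPoint t, SpecOfPoint t⟩ : Σ T : Triplet f g, Spec T.tensor) := by
    change (Triplet.ofPoint t).SpecTensorTo q₁ = (Triplet.ofPoint t).SpecTensorTo (SpecOfPoint t)
    rw [h3, SpecTensorTo_SpecOfPoint]
  have h5 := carrierEquiv.symm.injective h4
  have h6 : q₁ = SpecOfPoint t := eq_of_heq (Sigma.mk.inj h5).2
  rw [← h6]

/-- **BC1 + BC2 for the canonical pullback.** -/
theorem trdeg_snd (t : ↑(pullback f g)) :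
    @Algebra.trdeg (Y.residueField (pullback.snd f g t)) ((pullback f g).residueField t) _ _
        ((pullback.snd f g).residueFieldMap t).hom.toAlgebra ≤
      @Algebra.trdeg (S.residueField (f (pullback.fst f g t))) (X.residueField (pullback.fst f g t))
        _ _ (f.residueFieldMap (pullback.fst f g t)).hom.toAlgebra ∧
    ((∀ t' : ↑(pullback f g), t' ⤳ t → pullback.snd f g t' = pullback.snd f g t → t' = t) →
      @Algebra.trdeg (S.residueField (f (pullback.fst f g t))) (X.residueField (pullback.fst f g t))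
        _ _ (f.residueFieldMap (pullback.fst f g t)).hom.toAlgebra ≤
      @Algebra.trdeg (Y.residueField (pullback.snd f g t)) ((pullback f g).residueField t) _ _
        ((pullback.snd f g).residueFieldMap t).hom.toAlgebra) := by
  let a : S.residueField (Triplet.ofPoint t).s ⟶ X.residueField (Triplet.ofPoint t).x :=
    (S.residueFieldCongr (Triplet.ofPoint t).hx).inv ≫ f.residueFieldMap (Triplet.ofPoint t).x
  let b' : S.residueField (Triplet.ofPoint t).s ⟶ Y.residueField (Triplet.ofPoint t).y :=
    (S.residueFieldCongr (Triplet.ofPoint t).hy).inv ≫ g.residueFieldMap (Triplet.ofPoint t).y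
  letI algkL : Algebra (S.residueField (Triplet.ofPoint t).s) (X.residueField (Triplet.ofPoint t).x) :=
    a.hom.toAlgebra
  letI algkK : Algebra (S.residueField (Triplet.ofPoint t).s) (Y.residueField (Triplet.ofPoint t).y) :=
    b'.hom.toAlgebra
  letI algLB : Algebra (X.residueField (Triplet.ofPoint t).x) (Triplet.ofPoint t).tensor :=
    (Triplet.ofPoint t).tensorInl.hom.toAlgebra
  letI algKB : Algebra (Y.residueField (Triplet.ofPoint t).y) (Triplet.ofPoint t).tensor :=
    (Triplet.ofPoint t).tensorInr.hom.toAlgebra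
  letI algkB : Algebra (S.residueField (Triplet.ofPoint t).s) (Triplet.ofPoint t).tensor :=
    (a ≫ (Triplet.ofPoint t).tensorInl).hom.toAlgebra
  haveI : IsScalarTower (S.residueField (Triplet.ofPoint t).s) (X.residueField (Triplet.ofPoint t).x)
      (Triplet.ofPoint t).tensor := IsScalarTower.of_algebraMap_eq' rfl
  haveI : IsScalarTower (S.residueField (Triplet.ofPoint t).s) (Y.residueField (Triplet.ofPoint t).y)
      (Triplet.ofPoint t).tensor := IsScalarTower.of_algebraMap_eq'
        (congrArg CommRingCat.Hom.hom (pushout.condition (f := a) (g := b')))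
  haveI hpo : Algebra.IsPushout (S.residueField (Triplet.ofPoint t).s)
      (X.residueField (Triplet.ofPoint t).x) (Y.residueField (Triplet.ofPoint t).y)
      (Triplet.ofPoint t).tensor :=
    CommRingCat.isPushout_iff_isPushout.mp (IsPushout.of_hasPushout a b')
  -- the algebra structure of `κ(t)` over `κ(y)`
  letI algKt : Algebra (Y.residueField (Triplet.ofPoint t).y) ((pullback f g).residueField t) :=
    ((pullback.snd f g).residueFieldMap t).hom.toAlgebra
  let bAlg : (Triplet.ofPoint t).tensor →ₐ[Y.residueField (Triplet.ofPoint t).y]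
      (pullback f g).residueField t :=
    { (ofPointTensor t).hom with
      commutes' := fun c => by
        have h := pushout.inr_desc ((pullback.fst f g).residueFieldMap t)
          ((pullback.snd f g).residueFieldMap t) (residueFieldCongr_inv_residueFieldMap_ofPoint t)
        exact congr($(h).hom c) }
  haveI : (SpecOfPoint t).asIdeal.IsPrime := (SpecOfPoint t).isPrime
  have e1 := trdeg_eq_of_fraction_field (k := Y.residueField (Triplet.ofPoint t).y)
    (SpecOfPoint t).asIdeal bAlg (ker_ofPointTensor t) (fraction_ofPointTensor t)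
  have e2 : @Algebra.trdeg (S.residueField (f (pullback.fst f g t)))
      (X.residueField (pullback.fst f g t))
        _ _ (f.residueFieldMap (pullback.fst f g t)).hom.toAlgebra =
      Algebra.trdeg (S.residueField (Triplet.ofPoint t).s) (X.residueField (Triplet.ofPoint t).x) := by
    apply trdeg_congr_algebra
    change (f.residueFieldMap (pullback.fst f g t)).hom =
      ((S.residueFieldCongr (Eq.refl (f (pullback.fst f g t)))).inv ≫
        f.residueFieldMap (pullback.fst f g t)).hom
    rw [Scheme.residueFieldCongr_refl, Iso.refl_inv, Category.id_comp]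
  change Algebra.trdeg (Y.residueField (Triplet.ofPoint t).y) ((pullback f g).residueField t) ≤ _ ∧
    (_ → _ ≤ Algebra.trdeg (Y.residueField (Triplet.ofPoint t).y) ((pullback f g).residueField t))
  rw [e1, e2]
  refine ⟨FieldTensor.trdeg_quotient_le _, fun hmax => ?_⟩
  exact FieldTensor.le_trdeg_quotient_of_minimal _ (specOfPoint_mem_minimalPrimes t hmax)

end scheme

section square
variable {X S X' S' : Scheme.{u}} {f : X ⟶ S} {g : S' ⟶ S} {g' : X' ⟶ X} {f' : X' ⟶ S'}

theorem trdeg_point_congr {X S : Scheme.{u}} (f : X ⟶ S) {x₁ x₂ : X} (h : x₁ = x₂) :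
    @Algebra.trdeg (S.residueField (f x₁)) (X.residueField x₁) _ _
        (f.residueFieldMap x₁).hom.toAlgebra =
    @Algebra.trdeg (S.residueField (f x₂)) (X.residueField x₂) _ _
        (f.residueFieldMap x₂).hom.toAlgebra := by
  subst h; rfl

/-- **BC1 + BC2 for arbitrary cartesian squares.** -/
theorem trdeg_of_isPullback (hsq : IsPullback g' f' f g) (x' : X') :
    @Algebra.trdeg (S'.residueField (f' x')) (X'.residueField x') _ _
        (f'.residueFieldMap x').hom.toAlgebra ≤
      @Algebra.trdeg (S.residueField (f (g' x'))) (X.residueField (g' x'))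
        _ _ (f.residueFieldMap (g' x')).hom.toAlgebra ∧
    ((∀ z' : X', z' ⤳ x' → f' z' = f' x' → z' = x') →
      @Algebra.trdeg (S.residueField (f (g' x'))) (X.residueField (g' x'))
        _ _ (f.residueFieldMap (g' x')).hom.toAlgebra ≤
      @Algebra.trdeg (S'.residueField (f' x')) (X'.residueField x') _ _
        (f'.residueFieldMap x').hom.toAlgebra) := by
  set i := hsq.isoPullback with hi
  have hfst : i.hom ≫ pullback.fst f g = g' := hsq.isoPullback_hom_fst
  have hsnd : i.hom ≫ pullback.snd f g = f' := hsq.isoPullback_hom_snd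
  set t := i.hom x' with ht
  have e1 : @Algebra.trdeg (S'.residueField (f' x')) (X'.residueField x') _ _
        (f'.residueFieldMap x').hom.toAlgebra =
      @Algebra.trdeg (S'.residueField (pullback.snd f g t)) ((pullback f g).residueField t) _ _
        ((pullback.snd f g).residueFieldMap t).hom.toAlgebra := by
    rw [← FibreComp.trdeg_congr hsnd x', DimClosure.trdeg_comp i.hom (pullback.snd f g) x',
      FibreComp.trdeg_of_surjectiveOnStalks i.hom x', add_zero]
  have hx : g' x' = pullback.fst f g t := by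
    rw [ht, ← Scheme.Hom.comp_apply, hfst]
  have e2 := trdeg_point_congr f hx
  rw [e1, e2]
  obtain ⟨h1, h2⟩ := trdeg_snd (f := f) (g := g) t
  refine ⟨h1, fun hmax => h2 ?_⟩
  intro t' ht' hst'
  have h3 : i.inv t' ⤳ x' := by
    have := ht'.map i.inv.continuous
    rwa [ht, ← Scheme.Hom.comp_apply, Iso.hom_inv_id] at this
  have h4 : f' (i.inv t') = f' x' := by
    rw [← hsnd, Scheme.Hom.comp_apply, Scheme.Hom.comp_apply, ← Scheme.Hom.comp_apply i.inv,
      Iso.inv_hom_id]
    exact hst'
  have h5 := hmax _ h3 h4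
  rw [ht, ← h5, ← Scheme.Hom.comp_apply, Iso.inv_hom_id]
  rfl

/-- **BC3**: lifting generizations within fibres. -/
theorem exists_generization_lift (hsq : IsPullback g' f' f g) (x' : X') (z : X)
    (hz : z ⤳ g' x') (hfz : f z = f (g' x')) :
    ∃ z' : X', z' ⤳ x' ∧ g' z' = z ∧ f' z' = f' x' := by
  set y' := f' x' with hy'
  let h : f'.fiber y' ⟶ f.fiber (g y') :=
    pullback.map _ _ _ _ g' (Spec.map (g.residueFieldMap y')) g hsq.w.symm (by simp)
  have sqh : IsPullback h (f'.fiberToSpecResidueField y') (f.fiberToSpecResidueField (g y'))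
      (Spec.map (g.residueFieldMap y')) := isPullback_fiberToSpecResidueField_of_isPullback hsq y'
  have hcomp : h ≫ f.fiberι (g y') = f'.fiberι y' ≫ g' := pullback.lift_fst _ _ _
  haveI hflat : Flat h := by
    have h0 : Flat (Spec.map (g.residueFieldMap y')) := by
      rw [Flat.SpecMap_iff]
      letI := (g.residueFieldMap y').hom.toAlgebra
      exact RingHom.flat_algebraMap_iff.mpr inferInstance
    exact MorphismProperty.of_isPullback sqh.flip h0
  have hgen : GeneralizingMap h := Flat.generalizingMap h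
  let a : f'.fiber y' := f'.asFiber x'
  have ha : f.fiberι (g y') (h a) = g' x' := by
    rw [← Scheme.Hom.comp_apply, hcomp, Scheme.Hom.comp_apply]
    exact congrArg g' (f'.fiberι_asFiber x')
  have hw : f (g' x') = g y' := by
    rw [← Scheme.Hom.comp_apply, hsq.w, Scheme.Hom.comp_apply]
  have hzmem : z ∈ f ⁻¹' {g y'} := hfz.trans hw
  let b : f.fiber (g y') := (f.fiberHomeo (g y')).symm ⟨z, hzmem⟩
  have hb : f.fiberι (g y') b = z := f.fiberι_fiberHomeo_symm _ _
  have hbspec : b ⤳ h a := by
    have h3 : h a = (f.fiberHomeo (g y')).symm ⟨g' x', hw⟩ := by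
      apply (f.fiberHomeo (g y')).injective
      rw [Homeomorph.apply_symm_apply]
      exact Subtype.ext ha
    rw [h3]
    apply Specializes.map _ (f.fiberHomeo (g y')).symm.continuous
    rw [subtype_specializes_iff]
    exact hz
  obtain ⟨a', ha', haa'⟩ := hgen hbspec
  refine ⟨f'.fiberι y' a', ?_, ?_, ?_⟩
  · have := ha'.map (f'.fiberι y').continuous
    rwa [f'.fiberι_asFiber x'] at this
  · rw [← Scheme.Hom.comp_apply, ← hcomp, Scheme.Hom.comp_apply, haa', hb]
  · exact (f'.fiberHomeo y' a').2

end square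

end Groth.Agent.Helper14.FibreBC
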