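import Mathlib
import Groth.Agent.Lib.Helper14.EquidimAt
import Groth.Agent.Lib.Helper9.TopDim

/-!
# Maximal points of fibres, dimension via irreducible components
-/

namespace Groth.Agent.Helper14.FibreMax
universe u
open TopologicalSpace AlgebraicGeometry CategoryTheory

/-- the dimension of a space is bounded by the dimensions of its irreducible components. -/
theorem topDim_le_of_irreducibleComponents {T : Type*} [TopologicalSpace T] (d : WithBot ℕ∞)
    (h : ∀ Z ∈ irreducibleComponents T, topologicalKrullDim ↥Z ≤ d) :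
    topologicalKrullDim T ≤ d := by
  apply Groth.Agent.Helper9.TopDim.dim_le_of_forall_height
  intro Z
  obtain ⟨C, hC, hZC⟩ := exists_mem_irreducibleComponents_subset_of_isIrreducible (Z : Set T)
    Z.isIrreducible
  exact (Groth.Agent.Helper9.TopDim.height_le_dim_of_closed C
    (isClosed_of_mem_irreducibleComponents C hC) Z hZC).trans (h C hC)

variable {X Y : Scheme.{u}} (f : X ⟶ Y) [LocallyOfFiniteType f]

/-- the local dimension of the fibre at a maximal point of the fibre. -/
theorem fibreDimAt_eq_of_maximal (z : X) (hmax : ∀ x₁ : X, f x₁ = f z → x₁ ⤳ z → x₁ = z) (n : ℕ)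
    (hn : @Algebra.trdeg (Y.residueField (f z)) (X.residueField z) _ _
      (f.residueFieldMap z).hom.toAlgebra = n) :
    FlatMor.fibreDimAt f z = (n : WithBot ℕ∞) := by
  obtain ⟨z₀, n₀, hz₀z, hfz₀, -, hn₀, hfd⟩ := EquidimAt.exists_maximal_trdeg_eq_fibreDimAt f z
  have := hmax z₀ hfz₀ hz₀z
  subst this
  rw [hfd]
  have : (n₀ : Cardinal.{u}) = n := hn₀.symm.trans hn
  have : n₀ = n := by exact_mod_cast this
  rw [this]

/-- points of a fibre `f.fiber y` which are maximal give maximal points of the fibre in `X`. -/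
theorem maximal_fiberι (y : Y) (ζ : f.fiber y) (hζ : ∀ ζ' : f.fiber y, ζ' ⤳ ζ → ζ' = ζ) :
    ∀ x₁ : X, f x₁ = f (f.fiberι y ζ) → x₁ ⤳ f.fiberι y ζ → x₁ = f.fiberι y ζ := by
  intro x₁ hfx₁ hx₁
  have hfz : f (f.fiberι y ζ) = y := (f.fiberHomeo y ζ).2
  have hmem : x₁ ∈ f ⁻¹' {y} := hfx₁.trans hfz
  have hspec : (f.fiberHomeo y).symm ⟨x₁, hmem⟩ ⤳ ζ := by
    have h3 : ζ = (f.fiberHomeo y).symm ⟨f.fiberι y ζ, hfz⟩ := by
      apply (f.fiberHomeo y).injective
      rw [Homeomorph.apply_symm_apply]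
      exact Subtype.ext rfl
    rw [h3]
    apply Specializes.map _ (f.fiberHomeo y).symm.continuous
    rw [subtype_specializes_iff]
    exact hx₁
  have h4 := congrArg (f.fiberι y) (hζ _ hspec)
  rw [f.fiberι_fiberHomeo_symm] at h4
  exact h4

/-- maximal points of the fibre in `X` give maximal points of `f.fiber y`. -/
theorem maximal_of_fiberι (y : Y) (ζ : f.fiber y)
    (h : ∀ x₁ : X, f x₁ = f (f.fiberι y ζ) → x₁ ⤳ f.fiberι y ζ → x₁ = f.fiberι y ζ) :
    ∀ ζ' : f.fiber y, ζ' ⤳ ζ → ζ' = ζ := by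
  intro ζ' hζ'
  have h1 := hζ'.map (f.fiberι y).continuous
  have h2 : f (f.fiberι y ζ') = f (f.fiberι y ζ) :=
    ((f.fiberHomeo y ζ').2).trans ((f.fiberHomeo y ζ).2).symm
  exact (f.fiberι y).isEmbedding.injective (h _ h2 h1)

/-- the irreducible components of a fibre are the closures of its maximal points, and their
dimensions are transcendence degrees. -/
theorem exists_of_mem_irreducibleComponents (y : Y) (Z : Set (f.fiber y))
    (hZ : Z ∈ irreducibleComponents (f.fiber y)) :
    ∃ (z : X) (n : ℕ), f z = y ∧ (∀ x₁ : X, f x₁ = f z → x₁ ⤳ z → x₁ = z) ∧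
      @Algebra.trdeg (Y.residueField (f z)) (X.residueField z) _ _
        (f.residueFieldMap z).hom.toAlgebra = n ∧
      topologicalKrullDim ↥Z = (n : WithBot ℕ∞) := by
  obtain ⟨ζ, hζcl, hζmax⟩ := FibreComp.exists_maximal_of_mem_irreducibleComponents Z hZ
  obtain ⟨n, hn⟩ := ResFieldBridge.exists_nat_trdeg_residueField f (f.fiberι y ζ)
  have hmax := maximal_fiberι f y ζ hζmax
  refine ⟨f.fiberι y ζ, n, (f.fiberHomeo y ζ).2, hmax, hn, ?_⟩
  rw [← hζcl, GenericEquidim.dim_closure_maximal f y ζ hζmax,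
    fibreDimAt_eq_of_maximal f _ hmax n hn]

/-- conversely a maximal point of the fibre over `y` gives an irreducible component. -/
theorem exists_irreducibleComponent_of_maximal (y : Y) (z : X) (hfz : f z = y)
    (hmax : ∀ x₁ : X, f x₁ = f z → x₁ ⤳ z → x₁ = z) (n : ℕ)
    (hn : @Algebra.trdeg (Y.residueField (f z)) (X.residueField z) _ _
      (f.residueFieldMap z).hom.toAlgebra = n) :
    ∃ Z ∈ irreducibleComponents (f.fiber y), topologicalKrullDim ↥Z = (n : WithBot ℕ∞) := by
  subst hfz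
  have hι : f.fiberι (f z) (f.asFiber z) = z := f.fiberι_asFiber z
  have hζmax : ∀ ζ' : f.fiber (f z), ζ' ⤳ f.asFiber z → ζ' = f.asFiber z := by
    apply maximal_of_fiberι
    rw [hι]
    exact hmax
  refine ⟨closure {f.asFiber z},
    FibreClosure.closure_mem_irreducibleComponents_of_maximal _ hζmax, ?_⟩
  exact EquidimAt.topDim_closure_asFiber f z n hn

end Groth.Agent.Helper14.FibreMax
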