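import Mathlib
import Groth.Prelude.Def_Cyc
import Groth.Prelude.Def_Flat
import Groth.Agent.Lib.Helper14.FibreBC
import Groth.Agent.Lib.Helper14.EquidimAt
import Groth.Agent.Lib.Helper14.FibreMax

/-!
# Fibre dimensions are invariant under base change
-/

namespace Groth.Agent.Helper14.FibreDimBC
universe u
open AlgebraicGeometry CategoryTheory Limits

variable {X S X' S' : Scheme.{u}} {f : X ⟶ S} {g : S' ⟶ S} {g' : X' ⟶ X} {f' : X' ⟶ S'}

/-- maximal points of the fibres of `f'` map to maximal points of the fibres of `f`. -/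
theorem maximal_map (hsq : IsPullback g' f' f g) (z' : X')
    (hmax : ∀ w' : X', f' w' = f' z' → w' ⤳ z' → w' = z') :
    ∀ w : X, f w = f (g' z') → w ⤳ g' z' → w = g' z' := by
  intro w hfw hw
  obtain ⟨w', hw'z', hgw', hfw'⟩ := FibreBC.exists_generization_lift hsq z' w hw hfw
  have := hmax w' hfw' hw'z'
  rw [← hgw', this]

theorem locallyOfFiniteType_of_isPullback [LocallyOfFiniteType f] (hsq : IsPullback g' f' f g) :
    LocallyOfFiniteType f' :=
  MorphismProperty.of_isPullback hsq ‹_›

/-- the transcendence degree at a maximal point of a fibre is preserved. -/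
theorem trdeg_eq_of_maximal (hsq : IsPullback g' f' f g) (z' : X')
    (hmax : ∀ w' : X', f' w' = f' z' → w' ⤳ z' → w' = z') :
    @Algebra.trdeg (S'.residueField (f' z')) (X'.residueField z') _ _
        (f'.residueFieldMap z').hom.toAlgebra =
      @Algebra.trdeg (S.residueField (f (g' z'))) (X.residueField (g' z'))
        _ _ (f.residueFieldMap (g' z')).hom.toAlgebra := by
  obtain ⟨h1, h2⟩ := FibreBC.trdeg_of_isPullback hsq z'
  exact le_antisymm h1 (h2 (fun w' hw' hfw' => hmax w' hfw' hw'))

/-- **Invariance of the fibre dimension under base change** (EGA IV 4.1.4 / 13.1). -/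
theorem fibreDimAt_eq [LocallyOfFiniteType f] (hsq : IsPullback g' f' f g) (x' : X') :
    FlatMor.fibreDimAt f' x' = FlatMor.fibreDimAt f (g' x') := by
  haveI : LocallyOfFiniteType f' := locallyOfFiniteType_of_isPullback hsq
  apply le_antisymm
  · obtain ⟨z', n', hz'x', hfz', hmax', hn', hdim'⟩ :=
      EquidimAt.exists_maximal_trdeg_eq_fibreDimAt f' x'
    obtain ⟨m, hm⟩ := ResFieldBridge.exists_nat_trdeg_residueField f (g' z')
    have h1 := (FibreBC.trdeg_of_isPullback hsq z').1
    rw [hn', hm] at h1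
    have h2 : n' ≤ m := by exact_mod_cast h1
    have h3 := EquidimAt.trdeg_le_fibreDimAt f (g' x') (g' z') (hz'x'.map g'.continuous) m hm
    rw [hdim']
    refine le_trans ?_ h3
    exact_mod_cast h2
  · obtain ⟨z, n, hzx, hfz, hmax, hn, hdim⟩ :=
      EquidimAt.exists_maximal_trdeg_eq_fibreDimAt f (g' x')
    obtain ⟨z', hz'x', hgz', hfz'⟩ := FibreBC.exists_generization_lift hsq x' z hzx hfz
    obtain ⟨z'', n'', hz''z', hfz'', hmax'', hn'', -⟩ :=
      EquidimAt.exists_maximal_trdeg_eq_fibreDimAt f' z'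
    have hw : ∀ w' : X', f (g' w') = g (f' w') := by
      intro w'
      rw [← Scheme.Hom.comp_apply, hsq.w, Scheme.Hom.comp_apply]
    have h1 : g' z'' ⤳ z := by
      rw [← hgz']
      exact hz''z'.map g'.continuous
    have h2 : f (g' z'') = f z := by
      rw [hw, hfz'', ← hw, hgz']
    have h3 : g' z'' = z := hmax _ h2 h1
    have h4 := trdeg_eq_of_maximal hsq z'' hmax''
    rw [hn'', FibreBC.trdeg_point_congr f h3, hn] at h4
    have h5 : n'' = n := by exact_mod_cast h4
    have h6 := EquidimAt.trdeg_le_fibreDimAt f' x' z'' (hz''z'.trans hz'x') n'' hn''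
    rw [hdim, ← h5]
    exact h6

/-- relative dimension `d` is preserved by base change. -/
theorem hasRelDim [LocallyOfFiniteType f] (hsq : IsPullback g' f' f g) (d : ℕ)
    (h : Cyc.HasRelDim f d) : Cyc.HasRelDim f' d := by
  haveI : LocallyOfFiniteType f' := locallyOfFiniteType_of_isPullback hsq
  intro y' T hT
  obtain ⟨z', n, hfz', hmax', hn, hdimT⟩ := FibreMax.exists_of_mem_irreducibleComponents f' y' T hT
  have h1 := trdeg_eq_of_maximal hsq z' hmax'
  rw [hn] at h1
  have hmax := maximal_map hsq z' hmax'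
  obtain ⟨Z, hZ, hdimZ⟩ := FibreMax.exists_irreducibleComponent_of_maximal f (f (g' z')) (g' z') rfl
    hmax n h1.symm
  rw [hdimT, ← hdimZ]
  exact h _ Z hZ

end Groth.Agent.Helper14.FibreDimBC
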