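import Mathlib
import Groth.Agent.Lib.Helper14.FibreMax

/-!
# Local dimension of `T ∩ f⁻¹(y)` for a closed subset `T`
-/

namespace Groth.Agent.Helper14.ClosedFibreDim
universe u
open TopologicalSpace AlgebraicGeometry CategoryTheory Topology

variable {X Y : Scheme.{u}} (f : X ⟶ Y)

/-- the local dimension of `T ∩ f⁻¹(y)` is the local fibre dimension of a closed
subscheme on `T`. -/
theorem localDim_inter_fibre_eq' (I : X.IdealSheafData) (T : Set X)
    (hrange : Set.range I.subschemeι = T) (x' : ↥I.subscheme) (y : Y)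
    (hmem : I.subschemeι x' ∈ T ∩ f ⁻¹' {y}) :
    FlatMor.localDim ↥(T ∩ f ⁻¹' {y}) ⟨I.subschemeι x', hmem⟩ =
    FlatMor.fibreDimAt (I.subschemeι ≫ f) x' := by
  set ι := I.subschemeι with hι
  have hy : f (ι x') = y := hmem.2
  subst hy
  set g := ι ≫ f with hg
  have hmemj : ∀ w : g.fiber (g x'), ι (g.fiberι (g x') w) ∈ T ∩ f ⁻¹' {f (ι x')} := by
    intro w
    refine ⟨?_, ?_⟩
    · rw [← hrange]; exact ⟨_, rfl⟩
    · exact (g.fiberHomeo (g x') w).2
  let j : g.fiber (g x') → ↥(T ∩ f ⁻¹' {f (ι x')}) :=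
    fun w => ⟨ι (g.fiberι (g x') w), hmemj w⟩
  have hemb : IsEmbedding j := by
    have h1 : IsEmbedding (fun w : g.fiber (g x') => ι (g.fiberι (g x') w)) :=
      ι.isEmbedding.comp (g.fiberι (g x')).isEmbedding
    exact h1.codRestrict _ hmemj
  have hsurj : Function.Surjective j := by
    rintro ⟨t, htT, hft⟩
    rw [← hrange] at htT
    obtain ⟨t', rfl⟩ := htT
    have h1 : t' ∈ g ⁻¹' {g x'} := hft
    rw [← g.range_fiberι (g x')] at h1
    obtain ⟨w, rfl⟩ := h1
    exact ⟨w, Subtype.ext rfl⟩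
  have hopen := hemb.isOpenEmbedding_of_surjective hsurj
  have h2 := FibreChart.localDim_openEmbedding j hopen (g.asFiber x')
  have h3 : j (g.asFiber x') = ⟨ι x', hmem⟩ := by
    apply Subtype.ext
    change ι (g.fiberι (g x') (g.asFiber x')) = ι x'
    rw [g.fiberι_asFiber]
  rw [h3] at h2
  rw [h2]
  rfl

/-- the closure of a point inside its fibre. -/
theorem closure_inter_fibre_eq (ξ : X) :
    closure ({ξ} : Set X) ∩ f ⁻¹' {f ξ} = f.fiberι (f ξ) '' closure {f.asFiber ξ} := by
  have hemb := (f.fiberι (f ξ)).isEmbedding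
  have hι : f.fiberι (f ξ) (f.asFiber ξ) = ξ := f.fiberι_asFiber ξ
  rw [hemb.isInducing.closure_eq_preimage_closure_image, Set.image_singleton, hι,
    Set.image_preimage_eq_inter_range, f.range_fiberι]

theorem isIrreducible_closure_inter_fibre (ξ : X) :
    IsIrreducible (closure ({ξ} : Set X) ∩ f ⁻¹' {f ξ}) := by
  rw [closure_inter_fibre_eq]
  exact isIrreducible_singleton.closure.image _ (f.fiberι (f ξ)).continuous.continuousOn

theorem range_subschemeι_vanishingIdeal (T : Closeds X) :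
    Set.range (Scheme.IdealSheafData.vanishingIdeal T).subschemeι = (T : Set X) := by
  rw [Scheme.IdealSheafData.range_subschemeι]
  exact Scheme.IdealSheafData.coe_support_vanishingIdeal _

/-- the local dimension of `T ∩ f⁻¹(y)` is the local fibre dimension of the reduced closed
subscheme on `T`. -/
theorem localDim_inter_fibre_eq (T : Closeds X)
    (x' : ↥(Scheme.IdealSheafData.vanishingIdeal T).subscheme) (y : Y)
    (hmem : (Scheme.IdealSheafData.vanishingIdeal T).subschemeι x' ∈ (T : Set X) ∩ f ⁻¹' {y}) :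
    FlatMor.localDim ↥((T : Set X) ∩ f ⁻¹' {y})
      ⟨(Scheme.IdealSheafData.vanishingIdeal T).subschemeι x', hmem⟩ =
    FlatMor.fibreDimAt ((Scheme.IdealSheafData.vanishingIdeal T).subschemeι ≫ f) x' :=
  localDim_inter_fibre_eq' f _ _ (range_subschemeι_vanishingIdeal T) x' y hmem

variable [LocallyOfFiniteType f]

/-- residue field extensions on a closed subscheme. -/
theorem trdeg_subschemeι (I : X.IdealSheafData) (z' : ↥I.subscheme) :
    @Algebra.trdeg (Y.residueField ((I.subschemeι ≫ f) z')) (I.subscheme.residueField z') _ _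
      ((I.subschemeι ≫ f).residueFieldMap z').hom.toAlgebra =
    @Algebra.trdeg (Y.residueField (f (I.subschemeι z'))) (X.residueField (I.subschemeι z')) _ _
      (f.residueFieldMap (I.subschemeι z')).hom.toAlgebra := by
  rw [DimClosure.trdeg_comp I.subschemeι f z', FibreComp.trdeg_of_surjectiveOnStalks I.subschemeι z',
    add_zero]

/-- the local dimension of `T ∩ f⁻¹(f x)` at `x` is attained by a point of `T` in the fibre,
generizing `x` and maximal among such points. -/
theorem exists_maximal_trdeg_eq_localDim (T : Closeds X) (x : X) (hx : x ∈ (T : Set X) ∩ f ⁻¹' {f x}) :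
    ∃ (z : X) (n : ℕ), z ∈ (T : Set X) ∧ z ⤳ x ∧ f z = f x ∧
      (∀ z' : X, z' ∈ (T : Set X) → f z' = f z → z' ⤳ z → z' = z) ∧
      @Algebra.trdeg (Y.residueField (f z)) (X.residueField z) _ _
        (f.residueFieldMap z).hom.toAlgebra = n ∧
      FlatMor.localDim ↥((T : Set X) ∩ f ⁻¹' {f x}) ⟨x, hx⟩ = (n : WithBot ℕ∞) := by
  have hrange := range_subschemeι_vanishingIdeal T
  set ι := (Scheme.IdealSheafData.vanishingIdeal T).subschemeι with hι
  obtain ⟨x', hx'⟩ : x ∈ Set.range ι := by rw [hrange]; exact hx.1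
  subst hx'
  rw [localDim_inter_fibre_eq f T x' (f (ι x')) hx]
  obtain ⟨z', n, hz'x', hgz', hz'max, hn, hfd⟩ :=
    EquidimAt.exists_maximal_trdeg_eq_fibreDimAt (ι ≫ f) x'
  refine ⟨ι z', n, ?_, hz'x'.map ι.continuous, hgz', ?_, ?_, hfd⟩
  · rw [← hrange]; exact ⟨_, rfl⟩
  · intro w hwT hfw hwz
    rw [← hrange] at hwT
    obtain ⟨w', rfl⟩ := hwT
    have h1 : w' ⤳ z' := ι.isEmbedding.isInducing.specializes_iff.mp hwz
    rw [hz'max w' hfw h1]
  · rw [← trdeg_subschemeι f _ z']
    exact hn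

/-- transcendence degrees of points of `T` in the fibre generizing `x` are bounded by the local
dimension of `T ∩ f⁻¹(f x)`. -/
theorem trdeg_le_localDim (T : Closeds X) (x : X) (hx : x ∈ (T : Set X) ∩ f ⁻¹' {f x})
    (z : X) (hzT : z ∈ (T : Set X)) (hzx : z ⤳ x) (n : ℕ)
    (hn : @Algebra.trdeg (Y.residueField (f z)) (X.residueField z) _ _
        (f.residueFieldMap z).hom.toAlgebra = n) :
    (n : WithBot ℕ∞) ≤ FlatMor.localDim ↥((T : Set X) ∩ f ⁻¹' {f x}) ⟨x, hx⟩ := by
  have hrange := range_subschemeι_vanishingIdeal T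
  set ι := (Scheme.IdealSheafData.vanishingIdeal T).subschemeι with hι
  obtain ⟨x', hx'⟩ : x ∈ Set.range ι := by rw [hrange]; exact hx.1
  subst hx'
  rw [← hrange] at hzT
  obtain ⟨z', rfl⟩ := hzT
  rw [localDim_inter_fibre_eq f T x' (f (ι x')) hx]
  have h1 : z' ⤳ x' := ι.isEmbedding.isInducing.specializes_iff.mp hzx
  apply EquidimAt.trdeg_le_fibreDimAt (ι ≫ f) x' z' h1 n
  rw [trdeg_subschemeι f _ z']
  exact hn

end Groth.Agent.Helper14.ClosedFibreDim
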