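import Mathlib
import Groth.Prelude.Def_Flat
import Groth.Agent.S0402
import Groth.Agent.Lib.Helper14.FibreChart
import Groth.Agent.Lib.Helper14.EquidimAt
import Groth.Agent.Lib.Helper14.FibreDimBC
import Groth.Agent.Lib.Helper9.TopDim
import Groth.Agent.Lib.Helper16.Sch.FTDim2

/-!
# The dimension of the fibres is generically constant; invariance under field extension
-/

set_option autoImplicit false
universe u
open AlgebraicGeometry CategoryTheory CategoryTheory.Limits TopologicalSpace Topology

namespace Groth.Agent.Helper14.ConsDim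

variable {X Y : Scheme.{u}}

theorem dim_fiber_eq_iSup (f : X ⟶ Y) (y : Y) :
    topologicalKrullDim ↥(f.fiber y) = ⨆ x : {x : X // f x = y}, FlatMor.fibreDimAt f x.1 := by
  rw [Groth.Agent.Helper9.TopDim.dim_eq_iSup_localDim]
  apply le_antisymm
  · refine iSup_le fun z => ?_
    have hz : f (f.fiberι y z) = y := (f.fiberHomeo y z).2
    have h1 := FibreChart.localDim_asFiber_congr f (f.fiberι y z) y hz
    have h2 : (f.fiberHomeo y).symm ⟨f.fiberι y z, hz⟩ = z := by
      apply (f.fiberHomeo y).injective
      rw [Homeomorph.apply_symm_apply]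
      rfl
    rw [h2] at h1
    rw [← h1]
    exact le_iSup (fun x : {x : X // f x = y} => FlatMor.fibreDimAt f x.1) ⟨_, hz⟩
  · refine iSup_le fun x => ?_
    rw [FibreChart.localDim_asFiber_congr f x.1 y x.2]
    exact le_iSup (fun z => FlatMor.localDim ↥(f.fiber y) z) _

theorem exists_nat_fibreDimAt (f : X ⟶ Y) [LocallyOfFiniteType f] (x : X) :
    ∃ n : ℕ, FlatMor.fibreDimAt f x = n := by
  obtain ⟨z, n, -, -, -, -, h⟩ := EquidimAt.exists_maximal_trdeg_eq_fibreDimAt f x
  exact ⟨n, h⟩

/-- dimension of the fibre in terms of the pointwise fibre dimensions -/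
theorem le_dim_fiber_iff (f : X ⟶ Y) [LocallyOfFiniteType f] (y : Y) (n : ℕ) :
    (n : WithBot ℕ∞) ≤ topologicalKrullDim ↥(f.fiber y) ↔
      ∃ x : X, f x = y ∧ (n : WithBot ℕ∞) ≤ FlatMor.fibreDimAt f x := by
  rw [dim_fiber_eq_iSup]
  constructor
  · intro h
    by_contra hcon
    push Not at hcon
    rcases Nat.eq_zero_or_pos n with rfl | hn
    · -- some point exists since the sup is not ⊥
      by_cases hne : Nonempty {x : X // f x = y}
      · obtain ⟨x⟩ := hne
        obtain ⟨m, hm⟩ := exists_nat_fibreDimAt f x.1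
        have := hcon x.1 x.2
        rw [hm] at this
        exact absurd this (by simp)
      · rw [not_nonempty_iff] at hne
        rw [iSup_of_empty] at h
        exact absurd h (by simp)
    · have hle : (⨆ x : {x : X // f x = y}, FlatMor.fibreDimAt f x.1) ≤ ((n - 1 : ℕ) : WithBot ℕ∞) := by
        refine iSup_le fun x => ?_
        obtain ⟨m, hm⟩ := exists_nat_fibreDimAt f x.1
        have := hcon x.1 x.2
        rw [hm] at this ⊢
        have h3 : m < n := by exact_mod_cast this
        have h4 : m ≤ n - 1 := by omega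
        exact_mod_cast h4
      have := h.trans hle
      have h5 : n ≤ n - 1 := by exact_mod_cast this
      omega
  · rintro ⟨x, hx, hn⟩
    exact hn.trans (le_iSup (fun x : {x : X // f x = y} => FlatMor.fibreDimAt f x.1) ⟨x, hx⟩)

/-- elements of `WithBot ℕ∞` are determined by the natural numbers below them. -/
theorem withBot_enat_ext (a b : WithBot ℕ∞) (h : ∀ n : ℕ, (n : WithBot ℕ∞) ≤ a ↔ (n : WithBot ℕ∞) ≤ b) :
    a = b := by
  have key : ∀ a b : WithBot ℕ∞, (∀ n : ℕ, (n : WithBot ℕ∞) ≤ a → (n : WithBot ℕ∞) ≤ b) → a ≤ b := by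
    intro a b h
    induction a using WithBot.recBotCoe with
    | bot => exact bot_le
    | coe a =>
      induction a using ENat.recTopCoe with
      | top =>
        have hb : ∀ n : ℕ, (n : WithBot ℕ∞) ≤ b := fun n => h n (by exact_mod_cast le_top)
        induction b using WithBot.recBotCoe with
        | bot => exact absurd (hb 0) (by simp)
        | coe b =>
          have : ∀ n : ℕ, (n : ℕ∞) ≤ b := fun n => by exact_mod_cast hb n
          have hb' : b = ⊤ := ENat.eq_top_iff_forall_ge.mpr this
          rw [hb']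
      | coe a => exact h a le_rfl
  exact le_antisymm (key a b fun n => (h n).mp) (key b a fun n => (h n).mpr)

/-- fibre dimensions are bounded on a quasi-compact source. -/
theorem exists_bound (f : X ⟶ Y) [LocallyOfFiniteType f] [CompactSpace X] :
    ∃ N : ℕ, ∀ x : X, FlatMor.fibreDimAt f x ≤ N := by
  have h := isCompact_univ.elim_directed_cover
    (fun n : ℕ => {x : X | FlatMor.fibreDimAt f x ≤ n}) (fun n => Groth.Agent.S0402.result f n)
    (by
      intro x _
      obtain ⟨n, hn⟩ := exists_nat_fibreDimAt f x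
      exact Set.mem_iUnion.mpr ⟨n, by change FlatMor.fibreDimAt f x ≤ n; rw [hn]⟩)
    (by
      apply Monotone.directed_le
      intro a b hab x hx
      have hx' : FlatMor.fibreDimAt f x ≤ (a : WithBot ℕ∞) := hx
      exact le_trans hx' (by exact_mod_cast hab))
  obtain ⟨N, hN⟩ := h
  exact ⟨N, fun x => hN (Set.mem_univ x)⟩

open Groth.Agent.Helper16 in
/-- **generic constancy of the dimension of the fibres.** -/
theorem exists_open_dim_fiber_eq {S : Scheme.{u}} (f : X ⟶ S) [IrreducibleSpace S] [IsNoetherian S]
    [LocallyOfFiniteType f] [QuasiCompact f] :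
    ∃ U : Set S, IsOpen U ∧ genericPoint S ∈ U ∧ ∀ s ∈ U,
      topologicalKrullDim ↥(f.fiber s) = topologicalKrullDim ↥(f.fiber (genericPoint S)) := by
  classical
  haveI : IsLocallyNoetherian X := LocallyOfFiniteType.isLocallyNoetherian f
  haveI : CompactSpace X := QuasiCompact.compactSpace_of_compactSpace f
  haveI : IsNoetherian X := {}
  obtain ⟨N, hN⟩ := exists_bound f
  let E : ℕ → Set S := fun n => f '' {x : X | (n : WithBot ℕ∞) ≤ FlatMor.fibreDimAt f x}
  have hEmem : ∀ (n : ℕ) (s : S), s ∈ E n ↔ (n : WithBot ℕ∞) ≤ topologicalKrullDim ↥(f.fiber s) := by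
    intro n s
    rw [le_dim_fiber_iff]
    constructor
    · rintro ⟨x, hx, rfl⟩
      exact ⟨x, rfl, hx⟩
    · rintro ⟨x, hx, hn⟩
      exact ⟨x, hn, hx⟩
  have hEc : ∀ n, IsConstructible (E n) := by
    intro n
    apply f.isConstructible_image
    apply Groth.Agent.Helper4.Constr.isConstructible_of_isClosed
    rcases Nat.eq_zero_or_pos n with rfl | hn
    · convert isClosed_univ
      ext x
      obtain ⟨m, hm⟩ := exists_nat_fibreDimAt f x
      simp only [Set.mem_setOf_eq, Set.mem_univ, iff_true, hm]
      exact_mod_cast Nat.zero_le m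
    · have : {x : X | (n : WithBot ℕ∞) ≤ FlatMor.fibreDimAt f x} =
          {x : X | FlatMor.fibreDimAt f x ≤ ((n - 1 : ℕ) : WithBot ℕ∞)}ᶜ := by
        ext x
        obtain ⟨m, hm⟩ := exists_nat_fibreDimAt f x
        simp only [Set.mem_setOf_eq, Set.mem_compl_iff, hm]
        constructor
        · intro h1 h2
          have h3 : n ≤ m := by exact_mod_cast h1
          have h4 : m ≤ n - 1 := by exact_mod_cast h2
          omega
        · intro h1
          have h3 : ¬ m ≤ n - 1 := fun h => h1 (by exact_mod_cast h)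
          have h4 : n ≤ m := by omega
          exact_mod_cast h4
      rw [this]
      exact (Groth.Agent.S0402.result f (n - 1)).isClosed_compl
  let η := genericPoint S
  let G : Set S := ⋂ n ∈ (Finset.range (N + 2) : Set ℕ), if η ∈ E n then E n else (E n)ᶜ
  have hGc : IsConstructible G := by
    apply IsConstructible.biInter (Finset.finite_toSet _)
    intro n _
    split_ifs
    · exact hEc n
    · exact (hEc n).compl
  have hηG : η ∈ G := by
    simp only [G, Set.mem_iInter]
    intro n _
    split_ifs with h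
    · exact h
    · exact h
  obtain ⟨U, hU, hηU, hsub⟩ := FTDim.exists_open_of_mem_constructible η hGc hηG
  have hcl : closure ({η} : Set S) = Set.univ := (genericPoint_spec S).def
  rw [hcl, Set.inter_univ] at hsub
  refine ⟨U, hU, hηU, fun s hs => ?_⟩
  apply withBot_enat_ext
  intro n
  rw [← hEmem n s, ← hEmem n η]
  by_cases hn : n < N + 2
  · have hsG := hsub hs
    simp only [G, Set.mem_iInter] at hsG
    have h1 := hsG n (by simpa using hn)
    split_ifs at h1 with h
    · exact ⟨fun _ => h, fun _ => h1⟩
    · exact ⟨fun h2 => absurd h2 h1, fun h2 => absurd h2 h⟩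
  · -- both sides are false
    have hfalse : ∀ t : S, t ∉ E n := by
      rintro t ⟨x, hx, -⟩
      have h1 : (n : WithBot ℕ∞) ≤ (N : WithBot ℕ∞) := le_trans hx (hN x)
      have h2 : n ≤ N := by exact_mod_cast h1
      omega
    exact ⟨fun h => absurd h (hfalse s), fun h => absurd h (hfalse η)⟩

theorem dim_eq_bot_of_isEmpty (T : Type*) [TopologicalSpace T] [IsEmpty T] :
    topologicalKrullDim T = ⊥ := by
  rw [topologicalKrullDim, Order.krullDim_eq_bot_iff]
  exact ⟨fun Z => by obtain ⟨z, _⟩ := Z.isIrreducible.nonempty; exact IsEmpty.false z⟩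

/-- over a one-point base, the dimension is the supremum of the pointwise fibre dimensions. -/
theorem dim_eq_iSup_fibreDimAt {T : Scheme.{u}} (g : Y ⟶ T) [Subsingleton T] :
    topologicalKrullDim Y = ⨆ x : Y, FlatMor.fibreDimAt g x := by
  by_cases hY : Nonempty Y
  · obtain ⟨x₀⟩ := hY
    have huniv : g.base ⁻¹' {g x₀} = Set.univ := by
      ext x
      simp only [Set.mem_preimage, Set.mem_singleton_iff, Set.mem_univ, iff_true]
      exact Subsingleton.elim _ _
    have h1 : topologicalKrullDim ↥(g.fiber (g x₀)) = topologicalKrullDim Y := by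
      rw [IsHomeomorph.topologicalKrullDim_eq _ (g.fiberHomeo (g x₀)).isHomeomorph, huniv]
      exact IsHomeomorph.topologicalKrullDim_eq _ (Homeomorph.Set.univ Y).isHomeomorph
    rw [← h1, dim_fiber_eq_iSup]
    apply le_antisymm
    · exact iSup_le fun x => le_iSup (fun x : Y => FlatMor.fibreDimAt g x) x.1
    · exact iSup_le fun x => le_iSup (fun x : {x : Y // g x = g x₀} => FlatMor.fibreDimAt g x.1)
        ⟨x, Subsingleton.elim _ _⟩
  · rw [not_nonempty_iff] at hY
    rw [dim_eq_bot_of_isEmpty, iSup_of_empty]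

/-- the dimension of a scheme locally of finite type over a field is invariant under extension of
the base field. -/
theorem dim_eq_of_isPullback_field {Y' T T' : Scheme.{u}} (g : Y ⟶ T) (g' : Y' ⟶ T') (e : Y' ⟶ Y)
    (h : T' ⟶ T) [Subsingleton T] [Subsingleton T'] [Nonempty T'] [LocallyOfFiniteType g]
    (hsq : IsPullback e g' g h) : topologicalKrullDim Y = topologicalKrullDim Y' := by
  rw [dim_eq_iSup_fibreDimAt g, dim_eq_iSup_fibreDimAt g']
  have hsurj : Surjective h := by
    constructor
    intro t
    obtain ⟨t'⟩ := ‹Nonempty T'›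
    exact ⟨t', Subsingleton.elim _ _⟩
  have hesurj : Surjective e := MorphismProperty.of_isPullback hsq.flip hsurj
  have : ∀ x' : Y', FlatMor.fibreDimAt g' x' = FlatMor.fibreDimAt g (e x') :=
    fun x' => FibreDimBC.fibreDimAt_eq hsq x'
  simp_rw [this]
  exact (Function.Surjective.iSup_comp hesurj.surj (fun x : Y => FlatMor.fibreDimAt g x)).symm

end Groth.Agent.Helper14.ConsDim
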