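import Mathlib

/-!
# Constructible sets containing all generizations of a point are neighbourhoods
-/

namespace Groth.Agent.Helper14.ConstrNhds
universe u
open TopologicalSpace AlgebraicGeometry CategoryTheory Topology

/-- a constructible subset of a prime spectrum containing all generizations of `y` is a
neighbourhood of `y`. -/
theorem mem_nhds_of_isConstructible {R : Type u} [CommRing R] {s : Set (PrimeSpectrum R)}
    (hs : IsConstructible s) (y : PrimeSpectrum R) (h : ∀ p : PrimeSpectrum R, p ⤳ y → p ∈ s) :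
    s ∈ 𝓝 y := by
  obtain ⟨S, _, φ, hφ⟩ := PrimeSpectrum.exists_range_eq_of_isConstructible hs.compl
  have hy : y ∉ closure sᶜ := by
    intro hy
    rw [← hφ, PrimeSpectrum.closure_range_comap] at hy
    have hle : (⊥ : Ideal S).comap φ ≤ y.asIdeal := by
      rw [← RingHom.ker_eq_comap_bot]
      exact hy
    obtain ⟨q, -, hq, hqle⟩ := y.asIdeal.exists_ideal_comap_le_prime ⊥ hle
    have hsp : (PrimeSpectrum.comap φ ⟨q, hq⟩) ⤳ y :=
      (PrimeSpectrum.le_iff_specializes _ _).mp hqle
    have h1 := h _ hsp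
    have h2 : PrimeSpectrum.comap φ ⟨q, hq⟩ ∈ sᶜ := by
      rw [← hφ]
      exact ⟨_, rfl⟩
    exact h2 h1
  have h3 : (closure sᶜ)ᶜ ∈ 𝓝 y := isClosed_closure.isOpen_compl.mem_nhds hy
  refine Filter.mem_of_superset h3 ?_
  intro z hz
  by_contra hzs
  exact hz (subset_closure hzs)

/-- a locally constructible subset of a scheme containing all generizations of `y` is a
neighbourhood of `y`. -/
theorem mem_nhds_of_isLocallyConstructible {Y : Scheme.{u}} {s : Set Y}
    (hs : IsLocallyConstructible s) (y : Y) (h : ∀ η : Y, η ⤳ y → η ∈ s) : s ∈ 𝓝 y := by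
  obtain ⟨_, ⟨(V : Y.Opens), hV : IsAffineOpen V, rfl⟩, hyV, -⟩ :=
    Y.isBasis_affineOpens.exists_subset_of_mem_open (Set.mem_univ y) isOpen_univ
  have hs' : IsLocallyConstructible (hV.fromSpec ⁻¹' s) :=
    hs.preimage_of_isOpenEmbedding hV.fromSpec.isOpenEmbedding
  have hc : IsConstructible (hV.fromSpec ⁻¹' s) := hs'.isConstructible
  set py := hV.primeIdealOf ⟨y, hyV⟩ with hpydef
  have hpy : hV.fromSpec py = y := hV.fromSpec_primeIdealOf ⟨y, hyV⟩
  have h1 : (hV.fromSpec ⁻¹' s) ∈ 𝓝 py :=
    mem_nhds_of_isConstructible (R := Γ(Y, V)) hc py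
      (fun p hp => h _ (by rw [← hpy]; exact hp.map hV.fromSpec.continuous))
  have h2 := hV.fromSpec.isOpenEmbedding.isOpenMap.image_mem_nhds h1
  rw [hpy] at h2
  exact Filter.mem_of_superset h2 (Set.image_preimage_subset _ _)

/-- in a locally Noetherian scheme, locally closed sets are locally constructible. -/
theorem isLocallyConstructible_of_isOpen_inter_isClosed {X : Scheme.{u}} [IsLocallyNoetherian X]
    {A B : Set X} (hA : IsOpen A) (hB : IsClosed B) : IsLocallyConstructible (A ∩ B) := by
  intro x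
  obtain ⟨_, ⟨(V : X.Opens), hV : IsAffineOpen V, rfl⟩, hxV, -⟩ :=
    X.isBasis_affineOpens.exists_subset_of_mem_open (Set.mem_univ x) isOpen_univ
  have hN : IsNoetherianRing Γ(X, V) := IsLocallyNoetherian.component_noetherian ⟨V, hV⟩
  haveI : NoetherianSpace ↥V := by
    have e := hV.isoSpec
    have h1 : NoetherianSpace (Spec Γ(X, V)) := inferInstanceAs (NoetherianSpace (PrimeSpectrum _))
    exact (noetherianSpace_iff_of_homeomorph e.hom.homeomorph).2 h1
  refine ⟨V, V.2.mem_nhds hxV, V.2, ?_⟩
  have hopen : ∀ W : Set ↥V, IsOpen W → IsConstructible W := fun W hW =>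
    IsRetrocompact.isConstructible hW (fun K _ _ => NoetherianSpace.isCompact _)
  change IsConstructible ((Subtype.val ⁻¹' A : Set ↥V) ∩ (Subtype.val ⁻¹' B))
  exact (hopen _ (hA.preimage continuous_subtype_val)).inter
    (hopen _ (hB.preimage continuous_subtype_val).isOpen_compl).of_compl

end Groth.Agent.Helper14.ConstrNhds
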