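import Mathlib
import Groth.Agent.Lib.Helper14.FibreMax

/-!
# Constructing `EGA43.IsEquidimAt`
-/

namespace Groth.Agent.Helper14.EquidimAt
universe u
open TopologicalSpace AlgebraicGeometry CategoryTheory

variable {X Y : Scheme.{u}} (f : X ⟶ Y) [LocallyOfFiniteType f]

/-- **Criterion for equidimensionality at a point** in terms of maximal points. -/
theorem of_spec (x : X) (e : ℕ) (U : X.Opens) (hxU : x ∈ U)
    (h1 : ∀ ξ : X, ξ ∈ U → (∀ ξ' : X, ξ' ⤳ ξ → ξ' = ξ) →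
      (∀ η' : Y, η' ⤳ f ξ → η' = f ξ) ∧ f ξ ⤳ f x)
    (h2 : ∀ z : X, z ∈ U → (∀ z' : X, f z' = f z → z' ⤳ z → z' = z) →
      @Algebra.trdeg (Y.residueField (f z)) (X.residueField z) _ _
        (f.residueFieldMap z).hom.toAlgebra = e) :
    EGA43.IsEquidimAt f x := by
  refine ⟨e, U, hxU, ?_, ?_⟩
  · intro Z hZ
    obtain ⟨ξU, hcl, hmaxU⟩ :=
      FibreComp.exists_maximal_of_mem_irreducibleComponents (F := (U : Scheme.{u})) Z hZ
    have hmax : ∀ ξ' : X, ξ' ⤳ ξU.1 → ξ' = ξU.1 := by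
      intro ξ' hξ'
      have hξ'U : ξ' ∈ U := hξ'.mem_open U.isOpen ξU.2
      have h3 : (⟨ξ', hξ'U⟩ : U) ⤳ ξU := (subtype_specializes_iff _ _).mpr hξ'
      exact congrArg Subtype.val (hmaxU _ h3)
    obtain ⟨hfmax, hfx⟩ := h1 ξU.1 ξU.2 hmax
    refine ⟨closure {f ξU.1},
      FibreClosure.closure_mem_irreducibleComponents_of_maximal _ hfmax,
      specializes_iff_mem_closure.mp hfx, ?_⟩
    rw [← hcl, closure_image_closure (U.ι ≫ f).continuous, Set.image_singleton]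
    rfl
  · intro x' Z hZ
    obtain ⟨ζ, hcl, hζmax⟩ := FibreComp.exists_maximal_of_mem_irreducibleComponents Z hZ
    have hmaxU := FibreMax.maximal_fiberι (U.ι ≫ f) ((U.ι ≫ f) x') ζ hζmax
    have hmax : ∀ z' : X, f z' = f ((U.ι ≫ f).fiberι ((U.ι ≫ f) x') ζ).1 →
        z' ⤳ ((U.ι ≫ f).fiberι ((U.ι ≫ f) x') ζ).1 →
        z' = ((U.ι ≫ f).fiberι ((U.ι ≫ f) x') ζ).1 := by
      intro z' hfz' hz'
      have hz'U : z' ∈ U := hz'.mem_open U.isOpen ((U.ι ≫ f).fiberι ((U.ι ≫ f) x') ζ).2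
      have h3 : (⟨z', hz'U⟩ : U) ⤳ (U.ι ≫ f).fiberι ((U.ι ≫ f) x') ζ :=
        (subtype_specializes_iff _ _).mpr hz'
      exact congrArg Subtype.val (hmaxU ⟨z', hz'U⟩ hfz' h3)
    have htr := h2 _ ((U.ι ≫ f).fiberι ((U.ι ≫ f) x') ζ).2 hmax
    have htr' : @Algebra.trdeg
        (Y.residueField ((U.ι ≫ f) ((U.ι ≫ f).fiberι ((U.ι ≫ f) x') ζ)))
        ((U : Scheme.{u}).residueField ((U.ι ≫ f).fiberι ((U.ι ≫ f) x') ζ)) _ _
        ((U.ι ≫ f).residueFieldMap ((U.ι ≫ f).fiberι ((U.ι ≫ f) x') ζ)).hom.toAlgebra = e := by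
      rw [trdeg_opens f U]
      exact htr
    rw [← hcl, GenericEquidim.dim_closure_maximal (U.ι ≫ f) ((U.ι ≫ f) x') ζ hζmax,
      FibreMax.fibreDimAt_eq_of_maximal (U.ι ≫ f) _ hmaxU e htr']

/-- hypotheses about the generic points of the irreducible components of the fibre through `x`,
restated with points of `X`. -/
theorem forall_maximal_of_fibre (x : X) (P : X → Prop)
    (h : ∀ z : ↥(f.fiber (f x)), f.asFiber x ∈ closure {z} →
      (∀ z' : ↥(f.fiber (f x)), z ∈ closure {z'} → z' = z) → P (f.fiberι (f x) z)) :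
    ∀ z₀ : X, f z₀ = f x → z₀ ⤳ x → (∀ x₁ : X, f x₁ = f z₀ → x₁ ⤳ z₀ → x₁ = z₀) → P z₀ := by
  intro z₀ hfz₀ hz₀x hmax
  set ζ := (f.fiberHomeo (f x)).symm ⟨z₀, hfz₀⟩ with hζ
  have hι : f.fiberι (f x) ζ = z₀ := f.fiberι_fiberHomeo_symm _ _
  have hind := (f.fiberι (f x)).isEmbedding.isInducing
  have h1 : f.asFiber x ∈ closure {ζ} := by
    rw [← specializes_iff_mem_closure, ← hind.specializes_iff, hι, f.fiberι_asFiber]
    exact hz₀x
  have h2 : ∀ z' : ↥(f.fiber (f x)), ζ ∈ closure {z'} → z' = ζ := by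
    intro z' hz'
    apply FibreMax.maximal_of_fiberι f (f x) ζ _ z' (specializes_iff_mem_closure.mpr hz')
    rw [hι]
    exact hmax
  have := h ζ h1 h2
  rw [hι] at this
  exact this

omit [LocallyOfFiniteType f] in
/-- in a locally Noetherian scheme every point has an open neighbourhood all of whose maximal
points specialize to it. -/
theorem exists_nhd_maximal_specializes [IsLocallyNoetherian X] (x : X) :
    ∃ U : X.Opens, x ∈ U ∧ ∀ ξ : X, ξ ∈ U → (∀ ξ' : X, ξ' ⤳ ξ → ξ' = ξ) → ξ ⤳ x := by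
  obtain ⟨_, ⟨(V : X.Opens), hV : IsAffineOpen V, rfl⟩, hxV, -⟩ :=
    X.isBasis_affineOpens.exists_subset_of_mem_open (Set.mem_univ x) isOpen_univ
  have hN : IsNoetherianRing Γ(X, V) := IsLocallyNoetherian.component_noetherian ⟨V, hV⟩
  haveI : NoetherianSpace ↥V := by
    have e := hV.isoSpec
    have h1 : NoetherianSpace (Spec Γ(X, V)) := inferInstanceAs (NoetherianSpace (PrimeSpectrum _))
    exact (noetherianSpace_iff_of_homeomorph e.hom.homeomorph).2 h1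
  let xV : V := ⟨x, hxV⟩
  set 𝒞 : Set (Set ↥V) := {Z | Z ∈ irreducibleComponents ↥V ∧ xV ∉ Z} with h𝒞
  have hfin : 𝒞.Finite :=
    (NoetherianSpace.finite_irreducibleComponents (α := ↥V)).subset (fun Z hZ => hZ.1)
  have hclosed : IsClosed (⋃₀ 𝒞) := by
    rw [Set.sUnion_eq_biUnion]
    exact hfin.isClosed_biUnion (fun Z hZ => isClosed_of_mem_irreducibleComponents Z hZ.1)
  have hopen : IsOpen (Subtype.val '' (⋃₀ 𝒞)ᶜ : Set X) :=
    V.2.isOpenMap_subtype_val _ hclosed.isOpen_compl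
  refine ⟨⟨_, hopen⟩, ⟨xV, ?_, rfl⟩, ?_⟩
  · rintro ⟨Z, hZ, hxZ⟩
    exact hZ.2 hxZ
  · rintro ξ ⟨ξV, hξV, rfl⟩ hξmax
    have hmaxV : ∀ ξ' : V, ξ' ⤳ ξV → ξ' = ξV := by
      intro ξ' hξ'
      have h3 : ξ'.1 ⤳ ξV.1 := (subtype_specializes_iff _ _).mp hξ'
      exact Subtype.ext (hξmax _ h3)
    have hcomp := FibreClosure.closure_mem_irreducibleComponents_of_maximal
      (X := (V : Scheme.{u})) ξV hmaxV
    have hx : xV ∈ closure ({ξV} : Set ↥V) := by
      by_contra hx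
      exact hξV ⟨closure {ξV}, ⟨hcomp, hx⟩, subset_closure rfl⟩
    have : ξV ⤳ xV := specializes_iff_mem_closure.mpr hx
    exact (subtype_specializes_iff _ _).mp this

end Groth.Agent.Helper14.EquidimAt
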