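import Mathlib

/-!
# Primes of coheight one in Noetherian local rings

In a Noetherian local ring `A`, for a non-maximal prime `𝔭₀` and finitely many ideals strictly
containing `𝔭₀`, there is a prime `𝔭 ⊇ 𝔭₀` with `dim A/𝔭 = 1` containing none of them.
-/

namespace Groth.Agent.Helper14.CoheightOne

open IsLocalRing

/-- the core: a Noetherian local domain in which all primes other than `0` and the maximal ideal
contain a fixed nonzero element has dimension at most one. -/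
theorem krullDimLE_one_of_forall_mem {D : Type*} [CommRing D] [IsDomain D] [IsNoetherianRing D]
    [IsLocalRing D] (a : D) (ha : a ≠ 0)
    (h : ∀ Q : Ideal D, Q.IsPrime → Q ≠ ⊥ → Q ≠ maximalIdeal D → a ∈ Q) :
    Ring.KrullDimLE 1 D := by
  classical
  refine Ring.krullDimLE_one_iff_of_noZeroDivisors.mpr fun Q hQ0 hQ => ?_
  by_contra hQmax
  have hQm : Q ≠ maximalIdeal D := fun e => hQmax (e ▸ maximalIdeal.isMaximal D)
  have haQ : a ∈ Q := h Q hQ hQ0 hQm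
  have hQle : Q ≤ maximalIdeal D := le_maximalIdeal hQ.ne_top
  have hQlt : Q < maximalIdeal D := lt_of_le_of_ne hQle hQm
  haveI := hQ
  -- the maximal ideal has height at least two
  have hbotlt : (⊥ : Ideal D) < Q := bot_lt_iff_ne_bot.mpr hQ0
  haveI : (⊥ : Ideal D).IsPrime := Ideal.isPrime_bot
  have h1 : (1 : ℕ∞) ≤ Q.height := by
    have := Ideal.height_add_one_le_of_lt_of_isPrime hbotlt
    exact le_trans (by simp) this
  have h2 : (2 : ℕ∞) ≤ (maximalIdeal D).height := by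
    have := Ideal.height_add_one_le_of_lt_of_isPrime hQlt
    refine le_trans ?_ this
    calc (2 : ℕ∞) = 1 + 1 := by norm_num
      _ ≤ Q.height + 1 := by gcongr
  -- minimal primes over `a`
  set S := (Ideal.span {a}).minimalPrimes with hS
  have hfin : S.Finite := Ideal.finite_minimalPrimes_of_isNoetherianRing D _
  have hSprime : ∀ p ∈ S, p.IsPrime := fun p hp => hp.1.1
  have hSht : ∀ p ∈ S, p.height ≤ 1 := fun p hp =>
    Ideal.height_le_one_of_isPrincipal_of_mem_minimalPrimes _ p hp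
  have hSa : ∀ p ∈ S, a ∈ p := fun p hp => hp.1.2 (Ideal.mem_span_singleton_self a)
  have hne : ¬ ((maximalIdeal D : Set D) ⊆ ⋃ p ∈ (hfin.toFinset : Set (Ideal D)), (p : Set D)) := by
    intro hsub
    have := (Ideal.subset_union_prime (s := hfin.toFinset) (f := fun p => p) ⊥ ⊥
      (fun p hp _ _ => hSprime p (hfin.mem_toFinset.mp hp)) (I := maximalIdeal D)).mp hsub
    obtain ⟨p, hp, hle⟩ := this
    have hpS : p ∈ S := hfin.mem_toFinset.mp hp
    have := (Ideal.height_mono hle).trans (hSht p hpS)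
    have : (2 : ℕ∞) ≤ 1 := h2.trans this
    norm_num at this
  rw [Set.not_subset] at hne
  obtain ⟨b, hbm, hb⟩ := hne
  have hbS : ∀ p ∈ S, b ∉ p := by
    intro p hp hbp
    apply hb
    simp only [Set.mem_iUnion]
    exact ⟨p, by simpa using hp, hbp⟩
  obtain ⟨p₀, hp₀S, hp₀Q⟩ := Ideal.exists_minimalPrimes_le
    (show Ideal.span {a} ≤ Q from (Ideal.span_singleton_le_iff_mem Q).mpr haQ)
  have hb0 : b ≠ 0 := fun e => hbS p₀ hp₀S (e ▸ p₀.zero_mem)
  obtain ⟨Q', hQ'min, hQ'm⟩ := Ideal.exists_minimalPrimes_le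
    (show Ideal.span {b} ≤ maximalIdeal D from (Ideal.span_singleton_le_iff_mem _).mpr hbm)
  have hQ'p : Q'.IsPrime := hQ'min.1.1
  have hbQ' : b ∈ Q' := hQ'min.1.2 (Ideal.mem_span_singleton_self b)
  have hQ'ht : Q'.height ≤ 1 := Ideal.height_le_one_of_isPrincipal_of_mem_minimalPrimes _ Q' hQ'min
  have hQ'0 : Q' ≠ ⊥ := fun e => hb0 (by rw [e] at hbQ'; exact hbQ')
  have hQ'm' : Q' ≠ maximalIdeal D := by
    intro e
    rw [e] at hQ'ht
    have : (2 : ℕ∞) ≤ 1 := h2.trans hQ'ht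
    norm_num at this
  have haQ' : a ∈ Q' := h Q' hQ'p hQ'0 hQ'm'
  obtain ⟨p, hpS, hpQ'⟩ := Ideal.exists_minimalPrimes_le
    (show Ideal.span {a} ≤ Q' from (Ideal.span_singleton_le_iff_mem Q').mpr haQ')
  haveI := hSprime p hpS
  haveI := hQ'p
  have hpeq : p = Q' := by
    by_contra hpne
    have hlt : p < Q' := lt_of_le_of_ne hpQ' hpne
    have h3 := Ideal.height_add_one_le_of_lt_of_isPrime hlt
    have h4 : p.height + 1 ≤ 1 := h3.trans hQ'ht
    have h5 : p.height = 0 := by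
      have : p.height + 1 ≤ 0 + 1 := by simpa using h4
      have h5' : p.height ≤ 0 := (ENat.add_le_add_iff_right (by simp)).mp this
      exact le_antisymm h5' bot_le
    have h6 : p = ⊥ := Ideal.height_eq_zero_iff_eq_bot.mp h5
    have : a ∈ (⊥ : Ideal D) := h6 ▸ hSa p hpS
    exact ha (by simpa using this)
  exact hbS p hpS (hpeq ▸ hbQ')

/-- in a Noetherian local domain which is not a field, every nonzero element is avoided by some
prime of coheight one. -/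
theorem exists_prime_dim_one_not_mem {D : Type*} [CommRing D] [IsDomain D] [IsNoetherianRing D]
    [IsLocalRing D] (hD : ¬ IsField D) (a : D) (ha : a ≠ 0) :
    ∃ 𝔮 : Ideal D, 𝔮.IsPrime ∧ a ∉ 𝔮 ∧ ringKrullDim (D ⧸ 𝔮) = 1 := by
  let 𝒮 : Set (Ideal D) := {𝔮 | 𝔮.IsPrime ∧ a ∉ 𝔮 ∧ 𝔮 ≠ maximalIdeal D}
  have hne : 𝒮.Nonempty := ⟨⊥, Ideal.isPrime_bot, by simpa using ha,
    fun h => hD (IsLocalRing.isField_iff_maximalIdeal_eq.mpr h.symm)⟩
  obtain ⟨M, hM, hmax⟩ := set_has_maximal_iff_noetherian.mpr ‹IsNoetherianRing D› 𝒮 hne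
  obtain ⟨hMp, haM, hMm⟩ := hM
  haveI := hMp
  refine ⟨M, hMp, haM, ?_⟩
  haveI : Nontrivial (D ⧸ M) := Ideal.Quotient.nontrivial_iff.mpr hMp.ne_top
  haveI : IsLocalRing (D ⧸ M) :=
    IsLocalRing.of_surjective' (Ideal.Quotient.mk M) Ideal.Quotient.mk_surjective
  haveI : IsDomain (D ⧸ M) := Ideal.Quotient.isDomain M
  have hnf : ¬ IsField (D ⧸ M) := fun hf =>
    hMm (IsLocalRing.eq_maximalIdeal (Ideal.Quotient.maximal_of_isField M hf))
  have hā : Ideal.Quotient.mk M a ≠ 0 := fun e => haM (Ideal.Quotient.eq_zero_iff_mem.mp e)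
  have hdimle : Ring.KrullDimLE 1 (D ⧸ M) := by
    apply krullDimLE_one_of_forall_mem _ hā
    intro Q hQ hQ0 hQm
    by_contra haQ
    haveI := hQ
    set P := Q.comap (Ideal.Quotient.mk M) with hP
    have hPp : P.IsPrime := Ideal.comap_isPrime _ _
    have hmapP : P.map (Ideal.Quotient.mk M) = Q :=
      Ideal.map_comap_of_surjective _ Ideal.Quotient.mk_surjective Q
    have hMP : M < P := by
      refine lt_of_le_of_ne ?_ ?_
      · intro m hm
        rw [hP, Ideal.mem_comap, Ideal.Quotient.eq_zero_iff_mem.mpr hm]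
        exact Q.zero_mem
      · intro e
        apply hQ0
        rw [← hmapP, ← e, Ideal.map_quotient_self]
    have hPm : P ≠ maximalIdeal D := by
      intro e
      have hPmax : P.IsMaximal := e ▸ maximalIdeal.isMaximal D
      rcases Ideal.map_eq_top_or_isMaximal_of_surjective (Ideal.Quotient.mk M)
        Ideal.Quotient.mk_surjective hPmax with h1 | h1
      · rw [hmapP] at h1
        exact hQ.ne_top h1
      · rw [hmapP] at h1
        exact hQm (IsLocalRing.eq_maximalIdeal h1)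
    exact hmax P ⟨hPp, fun h => haQ h, hPm⟩ hMP
  have hnot : ¬ ringKrullDim (D ⧸ M) ≤ 0 := fun h => by
    have : Ring.KrullDimLE 0 (D ⧸ M) := Ring.krullDimLE_iff.mpr h
    exact hnf Ring.KrullDimLE.isField_of_isDomain
  have h1 := Ring.krullDimLE_iff.mp hdimle
  exact le_antisymm h1 (Order.succ_le_of_lt (lt_of_not_ge hnot))

/-- **Avoidance by coheight-one primes.** -/
theorem exists_prime_dim_one_not_ge {A : Type*} [CommRing A] [IsNoetherianRing A] [IsLocalRing A]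
    (𝔭₀ : Ideal A) [h𝔭₀ : 𝔭₀.IsPrime] (h0 : 𝔭₀ ≠ maximalIdeal A) (S : Set (Ideal A))
    (hS : S.Finite) (hSlt : ∀ J ∈ S, 𝔭₀ < J) :
    ∃ 𝔭 : Ideal A, 𝔭.IsPrime ∧ 𝔭₀ ≤ 𝔭 ∧ ringKrullDim (A ⧸ 𝔭) = 1 ∧ ∀ J ∈ S, ¬ J ≤ 𝔭 := by
  classical
  have hex : ∀ J : Ideal A, ∃ a : A, J ∈ S → (a ∈ J ∧ a ∉ 𝔭₀) := by
    intro J
    by_cases hJ : J ∈ S
    · obtain ⟨a, haJ, ha⟩ := SetLike.exists_of_lt (hSlt J hJ)
      exact ⟨a, fun _ => ⟨haJ, ha⟩⟩
    · exact ⟨0, fun h => absurd h hJ⟩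
  choose g hg using hex
  set a := ∏ J ∈ hS.toFinset, g J with ha
  have ha0 : a ∉ 𝔭₀ := by
    rw [ha, Ideal.IsPrime.prod_mem_iff]
    rintro ⟨J, hJ, hgJ⟩
    exact (hg J (hS.mem_toFinset.mp hJ)).2 hgJ
  haveI : Nontrivial (A ⧸ 𝔭₀) := Ideal.Quotient.nontrivial_iff.mpr h𝔭₀.ne_top
  haveI : IsLocalRing (A ⧸ 𝔭₀) :=
    IsLocalRing.of_surjective' (Ideal.Quotient.mk 𝔭₀) Ideal.Quotient.mk_surjective
  haveI : IsDomain (A ⧸ 𝔭₀) := Ideal.Quotient.isDomain 𝔭₀
  have hnf : ¬ IsField (A ⧸ 𝔭₀) := fun hf =>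
    h0 (IsLocalRing.eq_maximalIdeal (Ideal.Quotient.maximal_of_isField 𝔭₀ hf))
  have hā : Ideal.Quotient.mk 𝔭₀ a ≠ 0 := fun e => ha0 (Ideal.Quotient.eq_zero_iff_mem.mp e)
  obtain ⟨𝔮, h𝔮p, ha𝔮, hdim⟩ := exists_prime_dim_one_not_mem hnf _ hā
  haveI := h𝔮p
  set 𝔭 := 𝔮.comap (Ideal.Quotient.mk 𝔭₀) with h𝔭
  have hle : 𝔭₀ ≤ 𝔭 := by
    intro m hm
    rw [h𝔭, Ideal.mem_comap, Ideal.Quotient.eq_zero_iff_mem.mpr hm]
    exact 𝔮.zero_mem
  have hmap : 𝔭.map (Ideal.Quotient.mk 𝔭₀) = 𝔮 :=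
    Ideal.map_comap_of_surjective _ Ideal.Quotient.mk_surjective 𝔮
  refine ⟨𝔭, Ideal.comap_isPrime _ _, hle, ?_, ?_⟩
  · have e := DoubleQuot.quotQuotEquivQuotOfLE hle
    rw [← ringKrullDim_eq_of_ringEquiv e, hmap]
    exact hdim
  · intro J hJ hJle
    apply ha𝔮
    change a ∈ 𝔭
    rw [ha]
    exact Ideal.prod_mem _ (hS.mem_toFinset.mpr hJ) (hJle (hg J hJ).1)

end Groth.Agent.Helper14.CoheightOne
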