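import Mathlib
import Groth.Agent.Lib.Helper14.EquidimAt
import Groth.Agent.Lib.Helper14.PointwiseDim

/-!
# Lifting the generic point to a component of the same relative dimension
-/

namespace Groth.Agent.Helper14.GenericLift
universe u
open TopologicalSpace AlgebraicGeometry CategoryTheory

variable {X Y : Scheme.{u}} [IrreducibleSpace Y] [IsLocallyNoetherian Y]
  (f : X ⟶ Y) [LocallyOfFiniteType f]

/-- a maximal point of `X` lying over the generic point. -/
theorem maximal_of_map_eq_generic (ξ : X) (hfξ : f ξ = genericPoint Y)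
    (hξ : ∀ z' : X, f z' = f ξ → z' ⤳ ξ → z' = ξ) : ∀ ξ' : X, ξ' ⤳ ξ → ξ' = ξ := by
  intro ξ' hξ'
  apply hξ ξ' _ hξ'
  have h1 : f ξ' ⤳ f ξ := hξ'.map f.continuous
  rw [hfξ] at h1 ⊢
  exact (h1.antisymm (genericPoint_specializes _)).eq

/-- if `z` is a maximal point of its fibre with `dim O_{X,z} = dim O_{Y,f z}`, then some
irreducible component of `X` through `z` dominates `Y` with generic fibre of the same dimension as
the fibre component of `z`. -/
theorem exists_generic_of_dim_eq (z : X)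
    (hmax : ∀ x₁ : X, f x₁ = f z → x₁ ⤳ z → x₁ = z)
    (hdimz : ringKrullDim (X.presheaf.stalk z) = ringKrullDim (Y.presheaf.stalk (f z))) :
    ∃ (ξ : X) (n : ℕ), (∀ ξ' : X, ξ' ⤳ ξ → ξ' = ξ) ∧ ξ ⤳ z ∧ f ξ = genericPoint Y ∧
      @Algebra.trdeg (Y.residueField (f ξ)) (X.residueField ξ) _ _
        (f.residueFieldMap ξ).hom.toAlgebra = n ∧
      @Algebra.trdeg (Y.residueField (f z)) (X.residueField z) _ _
        (f.residueFieldMap z).hom.toAlgebra = n := by
  haveI : IsLocallyNoetherian X := LocallyOfFiniteType.isLocallyNoetherian f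
  obtain ⟨ξ, hξmax, hξz, hdim⟩ := LocQuotLemmas.exists_maximal_locQuot_eq z
  obtain ⟨nz, hnz⟩ := ResFieldBridge.exists_nat_trdeg_residueField f z
  obtain ⟨nξ, hnξ⟩ := ResFieldBridge.exists_nat_trdeg_residueField f ξ
  have hPF := (PointwiseDim.formula_aux f z ξ hξz nz nξ hnz hnξ).1
  obtain ⟨x₁, -, hx₁z, hfx₁, n₁, hn₁, hle⟩ := RestrictedChevalley.rc f z ξ hξz nξ hnξ
  have hx₁ : x₁ = z := hmax x₁ hfx₁ hx₁z
  subst hx₁
  have hn₁z : n₁ = nz := by
    have := hn₁.symm.trans hnz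
    exact_mod_cast this
  obtain ⟨a, ha⟩ := FibreDimIneq.exists_nat_dim_stalk x₁
  obtain ⟨d, hd, hdb⟩ := FibreDimIneq.exists_nat_dim_locQuot (f x₁) (f ξ)
    (hξz.map f.continuous)
  rw [hdim, ha, hd] at hPF
  rw [← hdimz, ha] at hdb
  have e1 : a + nz ≤ d + nξ := by exact_mod_cast hPF
  have e2 : d ≤ a := by exact_mod_cast hdb
  have hda : d = a := by omega
  have hnξz : nξ = nz := by omega
  have hfξmax : ∀ η' : Y, η' ⤳ f ξ → η' = f ξ := by
    apply FibreClosure.maximal_of_locQuot_eq (f x₁) (f ξ) (hξz.map f.continuous)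
    rw [hd, ← hdimz, ha, hda]
  have hfξ : f ξ = genericPoint Y := FibreClosure.eq_genericPoint_of_maximal _ hfξmax
  exact ⟨ξ, nξ, hξmax, hξz, hfξ, hnξ, by rw [hnz, hnξz]⟩

end Groth.Agent.Helper14.GenericLift
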