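import Mathlib
import Groth.Prelude.Def_EGA43

/-!
# Lifting generizations along maps open at a point
-/

namespace Groth.Agent.Helper14.OpenAtLift
open TopologicalSpace Set Topology

section top
variable {X Y : Type*} [TopologicalSpace X] [TopologicalSpace Y]

/-- a continuous map from a Noetherian quasi-sober space which is open at `x` lifts generizations of
`f x` to generizations of `x`. -/
theorem exists_specializes_of_isOpenAt [NoetherianSpace X] [QuasiSober X] [T0Space Y] {f : X → Y}
    (hf : Continuous f) (x : X) (ho : EGA43.IsOpenAt f x) (y' : Y) (hy' : y' ⤳ f x) :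
    ∃ ξ : X, ξ ⤳ x ∧ f ξ = y' := by
  set F : Set X := f ⁻¹' {y'} with hF
  set T : Set X := closure F with hT
  have hxT : x ∈ T := by
    rw [hT, mem_closure_iff]
    intro U hU hxU
    have h0 : f '' U ∈ 𝓝 (f x) := ho U (hU.mem_nhds hxU)
    have h1 : y' ∈ f '' U := mem_of_mem_nhds (hy' h0)
    obtain ⟨x'', hx''U, hx''⟩ := h1
    exact ⟨x'', hx''U, hx''⟩
  have hTcl : IsClosed T := isClosed_closure
  have : QuasiSober T := hTcl.isClosedEmbedding_subtypeVal.quasiSober
  let x₀ : T := ⟨x, hxT⟩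
  obtain ⟨o, hoo, hone, hoC⟩ :=
    NoetherianSpace.exists_isOpen_nonempty_subset_irreducibleComponent (irreducibleComponent x₀)
      (irreducibleComponent_mem_irreducibleComponents x₀)
  obtain ⟨ξ, hξ⟩ := QuasiSober.sober (isIrreducible_irreducibleComponent (x := x₀))
    isClosed_irreducibleComponent
  have hξcl : closure {ξ} = irreducibleComponent x₀ := hξ
  obtain ⟨t, hto⟩ := hone
  obtain ⟨O, hO, hOo⟩ := isOpen_induced_iff.1 hoo
  have htO : (t : X) ∈ O := by rw [← hOo] at hto; exact hto
  obtain ⟨x'', hx''O, hx''F⟩ := mem_closure_iff.1 t.2 O hO htO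
  let t'' : T := ⟨x'', subset_closure hx''F⟩
  have ht''o : t'' ∈ o := by rw [← hOo]; exact hx''O
  have ht''C : t'' ∈ irreducibleComponent x₀ := hoC ht''o
  have h1 : ξ ⤳ t'' := by rw [specializes_iff_mem_closure, hξcl]; exact ht''C
  have h2 : (ξ : X) ⤳ x'' := (subtype_specializes_iff _ _).1 h1
  have h3 : f ξ ⤳ y' := by
    have h := h2.map hf
    have e : f x'' = y' := hx''F
    rwa [e] at h
  have h4 : y' ⤳ f ξ := by
    rw [specializes_iff_mem_closure]
    have h5 : f '' closure F ⊆ closure (f '' F) := image_closure_subset_closure_image hf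
    have h6 : f '' F ⊆ {y'} := by rintro _ ⟨a, ha, rfl⟩; exact ha
    exact closure_mono h6 (h5 ⟨ξ, ξ.2, rfl⟩)
  have h6 : f ξ = y' := (h3.antisymm h4).eq
  have h7 : ξ ⤳ x₀ := by
    rw [specializes_iff_mem_closure, hξcl]; exact mem_irreducibleComponent
  exact ⟨ξ, (subtype_specializes_iff _ _).1 h7, h6⟩

end top

section sch
open AlgebraicGeometry
universe u

/-- a morphism from a locally Noetherian scheme which is open at `x` lifts generizations of `f x`
to generizations of `x`. -/
theorem exists_specializes_of_isOpenAt_scheme {X Y : Scheme.{u}} (f : X ⟶ Y)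
    [IsLocallyNoetherian X] (x : X) (ho : EGA43.IsOpenAt f.base x) (y' : Y) (hy' : y' ⤳ f.base x) :
    ∃ ξ : X, ξ ⤳ x ∧ f.base ξ = y' := by
  obtain ⟨_, ⟨(U : X.Opens), hU : IsAffineOpen U, rfl⟩, hxU, -⟩ :=
    X.isBasis_affineOpens.exists_subset_of_mem_open (Set.mem_univ x) isOpen_univ
  have hN : IsNoetherianRing Γ(X, U) := IsLocallyNoetherian.component_noetherian ⟨U, hU⟩
  have : NoetherianSpace ↥U := by
    have e := hU.isoSpec
    have h1 : NoetherianSpace (Spec Γ(X, U)) := inferInstanceAs (NoetherianSpace (PrimeSpectrum _))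
    exact (noetherianSpace_iff_of_homeomorph e.hom.homeomorph).2 h1
  have hqs : QuasiSober ↥U := inferInstanceAs (QuasiSober ↥(U : Scheme.{u}))
  let g : ↥U → Y := fun u => f.base u.1
  have hg : Continuous g := f.continuous.comp continuous_subtype_val
  have hgo : EGA43.IsOpenAt g ⟨x, hxU⟩ := by
    intro W hW
    have h1 : Subtype.val '' W ∈ 𝓝 x := U.2.isOpenMap_subtype_val.image_mem_nhds hW
    have h2 := ho _ h1
    rw [Set.image_image] at h2
    exact h2
  have hy'' : y' ⤳ g ⟨x, hxU⟩ := hy'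
  obtain ⟨ξ, hξ1, hξ2⟩ := exists_specializes_of_isOpenAt hg ⟨x, hxU⟩ hgo y' hy''
  exact ⟨ξ.1, (subtype_specializes_iff _ _).1 hξ1, hξ2⟩

end sch

end Groth.Agent.Helper14.OpenAtLift
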