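import Mathlib
import Groth.Agent.Lib.Helper14.GenericLift
import Groth.Agent.Lib.Helper14.CoheightOne
import Groth.Agent.Lib.Helper14.OpenAtLift
import Groth.Agent.Lib.Helper14.FibreMax
import Groth.Agent.S0402

/-!
# Openness at a maximal point of a fibre: a dominating component of the same relative dimension
-/

namespace Groth.Agent.Helper14.OpenGenericLift
universe u
open TopologicalSpace AlgebraicGeometry CategoryTheory

section locquot
variable {X : Scheme.{u}}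

theorem ker_specMap_self (x : X) (h : x ⤳ x) :
    RingHom.ker (Cyc.specMap x x h) = IsLocalRing.maximalIdeal (X.presheaf.stalk x) := by
  unfold Cyc.specMap
  rw [TopCat.Presheaf.stalkSpecializes_refl, Category.id_comp]
  exact IsLocalRing.ker_residue

theorem dim_locQuot_self (x : X) (h : x ⤳ x) : ringKrullDim (Cyc.LocQuot x x h) = 0 := by
  unfold Cyc.LocQuot
  rw [ker_specMap_self]
  exact ringKrullDim_eq_zero_of_isField
    ((Ideal.Quotient.maximal_ideal_iff_isField_quotient _).mp (IsLocalRing.maximalIdeal.isMaximal _))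

theorem one_le_dim_locQuot (x ξ : X) (h : ξ ⤳ x) (hne : ξ ≠ x) :
    1 ≤ ringKrullDim (Cyc.LocQuot x ξ h) := by
  haveI : (RingHom.ker (Cyc.specMap x ξ h)).IsPrime := RingHom.ker_isPrime _
  have hnot : ¬ ringKrullDim (Cyc.LocQuot x ξ h) ≤ 0 := fun hle => by
    have : Ring.KrullDimLE 0 (Cyc.LocQuot x ξ h) := Ring.krullDimLE_iff.mpr hle
    have hf : IsField (Cyc.LocQuot x ξ h) := Ring.KrullDimLE.isField_of_isDomain
    have hmax := Ideal.Quotient.maximal_of_isField _ hf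
    have e := IsLocalRing.eq_maximalIdeal hmax
    have hle' : RingHom.ker (Cyc.specMap x x specializes_rfl) ≤ RingHom.ker (Cyc.specMap x ξ h) := by
      rw [e, ker_specMap_self]
    have := (MinPrimePts.ker_specMap_le_iff x ξ x h specializes_rfl).mp hle'
    exact hne (h.antisymm this).eq
  exact Order.succ_le_of_lt (lt_of_not_ge hnot)

end locquot

variable {X Y : Scheme.{u}} [IsLocallyNoetherian Y] (f : X ⟶ Y) [LocallyOfFiniteType f]

/-- the locus where the fibre dimension is at least `n` is closed. -/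
theorem isClosed_le_fibreDimAt (n : ℕ) :
    IsClosed {x' : X | (n : WithBot ℕ∞) ≤ FlatMor.fibreDimAt f x'} := by
  cases n with
  | zero =>
    convert isClosed_univ
    ext x'
    simp only [Set.mem_setOf_eq, Set.mem_univ, iff_true]
    exact_mod_cast FibreGeneric.zero_le_localDim _
  | succ m =>
    have : {x' : X | ((m + 1 : ℕ) : WithBot ℕ∞) ≤ FlatMor.fibreDimAt f x'} =
        {x' : X | FlatMor.fibreDimAt f x' ≤ m}ᶜ := by
      ext x'
      simp only [Set.mem_setOf_eq, Set.mem_compl_iff, not_le]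
      have h0 : (0 : WithBot ℕ∞) ≤ FlatMor.fibreDimAt f x' := FibreGeneric.zero_le_localDim _
      generalize FlatMor.fibreDimAt f x' = v at h0 ⊢
      induction v using WithBot.recBotCoe with
      | bot => exact absurd h0 (by simp)
      | coe w =>
        induction w using ENat.recTopCoe with
        | top =>
          constructor
          · intro _
            exact WithBot.coe_lt_coe.mpr (ENat.coe_lt_top m)
          · intro _
            exact WithBot.coe_le_coe.mpr le_top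
        | coe k =>
          norm_cast
    rw [this]
    exact (Groth.Agent.S0402.result f m).isClosed_compl

/-- Step 1: over a generization of coheight one, there is a generization of `ζ` at which the
fibre dimension is at least that at `ζ`. -/
theorem step1 (ζ : X) (ho : EGA43.IsOpenAt f.base ζ) (n : ℕ)
    (hn : @Algebra.trdeg (Y.residueField (f ζ)) (X.residueField ζ) _ _
      (f.residueFieldMap ζ).hom.toAlgebra = n)
    (y₁ : Y) (hy₁ : y₁ ⤳ f ζ) (hdim : ringKrullDim (Cyc.LocQuot (f ζ) y₁ hy₁) = 1) :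
    ∃ z₁ : X, z₁ ⤳ ζ ∧ f z₁ = y₁ ∧ (n : WithBot ℕ∞) ≤ FlatMor.fibreDimAt f z₁ := by
  haveI : IsLocallyNoetherian X := LocallyOfFiniteType.isLocallyNoetherian f
  obtain ⟨z₁, hz₁ζ, hfz₁⟩ := OpenAtLift.exists_specializes_of_isOpenAt_scheme f ζ ho y₁ hy₁
  refine ⟨z₁, hz₁ζ, hfz₁, ?_⟩
  subst hfz₁
  obtain ⟨n₁, hn₁⟩ := ResFieldBridge.exists_nat_trdeg_residueField f z₁
  have hPF := (PointwiseDim.formula_aux f ζ z₁ hz₁ζ n n₁ hn hn₁).1
  have hne : z₁ ≠ ζ := by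
    intro e
    subst e
    rw [dim_locQuot_self] at hdim
    exact zero_ne_one hdim
  have h1 := one_le_dim_locQuot ζ z₁ hz₁ζ hne
  obtain ⟨d, hd, -⟩ := FibreDimIneq.exists_nat_dim_locQuot ζ z₁ hz₁ζ
  rw [hd] at h1 hPF
  have hdim' : ringKrullDim (Cyc.LocQuot (f ζ) (f z₁) (hz₁ζ.map f.continuous)) = 1 := hdim
  rw [hdim'] at hPF
  have e1 : 1 ≤ d := by exact_mod_cast h1
  have e2 : d + n ≤ 1 + n₁ := by exact_mod_cast hPF
  have e3 : n ≤ n₁ := by omega
  refine le_trans ?_ (EquidimAt.trdeg_le_fibreDimAt f z₁ z₁ specializes_rfl n₁ hn₁)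
  exact_mod_cast e3

/-- the intermediate claim: over any generization `η` of `f ζ`, some generization of `ζ` has fibre
dimension at least `n`. -/
theorem exists_over_fibreDim_ge (ζ : X) (ho : EGA43.IsOpenAt f.base ζ) (n : ℕ)
    (hn : @Algebra.trdeg (Y.residueField (f ζ)) (X.residueField ζ) _ _
      (f.residueFieldMap ζ).hom.toAlgebra = n) (η : Y) (hηy : η ⤳ f ζ) :
    ∃ c : X, c ⤳ ζ ∧ f c = η ∧ (n : WithBot ℕ∞) ≤ FlatMor.fibreDimAt f c := by
  haveI : IsLocallyNoetherian X := LocallyOfFiniteType.isLocallyNoetherian f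
  by_cases hyη : f ζ = η
  · exact ⟨ζ, specializes_rfl, hyη, EquidimAt.trdeg_le_fibreDimAt f ζ ζ specializes_rfl n hn⟩
  by_contra hcon0
  have hcon : ∀ c : X, c ⤳ ζ → f c = η →
      ¬ ((n : WithBot ℕ∞) ≤ FlatMor.fibreDimAt f c) := fun c h1 h2 h3 => hcon0 ⟨c, h1, h2, h3⟩
  set φ := (f.stalkMap ζ).hom with hφ
  set σ := X.fromSpecStalk ζ with hσ
  set C : Set X := {x' : X | (n : WithBot ℕ∞) ≤ FlatMor.fibreDimAt f x'} with hCdef
  have hC : IsClosed C := isClosed_le_fibreDimAt f n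
  set 𝔭η := RingHom.ker (Cyc.specMap (f ζ) η hηy) with h𝔭η
  haveI : 𝔭η.IsPrime := RingHom.ker_isPrime _
  set C' : Set (PrimeSpectrum (X.presheaf.stalk ζ)) :=
    {P | σ P ∈ C} ∩ (PrimeSpectrum.comap φ ⁻¹' PrimeSpectrum.zeroLocus (𝔭η : Set _)) with hC'def
  have hC' : IsClosed C' :=
    (hC.preimage σ.continuous).inter
      ((PrimeSpectrum.isClosed_zeroLocus _).preimage (PrimeSpectrum.continuous_comap φ))
  obtain ⟨I, hI⟩ := (PrimeSpectrum.isClosed_iff_zeroLocus_ideal C').mp hC'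
  haveI : IsNoetherianRing (X.presheaf.stalk ζ) := inferInstance
  have hMfin : I.minimalPrimes.Finite := Ideal.finite_minimalPrimes_of_isNoetherianRing _ I
  set S : Set (Ideal (Y.presheaf.stalk (f ζ))) := (fun 𝔮 => Ideal.comap φ 𝔮) '' I.minimalPrimes
    with hS
  have hSfin : S.Finite := hMfin.image _
  have hSlt : ∀ J ∈ S, 𝔭η < J := by
    rintro _ ⟨𝔮, h𝔮M, rfl⟩
    haveI := h𝔮M.1.1
    set c := σ ⟨𝔮, h𝔮M.1.1⟩ with hc
    have hcζ : c ⤳ ζ := MinPrimePts.fromSpecStalk_specializes ζ _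
    have hker : RingHom.ker (Cyc.specMap ζ c hcζ) = 𝔮 :=
      MinPrimePts.ker_specMap_fromSpecStalk ζ ⟨𝔮, h𝔮M.1.1⟩ hcζ
    have hmem : (⟨𝔮, h𝔮M.1.1⟩ : PrimeSpectrum (X.presheaf.stalk ζ)) ∈ C' := by
      rw [hI, PrimeSpectrum.mem_zeroLocus]
      exact h𝔮M.1.2
    have hcC : c ∈ C := hmem.1
    have hle : 𝔭η ≤ Ideal.comap φ 𝔮 := by
      have := hmem.2
      rw [Set.mem_preimage, PrimeSpectrum.mem_zeroLocus] at this
      exact this
    have hcomap : Ideal.comap φ 𝔮 =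
        RingHom.ker (Cyc.specMap (f ζ) (f c) (hcζ.map f.continuous)) := by
      rw [← hker]
      exact MinPrimePts.comap_ker_specMap f ζ c hcζ
    change 𝔭η < Ideal.comap φ 𝔮
    refine lt_of_le_of_ne hle ?_
    rw [hcomap] at hle ⊢
    intro e
    have h1 : f c ⤳ η := (MinPrimePts.ker_specMap_le_iff (f ζ) η (f c) _ _).mp e.ge
    have h2 : η ⤳ f c := (MinPrimePts.ker_specMap_le_iff (f ζ) (f c) η _ _).mp hle
    have hfc : f c = η := (h1.antisymm h2).eq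
    exact hcon c hcζ hfc hcC
  have h0 : 𝔭η ≠ IsLocalRing.maximalIdeal (Y.presheaf.stalk (f ζ)) := by
    intro e
    have hle : RingHom.ker (Cyc.specMap (f ζ) (f ζ) specializes_rfl) ≤ 𝔭η := by
      rw [e, ker_specMap_self]
    have h1 : f ζ ⤳ η := (MinPrimePts.ker_specMap_le_iff (f ζ) η (f ζ) _ _).mp hle
    exact hyη (h1.antisymm hηy).eq
  obtain ⟨𝔭, h𝔭p, h𝔭le, h𝔭dim, h𝔭S⟩ :=
    CoheightOne.exists_prime_dim_one_not_ge 𝔭η h0 S hSfin hSlt
  set y₁ := (Y.fromSpecStalk (f ζ)) ⟨𝔭, h𝔭p⟩ with hy₁def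
  have hy₁ : y₁ ⤳ f ζ := MinPrimePts.fromSpecStalk_specializes (f ζ) _
  have hker₁ : RingHom.ker (Cyc.specMap (f ζ) y₁ hy₁) = 𝔭 :=
    MinPrimePts.ker_specMap_fromSpecStalk (f ζ) ⟨𝔭, h𝔭p⟩ hy₁
  have hdim₁ : ringKrullDim (Cyc.LocQuot (f ζ) y₁ hy₁) = 1 := by
    unfold Cyc.LocQuot
    rw [hker₁]
    exact h𝔭dim
  obtain ⟨z₁, hz₁ζ, hfz₁, hz₁C⟩ := step1 f ζ ho n hn y₁ hy₁ hdim₁
  set 𝔮₁ : PrimeSpectrum (X.presheaf.stalk ζ) :=
    ⟨RingHom.ker (Cyc.specMap ζ z₁ hz₁ζ), RingHom.ker_isPrime _⟩ with h𝔮₁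
  have hσ𝔮₁ : σ 𝔮₁ = z₁ := FibreClosure.fromSpecStalk_ker ζ z₁ hz₁ζ
  have hcomap₁ : Ideal.comap φ 𝔮₁.asIdeal = 𝔭 := by
    calc Ideal.comap φ 𝔮₁.asIdeal
        = RingHom.ker (Cyc.specMap (f ζ) (f z₁) (hz₁ζ.map f.continuous)) :=
          MinPrimePts.comap_ker_specMap f ζ z₁ hz₁ζ
      _ = 𝔭 := by
        rw [← hker₁]
        exact MinPrimePts.ker_specMap_congr (f ζ) (f z₁) y₁ hfz₁ _ _
  have hmem : 𝔮₁ ∈ C' := by
    refine ⟨?_, ?_⟩
    · change σ 𝔮₁ ∈ C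
      rw [hσ𝔮₁]
      exact hz₁C
    · rw [Set.mem_preimage, PrimeSpectrum.mem_zeroLocus]
      change 𝔭η ≤ Ideal.comap φ 𝔮₁.asIdeal
      rw [hcomap₁]
      exact h𝔭le
  rw [hI, PrimeSpectrum.mem_zeroLocus] at hmem
  haveI : 𝔮₁.asIdeal.IsPrime := 𝔮₁.isPrime
  obtain ⟨𝔮, h𝔮M, h𝔮le⟩ := Ideal.exists_minimalPrimes_le (J := 𝔮₁.asIdeal) hmem
  apply h𝔭S (Ideal.comap φ 𝔮) ⟨𝔮, h𝔮M, rfl⟩
  calc Ideal.comap φ 𝔮 ≤ Ideal.comap φ 𝔮₁.asIdeal := Ideal.comap_mono h𝔮le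
    _ = 𝔭 := hcomap₁

/-- **Key lemma**: if `f` is open at a maximal point `ζ` of a fibre and `η` is a maximal point of
`Y` generizing `f ζ`, some irreducible component of `X` through `ζ` dominates the closure of `η`
and has generic fibre of the same dimension as the fibre component of `ζ`. -/
theorem exists_maximal_of_isOpenAt (ζ : X)
    (hζmax : ∀ x₁ : X, f x₁ = f ζ → x₁ ⤳ ζ → x₁ = ζ) (ho : EGA43.IsOpenAt f.base ζ)
    (η : Y) (hηy : η ⤳ f ζ) (hηmax : ∀ η' : Y, η' ⤳ η → η' = η) :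
    ∃ (ξ : X) (n : ℕ), (∀ ξ' : X, ξ' ⤳ ξ → ξ' = ξ) ∧ ξ ⤳ ζ ∧ f ξ = η ∧
      @Algebra.trdeg (Y.residueField (f ξ)) (X.residueField ξ) _ _
        (f.residueFieldMap ξ).hom.toAlgebra = n ∧
      @Algebra.trdeg (Y.residueField (f ζ)) (X.residueField ζ) _ _
        (f.residueFieldMap ζ).hom.toAlgebra = n := by
  obtain ⟨n, hn⟩ := ResFieldBridge.exists_nat_trdeg_residueField f ζ
  obtain ⟨c, hcζ, hfc, hcn⟩ := exists_over_fibreDim_ge f ζ ho n hn η hηy
  obtain ⟨ξ, m, hξc, hfξ, hξmax, hm, hfd⟩ := EquidimAt.exists_maximal_trdeg_eq_fibreDimAt f c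
  have hfξη : f ξ = η := hfξ.trans hfc
  have hξmax' : ∀ ξ' : X, ξ' ⤳ ξ → ξ' = ξ := by
    intro ξ' hξ'
    apply hξmax ξ' _ hξ'
    have h1 : f ξ' ⤳ f ξ := hξ'.map f.continuous
    rw [hfξη] at h1 ⊢
    exact hηmax _ h1
  have hξζ : ξ ⤳ ζ := hξc.trans hcζ
  rw [hfd] at hcn
  have e1 : n ≤ m := by exact_mod_cast hcn
  obtain ⟨x₁, -, hx₁ζ, hfx₁, n₁, hn₁, hle⟩ := RestrictedChevalley.rc f ζ ξ hξζ m hm
  have hx₁ := hζmax x₁ hfx₁ hx₁ζ
  subst hx₁
  have e2 : n₁ = n := by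
    have := hn₁.symm.trans hn
    exact_mod_cast this
  have e3 : m = n := by omega
  exact ⟨ξ, n, hξmax', hξζ, hfξη, by rw [hm, e3], hn⟩

/-- the case of an irreducible base. -/
theorem exists_generic_of_isOpenAt [IrreducibleSpace Y] (ζ : X)
    (hζmax : ∀ x₁ : X, f x₁ = f ζ → x₁ ⤳ ζ → x₁ = ζ) (ho : EGA43.IsOpenAt f.base ζ) :
    ∃ (ξ : X) (n : ℕ), (∀ ξ' : X, ξ' ⤳ ξ → ξ' = ξ) ∧ ξ ⤳ ζ ∧ f ξ = genericPoint Y ∧
      @Algebra.trdeg (Y.residueField (f ξ)) (X.residueField ξ) _ _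
        (f.residueFieldMap ξ).hom.toAlgebra = n ∧
      @Algebra.trdeg (Y.residueField (f ζ)) (X.residueField ζ) _ _
        (f.residueFieldMap ζ).hom.toAlgebra = n :=
  exists_maximal_of_isOpenAt f ζ hζmax ho (genericPoint Y) (genericPoint_specializes _)
    (fun η' hη' => (hη'.antisymm (genericPoint_specializes _)).eq)

end Groth.Agent.Helper14.OpenGenericLift
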