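import Mathlib
import Groth.Agent.Lib.Helper14.OpenGenericLift
import Groth.Agent.Lib.Helper14.MaxPoints
import Groth.Agent.Lib.Helper14.SectionComp2
import Groth.Agent.Lib.Helper14.EquidimAtMk
import Groth.Agent.Lib.Helper14.ConstrNhds

/-!
# Constancy of fibre dimensions for open morphisms
-/

namespace Groth.Agent.Helper14.FibreConst
universe u
open TopologicalSpace AlgebraicGeometry CategoryTheory Topology

variable {X Y : Scheme.{u}} (f : X ⟶ Y)

/-- `ζ` is the generic point of an irreducible component of its fibre, of dimension `n`. -/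
def IsGen (ζ : X) (n : ℕ) : Prop :=
  (∀ x₁ : X, f x₁ = f ζ → x₁ ⤳ ζ → x₁ = ζ) ∧
    @Algebra.trdeg (Y.residueField (f ζ)) (X.residueField ζ) _ _
      (f.residueFieldMap ζ).hom.toAlgebra = n

variable [LocallyOfFiniteType f]

theorem IsGen.fibreDimAt_eq {ζ : X} {n : ℕ} (h : IsGen f ζ n) :
    FlatMor.fibreDimAt f ζ = (n : WithBot ℕ∞) :=
  FibreMax.fibreDimAt_eq_of_maximal f ζ h.1 n h.2

omit [LocallyOfFiniteType f] in
theorem IsGen.unique {ζ : X} {n m : ℕ} (h : IsGen f ζ n) (h' : IsGen f ζ m) : n = m := by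
  have := h.2.symm.trans h'.2
  exact_mod_cast this

/-- every point of a fibre has a generization which is generic in the fibre, computing the local
dimension. -/
theorem exists_isGen (x : X) : ∃ (ζ : X) (n : ℕ), ζ ⤳ x ∧ f ζ = f x ∧ IsGen f ζ n ∧
    FlatMor.fibreDimAt f x = (n : WithBot ℕ∞) := by
  obtain ⟨z, n, hzx, hfz, hmax, hn, hfd⟩ := EquidimAt.exists_maximal_trdeg_eq_fibreDimAt f x
  exact ⟨z, n, hzx, hfz, ⟨hmax, hn⟩, hfd⟩

theorem mem_dims_iff (z : Y) (d : WithBot ℕ∞) :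
    d ∈ (fun Z : Set ↥(f.fiber z) => topologicalKrullDim ↥Z) '' irreducibleComponents ↥(f.fiber z) ↔
      ∃ (ζ : X) (n : ℕ), f ζ = z ∧ IsGen f ζ n ∧ d = (n : WithBot ℕ∞) := by
  constructor
  · rintro ⟨Z, hZ, rfl⟩
    obtain ⟨ζ, n, hfζ, hmax, hn, hdim⟩ := FibreMax.exists_of_mem_irreducibleComponents f z Z hZ
    exact ⟨ζ, n, hfζ, ⟨hmax, hn⟩, hdim⟩
  · rintro ⟨ζ, n, hfζ, hg, rfl⟩
    obtain ⟨Z, hZ, hdim⟩ := FibreMax.exists_irreducibleComponent_of_maximal f z ζ hfζ hg.1 n hg.2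
    exact ⟨Z, hZ, hdim⟩

theorem dim_fiber_le (z : Y) (d : WithBot ℕ∞)
    (h : ∀ (ζ : X) (n : ℕ), f ζ = z → IsGen f ζ n → (n : WithBot ℕ∞) ≤ d) :
    topologicalKrullDim ↥(f.fiber z) ≤ d := by
  apply FibreMax.topDim_le_of_irreducibleComponents
  intro Z hZ
  obtain ⟨ζ, n, hfζ, hmax, hn, hdim⟩ := FibreMax.exists_of_mem_irreducibleComponents f z Z hZ
  rw [hdim]
  exact h ζ n hfζ ⟨hmax, hn⟩

theorem le_dim_fiber (z : Y) (ζ : X) (n : ℕ) (hfζ : f ζ = z) (hg : IsGen f ζ n) :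
    (n : WithBot ℕ∞) ≤ topologicalKrullDim ↥(f.fiber z) := by
  obtain ⟨Z, hZ, hdim⟩ := FibreMax.exists_irreducibleComponent_of_maximal f z ζ hfζ hg.1 n hg.2
  rw [← hdim]
  exact topologicalKrullDim_subspace_le _ Z

theorem dim_fiber_eq_bot (z : Y) (h : ∀ x : X, f x ≠ z) : topologicalKrullDim ↥(f.fiber z) = ⊥ := by
  apply le_bot_iff.mp
  apply dim_fiber_le
  intro ζ n hfζ
  exact absurd hfζ (h ζ)

theorem finite_dims [QuasiCompact f] (z : Y) : {n : ℕ | ∃ ζ : X, f ζ = z ∧ IsGen f ζ n}.Finite := by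
  haveI := SectionComp.isLocallyNoetherian_fiber f z
  haveI : QuasiCompact (f.fiberToSpecResidueField z) :=
    MorphismProperty.pullback_snd (P := @QuasiCompact) _ _ inferInstance
  haveI : CompactSpace (f.fiber z) :=
    QuasiCompact.compactSpace_of_compactSpace (f.fiberToSpecResidueField z)
  haveI : IsNoetherian (f.fiber z) := {}
  have hfin : ((fun Z : Set ↥(f.fiber z) => topologicalKrullDim ↥Z) ''
      irreducibleComponents ↥(f.fiber z)).Finite :=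
    (NoetherianSpace.finite_irreducibleComponents (α := ↥(f.fiber z))).image _
  refine (hfin.preimage (f := fun n : ℕ => (n : WithBot ℕ∞)) ?_).subset ?_
  · intro a _ b _ hab
    have hab' : (a : WithBot ℕ∞) = (b : WithBot ℕ∞) := hab
    exact_mod_cast hab'
  · rintro n ⟨ζ, hfζ, hg⟩
    exact (mem_dims_iff f z _).mpr ⟨ζ, n, hfζ, hg, rfl⟩

/-- the dimension of a nonempty quasi-compact fibre is attained. -/
theorem exists_isGen_dim_eq [QuasiCompact f] (z : Y) (hne : ∃ x : X, f x = z) :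
    ∃ (ζ : X) (N : ℕ), f ζ = z ∧ IsGen f ζ N ∧ topologicalKrullDim ↥(f.fiber z) = (N : WithBot ℕ∞) ∧
      ∀ (ζ' : X) (n : ℕ), f ζ' = z → IsGen f ζ' n → n ≤ N := by
  obtain ⟨x, hx⟩ := hne
  obtain ⟨ζ₀, n₀, -, hfζ₀, hg₀, -⟩ := exists_isGen f x
  have hS := finite_dims f z
  have hne : {n : ℕ | ∃ ζ : X, f ζ = z ∧ IsGen f ζ n}.Nonempty := ⟨n₀, ζ₀, hfζ₀.trans hx, hg₀⟩
  obtain ⟨N, ⟨ζ, hfζ, hg⟩, hNmax⟩ := Set.exists_max_image _ id hS hne
  refine ⟨ζ, N, hfζ, hg, le_antisymm ?_ (le_dim_fiber f z ζ N hfζ hg), ?_⟩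
  · apply dim_fiber_le
    intro ζ' n hfζ' hg'
    exact_mod_cast hNmax n ⟨ζ', hfζ', hg'⟩
  · intro ζ' n hfζ' hg'
    exact hNmax n ⟨ζ', hfζ', hg'⟩

variable [IsLocallyNoetherian Y]

/-- lifting a generic point of a fibre component along a maximal generization of the base point. -/
theorem IsGen.exists_over_maximal {ζ : X} {n : ℕ} (hg : IsGen f ζ n) (ho : EGA43.IsOpenAt f.base ζ)
    (η : Y) (hηy : η ⤳ f ζ) (hηmax : ∀ η' : Y, η' ⤳ η → η' = η) :
    ∃ ξ : X, ξ ⤳ ζ ∧ f ξ = η ∧ IsGen f ξ n := by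
  obtain ⟨ξ, m, hξmax, hξζ, hfξ, hm, hm'⟩ :=
    OpenGenericLift.exists_maximal_of_isOpenAt f ζ hg.1 ho η hηy hηmax
  have hmn : m = n := by
    have := hm'.symm.trans hg.2
    exact_mod_cast this
  subst hmn
  exact ⟨ξ, hξζ, hfξ, ⟨fun x₁ _ hx₁ => hξmax x₁ hx₁, hm⟩⟩

/-- near the image of a generic point `x` of a fibre component of dimension `n` at which `f` is
open, every fibre has a component of dimension `n` (meeting any given neighbourhood of `x`). -/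
theorem IsGen.eventually [QuasiCompact f] {x : X} {n : ℕ} (hg : IsGen f x n)
    (ho : EGA43.IsOpenAt f.base x) (U : X.Opens) (hxU : x ∈ U) :
    {z : Y | ∃ ζ : X, ζ ∈ U ∧ f ζ = z ∧ IsGen f ζ n} ∈ 𝓝 (f x) := by
  haveI : IsLocallyNoetherian X := LocallyOfFiniteType.isLocallyNoetherian f
  set A : Set X := (U : Set X) ∩ {x' | FlatMor.fibreDimAt f x' ≤ n} with hAdef
  have hA : IsOpen A := U.2.inter (Groth.Agent.S0402.result f n)
  set B : Set X := {x' | (n : WithBot ℕ∞) ≤ FlatMor.fibreDimAt f x'} with hBdef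
  have hB : IsClosed B := OpenGenericLift.isClosed_le_fibreDimAt f n
  have hx : FlatMor.fibreDimAt f x = n := hg.fibreDimAt_eq
  have hlc : IsLocallyConstructible (f '' (A ∩ B)) :=
    f.isLocallyConstructible_image (ConstrNhds.isLocallyConstructible_of_isOpen_inter_isClosed hA hB)
  have hgen : ∀ η : Y, η ⤳ f x → η ∈ f '' (A ∩ B) := by
    intro η hη
    obtain ⟨c, hcx, hfc, hc⟩ := OpenGenericLift.exists_over_fibreDim_ge f x ho n hg.2 η hη
    exact ⟨c, ⟨hcx.mem_open hA ⟨hxU, hx.le⟩, hc⟩, hfc⟩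
  refine Filter.mem_of_superset (ConstrNhds.mem_nhds_of_isLocallyConstructible hlc (f x) hgen) ?_
  rintro _ ⟨x', ⟨⟨hx'U, h1⟩, h2⟩, rfl⟩
  obtain ⟨ζ, m, hζx', hfζ, hgζ, hfd⟩ := exists_isGen f x'
  have hm : m = n := by
    have h3 : (m : WithBot ℕ∞) = n := hfd.symm.trans (le_antisymm h1 h2)
    exact_mod_cast h3
  subst hm
  exact ⟨ζ, hζx'.mem_open U.2 hx'U, hfζ, hgζ⟩

end Groth.Agent.Helper14.FibreConst

namespace Groth.Agent.Helper14.FibreConst
universe u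
open TopologicalSpace AlgebraicGeometry CategoryTheory Topology

variable {X Y : Scheme.{u}} (f : X ⟶ Y)

/-- generic points of fibre components can be computed on an open subscheme. -/
theorem isGen_opens (U : X.Opens) (ζ : U) (n : ℕ) : IsGen (U.ι ≫ f) ζ n ↔ IsGen f ζ.1 n := by
  have htr := EquidimAt.trdeg_opens f U ζ
  constructor
  · rintro ⟨hmax, hn⟩
    refine ⟨?_, htr.symm.trans hn⟩
    intro x₁ hfx₁ hx₁
    have hx₁U : x₁ ∈ U := hx₁.mem_open U.isOpen ζ.2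
    have h3 : (⟨x₁, hx₁U⟩ : U) ⤳ ζ := (subtype_specializes_iff _ _).mpr hx₁
    have := hmax ⟨x₁, hx₁U⟩ hfx₁ h3
    exact congrArg Subtype.val this
  · rintro ⟨hmax, hn⟩
    refine ⟨?_, htr.trans hn⟩
    intro ζ' hfζ' hζ'
    have h1 : U.ι ζ' ⤳ U.ι ζ := hζ'.map U.ι.continuous
    exact Subtype.ext (hmax _ hfζ' h1)

/-- the part of a fibre lying in an open subscheme is the fibre of the restriction. -/
theorem dim_opens_inter_fibre (U : X.Opens) (z : Y) :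
    topologicalKrullDim ↥((U : Set X) ∩ f ⁻¹' {z}) =
      topologicalKrullDim ↥((U.ι ≫ f).fiber z) := by
  have h1 : Topology.IsEmbedding (fun a : (U.ι ≫ f).fiber z => U.ι ((U.ι ≫ f).fiberι z a)) :=
    U.ι.isEmbedding.comp ((U.ι ≫ f).fiberι z).isEmbedding
  have hr : Set.range (fun a : (U.ι ≫ f).fiber z => U.ι ((U.ι ≫ f).fiberι z a)) =
      (U : Set X) ∩ f ⁻¹' {z} := by
    ext x
    constructor
    · rintro ⟨a, rfl⟩
      refine ⟨((U.ι ≫ f).fiberι z a).2, ?_⟩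
      have : (U.ι ≫ f).fiberι z a ∈ (U.ι ≫ f) ⁻¹' {z} := by
        rw [← (U.ι ≫ f).range_fiberι z]
        exact ⟨a, rfl⟩
      exact this
    · rintro ⟨hxU, hxz⟩
      have : (⟨x, hxU⟩ : U) ∈ Set.range ((U.ι ≫ f).fiberι z) := by
        rw [(U.ι ≫ f).range_fiberι z]
        exact hxz
      obtain ⟨a, ha⟩ := this
      exact ⟨a, congrArg Subtype.val ha⟩
  rw [← hr]
  exact (IsHomeomorph.topologicalKrullDim_eq _ h1.toHomeomorph.isHomeomorph).symm

variable [LocallyOfFiniteType f]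

theorem dim_opens_inter_fibre_le (U : X.Opens) (z : Y) (d : WithBot ℕ∞)
    (h : ∀ (ζ : X) (n : ℕ), ζ ∈ U → f ζ = z → IsGen f ζ n → (n : WithBot ℕ∞) ≤ d) :
    topologicalKrullDim ↥((U : Set X) ∩ f ⁻¹' {z}) ≤ d := by
  rw [dim_opens_inter_fibre]
  apply dim_fiber_le
  intro ζ n hfζ hg
  exact h ζ.1 n ζ.2 hfζ ((isGen_opens f U ζ n).mp hg)

theorem le_dim_opens_inter_fibre (U : X.Opens) (z : Y) (ζ : X) (n : ℕ) (hζU : ζ ∈ U) (hfζ : f ζ = z)
    (hg : IsGen f ζ n) :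
    (n : WithBot ℕ∞) ≤ topologicalKrullDim ↥((U : Set X) ∩ f ⁻¹' {z}) := by
  rw [dim_opens_inter_fibre]
  exact le_dim_fiber (U.ι ≫ f) z ⟨ζ, hζU⟩ n hfζ ((isGen_opens f U ⟨ζ, hζU⟩ n).mpr hg)

end Groth.Agent.Helper14.FibreConst
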