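import Mathlib
import Groth.Agent.Lib.Helper14.EquidimAtMk
import Groth.Agent.Lib.Helper14.ClosedFibreDim
import Groth.Agent.S0402

/-!
# Equidimensionality of the restriction to an irreducible component
-/

namespace Groth.Agent.Helper14.CompEquidim
universe u
open TopologicalSpace AlgebraicGeometry CategoryTheory

variable {X S : Scheme.{u}} (f : X ⟶ S) [LocallyOfFiniteType f]

/-- the local fibre dimension of a closed subscheme is at most that of the ambient scheme. -/
theorem fibreDimAt_subscheme_le (I : X.IdealSheafData) (w : ↥I.subscheme) :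
    FlatMor.fibreDimAt (I.subschemeι ≫ f) w ≤ FlatMor.fibreDimAt f (I.subschemeι w) := by
  obtain ⟨z₁, n, hz₁w, hgz₁, -, hn, hfd⟩ :=
    EquidimAt.exists_maximal_trdeg_eq_fibreDimAt (I.subschemeι ≫ f) w
  rw [hfd]
  apply EquidimAt.trdeg_le_fibreDimAt f (I.subschemeι w) (I.subschemeι z₁)
    (hz₁w.map I.subschemeι.continuous) n
  rw [← ClosedFibreDim.trdeg_subschemeι f I z₁]
  exact hn

/-- **Restriction to an irreducible component**: if the generic point `ξ` of the component maps
to a maximal point of `S`, has residue field of transcendence degree `e`, and the local fibre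
dimension of the component at `w` is at most `e`, then the component is equidimensional over `S`
at `w`. -/
theorem isEquidimAt_component (W : Closeds X) (ξ : X) (hξW : closure {ξ} = (W : Set X))
    (e : ℕ) (hfξ : ∀ η' : S, η' ⤳ f ξ → η' = f ξ)
    (he : @Algebra.trdeg (S.residueField (f ξ)) (X.residueField ξ) _ _
      (f.residueFieldMap ξ).hom.toAlgebra = e)
    (w : ↥(Scheme.IdealSheafData.vanishingIdeal W).subscheme)
    (hw : FlatMor.fibreDimAt ((Scheme.IdealSheafData.vanishingIdeal W).subschemeι ≫ f) w ≤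
      (e : WithBot ℕ∞)) :
    EGA43.IsEquidimAt ((Scheme.IdealSheafData.vanishingIdeal W).subschemeι ≫ f) w := by
  have hrange := ClosedFibreDim.range_subschemeι_vanishingIdeal W
  set ι := (Scheme.IdealSheafData.vanishingIdeal W).subschemeι with hι
  have hind := ι.isEmbedding.isInducing
  obtain ⟨ξ₀, hξ₀⟩ : ξ ∈ Set.range ι := by
    rw [hrange, ← hξW]; exact subset_closure rfl
  have hgen : ∀ w' : ↥(Scheme.IdealSheafData.vanishingIdeal W).subscheme, ξ₀ ⤳ w' := by
    intro w'
    rw [← hind.specializes_iff, hξ₀, specializes_iff_mem_closure, hξW, ← hrange]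
    exact ⟨w', rfl⟩
  have heg : @Algebra.trdeg (S.residueField ((ι ≫ f) ξ₀))
      ((Scheme.IdealSheafData.vanishingIdeal W).subscheme.residueField ξ₀) _ _
      ((ι ≫ f).residueFieldMap ξ₀).hom.toAlgebra = e := by
    rw [ClosedFibreDim.trdeg_subschemeι f _ ξ₀]
    exact RestrictedChevalley.trdeg_eq_of_eq f _ _ hξ₀ _ he
  let U' : (Scheme.IdealSheafData.vanishingIdeal W).subscheme.Opens :=
    ⟨{w' | FlatMor.fibreDimAt (ι ≫ f) w' ≤ (e : WithBot ℕ∞)}, Groth.Agent.S0402.result (ι ≫ f) e⟩
  apply EquidimAt.of_spec (ι ≫ f) w e U' hw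
  · intro ξ' _ hξ'max
    have h1 : ξ₀ = ξ' := hξ'max ξ₀ (hgen ξ')
    subst h1
    have h2 : (ι ≫ f) ξ₀ = f ξ := congrArg f hξ₀
    rw [h2]
    refine ⟨hfξ, ?_⟩
    rw [← h2]
    exact (hgen w).map (ι ≫ f).continuous
  · intro z' hz'U hz'max
    obtain ⟨m, hm⟩ := ResFieldBridge.exists_nat_trdeg_residueField (ι ≫ f) z'
    have h1 : (m : WithBot ℕ∞) ≤ (e : WithBot ℕ∞) := by
      rw [← FibreMax.fibreDimAt_eq_of_maximal (ι ≫ f) z' hz'max m hm]
      exact hz'U
    obtain ⟨x₁, -, hx₁z, hfx₁, n₁, hn₁, hle⟩ :=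
      RestrictedChevalley.rc (ι ≫ f) z' ξ₀ (hgen z') e heg
    have hx₁ := hz'max x₁ hfx₁ hx₁z
    subst hx₁
    have e3 : n₁ = m := by
      have := hn₁.symm.trans hm
      exact_mod_cast this
    have e4 : m ≤ e := by exact_mod_cast h1
    have e5 : m = e := by omega
    rw [hm, e5]

end Groth.Agent.Helper14.CompEquidim
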