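import Mathlib
import Groth.Prelude.Def_Algz
import Groth.Agent.Lib.Helper14.DimFun

/-!
# `codimPt` via a dimension function
-/

namespace Groth.Agent.Helper14.CodimPt
universe u
open TopologicalSpace

variable {Y : Type u} [TopologicalSpace Y] [T0Space Y] (δ : Y → ℤ)
  (hδ : ∀ x y : Y, x ⤳ y → x ≠ y →
    δ y < δ x ∧ ((∀ z : Y, x ⤳ z → z ⤳ y → z = x ∨ z = y) → δ x = δ y + 1))

omit [T0Space Y] in
include hδ in
theorem delta_le_of_specializes (w v : Y) (h : w ⤳ v) : δ v ≤ δ w := by
  by_cases e : w = v
  · rw [e]
  · exact (hδ w v h e).1.le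

include hδ in
/-- the length of a chain of specializations is bounded by the drop of the dimension function -/
theorem length_le (v : Y) (p : LTSeries (Set.Ici (Specialization.toEquiv v))) :
    (p.length : ℤ) ≤ δ (Specialization.ofEquiv p.last.1) - δ v := by
  have key : ∀ (i : ℕ) (hi : i < p.length + 1),
      δ v + i ≤ δ (Specialization.ofEquiv (p ⟨i, hi⟩).1) := by
    intro i
    induction i with
    | zero =>
      intro hi
      simp only [Nat.cast_zero, add_zero]
      have : Specialization.toEquiv v ≤ (p ⟨0, hi⟩).1 := (p ⟨0, hi⟩).2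
      exact delta_le_of_specializes δ hδ _ _ this
    | succ i ih =>
      intro hi
      have h1 := ih (by omega)
      have hlt : p ⟨i, by omega⟩ < p ⟨i + 1, hi⟩ := p.strictMono (by simp [Fin.lt_def])
      have hle : (p ⟨i, by omega⟩).1 ≤ (p ⟨i + 1, hi⟩).1 := hlt.le
      have hne : Specialization.ofEquiv (p ⟨i + 1, hi⟩).1 ≠ Specialization.ofEquiv (p ⟨i, by omega⟩).1 := by
        intro e
        have : (p ⟨i + 1, hi⟩) = (p ⟨i, by omega⟩) := Subtype.ext (Specialization.ofEquiv.injective e)
        exact hlt.ne this.symm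
      have h3 : δ (Specialization.ofEquiv (p ⟨i, by omega⟩).1) <
          δ (Specialization.ofEquiv (p ⟨i + 1, hi⟩).1) := (hδ _ _ hle hne).1
      push_cast
      omega
  have := key p.length (by omega)
  have e : p ⟨p.length, by omega⟩ = p.last := rfl
  rw [e] at this
  omega

include hδ in
theorem codimPt_eq (w v : Y) (h : w ⤳ v) :
    Algz.codimPt w v h = ((δ w - δ v).toNat : ℕ∞) := by
  set W : Set.Ici (Specialization.toEquiv v) :=
    ⟨Specialization.toEquiv w, Specialization.toEquiv_le_toEquiv.mpr h⟩ with hW
  have hle : δ v ≤ δ w := delta_le_of_specializes δ hδ w v h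
  have hbound : Order.height W ≤ ((δ w - δ v).toNat : ℕ∞) := by
    apply Order.height_le
    intro p hp
    have := length_le δ hδ v p
    rw [hp] at this
    have h2 : (p.length : ℤ) ≤ δ w - δ v := this
    have : p.length ≤ (δ w - δ v).toNat := by omega
    exact_mod_cast this
  obtain ⟨n, hn⟩ := ENat.ne_top_iff_exists.mp (ne_top_of_le_ne_top (ENat.natCast_ne_top _) hbound)
  have hcov : ∀ y x : Set.Ici (Specialization.toEquiv v), y ⋖ x →
      (fun a : Set.Ici (Specialization.toEquiv v) => - δ (Specialization.ofEquiv a.1)) y =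
      (fun a : Set.Ici (Specialization.toEquiv v) => - δ (Specialization.ofEquiv a.1)) x + 1 := by
    intro y x hyx
    have hsp : Specialization.ofEquiv x.1 ⤳ Specialization.ofEquiv y.1 := hyx.le
    have hne : Specialization.ofEquiv x.1 ≠ Specialization.ofEquiv y.1 := by
      intro e
      exact hyx.lt.ne (Subtype.ext (Specialization.ofEquiv.injective e)).symm
    have := (hδ _ _ hsp hne).2 ?_
    · simp only
      omega
    · intro z hz1 hz2
      have hvz : Specialization.toEquiv v ≤ Specialization.toEquiv z :=
        le_trans y.2 (show y.1 ≤ Specialization.toEquiv z from hz2)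
      let z' : Set.Ici (Specialization.toEquiv v) := ⟨Specialization.toEquiv z, hvz⟩
      have h1 : y ≤ z' := hz2
      have h2 : z' ≤ x := hz1
      rcases eq_or_lt_of_le h1 with e | hlt1
      · right
        have : y.1 = z'.1 := congrArg Subtype.val e
        exact (congrArg Specialization.ofEquiv this).symm
      · rcases eq_or_lt_of_le h2 with e | hlt2
        · left
          have : z'.1 = x.1 := congrArg Subtype.val e
          exact congrArg Specialization.ofEquiv this
        · exact (hyx.2 hlt1 hlt2).elim
  obtain ⟨y₀, hy₀, hmin, hd⟩ := DimFun.exists_isMin_of_height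
    (fun a : Set.Ici (Specialization.toEquiv v) => - δ (Specialization.ofEquiv a.1)) hcov n W hn.symm
  have hy₀v : y₀ = ⟨Specialization.toEquiv v, Set.mem_Ici.mpr le_rfl⟩ := by
    apply le_antisymm
    · exact hmin (show (⟨Specialization.toEquiv v, Set.mem_Ici.mpr le_rfl⟩ :
        Set.Ici (Specialization.toEquiv v)) ≤ y₀ from y₀.2)
    · exact y₀.2
  rw [hy₀v] at hd
  simp only [hW] at hd
  have hd' : - δ v = - δ w + n := hd
  change Order.height W = _
  rw [← hn]
  have : n = (δ w - δ v).toNat := by omega
  rw [this]

end Groth.Agent.Helper14.CodimPt
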