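import Mathlib
import Groth.Prelude.Def_Algz
import Groth.Agent.Lib.Helper14.EquidimAt
import Groth.Agent.Lib.Helper14.CodimPt
import Groth.Agent.Lib.Helper14.PointwiseDim
import Groth.Agent.Lib.Helper14.OpenGenericLift

/-!
# Chains inside a fibre: `trdeg κ(z) = trdeg κ(x) + dim O_{X,x}/𝔭_z` for `z ⤳ x` in one fibre
-/

namespace Groth.Agent.Helper14.FibreChain
universe u
open TopologicalSpace AlgebraicGeometry CategoryTheory Topology

/-- `codimPt` can only grow along an inducing map. -/
theorem codimPt_le_of_isInducing {F X : Type u} [TopologicalSpace F] [TopologicalSpace X]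
    [T0Space F] [T0Space X]
    (ι : F → X) (hι : IsInducing ι) (w v : F) (h : w ⤳ v) :
    Algz.codimPt w v h ≤ Algz.codimPt (ι w) (ι v) (h.map hι.continuous) := by
  unfold Algz.codimPt
  let φ : Set.Ici (Specialization.toEquiv v) → Set.Ici (Specialization.toEquiv (ι v)) :=
    fun a => ⟨Specialization.toEquiv (ι (Specialization.ofEquiv a.1)), by
      have h1 : Specialization.ofEquiv a.1 ⤳ v := a.2
      exact Specialization.toEquiv_le_toEquiv.mpr (h1.map hι.continuous)⟩
  have hφ : StrictMono φ := by
    intro a b hab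
    have hle : a.1 ≤ b.1 := hab.le
    have hnle : ¬ b.1 ≤ a.1 := fun hba => (not_le_of_gt hab) hba
    have h1 : Specialization.ofEquiv b.1 ⤳ Specialization.ofEquiv a.1 := hle
    rw [lt_iff_le_not_ge]
    constructor
    · exact Specialization.toEquiv_le_toEquiv.mpr (h1.map hι.continuous)
    · intro hba
      apply hnle
      have h2 : ι (Specialization.ofEquiv a.1) ⤳ ι (Specialization.ofEquiv b.1) := hba
      exact hι.specializes_iff.mp h2
  exact Order.height_le_height_apply_of_strictMono φ hφ _

variable {X Y : Scheme.{u}} [IsLocallyNoetherian Y] (f : X ⟶ Y) [LocallyOfFiniteType f]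

/-- **Chains in a fibre**: for `z ⤳ x` in the same fibre, the transcendence degree drops exactly
by `dim O_{X,x}/𝔭_z`. -/
theorem trdeg_eq_add_locQuot (x z : X) (h : z ⤳ x) (hf : f z = f x) (E m : ℕ)
    (hE : @Algebra.trdeg (Y.residueField (f z)) (X.residueField z) _ _
      (f.residueFieldMap z).hom.toAlgebra = E)
    (hm : @Algebra.trdeg (Y.residueField (f x)) (X.residueField x) _ _
      (f.residueFieldMap x).hom.toAlgebra = m) :
    ringKrullDim (Cyc.LocQuot x z h) + (m : WithBot ℕ∞) = (E : WithBot ℕ∞) := by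
  haveI : IsLocallyNoetherian X := LocallyOfFiniteType.isLocallyNoetherian f
  obtain ⟨d, hd, -⟩ := FibreDimIneq.exists_nat_dim_locQuot x z h
  rw [hd]
  -- upper bound from the dimension inequality
  have hPF := (PointwiseDim.formula_aux f x z h m E hm hE).1
  have h0 : ringKrullDim (Cyc.LocQuot (f x) (f z) (h.map f.continuous)) = 0 := by
    have h1 := FibreDimIneq.locQuot_congr (f z) (f x) (f z) hf specializes_rfl
      (h.map f.continuous)
    rw [← h1]
    exact OpenGenericLift.dim_locQuot_self (f z) _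
  rw [hd, h0, zero_add] at hPF
  have e1 : d + m ≤ E := by exact_mod_cast hPF
  -- lower bound from chains in the fibre
  haveI := SectionComp.isLocallyNoetherian_fiber f (f x)
  haveI : LocallyOfFiniteType (f.fiberToSpecResidueField (f x)) :=
    MorphismProperty.pullback_snd _ _ inferInstance
  set a := f.asFiber x with ha
  set ζ := (f.fiberHomeo (f x)).symm ⟨z, hf⟩ with hζ
  have hιa : f.fiberι (f x) a = x := f.fiberι_asFiber x
  have hιζ : f.fiberι (f x) ζ = z := f.fiberι_fiberHomeo_symm _ _
  have hind := (f.fiberι (f x)).isEmbedding.isInducing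
  have hζa : ζ ⤳ a := by
    rw [← hind.specializes_iff, hιa, hιζ]; exact h
  have hδ := DimClosure.isDimFun_trdegFun (Y.residueField (f x)) (f.fiberToSpecResidueField (f x))
  have h1 : DimClosure.trdegFun (f.fiberToSpecResidueField (f x)) a = m := by
    apply DimClosure.trdegFun_eq
    rw [← FibreComp.trdeg_fibre f (f x) a]
    exact RestrictedChevalley.trdeg_eq_of_eq f _ _ hιa _ hm
  have h2 : DimClosure.trdegFun (f.fiberToSpecResidueField (f x)) ζ = E := by
    apply DimClosure.trdegFun_eq
    rw [← FibreComp.trdeg_fibre f (f x) ζ]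
    exact RestrictedChevalley.trdeg_eq_of_eq f _ _ hιζ _ hE
  have hcod := CodimPt.codimPt_eq _ hδ ζ a hζa
  rw [h1, h2] at hcod
  have htrans := codimPt_le_of_isInducing (f.fiberι (f x)) hind ζ a hζa
  have hcod' : Algz.codimPt z x h = Algz.codimPt (f.fiberι (f x) ζ) (f.fiberι (f x) a)
      (hζa.map hind.continuous) := DeltaZ.codimPt_congr hιζ.symm hιa.symm _ _
  have hstalk := DeltaZ.codimPt_le_ringKrullDim_stalk X z x h
    ⟨RingHom.ker (Cyc.specMap x z h), RingHom.ker_isPrime _⟩ (FibreClosure.fromSpecStalk_ker x z h)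
  have hstalk' : ((Algz.codimPt z x h : ℕ∞) : WithBot ℕ∞) ≤ (d : WithBot ℕ∞) := by
    rw [← hd]; exact hstalk
  rw [hcod', ] at hstalk'
  have h3 : (((E : ℤ) - (m : ℤ)).toNat : ℕ∞) ≤ (d : ℕ∞) := by
    rw [← hcod]
    exact htrans.trans (by exact_mod_cast hstalk')
  have e2 : ((E : ℤ) - (m : ℤ)).toNat ≤ d := by exact_mod_cast h3
  have e3 : E = d + m := by omega
  rw [e3]
  push_cast
  rfl

end Groth.Agent.Helper14.FibreChain
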