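import Mathlib
import Groth.Prelude.Def_Cyc
import Groth.Agent.Lib.Helper14.LocQuotDim
import Groth.Agent.Lib.Helper14.OpenGenericLift

/-!
# Zero loci of global sections and Krull's principal ideal theorem
-/

namespace Groth.Agent.Helper14.ZeroLocusPIT
universe u
open TopologicalSpace AlgebraicGeometry CategoryTheory Topology

variable {X : Scheme.{u}} (g : Γ(X, ⊤))

/-- membership in the zero locus in an affine chart. -/
theorem mem_zeroLocus_iff_mem_primeIdealOf {U : X.Opens} (hU : IsAffineOpen U) (z : X)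
    (hz : z ∈ U) :
    z ∈ X.zeroLocus ({g} : Set Γ(X, ⊤)) ↔
      X.presheaf.map (homOfLE (le_top : U ≤ ⊤)).op g ∈ (hU.primeIdealOf ⟨z, hz⟩).asIdeal := by
  rw [Scheme.mem_zeroLocus_iff]
  simp only [Set.mem_singleton_iff, forall_eq]
  rw [← ResFieldBridge.ker_evaluation hU z hz, RingHom.mem_ker,
    X.evaluation_eq_zero_iff_notMem_basicOpen z hz, Scheme.basicOpen_res]
  constructor
  · intro h h'
    exact h h'.2
  · intro h h'
    exact h ⟨hz, h'⟩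

variable [IsLocallyNoetherian X]

/-- **Principal ideal theorem, I**: a maximal point of the zero locus of `g` has a local ring of
dimension at most one. -/
theorem ringKrullDim_stalk_le_one (ξ : X) (hξ : ξ ∈ X.zeroLocus ({g} : Set Γ(X, ⊤)))
    (hmax : ∀ z' : X, z' ∈ X.zeroLocus ({g} : Set Γ(X, ⊤)) → z' ⤳ ξ → z' = ξ) :
    ringKrullDim (X.presheaf.stalk ξ) ≤ 1 := by
  obtain ⟨U, hU, hξU, -⟩ := exists_isAffineOpen_mem_and_subset (x := ξ)
    (U := (⊤ : X.Opens)) trivial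
  haveI : IsNoetherianRing Γ(X, U) := IsLocallyNoetherian.component_noetherian ⟨U, hU⟩
  set gU := X.presheaf.map (homOfLE (le_top : U ≤ ⊤)).op g with hgU
  rw [ResFieldBridge.ringKrullDim_stalk hU ξ hξU]
  have hmin : (hU.primeIdealOf ⟨ξ, hξU⟩).asIdeal ∈ (Ideal.span {gU}).minimalPrimes := by
    refine ⟨⟨(hU.primeIdealOf ⟨ξ, hξU⟩).isPrime, ?_⟩, ?_⟩
    · rw [Ideal.span_singleton_le_iff_mem]
      exact (mem_zeroLocus_iff_mem_primeIdealOf g hU ξ hξU).mp hξ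
    · intro 𝔮' h𝔮' hle
      haveI := h𝔮'.1
      set z' := hU.fromSpec ⟨𝔮', h𝔮'.1⟩ with hz'
      have hz'U : z' ∈ U := ResFieldBridge.fromSpec_mem hU _
      have hprime : hU.primeIdealOf ⟨z', hz'U⟩ = ⟨𝔮', h𝔮'.1⟩ :=
        ResFieldBridge.primeIdealOf_fromSpec hU _
      have hz'T : z' ∈ X.zeroLocus ({g} : Set Γ(X, ⊤)) := by
        rw [mem_zeroLocus_iff_mem_primeIdealOf g hU z' hz'U, hprime]
        exact (Ideal.span_singleton_le_iff_mem _).mp h𝔮'.2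
      have hsp : z' ⤳ ξ := by
        have e1 : hU.fromSpec (hU.primeIdealOf ⟨ξ, hξU⟩) = ξ := hU.fromSpec_primeIdealOf ⟨ξ, hξU⟩
        rw [← e1, hz', ResFieldBridge.specializes_fromSpec_iff]
        exact hle
      have h1 := hmax z' hz'T hsp
      have h2 : hU.primeIdealOf ⟨ξ, hξU⟩ = ⟨𝔮', h𝔮'.1⟩ := by
        rw [← hprime]
        congr 1
        exact Subtype.ext h1.symm
      rw [h2]
  have := Ideal.height_le_one_of_isPrincipal_of_mem_minimalPrimes _ _ hmin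
  exact_mod_cast this

/-- **Principal ideal theorem, II**: between a point `z₀` outside the zero locus of `g` and a
specialization `x` of it inside, there is a point `z` of the zero locus with
`dim O_{X,z}/𝔭_{z₀} = 1`. -/
theorem exists_between (x z₀ : X) (h : z₀ ⤳ x) (hx : x ∈ X.zeroLocus ({g} : Set Γ(X, ⊤)))
    (hz₀ : z₀ ∉ X.zeroLocus ({g} : Set Γ(X, ⊤))) :
    ∃ (z : X) (hz₀z : z₀ ⤳ z), z ⤳ x ∧ z ∈ X.zeroLocus ({g} : Set Γ(X, ⊤)) ∧
      ringKrullDim (Cyc.LocQuot z z₀ hz₀z) = 1 := by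
  obtain ⟨U, hU, hxU, -⟩ := exists_isAffineOpen_mem_and_subset (x := x)
    (U := (⊤ : X.Opens)) trivial
  haveI : IsNoetherianRing Γ(X, U) := IsLocallyNoetherian.component_noetherian ⟨U, hU⟩
  have hz₀U : z₀ ∈ U := h.mem_open U.isOpen hxU
  set gU := X.presheaf.map (homOfLE (le_top : U ≤ ⊤)).op g with hgU
  set q₀ := hU.primeIdealOf ⟨z₀, hz₀U⟩ with hq₀
  set qx := hU.primeIdealOf ⟨x, hxU⟩ with hqx
  haveI : q₀.asIdeal.IsPrime := q₀.isPrime
  haveI : qx.asIdeal.IsPrime := qx.isPrime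
  have hgx : gU ∈ qx.asIdeal := (mem_zeroLocus_iff_mem_primeIdealOf g hU x hxU).mp hx
  have hg₀ : gU ∉ q₀.asIdeal := fun hh => hz₀ ((mem_zeroLocus_iff_mem_primeIdealOf g hU z₀ hz₀U).mpr hh)
  have hq₀x : q₀ ≤ qx := by
    rw [← ResFieldBridge.specializes_fromSpec_iff hU, hU.fromSpec_primeIdealOf ⟨z₀, hz₀U⟩,
      hU.fromSpec_primeIdealOf ⟨x, hxU⟩]
    exact h
  have hle : q₀.asIdeal ⊔ Ideal.span {gU} ≤ qx.asIdeal :=
    sup_le hq₀x ((Ideal.span_singleton_le_iff_mem _).mpr hgx)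
  obtain ⟨𝔮, h𝔮min, h𝔮x⟩ := Ideal.exists_minimalPrimes_le hle
  haveI := h𝔮min.1.1
  set z := hU.fromSpec ⟨𝔮, h𝔮min.1.1⟩ with hz
  have hzU : z ∈ U := ResFieldBridge.fromSpec_mem hU _
  have hprime : hU.primeIdealOf ⟨z, hzU⟩ = ⟨𝔮, h𝔮min.1.1⟩ :=
    ResFieldBridge.primeIdealOf_fromSpec hU _
  have hq₀𝔮 : q₀.asIdeal ≤ 𝔮 := le_sup_left.trans h𝔮min.1.2
  have hg𝔮 : gU ∈ 𝔮 := h𝔮min.1.2 (Ideal.mem_sup_right (Ideal.mem_span_singleton_self gU))
  have hz₀z : z₀ ⤳ z := by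
    have e1 : hU.fromSpec q₀ = z₀ := hU.fromSpec_primeIdealOf ⟨z₀, hz₀U⟩
    rw [← e1, hz, ResFieldBridge.specializes_fromSpec_iff]
    exact hq₀𝔮
  have hzx : z ⤳ x := by
    have e1 : hU.fromSpec qx = x := hU.fromSpec_primeIdealOf ⟨x, hxU⟩
    rw [← e1, hz, ResFieldBridge.specializes_fromSpec_iff]
    exact h𝔮x
  have hzT : z ∈ X.zeroLocus ({g} : Set Γ(X, ⊤)) := by
    rw [mem_zeroLocus_iff_mem_primeIdealOf g hU z hzU, hprime]
    exact hg𝔮
  refine ⟨z, hz₀z, hzx, hzT, ?_⟩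
  apply le_antisymm
  · rw [LocQuotDim.ringKrullDim_locQuot hU z z₀ hzU hz₀U hz₀z, hprime]
    have := Ideal.map_height_le_one_of_mem_minimalPrimes h𝔮min
    exact_mod_cast this
  · apply OpenGenericLift.one_le_dim_locQuot
    intro e
    rw [e] at hz₀
    exact hz₀ hzT

end Groth.Agent.Helper14.ZeroLocusPIT
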