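import Mathlib
import Groth.Agent.Lib.Helper14.FibreConst
import Groth.Agent.Lib.Helper14.ClosedFibreDim
import Groth.Agent.Lib.Helper15.FibDim0
import Groth.Agent.Lib.Helper15.SchReduced
import Groth.Agent.S5924
import Groth.Agent.S5925

/-!
# Quasi-sections through points closed in their fibre
-/

namespace Groth.Agent.Helper14.QuasiSection
universe u
open TopologicalSpace AlgebraicGeometry CategoryTheory Topology

variable {X Y : Scheme.{u}} (f : X ⟶ Y) [LocallyOfFiniteType f]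

/-- local fibre dimensions can be computed on an open subscheme. -/
theorem fibreDimAt_opens (U : X.Opens) (u : U) :
    FlatMor.fibreDimAt (U.ι ≫ f) u = FlatMor.fibreDimAt f u.1 := by
  apply le_antisymm
  · obtain ⟨ζ, n, hζu, -, hg, hfd⟩ := FibreConst.exists_isGen (U.ι ≫ f) u
    rw [hfd]
    have hg' := (FibreConst.isGen_opens f U ζ n).mp hg
    exact EquidimAt.trdeg_le_fibreDimAt f u.1 ζ.1 (hζu.map U.ι.continuous) n hg'.2
  · obtain ⟨ζ, n, hζu, -, hg, hfd⟩ := FibreConst.exists_isGen f u.1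
    rw [hfd]
    have hζU : ζ ∈ U := hζu.mem_open U.isOpen u.2
    have hg' := (FibreConst.isGen_opens f U ⟨ζ, hζU⟩ n).mpr hg
    exact EquidimAt.trdeg_le_fibreDimAt (U.ι ≫ f) u ⟨ζ, hζU⟩
      ((subtype_specializes_iff _ _).mpr hζu) n hg'.2

/-- equidimensionality at a point passes to open subschemes. -/
theorem isEquidimAt_opens (U : X.Opens) (x : X) (hxU : x ∈ U) (h : EGA43.IsEquidimAt f x) :
    EGA43.IsEquidimAt (U.ι ≫ f) ⟨x, hxU⟩ := by
  obtain ⟨e, U₀, hxU₀, h1, h2, -⟩ := EquidimAt.spec f h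
  refine EquidimAt.of_spec (U.ι ≫ f) ⟨x, hxU⟩ e (U.ι ⁻¹ᵁ U₀) hxU₀ ?_ ?_
  · intro ξ hξ hξmax
    have hmax : ∀ ξ' : X, ξ' ⤳ ξ.1 → ξ' = ξ.1 := by
      intro ξ' hξ'
      have hξ'U : ξ' ∈ U := hξ'.mem_open U.isOpen ξ.2
      have h3 : (⟨ξ', hξ'U⟩ : U) ⤳ ξ := (subtype_specializes_iff _ _).mpr hξ'
      exact congrArg Subtype.val (hξmax _ h3)
    exact h1 ξ.1 hξ hmax
  · intro z hz hzmax
    obtain ⟨n, hn⟩ := ResFieldBridge.exists_nat_trdeg_residueField (U.ι ≫ f) z
    have hg : FibreConst.IsGen (U.ι ≫ f) z n := ⟨hzmax, hn⟩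
    have hg' := (FibreConst.isGen_opens f U z n).mp hg
    have := h2 z.1 hz hg'.1
    rw [hn]
    exact hg'.2.symm.trans this

/-- a morphism locally of finite type all of whose fibres have local dimension zero everywhere is
locally quasi-finite. -/
theorem locallyQuasiFinite_of_fibreDimAt_eq_zero (h : ∀ x : X, FlatMor.fibreDimAt f x = 0) :
    LocallyQuasiFinite f := by
  rw [locallyQuasiFinite_iff_isDiscrete_preimage_singleton]
  intro y
  have key : ∀ (x : X) (y : Y) (hxy : f x = y),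
      IsOpen ({(f.fiberHomeo y).symm ⟨x, hxy⟩} : Set ↥(f.fiber y)) := by
    intro x y hxy
    subst hxy
    have h2 := (Groth.Agent.Helper15.FibDim.fibreDimAt_eq_zero_iff_quasiFiniteAt f x).mp (h _)
    rw [Scheme.Hom.quasiFiniteAt_iff_isOpen_singleton_asFiber] at h2
    have h3 : (f.fiberHomeo (f x)).symm ⟨x, rfl⟩ = f.asFiber x := by
      apply (f.fiberι _).isEmbedding.injective
      rw [f.fiberι_asFiber, f.fiberι_fiberHomeo_symm]
    rwa [h3]
  have hd : DiscreteTopology ↥(f.fiber y) := by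
    rw [discreteTopology_iff_isOpen_singleton]
    intro z
    have h1 : f (f.fiberι y z) = y := (f.fiberHomeo y z).2
    have h4 := key (f.fiberι y z) y h1
    have h5 : (f.fiberHomeo y).symm ⟨f.fiberι y z, h1⟩ = z := by
      apply (f.fiberι _).isEmbedding.injective
      rw [f.fiberι_fiberHomeo_symm]
    rwa [h5] at h4
  rw [isDiscrete_iff_discreteTopology]
  exact (f.fiberHomeo y).symm.isEmbedding.discreteTopology

/-- a point closed in its fibre has residue field algebraic over that of its image. -/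
theorem trdeg_eq_zero_of_closed (x : X) (hcl : ∀ x' : X, f x' = f x → x ⤳ x' → x' = x) (n : ℕ)
    (hn : @Algebra.trdeg (Y.residueField (f x)) (X.residueField x) _ _
      (f.residueFieldMap x).hom.toAlgebra = n) : n = 0 := by
  have hdim := EquidimAt.topDim_closure_asFiber f x n hn
  have hcl' : closure ({f.asFiber x} : Set (f.fiber (f x))) = {f.asFiber x} := by
    apply Set.Subset.antisymm
    · intro ζ hζ
      have h1 : f.asFiber x ⤳ ζ := specializes_iff_mem_closure.mpr hζ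
      have h2 := h1.map (f.fiberι (f x)).continuous
      rw [f.fiberι_asFiber] at h2
      have h3 := hcl _ ((f.fiberHomeo _ ζ).2) h2
      apply (f.fiberι _).isEmbedding.injective
      rw [f.fiberι_asFiber]
      exact h3
    · exact subset_closure
  rw [hcl'] at hdim
  haveI : Subsingleton (({f.asFiber x} : Set (f.fiber (f x)))) :=
    ⟨fun a b => Subtype.ext (a.2.trans b.2.symm)⟩
  haveI : DiscreteTopology (({f.asFiber x} : Set (f.fiber (f x)))) := Subsingleton.discreteTopology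
  have h0 := topologicalKrullDim_zero_of_discreteTopology (({f.asFiber x} : Set (f.fiber (f x))))
  rw [hdim] at h0
  have : (n : WithBot ℕ∞) ≤ ((0 : ℕ) : WithBot ℕ∞) := h0
  have h1 : n ≤ 0 := by exact_mod_cast this
  omega

variable [IrreducibleSpace Y] [IsLocallyNoetherian Y]

/-- **Quasi-sections, base case**: the point is both closed and maximal in its fibre. -/
theorem exists_of_maximal (x : X) (hf : EGA43.IsEquidimAt f x)
    (hcl : ∀ x' : X, f x' = f x → x ⤳ x' → x' = x)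
    (hmax : ∀ x' : X, f x' = f x → x' ⤳ x → x' = x) :
    ∃ (T : Scheme.{u}) (i : T ⟶ X), IsImmersion i ∧ IrreducibleSpace ↥T ∧ IsReduced T ∧
      x ∈ Set.range i ∧ LocallyOfFiniteType (i ≫ f) ∧ LocallyQuasiFinite (i ≫ f) ∧
      QuasiCompact (i ≫ f) ∧ IsDominant (i ≫ f) := by
  haveI : IsLocallyNoetherian X := LocallyOfFiniteType.isLocallyNoetherian f
  obtain ⟨e, U₀, hxU₀, h1, h2, h3⟩ := EquidimAt.spec f hf
  have he : e = 0 := trdeg_eq_zero_of_closed f x hcl e (h2 x hxU₀ hmax)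
  subst he
  obtain ⟨U', hU', hxU', hU'U₀⟩ :=
    exists_isAffineOpen_mem_and_subset (X := X) (x := x) (U := U₀) hxU₀
  obtain ⟨ξ, hξmax, hξx⟩ := MaxPoints.exists_maximal_specializes x
  have hξU' : ξ ∈ U' := hξx.mem_open U'.isOpen hxU'
  let Z : Closeds (U' : Scheme.{u}) := ⟨closure {(⟨ξ, hξU'⟩ : (U' : Scheme.{u}))}, isClosed_closure⟩
  have hrange : Set.range (Scheme.IdealSheafData.vanishingIdeal Z).subschemeι = (Z : Set (U' : Scheme.{u})) :=
    ClosedFibreDim.range_subschemeι_vanishingIdeal Z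
  have hN : IsNoetherianRing Γ(X, U') := IsLocallyNoetherian.component_noetherian ⟨U', hU'⟩
  haveI : NoetherianSpace (U' : Scheme.{u}) := by
    have e := hU'.isoSpec
    have h1 : NoetherianSpace (Spec Γ(X, U')) := inferInstanceAs (NoetherianSpace (PrimeSpectrum _))
    exact (noetherianSpace_iff_of_homeomorph e.hom.homeomorph).2 h1
  haveI : NoetherianSpace ↥(Scheme.IdealSheafData.vanishingIdeal Z).subscheme :=
    (Scheme.IdealSheafData.vanishingIdeal Z).subschemeι.isEmbedding.isInducing.noetherianSpace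
  haveI hlqf : LocallyQuasiFinite (U'.ι ≫ f) := by
    apply locallyQuasiFinite_of_fibreDimAt_eq_zero
    intro u
    rw [fibreDimAt_opens]
    exact_mod_cast h3 u.1 (hU'U₀ u.2)
  have hassoc : ((Scheme.IdealSheafData.vanishingIdeal Z).subschemeι ≫ U'.ι) ≫ f =
      (Scheme.IdealSheafData.vanishingIdeal Z).subschemeι ≫ (U'.ι ≫ f) := Category.assoc _ _ _
  refine ⟨(Scheme.IdealSheafData.vanishingIdeal Z).subscheme,
    (Scheme.IdealSheafData.vanishingIdeal Z).subschemeι ≫ U'.ι, inferInstance, ?_, inferInstance, ?_,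
    inferInstance, ?_, inferInstance, ?_⟩
  · rw [irreducibleSpace_def]
    apply SectionComp.isIrreducible_of_image _
      (Scheme.IdealSheafData.vanishingIdeal Z).subschemeι.isEmbedding.isInducing
    rw [Set.top_eq_univ, Set.image_univ, hrange]
    exact isIrreducible_singleton.closure
  · have hxZ : (⟨x, hxU'⟩ : (U' : Scheme.{u})) ∈ (Z : Set (U' : Scheme.{u})) := by
      change (⟨x, hxU'⟩ : ↥U') ∈ closure {(⟨ξ, hξU'⟩ : ↥U')}
      rw [← specializes_iff_mem_closure]
      exact (subtype_specializes_iff _ _).mpr hξx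
    rw [← hrange] at hxZ
    obtain ⟨t, ht⟩ := hxZ
    exact ⟨t, by rw [Scheme.Hom.comp_apply, ht]; rfl⟩
  · rw [hassoc]
    infer_instance
  · have hξZ : (⟨ξ, hξU'⟩ : (U' : Scheme.{u})) ∈ (Z : Set (U' : Scheme.{u})) := subset_closure rfl
    rw [← hrange] at hξZ
    obtain ⟨t, ht⟩ := hξZ
    have hft : (((Scheme.IdealSheafData.vanishingIdeal Z).subschemeι ≫ U'.ι) ≫ f) t = f ξ := by
      rw [Scheme.Hom.comp_apply, Scheme.Hom.comp_apply, ht]
      rfl
    have hgen : f ξ = genericPoint Y :=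
      FibreClosure.eq_genericPoint_of_maximal (f ξ) (h1 ξ (hU'U₀ hξU') hξmax).1
    refine ⟨?_⟩
    rw [denseRange_iff_closure_range, ← Set.univ_subset_iff, ← genericPoint_closure]
    apply closure_mono
    rintro _ rfl
    exact ⟨t, hft.trans hgen⟩

/-- **Quasi-sections, inductive step**: cutting with a hypersurface through `x`. -/
theorem exists_step (x : X) (hf : EGA43.IsEquidimAt f x)
    (hnm : ∃ x' : X, f x' = f x ∧ x' ≠ x ∧ x' ⤳ x) (n : ℕ) (hn : FlatMor.fibreDimAt f x = n) :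
    ∃ (X' : Scheme.{u}) (j : X' ⟶ X) (w : X') (m : ℕ), IsImmersion j ∧ j w = x ∧
      EGA43.IsEquidimAt (j ≫ f) w ∧ FlatMor.fibreDimAt (j ≫ f) w = m ∧ m + 1 = n := by
  obtain ⟨x', hfx', hne, hx'⟩ := hnm
  obtain ⟨U, hU, hxU, g, hgx, hg⟩ := Groth.Agent.S5924.result f x hf
    ⟨x', hfx', hne, specializes_iff_mem_closure.mp hx'⟩
  let xU : (U : Scheme.{u}) := ⟨x, hxU⟩
  let g' : Γ((U : Scheme.{u}), ⊤) := (U.ι.appLE U ⊤ U.ι_preimage_self.ge).hom g
  have hbo : ∀ z : (U : Scheme.{u}), z ∈ (U : Scheme.{u}).basicOpen g' ↔ z.1 ∈ X.basicOpen g := by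
    intro z
    have h1 := Scheme.basicOpen_appLE U.ι ⊤ U U.ι_preimage_self.ge g
    have h2 : (U : Scheme.{u}).basicOpen g' = ⊤ ⊓ U.ι ⁻¹ᵁ X.basicOpen g := h1
    rw [h2]
    constructor
    · rintro ⟨-, h⟩
      exact h
    · intro h
      exact ⟨trivial, h⟩
  have hfU := isEquidimAt_opens f U x hxU hf
  have hgx' : xU ∈ (U : Scheme.{u}).zeroLocus ({g'} : Set Γ((U : Scheme.{u}), ⊤)) := by
    rw [Scheme.mem_zeroLocus_iff]
    intro s hs
    rw [Set.mem_singleton_iff.mp hs, hbo]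
    exact hgx
  have hmax' : ∀ z : (U : Scheme.{u}), (U.ι ≫ f) z = (U.ι ≫ f) xU →
      (∀ z' : (U : Scheme.{u}), (U.ι ≫ f) z' = (U.ι ≫ f) xU → z ∈ closure ({z'} : Set _) → z' = z) →
      z ∉ (U : Scheme.{u}).zeroLocus ({g'} : Set Γ((U : Scheme.{u}), ⊤)) := by
    intro z hfz hzmax hz
    rw [Scheme.mem_zeroLocus_iff] at hz
    apply hz g' rfl
    rw [hbo]
    refine hg z.1 hfz ?_ z.2
    intro z' hfz' hz'
    have hsp : z' ⤳ z.1 := specializes_iff_mem_closure.mpr hz'
    have hz'U : z' ∈ U := hsp.mem_open U.isOpen z.2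
    have := hzmax ⟨z', hz'U⟩ hfz'
      (specializes_iff_mem_closure.mp ((subtype_specializes_iff _ _).mpr hsp))
    exact congrArg Subtype.val this
  obtain ⟨hA, hB, -⟩ := Groth.Agent.S5925.result (U.ι ≫ f) xU hfU g' hgx' hmax'
  set T : Closeds (U : Scheme.{u}) :=
    ⟨(U : Scheme.{u}).zeroLocus ({g'} : Set Γ((U : Scheme.{u}), ⊤)),
      (U : Scheme.{u}).zeroLocus_isClosed _⟩ with hT
  have hrange := ClosedFibreDim.range_subschemeι_vanishingIdeal T
  obtain ⟨w, hw⟩ : xU ∈ Set.range (Scheme.IdealSheafData.vanishingIdeal T).subschemeι := by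
    rw [hrange]
    exact hgx'
  have hEq := hA w hw
  have hfd : ∀ (p : (U : Scheme.{u})) (hp : (Scheme.IdealSheafData.vanishingIdeal T).subschemeι w = p)
      (hmem : p ∈ (T : Set (U : Scheme.{u})) ∩ (U.ι ≫ f) ⁻¹' {(U.ι ≫ f) xU}),
      FlatMor.localDim ↥((T : Set (U : Scheme.{u})) ∩ (U.ι ≫ f) ⁻¹' {(U.ι ≫ f) xU}) ⟨p, hmem⟩ =
        FlatMor.fibreDimAt ((Scheme.IdealSheafData.vanishingIdeal T).subschemeι ≫ (U.ι ≫ f)) w := by
    rintro p rfl hmem
    exact ClosedFibreDim.localDim_inter_fibre_eq (U.ι ≫ f) T w _ hmem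
  have hfd' := hfd xU hw ⟨hgx', rfl⟩
  obtain ⟨-, m, -, -, -, hm⟩ :=
    FibreConst.exists_isGen ((Scheme.IdealSheafData.vanishingIdeal T).subschemeι ≫ (U.ι ≫ f)) w
  have hB' : FlatMor.fibreDimAt ((Scheme.IdealSheafData.vanishingIdeal T).subschemeι ≫ (U.ι ≫ f)) w + 1 =
      FlatMor.fibreDimAt (U.ι ≫ f) xU := by
    rw [← hfd']
    exact hB
  rw [fibreDimAt_opens f U xU, hn, hm] at hB'
  have hassoc : ((Scheme.IdealSheafData.vanishingIdeal T).subschemeι ≫ U.ι) ≫ f =
      (Scheme.IdealSheafData.vanishingIdeal T).subschemeι ≫ (U.ι ≫ f) := Category.assoc _ _ _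
  refine ⟨(Scheme.IdealSheafData.vanishingIdeal T).subscheme,
    (Scheme.IdealSheafData.vanishingIdeal T).subschemeι ≫ U.ι, w, m, inferInstance, ?_, ?_, ?_, ?_⟩
  · rw [Scheme.Hom.comp_apply, hw]
    rfl
  · rw [hassoc]
    exact hEq
  · rw [hassoc]
    exact hm
  · exact_mod_cast hB'

/-- **Quasi-sections** through a point closed in its fibre at which the morphism is
equidimensional. -/
theorem exists_quasiSection : ∀ (n : ℕ) (X : Scheme.{u}) (f : X ⟶ Y) [LocallyOfFiniteType f] (x : X),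
    EGA43.IsEquidimAt f x → (∀ x' : X, f x' = f x → x ⤳ x' → x' = x) →
    FlatMor.fibreDimAt f x = n →
    ∃ (T : Scheme.{u}) (i : T ⟶ X), IsImmersion i ∧ IrreducibleSpace ↥T ∧ IsReduced T ∧
      x ∈ Set.range i ∧ LocallyOfFiniteType (i ≫ f) ∧ LocallyQuasiFinite (i ≫ f) ∧
      QuasiCompact (i ≫ f) ∧ IsDominant (i ≫ f) := by
  intro n
  induction n using Nat.strong_induction_on with
  | _ n ih =>
    intro X f _ x hf hcl hn
    by_cases hmax : ∀ x' : X, f x' = f x → x' ⤳ x → x' = x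
    · exact exists_of_maximal f x hf hcl hmax
    · push Not at hmax
      obtain ⟨x', hfx', hx'x, hne⟩ := hmax
      obtain ⟨X', j, w, m, hj, hjw, hEq, hm, hmn⟩ := exists_step f x hf ⟨x', hfx', hne, hx'x⟩ n hn
      have hclw : ∀ w' : X', (j ≫ f) w' = (j ≫ f) w → w ⤳ w' → w' = w := by
        intro w' hfw' hww'
        have h1 : j w ⤳ j w' := hww'.map j.continuous
        rw [hjw] at h1
        have h2 : f (j w') = f x := by
          have : f (j w') = f (j w) := hfw'
          rw [this, hjw]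
        have h3 := hcl (j w') h2 h1
        apply j.isEmbedding.injective
        rw [h3, hjw]
      obtain ⟨T, i, hi, hirr, hred, hxT, h1, h2, h3, h4⟩ :=
        ih m (by omega) X' (j ≫ f) w hEq hclw hm
      have hassoc : (i ≫ j) ≫ f = i ≫ (j ≫ f) := Category.assoc _ _ _
      refine ⟨T, i ≫ j, inferInstance, hirr, hred, ?_, ?_, ?_, ?_, ?_⟩
      · obtain ⟨t, ht⟩ := hxT
        exact ⟨t, by rw [Scheme.Hom.comp_apply, ht, hjw]⟩
      · rw [hassoc]; exact h1
      · rw [hassoc]; exact h2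
      · rw [hassoc]; exact h3
      · rw [hassoc]; exact h4

end Groth.Agent.Helper14.QuasiSection
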