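import Mathlib
import Groth.Agent.S9683
import Groth.Agent.Lib.Helper14.ConsDim
import Groth.Agent.Lib.Helper14.QuasiSection

/-!
# Finite schemes over a field are those of dimension `≤ 0`
-/

set_option autoImplicit false
universe u
open AlgebraicGeometry CategoryTheory CategoryTheory.Limits TopologicalSpace Topology

namespace Groth.Agent.Helper14.ConsFin

variable {Y T : Scheme.{u}}

theorem dim_le_zero_of_subsingleton (T : Type*) [TopologicalSpace T] [Subsingleton T] :
    topologicalKrullDim T ≤ 0 := by
  haveI : Subsingleton (IrreducibleCloseds T) := by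
    constructor
    intro a b
    apply IrreducibleCloseds.ext
    obtain ⟨x, hx⟩ := a.isIrreducible.nonempty
    obtain ⟨y, hy⟩ := b.isIrreducible.nonempty
    ext z
    have h1 : z = x := Subsingleton.elim _ _
    have h2 : z = y := Subsingleton.elim _ _
    constructor
    · intro _; rw [h2]; exact hy
    · intro _; rw [h1]; exact hx
  exact Order.krullDim_nonpos_of_subsingleton

/-- the ring of global functions of a one-point integral scheme is a field -/
theorem isField_Γ_of_subsingleton (T : Scheme.{u}) [IsIntegral T] [Subsingleton T] :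
    IsField Γ(T, ⊤) := by
  haveI : IsAffine T := inferInstance
  haveI : Nonempty ↥(⊤ : T.Opens) := by
    obtain ⟨x⟩ : Nonempty T := inferInstance
    exact ⟨⟨x, trivial⟩⟩
  haveI : IsDomain Γ(T, ⊤) := inferInstance
  haveI : Subsingleton (PrimeSpectrum Γ(T, ⊤)) :=
    (T.isoSpec.inv.homeomorph.injective).subsingleton
  rw [Ring.isField_iff_maximal_bot]
  obtain ⟨m, hm⟩ := Ideal.exists_maximal Γ(T, ⊤)
  have h1 : (⟨m, hm.isPrime⟩ : PrimeSpectrum Γ(T, ⊤)) = ⟨⊥, Ideal.isPrime_bot⟩ :=
    Subsingleton.elim _ _
  have h2 : m = ⊥ := congrArg PrimeSpectrum.asIdeal h1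
  rw [← h2]
  exact hm

/-- **finite over a field means dimension `≤ 0`.** -/
theorem isFinite_iff_dim_le_zero (g : Y ⟶ T) [IsIntegral T] [Subsingleton T]
    [LocallyOfFiniteType g] [QuasiCompact g] : IsFinite g ↔ topologicalKrullDim Y ≤ 0 := by
  constructor
  · intro hfin
    exact (Groth.Agent.S9683.result g).1.trans (dim_le_zero_of_subsingleton T)
  · intro hdim
    have h0 : ∀ x : Y, FlatMor.fibreDimAt g x = 0 := by
      intro x
      obtain ⟨n, hn⟩ := ConsDim.exists_nat_fibreDimAt g x
      have h1 : FlatMor.fibreDimAt g x ≤ topologicalKrullDim Y := by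
        rw [ConsDim.dim_eq_iSup_fibreDimAt g]
        exact le_iSup (fun x : Y => FlatMor.fibreDimAt g x) x
      have h2 := h1.trans hdim
      rw [hn] at h2 ⊢
      have h3 : n ≤ 0 := by exact_mod_cast h2
      have h4 : n = 0 := by omega
      rw [h4]
      rfl
    haveI : LocallyQuasiFinite g := QuasiSection.locallyQuasiFinite_of_fibreDimAt_eq_zero g h0
    -- `Y` is a finite discrete space
    by_cases hY : Nonempty Y
    · obtain ⟨x₀⟩ := hY
      have huniv : g.base ⁻¹' {g x₀} = Set.univ := by
        ext x
        simp only [Set.mem_preimage, Set.mem_singleton_iff, Set.mem_univ, iff_true]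
        exact Subsingleton.elim _ _
      haveI : Finite Y := by
        have := g.finite_preimage_singleton (g x₀)
        rw [huniv] at this
        exact Set.finite_univ_iff.mp this
      haveI : DiscreteTopology Y := by
        have := g.isDiscrete_preimage_singleton (g x₀)
        rw [huniv] at this
        rw [← isDiscrete_univ_iff]
        exact this
      haveI : IsAffine Y := inferInstance
      haveI : IsAffine T := inferInstance
      rw [HasAffineProperty.iff_of_isAffine (P := @IsFinite)]
      refine ⟨inferInstance, ?_⟩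
      have hqf : g.appTop.hom.QuasiFinite :=
        (HasRingHomProperty.iff_of_isAffine (P := @LocallyQuasiFinite)).mp inferInstance
      letI : Algebra Γ(T, ⊤) Γ(Y, ⊤) := g.appTop.hom.toAlgebra
      haveI : Algebra.QuasiFinite Γ(T, ⊤) Γ(Y, ⊤) := hqf
      haveI : IsArtinianRing Γ(T, ⊤) := by
        letI := (isField_Γ_of_subsingleton T).toField
        infer_instance
      exact Module.Finite.of_quasiFinite (R := Γ(T, ⊤)) (S := Γ(Y, ⊤))
    · rw [not_nonempty_iff] at hY
      haveI : IsAffine Y := inferInstance
      haveI : IsAffine T := inferInstance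
      rw [HasAffineProperty.iff_of_isAffine (P := @IsFinite)]
      refine ⟨inferInstance, ?_⟩
      haveI : Subsingleton Γ(Y, ⊤) := by
        by_contra hcon
        rw [not_subsingleton_iff_nontrivial] at hcon
        obtain ⟨p⟩ : Nonempty (PrimeSpectrum Γ(Y, ⊤)) := inferInstance
        exact IsEmpty.false (Y.isoSpec.inv p)
      letI : Algebra Γ(T, ⊤) Γ(Y, ⊤) := g.appTop.hom.toAlgebra
      change Module.Finite Γ(T, ⊤) Γ(Y, ⊤)
      infer_instance

end Groth.Agent.Helper14.ConsFin
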