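import Mathlib
import Groth.Agent.Lib.Helper16.Sch.FTDim2
import Groth.Agent.Lib.Helper14.ConsFin

set_option autoImplicit false
universe u
open CategoryTheory CategoryTheory.Limits AlgebraicGeometry Topology

namespace Groth.Agent.Helper14.ConsMor

/-- A scheme of finite type over a Noetherian scheme is Noetherian. -/
theorem isNoetherian_of_finiteType {Y S : Scheme.{u}} (g : Y ⟶ S) [IsNoetherian S]
    [LocallyOfFiniteType g] [QuasiCompact g] : IsNoetherian Y := by
  haveI : IsLocallyNoetherian Y := LocallyOfFiniteType.isLocallyNoetherian g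
  haveI : CompactSpace Y := QuasiCompact.compactSpace_of_compactSpace g
  exact {}

/-- In an irreducible space, a constructible set or its complement contains a nonempty open. -/
theorem dichotomy_of_isConstructible {S : Type*} [TopologicalSpace S] [IrreducibleSpace S]
    [QuasiSober S]
    {E : Set S} (hE : IsConstructible E) :
    (interior E).Nonempty ∨ (interior Eᶜ).Nonempty := by
  classical
  have hcl : closure ({genericPoint S} : Set S) = Set.univ := genericPoint_spec S
  by_cases hη : genericPoint S ∈ E
  · left
    obtain ⟨U, hU, hηU, hsub⟩ :=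
      Groth.Agent.Helper16.FTDim.exists_open_of_mem_constructible _ hE hη
    refine ⟨genericPoint S, mem_interior.mpr ⟨U, ?_, hU, hηU⟩⟩
    intro s hs
    exact hsub ⟨hs, by rw [hcl]; trivial⟩
  · right
    obtain ⟨U, hU, hηU, hsub⟩ :=
      Groth.Agent.Helper16.FTDim.exists_open_of_not_mem_constructible _ hE hη
    refine ⟨genericPoint S, mem_interior.mpr ⟨U, ?_, hU, hηU⟩⟩
    intro s hs
    exact hsub ⟨hs, by rw [hcl]; trivial⟩

/-- Base change of a map between one-point schemes with nonempty source is surjective. -/
theorem surjective_of_isPullback_subsingleton {Y Y' T T' : Scheme.{u}} {g : Y ⟶ T} {g' : Y' ⟶ T'}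
    {e : Y' ⟶ Y} {h : T' ⟶ T} [Subsingleton T] [Nonempty T'] (sq : IsPullback e g' g h) :
    Surjective e := by
  have hsurj : Function.Surjective h := by
    intro t
    obtain ⟨t'⟩ : Nonempty T' := inferInstance
    exact ⟨t', Subsingleton.elim _ _⟩
  haveI : Surjective h := ⟨hsurj⟩
  exact MorphismProperty.of_isPullback sq.flip ‹Surjective h›

/-- A one-point integral scheme is Noetherian. -/
theorem isNoetherian_of_subsingleton (T : Scheme.{u}) [IsIntegral T] [Subsingleton T] :
    IsNoetherian T := by
  haveI : IsAffine T := inferInstance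
  letI := (Groth.Agent.Helper14.ConsFin.isField_Γ_of_subsingleton T).toField
  haveI : IsNoetherianRing Γ(T, ⊤) := inferInstance
  haveI : IsNoetherian (Spec Γ(T, ⊤)) := isNoetherian_Spec.mpr inferInstance
  haveI : IsLocallyNoetherian T := LocallyOfFiniteType.isLocallyNoetherian T.isoSpec.hom
  haveI : CompactSpace T := inferInstance
  exact {}

end Groth.Agent.Helper14.ConsMor
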