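import Mathlib
import Groth.Prelude.Def_MoreMor
import Groth.Agent.Lib.Helper16.Sch.GenND2
import Groth.Agent.Lib.Helper14.ConsMor

set_option autoImplicit false
universe u

namespace Groth.Agent.Helper14.AffStrat
open AlgebraicGeometry CategoryTheory Limits

theorem of_isAffine (X : Scheme.{u}) [IsAffine X] : MoreMor.HasAffineStratification X 0 := by
  refine ⟨fun _ => 0, fun i => ?_, fun i => ⟨X, 𝟙 X, inferInstance, inferInstance, inferInstance, ?_⟩⟩
  · have : {x : X | (0 : Fin 1) ≤ i} = Set.univ := by ext; simp
    rw [this]; exact isClosed_univ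
  · ext x
    constructor
    · intro _
      show (0 : Fin 1) = i
      exact Subsingleton.elim _ _
    · intro _
      exact ⟨x, rfl⟩

theorem extend {X Z : Scheme.{u}} (U : X.Opens) (hU : IsAffineOpen U) [IsAffineHom U.ι]
    (i : Z ⟶ X) [IsClosedImmersion i] (hrange : Set.range i = (U : Set X)ᶜ) (n : ℕ)
    (hZ : MoreMor.HasAffineStratification Z n) : MoreMor.HasAffineStratification X (n + 1) := by
  obtain ⟨sZ, hcl, hstr⟩ := hZ
  have hinj : Function.Injective i := i.isClosedEmbedding.injective
  let s : X → Fin (n + 1 + 1) :=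
    Function.extend i (fun z => Fin.castSucc (sZ z)) (fun _ => Fin.last (n + 1))
  have hs1 : ∀ z, s (i z) = Fin.castSucc (sZ z) := fun z => hinj.extend_apply _ _ z
  have hs2 : ∀ x, x ∈ U → s x = Fin.last (n + 1) := by
    intro x hx
    apply Function.extend_apply'
    rintro ⟨z, rfl⟩
    have : i z ∈ (U : Set X)ᶜ := hrange ▸ Set.mem_range_self z
    exact this hx
  have hcases : ∀ x : X, x ∈ U ∨ ∃ z, i z = x := by
    intro x
    by_cases hx : x ∈ U
    · exact Or.inl hx
    · right
      have : x ∈ Set.range i := by rw [hrange]; exact hx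
      exact this
  refine ⟨s, fun j => ?_, fun j => ?_⟩
  · induction j using Fin.lastCases with
    | last =>
      have : {x : X | s x ≤ Fin.last (n + 1)} = Set.univ := by
        ext x; simp [Fin.le_last]
      rw [this]; exact isClosed_univ
    | cast j =>
      have : {x : X | s x ≤ Fin.castSucc j} = i '' {z | sZ z ≤ j} := by
        ext x
        constructor
        · intro hx
          rcases hcases x with h | ⟨z, rfl⟩
          · simp only [Set.mem_setOf_eq, hs2 x h] at hx
            exact absurd (lt_of_le_of_lt hx (Fin.castSucc_lt_last j)) (lt_irrefl _)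
          · refine ⟨z, ?_, rfl⟩
            simpa [hs1] using hx
        · rintro ⟨z, hz, rfl⟩
          simpa [hs1] using hz
      rw [this]
      exact i.isClosedEmbedding.isClosedMap _ (hcl j)
  · induction j using Fin.lastCases with
    | last =>
      refine ⟨U, U.ι, inferInstance, hU, inferInstance, ?_⟩
      ext x
      simp only [Scheme.Opens.range_ι, SetLike.mem_coe, Set.mem_setOf_eq]
      constructor
      · exact hs2 x
      · intro hx
        rcases hcases x with h | ⟨z, rfl⟩
        · exact h
        · rw [hs1] at hx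
          exact absurd hx (Fin.castSucc_lt_last _).ne
    | cast j =>
      obtain ⟨W, ι, h1, h2, h3, h4⟩ := hstr j
      refine ⟨W, ι ≫ i, inferInstance, h2, inferInstance, ?_⟩
      ext x
      simp only [Scheme.Hom.comp_base, TopCat.hom_comp, ContinuousMap.coe_comp, Set.mem_range,
        Function.comp_apply, Set.mem_setOf_eq]
      constructor
      · rintro ⟨w, rfl⟩
        rw [hs1]
        congr 1
        have : ι w ∈ Set.range ι := ⟨w, rfl⟩
        rw [h4] at this
        exact this
      · intro hx
        rcases hcases x with h | ⟨z, rfl⟩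
        · rw [hs2 x h] at hx
          exact absurd hx.symm (Fin.castSucc_lt_last _).ne
        · rw [hs1] at hx
          have hz : z ∈ Set.range ι := by
            rw [h4]; exact Fin.castSucc_injective _ hx
          obtain ⟨w, rfl⟩ := hz
          exact ⟨w, rfl⟩

theorem of_separated_cover : ∀ (n : ℕ) (X : Scheme.{u}) [X.IsSeparated] (U : Fin (n + 1) → X.Opens)
    (hU : ∀ i, IsAffineOpen (U i)) (hcov : ⨆ i, U i = ⊤), MoreMor.HasAffineStratification X n := by
  intro n
  induction n with
  | zero =>
    intro X _ U hU hcov
    have h0 : U 0 = ⊤ := by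
      rw [← hcov]
      apply le_antisymm
      · exact le_iSup U 0
      · apply iSup_le
        intro i
        have : i = 0 := by
          apply Fin.ext
          have := i.isLt
          simp only [Fin.coe_ofNat_eq_mod]
          omega
        rw [this]
    have : IsAffine X := by
      have := hU 0
      rw [h0] at this
      haveI : IsAffine ((⊤ : X.Opens) : Scheme) := this
      exact IsAffine.of_isIso X.topIso.inv
    exact of_isAffine X
  | succ n ih =>
    intro X _ U hU hcov
    haveI : IsAffine (U 0 : Scheme) := hU 0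
    haveI : IsAffineHom ((U 0).ι ≫ terminal.from X) := inferInstance
    haveI : IsSeparated (terminal.from X) := inferInstance
    haveI : IsAffineHom (U 0).ι := IsAffineHom.of_comp (U 0).ι (terminal.from X)
    obtain ⟨Z, i, hi, -, hr⟩ :=
      Groth.Agent.Helper16.GenND.exists_closedImmersion_isReduced_range_eq
        ((U 0 : Set X)ᶜ) (U 0).isOpen.isClosed_compl
    haveI : Z.IsSeparated := by
      have : terminal.from Z = i ≫ terminal.from X := by simp
      rw [Scheme.isSeparated_iff, this]
      infer_instance
    refine extend (U 0) (hU 0) i hr n ?_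
    refine ih Z (fun k => i ⁻¹ᵁ (U k.succ)) (fun k => (hU k.succ).preimage i) ?_
    rw [eq_top_iff]
    intro z _
    have hz : i z ∉ U 0 := by
      have : i z ∈ Set.range i := ⟨z, rfl⟩
      rw [hr] at this
      exact this
    have : i z ∈ (⨆ k, U k : X.Opens) := by rw [hcov]; trivial
    rw [TopologicalSpace.Opens.mem_iSup] at this
    obtain ⟨k, hk⟩ := this
    rw [TopologicalSpace.Opens.mem_iSup]
    induction k using Fin.cases with
    | zero => exact absurd hk hz
    | succ k => exact ⟨k, hk⟩

section Top
variable {T : Type u} [TopologicalSpace T]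

theorem exists_gen_specializes [QuasiSober T] (x : T) : ∃ η ∈ genericPoints T, η ⤳ x := by
  let c : irreducibleComponents T := ⟨_, irreducibleComponent_mem_irreducibleComponents x⟩
  refine ⟨(genericPoints.ofComponent c).1, (genericPoints.ofComponent c).2, ?_⟩
  rw [specializes_iff_mem_closure]
  have := genericPoints.isGenericPoint_ofComponent c
  rw [this.def]
  exact mem_irreducibleComponent

/-- the set of points lying only on the component of `η`. -/
def O (η : T) : Set T := (⋃ η' ∈ genericPoints T \ {η}, closure {η'})ᶜ

theorem isOpen_O (h : (genericPoints T).Finite) (η : T) : IsOpen (O η) :=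
  ((h.subset Set.diff_subset).isClosed_biUnion (fun _ _ => isClosed_closure)).isOpen_compl

theorem mem_O_iff {η x : T} : x ∈ O η ↔ ∀ η' ∈ genericPoints T, η' ⤳ x → η' = η := by
  simp only [O, Set.mem_compl_iff, Set.mem_iUnion, Set.mem_diff, Set.mem_singleton_iff,
    not_exists, ← specializes_iff_mem_closure]
  constructor
  · intro h η' h1 h2
    by_contra h3
    exact h η' ⟨h1, h3⟩ h2
  · intro h η' h1 h2
    exact h1.2 (h η' h1.1 h2)

theorem self_mem_O [T0Space T] {η : T} (hη : η ∈ genericPoints T) : η ∈ O η := by
  rw [mem_O_iff]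
  intro η' h1 h2
  have hsub : closure {η} ⊆ closure {η'} := h2.closure_subset  -- specializes → closure subset
  have hmax := hη.2 h1.1 hsub
  exact ((specializes_iff_closure_subset.mpr hmax).antisymm h2 |>.eq).symm

theorem O_subset_closure [QuasiSober T] (η : T) : O η ⊆ closure {η} := by
  intro x hx
  obtain ⟨η', h1, h2⟩ := exists_gen_specializes x
  have := mem_O_iff.mp hx η' h1 h2
  subst this
  exact specializes_iff_mem_closure.mp h2

theorem disjoint_O_of_not_mem [QuasiSober T] {V : Set T} (hV : IsOpen V) {η : T} (hη : η ∉ V) :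
    Disjoint V (O η) := by
  rw [Set.disjoint_left]
  intro x hxV hxO
  have : η ⤳ x := specializes_iff_mem_closure.mpr (O_subset_closure η hxO)
  exact hη (this.mem_open hV hxV)

theorem disjoint_O_O [QuasiSober T] [T0Space T] (h : (genericPoints T).Finite) {η η' : T}
    (hη : η ∈ genericPoints T) (hne : η ≠ η') : Disjoint (O η') (O η) := by
  apply disjoint_O_of_not_mem (isOpen_O h η')
  intro hmem
  exact hne (mem_O_iff.mp hmem η hη specializes_rfl)

end Top

theorem exists_affine_dense (X : Scheme.{u}) [IsNoetherian X] :
    ∃ U : X.Opens, IsAffineOpen U ∧ IsAffineHom U.ι ∧ ∀ x : X, ∃ η ∈ U, η ⤳ x := by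
  classical
  have hfin : (genericPoints X).Finite :=
    genericPoints.finite TopologicalSpace.NoetherianSpace.finite_irreducibleComponents
  -- finite affine cover
  obtain ⟨t, ht⟩ := isCompact_univ.elim_finite_subcover
    (fun V : X.affineOpens => ((V : X.Opens) : Set X)) (fun V => V.1.isOpen)
    (by
      intro x _
      obtain ⟨V, hV, hxV, -⟩ := X.isBasis_affineOpens.exists_subset_of_mem_open
        (Set.mem_univ x) isOpen_univ
      obtain ⟨V', hV', rfl⟩ := hV
      exact Set.mem_iUnion.mpr ⟨⟨V', hV'⟩, hxV⟩)
  -- for each generic point, a small affine neighbourhood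
  have hB : ∀ η : X, ∃ B : X.Opens, η ∈ genericPoints X →
      IsAffineOpen B ∧ η ∈ B ∧ (B : Set X) ⊆ O η ∧
        ∀ V ∈ t, η ∈ (V : X.Opens) → B ≤ (V : X.Opens) := by
    intro η
    by_cases hη : η ∈ genericPoints X
    · let W : Set X := O η ∩ ⋂ V ∈ t, ⋂ (_ : η ∈ (V : X.Opens)), ((V : X.Opens) : Set X)
      have hWo : IsOpen W := by
        refine (isOpen_O hfin η).inter ?_
        refine isOpen_biInter_finset (fun V _ => ?_)
        by_cases h : η ∈ (V : X.Opens)
        · simp only [h, Set.iInter_true]
          exact V.1.isOpen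
        · simp only [h, Set.iInter_false]
          exact isOpen_univ
      have hηW : η ∈ W := by
        refine ⟨self_mem_O hη, ?_⟩
        simp only [Set.mem_iInter]
        intro V _ h
        exact h
      obtain ⟨B, hB, hηB, hBW⟩ := X.isBasis_affineOpens.exists_subset_of_mem_open hηW hWo
      obtain ⟨B', hB', rfl⟩ := hB
      refine ⟨B', fun _ => ⟨hB', hηB, fun x hx => (hBW hx).1, fun V hV hηV x hx => ?_⟩⟩
      have := (hBW hx).2
      simp only [Set.mem_iInter] at this
      exact this V hV hηV
    · exact ⟨⊥, fun h => absurd h hη⟩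
  choose B hB using hB
  have hdisj : (genericPoints X).Pairwise (Function.onFun Disjoint B) := by
    intro η hη η' hη' hne
    show Disjoint (B η) (B η')
    rw [← TopologicalSpace.Opens.coe_disjoint]
    exact (disjoint_O_O hfin hη' hne.symm).mono (hB η hη).2.2.1 (hB η' hη').2.2.1
  refine ⟨⨆ η ∈ genericPoints X, B η, ?_, ?_, ?_⟩
  · exact IsAffineOpen.biSup_of_disjoint hfin (fun η hη => (hB η hη).1) hdisj
  · apply isAffineHom_of_forall_exists_isAffineOpen
    intro x
    have hx := ht (Set.mem_univ x)
    simp only [Set.mem_iUnion] at hx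
    obtain ⟨V, hVt, hxV⟩ := hx
    refine ⟨V, hxV, V.2, ?_⟩
    apply (Scheme.Hom.isAffineOpen_iff_of_isOpenImmersion
      (⨆ η ∈ genericPoints X, B η : X.Opens).ι).mp
    rw [Scheme.Hom.image_preimage_eq_opensRange_inf, Scheme.Opens.opensRange_ι]
    have heq : (⨆ η ∈ genericPoints X, B η : X.Opens) ⊓ (V : X.Opens) =
        ⨆ η ∈ (genericPoints X ∩ ((V : X.Opens) : Set X)), B η := by
      apply le_antisymm
      · rintro y ⟨hy1, hy2⟩
        simp only [TopologicalSpace.Opens.coe_iSup, Set.mem_iUnion, SetLike.mem_coe] at hy1
        obtain ⟨η, hη, hyB⟩ := hy1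
        have hηV : η ∈ (V : X.Opens) := by
          by_contra hcon
          have hd := disjoint_O_of_not_mem (V := ((V : X.Opens) : Set X)) V.1.isOpen hcon
          exact Set.disjoint_left.mp hd hy2 ((hB η hη).2.2.1 hyB)
        simp only [TopologicalSpace.Opens.mem_iSup]
        exact ⟨η, ⟨hη, hηV⟩, hyB⟩
      · apply iSup₂_le
        intro η hη
        apply le_inf
        · exact le_iSup₂ (f := fun η (_ : η ∈ genericPoints X) => B η) η hη.1
        · exact (hB η hη.1).2.2.2 V hVt hη.2
    rw [heq]
    exact IsAffineOpen.biSup_of_disjoint (hfin.subset Set.inter_subset_left)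
      (fun η hη => (hB η hη.1).1) (hdisj.mono Set.inter_subset_left)
  · intro x
    obtain ⟨η, h1, h2⟩ := exists_gen_specializes x
    refine ⟨η, ?_, h2⟩
    simp only [TopologicalSpace.Opens.mem_iSup]
    exact ⟨η, h1, (hB η h1).2.1⟩

theorem krullDim_add_one_le_of_strictMono_exists_lt {α β : Type*} [Preorder α] [Preorder β]
    [Nonempty α] (f : α → β) (hf : StrictMono f) (hb : ∀ a, ∃ b, f a < b) :
    Order.krullDim α + 1 ≤ Order.krullDim β := by
  have : Nonempty β := ⟨f (Classical.arbitrary α)⟩
  rw [Order.krullDim_eq_iSup_length, Order.krullDim_eq_iSup_length, ← WithBot.coe_one,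
    ← WithBot.coe_add, ENat.iSup_add, WithBot.coe_le_coe, iSup_le_iff]
  intro l
  obtain ⟨b, hlast⟩ := hb l.last
  have hlast' : (l.map f hf).last < b := hlast
  refine le_trans ?_ (le_iSup _ ((l.map f hf).snoc b hlast'))
  have hlen : ((l.map f hf).snoc b hlast').length = l.length + 1 := rfl
  rw [hlen]
  push_cast
  exact le_rfl

theorem dim_add_one_le {X Z : Scheme.{u}} (i : Z ⟶ X) [IsClosedImmersion i] (U : X.Opens)
    (hr : Set.range i = (U : Set X)ᶜ) (hU : ∀ x : X, ∃ η ∈ U, η ⤳ x) :
    topologicalKrullDim Z + 1 ≤ topologicalKrullDim X := by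
  by_cases hZ : Nonempty Z
  · have : Nonempty (TopologicalSpace.IrreducibleCloseds Z) :=
      ⟨⟨closure {hZ.some}, isIrreducible_singleton.closure, isClosed_closure⟩⟩
    refine krullDim_add_one_le_of_strictMono_exists_lt
      (TopologicalSpace.IrreducibleCloseds.map i i.continuous)
      (TopologicalSpace.IrreducibleCloseds.map_strictMono_of_isInducing
        i.isClosedEmbedding.isInducing) ?_
    intro T
    obtain ⟨x, hx⟩ := QuasiSober.sober
      (TopologicalSpace.IrreducibleCloseds.map i i.continuous T).isIrreducible
      (TopologicalSpace.IrreducibleCloseds.map i i.continuous T).isClosed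
    obtain ⟨η, hηU, hηx⟩ := hU x
    refine ⟨⟨closure {η}, isIrreducible_singleton.closure, isClosed_closure⟩, ?_⟩
    have hle : (TopologicalSpace.IrreducibleCloseds.map i i.continuous T : Set X) ⊆ closure {η} := by
      rw [← hx.def]
      exact hηx.closure_subset
    have hsub : (TopologicalSpace.IrreducibleCloseds.map i i.continuous T : Set X) ⊆
        (U : Set X)ᶜ := by
      rw [TopologicalSpace.IrreducibleCloseds.coe_map]
      apply closure_minimal _ U.isOpen.isClosed_compl
      rw [← hr]
      exact Set.image_subset_range _ _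
    refine lt_of_le_of_ne hle ?_
    intro heq
    have : η ∈ (TopologicalSpace.IrreducibleCloseds.map i i.continuous T : Set X) := by
      have h2 : (TopologicalSpace.IrreducibleCloseds.map i i.continuous T : Set X) = closure {η} :=
        congrArg (fun c : TopologicalSpace.IrreducibleCloseds X => (c : Set X)) heq
      rw [h2]
      exact subset_closure rfl
    exact hsub this hηU
  · rw [not_nonempty_iff] at hZ
    have : topologicalKrullDim Z = ⊥ := by
      rw [topologicalKrullDim, Order.krullDim_eq_bot_iff]
      exact ⟨fun c => hZ.elim c.isIrreducible.nonempty.some⟩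
    rw [this]
    simp

theorem of_dim_le : ∀ (d : ℕ) (X : Scheme.{u}) [IsNoetherian X],
    topologicalKrullDim X ≤ d → MoreMor.HasAffineStratification X d := by
  intro d
  induction d with
  | zero =>
    intro X _ hd
    obtain ⟨U, hU, hUι, hgen⟩ := exists_affine_dense X
    obtain ⟨Z, i, hi, -, hr⟩ :=
      Groth.Agent.Helper16.GenND.exists_closedImmersion_isReduced_range_eq
        ((U : Set X)ᶜ) U.isOpen.isClosed_compl
    have h1 := dim_add_one_le i U hr hgen
    have hZ : IsEmpty Z := by
      by_contra hne
      rw [not_isEmpty_iff] at hne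
      have : Nonempty (TopologicalSpace.IrreducibleCloseds Z) :=
        ⟨⟨closure {hne.some}, isIrreducible_singleton.closure, isClosed_closure⟩⟩
      have h0 : (0 : WithBot ℕ∞) ≤ topologicalKrullDim Z := Order.krullDim_nonneg
      have h2 : (0 : WithBot ℕ∞) + 1 ≤ 0 := (add_le_add_left h0 1).trans (h1.trans (by simpa using hd))
      simp only [zero_add] at h2
      exact not_le.mpr zero_lt_one h2
    have hUtop : U = ⊤ := by
      rw [eq_top_iff]
      intro x _
      by_contra hx
      have : x ∈ Set.range i := by rw [hr]; exact hx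
      obtain ⟨z, -⟩ := this
      exact hZ.elim z
    have : IsAffine X := by
      rw [hUtop] at hU
      haveI : IsAffine ((⊤ : X.Opens) : Scheme) := hU
      exact IsAffine.of_isIso X.topIso.inv
    exact of_isAffine X
  | succ d ih =>
    intro X _ hd
    obtain ⟨U, hU, hUι, hgen⟩ := exists_affine_dense X
    obtain ⟨Z, i, hi, -, hr⟩ :=
      Groth.Agent.Helper16.GenND.exists_closedImmersion_isReduced_range_eq
        ((U : Set X)ᶜ) U.isOpen.isClosed_compl
    have h1 := dim_add_one_le i U hr hgen
    haveI : IsNoetherian Z := Groth.Agent.Helper14.ConsMor.isNoetherian_of_finiteType i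
    have h2 : topologicalKrullDim Z ≤ d := by
      have h3 : topologicalKrullDim Z + 1 ≤ (d : WithBot ℕ∞) + 1 := h1.trans (by simpa using hd)
      generalize topologicalKrullDim Z = x at h3
      induction x with
      | bot => exact bot_le
      | coe m =>
        have h' : m + 1 ≤ (d : ℕ∞) + 1 := by exact_mod_cast h3
        have : m ≤ d := (ENat.add_le_add_iff_right (by simp)).mp h'
        exact_mod_cast this
    exact extend U hU i hr d (ih Z h2)

end Groth.Agent.Helper14.AffStrat
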