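import Mathlib
import Groth.Prelude.Def_CAlgX

/-!
# Adic formal smoothness: monotonicity in the ideal, base change, localization
-/

set_option autoImplicit false
universe u

namespace Groth.Agent.Helper14.AdicFSBaseChange

open TensorProduct

theorem mono {R S : Type u} [CommRing R] [CommRing S] [Algebra R S] {𝔫₁ 𝔫₂ : Ideal S}
    (hle : 𝔫₁ ≤ 𝔫₂) (h : CAlgX.IsAdicFormallySmooth R S 𝔫₁) :
    CAlgX.IsAdicFormallySmooth R S 𝔫₂ := by
  intro C _ _ J hJ ψ hψ
  obtain ⟨k, hk⟩ := hψ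
  exact h C J hJ ψ ⟨k, fun x hx => hk x (Ideal.pow_right_mono hle k hx)⟩

theorem baseChange {R S : Type u} [CommRing R] [CommRing S] [Algebra R S] (R' : Type u)
    [CommRing R'] [Algebra R R'] (𝔫 : Ideal S) (h : CAlgX.IsAdicFormallySmooth R S 𝔫) :
    CAlgX.IsAdicFormallySmooth R' (R' ⊗[R] S)
      (𝔫.map (Algebra.TensorProduct.includeRight : S →ₐ[R] R' ⊗[R] S)) := by
  intro C _ _ J hJ ψ hψ
  obtain ⟨k, hk⟩ := hψ
  letI : Algebra R C := ((algebraMap R' C).comp (algebraMap R R')).toAlgebra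
  haveI : IsScalarTower R R' C := IsScalarTower.of_algebraMap_eq fun r => rfl
  haveI : IsScalarTower R R' (C ⧸ J) := IsScalarTower.of_algebraMap_eq fun r => rfl
  let ψA : S →ₐ[R] C ⧸ J :=
    (ψ.restrictScalars R).comp (Algebra.TensorProduct.includeRight : S →ₐ[R] R' ⊗[R] S)
  have hkA : ∀ x ∈ 𝔫 ^ k, ψA x = 0 := by
    intro x hx
    apply hk
    rw [← Ideal.map_pow]
    exact Ideal.mem_map_of_mem _ hx
  obtain ⟨χA, hχA⟩ := h C J hJ ψA ⟨k, hkA⟩
  let χ : R' ⊗[R] S →ₐ[R'] C :=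
    Algebra.TensorProduct.lift (Algebra.ofId R' C) χA (fun _ _ => Commute.all _ _)
  refine ⟨χ, ?_⟩
  apply Algebra.TensorProduct.ext
  · ext
  · apply AlgHom.ext
    intro s
    have h1 := DFunLike.congr_fun hχA s
    simpa [χ, ψA] using h1

theorem localization {R S : Type u} [CommRing R] [CommRing S] [Algebra R S] (M : Submonoid S)
    (S' : Type u) [CommRing S'] [Algebra S S'] [Algebra R S'] [IsScalarTower R S S']
    [IsLocalization M S'] (𝔫 : Ideal S) (h : CAlgX.IsAdicFormallySmooth R S 𝔫) :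
    CAlgX.IsAdicFormallySmooth R S' (𝔫.map (algebraMap S S')) := by
  intro C _ _ J hJ ψ hψ
  obtain ⟨k, hk⟩ := hψ
  let ψ₀ : S →ₐ[R] C ⧸ J := ψ.comp (IsScalarTower.toAlgHom R S S')
  have hk₀ : ∀ x ∈ 𝔫 ^ k, ψ₀ x = 0 := by
    intro x hx
    apply hk
    rw [← Ideal.map_pow]
    exact Ideal.mem_map_of_mem _ hx
  obtain ⟨χ₀, hχ₀⟩ := h C J hJ ψ₀ ⟨k, hk₀⟩
  have hχ₀' : ∀ s : S, Ideal.Quotient.mk J (χ₀ s) = ψ (algebraMap S S' s) :=
    fun s => DFunLike.congr_fun hχ₀ s
  have hunit : ∀ y : M, IsUnit (χ₀.toRingHom y) := by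
    intro y
    change IsUnit (χ₀ (y : S))
    rw [← IsNilpotent.isUnit_quotient_mk_iff (I := J) ⟨2, hJ⟩, hχ₀']
    exact (IsLocalization.map_units S' y).map ψ
  let χ : S' →ₐ[R] C :=
    { IsLocalization.lift hunit with
      commutes' := fun r => by
        change (IsLocalization.lift hunit) (algebraMap R S' r) = algebraMap R C r
        rw [IsScalarTower.algebraMap_apply R S S', IsLocalization.lift_eq]
        exact χ₀.commutes r }
  refine ⟨χ, ?_⟩
  apply AlgHom.coe_ringHom_injective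
  apply IsLocalization.ringHom_ext M
  ext s
  change Ideal.Quotient.mk J ((IsLocalization.lift hunit) (algebraMap S S' s)) = _
  rw [IsLocalization.lift_eq]
  exact hχ₀' s

end Groth.Agent.Helper14.AdicFSBaseChange
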