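import Mathlib
import Groth.Prelude.Def_CAlgX

/-!
# Adic formal smoothness over a field implies regularity
-/

set_option autoImplicit false
universe u

namespace Groth.Agent.Helper14.AdicFSRegular

open IsLocalRing

/-- Transitivity: `F → k` formally smooth (discrete), `k → A` adically formally smooth
implies `F → A` adically formally smooth. -/
theorem trans {F k A : Type u} [CommRing F] [CommRing k] [CommRing A] [Algebra F k] [Algebra k A]
    [Algebra F A] [IsScalarTower F k A] [Algebra.FormallySmooth F k] (𝔫 : Ideal A)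
    (h : CAlgX.IsAdicFormallySmooth k A 𝔫) : CAlgX.IsAdicFormallySmooth F A 𝔫 := by
  intro C _ _ J hJ ψ hψ
  obtain ⟨φ, hφ⟩ := Algebra.FormallySmooth.comp_surjective F k J hJ
    (ψ.comp (IsScalarTower.toAlgHom F k A))
  letI : Algebra k C := φ.toRingHom.toAlgebra
  haveI : IsScalarTower F k C := IsScalarTower.of_algebraMap_eq fun r => (φ.commutes r).symm
  let ψ' : A →ₐ[k] C ⧸ J :=
    { (ψ : A →+* C ⧸ J) with
      commutes' := fun r => by
        have h1 := DFunLike.congr_fun hφ r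
        have h2 : algebraMap k (C ⧸ J) r = Ideal.Quotient.mk J (φ r) := rfl
        rw [h2]
        exact h1.symm }
  obtain ⟨χ, hχ⟩ := h C J hJ ψ' hψ
  refine ⟨χ.restrictScalars F, ?_⟩
  apply AlgHom.ext
  intro a
  exact DFunLike.congr_fun hχ a

theorem sq_le' {B : Type u} [CommRing B] (𝔔 I : Ideal B) (m : ℕ) (hm : 1 ≤ m) (hI𝔔 : I ≤ 𝔔) :
    (I ⊔ 𝔔 ^ m) * (I ⊔ 𝔔 ^ m) ≤ 𝔔 * I ⊔ 𝔔 ^ m := by
  rw [Ideal.sup_mul, Ideal.mul_sup, Ideal.mul_sup]
  have h1 : I * I ≤ 𝔔 * I := Ideal.mul_mono_left hI𝔔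
  have h2 : I * 𝔔 ^ m ≤ 𝔔 ^ m := Ideal.mul_le_right
  have h3 : 𝔔 ^ m * I ≤ 𝔔 * I := Ideal.mul_mono_left (Ideal.pow_le_self (by omega))
  have h4 : 𝔔 ^ m * 𝔔 ^ m ≤ 𝔔 ^ m := Ideal.mul_le_right
  exact sup_le (sup_le (h1.trans le_sup_left) (h2.trans le_sup_right))
    (sup_le (h3.trans le_sup_left) (h4.trans le_sup_right))

theorem mul_le' {B : Type u} [CommRing B] (𝔔 I : Ideal B) (m : ℕ) :
    𝔔 * (I ⊔ 𝔔 ^ m) ≤ 𝔔 * I ⊔ 𝔔 ^ m := by
  rw [Ideal.mul_sup]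
  have h4 : 𝔔 * 𝔔 ^ m ≤ 𝔔 ^ m := Ideal.mul_le_right
  exact sup_le le_sup_left (h4.trans le_sup_right)

/-- One step: `I ≤ 𝔔 I + 𝔔^m`. -/
theorem ker_le_step {F B A' : Type u} [CommRing F] [CommRing B]
    [CommRing A'] [Algebra F B] [Algebra F A'] (ψ : B →ₐ[F] A')
    (hsurj : Function.Surjective ψ) (𝔔 : Ideal B) (hker : RingHom.ker ψ ≤ 𝔔 ^ 2)
    (𝔑 : Ideal A') (h𝔑 : 𝔑 ≤ 𝔔.map ψ)
    (hfs : CAlgX.IsAdicFormallySmooth F A' 𝔑) (m : ℕ) (hm : 1 ≤ m) :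
    RingHom.ker ψ ≤ 𝔔 * RingHom.ker ψ ⊔ 𝔔 ^ m := by
  have hI𝔔 : RingHom.ker ψ ≤ 𝔔 := hker.trans (Ideal.pow_le_self two_ne_zero)
  generalize hL : 𝔔 * RingHom.ker ψ ⊔ 𝔔 ^ m = L
  let J : Ideal (B ⧸ L) := (RingHom.ker ψ ⊔ 𝔔 ^ m).map (Ideal.Quotient.mk L)
  have hJ : J ^ 2 = ⊥ := by
    rw [← Ideal.map_pow, Ideal.map_eq_bot_iff_le_ker, Ideal.mk_ker, pow_two, ← hL]
    exact sq_le' 𝔔 _ m hm hI𝔔
  let g : B →ₐ[F] (B ⧸ L) ⧸ J := (Ideal.Quotient.mkₐ F J).comp (Ideal.Quotient.mkₐ F L)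
  have hgI : ∀ x ∈ RingHom.ker ψ ⊔ 𝔔 ^ m, g x = 0 := by
    intro x hx
    change Ideal.Quotient.mk J (Ideal.Quotient.mk L x) = 0
    rw [Ideal.Quotient.eq_zero_iff_mem]
    exact Ideal.mem_map_of_mem _ hx
  have H : RingHom.ker ψ.toRingHom ≤ RingHom.ker g.toRingHom := by
    intro x hx
    rw [RingHom.mem_ker]
    exact hgI x (Ideal.mem_sup_left hx)
  let ψm : A' →ₐ[F] (B ⧸ L) ⧸ J := AlgHom.liftOfSurjective ψ hsurj g H
  have hψm : ∀ x : B, ψm (ψ x) = g x := fun x => AlgHom.liftOfSurjective_apply ψ hsurj g H x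
  have hcont : ∀ y ∈ 𝔑 ^ m, ψm y = 0 := by
    intro y hy
    have h1 : 𝔑 ^ m ≤ (𝔔 ^ m).map ψ := by
      rw [Ideal.map_pow]
      exact Ideal.pow_right_mono h𝔑 m
    have h2 := h1 hy
    rw [Ideal.mem_map_iff_of_surjective ψ hsurj] at h2
    obtain ⟨x, hx, rfl⟩ := h2
    rw [hψm]
    exact hgI x (Ideal.mem_sup_right hx)
  obtain ⟨σ, hσ⟩ := hfs (B ⧸ L) J hJ ψm ⟨m, hcont⟩
  have hσ' : ∀ y : A', Ideal.Quotient.mk J (σ y) = ψm y := fun y => DFunLike.congr_fun hσ y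
  let δ : B → B ⧸ L := fun x => Ideal.Quotient.mk L x - σ (ψ x)
  have hδJ : ∀ x, δ x ∈ J := by
    intro x
    rw [← Ideal.Quotient.eq_zero_iff_mem, map_sub, hσ', hψm]
    exact sub_self _
  have hδadd : ∀ x y, δ (x + y) = δ x + δ y := by
    intro x y
    simp only [δ, map_add]
    ring
  have hδmul : ∀ x y, δ (x * y) = Ideal.Quotient.mk L x * δ y + σ (ψ y) * δ x := by
    intro x y
    simp only [δ, map_mul]
    ring
  have h𝔔J : ∀ x ∈ 𝔔, ∀ z ∈ J, Ideal.Quotient.mk L x * z = 0 := by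
    intro x hx z hz
    have h1 : Ideal.Quotient.mk L x * z ∈ (𝔔.map (Ideal.Quotient.mk L)) * J :=
      Ideal.mul_mem_mul (Ideal.mem_map_of_mem _ hx) hz
    rw [← Ideal.map_mul] at h1
    have h2 : (𝔔 * (RingHom.ker ψ ⊔ 𝔔 ^ m)).map (Ideal.Quotient.mk L) = ⊥ := by
      rw [Ideal.map_eq_bot_iff_le_ker, Ideal.mk_ker, ← hL]
      exact mul_le' 𝔔 _ m
    rw [h2] at h1
    exact h1
  have hJJ : ∀ z ∈ J, ∀ w ∈ J, z * w = 0 := by
    intro z hz w hw
    have : z * w ∈ J ^ 2 := by rw [pow_two]; exact Ideal.mul_mem_mul hz hw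
    rw [hJ] at this
    exact this
  have hδ2 : ∀ x ∈ 𝔔, ∀ y ∈ 𝔔, δ (x * y) = 0 := by
    intro x hx y hy
    rw [hδmul, h𝔔J x hx _ (hδJ y)]
    have h1 : σ (ψ y) = Ideal.Quotient.mk L y - δ y := by simp [δ]
    rw [h1, sub_mul, h𝔔J y hy _ (hδJ x), hJJ _ (hδJ y) _ (hδJ x)]
    simp
  have hδsq : ∀ x ∈ 𝔔 ^ 2, δ x = 0 := by
    intro x hx
    rw [pow_two] at hx
    refine Submodule.mul_induction_on hx (fun a ha b hb => hδ2 a ha b hb) ?_
    intro a b ha hb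
    rw [hδadd, ha, hb, add_zero]
  intro x hx
  have h1 := hδsq x (hker hx)
  have h2 : ψ x = 0 := hx
  simp only [δ, h2, map_zero, sub_zero] at h1
  exact Ideal.Quotient.eq_zero_iff_mem.mp h1

/-- The key step: if `ψ : B → A'` is a surjection from a Noetherian local ring whose kernel lies in
the square of the maximal ideal, and `A'` is adically formally smooth, then `ψ` is injective. -/
theorem ker_eq_bot_of_adicFS {F B A' : Type u} [CommRing F] [CommRing B] [IsLocalRing B]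
    [IsNoetherianRing B] [CommRing A'] [Algebra F B] [Algebra F A'] (ψ : B →ₐ[F] A')
    (hsurj : Function.Surjective ψ) (hker : RingHom.ker ψ ≤ maximalIdeal B ^ 2)
    (𝔑 : Ideal A') (h𝔑 : 𝔑 ≤ (maximalIdeal B).map ψ)
    (hfs : CAlgX.IsAdicFormallySmooth F A' 𝔑) : RingHom.ker ψ = ⊥ := by
  have claim := ker_le_step ψ hsurj (maximalIdeal B) hker 𝔑 h𝔑 hfs
  have hle : RingHom.ker ψ ≤ maximalIdeal B * RingHom.ker ψ := by
    intro x hx
    have hkrull := Ideal.iInf_pow_smul_eq_bot_of_isLocalRing (R := B)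
      (M := B ⧸ (maximalIdeal B * RingHom.ker ψ)) (maximalIdeal B)
      (maximalIdeal.isMaximal B).ne_top
    have hmem : (Ideal.Quotient.mk (maximalIdeal B * RingHom.ker ψ) x) ∈
        (⨅ i : ℕ, maximalIdeal B ^ i • ⊤ :
          Submodule B (B ⧸ (maximalIdeal B * RingHom.ker ψ))) := by
      rw [Submodule.mem_iInf]
      intro m
      rcases Nat.eq_zero_or_pos m with rfl | hm
      · simp
      · obtain ⟨a, ha, b, hb, rfl⟩ := Submodule.mem_sup.mp (claim m hm hx)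
        rw [map_add, Ideal.Quotient.eq_zero_iff_mem.mpr ha, zero_add]
        have : Ideal.Quotient.mk (maximalIdeal B * RingHom.ker ψ) b =
            b • (1 : B ⧸ (maximalIdeal B * RingHom.ker ψ)) := by
          rw [Algebra.smul_def, mul_one]; rfl
        rw [this]
        exact Submodule.smul_mem_smul hb Submodule.mem_top
    rw [hkrull, Submodule.mem_bot] at hmem
    exact Ideal.Quotient.eq_zero_iff_mem.mp hmem
  exact Submodule.eq_bot_of_le_smul_of_le_jacobson_bot (maximalIdeal B) (RingHom.ker ψ)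
    (IsNoetherian.noetherian _) hle (maximalIdeal_le_jacobson _)

end Groth.Agent.Helper14.AdicFSRegular
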