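import Mathlib
import Groth.Agent.S4541
import Groth.Agent.Lib.Helper9.PBasisField4

/-!
# Arbitrary field extensions of a perfect field are formally smooth
-/

set_option autoImplicit false
universe u v

namespace Groth.Agent.Helper14.PerfectSmooth

/-- A field of characteristic `p` is formally smooth over any perfect subfield (same universe). -/
theorem formallySmooth_of_perfect (p : ℕ) [Fact p.Prime] (k K : Type u) [Field k] [Field K]
    [Algebra k K] [CharP k p] [PerfectRing k p] : Algebra.FormallySmooth k K := by
  haveI : CharP K p := charP_of_injective_algebraMap (algebraMap k K).injective p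
  obtain ⟨T, hT⟩ := Groth.Agent.Helper9.PBasis.exists_pBasis p k K
  exact (Groth.Agent.S4541.result p (A := k) (B := K) _ hT).1

/-- A field of characteristic `p` is formally smooth over `𝔽_p`. -/
theorem formallySmooth_zmod (p : ℕ) [Fact p.Prime] (K : Type u) [Field K] [Algebra (ZMod p) K] :
    Algebra.FormallySmooth (ZMod p) K := by
  letI : Algebra (ULift.{u} (ZMod p)) K :=
    { smul := fun s x => s.down • x
      algebraMap := (algebraMap (ZMod p) K).comp (ULift.ringEquiv (R := ZMod p)).toRingHom
      commutes' := fun s x => mul_comm _ _
      smul_def' := fun s x => Algebra.smul_def s.down x }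
  haveI : IsScalarTower (ZMod p) (ULift.{u} (ZMod p)) K :=
    IsScalarTower.of_algebraMap_eq fun x => rfl
  haveI : Algebra.FormallySmooth (ZMod p) (ULift.{u} (ZMod p)) :=
    Algebra.FormallySmooth.of_equiv (ULift.algEquiv (R := ZMod p) (A := ZMod p)).symm
  haveI : Algebra.FormallySmooth (ULift.{u} (ZMod p)) K :=
    formallySmooth_of_perfect p (ULift.{u} (ZMod p)) K
  exact Algebra.FormallySmooth.comp (ZMod p) (ULift.{u} (ZMod p)) K

/-- Any field extension in characteristic zero is formally smooth. -/
theorem formallySmooth_of_charZero (k : Type u) (K : Type v) [Field k] [Field K] [Algebra k K]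
    [CharZero k] : Algebra.FormallySmooth k K := by
  obtain ⟨s, hs⟩ := exists_isTranscendenceBasis k K
  haveI : Algebra.IsAlgebraic (IntermediateField.adjoin k (Set.range ((↑) : s → K))) K :=
    hs.isAlgebraic_field
  haveI : CharZero (IntermediateField.adjoin k (Set.range ((↑) : s → K))) :=
    charZero_of_injective_algebraMap
      (algebraMap k (IntermediateField.adjoin k (Set.range ((↑) : s → K)))).injective
  haveI : Algebra.IsSeparable (IntermediateField.adjoin k (Set.range ((↑) : s → K))) K :=
    Algebra.IsAlgebraic.isSeparable_of_perfectField
  exact Algebra.FormallySmooth.of_algebraicIndependent_of_isSeparable hs.1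

end Groth.Agent.Helper14.PerfectSmooth
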