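import Mathlib
import Groth.Agent.S9318
import Groth.Agent.S9444
import Groth.Agent.S11740
import Groth.Agent.Lib.Helper5.PSR2
import Groth.Agent.Lib.Helper5.CompReg
import Groth.Agent.Lib.Helper1.CompletionDim
import Groth.Agent.Lib.Helper14.AdicFSRegular
import Groth.Agent.Lib.Helper14.PerfectSmooth

/-!
# Adic formal smoothness over a field implies regularity (assembly)
-/

set_option autoImplicit false
universe u

namespace Groth.Agent.Helper14.AdicFSRegular

open IsLocalRing

theorem complete_case_aux (F K R : Type u) [Field F]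
    (hF : ∀ (C : Type u) [CommRing C], Subsingleton (F →+* C))
    [Field K] [CommRing R] [IsLocalRing R] [IsNoetherianRing R]
    [IsAdicComplete (maximalIdeal R) R] [Algebra F R] [Algebra F K] [Algebra K R]
    (hK : Function.Surjective ((residue R).comp (algebraMap K R)))
    (h : CAlgX.IsAdicFormallySmooth F R (maximalIdeal R)) :
    ∃ n : ℕ, Nonempty (MvPowerSeries (Fin n) K ≃+* R) := by
  haveI : IsScalarTower F K R := IsScalarTower.of_algebraMap_eq fun x =>
    RingHom.congr_fun (@Subsingleton.elim _ (hF R) (algebraMap F R)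
      ((algebraMap K R).comp (algebraMap F K))) x
  let bas := Module.finBasis (ResidueField R) (CotangentSpace R)
  choose b' hb' using fun i => Ideal.toCotangent_surjective (maximalIdeal R) (bas i)
  have hb : ∀ i, (b' i : R) ∈ maximalIdeal R := fun i => (b' i).2
  let ψ := Groth.Agent.Helper5.PSR.evalHom (k := K) (fun i => (b' i : R)) hb
  have hψX : ∀ i, ψ (MvPowerSeries.X i) = (b' i : R) :=
    Groth.Agent.Helper5.PSR.evalHom_X _ hb
  have hψ : ∀ i, ψ (MvPowerSeries.X i) ∈ maximalIdeal R := fun i => by rw [hψX]; exact hb i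
  have hfun : (fun i => (maximalIdeal R).toCotangent ⟨ψ (MvPowerSeries.X i), hψ i⟩) = bas := by
    funext i
    rw [← hb' i]
    congr 1
    exact Subtype.ext (hψX i)
  have hli : LinearIndependent (ResidueField R)
      (fun i => (maximalIdeal R).toCotangent ⟨ψ (MvPowerSeries.X i), hψ i⟩) := by
    rw [hfun]; exact bas.linearIndependent
  have hsp : Submodule.span (ResidueField R) (Set.range
      (fun i => (maximalIdeal R).toCotangent ⟨ψ (MvPowerSeries.X i), hψ i⟩)) = ⊤ := by
    rw [hfun]; exact bas.span_eq
  obtain ⟨hsurj, hker⟩ := Groth.Agent.S11740.result K R hK _ ψ hψ hli hsp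
  have hspan : Ideal.span (Set.range fun i => ψ (MvPowerSeries.X i)) = maximalIdeal R :=
    Groth.Agent.Helper5.PSR.ideal_span_eq_of_cotangent_span (fun i => ψ (MvPowerSeries.X i)) hψ hsp
  have h𝔑 : maximalIdeal R ≤ (maximalIdeal (MvPowerSeries (Fin _) K)).map (ψ.restrictScalars F) := by
    refine (le_of_eq hspan.symm).trans (Ideal.span_le.mpr ?_)
    rintro _ ⟨i, rfl⟩
    refine Ideal.mem_map_of_mem _ ?_
    rw [mem_maximalIdeal, mem_nonunits_iff, MvPowerSeries.isUnit_iff_constantCoeff]
    simp
  have hbot := ker_eq_bot_of_adicFS (ψ.restrictScalars F) hsurj hker (maximalIdeal R) h𝔑 h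
  have hinj : Function.Injective ψ := by
    rw [injective_iff_map_eq_zero]
    intro x hx
    have : x ∈ RingHom.ker (ψ.restrictScalars F) := hx
    rw [hbot] at this
    exact this
  exact ⟨_, ⟨RingEquiv.ofBijective ψ.toRingHom ⟨hinj, hsurj⟩⟩⟩

theorem complete_case (F R : Type u) [Field F]
    (hF : ∀ (C : Type u) [CommRing C], Subsingleton (F →+* C))
    [CommRing R] [IsLocalRing R] [IsNoetherianRing R]
    [IsAdicComplete (maximalIdeal R) R] [Algebra F R]
    (h : CAlgX.IsAdicFormallySmooth F R (maximalIdeal R)) :
    ∃ n : ℕ, Nonempty (MvPowerSeries (Fin n) (ResidueField R) ≃+* R) := by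
  obtain ⟨s, hs⟩ := Groth.Agent.S9444.exists_section R F
  letI : Algebra (ResidueField R) R := s.toAlgebra
  refine complete_case_aux F (ResidueField R) R hF ?_ h
  change Function.Surjective ((residue R).comp s)
  rw [hs]
  exact Function.surjective_id

/-- ring equivalences of coefficient rings induce ring equivalences of power series rings. -/
noncomputable def mapEquiv {σ : Type*} {K L : Type*} [CommRing K] [CommRing L] (e : K ≃+* L) :
    MvPowerSeries σ K ≃+* MvPowerSeries σ L :=
  RingEquiv.ofRingHom (MvPowerSeries.map (σ := σ) (e : K →+* L))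
    (MvPowerSeries.map (σ := σ) (e.symm : L →+* K))
    (by ext f n; simp) (by ext f n; simp)

theorem general_F (F A : Type u) [Field F]
    (hF : ∀ (C : Type u) [CommRing C], Subsingleton (F →+* C))
    [CommRing A] [IsLocalRing A] [IsNoetherianRing A] [Algebra F A]
    (h : CAlgX.IsAdicFormallySmooth F A (maximalIdeal A)) :
    IsRegularLocalRing A ∧ ∃ n : ℕ, Nonempty
      (AdicCompletion (maximalIdeal A) A ≃+* MvPowerSeries (Fin n) (ResidueField A)) := by
  haveI hN : IsNoetherianRing (AdicCompletion (maximalIdeal A) A) :=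
    Groth.Agent.S0543.result A (maximalIdeal A)
  have h1 := (Groth.Agent.S9318.result (R := F) (maximalIdeal A)
    (maximalIdeal A).fg_of_isNoetherianRing).mp h
  rw [← AdicCompletion.maximalIdeal_eq_map] at h1
  obtain ⟨n, ⟨e⟩⟩ := complete_case F (AdicCompletion (maximalIdeal A) A) hF h1
  constructor
  · rw [Groth.Agent.Helper1.isRegularLocalRing_adicCompletion_iff]
    exact IsRegularLocalRing.of_ringEquiv e
  · let eκ : ResidueField A ≃+* ResidueField (AdicCompletion (maximalIdeal A) A) :=
      RingEquiv.ofBijective _ (AdicCompletion.residueField_map_bijective A)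
    exact ⟨n, ⟨e.symm.trans (mapEquiv eκ.symm)⟩⟩

theorem exists_primeField (k : Type u) [Field k] :
    ∃ (F : Type u) (_ : Field F) (_ : Algebra F k),
      (∀ (C : Type u) [CommRing C], Subsingleton (F →+* C)) ∧ Algebra.FormallySmooth F k := by
  obtain ⟨p, hpk⟩ := CharP.exists k
  rcases CharP.char_is_prime_or_zero k p with hp | hp
  · haveI := Fact.mk hp
    letI : Algebra (ZMod p) k := ZMod.algebra k p
    letI : Algebra (ULift.{u} (ZMod p)) k :=
      ((algebraMap (ZMod p) k).comp (ULift.ringEquiv (R := ZMod p)).toRingHom).toAlgebra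
    refine ⟨ULift.{u} (ZMod p), inferInstance, inferInstance, ?_, ?_⟩
    · intro C _
      constructor
      intro f g
      have h1 : f.comp (ULift.ringEquiv (R := ZMod p)).symm.toRingHom =
          g.comp (ULift.ringEquiv (R := ZMod p)).symm.toRingHom := Subsingleton.elim _ _
      ext x
      have h2 := RingHom.congr_fun h1 (ULift.ringEquiv x)
      simp only [RingHom.comp_apply, RingEquiv.toRingHom_eq_coe, RingHom.coe_coe,
        RingEquiv.symm_apply_apply] at h2
      exact h2
    · exact Groth.Agent.Helper14.PerfectSmooth.formallySmooth_of_perfect p _ k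
  · subst hp
    haveI : CharZero k := CharP.charP_to_charZero k
    letI : Algebra (ULift.{u} ℚ) k :=
      ((algebraMap ℚ k).comp (ULift.ringEquiv (R := ℚ)).toRingHom).toAlgebra
    refine ⟨ULift.{u} ℚ, inferInstance, inferInstance, ?_, ?_⟩
    · intro C _
      constructor
      intro f g
      have h1 : f.comp (ULift.ringEquiv (R := ℚ)).symm.toRingHom =
          g.comp (ULift.ringEquiv (R := ℚ)).symm.toRingHom := Subsingleton.elim _ _
      ext x
      have h2 := RingHom.congr_fun h1 (ULift.ringEquiv x)
      simp only [RingHom.comp_apply, RingEquiv.toRingHom_eq_coe, RingHom.coe_coe,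
        RingEquiv.symm_apply_apply] at h2
      exact h2
    · haveI : CharZero (ULift.{u} ℚ) :=
        charZero_of_injective_ringHom (f := (ULift.ringEquiv (R := ℚ)).symm.toRingHom)
          (ULift.ringEquiv (R := ℚ)).symm.injective
      exact Groth.Agent.Helper14.PerfectSmooth.formallySmooth_of_charZero _ k

/-- **Main theorem**: a Noetherian local algebra over a field which is formally smooth for the
adic topology is regular, and its completion is a power series ring over the residue field. -/
theorem general (k A : Type u) [Field k] [CommRing A] [IsLocalRing A] [IsNoetherianRing A]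
    [Algebra k A] (h : CAlgX.IsAdicFormallySmooth k A (maximalIdeal A)) :
    IsRegularLocalRing A ∧ ∃ n : ℕ, Nonempty
      (AdicCompletion (maximalIdeal A) A ≃+* MvPowerSeries (Fin n) (ResidueField A)) := by
  obtain ⟨F, _, _, hF, hsm⟩ := exists_primeField k
  letI : Algebra F A := ((algebraMap k A).comp (algebraMap F k)).toAlgebra
  haveI : IsScalarTower F k A := IsScalarTower.of_algebraMap_eq fun x => rfl
  exact general_F F A hF (trans (maximalIdeal A) h)

end Groth.Agent.Helper14.AdicFSRegular
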