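import Mathlib
import Groth.Prelude.Def_CAlgX

/-!
# Transfer of adic formal smoothness along algebra isomorphisms
-/

set_option autoImplicit false
universe u

namespace Groth.Agent.Helper14.AdicFSTransfer

open IsLocalRing

theorem of_algEquiv {R S S' : Type u} [CommRing R] [CommRing S] [CommRing S'] [Algebra R S]
    [Algebra R S'] (e : S ≃ₐ[R] S') (𝔫 : Ideal S) (𝔫' : Ideal S')
    (h𝔫 : ∀ x ∈ 𝔫', e.symm x ∈ 𝔫) (h : CAlgX.IsAdicFormallySmooth R S' 𝔫') :
    CAlgX.IsAdicFormallySmooth R S 𝔫 := by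
  intro C _ _ J hJ ψ hψ
  obtain ⟨k, hk⟩ := hψ
  have hk' : ∀ x ∈ 𝔫' ^ k, (ψ.comp e.symm.toAlgHom) x = 0 := by
    intro x hx
    apply hk
    have h1 : 𝔫'.map e.symm.toAlgHom ≤ 𝔫 := by
      rw [Ideal.map_le_iff_le_comap]
      intro y hy
      exact h𝔫 y hy
    have h2 := Ideal.mem_map_of_mem e.symm.toAlgHom hx
    rw [Ideal.map_pow] at h2
    exact Ideal.pow_right_mono h1 k h2
  obtain ⟨χ', hχ'⟩ := h C J hJ (ψ.comp e.symm.toAlgHom) ⟨k, hk'⟩
  refine ⟨χ'.comp e.toAlgHom, ?_⟩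
  apply AlgHom.ext
  intro s
  have := DFunLike.congr_fun hχ' (e s)
  simpa using this

theorem of_algEquiv_local {R S S' : Type u} [CommRing R] [CommRing S] [CommRing S'] [Algebra R S]
    [Algebra R S'] [IsLocalRing S] [IsLocalRing S'] (e : S ≃ₐ[R] S')
    (h : CAlgX.IsAdicFormallySmooth R S' (maximalIdeal S')) :
    CAlgX.IsAdicFormallySmooth R S (maximalIdeal S) := by
  refine of_algEquiv e _ _ ?_ h
  intro x hx
  rw [mem_maximalIdeal, mem_nonunits_iff] at hx ⊢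
  intro hu
  apply hx
  have := hu.map e
  simpa using this

end Groth.Agent.Helper14.AdicFSTransfer
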