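import Mathlib

/-!
# Power series rings in finitely many variables: adic structure and continuous homomorphisms
-/

set_option autoImplicit false
universe u v w

namespace Groth.Agent.Helper14.PowerSeriesAdic

open MvPowerSeries

variable {σ : Type v} [Finite σ] {A : Type u} [CommRing A]

theorem mem_pow_of_truncTotal_eq_zero (n : ℕ) (f : MvPowerSeries σ A) (hf : truncTotal n f = 0) :
    f ∈ (Ideal.span (Set.range (X : σ → MvPowerSeries σ A))) ^ n := by
  have h1 : toAdicCompletionAlgEquiv σ A f ∈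
      LinearMap.ker (AdicCompletion.eval (MvPolynomial.idealOfVars σ A) (MvPolynomial σ A) n) := by
    rw [LinearMap.mem_ker, AdicCompletion.eval_apply, toAdicCompletionAlgEquiv_apply,
      toAdicCompletion_apply_eq_mk_truncTotal, hf, map_zero]
  rw [← AdicCompletion.pow_smul_top_eq_ker_eval (MvPolynomial.idealOfVars_fg σ A)] at h1
  have h2 : f ∈ (MvPolynomial.idealOfVars σ A ^ n •
      (⊤ : Submodule (MvPolynomial σ A) (MvPowerSeries σ A))) := by
    have := Submodule.mem_map_of_mem (f := (toAdicCompletionAlgEquiv σ A).symm.toLinearMap) h1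
    rw [Submodule.map_smul'', Submodule.map_top, LinearMap.range_eq_top.mpr
      (toAdicCompletionAlgEquiv σ A).symm.surjective, AlgEquiv.toLinearMap_apply,
      AlgEquiv.symm_apply_apply] at this
    exact this
  have h3 : (MvPolynomial.idealOfVars σ A ^ n •
      (⊤ : Submodule (MvPolynomial σ A) (MvPowerSeries σ A))) =
      ((Ideal.span (Set.range (X : σ → MvPowerSeries σ A))) ^ n).restrictScalars
        (MvPolynomial σ A) := by
    rw [Ideal.smul_top_eq_map, Ideal.map_pow, MvPolynomial.idealOfVars, Ideal.map_span,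
      ← Set.range_comp]
    congr 4
    ext1 i
    simp [MvPowerSeries.algebraMap_apply', MvPolynomial.coe_X]
  rw [h3] at h2
  exact h2

theorem sub_truncTotal_mem_pow (n : ℕ) (f : MvPowerSeries σ A) :
    f - ((truncTotal n f : MvPolynomial σ A) : MvPowerSeries σ A) ∈
      (Ideal.span (Set.range (X : σ → MvPowerSeries σ A))) ^ n := by
  apply mem_pow_of_truncTotal_eq_zero
  ext x
  rw [map_sub, MvPolynomial.coeff_sub, coeff_truncTotal_eq_ite, coeff_truncTotal_eq_ite,
    MvPolynomial.coeff_coe, coeff_truncTotal_eq_ite]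
  split_ifs <;> simp

omit [Finite σ] in
theorem span_X_le_ker_constantCoeff :
    Ideal.span (Set.range (X : σ → MvPowerSeries σ A)) ≤
      RingHom.ker (constantCoeff : MvPowerSeries σ A →+* A) := by
  rw [Ideal.span_le]
  rintro _ ⟨i, rfl⟩
  simp [RingHom.mem_ker]

theorem ker_constantCoeff_eq :
    RingHom.ker (constantCoeff : MvPowerSeries σ A →+* A) =
      Ideal.span (Set.range (X : σ → MvPowerSeries σ A)) := by
  refine le_antisymm ?_ span_X_le_ker_constantCoeff
  intro f hf
  rw [RingHom.mem_ker] at hf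
  have := mem_pow_of_truncTotal_eq_zero 1 f ?_
  · rwa [pow_one] at this
  · ext x
    rw [coeff_truncTotal_eq_ite]
    split_ifs with h
    · have hx : x = 0 := by
        rw [Nat.lt_one_iff] at h
        exact (Finsupp.degree_eq_zero_iff x).mp h
      subst hx
      simpa using hf
    · simp

theorem exists_algHom (E : Type w) [CommRing E] [Algebra A E] (z : σ → E)
    (hz : ∀ i, IsNilpotent (z i)) :
    ∃ g : MvPowerSeries σ A →ₐ[A] E, (∀ i, g (X i) = z i) ∧
      ∃ M : ℕ, ∀ x ∈ (Ideal.span (Set.range (X : σ → MvPowerSeries σ A))) ^ M, g x = 0 := by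
  have hZfg : (Ideal.span (Set.range z)).FG := ⟨(Set.finite_range z).toFinset, by simp⟩
  have hZle : Ideal.span (Set.range z) ≤ nilradical E := by
    rw [Ideal.span_le]
    rintro _ ⟨i, rfl⟩
    exact mem_nilradical.mpr (hz i)
  obtain ⟨M, hM⟩ := hZfg.isNilpotent_iff_le_nilradical.mpr hZle
  have hker : ∀ p ∈ MvPolynomial.idealOfVars σ A ^ M, MvPolynomial.aeval z p = 0 := by
    intro p hp
    have h1 := Ideal.mem_map_of_mem (MvPolynomial.aeval z : MvPolynomial σ A →ₐ[A] E) hp
    rw [Ideal.map_pow, MvPolynomial.idealOfVars, Ideal.map_span, ← Set.range_comp] at h1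
    have h2 : ((MvPolynomial.aeval z : MvPolynomial σ A →ₐ[A] E) ∘ MvPolynomial.X) = z := by
      ext i; simp
    rw [h2, hM] at h1
    simpa using h1
  let g : MvPowerSeries σ A →ₐ[A] E :=
    (Ideal.Quotient.liftₐ (MvPolynomial.idealOfVars σ A ^ M) (MvPolynomial.aeval z) hker).comp
      ((truncTotalAlgHom σ A M).restrictScalars A)
  have hgX : ∀ i, g (X i) = z i := by
    intro i
    have h1 : (X i : MvPowerSeries σ A) =
        algebraMap (MvPolynomial σ A) (MvPowerSeries σ A) (MvPolynomial.X i) := by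
      rw [MvPowerSeries.algebraMap_apply']
      simp [MvPolynomial.coe_X]
    change (Ideal.Quotient.liftₐ (MvPolynomial.idealOfVars σ A ^ M) (MvPolynomial.aeval z) hker)
      ((truncTotalAlgHom σ A M) (X i)) = z i
    rw [h1, AlgHom.commutes, Ideal.Quotient.algebraMap_eq]
    simp
  refine ⟨g, hgX, M, ?_⟩
  intro x hx
  have h1 := Ideal.mem_map_of_mem g hx
  rw [Ideal.map_pow, Ideal.map_span, ← Set.range_comp] at h1
  have h2 : (g ∘ (X : σ → MvPowerSeries σ A)) = z := by
    ext i; exact hgX i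
  rw [h2, hM] at h1
  simpa using h1

theorem algHom_ext_of_adic (E : Type w) [CommRing E] [Algebra A E]
    (g g' : MvPowerSeries σ A →ₐ[A] E) (m : ℕ)
    (hg : ∀ x ∈ (Ideal.span (Set.range (X : σ → MvPowerSeries σ A))) ^ m, g x = 0)
    (hg' : ∀ x ∈ (Ideal.span (Set.range (X : σ → MvPowerSeries σ A))) ^ m, g' x = 0)
    (h : ∀ i, g (X i) = g' (X i)) : g = g' := by
  have hpoly : g.comp (MvPolynomial.coeToMvPowerSeries.algHom A) =
      g'.comp (MvPolynomial.coeToMvPowerSeries.algHom A) := by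
    apply MvPolynomial.algHom_ext
    intro i
    simp [h i]
  ext f
  have h1 := hg _ (sub_truncTotal_mem_pow m f)
  have h2 := hg' _ (sub_truncTotal_mem_pow m f)
  rw [map_sub, sub_eq_zero] at h1 h2
  rw [h1, h2]
  exact DFunLike.congr_fun hpoly (truncTotal m f)

/-- The ideal of definition `𝔞 B + (T)` of `B = A[[T]]`. -/
noncomputable abbrev defIdeal (σ : Type v) {A : Type u} [CommRing A] (𝔞 : Ideal A) : Ideal (MvPowerSeries σ A) :=
  𝔞.map (MvPowerSeries.C : A →+* MvPowerSeries σ A) ⊔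
    RingHom.ker (MvPowerSeries.constantCoeff : MvPowerSeries σ A →+* A)

omit [Finite σ] in
theorem span_X_le_defIdeal (𝔞 : Ideal A) :
    Ideal.span (Set.range (X : σ → MvPowerSeries σ A)) ≤ defIdeal σ 𝔞 :=
  span_X_le_ker_constantCoeff.trans le_sup_right

theorem exists_algHom_adic (𝔞 : Ideal A) (E : Type w) [CommRing E] [Algebra A E]
    (hE : ∃ k : ℕ, (𝔞 ^ k).map (algebraMap A E) = ⊥) (z : σ → E)
    (hz : ∀ i, IsNilpotent (z i)) :
    ∃ g : MvPowerSeries σ A →ₐ[A] E,
      (∃ m : ℕ, ∀ x ∈ (defIdeal σ 𝔞) ^ m, g x = 0) ∧ (∀ i, g (X i) = z i) ∧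
      ∃ M : ℕ, ∀ x ∈ (Ideal.span (Set.range (X : σ → MvPowerSeries σ A))) ^ M, g x = 0 := by
  obtain ⟨g, hgX, M, hM⟩ := exists_algHom (A := A) E z hz
  obtain ⟨k, hk⟩ := hE
  refine ⟨g, ⟨k + M, ?_⟩, hgX, M, hM⟩
  intro x hx
  have hx' := Ideal.sup_pow_add_le_pow_sup_pow hx
  obtain ⟨a, ha, b, hb, rfl⟩ := Submodule.mem_sup.mp hx'
  rw [map_add]
  have hb' : g b = 0 := by
    rw [ker_constantCoeff_eq] at hb
    exact hM b hb
  have ha' : g a = 0 := by
    rw [← Ideal.map_pow] at ha
    have h1 := Ideal.mem_map_of_mem (g : MvPowerSeries σ A →+* E) ha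
    rw [Ideal.map_map] at h1
    have h2 : (g : MvPowerSeries σ A →+* E).comp (MvPowerSeries.C : A →+* MvPowerSeries σ A) =
        algebraMap A E := by
      ext r
      have : (MvPowerSeries.C r : MvPowerSeries σ A) = algebraMap A (MvPowerSeries σ A) r := by
        rw [MvPowerSeries.algebraMap_apply]; simp
      simp [this]
    rw [h2, hk] at h1
    simpa using h1
  rw [ha', hb', add_zero]

theorem algHom_ext_adic (𝔞 : Ideal A) (E : Type w) [CommRing E] [Algebra A E]
    (g g' : MvPowerSeries σ A →ₐ[A] E)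
    (hg : ∃ m : ℕ, ∀ x ∈ (defIdeal σ 𝔞) ^ m, g x = 0)
    (hg' : ∃ m : ℕ, ∀ x ∈ (defIdeal σ 𝔞) ^ m, g' x = 0)
    (h : ∀ i, g (X i) = g' (X i)) : g = g' := by
  obtain ⟨m, hm⟩ := hg
  obtain ⟨m', hm'⟩ := hg'
  refine algHom_ext_of_adic E g g' (max m m') ?_ ?_ h
  · intro x hx
    exact hm x (Ideal.pow_le_pow_right (le_max_left m m')
      (Ideal.pow_right_mono (span_X_le_defIdeal 𝔞) _ hx))
  · intro x hx
    exact hm' x (Ideal.pow_le_pow_right (le_max_right m m')
      (Ideal.pow_right_mono (span_X_le_defIdeal 𝔞) _ hx))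

end Groth.Agent.Helper14.PowerSeriesAdic
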