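import Mathlib
import Groth.Agent.S4533
import Groth.Agent.S4534
import Groth.Agent.S4537

/-!
# Adic formal smoothness of power series rings over a field
-/

set_option autoImplicit false
universe u

namespace Groth.Agent.Helper14.PowerSeriesSmooth

theorem isFormallySmoothAdic_of_formallySmooth (k K : Type u) [CommRing k] [CommRing K]
    [Algebra k K] [Algebra.FormallySmooth k K] (𝔞 : Ideal k) (𝔟 : Ideal K) :
    EGA41.IsFormallySmoothAdic k 𝔞 K 𝔟 := by
  intro C _ _ J hJ _ u _
  exact Algebra.FormallySmooth.exists_lift J hJ u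

theorem maximalIdeal_eq (K : Type u) [Field K] (n : ℕ) :
    IsLocalRing.maximalIdeal (MvPowerSeries (Fin n) K) =
      (⊥ : Ideal K).map (MvPowerSeries.C : K →+* MvPowerSeries (Fin n) K) ⊔
        RingHom.ker (MvPowerSeries.constantCoeff : MvPowerSeries (Fin n) K →+* K) := by
  rw [Ideal.map_bot, bot_sup_eq]
  symm
  apply IsLocalRing.eq_maximalIdeal
  exact RingHom.ker_isMaximal_of_surjective _ (fun a => ⟨MvPowerSeries.C a, MvPowerSeries.constantCoeff_C a⟩)

theorem isAdicFormallySmooth_mvPowerSeries (k K : Type u) [CommRing k] [Field K] [Algebra k K]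
    [Algebra.FormallySmooth k K] (n : ℕ) :
    CAlgX.IsAdicFormallySmooth k (MvPowerSeries (Fin n) K)
      (IsLocalRing.maximalIdeal (MvPowerSeries (Fin n) K)) := by
  rw [Groth.Agent.S4537.result]
  refine Groth.Agent.S4534.result (A := k) (B := K) (C := MvPowerSeries (Fin n) K) ⊥ ⊥ _
    ⟨1, by simp⟩ ⟨1, by simp⟩ (isFormallySmoothAdic_of_formallySmooth k K ⊥ ⊥) ?_
  rw [maximalIdeal_eq]
  exact Groth.Agent.S4533.result K ⊥ n

end Groth.Agent.Helper14.PowerSeriesSmooth
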