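import Mathlib
import Groth.Prelude.Def_Found
import Groth.Agent.Lib.Helper14.AdicFSRegular2
import Groth.Agent.Lib.Helper14.AdicFSBaseChange
import Groth.Agent.Lib.Helper5.RegPS

/-!
# Adic formal smoothness over a field implies geometric regularity
-/

set_option autoImplicit false
universe u

namespace Groth.Agent.Helper14.AdicFSGeomReg

open IsLocalRing TensorProduct

theorem isRegularRing_tensor {k A : Type u} [Field k] [CommRing A] [IsLocalRing A]
    [IsNoetherianRing A] [Algebra k A] (h : CAlgX.IsAdicFormallySmooth k A (maximalIdeal A))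
    (k' : Type u) [Field k'] [Algebra k k'] [Module.Finite k k'] :
    IsRegularRing (k' ⊗[k] A) := by
  let e : k' ⊗[k] A ≃ₐ[k] A ⊗[k] k' := Algebra.TensorProduct.comm k k' A
  haveI : IsNoetherianRing (A ⊗[k] k') := IsNoetherianRing.of_finite A (A ⊗[k] k')
  haveI : IsNoetherianRing (k' ⊗[k] A) := isNoetherianRing_of_ringEquiv (A ⊗[k] k') e.symm.toRingEquiv
  haveI : Algebra.IsIntegral A (A ⊗[k] k') := Algebra.IsIntegral.of_finite A (A ⊗[k] k')
  apply Groth.Agent.Helper5.RegPS.isRegularRing_of_maximal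
  intro 𝔫 h𝔫
  -- `1 ⊗ a ∈ 𝔫` for `a ∈ 𝔪`
  have hmem : ∀ a ∈ maximalIdeal A, (1 : k') ⊗ₜ[k] a ∈ 𝔫 := by
    intro a ha
    let 𝔫' : Ideal (A ⊗[k] k') := 𝔫.comap (e.symm : A ⊗[k] k' →+* k' ⊗[k] A)
    haveI : 𝔫'.IsMaximal := Ideal.comap_isMaximal_of_surjective _ e.symm.surjective
    haveI : (𝔫'.comap (algebraMap A (A ⊗[k] k'))).IsMaximal :=
      Ideal.isMaximal_comap_of_isIntegral_of_isMaximal 𝔫'
    have h1 : 𝔫'.comap (algebraMap A (A ⊗[k] k')) = maximalIdeal A :=
      IsLocalRing.eq_maximalIdeal inferInstance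
    have h2 : a ∈ 𝔫'.comap (algebraMap A (A ⊗[k] k')) := by rw [h1]; exact ha
    rw [Ideal.mem_comap, Ideal.mem_comap] at h2
    simpa [e] using h2
  have h1 := Groth.Agent.Helper14.AdicFSBaseChange.baseChange k' (maximalIdeal A) h
  have h2 := Groth.Agent.Helper14.AdicFSBaseChange.localization 𝔫.primeCompl
    (Localization.AtPrime 𝔫) _ h1
  have h3 : ((maximalIdeal A).map
      (Algebra.TensorProduct.includeRight : A →ₐ[k] k' ⊗[k] A)).map
      (algebraMap (k' ⊗[k] A) (Localization.AtPrime 𝔫)) ≤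
      maximalIdeal (Localization.AtPrime 𝔫) := by
    rw [Ideal.map_le_iff_le_comap, Ideal.map_le_iff_le_comap]
    intro a ha
    rw [Ideal.mem_comap, Ideal.mem_comap,
      IsLocalization.AtPrime.to_map_mem_maximal_iff (Localization.AtPrime 𝔫) 𝔫]
    exact hmem a ha
  exact (Groth.Agent.Helper14.AdicFSRegular.general k' (Localization.AtPrime 𝔫)
    (Groth.Agent.Helper14.AdicFSBaseChange.mono h3 h2)).1

theorem isGeometricallyRegular {k A : Type u} [Field k] [CommRing A] [IsLocalRing A]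
    [IsNoetherianRing A] [Algebra k A] (h : CAlgX.IsAdicFormallySmooth k A (maximalIdeal A)) :
    CAlg.IsGeometricallyRegular k A := by
  intro k' _ _ hfin
  exact isRegularRing_tensor h k'

end Groth.Agent.Helper14.AdicFSGeomReg
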