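import Mathlib
import Groth.Prelude.Def_CAlgX

/-!
# Adic formal smoothness: lifting along surjections and extension of derivations
-/

set_option autoImplicit false
universe u

namespace Groth.Agent.Helper14.AdicFSDer

open TrivSqZeroExt

/-- Lifting along a surjection with square-zero kernel. -/
theorem lift_of_surjective {R S : Type u} [CommRing R] [CommRing S] [Algebra R S] {𝔫 : Ideal S}
    (h : CAlgX.IsAdicFormallySmooth R S 𝔫) {C C' : Type u} [CommRing C] [CommRing C']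
    [Algebra R C] [Algebra R C'] (π : C →ₐ[R] C') (hπ : Function.Surjective π)
    (hker : (RingHom.ker π) ^ 2 = ⊥) (ψ : S →ₐ[R] C') (hψ : ∃ m : ℕ, ∀ x ∈ 𝔫 ^ m, ψ x = 0) :
    ∃ χ : S →ₐ[R] C, π.comp χ = ψ := by
  let e : (C ⧸ RingHom.ker π) ≃ₐ[R] C' := Ideal.quotientKerAlgEquivOfSurjective hπ
  obtain ⟨m, hm⟩ := hψ
  obtain ⟨χ, hχ⟩ := h C (RingHom.ker π) hker ((e.symm : C' →ₐ[R] _).comp ψ)
    ⟨m, fun x hx => by simp [hm x hx]⟩
  refine ⟨χ, ?_⟩
  ext s
  have h1 := DFunLike.congr_fun hχ s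
  simp only [AlgHom.comp_apply, Ideal.Quotient.mkₐ_eq_mk] at h1
  have h2 := congrArg e h1
  have h3 : e ((e.symm : C' →ₐ[R] _) (ψ s)) = ψ s := e.apply_symm_apply (ψ s)
  rw [h3] at h2
  rw [← h2]
  exact (Ideal.quotientKerAlgEquivOfSurjective_mk hπ (χ s)).symm

/-- Extension of derivations: if `S` is formally smooth over `R` for the `𝔫`-adic topology,
every "derivation" `δ : R → V` into a module over a discrete quotient of `S` extends to a
derivation of `S`. -/
theorem exists_derivation {R S : Type u} [CommRing R] [CommRing S] [Algebra R S] {𝔫 : Ideal S}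
    (h : CAlgX.IsAdicFormallySmooth R S 𝔫) (𝔞 : Ideal S) (h𝔞 : ∃ m : ℕ, 𝔫 ^ m ≤ 𝔞)
    (V : Type u) [AddCommGroup V] [Module S V] [Module (S ⧸ 𝔞) V] [IsScalarTower S (S ⧸ 𝔞) V]
    (δ : R →+ V)
    (hδ : ∀ x y, δ (x * y) = algebraMap R S x • δ y + algebraMap R S y • δ x) :
    ∃ D : Derivation ℤ S V, ∀ x, D (algebraMap R S x) = δ x := by
  letI : Module (S ⧸ 𝔞)ᵐᵒᵖ V :=
    Module.compHom V ((RingHom.id (S ⧸ 𝔞)).fromOpposite (fun _ _ => Commute.all _ _))
  haveI : IsCentralScalar (S ⧸ 𝔞) V := ⟨fun q v => rfl⟩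
  have hsm : ∀ (s : S) (v : V), (Ideal.Quotient.mk 𝔞 s) • v = s • v := fun s v =>
    algebraMap_smul (S ⧸ 𝔞) s v
  have hδ1 : δ 1 = 0 := by
    have := hδ 1 1
    simp only [mul_one, map_one, one_smul] at this
    exact left_eq_add.mp this
  let ρ : R →+* TrivSqZeroExt (S ⧸ 𝔞) V :=
    { toFun := fun x => inl (algebraMap R (S ⧸ 𝔞) x) + inr (δ x)
      map_one' := by
        ext
        · simp
        · simp [hδ1]
      map_mul' := fun x y => by
        ext
        · simp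
        · simp only [snd_add, snd_inl, snd_inr, zero_add, snd_mul, fst_add, fst_inl, fst_inr,
            add_zero, op_smul_eq_smul]
          rw [hδ x y, IsScalarTower.algebraMap_apply R S (S ⧸ 𝔞),
            IsScalarTower.algebraMap_apply R S (S ⧸ 𝔞), Ideal.Quotient.algebraMap_eq, hsm, hsm]
      map_zero' := by
        ext
        · simp
        · simp
      map_add' := fun x y => by
        ext
        · simp
        · simp }
  letI : Algebra R (TrivSqZeroExt (S ⧸ 𝔞) V) := ρ.toAlgebra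
  have hρ : ∀ x, algebraMap R (TrivSqZeroExt (S ⧸ 𝔞) V) x =
      inl (algebraMap R (S ⧸ 𝔞) x) + inr (δ x) := fun x => rfl
  let π : TrivSqZeroExt (S ⧸ 𝔞) V →ₐ[R] (S ⧸ 𝔞) :=
    { (fstHom (S ⧸ 𝔞) (S ⧸ 𝔞) V).toRingHom with
      commutes' := fun x => by
        change (algebraMap R (TrivSqZeroExt (S ⧸ 𝔞) V) x).fst = _
        rw [hρ]
        simp }
  have hπ : ∀ c, π c = c.fst := fun c => rfl
  have hπs : Function.Surjective π := fun q => ⟨inl q, by rw [hπ, fst_inl]⟩
  have hker : (RingHom.ker π) ^ 2 = ⊥ := by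
    have : RingHom.ker π = kerIdeal (S ⧸ 𝔞) V := by
      ext c
      rfl
    rw [this, kerIdeal_sq]
  obtain ⟨m, hm⟩ := h𝔞
  obtain ⟨χ, hχ⟩ := lift_of_surjective h π hπs hker (Ideal.Quotient.mkₐ R 𝔞)
    ⟨m, fun x hx => by
      rw [Ideal.Quotient.mkₐ_eq_mk, Ideal.Quotient.eq_zero_iff_mem]
      exact hm hx⟩
  have hfst : ∀ s, (χ s).fst = Ideal.Quotient.mk 𝔞 s := fun s => DFunLike.congr_fun hχ s
  let D₀ : S →ₗ[ℤ] V :=
    AddMonoidHom.toIntLinearMap
      { toFun := fun s => (χ s).snd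
        map_zero' := by simp
        map_add' := fun a b => by simp }
  have hD₀ : ∀ s, D₀ s = (χ s).snd := fun s => rfl
  refine ⟨Derivation.mk' D₀ (fun a b => ?_), fun x => ?_⟩
  · rw [hD₀, hD₀, hD₀, map_mul, snd_mul, hfst, hfst, op_smul_eq_smul, hsm, hsm]
  · change D₀ _ = _
    rw [hD₀, χ.commutes, hρ]
    simp

theorem sq_zero_aux' {A : Type*} [CommRing A] (J : Ideal A) (hJ : J ^ 2 = ⊥) {B : Type*}
    [CommRing B] (I : Ideal B) (f : B →+* A) (k : ℕ) (h : ∀ x ∈ I ^ k, f x ∈ J) :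
    ∀ x ∈ I ^ (k + k), f x = 0 := by
  intro x hx
  rw [pow_add] at hx
  have h1 : f x ∈ J * J := by
    refine Submodule.mul_induction_on hx ?_ ?_
    · intro a ha b hb
      rw [map_mul]
      exact Ideal.mul_mem_mul (h a ha) (h b hb)
    · intro a b ha hb
      rw [map_add]
      exact Ideal.add_mem _ ha hb
  rw [← pow_two, hJ] at h1
  exact h1

theorem of_forall_killed_aux {R S : Type u} [CommRing R] [CommRing S] [Algebra R S] (𝔫 : Ideal S)
    (h : ∀ (C : Type u) [CommRing C] [Algebra R C] (J : Ideal C), J ^ 2 = ⊥ →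
      ∀ ψ : S →ₐ[R] C ⧸ J, (∃ k : ℕ, ∀ x ∈ 𝔫 ^ k, ψ x = 0) →
      (∀ s ∈ 𝔫, ∀ c : C, Ideal.Quotient.mk J c = ψ s → ∀ j ∈ J, c * j = 0) →
      ∃ χ : S →ₐ[R] C, (Ideal.Quotient.mkₐ R J).comp χ = ψ) :
    ∀ (i : ℕ) (C : Type u) [CommRing C] [Algebra R C] (J : Ideal C), J ^ 2 = ⊥ →
      ∀ ψ : S →ₐ[R] C ⧸ J, (∃ k : ℕ, ∀ x ∈ 𝔫 ^ k, ψ x = 0) →
      (((𝔫.map ψ.toRingHom).comap (Ideal.Quotient.mk J)) ^ i * J = ⊥) →
      ∃ χ : S →ₐ[R] C, (Ideal.Quotient.mkₐ R J).comp χ = ψ := by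
  intro i
  induction i with
  | zero =>
    intro C _ _ J hJ ψ hψ hN
    rw [pow_zero, one_mul] at hN
    refine h C J hJ ψ hψ ?_
    intro s _ c _ j hj
    rw [hN] at hj
    rw [(Ideal.mem_bot.mp hj), mul_zero]
  | succ i ih =>
    intro C _ _ J hJ ψ hψ hN
    obtain ⟨k, hk⟩ := hψ
    generalize hNdef : (𝔫.map ψ.toRingHom).comap (Ideal.Quotient.mk J) = N at hN
    have hJ₁le : N * J ≤ J := Ideal.mul_le_right
    -- first lift to `C ⧸ N * J`
    let e := DoubleQuot.quotQuotEquivQuotOfLEₐ R hJ₁le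
    have he : ∀ c : C, e (Ideal.Quotient.mk _ (Ideal.Quotient.mk (N * J) c)) =
        Ideal.Quotient.mk J c := fun c => rfl
    have hJbar : (J.map (Ideal.Quotient.mkₐ R (N * J))) ^ 2 = ⊥ := by
      rw [← Ideal.map_pow, hJ, Ideal.map_bot]
    obtain ⟨χ₁, hχ₁⟩ := h (C ⧸ N * J) (J.map (Ideal.Quotient.mkₐ R (N * J))) hJbar
      ((e.symm : (C ⧸ J) →ₐ[R] _).comp ψ) ⟨k, fun x hx => by simp [hk x hx]⟩ (by
        intro s hs c₁ hc₁ j₁ hj₁
        obtain ⟨c, rfl⟩ := Ideal.Quotient.mk_surjective c₁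
        obtain ⟨j, hj, rfl⟩ := (Ideal.mem_map_iff_of_surjective (Ideal.Quotient.mkₐ R (N * J))
          Ideal.Quotient.mk_surjective).mp hj₁
        have h1 := congrArg e hc₁
        rw [he] at h1
        have h2 : e ((e.symm : (C ⧸ J) →ₐ[R] _) (ψ s)) = ψ s := e.apply_symm_apply (ψ s)
        rw [AlgHom.comp_apply, h2] at h1
        have hcN : c ∈ N := by
          rw [← hNdef, Ideal.mem_comap, h1]
          exact Ideal.mem_map_of_mem _ hs
        rw [Ideal.Quotient.mkₐ_eq_mk, ← map_mul, Ideal.Quotient.eq_zero_iff_mem]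
        exact Ideal.mul_mem_mul hcN hj)
    have hχ₁' : ∀ s, e (Ideal.Quotient.mk _ (χ₁ s)) = ψ s := by
      intro s
      have h1 := DFunLike.congr_fun hχ₁ s
      simp only [AlgHom.comp_apply, Ideal.Quotient.mkₐ_eq_mk] at h1
      rw [h1]
      exact e.apply_symm_apply (ψ s)
    -- `factor ∘ χ₁ = ψ`
    have hfac : ∀ s, Ideal.Quotient.factor hJ₁le (χ₁ s) = ψ s := by
      intro s
      rw [← hχ₁' s]
      obtain ⟨c, hc⟩ := Ideal.Quotient.mk_surjective (χ₁ s)
      rw [← hc, he, Ideal.Quotient.factor_mk]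
    -- now lift from `C ⧸ N * J` to `C`
    have hJ₁sq : (N * J) ^ 2 = ⊥ := by
      rw [eq_bot_iff, ← hJ]
      exact Ideal.pow_right_mono hJ₁le 2
    have hk₁ : ∀ x ∈ 𝔫 ^ (k + k), χ₁ x = 0 := by
      refine sq_zero_aux' (J.map (Ideal.Quotient.mkₐ R (N * J))) hJbar 𝔫 χ₁.toRingHom k ?_
      intro x hx
      rw [← Ideal.Quotient.eq_zero_iff_mem]
      have h1 := hχ₁' x
      rw [hk x hx] at h1
      exact e.injective (h1.trans (map_zero e).symm)
    have hN₁ : ((𝔫.map χ₁.toRingHom).comap (Ideal.Quotient.mk (N * J))) ^ i * (N * J) = ⊥ := by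
      rw [eq_bot_iff, ← hN, pow_succ, mul_assoc]
      refine Ideal.mul_mono_left (Ideal.pow_right_mono ?_ i)
      intro c hc
      rw [Ideal.mem_comap] at hc
      rw [← hNdef, Ideal.mem_comap]
      have h1 := Ideal.mem_map_of_mem (Ideal.Quotient.factor hJ₁le) hc
      rw [Ideal.Quotient.factor_mk, Ideal.map_map] at h1
      have h2 : (Ideal.Quotient.factor hJ₁le).comp χ₁.toRingHom = ψ.toRingHom := by
        ext s
        exact hfac s
      rw [h2] at h1
      exact h1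
    obtain ⟨χ, hχ⟩ := ih C (N * J) hJ₁sq χ₁ ⟨k + k, hk₁⟩ hN₁
    refine ⟨χ, ?_⟩
    ext s
    have h1 := DFunLike.congr_fun hχ s
    simp only [AlgHom.comp_apply, Ideal.Quotient.mkₐ_eq_mk] at h1 ⊢
    rw [← hfac s, ← h1, Ideal.Quotient.factor_mk]

/-- To check formal smoothness for the `𝔫`-adic topology it suffices to lift along square-zero
extensions whose kernel is killed by `𝔫`. -/
theorem of_forall_killed {R S : Type u} [CommRing R] [CommRing S] [Algebra R S] (𝔫 : Ideal S)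
    (h : ∀ (C : Type u) [CommRing C] [Algebra R C] (J : Ideal C), J ^ 2 = ⊥ →
      ∀ ψ : S →ₐ[R] C ⧸ J, (∃ k : ℕ, ∀ x ∈ 𝔫 ^ k, ψ x = 0) →
      (∀ s ∈ 𝔫, ∀ c : C, Ideal.Quotient.mk J c = ψ s → ∀ j ∈ J, c * j = 0) →
      ∃ χ : S →ₐ[R] C, (Ideal.Quotient.mkₐ R J).comp χ = ψ) :
    CAlgX.IsAdicFormallySmooth R S 𝔫 := by
  intro C _ _ J hJ ψ hψ
  obtain ⟨k, hk⟩ := hψ
  refine of_forall_killed_aux 𝔫 h k C J hJ ψ ⟨k, hk⟩ ?_
  have h1 : ((𝔫.map ψ.toRingHom).comap (Ideal.Quotient.mk J)) ^ k ≤ J := by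
    refine (Ideal.le_comap_pow _ k).trans ?_
    rw [← Ideal.map_pow]
    have h2 : (𝔫 ^ k).map ψ.toRingHom = ⊥ := by
      rw [eq_bot_iff, Ideal.map_le_iff_le_comap]
      intro x hx
      rw [Ideal.mem_comap]
      exact (Ideal.mem_bot.mpr (hk x hx))
    rw [h2]
    intro c hc
    rw [Ideal.mem_comap, Ideal.mem_bot] at hc
    exact Ideal.Quotient.eq_zero_iff_mem.mp hc
  rw [eq_bot_iff, ← hJ, pow_two]
  exact Ideal.mul_mono_left h1

/-- Descent of the base: if `A` is formally smooth over `F` and derivations of `k` into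
`𝔫`-torsion modules extend to `A`, then `A` is formally smooth over `k`. -/
theorem of_tower {F k A : Type u} [CommRing F] [CommRing k] [CommRing A] [Algebra F k]
    [Algebra k A] [Algebra F A] [IsScalarTower F k A] (𝔫 : Ideal A)
    (hF : CAlgX.IsAdicFormallySmooth F A 𝔫)
    (hE : ∀ (V : Type u) [AddCommGroup V] [Module A V], (∀ a ∈ 𝔫, ∀ v : V, a • v = 0) →
      ∀ δ : k →+ V, (∀ x y, δ (x * y) = algebraMap k A x • δ y + algebraMap k A y • δ x) →
      ∃ D : Derivation ℤ A V, ∀ x, D (algebraMap k A x) = δ x) :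
    CAlgX.IsAdicFormallySmooth k A 𝔫 := by
  apply of_forall_killed
  intro C _ _ J hJ ψ hψ hkill
  letI algFC : Algebra F C := ((algebraMap k C).comp (algebraMap F k)).toAlgebra
  haveI : IsScalarTower F k C := IsScalarTower.of_algebraMap_eq fun r => rfl
  haveI : IsScalarTower F k (C ⧸ J) := IsScalarTower.of_algebraMap_eq fun r => rfl
  obtain ⟨χ₀, hχ₀⟩ := hF C J hJ (ψ.restrictScalars F) hψ
  have hχ₀' : ∀ a : A, Ideal.Quotient.mk J (χ₀ a) = ψ a := fun a => DFunLike.congr_fun hχ₀ a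
  have hJJ : ∀ a ∈ J, ∀ b ∈ J, a * b = 0 := by
    intro a ha b hb
    have : a * b ∈ J ^ 2 := by
      rw [pow_two]
      exact Ideal.mul_mem_mul ha hb
    rw [hJ] at this
    exact this
  letI modAJ : Module A J := Module.compHom J χ₀.toRingHom
  have hsmul : ∀ (a : A) (v : J), ((a • v : J) : C) = χ₀ a * (v : C) := fun a v => rfl
  have hmem : ∀ x : k, χ₀ (algebraMap k A x) - algebraMap k C x ∈ J := by
    intro x
    rw [← Ideal.Quotient.eq_zero_iff_mem, map_sub, hχ₀', ψ.commutes]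
    exact sub_self _
  let δ : k →+ J :=
    { toFun := fun x => ⟨χ₀ (algebraMap k A x) - algebraMap k C x, hmem x⟩
      map_zero' := by
        apply Subtype.ext
        simp
      map_add' := fun x y => by
        apply Subtype.ext
        simp only [map_add, Submodule.coe_add]
        ring }
  have hδ : ∀ x, ((δ x : J) : C) = χ₀ (algebraMap k A x) - algebraMap k C x := fun x => rfl
  obtain ⟨D, hD⟩ := hE J (by
    intro a ha v
    apply Subtype.ext
    rw [hsmul]
    exact hkill a ha (χ₀ a) (hχ₀' a) v v.2) δ (by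
    intro x y
    apply Subtype.ext
    rw [Submodule.coe_add, hsmul, hsmul, hδ, hδ, hδ, map_mul, map_mul, map_mul]
    have h0 := hJJ _ (hmem x) _ (hmem y)
    linear_combination (-1 : C) * h0)
  have hDmem : ∀ a, ((D a : J) : C) ∈ J := fun a => (D a).2
  let χ : A →ₐ[k] C :=
    { toFun := fun a => χ₀ a - (D a : C)
      map_one' := by
        rw [map_one, Derivation.map_one_eq_zero]
        simp
      map_mul' := fun a b => by
        rw [Derivation.leibniz, Submodule.coe_add, hsmul, hsmul, map_mul]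
        have h0 := hJJ _ (hDmem a) _ (hDmem b)
        linear_combination (-1 : C) * h0
      map_zero' := by simp
      map_add' := fun a b => by
        rw [map_add, map_add, Submodule.coe_add]
        ring
      commutes' := fun x => by
        change χ₀ (algebraMap k A x) - ((D (algebraMap k A x) : J) : C) = _
        rw [hD, hδ]
        ring }
  refine ⟨χ, ?_⟩
  ext a
  change Ideal.Quotient.mk J (χ₀ a - (D a : C)) = ψ a
  rw [map_sub, hχ₀', Ideal.Quotient.eq_zero_iff_mem.mpr (hDmem a), sub_zero]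

end Groth.Agent.Helper14.AdicFSDer
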