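import Mathlib
import Groth.Prelude.Def_CAlgX
import Groth.Agent.Lib.Helper14.AdicFSDer

/-!
# Derivations from Frobenius-type lifting problems
-/

set_option autoImplicit false
universe u

namespace Groth.Agent.Helper14.AdicFSFrob

/-- In characteristic `p`, if `s - c` lies in a square-zero ideal then `s ^ p = c ^ p`. -/
theorem pow_eq_of_sub_mem {C : Type*} [CommRing C] (p : ℕ) [hp : Fact p.Prime] [CharP C p]
    (J : Ideal C) (hJ : J ^ 2 = ⊥) (s c : C) (h : s - c ∈ J) : s ^ p = c ^ p := by
  have h1 : (s - c) ^ 2 = 0 := by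
    have : (s - c) ^ 2 ∈ J ^ 2 := Ideal.pow_mem_pow h 2
    rw [hJ] at this
    exact this
  have h2 : (s - c) ^ p = 0 := by
    have h2le : 2 ≤ p := hp.out.two_le
    rw [← Nat.sub_add_cancel h2le, pow_add, h1, mul_zero]
  have h3 : s = (s - c) + c := by ring
  rw [h3, add_pow_char, h2, zero_add]

/-- The core construction: from a lifting problem for `B'` we get a "derivation" `D : B → C`
whose values on `p`-th powers (in `B'`) are computed. -/
theorem exists_der (p : ℕ) [hp : Fact p.Prime] {F B B' C C' : Type u} [CommRing F]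
    (hF : ∀ (X : Type u) [CommRing X], Subsingleton (F →+* X))
    [CommRing B] [CommRing B'] [Algebra B B'] [CommRing C] [CommRing C'] [CharP C p]
    [Algebra F B'] [Algebra F C] [Algebra F C']
    {𝔫' : Ideal B'} (hfs : CAlgX.IsAdicFormallySmooth F B' 𝔫')
    (π : C →+* C') (hπ : Function.Surjective π) (hker : (RingHom.ker π) ^ 2 = ⊥)
    (β : B →+* C) (ψ : B' →+* C') (hcompat : ∀ b, ψ (algebraMap B B' b) = π (β b))
    (hψ : ∃ M : ℕ, ∀ y ∈ 𝔫' ^ M, ψ y = 0) :
    ∃ D : B →+ C, (∀ a b, D (a * b) = β a * D b + β b * D a) ∧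
      ∀ (b : B) (u : B') (c : C), algebraMap B B' b = u ^ p → ψ u = π c → D b = c ^ p - β b := by
  let πa : C →ₐ[F] C' :=
    { π with
      commutes' := fun c =>
        RingHom.congr_fun (Subsingleton.elim (h := hF C') (π.comp (algebraMap F C))
          (algebraMap F C')) c }
  let ψa : B' →ₐ[F] C' :=
    { ψ with
      commutes' := fun c =>
        RingHom.congr_fun (Subsingleton.elim (h := hF C') (ψ.comp (algebraMap F B'))
          (algebraMap F C')) c }
  have hkera : (RingHom.ker πa) ^ 2 = ⊥ := hker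
  obtain ⟨σ, hσ⟩ := Groth.Agent.Helper14.AdicFSDer.lift_of_surjective hfs πa hπ hkera ψa hψ
  have hσ' : ∀ y, π (σ y) = ψ y := fun y => DFunLike.congr_fun hσ y
  have hmem : ∀ b, σ (algebraMap B B' b) - β b ∈ RingHom.ker π := by
    intro b
    rw [RingHom.mem_ker, map_sub, hσ', hcompat, sub_self]
  have hJJ : ∀ a ∈ RingHom.ker π, ∀ b ∈ RingHom.ker π, a * b = 0 := by
    intro a ha b hb
    have : a * b ∈ (RingHom.ker π) ^ 2 := by
      rw [pow_two]
      exact Ideal.mul_mem_mul ha hb
    rw [hker] at this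
    exact this
  let D : B →+ C :=
    { toFun := fun b => σ (algebraMap B B' b) - β b
      map_zero' := by simp
      map_add' := fun a b => by
        simp only [map_add]
        ring }
  have hD : ∀ b, D b = σ (algebraMap B B' b) - β b := fun b => rfl
  refine ⟨D, fun a b => ?_, fun b u c hbu huc => ?_⟩
  · rw [hD, hD, hD, map_mul, map_mul, map_mul]
    have h0 := hJJ _ (hmem a) _ (hmem b)
    linear_combination h0
  · rw [hD, hbu, map_pow]
    congr 1
    apply pow_eq_of_sub_mem p (RingHom.ker π) hker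
    rw [RingHom.mem_ker, map_sub, hσ', huc, sub_self]

end Groth.Agent.Helper14.AdicFSFrob
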