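import Mathlib
import Groth.Prelude.Def_CAlgX
import Groth.Agent.S9444
import Groth.Agent.S9318
import Groth.Agent.Lib.Helper14.AdicFSRegular2
import Groth.Agent.Lib.Helper14.AdicFSTransfer
import Groth.Agent.Lib.Helper14.PowerSeriesSmooth
import Groth.Agent.Lib.Helper14.PerfectSmooth

/-!
# Regular local rings containing a field are formally smooth over the prime field
-/

set_option autoImplicit false
universe u

namespace Groth.Agent.Helper14.AdicFSPrime

open IsLocalRing

theorem exists_primeField (k : Type u) [Field k] :
    ∃ (F : Type u) (_ : Field F) (_ : Algebra F k),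
      (∀ (C : Type u) [CommRing C], Subsingleton (F →+* C)) ∧
      ∀ (K : Type u) [Field K] [Algebra F K], Algebra.FormallySmooth F K := by
  obtain ⟨p, hpk⟩ := CharP.exists k
  rcases CharP.char_is_prime_or_zero k p with hp | hp
  · haveI := Fact.mk hp
    letI : Algebra (ZMod p) k := ZMod.algebra k p
    letI : Algebra (ULift.{u} (ZMod p)) k :=
      ((algebraMap (ZMod p) k).comp (ULift.ringEquiv (R := ZMod p)).toRingHom).toAlgebra
    refine ⟨ULift.{u} (ZMod p), inferInstance, inferInstance, ?_, ?_⟩
    · intro C _
      constructor
      intro f g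
      have h1 : f.comp (ULift.ringEquiv (R := ZMod p)).symm.toRingHom =
          g.comp (ULift.ringEquiv (R := ZMod p)).symm.toRingHom := Subsingleton.elim _ _
      ext x
      have h2 := RingHom.congr_fun h1 (ULift.ringEquiv x)
      simp only [RingHom.comp_apply, RingEquiv.toRingHom_eq_coe, RingHom.coe_coe,
        RingEquiv.symm_apply_apply] at h2
      exact h2
    · intro K _ _
      exact Groth.Agent.Helper14.PerfectSmooth.formallySmooth_of_perfect p _ K
  · subst hp
    haveI : CharZero k := CharP.charP_to_charZero k
    letI : Algebra (ULift.{u} ℚ) k :=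
      ((algebraMap ℚ k).comp (ULift.ringEquiv (R := ℚ)).toRingHom).toAlgebra
    refine ⟨ULift.{u} ℚ, inferInstance, inferInstance, ?_, ?_⟩
    · intro C _
      constructor
      intro f g
      have h1 : f.comp (ULift.ringEquiv (R := ℚ)).symm.toRingHom =
          g.comp (ULift.ringEquiv (R := ℚ)).symm.toRingHom := Subsingleton.elim _ _
      ext x
      have h2 := RingHom.congr_fun h1 (ULift.ringEquiv x)
      simp only [RingHom.comp_apply, RingEquiv.toRingHom_eq_coe, RingHom.coe_coe,
        RingEquiv.symm_apply_apply] at h2
      exact h2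
    · intro K _ _
      haveI : CharZero (ULift.{u} ℚ) :=
        charZero_of_injective_ringHom (f := (ULift.ringEquiv (R := ℚ)).symm.toRingHom)
          (ULift.ringEquiv (R := ℚ)).symm.injective
      exact Groth.Agent.Helper14.PerfectSmooth.formallySmooth_of_charZero _ K

/-- A regular local ring containing a (prime) field `F` is formally smooth over it. -/
theorem adicFS_of_regular {F A : Type u} [Field F]
    (hF : ∀ (C : Type u) [CommRing C], Subsingleton (F →+* C))
    (hFs : ∀ (K : Type u) [Field K] [Algebra F K], Algebra.FormallySmooth F K)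
    [CommRing A] [IsLocalRing A] [IsNoetherianRing A] [Algebra F A]
    (hreg : IsRegularLocalRing A) : CAlgX.IsAdicFormallySmooth F A (maximalIdeal A) := by
  haveI hN : IsNoetherianRing (AdicCompletion (maximalIdeal A) A) :=
    Groth.Agent.S0543.result A (maximalIdeal A)
  haveI : IsRegularLocalRing (AdicCompletion (maximalIdeal A) A) :=
    (Groth.Agent.Helper1.isRegularLocalRing_adicCompletion_iff A).mp hreg
  obtain ⟨d, ⟨e⟩⟩ := Groth.Agent.S9444.result (AdicCompletion (maximalIdeal A) A) F
  haveI := hFs (ResidueField (AdicCompletion (maximalIdeal A) A))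
  rw [Groth.Agent.S9318.result (R := F) (maximalIdeal A) (maximalIdeal A).fg_of_isNoetherianRing,
    ← AdicCompletion.maximalIdeal_eq_map]
  let e' : AdicCompletion (maximalIdeal A) A ≃ₐ[F]
      MvPowerSeries (Fin d) (ResidueField (AdicCompletion (maximalIdeal A) A)) :=
    AlgEquiv.ofRingEquiv (f := e) (fun x => by
      have h1 : e.toRingHom.comp (algebraMap F (AdicCompletion (maximalIdeal A) A)) =
          algebraMap F _ := Subsingleton.elim (h := hF _) _ _
      exact RingHom.congr_fun h1 x)
  exact Groth.Agent.Helper14.AdicFSTransfer.of_algEquiv_local e'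
    (Groth.Agent.Helper14.PowerSeriesSmooth.isAdicFormallySmooth_mvPowerSeries F _ d)

end Groth.Agent.Helper14.AdicFSPrime
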