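import Mathlib

/-!
# The test algebra `E[X]/(X^p - a)^2 → E[X]/(X^p - a)` with `a = c^p`
-/

set_option autoImplicit false
universe u

namespace Groth.Agent.Helper14.FrobTestAlg

open Polynomial

variable (p : ℕ) [hp : Fact p.Prime] {E : Type u} [Field E] [CharP E p] (c : E)

/-- the polynomial `X^p - c^p` -/
noncomputable def fbar : E[X] := X ^ p - C (c ^ p)

theorem fbar_monic : (fbar p c).Monic := monic_X_pow_sub_C _ hp.out.ne_zero

theorem fbar_natDegree : (fbar p c).natDegree = p := natDegree_X_pow_sub_C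

theorem fbar_eq : fbar p c = (X - C c) ^ p := by
  rw [fbar, sub_pow_char, ← C_pow]

/-- `E[X]/(f²) → E[X]/(f)` -/
noncomputable def proj : AdjoinRoot ((fbar p c) ^ 2) →ₐ[E] AdjoinRoot (fbar p c) :=
  AdjoinRoot.liftAlgHom ((fbar p c) ^ 2) (Algebra.ofId E (AdjoinRoot (fbar p c)))
    (AdjoinRoot.root (fbar p c)) (by
      have : eval₂ (algebraMap E (AdjoinRoot (fbar p c))) (AdjoinRoot.root (fbar p c))
          (fbar p c) = 0 := AdjoinRoot.eval₂_root (fbar p c)
      change eval₂ (algebraMap E (AdjoinRoot (fbar p c))) (AdjoinRoot.root (fbar p c))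
          ((fbar p c) ^ 2) = 0
      rw [eval₂_pow, this, zero_pow two_ne_zero])

theorem proj_mk (g : E[X]) : proj p c (AdjoinRoot.mk _ g) = AdjoinRoot.mk _ g := by
  rw [proj, AdjoinRoot.liftAlgHom_mk]
  change eval₂ (algebraMap E (AdjoinRoot (fbar p c))) (AdjoinRoot.root (fbar p c)) g = _
  rw [← aeval_def, AdjoinRoot.aeval_eq]

theorem proj_surjective : Function.Surjective (proj p c) := by
  intro l
  induction l using AdjoinRoot.induction_on with
  | ih g => exact ⟨AdjoinRoot.mk _ g, proj_mk p c g⟩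

theorem proj_ker_sq : (RingHom.ker (proj p c)) ^ 2 = ⊥ := by
  rw [eq_bot_iff, show RingHom.ker (proj p c) ^ 2 = RingHom.ker (proj p c) * RingHom.ker (proj p c)
    from pow_two _, Ideal.mul_le]
  intro z₁ h₁ z₂ h₂
  induction z₁ using AdjoinRoot.induction_on with
  | ih g₁ =>
    induction z₂ using AdjoinRoot.induction_on with
    | ih g₂ =>
      rw [RingHom.mem_ker, proj_mk, AdjoinRoot.mk_eq_zero] at h₁ h₂
      rw [Ideal.mem_bot, ← map_mul, AdjoinRoot.mk_eq_zero, pow_two]
      exact mul_dvd_mul h₁ h₂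

/-- evaluation at `c` -/
noncomputable def ev : AdjoinRoot (fbar p c) →ₐ[E] E :=
  AdjoinRoot.liftAlgHom (fbar p c) (AlgHom.id E E) c (by
    change eval₂ (RingHom.id E) c (fbar p c) = 0
    rw [fbar, eval₂_sub, eval₂_pow, eval₂_X, eval₂_C, RingHom.id_apply, sub_self])

theorem ev_mk (g : E[X]) : ev p c (AdjoinRoot.mk _ g) = g.eval c := by
  rw [ev, AdjoinRoot.liftAlgHom_mk]
  change eval₂ (RingHom.id E) c g = _
  rw [eval₂_id]

theorem ev_root : ev p c (AdjoinRoot.root _) = c := by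
  rw [ev, AdjoinRoot.liftAlgHom_root]

theorem isUnit_of_ev_ne_zero (l : AdjoinRoot (fbar p c)) (h : ev p c l ≠ 0) : IsUnit l := by
  induction l using AdjoinRoot.induction_on with
  | ih g =>
    rw [ev_mk] at h
    have h1 : ¬ (X - C c) ∣ g := by
      rw [dvd_iff_isRoot]
      exact h
    have h2 : IsCoprime (X - C c) g := (irreducible_X_sub_C c).coprime_iff_not_dvd.mpr h1
    have h3 : IsCoprime (fbar p c) g := by
      rw [fbar_eq]
      exact h2.pow_left
    obtain ⟨u, v, huv⟩ := h3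
    have h4 := congrArg (AdjoinRoot.mk (fbar p c)) huv
    rw [map_add, map_mul, map_mul, AdjoinRoot.mk_self, mul_zero, zero_add, map_one] at h4
    exact IsUnit.of_mul_eq_one _ (by rw [mul_comm]; exact h4)

theorem pow_eq_bot_of_le_ker_ev (I : Ideal (AdjoinRoot (fbar p c)))
    (hI : I ≤ RingHom.ker (ev p c)) : I ^ p = ⊥ := by
  have h1 : RingHom.ker (ev p c) ≤ Ideal.span {AdjoinRoot.mk (fbar p c) (X - C c)} := by
    intro l hl
    induction l using AdjoinRoot.induction_on with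
    | ih g =>
      rw [RingHom.mem_ker, ev_mk] at hl
      have : (X - C c) ∣ g := dvd_iff_isRoot.mpr hl
      obtain ⟨g', rfl⟩ := this
      rw [map_mul]
      exact Ideal.mul_mem_right _ _ (Ideal.subset_span rfl)
  rw [eq_bot_iff]
  refine (Ideal.pow_right_mono (hI.trans h1) p).trans ?_
  rw [Ideal.span_singleton_pow, ← map_pow, ← fbar_eq, AdjoinRoot.mk_self,
    Ideal.span_singleton_eq_bot.mpr rfl]

theorem root_pow_sub_ne_zero :
    (AdjoinRoot.root ((fbar p c) ^ 2)) ^ p - algebraMap E _ (c ^ p) ≠ 0 := by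
  have h1 : (AdjoinRoot.root ((fbar p c) ^ 2)) ^ p - algebraMap E _ (c ^ p) =
      AdjoinRoot.mk ((fbar p c) ^ 2) (fbar p c) := by
    have h2 : AdjoinRoot.mk ((fbar p c) ^ 2) (fbar p c) =
        AdjoinRoot.mk ((fbar p c) ^ 2) (X ^ p - C (c ^ p)) := rfl
    rw [h2, map_sub, AdjoinRoot.mk_C]
    conv_rhs => rw [map_pow, AdjoinRoot.mk_X]
    rfl
  rw [h1, Ne, AdjoinRoot.mk_eq_zero]
  apply Polynomial.Monic.not_dvd_of_natDegree_lt ((fbar_monic p c).pow 2) (fbar_monic p c).ne_zero
  rw [(fbar_monic p c).natDegree_pow, fbar_natDegree]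
  have := hp.out.pos
  omega

end Groth.Agent.Helper14.FrobTestAlg
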