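import Mathlib

/-!
# Fields generated by `p`-th roots
-/

set_option autoImplicit false
universe u

namespace Groth.Agent.Helper14.PthRoots

open Polynomial

section IF

variable (p : ℕ) [hp : Fact p.Prime] {k E : Type*} [Field k] [Field E] [Algebra k E] [CharP k p]

/-- Elements of `E` whose `p`-th power lies in (the image of) a subring `W ⊇ k^p` of `k`. -/
noncomputable def rootIF (W : Subring k) (hW : ∀ a : k, a ^ p ∈ W) : IntermediateField k E :=
  haveI : CharP E p := charP_of_injective_algebraMap (algebraMap k E).injective p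
  { carrier := {y | ∃ e ∈ W, y ^ p = algebraMap k E e}
    mul_mem' := by
      rintro a b ⟨e, he, hae⟩ ⟨e', he', hbe⟩
      exact ⟨e * e', W.mul_mem he he', by rw [mul_pow, hae, hbe, map_mul]⟩
    one_mem' := ⟨1, W.one_mem, by simp⟩
    add_mem' := by
      rintro a b ⟨e, he, hae⟩ ⟨e', he', hbe⟩
      exact ⟨e + e', W.add_mem he he', by rw [add_pow_char, hae, hbe, map_add]⟩
    zero_mem' := ⟨0, W.zero_mem, by simp [hp.out.ne_zero]⟩
    algebraMap_mem' := fun a => ⟨a ^ p, hW a, by rw [map_pow]⟩
    inv_mem' := by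
      rintro a ⟨e, he, hae⟩
      refine ⟨e⁻¹, ?_, by rw [inv_pow, hae, map_inv₀]⟩
      by_cases h0 : e = 0
      · rw [h0, inv_zero]
        exact W.zero_mem
      · have h1 : e⁻¹ = e ^ (p - 1) * (e⁻¹) ^ p := by
          have hp1 : p = (p - 1) + 1 := (Nat.sub_add_cancel hp.out.one_le).symm
          have h2 : e ^ p = e ^ (p - 1) * e := by
            conv_lhs => rw [hp1, pow_succ]
          rw [inv_pow, h2]
          have h3 : e ^ (p - 1) ≠ 0 := pow_ne_zero _ h0
          field_simp
        rw [h1]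
        exact W.mul_mem (W.pow_mem he _) (hW _) }

theorem mem_rootIF (W : Subring k) (hW : ∀ a : k, a ^ p ∈ W) (y : E) :
    y ∈ rootIF (E := E) p W hW ↔ ∃ e ∈ W, y ^ p = algebraMap k E e := Iff.rfl

/-- If the `p`-th powers of the generators lie in `W`, so do the `p`-th powers of all elements of
the generated field. -/
theorem pow_mem_of_mem_adjoin (W : Subring k) (hW : ∀ a : k, a ^ p ∈ W) (R : Set E)
    (hR : ∀ r ∈ R, ∃ e ∈ W, r ^ p = algebraMap k E e) {y : E}
    (hy : y ∈ IntermediateField.adjoin k R) : ∃ e ∈ W, y ^ p = algebraMap k E e := by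
  have hle : IntermediateField.adjoin k R ≤ rootIF (E := E) p W hW := by
    rw [IntermediateField.adjoin_le_iff]
    exact hR
  exact hle hy

end IF

section AR

variable (p : ℕ) [hp : Fact p.Prime] {k k₁ : Type*} [Field k] [Field k₁] [Algebra k k₁]
  [CharP k₁ p]

/-- If `k₁^p ⊆ k` and `a ∈ k` then `(k₁[X]/(X^p - a))^p ⊆ k`. -/
theorem adjoinRoot_pow_mem (hb : ∀ y : k₁, y ^ p ∈ (algebraMap k k₁).range) (a : k)
    (z : AdjoinRoot (X ^ p - C (algebraMap k k₁ a) : k₁[X])) :
    z ^ p ∈ (algebraMap k (AdjoinRoot (X ^ p - C (algebraMap k k₁ a) : k₁[X]))).range := by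
  haveI : Nontrivial (AdjoinRoot (X ^ p - C (algebraMap k k₁ a) : k₁[X])) := by
    apply AdjoinRoot.nontrivial
    rw [degree_X_pow_sub_C hp.out.pos]
    exact_mod_cast hp.out.ne_zero
  haveI : CharP (AdjoinRoot (X ^ p - C (algebraMap k k₁ a) : k₁[X])) p :=
    charP_of_injective_ringHom (AdjoinRoot.of (X ^ p - C (algebraMap k k₁ a) : k₁[X])).injective p
  have hroot : (AdjoinRoot.root (X ^ p - C (algebraMap k k₁ a) : k₁[X])) ^ p =
      algebraMap k _ a := by
    have h1 := AdjoinRoot.eval₂_root (X ^ p - C (algebraMap k k₁ a) : k₁[X])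
    rw [eval₂_sub, eval₂_pow, eval₂_X, eval₂_C, sub_eq_zero] at h1
    rw [h1]
    rfl
  induction z using AdjoinRoot.induction_on with
  | ih g =>
    induction g using Polynomial.induction_on with
    | C c =>
      obtain ⟨e, he⟩ := hb c
      refine ⟨e, ?_⟩
      rw [AdjoinRoot.mk_C, ← map_pow, ← he]
      rfl
    | add g h hg hh =>
      rw [map_add, add_pow_char]
      exact Subring.add_mem _ hg hh
    | monomial n c h =>
      rw [pow_succ, ← mul_assoc, map_mul, mul_pow, AdjoinRoot.mk_X, hroot]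
      exact Subring.mul_mem _ h ⟨a, rfl⟩

end AR

section FT

open KaehlerDifferential

variable (p : ℕ) [hp : Fact p.Prime] {k : Type u} [Field k] [CharP k p]

/-- Derivations vanish on `k^p` and so `D y` lies in the span of `D '' Y` for `y ∈ k^p[Y]`. -/
theorem der_mem_span_of_mem_closure {M : Type*} [AddCommGroup M] [Module k M]
    (d : Derivation ℤ k M) (Y : Set k) {y : k}
    (hy : y ∈ Subring.closure ((Set.range fun a : k => a ^ p) ∪ Y)) :
    d y ∈ Submodule.span k (d '' Y) := by
  induction hy using Subring.closure_induction with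
  | mem z hz =>
    rcases hz with ⟨a, rfl⟩ | hz
    · change d (a ^ p) ∈ _
      rw [Derivation.leibniz_pow, ← Nat.cast_smul_eq_nsmul k, CharP.cast_eq_zero, zero_smul]
      exact zero_mem _
    · exact Submodule.subset_span ⟨z, hz, rfl⟩
  | zero => rw [map_zero]; exact zero_mem _
  | one => rw [Derivation.map_one_eq_zero]; exact zero_mem _
  | add a b _ _ ha hb => rw [map_add]; exact add_mem ha hb
  | neg a _ ha => rw [map_neg]; exact neg_mem ha
  | mul a b _ _ ha hb =>
    rw [Derivation.leibniz]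
    exact add_mem (Submodule.smul_mem _ _ hb) (Submodule.smul_mem _ _ ha)

/-- The field-theoretic input: adjoin `p`-th roots of all `x i`, `i ≠ j`; then `x j` is still
not a `p`-th power. -/
theorem exists_field {Kb : Type u} [Field Kb] [Algebra k Kb] [IsAlgClosed Kb]
    {S : Type*} [Finite S] (x : S → k)
    (hLI : LinearIndependent k (fun i => D ℤ k (x i))) (j : S) :
    ∃ (r : S → Kb), (∀ i, (r i) ^ p = algebraMap k Kb (x i)) ∧
      ∃ kj : IntermediateField k Kb, Module.Finite k kj ∧ (∀ i, i ≠ j → r i ∈ kj) ∧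
        (∀ y : kj, y ^ p ∈ (algebraMap k kj).range) ∧
        (∀ y : kj, y ^ p ≠ algebraMap k kj (x j)) := by
  classical
  have hr : ∀ i, ∃ z : Kb, z ^ p = algebraMap k Kb (x i) := fun i =>
    IsAlgClosed.exists_pow_nat_eq _ hp.out.pos
  choose r hr using hr
  refine ⟨r, hr, IntermediateField.adjoin k (r '' {i | i ≠ j}), ?_, ?_, ?_, ?_⟩
  · apply IntermediateField.finiteDimensional_adjoin
    rintro _ ⟨i, -, rfl⟩
    refine ⟨X ^ p - C (x i), monic_X_pow_sub_C _ hp.out.ne_zero, ?_⟩
    rw [eval₂_sub, eval₂_pow, eval₂_X, eval₂_C, hr, sub_self]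
  · intro i hi
    exact IntermediateField.subset_adjoin _ _ ⟨i, hi, rfl⟩
  · intro y
    obtain ⟨e, -, he⟩ := pow_mem_of_mem_adjoin (E := Kb) p (⊤ : Subring k) (fun _ => trivial)
      (r '' {i | i ≠ j}) (by
        rintro _ ⟨i, -, rfl⟩
        exact ⟨x i, trivial, hr i⟩) y.2
    refine ⟨e, ?_⟩
    apply Subtype.ext
    rw [SubmonoidClass.coe_pow, he]
    rfl
  · intro y hy
    have hy' : (y : Kb) ^ p = algebraMap k Kb (x j) := by
      have := congrArg (fun z : IntermediateField.adjoin k (r '' {i | i ≠ j}) => (z : Kb)) hy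
      simpa using this
    let W : Subring k := Subring.closure ((Set.range fun a : k => a ^ p) ∪ x '' {i | i ≠ j})
    have hW : ∀ a : k, a ^ p ∈ W := fun a => Subring.subset_closure (Or.inl ⟨a, rfl⟩)
    obtain ⟨e, heW, he⟩ := pow_mem_of_mem_adjoin (E := Kb) p W hW
      (r '' {i | i ≠ j}) (by
        rintro _ ⟨i, hi, rfl⟩
        exact ⟨x i, Subring.subset_closure (Or.inr ⟨i, hi, rfl⟩), hr i⟩) y.2
    rw [hy'] at he
    have hxe : x j = e := (algebraMap k Kb).injective he
    rw [← hxe] at heW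
    have h1 := der_mem_span_of_mem_closure p (D ℤ k) (x '' {i | i ≠ j}) heW
    rw [Set.image_image] at h1
    exact hLI.notMem_span_image (s := {i | i ≠ j}) (fun h => h rfl) h1

end FT

end Groth.Agent.Helper14.PthRoots
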