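import Mathlib
import Groth.Prelude.Def_CAlgX
import Groth.Agent.Lib.Helper14.AdicFSFrob
import Groth.Agent.Lib.Helper14.PthRoots
import Groth.Agent.Lib.Helper14.FrobTestAlg
import Groth.Agent.Lib.Helper14.AdicFSPrime

/-!
# Regularity of inseparable base changes forces independence of differentials
-/

set_option autoImplicit false
set_option maxHeartbeats 1000000
universe u

namespace Groth.Agent.Helper14.AdicFSInsep

open IsLocalRing TensorProduct KaehlerDifferential Polynomial
open Groth.Agent.Helper14.FrobTestAlg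

/-- `root ^ p = a` in `k₁[X]/(X^p - a)`. -/
theorem root_pow (p : ℕ) {k₁ : Type*} [CommRing k₁] (a : k₁) :
    (AdjoinRoot.root (X ^ p - C a : k₁[X])) ^ p = AdjoinRoot.of _ a := by
  have h1 := AdjoinRoot.eval₂_root (X ^ p - C a : k₁[X])
  rw [eval₂_sub, eval₂_pow, eval₂_X, eval₂_C, sub_eq_zero] at h1
  exact h1

/-- Abstract form of the construction of a derivation detecting `xj`. -/
theorem exists_der_abstract (p : ℕ) [hp : Fact p.Prime] {F k A Kb k' : Type u} [Field F]
    (hF : ∀ (X : Type u) [CommRing X], Subsingleton (F →+* X))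
    (hFs : ∀ (K : Type u) [Field K] [Algebra F K], Algebra.FormallySmooth F K)
    [Field k] [Algebra F k] [CommRing A] [Algebra k A]
    [Field Kb] [CharP Kb p] [Algebra k Kb] [Algebra A Kb] [IsScalarTower k A Kb]
    [Field k'] [Algebra k k'] (hreg : IsRegularRing (k' ⊗[k] A))
    (c : Kb) (ψk : k' →ₐ[k] AdjoinRoot (fbar p c)) :
    ∃ D : A →+ AdjoinRoot ((fbar p c) ^ 2),
      (∀ a b, D (a * b) = algebraMap A _ a * D b + algebraMap A _ b * D a) ∧
      ∀ (b : k) (u : k') (c' : AdjoinRoot ((fbar p c) ^ 2)), algebraMap k k' b = u ^ p →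
        ψk u = proj p c c' → D (algebraMap k A b) = c' ^ p - algebraMap A _ (algebraMap k A b) := by
  let ψA : A →ₐ[k] AdjoinRoot (fbar p c) := IsScalarTower.toAlgHom k A _
  let ψ₀ : k' ⊗[k] A →ₐ[k] AdjoinRoot (fbar p c) :=
    Algebra.TensorProduct.lift ψk ψA (fun _ _ => Commute.all _ _)
  have hψ₀ : ∀ (u : k') (a : A), ψ₀ (u ⊗ₜ a) = ψk u * algebraMap A _ a := fun u a => by
    rw [Algebra.TensorProduct.lift_tmul]
    rfl
  let evψ : k' ⊗[k] A →+* Kb := (ev p c).toRingHom.comp ψ₀.toRingHom
  haveI hprime : (RingHom.ker evψ).IsPrime := RingHom.ker_isPrime evψ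
  haveI hregloc : IsRegularLocalRing (Localization.AtPrime (RingHom.ker evψ)) :=
    hreg.isRegularLocalRing_localization (RingHom.ker evψ)
  have hunit : ∀ y : (RingHom.ker evψ).primeCompl, IsUnit (ψ₀.toRingHom y) := by
    intro y
    apply isUnit_of_ev_ne_zero
    intro h0
    exact y.2 h0
  let ψ : Localization.AtPrime (RingHom.ker evψ) →+* AdjoinRoot (fbar p c) :=
    IsLocalization.lift hunit
  have hψalg : ∀ z, ψ (algebraMap _ _ z) = ψ₀ z := fun z => IsLocalization.lift_eq hunit z
  letI algFA' : Algebra F (k' ⊗[k] A) :=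
    ((algebraMap k (k' ⊗[k] A)).comp (algebraMap F k)).toAlgebra
  letI algFB' : Algebra F (Localization.AtPrime (RingHom.ker evψ)) :=
    ((algebraMap (k' ⊗[k] A) (Localization.AtPrime (RingHom.ker evψ))).comp
      (algebraMap F (k' ⊗[k] A))).toAlgebra
  letI algFC : Algebra F (AdjoinRoot ((fbar p c) ^ 2)) :=
    ((algebraMap k (AdjoinRoot ((fbar p c) ^ 2))).comp (algebraMap F k)).toAlgebra
  letI algFL : Algebra F (AdjoinRoot (fbar p c)) :=
    ((algebraMap k (AdjoinRoot (fbar p c))).comp (algebraMap F k)).toAlgebra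
  have hfs : CAlgX.IsAdicFormallySmooth F (Localization.AtPrime (RingHom.ker evψ))
      (maximalIdeal (Localization.AtPrime (RingHom.ker evψ))) :=
    Groth.Agent.Helper14.AdicFSPrime.adicFS_of_regular hF hFs hregloc
  letI algAB' : Algebra A (Localization.AtPrime (RingHom.ker evψ)) :=
    ((algebraMap (k' ⊗[k] A) (Localization.AtPrime (RingHom.ker evψ))).comp
      (Algebra.TensorProduct.includeRight : A →ₐ[k] k' ⊗[k] A).toRingHom).toAlgebra
  have hAB' : ∀ a : A, algebraMap A (Localization.AtPrime (RingHom.ker evψ)) a =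
      algebraMap (k' ⊗[k] A) _ ((1 : k') ⊗ₜ[k] a) := fun a => rfl
  haveI : CharP (AdjoinRoot ((fbar p c) ^ 2)) p := by
    haveI : Nontrivial (AdjoinRoot ((fbar p c) ^ 2)) := by
      apply AdjoinRoot.nontrivial
      rw [degree_eq_natDegree ((fbar_monic p c).pow 2).ne_zero, (fbar_monic p c).natDegree_pow,
        fbar_natDegree]
      have := hp.out.pos
      exact_mod_cast (by omega : 2 * p ≠ 0)
    exact charP_of_injective_ringHom (AdjoinRoot.of ((fbar p c) ^ 2)).injective p
  have hψkill : ∃ M : ℕ, ∀ y ∈ (maximalIdeal (Localization.AtPrime (RingHom.ker evψ))) ^ M,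
      ψ y = 0 := by
    refine ⟨p, fun y hy => ?_⟩
    have h1 : (maximalIdeal (Localization.AtPrime (RingHom.ker evψ))).map ψ ≤
        RingHom.ker (ev p c) := by
      rw [← Localization.AtPrime.map_eq_maximalIdeal, Ideal.map_map, Ideal.map_le_iff_le_comap]
      intro z hz
      rw [Ideal.mem_comap, RingHom.mem_ker, RingHom.comp_apply, hψalg]
      exact hz
    have h2 := pow_eq_bot_of_le_ker_ev p c _ h1
    have h3 : ψ y ∈ ((maximalIdeal (Localization.AtPrime (RingHom.ker evψ))).map ψ) ^ p := by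
      rw [← Ideal.map_pow]
      exact Ideal.mem_map_of_mem ψ hy
    rw [h2] at h3
    exact h3
  obtain ⟨D, hD1, hD2⟩ := Groth.Agent.Helper14.AdicFSFrob.exists_der p hF hfs
    (proj p c).toRingHom (proj_surjective p c) (proj_ker_sq p c)
    (algebraMap A (AdjoinRoot ((fbar p c) ^ 2))) ψ (by
      intro a
      rw [hAB', hψalg, hψ₀, map_one, one_mul]
      rw [IsScalarTower.algebraMap_apply A Kb (AdjoinRoot ((fbar p c) ^ 2)),
        IsScalarTower.algebraMap_apply A Kb (AdjoinRoot (fbar p c))]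
      exact ((proj p c).commutes _).symm) hψkill
  refine ⟨D, hD1, fun b u c' hbu huc => ?_⟩
  refine hD2 (algebraMap k A b) (algebraMap _ _ (u ⊗ₜ[k] (1 : A))) c' ?_ ?_
  · have h1 : (algebraMap k k' b) ⊗ₜ[k] (1 : A) = (1 : k') ⊗ₜ[k] algebraMap k A b := by
      rw [Algebra.algebraMap_eq_smul_one, Algebra.algebraMap_eq_smul_one, smul_tmul]
    rw [hAB', ← map_pow, Algebra.TensorProduct.tmul_pow, one_pow, ← hbu, h1]
  · rw [hψalg, hψ₀, map_one, mul_one]
    exact huc

theorem notMem_span (p : ℕ) [hp : Fact p.Prime] {k A : Type u} [Field k] [CharP k p]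
    [CommRing A] [IsLocalRing A] [Algebra k A]
    (Hreg : ∀ (k' : Type u) [Field k'] [Algebra k k'], Module.Finite k k' →
        (∀ y : k', y ^ p ∈ (algebraMap k k').range) → IsRegularRing (k' ⊗[k] A))
    {S : Type u} [Finite S] (x : S → k) (hLI : LinearIndependent k (fun i => D ℤ k (x i)))
    (j : S) :
    (1 : ResidueField A) ⊗ₜ[A] D ℤ A (algebraMap k A (x j)) ∉
      Submodule.span (ResidueField A)
        ((fun i => (1 : ResidueField A) ⊗ₜ[A] D ℤ A (algebraMap k A (x i))) '' {i | i ≠ j}) := by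
  classical
  obtain ⟨F, _, _, hF, hFs⟩ := Groth.Agent.Helper14.AdicFSPrime.exists_primeField k
  obtain ⟨r, hr, kj, hfin, hrmem, hb, hc⟩ :=
    Groth.Agent.Helper14.PthRoots.exists_field p (Kb := AlgebraicClosure (ResidueField A)) x hLI j
  haveI : CharP (AlgebraicClosure (ResidueField A)) p :=
    charP_of_injective_algebraMap (algebraMap k (AlgebraicClosure (ResidueField A))).injective p
  haveI : CharP kj p := charP_of_injective_algebraMap (algebraMap k kj).injective p
  haveI : Fact (Irreducible (X ^ p - C (algebraMap k kj (x j)) : kj[X])) :=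
    ⟨X_pow_sub_C_irreducible_of_prime hp.out hc⟩
  haveI : Module.Finite kj (AdjoinRoot (X ^ p - C (algebraMap k kj (x j)) : kj[X])) :=
    (monic_X_pow_sub_C _ hp.out.ne_zero).finite_adjoinRoot
  haveI hfin' : Module.Finite k (AdjoinRoot (X ^ p - C (algebraMap k kj (x j)) : kj[X])) :=
    Module.Finite.trans kj _
  have hreg : IsRegularRing (AdjoinRoot (X ^ p - C (algebraMap k kj (x j)) : kj[X]) ⊗[k] A) :=
    Hreg _ hfin' (fun y => Groth.Agent.Helper14.PthRoots.adjoinRoot_pow_mem p hb (x j) y)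
  let ι' : kj →ₐ[k] AdjoinRoot (fbar p (r j)) :=
    (IsScalarTower.toAlgHom k (AlgebraicClosure (ResidueField A)) _).comp kj.val
  have hι' : ∀ z : kj, ι' z = algebraMap (AlgebraicClosure (ResidueField A)) _ (z : _) :=
    fun z => rfl
  let ψk : AdjoinRoot (X ^ p - C (algebraMap k kj (x j)) : kj[X]) →ₐ[k]
      AdjoinRoot (fbar p (r j)) :=
    AdjoinRoot.liftAlgHom _ ι' (AdjoinRoot.root (fbar p (r j))) (by
      rw [eval₂_sub, eval₂_pow, eval₂_X, eval₂_C]
      change _ - ι' (algebraMap k kj (x j)) = 0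
      rw [hι', sub_eq_zero]
      have h1 : ((algebraMap k kj (x j) : kj) : AlgebraicClosure (ResidueField A)) =
          (r j) ^ p := (hr j).symm
      rw [h1]
      exact root_pow p ((r j) ^ p))
  obtain ⟨Δ, hD1, hD2⟩ := exists_der_abstract p hF hFs hreg (r j) ψk
  have hDj : Δ (algebraMap k A (x j)) ≠ 0 := by
    rw [hD2 (x j) (AdjoinRoot.root _) (AdjoinRoot.root _) ?_ ?_]
    · have h1 : algebraMap A (AdjoinRoot ((fbar p (r j)) ^ 2)) (algebraMap k A (x j)) =
          algebraMap (AlgebraicClosure (ResidueField A)) _ ((r j) ^ p) := by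
        rw [← IsScalarTower.algebraMap_apply k A, hr j,
          ← IsScalarTower.algebraMap_apply k (AlgebraicClosure (ResidueField A))]
      rw [h1]
      exact root_pow_sub_ne_zero p (r j)
    · rw [root_pow]
      rfl
    · rw [AdjoinRoot.liftAlgHom_root]
      have h2 : AdjoinRoot.root ((fbar p (r j)) ^ 2) = AdjoinRoot.mk _ X := rfl
      rw [h2, proj_mk]
      rfl
  have hDi : ∀ i, i ≠ j → Δ (algebraMap k A (x i)) = 0 := by
    intro i hi
    rw [hD2 (x i) (AdjoinRoot.of _ ⟨r i, hrmem i hi⟩)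
      (algebraMap (AlgebraicClosure (ResidueField A)) _ (r i)) ?_ ?_]
    · rw [← map_pow, hr i, ← IsScalarTower.algebraMap_apply k A,
        ← IsScalarTower.algebraMap_apply k (AlgebraicClosure (ResidueField A)), sub_self]
    · rw [← map_pow]
      have h1 : (⟨r i, hrmem i hi⟩ : kj) ^ p = algebraMap k kj (x i) := by
        apply Subtype.ext
        rw [SubmonoidClass.coe_pow]
        exact hr i
      rw [h1]
      rfl
    · rw [AdjoinRoot.liftAlgHom_of, hι']
      exact ((proj p (r j)).commutes _).symm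
  let D' : Derivation ℤ A (AdjoinRoot ((fbar p (r j)) ^ 2)) :=
    Derivation.mk' Δ.toIntLinearMap (fun a b => by
      rw [Algebra.smul_def, Algebra.smul_def]
      exact hD1 a b)
  let ℓ : ResidueField A ⊗[A] Ω[A⁄ℤ] →ₗ[ResidueField A] AdjoinRoot ((fbar p (r j)) ^ 2) :=
    LinearMap.liftBaseChange (ResidueField A) D'.liftKaehlerDifferential
  have hℓ : ∀ a : A, ℓ ((1 : ResidueField A) ⊗ₜ[A] D ℤ A a) = Δ a := by
    intro a
    rw [LinearMap.liftBaseChange_tmul, one_smul, Derivation.liftKaehlerDifferential_comp_D]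
    rfl
  intro hmem
  have h1 := Submodule.apply_mem_span_image_of_mem_span ℓ hmem
  rw [hℓ] at h1
  have h2 : ℓ '' ((fun i => (1 : ResidueField A) ⊗ₜ[A] D ℤ A (algebraMap k A (x i))) ''
      {i | i ≠ j}) ⊆ {0} := by
    rintro _ ⟨_, ⟨i, hi, rfl⟩, rfl⟩
    rw [hℓ]
    exact hDi i hi
  have h3 := Submodule.span_mono h2 h1
  rw [Submodule.span_singleton_eq_bot.mpr rfl] at h3
  exact hDj h3

/-- A linear map sending a basis to a linearly independent family is injective. -/
lemma injective_of_li_comp_basis {R M N ι : Type*} [Ring R] [AddCommGroup M] [AddCommGroup N]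
    [Module R M] [Module R N] (b : Module.Basis ι R M) (f : M →ₗ[R] N)
    (h : LinearIndependent R (f ∘ b)) : Function.Injective f := by
  rw [← LinearMap.ker_eq_bot, LinearMap.ker_eq_bot']
  intro v hv
  have h1 : Finsupp.linearCombination R (f ∘ b) (b.repr v) = 0 := by
    rw [← LinearMap.map_finsupp_linearCombination, b.linearCombination_repr, hv]
  have h2 := linearIndependent_iff.mp h _ h1
  exact b.repr.map_eq_zero_iff.mp h2

/-- If all the base changes `k' ⊗ A` (`k'` finite over `k` with `k'^p ⊆ k`) are regular, then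
`K ⊗ (A ⊗ Ω_k) → K ⊗ Ω_A` is injective. -/
theorem injective_of_regular (p : ℕ) [hp : Fact p.Prime] {k A : Type u} [Field k] [CharP k p]
    [CommRing A] [IsLocalRing A] [Algebra k A]
    (Hreg : ∀ (k' : Type u) [Field k'] [Algebra k k'], Module.Finite k k' →
        (∀ y : k', y ^ p ∈ (algebraMap k k').range) → IsRegularRing (k' ⊗[k] A)) :
    Function.Injective ((KaehlerDifferential.mapBaseChange ℤ k A).lTensor (ResidueField A)) := by
  classical
  obtain ⟨T, hTsub, hTspan, hTLI⟩ := exists_linearIndependent k (Set.range (D ℤ k))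
  have hx : ∀ t : T, ∃ y : k, D ℤ k y = (t : Ω[k⁄ℤ]) := fun t => hTsub t.2
  choose x hx using hx
  have hTtop : ⊤ ≤ Submodule.span k (Set.range ((↑) : T → Ω[k⁄ℤ])) := by
    rw [Subtype.range_coe, hTspan, KaehlerDifferential.span_range_derivation]
  let bT : Module.Basis T k Ω[k⁄ℤ] := Module.Basis.mk hTLI hTtop
  have hbT : ∀ t, bT t = D ℤ k (x t) := fun t => by
    rw [Module.Basis.mk_apply, hx]
  let B : Module.Basis T (ResidueField A) (ResidueField A ⊗[A] (A ⊗[k] Ω[k⁄ℤ])) :=
    (bT.baseChange A).baseChange (ResidueField A)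
  let φK : ResidueField A ⊗[A] (A ⊗[k] Ω[k⁄ℤ]) →ₗ[ResidueField A]
      ResidueField A ⊗[A] Ω[A⁄ℤ] :=
    LinearMap.baseChange (ResidueField A) (KaehlerDifferential.mapBaseChange ℤ k A)
  have hφB : ∀ t, φK (B t) = (1 : ResidueField A) ⊗ₜ[A] D ℤ A (algebraMap k A (x t)) := by
    intro t
    rw [Module.Basis.baseChange_apply, Module.Basis.baseChange_apply, LinearMap.baseChange_tmul,
      KaehlerDifferential.mapBaseChange_tmul, one_smul, hbT, KaehlerDifferential.map_D]
  have hLI : LinearIndependent (ResidueField A) (φK ∘ B) := by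
    rw [linearIndependent_iff_notMem_span]
    intro t hmem
    rw [Finsupp.mem_span_image_iff_linearCombination] at hmem
    obtain ⟨l, hl, hlt⟩ := hmem
    -- the finite index type
    let S := {s : T // s ∈ insert t l.support}
    let x' : S → k := fun s => x s.1
    have hLI' : LinearIndependent k (fun i : S => D ℤ k (x' i)) := by
      have h1 : (fun i : S => D ℤ k (x' i)) = ((↑) : T → Ω[k⁄ℤ]) ∘ (fun i : S => i.1) := by
        funext i
        exact hx i.1
      rw [h1]
      exact hTLI.comp _ Subtype.val_injective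
    let j : S := ⟨t, Finset.mem_insert_self _ _⟩
    apply notMem_span p Hreg x' hLI' j
    have h2 : (φK ∘ B) t = (1 : ResidueField A) ⊗ₜ[A] D ℤ A (algebraMap k A (x' j)) := hφB t
    rw [← h2, ← hlt, Finsupp.linearCombination_apply]
    refine Submodule.sum_mem _ (fun s hs => Submodule.smul_mem _ _ (Submodule.subset_span ?_))
    have hst : s ≠ t := by
      have := hl hs
      simpa using this
    refine ⟨⟨s, Finset.mem_insert_of_mem hs⟩, ?_, (hφB s).symm⟩
    intro h
    exact hst (congrArg (fun i : S => i.1) h)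
  have hinj := injective_of_li_comp_basis B φK hLI
  intro v w hvw
  exact hinj hvw

end Groth.Agent.Helper14.AdicFSInsep
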