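import Mathlib
import Groth.Prelude.Def_Found

/-!
# Regular ring maps between fields
-/

set_option linter.unnecessarySimpa false

namespace Groth.Agent.Helper14

open TensorProduct

universe u

/-- An Artinian ring is regular iff it is reduced. -/
lemma isRegularRing_iff_isReduced_of_isArtinianRing (T : Type u) [CommRing T] [IsArtinianRing T] :
    IsRegularRing T ↔ IsReduced T := by
  constructor
  · intro h
    apply isReduced_ofLocalizationMaximal
    intro J hJ
    have hreg : IsRegularLocalRing (Localization.AtPrime J) := inferInstance
    have hdim : ringKrullDim (Localization.AtPrime J) = 0 :=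
      le_antisymm (by simpa using (Ring.krullDimLE_iff (n := 0) (R := Localization.AtPrime J)).mp inferInstance)
        ringKrullDim_nonneg_of_nontrivial
    have h0 : (IsLocalRing.maximalIdeal (Localization.AtPrime J)).spanFinrank = 0 := by
      have := hreg.spanFinrank_maximalIdeal
      rw [hdim] at this
      exact_mod_cast this
    have hbot : IsLocalRing.maximalIdeal (Localization.AtPrime J) = ⊥ :=
      (Submodule.spanFinrank_eq_zero_iff_eq_bot (IsNoetherian.noetherian _)).mp h0
    have hF : IsField (Localization.AtPrime J) := IsLocalRing.isField_iff_maximalIdeal_eq.mpr hbot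
    let _ := hF.toField
    infer_instance
  · intro h
    rw [isRegularRing_iff]
    intro p hp
    have hF : IsField (Localization.AtPrime p) := Ring.KrullDimLE.isField_of_isReduced
    let _ := hF.toField
    infer_instance

/-- Reducedness of `C ⊗[k] L` for an algebraic field extension `L/k` can be tested on finite
subextensions. -/
lemma isReduced_tensor_of_forall_finite_subfield {k L C : Type u} [Field k] [Field L] [Algebra k L]
    [Algebra.IsAlgebraic k L] [CommRing C] [Algebra k C]
    (h : ∀ K' : IntermediateField k L, Module.Finite k K' → IsReduced (C ⊗[k] K')) :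
    IsReduced (C ⊗[k] L) := by
  apply IsReduced.tensorProduct_of_flat_of_forall_fg
  intro B hB
  have hBB' : B = (subalgebraEquivIntermediateField B).toSubalgebra :=
    (subalgebraEquivIntermediateField.symm_apply_apply B).symm
  have hft : Algebra.FiniteType k (subalgebraEquivIntermediateField B) := by
    have : (subalgebraEquivIntermediateField B).toSubalgebra.FG := hBB' ▸ hB
    exact (Subalgebra.fg_iff_finiteType _).mp this
  have hfin : Module.Finite k (subalgebraEquivIntermediateField B) := Algebra.IsIntegral.finite
  have hred := h _ hfin
  let e : B ≃ₐ[k] (subalgebraEquivIntermediateField B) := Subalgebra.equivOfEq _ _ hBB'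
  exact isReduced_of_injective (Algebra.TensorProduct.congr (AlgEquiv.refl (R := C) (A₁ := C)) e)
    (Algebra.TensorProduct.congr (AlgEquiv.refl (R := C) (A₁ := C)) e).injective

/-- Geometric reducedness can be tested on finite field extensions. -/
lemma isGeometricallyReduced_of_forall_finite {k S : Type u} [Field k] [CommRing S] [Algebra k S]
    (h : ∀ (k' : Type u) [Field k'] [Algebra k k'] [Module.Finite k k'], IsReduced (k' ⊗[k] S)) :
    Algebra.IsGeometricallyReduced k S := by
  rw [Algebra.isGeometricallyReduced_field_iff]
  have : IsReduced (S ⊗[k] AlgebraicClosure k) := by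
    apply isReduced_tensor_of_forall_finite_subfield
    intro K' hK'
    have := h K'
    exact isReduced_of_injective (Algebra.TensorProduct.comm k S K')
      (Algebra.TensorProduct.comm k S K').injective
  exact isReduced_of_injective (Algebra.TensorProduct.comm k (AlgebraicClosure k) S)
      (Algebra.TensorProduct.comm k (AlgebraicClosure k) S).injective

/-- For a field extension `K/k` and a finite extension `k'/k`, the ring `k' ⊗[k] K` is regular iff
it is reduced. -/
lemma isRegularRing_tensor_iff_isReduced {k K k' : Type u} [Field k] [Field K] [Algebra k K]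
    [Field k'] [Algebra k k'] [Module.Finite k k'] :
    IsRegularRing (k' ⊗[k] K) ↔ IsReduced (k' ⊗[k] K) := by
  have : IsArtinianRing (K ⊗[k] k') := IsArtinianRing.of_finite K _
  have : IsArtinianRing (k' ⊗[k] K) :=
    (Algebra.TensorProduct.comm k K k').toRingEquiv.isArtinianRing
  exact isRegularRing_iff_isReduced_of_isArtinianRing _

/-- Transport of regularity along `k' ⊗[κ] (κ ⊗[k] K) ≃ k' ⊗[k] K`. -/
lemma isRegularRing_cancelBaseChange_iff {k κ K k' : Type u} [Field k] [Field κ] [Algebra k κ]
    [Field K] [Algebra k K] [Field k'] [Algebra k k'] [Algebra κ k'] [IsScalarTower k κ k'] :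
    IsRegularRing (k' ⊗[κ] (κ ⊗[k] K)) ↔ IsRegularRing (k' ⊗[k] K) :=
  ⟨fun _ => IsRegularRing.of_ringEquiv
      (Algebra.TensorProduct.cancelBaseChange k κ κ k' K).toRingEquiv,
    fun _ => IsRegularRing.of_ringEquiv
      (Algebra.TensorProduct.cancelBaseChange k κ κ k' K).symm.toRingEquiv⟩

/-- A field extension `K/k` is a regular ring map iff it is geometrically reduced (separable). -/
theorem isRegularHom_field_iff (k K : Type u) [Field k] [Field K] [Algebra k K] :
    CAlg.IsRegularHom k K ↔ Algebra.IsGeometricallyReduced k K := by
  constructor
  · rintro ⟨-, h⟩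
    apply isGeometricallyReduced_of_forall_finite
    intro k' _ _ _
    have hp : (⊥ : Ideal k).IsPrime := Ideal.isPrime_bot
    obtain ⟨-, hgr⟩ := h ⊥
    let e : k ≃ₐ[k] (⊥ : Ideal k).ResidueField := Ideal.algEquivResidueFieldOfField ⊥
    let _ : Algebra (⊥ : Ideal k).ResidueField k' :=
      ((algebraMap k k').comp (e.symm : (⊥ : Ideal k).ResidueField →+* k)).toAlgebra
    have : IsScalarTower k (⊥ : Ideal k).ResidueField k' := .of_algebraMap_eq' (by
      ext x
      simp only [RingHom.algebraMap_toAlgebra, RingHom.comp_apply]
      congr 1
      have : algebraMap k (⊥ : Ideal k).ResidueField x = e x := (e.commutes x).symm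
      rw [this]
      simp)
    have : Module.Finite (⊥ : Ideal k).ResidueField k' :=
      Module.Finite.of_restrictScalars_finite k _ k'
    have hreg := hgr k' inferInstance
    have : IsRegularRing (k' ⊗[k] K) := isRegularRing_cancelBaseChange_iff.mp hreg
    exact isRegularRing_tensor_iff_isReduced.mp this
  · intro h
    refine ⟨inferInstance, fun p hp => ⟨?_, ?_⟩⟩
    · let e : k ≃ₐ[k] p.ResidueField := Ideal.algEquivResidueFieldOfField p
      have : Module.Finite k p.ResidueField := Module.Finite.equiv e.toLinearEquiv
      have : IsNoetherianRing (K ⊗[k] p.ResidueField) :=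
        IsNoetherianRing.of_finite K _
      exact isNoetherianRing_of_ringEquiv _
        (Algebra.TensorProduct.comm k K p.ResidueField).toRingEquiv
    · intro k'' _ _ hfin
      let e : k ≃ₐ[k] p.ResidueField := Ideal.algEquivResidueFieldOfField p
      have : Module.Finite k p.ResidueField := Module.Finite.equiv e.toLinearEquiv
      let _ : Algebra k k'' :=
        ((algebraMap p.ResidueField k'').comp (algebraMap k p.ResidueField)).toAlgebra
      have : IsScalarTower k p.ResidueField k'' := .of_algebraMap_eq' rfl
      have : Module.Finite k k'' := Module.Finite.trans p.ResidueField k''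
      have hred : IsReduced (k'' ⊗[k] K) := inferInstance
      have hreg : IsRegularRing (k'' ⊗[k] K) := isRegularRing_tensor_iff_isReduced.mpr hred
      exact isRegularRing_cancelBaseChange_iff.mpr hreg

end Groth.Agent.Helper14
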