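import Mathlib

set_option linter.unnecessarySimpa false

/-!
# Étale (and smooth) algebras over reduced rings are reduced
-/

namespace Groth.Agent.Helper14

open TensorProduct

/-- A local ring in which every element is von Neumann regular is a field. -/
lemma isField_of_isLocalRing_of_vnr (P : Type*) [CommRing P] [IsLocalRing P]
    (h : ∀ x : P, ∃ y, x = x * x * y) : IsField P := by
  rw [IsLocalRing.isField_iff_maximalIdeal_eq, eq_bot_iff]
  intro x hx
  obtain ⟨y, hy⟩ := h x
  have h1 : x * (1 - x * y) = 0 := by
    rw [mul_sub, mul_one, ← mul_assoc, ← hy, sub_self]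
  have hxy : x * y ∈ IsLocalRing.maximalIdeal P := Ideal.mul_mem_right _ _ hx
  have hu : IsUnit (1 - x * y) := by
    by_contra hnu
    have h2 : (1 - x * y) ∈ IsLocalRing.maximalIdeal P := hnu
    have h3 : (1 : P) ∈ IsLocalRing.maximalIdeal P := by
      have := Ideal.add_mem _ h2 hxy
      simpa using this
    exact (Ideal.ne_top_iff_one _).mp (IsLocalRing.maximalIdeal.isMaximal P).ne_top h3
  exact (hu.mul_left_eq_zero.mp h1)

/-- von Neumann regularity passes to localizations. -/
lemma vnr_localization {P : Type*} [CommRing P] (S : Submonoid P) (Q : Type*) [CommRing Q]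
    [Algebra P Q] [IsLocalization S Q] (h : ∀ x : P, ∃ y, x = x * x * y) :
    ∀ x : Q, ∃ y, x = x * x * y := by
  intro x
  obtain ⟨a, s, rfl⟩ := IsLocalization.exists_mk'_eq S x
  obtain ⟨y, hy⟩ := h a
  refine ⟨algebraMap P Q (y * s), ?_⟩
  symm
  rw [IsLocalization.eq_mk'_iff_mul_eq]
  have hs : IsLocalization.mk' Q a s * algebraMap P Q s = algebraMap P Q a :=
    IsLocalization.mk'_spec Q a s
  calc IsLocalization.mk' Q a s * IsLocalization.mk' Q a s * algebraMap P Q (y * ↑s) *
        algebraMap P Q ↑s
      = (IsLocalization.mk' Q a s * algebraMap P Q s) * (IsLocalization.mk' Q a s * algebraMap P Q s)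
          * algebraMap P Q y := by rw [map_mul]; ring
    _ = algebraMap P Q a := by rw [hs, ← map_mul, ← map_mul, ← hy]

/-- Étale algebras over von Neumann regular rings are reduced. -/
theorem isReduced_of_etale_of_vnr (P C : Type*) [CommRing P] [CommRing C] [Algebra P C]
    [Algebra.Etale P C] (h : ∀ x : P, ∃ y, x = x * x * y) : IsReduced C := by
  constructor
  intro c hc
  refine Module.eq_zero_of_localization_maximal (R := P)
    (fun m _ => Localization.AtPrime m ⊗[P] C)
    (fun m _ => TensorProduct.mk P (Localization.AtPrime m) C 1) c ?_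
  intro m hm
  have hF : IsField (Localization.AtPrime m) :=
    isField_of_isLocalRing_of_vnr _ (vnr_localization m.primeCompl _ h)
  let _ := hF.toField
  have : IsReduced (Localization.AtPrime m ⊗[P] C) :=
    Algebra.FormallyUnramified.isReduced_of_field (Localization.AtPrime m) _
  have hnil : IsNilpotent ((1 : Localization.AtPrime m) ⊗ₜ[P] c) := by
    have := hc.map (Algebra.TensorProduct.includeRight (R := P) (A := Localization.AtPrime m) (B := C))
    simpa using this
  exact hnil.eq_zero

/-- Étale algebras over reduced rings are reduced. -/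
theorem isReduced_of_etale (A B : Type*) [CommRing A] [CommRing B] [Algebra A B]
    [Algebra.Etale A B] [IsReduced A] : IsReduced B := by
  classical
  let ι := {p : Ideal A // p ∈ minimalPrimes A}
  have hprime : ∀ p : ι, p.1.IsPrime := fun p => p.2.1.1
  let K : ι → Type _ := fun p => Localization.AtPrime p.1
  have hK : ∀ p : ι, IsField (K p) := fun p => by
    have := Ring.KrullDimLE.of_isLocalization p.1 p.2 (K p)
    exact Ring.KrullDimLE.isField_of_isReduced
  have hvnr : ∀ x : (Π p : ι, K p), ∃ y, x = x * x * y := by
    intro x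
    have : ∀ p : ι, ∃ y : K p, x p = x p * x p * y := by
      intro p
      by_cases hx : x p = 0
      · exact ⟨0, by simp [hx]⟩
      · obtain ⟨b, hb⟩ := (hK p).mul_inv_cancel hx
        exact ⟨b, by rw [mul_assoc, hb, mul_one]⟩
    choose y hy using this
    exact ⟨y, funext hy⟩
  have hinj : Function.Injective (algebraMap A (Π p : ι, K p)) := by
    rw [injective_iff_map_eq_zero]
    intro a ha
    have hmem : a ∈ sInf (minimalPrimes A) := by
      rw [Ideal.mem_sInf]
      intro p hp
      have h1 : algebraMap A (K ⟨p, hp⟩) a = 0 := congrFun ha ⟨p, hp⟩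
      have : p.IsPrime := hp.1.1
      obtain ⟨s, hs⟩ := (IsLocalization.map_eq_zero_iff p.primeCompl (Localization.AtPrime p) a).mp h1
      have : (s : A) * a ∈ p := by rw [hs]; exact p.zero_mem
      exact (‹p.IsPrime›.mem_or_mem this).resolve_left s.2
    have : sInf (minimalPrimes A) = ⊥ := by
      rw [minimalPrimes, Ideal.sInf_minimalPrimes]
      exact nilradical_eq_zero A
    rw [this] at hmem
    exact hmem
  have := isReduced_of_etale_of_vnr (Π p : ι, K p) ((Π p : ι, K p) ⊗[A] B) hvnr
  exact isReduced_of_injective
    (Algebra.TensorProduct.includeRight (R := A) (A := (Π p : ι, K p)) (B := B))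
    (Algebra.TensorProduct.includeRight_injective hinj)

/-- If `B` is étale over `A`, `q` a prime of `B` over `p`, and `A_p` is reduced then `B_q` is
reduced. -/
theorem isReduced_localization_of_etale {A B : Type*} [CommRing A] [CommRing B] [Algebra A B]
    [Algebra.Etale A B] (p : Ideal A) [p.IsPrime] (q : Ideal B) [q.IsPrime]
    (hpq : q.under A = p) (hA : IsReduced (Localization.AtPrime p)) :
    IsReduced (Localization.AtPrime q) := by
  have hT : IsReduced (Localization.AtPrime p ⊗[A] B) :=
    isReduced_of_etale (Localization.AtPrime p) _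
  constructor
  intro z hz
  obtain ⟨b, s, rfl⟩ := IsLocalization.exists_mk'_eq q.primeCompl z
  have hb : IsNilpotent (algebraMap B (Localization.AtPrime q) b) := by
    rw [← IsLocalization.mk'_spec (Localization.AtPrime q) b s]
    exact (Commute.all _ _).isNilpotent_mul_right hz
  obtain ⟨n, hn⟩ := hb
  rw [← map_pow] at hn
  obtain ⟨t, ht⟩ := (IsLocalization.map_eq_zero_iff q.primeCompl (Localization.AtPrime q) _).mp hn
  have hc : IsNilpotent ((t : B) * b) := by
    refine ⟨n + 1, ?_⟩
    calc ((t : B) * b) ^ (n + 1) = ((t : B) * b ^ n) * ((t : B) ^ n * b) := by ring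
      _ = 0 := by rw [ht, zero_mul]
  have h1 : (1 : Localization.AtPrime p) ⊗ₜ[A] ((t : B) * b) = 0 := by
    have hnil : IsNilpotent ((1 : Localization.AtPrime p) ⊗ₜ[A] ((t : B) * b)) := by
      have := hc.map (Algebra.TensorProduct.includeRight (R := A)
        (A := Localization.AtPrime p) (B := B))
      simpa using this
    exact hnil.eq_zero
  obtain ⟨a, ha⟩ := (IsLocalizedModule.eq_zero_iff p.primeCompl
    (TensorProduct.mk A (Localization.AtPrime p) B 1)).mp h1
  have haq : algebraMap A B (a : A) ∉ q := by
    intro hmem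
    have : (a : A) ∈ q.under A := hmem
    rw [hpq] at this
    exact a.2 this
  rw [IsLocalization.mk'_eq_zero_iff]
  refine ⟨⟨algebraMap A B (a : A) * (t : B), ?_⟩, ?_⟩
  · exact Submonoid.mul_mem _ haq t.2
  · have : (a : A) • ((t : B) * b) = 0 := ha
    rw [Algebra.smul_def] at this
    simpa [mul_assoc] using this

/-- Smooth algebras over reduced rings are reduced. -/
theorem isReduced_of_smooth (R S : Type*) [CommRing R] [CommRing S] [Algebra R S]
    [Algebra.Smooth R S] [IsReduced R] : IsReduced S := by
  constructor
  intro s hs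
  by_contra hne
  -- the annihilator of `s` is a proper ideal
  let I : Ideal S := Ideal.span {s} |>.annihilator
  have hI : I ≠ ⊤ := by
    intro h
    have h1 : (1 : S) ∈ I := by rw [h]; trivial
    have := (Submodule.mem_annihilator_span_singleton _ _).mp h1
    exact hne (by simpa using this)
  obtain ⟨m, hm, hIm⟩ := I.exists_le_maximal hI
  have hmp : m.IsPrime := hm.isPrime
  have hsm : Algebra.IsSmoothAt R m := by
    have : (⟨m, hmp⟩ : PrimeSpectrum S) ∈ Algebra.smoothLocus R S := by
      rw [Algebra.smoothLocus_eq_univ]; trivial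
    exact this
  obtain ⟨f, hf, n, _, _, hE⟩ :=
    Algebra.IsSmoothAt.exists_isStandardEtale_mvPolynomial (R := R) (p := m)
  have : Algebra.Etale (MvPolynomial (Fin n) R) (Localization.Away f) := inferInstance
  have hred : IsReduced (Localization.Away f) :=
    isReduced_of_etale (MvPolynomial (Fin n) R) (Localization.Away f)
  have h0 : algebraMap S (Localization.Away f) s = 0 := (hs.map _).eq_zero
  obtain ⟨⟨_, k, rfl⟩, hk⟩ :=
    (IsLocalization.map_eq_zero_iff (Submonoid.powers f) (Localization.Away f) s).mp h0
  have hfk : f ^ k ∈ I := by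
    rw [Submodule.mem_annihilator_span_singleton]
    simpa using hk
  exact hf (hmp.mem_of_pow_mem k (hIm hfk))

end Groth.Agent.Helper14
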