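import Mathlib

/-!
# Geometrically reduced field extensions are filtered unions of smooth subalgebras
-/

set_option linter.unnecessarySimpa false

namespace Groth.Agent.Helper14

open TensorProduct

/-- MacLane: in a geometrically reduced algebra over a field of characteristic `p`, `p`-th powers
of linearly independent elements stay linearly independent. -/
lemma linearIndepOn_pow_of_isGeometricallyReduced {k K : Type*} [Field k] [CommRing K]
    [Algebra k K] [Algebra.IsGeometricallyReduced k K] (p : ℕ) [hp : Fact p.Prime] [CharP k p]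
    (s : Finset K) (hs : LinearIndepOn k id (s : Set K)) :
    LinearIndepOn k (fun x => x ^ p) (s : Set K) := by
  classical
  rw [linearIndepOn_finset_iff]
  intro c hc i hi
  have hi0 : i ≠ 0 := by
    have := hs.ne_zero (i := i) (by simpa using hi)
    simpa using this
  have : Nontrivial K := ⟨i, 0, hi0⟩
  let kb := AlgebraicClosure k
  have hinjK : Function.Injective
      (Algebra.TensorProduct.includeRight : K →ₐ[k] kb ⊗[k] K) :=
    Algebra.TensorProduct.includeRight_injective (algebraMap k kb).injective
  have : Nontrivial (kb ⊗[k] K) := hinjK.nontrivial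
  have : CharP kb p := charP_of_injective_algebraMap (algebraMap k kb).injective p
  have : CharP (kb ⊗[k] K) p :=
    charP_of_injective_algebraMap (algebraMap kb (kb ⊗[k] K)).injective p
  have hroot : ∀ j : K, ∃ γ : kb, γ ^ p = algebraMap k kb (c j) :=
    fun j => IsAlgClosed.exists_pow_nat_eq _ hp.out.pos
  choose γ hγ using hroot
  have hred : IsReduced (kb ⊗[k] K) := inferInstance
  have hz : (∑ j ∈ s, γ j ⊗ₜ[k] j) ^ p = 0 := by
    rw [sum_pow_char]
    have : ∀ j ∈ s, (γ j ⊗ₜ[k] j) ^ p = (1 : kb) ⊗ₜ[k] (c j • j ^ p) := by
      intro j _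
      rw [Algebra.TensorProduct.tmul_pow, hγ, Algebra.algebraMap_eq_smul_one,
        TensorProduct.smul_tmul]
    rw [Finset.sum_congr rfl this, ← TensorProduct.tmul_sum, hc, TensorProduct.tmul_zero]
  have hz0 : (∑ j ∈ s, γ j ⊗ₜ[k] j) = 0 := IsReduced.eq_zero _ ⟨p, hz⟩
  have hli : LinearIndependent kb (fun j : (s : Set K) => (1 : kb) ⊗ₜ[k] (j : K)) :=
    Module.Flat.linearIndependent_one_tmul (S := kb) hs
  rw [Fintype.linearIndependent_iff] at hli
  have hsum : ∑ j : (s : Set K), γ j • ((1 : kb) ⊗ₜ[k] (j : K)) = 0 := by
    rw [← hz0]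
    rw [← Finset.sum_coe_sort s (fun j => γ j ⊗ₜ[k] j)]
    refine Finset.sum_congr rfl fun j _ => ?_
    rw [TensorProduct.smul_tmul', smul_eq_mul, mul_one]
  have hγi : γ i = 0 := hli (fun j => γ j) hsum ⟨i, by simpa using hi⟩
  have : algebraMap k kb (c i) = 0 := by rw [← hγ, hγi, zero_pow hp.out.ne_zero]
  exact (map_eq_zero_iff _ (algebraMap k kb).injective).mp this

/-- A finitely generated geometrically reduced field extension is formally smooth. -/
lemma formallySmooth_of_isGeometricallyReduced_of_essFiniteType (k K : Type*) [Field k] [Field K]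
    [Algebra k K] [Algebra.IsGeometricallyReduced k K] [Algebra.EssFiniteType k K] :
    Algebra.FormallySmooth k K := by
  rcases CharP.exists' k with h0 | ⟨p, hp, hchar⟩
  · infer_instance
  · have : ExpChar k p := .prime hp.out
    obtain ⟨s, hs, H⟩ :=
      exists_isTranscendenceBasis_and_isSeparable_of_linearIndepOn_pow_of_essFiniteType
        (k := k) (K := K) p hp.out
        (fun s hs => linearIndepOn_pow_of_isGeometricallyReduced p s hs)
    have : Algebra.IsSeparable (↥(IntermediateField.adjoin k (Set.range ((↑) : s → K)))) K := by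
      convert! H <;> simp
    exact .of_algebraicIndependent_of_isSeparable hs.1

open scoped IntermediateField.algebraAdjoinAdjoin in
/-- Every finite subset of a geometrically reduced field extension `K/k` lies in a smooth
`k`-subalgebra of `K`. -/
theorem exists_subalgebra_smooth_of_isGeometricallyReduced (k K : Type*) [Field k] [Field K]
    [Algebra k K] [Algebra.IsGeometricallyReduced k K] (E : Finset K) :
    ∃ A : Subalgebra k K, (↑E : Set K) ⊆ (A : Set K) ∧ Algebra.Smooth k A := by
  classical
  let K' := IntermediateField.adjoin k (E : Set K)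
  let A₀ := Algebra.adjoin k (E : Set K)
  have : Algebra.EssFiniteType k K' := IntermediateField.essFiniteType_iff.mpr ⟨E, rfl⟩
  have : Algebra.IsGeometricallyReduced k K' :=
    Algebra.IsGeometricallyReduced.of_injective K'.val Subtype.val_injective
  have hfs : Algebra.FormallySmooth k K' :=
    formallySmooth_of_isGeometricallyReduced_of_essFiniteType k K'
  have hft : Algebra.FiniteType k A₀ := .adjoin_of_finite E.finite_toSet
  have hfp : Algebra.FinitePresentation k A₀ := Algebra.FinitePresentation.of_finiteType.mp hft
  have hbot : (⊥ : Ideal A₀).IsPrime := Ideal.isPrime_bot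
  have hloc : IsLocalization (⊥ : Ideal A₀).primeCompl K' := by
    rw [Ideal.primeCompl_bot]
    infer_instance
  have hsm : Algebra.IsSmoothAt k (⊥ : Ideal A₀) := by
    let e : K' ≃ₐ[A₀] Localization.AtPrime (⊥ : Ideal A₀) :=
      IsLocalization.algEquiv (⊥ : Ideal A₀).primeCompl K' _
    exact Algebra.FormallySmooth.of_equiv (e.restrictScalars k)
  obtain ⟨f, hf, hsmooth⟩ := Algebra.IsSmoothAt.exists_notMem_smooth k (⊥ : Ideal A₀)
  have hf0 : f ≠ 0 := fun h => hf (by rw [h]; exact Ideal.zero_mem _)
  have hunit : ∀ y : Submonoid.powers f, IsUnit (A₀.val (y : A₀)) := by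
    rintro ⟨_, n, rfl⟩
    rw [map_pow]
    refine IsUnit.pow _ (isUnit_iff_ne_zero.mpr ?_)
    exact fun h => hf0 (Subtype.ext h)
  let ψ : Localization.Away f →ₐ[k] K := IsLocalization.liftAlgHom (M := Submonoid.powers f)
    (f := A₀.val) hunit
  have hψ : Function.Injective ψ := by
    have : Function.Injective (IsLocalization.lift (M := Submonoid.powers f)
        (S := Localization.Away f) (g := (A₀.val : A₀ →+* K)) hunit) := by
      rw [IsLocalization.lift_injective_iff]
      intro x y
      constructor
      · intro h
        have hle : Submonoid.powers f ≤ nonZeroDivisors A₀ :=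
          Submonoid.powers_le.mpr (mem_nonZeroDivisors_of_ne_zero hf0)
        rw [IsLocalization.injective (Localization.Away f) hle h]
      · intro h
        have : x = y := Subtype.val_injective (by simpa using h)
        rw [this]
    exact this
  refine ⟨ψ.range, ?_, Algebra.Smooth.of_equiv (AlgEquiv.ofInjective ψ hψ)⟩
  intro x hx
  refine ⟨algebraMap A₀ (Localization.Away f) ⟨x, Algebra.subset_adjoin hx⟩, ?_⟩
  simp [ψ]

end Groth.Agent.Helper14
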