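import Mathlib
import Groth.Agent.Lib.Helper14.EtaleReduced
import Groth.Agent.Lib.Helper14.GeomRedSmooth

/-!
# Separably generated field extensions are geometrically reduced
-/

set_option linter.unnecessarySimpa false

namespace Groth.Agent.Helper14

open TensorProduct

universe u

/-- Reducedness of `L ⊗[k] A` passes to `L ⊗[k] F` for `F` a localization of `A`. -/
lemma isReduced_tensor_of_isLocalization {k L A F : Type u} [CommRing k] [CommRing L] [Algebra k L]
    [CommRing A] [Algebra k A] [CommRing F] [Algebra k F] [Algebra A F] [IsScalarTower k A F]
    (M : Submonoid A) [IsLocalization M F] (hA : IsReduced (L ⊗[k] A)) : IsReduced (L ⊗[k] F) := by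
  let φ : L ⊗[k] A →ₐ[L] L ⊗[k] F :=
    Algebra.TensorProduct.map (AlgHom.id L L) (IsScalarTower.toAlgHom k A F)
  let _ : Algebra (L ⊗[k] A) (L ⊗[k] F) := φ.toRingHom.toAlgebra
  have : IsScalarTower L (L ⊗[k] A) (L ⊗[k] F) :=
    .of_algebraMap_eq' φ.comp_algebraMap.symm
  have hloc := IsLocalization.tensorProduct_tensorProduct_right k L M F
    (by ext a; simp [φ, RingHom.algebraMap_toAlgebra])
  exact isReduced_localizationPreserves
    (M.map (Algebra.TensorProduct.includeRight (R := k) (A := L))) (L ⊗[k] F) hA

open scoped IntermediateField.algebraAdjoinAdjoin in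
/-- For a purely transcendental extension `F = k(x)` and any field `L/k`, `L ⊗[k] F` is reduced. -/
lemma isReduced_tensor_adjoin_of_algebraicIndependent {k K L : Type u} {ι : Type*} [Field k]
    [Field K] [Algebra k K] [CommRing L] [IsReduced L] [Algebra k L] {x : ι → K}
    (hx : AlgebraicIndependent k x) :
    IsReduced (L ⊗[k] IntermediateField.adjoin k (Set.range x)) := by
  let e : L ⊗[k] Algebra.adjoin k (Set.range x) ≃ₐ[L] MvPolynomial ι L :=
    (Algebra.TensorProduct.congr AlgEquiv.refl hx.aevalEquiv.symm).trans
      (MvPolynomial.algebraTensorAlgEquiv k L)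
  have hred : IsReduced (L ⊗[k] Algebra.adjoin k (Set.range x)) :=
    isReduced_of_injective e e.injective
  exact isReduced_tensor_of_isLocalization (nonZeroDivisors (Algebra.adjoin k (Set.range x))) hred

/-- Tensoring a reduced algebra with a separable algebraic field extension stays reduced. -/
lemma isReduced_tensor_of_isSeparable {F K R' : Type u} [Field F] [Field K] [Algebra F K]
    [Algebra.IsSeparable F K] [CommRing R'] [Algebra F R'] [IsReduced R'] :
    IsReduced (R' ⊗[F] K) := by
  apply IsReduced.tensorProduct_of_flat_of_forall_fg
  intro B hB
  have : Algebra.IsAlgebraic F K := Algebra.IsSeparable.isAlgebraic F K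
  have hBB' : B = (subalgebraEquivIntermediateField B).toSubalgebra :=
    (subalgebraEquivIntermediateField.symm_apply_apply B).symm
  have hft : Algebra.FiniteType F (subalgebraEquivIntermediateField B) := by
    have : (subalgebraEquivIntermediateField B).toSubalgebra.FG := hBB' ▸ hB
    exact (Subalgebra.fg_iff_finiteType _).mp this
  have : Module.Finite F (subalgebraEquivIntermediateField B) := Algebra.IsIntegral.finite
  have : Algebra.FormallyEtale F (subalgebraEquivIntermediateField B) :=
    Algebra.FormallyEtale.of_isSeparable F _
  have : Algebra.FinitePresentation F (subalgebraEquivIntermediateField B) :=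
    Algebra.FinitePresentation.of_finiteType.mp hft
  have : Algebra.Etale F (subalgebraEquivIntermediateField B) := {}
  have hred : IsReduced (R' ⊗[F] (subalgebraEquivIntermediateField B)) :=
    isReduced_of_etale R' (R' ⊗[F] (subalgebraEquivIntermediateField B))
  let e : B ≃ₐ[F] (subalgebraEquivIntermediateField B) := Subalgebra.equivOfEq _ _ hBB'
  exact isReduced_of_injective (Algebra.TensorProduct.congr (AlgEquiv.refl (R := R') (A₁ := R')) e)
    (Algebra.TensorProduct.congr (AlgEquiv.refl (R := R') (A₁ := R')) e).injective

/-- If `kb ⊗[k] F` is reduced and `K/F` is separable algebraic then `kb ⊗[k] K` is reduced. -/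
lemma isReduced_tensor_of_isSeparable_tower {k F K kb : Type u} [Field k] [Field F] [Field K]
    [Algebra k F] [Algebra k K] [Algebra F K] [IsScalarTower k F K] [Algebra.IsSeparable F K]
    [CommRing kb] [Algebra k kb] (hR : IsReduced (kb ⊗[k] F)) : IsReduced (kb ⊗[k] K) := by
  have hR' : IsReduced (F ⊗[k] kb) :=
    isReduced_of_injective (Algebra.TensorProduct.comm k _ _)
      (Algebra.TensorProduct.comm k _ _).injective
  have h1 : IsReduced ((F ⊗[k] kb) ⊗[F] K) := isReduced_tensor_of_isSeparable
  let E : kb ⊗[k] K ≃+* ((F ⊗[k] kb) ⊗[F] K) :=
    (Algebra.TensorProduct.comm k kb K).toRingEquiv.trans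
      ((Algebra.TensorProduct.cancelBaseChange k F F K kb).symm.toRingEquiv.trans
        (Algebra.TensorProduct.comm F K _).toRingEquiv)
  exact isReduced_of_injective E E.injective

/-- A separably generated field extension is geometrically reduced. -/
theorem isGeometricallyReduced_of_separablyGenerated {k K : Type u} {ι : Type*} [Field k]
    [Field K] [Algebra k K] {x : ι → K} (hx : AlgebraicIndependent k x)
    [Algebra.IsSeparable (IntermediateField.adjoin k (Set.range x)) K] :
    Algebra.IsGeometricallyReduced k K := by
  rw [Algebra.isGeometricallyReduced_field_iff]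
  have hR : IsReduced (AlgebraicClosure k ⊗[k] IntermediateField.adjoin k (Set.range x)) :=
    isReduced_tensor_adjoin_of_algebraicIndependent hx
  exact isReduced_tensor_of_isSeparable_tower hR

/-- Tensoring a reduced algebra with a separably generated field extension stays reduced. -/
theorem isReduced_tensor_of_separablyGenerated {k K R' : Type u} {ι : Type*} [Field k]
    [Field K] [Algebra k K] [CommRing R'] [IsReduced R'] [Algebra k R'] {x : ι → K}
    (hx : AlgebraicIndependent k x)
    [Algebra.IsSeparable (IntermediateField.adjoin k (Set.range x)) K] :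
    IsReduced (R' ⊗[k] K) :=
  isReduced_tensor_of_isSeparable_tower (isReduced_tensor_adjoin_of_algebraicIndependent hx)

/-- Finset version of `isReduced_tensor_of_separablyGenerated`. -/
theorem isReduced_tensor_of_separablyGenerated_finset {k K R' : Type u} [Field k]
    [Field K] [Algebra k K] [CommRing R'] [IsReduced R'] [Algebra k R'] (s : Finset K)
    (hs : AlgebraicIndependent k ((↑) : s → K))
    [H : Algebra.IsSeparable (IntermediateField.adjoin k (s : Set K)) K] :
    IsReduced (R' ⊗[k] K) := by
  have : Algebra.IsSeparable (↥(IntermediateField.adjoin k (Set.range ((↑) : s → K)))) K := by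
    convert! H <;> simp
  exact isReduced_tensor_of_separablyGenerated hs

/-- A reduced algebra over a perfect field stays reduced after tensoring with any field
extension. -/
theorem isReduced_tensor_of_perfectField {F R' L : Type u} [Field F] [PerfectField F]
    [CommRing R'] [IsReduced R'] [Algebra F R'] [Field L] [Algebra F L] :
    IsReduced (R' ⊗[F] L) := by
  apply IsReduced.tensorProduct_of_flat_of_forall_fg
  intro B hB
  have : Algebra.FiniteType F B := (Subalgebra.fg_iff_finiteType B).mp hB
  have : Algebra.EssFiniteType B (FractionRing B) :=
    .of_isLocalization _ (nonZeroDivisors B)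
  have : Algebra.EssFiniteType F (FractionRing B) := .comp F B (FractionRing B)
  obtain ⟨s, hs, H⟩ := exists_isTranscendenceBasis_and_isSeparable_of_perfectField F
    (FractionRing B)
  have hred : IsReduced (R' ⊗[F] FractionRing B) :=
    isReduced_tensor_of_separablyGenerated_finset s hs.1
  exact isReduced_of_injective
    (Algebra.TensorProduct.map (AlgHom.id R' R') (IsScalarTower.toAlgHom F B (FractionRing B)))
    (Module.Flat.lTensor_preserves_injective_linearMap _
      (IsFractionRing.injective B (FractionRing B)))

/-- Every finitely generated subextension of a separably generated extension is separably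
generated. -/
theorem exists_separating_transcendenceBasis_of_fg_subextension {k K : Type u} [Field k] [Field K]
    [Algebra k K] {ι : Type*} {x : ι → K} (hx : AlgebraicIndependent k x)
    [Algebra.IsSeparable (IntermediateField.adjoin k (Set.range x)) K]
    (K' : IntermediateField k K) (hK' : K'.FG) :
    ∃ s : Finset K', IsTranscendenceBasis k ((↑) : s → K') ∧
      Algebra.IsSeparable (IntermediateField.adjoin k (s : Set K')) K' := by
  have : Algebra.IsGeometricallyReduced k K := isGeometricallyReduced_of_separablyGenerated hx
  have : Algebra.IsGeometricallyReduced k K' :=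
    Algebra.IsGeometricallyReduced.of_injective K'.val Subtype.val_injective
  have : Algebra.EssFiniteType k K' := IntermediateField.essFiniteType_iff.mpr hK'
  rcases CharP.exists' k with h0 | ⟨p, hp, hchar⟩
  · exact exists_isTranscendenceBasis_and_isSeparable_of_perfectField k K'
  · have : ExpChar k p := .prime hp.out
    exact exists_isTranscendenceBasis_and_isSeparable_of_linearIndepOn_pow_of_essFiniteType
      (k := k) (K := K') p hp.out
      (fun s hs => linearIndepOn_pow_of_isGeometricallyReduced p s hs)

end Groth.Agent.Helper14
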