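import Mathlib
import Groth.Agent.Lib.Helper14.SepGen
import Groth.Agent.Lib.Helper14.RegHomField

/-!
# Characterisations of geometric reducedness over a field
-/

set_option linter.unnecessarySimpa false

namespace Groth.Agent.Helper14

open TensorProduct

universe u

/-- If `k' ⊗ S` is reduced for all finite purely inseparable `k'/k` then `S` is geometrically
reduced. -/
theorem isGeometricallyReduced_of_forall_finite_purelyInseparable {k S : Type u} [Field k]
    [CommRing S] [Algebra k S]
    (h : ∀ (k' : Type u) [Field k'] [Algebra k k'] [Module.Finite k k']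
      [IsPurelyInseparable k k'], IsReduced (k' ⊗[k] S)) :
    Algebra.IsGeometricallyReduced k S := by
  rw [Algebra.isGeometricallyReduced_field_iff]
  have hA : IsReduced (S ⊗[k] perfectClosure k (AlgebraicClosure k)) := by
    apply isReduced_tensor_of_forall_finite_subfield
    intro K' hK'
    have : IsPurelyInseparable k K' :=
      IsPurelyInseparable.tower_bot k K' (perfectClosure k (AlgebraicClosure k))
    have := h K'
    exact isReduced_of_injective (Algebra.TensorProduct.comm k S K')
      (Algebra.TensorProduct.comm k S K').injective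
  have : Algebra.IsSeparable (perfectClosure k (AlgebraicClosure k)) (AlgebraicClosure k) :=
    Algebra.IsAlgebraic.isSeparable_of_perfectField
  have hB : IsReduced (S ⊗[k] AlgebraicClosure k) := isReduced_tensor_of_isSeparable_tower hA
  exact isReduced_of_injective (Algebra.TensorProduct.comm k (AlgebraicClosure k) S)
      (Algebra.TensorProduct.comm k (AlgebraicClosure k) S).injective

/-- Auxiliary: from reducedness of `kb ⊗ S` with `kb` perfect to reducedness of `K ⊗ S` where
`K` and `kb` both embed in `Kb`. -/
lemma isReduced_tensor_of_tower_aux {k kb K Kb S : Type u} [Field k] [Field kb] [Algebra k kb]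
    [PerfectField kb] [Field K] [Algebra k K] [Field Kb] [Algebra k Kb] [Algebra K Kb]
    [IsScalarTower k K Kb] [Algebra kb Kb] [IsScalarTower k kb Kb] [CommRing S] [Algebra k S]
    (h : IsReduced (kb ⊗[k] S)) : IsReduced (K ⊗[k] S) := by
  have h1 : IsReduced ((kb ⊗[k] S) ⊗[kb] Kb) := isReduced_tensor_of_perfectField
  let E : Kb ⊗[k] S ≃+* (kb ⊗[k] S) ⊗[kb] Kb :=
    (Algebra.TensorProduct.cancelBaseChange k kb kb Kb S).symm.toRingEquiv.trans
      (Algebra.TensorProduct.comm kb Kb (kb ⊗[k] S)).toRingEquiv
  have h2 : IsReduced (Kb ⊗[k] S) := isReduced_of_injective E E.injective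
  exact isReduced_of_injective
    (Algebra.TensorProduct.map (IsScalarTower.toAlgHom k K Kb) (AlgHom.id k S))
    (Module.Flat.rTensor_preserves_injective_linearMap _ (algebraMap K Kb).injective)

/-- A geometrically reduced algebra stays reduced after any field extension. -/
theorem isReduced_tensor_of_isGeometricallyReduced {k S : Type u} [Field k] [CommRing S]
    [Algebra k S] [Algebra.IsGeometricallyReduced k S] (K : Type u) [Field K] [Algebra k K] :
    IsReduced (K ⊗[k] S) := by
  have h := (Algebra.isGeometricallyReduced_field_iff k S).mp inferInstance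
  let φ : AlgebraicClosure k →ₐ[k] AlgebraicClosure K := IsAlgClosed.lift
  let _ : Algebra (AlgebraicClosure k) (AlgebraicClosure K) := φ.toRingHom.toAlgebra
  have : IsScalarTower k (AlgebraicClosure k) (AlgebraicClosure K) :=
    .of_algebraMap_eq' φ.comp_algebraMap.symm
  exact isReduced_tensor_of_tower_aux (kb := AlgebraicClosure k) (Kb := AlgebraicClosure K) h

theorem geomReduced_tfae {k S : Type u} [Field k] [CommRing S] [Algebra k S] :
    [∀ (k' : Type u) [Field k'] [Algebra k k'] [Module.Finite k k'] [IsPurelyInseparable k k'],
        IsReduced (k' ⊗[k] S),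
      Algebra.IsGeometricallyReduced k S,
      ∀ (K : Type u) [Field K] [Algebra k K], IsReduced (K ⊗[k] S)].TFAE := by
  tfae_have 3 → 1 := fun h k' _ _ _ _ => h k'
  tfae_have 1 → 2 := isGeometricallyReduced_of_forall_finite_purelyInseparable
  tfae_have 2 → 3 := fun h K _ _ => isReduced_tensor_of_isGeometricallyReduced K
  tfae_finish

end Groth.Agent.Helper14
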