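import Mathlib
import Groth.Prelude.Def_CAlgX
import Groth.Agent.S2452
import Groth.Agent.S9443
import Groth.Agent.S9318
import Groth.Agent.Lib.Helper14.AdicFSRegular2
import Groth.Agent.Lib.Helper14.AdicFSTransfer
import Groth.Agent.Lib.Helper14.PowerSeriesSmooth
import Groth.Agent.Lib.Helper9.SepFS

/-!
# Local algebras over a field with separable residue field
-/

set_option autoImplicit false
universe u

namespace Groth.Agent.Helper14.AdicFSSepResidue

open IsLocalRing

/-- A complete regular local `k`-algebra with residue field separable over `k` is a power series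
ring over its residue field, compatibly with `k`. -/
theorem complete_case (k R : Type u) [Field k] [CommRing R] [IsRegularLocalRing R]
    [IsAdicComplete (maximalIdeal R) R] [Algebra k R]
    [Algebra.IsGeometricallyReduced k (ResidueField R)] :
    ∃ (d : ℕ) (e : R ≃+* MvPowerSeries (Fin d) (ResidueField R)),
      ∀ x : k, e (algebraMap k R x) = MvPowerSeries.C (algebraMap k (ResidueField R) x) := by
  obtain ⟨σ, hσ⟩ := Groth.Agent.S2452.result (k := k) (A := R)
  have key : ∃ d : ℕ, ∃ e : R ≃+* MvPowerSeries (Fin d) (ResidueField R),
      ∀ c : ResidueField R, e (σ c) = MvPowerSeries.C c := by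
    letI : Algebra (ResidueField R) R := σ.toRingHom.toAlgebra
    have h1 : ∃ d : ℕ, Nonempty (R ≃ₐ[ResidueField R]
        MvPowerSeries (Fin d) (ResidueField R)) := by
      refine Groth.Agent.S9443.result R (ResidueField R) ?_
      change Function.Bijective ((residue R).comp σ.toRingHom)
      have : (residue R).comp σ.toRingHom = RingHom.id _ := by
        ext c
        exact hσ c
      rw [this]
      exact Function.bijective_id
    obtain ⟨d, ⟨e⟩⟩ := h1
    refine ⟨d, e.toRingEquiv, fun c => ?_⟩
    exact e.commutes c
  obtain ⟨d, e, he⟩ := key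
  refine ⟨d, e, fun x => ?_⟩
  rw [← he, AlgHom.commutes]

/-- A regular local `k`-algebra with residue field separable over `k`: the completion is a
power series ring over the residue field compatibly with `k`. -/
theorem general_b (k A : Type u) [Field k] [CommRing A] [IsLocalRing A] [IsNoetherianRing A]
    [Algebra k A] [Algebra.IsGeometricallyReduced k (ResidueField A)]
    (hreg : IsRegularLocalRing A) :
    ∃ (n : ℕ) (e : AdicCompletion (maximalIdeal A) A ≃+* MvPowerSeries (Fin n) (ResidueField A)),
      ∀ x : k, e (algebraMap A (AdicCompletion (maximalIdeal A) A) (algebraMap k A x)) =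
        algebraMap (ResidueField A) (MvPowerSeries (Fin n) (ResidueField A))
          (algebraMap k (ResidueField A) x) := by
  haveI hN : IsNoetherianRing (AdicCompletion (maximalIdeal A) A) :=
    Groth.Agent.S0543.result A (maximalIdeal A)
  haveI : IsRegularLocalRing (AdicCompletion (maximalIdeal A) A) :=
    (Groth.Agent.Helper1.isRegularLocalRing_adicCompletion_iff A).mp hreg
  let eκ : ResidueField A ≃+* ResidueField (AdicCompletion (maximalIdeal A) A) :=
    RingEquiv.ofBijective _ (AdicCompletion.residueField_map_bijective A)
  have heκ : ∀ x : k, eκ (algebraMap k (ResidueField A) x) =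
      algebraMap k (ResidueField (AdicCompletion (maximalIdeal A) A)) x := by
    intro x
    rfl
  let f : ResidueField (AdicCompletion (maximalIdeal A) A) →ₐ[k] ResidueField A :=
    { (eκ.symm : ResidueField (AdicCompletion (maximalIdeal A) A) →+* ResidueField A) with
      commutes' := fun x => by
        change eκ.symm _ = _
        rw [← heκ, RingEquiv.symm_apply_apply] }
  haveI : Algebra.IsGeometricallyReduced k (ResidueField (AdicCompletion (maximalIdeal A) A)) :=
    Algebra.IsGeometricallyReduced.of_injective f eκ.symm.injective
  obtain ⟨d, e, he⟩ := complete_case k (AdicCompletion (maximalIdeal A) A)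
  refine ⟨d, e.trans (Groth.Agent.Helper14.AdicFSRegular.mapEquiv eκ.symm), fun x => ?_⟩
  have h1 : algebraMap A (AdicCompletion (maximalIdeal A) A) (algebraMap k A x) =
      algebraMap k (AdicCompletion (maximalIdeal A) A) x := rfl
  rw [h1, RingEquiv.trans_apply, he, ← heκ]
  ext m
  simp [Groth.Agent.Helper14.AdicFSRegular.mapEquiv, MvPowerSeries.algebraMap_apply]

/-- If the completion of `A` is `k`-isomorphic to a power series ring over the (separable)
residue field then `A` is formally smooth over `k`. -/
theorem of_b (k A : Type u) [Field k] [CommRing A] [IsLocalRing A] [IsNoetherianRing A]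
    [Algebra k A] [Algebra.IsGeometricallyReduced k (ResidueField A)]
    (n : ℕ) (e : AdicCompletion (maximalIdeal A) A ≃+* MvPowerSeries (Fin n) (ResidueField A))
    (he : ∀ x : k, e (algebraMap A (AdicCompletion (maximalIdeal A) A) (algebraMap k A x)) =
        algebraMap (ResidueField A) (MvPowerSeries (Fin n) (ResidueField A))
          (algebraMap k (ResidueField A) x)) :
    CAlgX.IsAdicFormallySmooth k A (maximalIdeal A) := by
  haveI : Algebra.FormallySmooth k (ResidueField A) :=
    Groth.Agent.Helper9.SepFS.formallySmooth_iff_isGeometricallyReduced.mpr inferInstance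
  rw [Groth.Agent.S9318.result (R := k) (maximalIdeal A) (maximalIdeal A).fg_of_isNoetherianRing,
    ← AdicCompletion.maximalIdeal_eq_map]
  let e' : AdicCompletion (maximalIdeal A) A ≃ₐ[k] MvPowerSeries (Fin n) (ResidueField A) :=
    AlgEquiv.ofRingEquiv (f := e) (fun x => by
      have h1 : algebraMap k (AdicCompletion (maximalIdeal A) A) x =
        algebraMap A (AdicCompletion (maximalIdeal A) A) (algebraMap k A x) := rfl
      rw [h1, he, MvPowerSeries.algebraMap_apply, MvPowerSeries.algebraMap_apply,
        Algebra.algebraMap_self, RingHom.id_apply])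
  exact Groth.Agent.Helper14.AdicFSTransfer.of_algEquiv_local e'
    (Groth.Agent.Helper14.PowerSeriesSmooth.isAdicFormallySmooth_mvPowerSeries k (ResidueField A) n)

end Groth.Agent.Helper14.AdicFSSepResidue
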