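import Mathlib
import Groth.Prelude.Def_CAlgX
import Groth.Agent.Lib.Helper14.AdicFSDer

/-!
# Adic formal smoothness over a field and injectivity of `Ω_k ⊗ K → Ω_A ⊗ K`
-/

set_option autoImplicit false
universe u

namespace Groth.Agent.Helper14.AdicFSKaehler

open IsLocalRing TensorProduct KaehlerDifferential

/-- If `A` is formally smooth over `k` for the `𝔪`-adic topology then
`K ⊗ (A ⊗ Ω_k) → K ⊗ Ω_A` is injective. -/
theorem injective_of_adicFS {k A : Type u} [CommRing k] [CommRing A] [IsLocalRing A]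
    [Algebra k A] (h : CAlgX.IsAdicFormallySmooth k A (maximalIdeal A)) :
    Function.Injective ((KaehlerDifferential.mapBaseChange ℤ k A).lTensor (ResidueField A)) := by
  letI : Module (A ⧸ maximalIdeal A) (ResidueField A ⊗[A] (A ⊗[k] Ω[k⁄ℤ])) :=
    (inferInstance : Module (ResidueField A) (ResidueField A ⊗[A] (A ⊗[k] Ω[k⁄ℤ])))
  haveI : IsScalarTower A (A ⧸ maximalIdeal A) (ResidueField A ⊗[A] (A ⊗[k] Ω[k⁄ℤ])) :=
    (inferInstance : IsScalarTower A (ResidueField A) (ResidueField A ⊗[A] (A ⊗[k] Ω[k⁄ℤ])))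
  let δ : k →+ ResidueField A ⊗[A] (A ⊗[k] Ω[k⁄ℤ]) :=
    { toFun := fun x => (1 : ResidueField A) ⊗ₜ[A] ((1 : A) ⊗ₜ[k] D ℤ k x)
      map_zero' := by simp
      map_add' := fun x y => by simp [tmul_add] }
  have hδdef : ∀ x, δ x = (1 : ResidueField A) ⊗ₜ[A] ((1 : A) ⊗ₜ[k] D ℤ k x) := fun x => rfl
  have hδ : ∀ x y, δ (x * y) = algebraMap k A x • δ y + algebraMap k A y • δ x := by
    intro x y
    have h1 : ∀ (x : k) (ω : Ω[k⁄ℤ]), (1 : ResidueField A) ⊗ₜ[A] ((1 : A) ⊗ₜ[k] (x • ω)) =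
        algebraMap k A x • ((1 : ResidueField A) ⊗ₜ[A] ((1 : A) ⊗ₜ[k] ω)) := by
      intro x ω
      rw [← tmul_smul, algebraMap_smul, ← tmul_smul]
    rw [hδdef, hδdef, hδdef, Derivation.leibniz, tmul_add, tmul_add, h1, h1]
  obtain ⟨D', hD'⟩ := Groth.Agent.Helper14.AdicFSDer.exists_derivation h (maximalIdeal A)
    ⟨1, by rw [pow_one]⟩ (ResidueField A ⊗[A] (A ⊗[k] Ω[k⁄ℤ])) δ hδ
  let r : ResidueField A ⊗[A] Ω[A⁄ℤ] →ₗ[ResidueField A] ResidueField A ⊗[A] (A ⊗[k] Ω[k⁄ℤ]) :=
    LinearMap.liftBaseChange (ResidueField A) D'.liftKaehlerDifferential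
  have key : ∀ v, r ((KaehlerDifferential.mapBaseChange ℤ k A).lTensor (ResidueField A) v) = v := by
    have h3 : ∀ (ω : Ω[k⁄ℤ]) (c : ResidueField A) (a : A),
        r ((KaehlerDifferential.mapBaseChange ℤ k A).lTensor (ResidueField A)
          (c ⊗ₜ[A] (a ⊗ₜ[k] ω))) = c ⊗ₜ[A] (a ⊗ₜ[k] ω) := by
      intro ω
      have hω : ω ∈ Submodule.span k (Set.range (D ℤ k)) := by
        rw [KaehlerDifferential.span_range_derivation]
        trivial
      refine Submodule.span_induction ?_ ?_ ?_ ?_ hω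
      · rintro _ ⟨x, rfl⟩ c a
        rw [LinearMap.lTensor_tmul, KaehlerDifferential.mapBaseChange_tmul,
          KaehlerDifferential.map_D, LinearMap.liftBaseChange_tmul, map_smul,
          Derivation.liftKaehlerDifferential_comp_D, hD', hδdef,
          ← tmul_smul, smul_tmul', smul_eq_mul, mul_one, smul_tmul', smul_eq_mul, mul_one]
      · intro c a
        simp
      · intro ω₁ ω₂ _ _ h₁ h₂ c a
        rw [tmul_add, tmul_add, map_add, map_add, h₁, h₂]
      · intro y ω₁ _ h₁ c a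
        rw [← smul_tmul]
        exact h₁ c (y • a)
    intro v
    induction v using TensorProduct.induction_on with
    | zero => simp
    | add v w hv hw => rw [map_add, map_add, hv, hw]
    | tmul c w =>
      induction w using TensorProduct.induction_on with
      | zero => simp
      | add v w hv hw => rw [tmul_add, map_add, map_add, hv, hw]
      | tmul a ω => exact h3 ω c a
  exact Function.LeftInverse.injective key

/-- If `K ⊗ (A ⊗ Ω_k) → K ⊗ Ω_A` is injective, derivations of `k` into `𝔪`-torsion modules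
extend to `A`. -/
theorem exists_derivation_of_injective {k A : Type u} [CommRing k] [CommRing A] [IsLocalRing A]
    [Algebra k A]
    (hφ : Function.Injective ((KaehlerDifferential.mapBaseChange ℤ k A).lTensor (ResidueField A)))
    (V : Type u) [AddCommGroup V] [Module A V] (hV : ∀ a ∈ maximalIdeal A, ∀ v : V, a • v = 0)
    (δ : k →+ V) (hδ : ∀ x y, δ (x * y) = algebraMap k A x • δ y + algebraMap k A y • δ x) :
    ∃ D' : Derivation ℤ A V, ∀ x, D' (algebraMap k A x) = δ x := by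
  have hT : Module.IsTorsionBySet A V (maximalIdeal A : Set A) := by
    intro v a
    exact hV a.1 a.2 v
  letI modK : Module (ResidueField A) V := hT.module
  haveI : IsScalarTower A (ResidueField A) V := hT.isScalarTower
  letI modk : Module k V := Module.compHom V (algebraMap k A)
  haveI : IsScalarTower k A V := ⟨fun x a v => by
    change (x • a) • v = algebraMap k A x • (a • v)
    rw [Algebra.smul_def, mul_smul]⟩
  let dδ : Derivation ℤ k V := Derivation.mk' δ.toIntLinearMap (fun x y => hδ x y)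
  have hdδ : ∀ x, dδ x = δ x := fun x => rfl
  let g₂ : A ⊗[k] Ω[k⁄ℤ] →ₗ[A] V := LinearMap.liftBaseChange A dδ.liftKaehlerDifferential
  let g₃ : ResidueField A ⊗[A] (A ⊗[k] Ω[k⁄ℤ]) →ₗ[ResidueField A] V :=
    LinearMap.liftBaseChange (ResidueField A) g₂
  let φK : ResidueField A ⊗[A] (A ⊗[k] Ω[k⁄ℤ]) →ₗ[ResidueField A] ResidueField A ⊗[A] Ω[A⁄ℤ] :=
    LinearMap.baseChange (ResidueField A) (KaehlerDifferential.mapBaseChange ℤ k A)
  have hφK : LinearMap.ker φK = ⊥ := by
    rw [LinearMap.ker_eq_bot]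
    intro v w hvw
    apply hφ
    exact hvw
  obtain ⟨r, hr⟩ := LinearMap.exists_leftInverse_of_injective φK hφK
  let T : Ω[A⁄ℤ] →ₗ[A] V :=
    ((g₃ ∘ₗ r).restrictScalars A) ∘ₗ (TensorProduct.mk A (ResidueField A) Ω[A⁄ℤ] 1)
  refine ⟨T.compDer (D ℤ A), fun x => ?_⟩
  have h1 : (1 : ResidueField A) ⊗ₜ[A] (D ℤ A (algebraMap k A x)) =
      φK ((1 : ResidueField A) ⊗ₜ[A] ((1 : A) ⊗ₜ[k] D ℤ k x)) := by
    rw [LinearMap.baseChange_tmul, KaehlerDifferential.mapBaseChange_tmul, one_smul,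
      KaehlerDifferential.map_D]
  change g₃ (r ((1 : ResidueField A) ⊗ₜ[A] (D ℤ A (algebraMap k A x)))) = δ x
  rw [h1]
  have h2 := LinearMap.congr_fun hr ((1 : ResidueField A) ⊗ₜ[A] ((1 : A) ⊗ₜ[k] D ℤ k x))
  rw [LinearMap.comp_apply, LinearMap.id_apply] at h2
  rw [h2, LinearMap.liftBaseChange_tmul, one_smul, LinearMap.liftBaseChange_tmul, one_smul,
    Derivation.liftKaehlerDifferential_comp_D, hdδ]

end Groth.Agent.Helper14.AdicFSKaehler
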