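import Mathlib

/-!
# Extending discrete valuation rings with uniformizer `p` to larger residue fields

`IsGood p ψ` says: `D` is (modulo being a domain) a discrete valuation ring with uniformizer the
natural number `p`, and `ψ : D → k` has kernel `(p)`.  The main result `IsGood.step` adjoins a
root of a monic lift of the minimal polynomial of an algebraic element of `k`
(Matsumura, Thm 29.1).
-/

set_option autoImplicit false
set_option linter.unusedSectionVars false
set_option linter.style.haveILetI false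
set_option linter.unusedSimpArgs false

universe u v

namespace Groth.Agent.Helper14.CohenZorn

open Polynomial

/-- `D` with residue map `ψ` is a "`p`-DVR". -/
structure IsGood (p : ℕ) {D : Type u} {k : Type v} [CommRing D] [Field k] (ψ : D →+* k) : Prop where
  fact : ∀ x : D, x ≠ 0 → ∃ (n : ℕ) (u v : D), u * v = 1 ∧ x = u * (p : D) ^ n
  ker : ∀ x : D, ψ x = 0 → ∃ y : D, x = (p : D) * y
  p_ne : (p : D) ≠ 0
  map_p : ψ (p : D) = 0

namespace IsGood

variable {p : ℕ} {D : Type u} {k : Type v} [CommRing D] [IsDomain D] [Field k] {ψ : D →+* k}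

section basic
variable (h : IsGood p ψ)
include h

lemma map_eq_zero_iff (x : D) : ψ x = 0 ↔ (p : D) ∣ x := by
  constructor
  · intro hx
    obtain ⟨y, rfl⟩ := h.ker x hx
    exact dvd_mul_right _ _
  · rintro ⟨y, rfl⟩
    rw [map_mul, h.map_p, zero_mul]

lemma isUnit_of_map_ne_zero {x : D} (hx : ψ x ≠ 0) : IsUnit x := by
  have hx0 : x ≠ 0 := by
    rintro rfl
    exact hx (map_zero ψ)
  obtain ⟨n, u, v, huv, rfl⟩ := h.fact x hx0
  rcases n with _ | n
  · rw [pow_zero, mul_one]
    exact IsUnit.of_mul_eq_one _ huv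
  · exfalso
    apply hx
    rw [map_mul, map_pow, h.map_p, zero_pow (Nat.succ_ne_zero n), mul_zero]

lemma isUnit_iff {x : D} : IsUnit x ↔ ψ x ≠ 0 :=
  ⟨fun hu => (hu.map ψ).ne_zero, h.isUnit_of_map_ne_zero⟩

lemma isLocalRing : IsLocalRing D := by
  apply IsLocalRing.of_nonunits_add
  intro a b ha hb
  simp only [mem_nonunits_iff, h.isUnit_iff, not_not] at *
  rw [map_add, ha, hb, add_zero]

lemma ker_eq_span : RingHom.ker ψ = Ideal.span {(p : D)} := by
  ext x
  rw [RingHom.mem_ker, h.map_eq_zero_iff, Ideal.mem_span_singleton]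

lemma maximalIdeal_eq [IsLocalRing D] : IsLocalRing.maximalIdeal D = Ideal.span {(p : D)} := by
  ext x
  rw [IsLocalRing.mem_maximalIdeal, mem_nonunits_iff, h.isUnit_iff, not_not, ← RingHom.mem_ker,
    h.ker_eq_span]

lemma ker_isMaximal : (RingHom.ker ψ).IsMaximal := by
  haveI := h.isLocalRing
  rw [h.ker_eq_span, ← h.maximalIdeal_eq]
  exact IsLocalRing.maximalIdeal.isMaximal D

lemma prime_p : Prime (p : D) := by
  rw [← Ideal.span_singleton_prime h.p_ne, ← h.ker_eq_span]
  exact RingHom.ker_isPrime ψ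

lemma isDVR : IsDiscreteValuationRing D := by
  apply IsDiscreteValuationRing.ofHasUnitMulPowIrreducibleFactorization
  refine ⟨(p : D), h.prime_p.irreducible, fun {x} hx => ?_⟩
  obtain ⟨n, u, v, huv, rfl⟩ := h.fact x hx
  refine ⟨n, ⟨Units.mkOfMulEqOne u v huv, ?_⟩⟩
  simp [mul_comm]

end basic

omit [IsDomain D] in
/-- transport along a ring isomorphism -/
lemma of_equiv {D' : Type*} [CommRing D'] (h : IsGood p ψ) (e : D ≃+* D') :
    IsGood p (ψ.comp (e.symm : D' →+* D)) where
  fact x hx := by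
    have hx' : e.symm x ≠ 0 := fun h0 => hx (by simpa using congrArg e h0)
    obtain ⟨n, u, v, huv, hxe⟩ := h.fact _ hx'
    refine ⟨n, e u, e v, by rw [← map_mul, huv, map_one], ?_⟩
    have := congrArg e hxe
    simpa using this
  ker x hx := by
    obtain ⟨y, hy⟩ := h.ker (e.symm x) hx
    refine ⟨e y, ?_⟩
    have := congrArg e hy
    simpa using this
  p_ne := fun h0 => h.p_ne (by simpa using congrArg e.symm h0)
  map_p := by
    simp only [RingHom.coe_comp, RingHom.coe_coe, Function.comp_apply, map_natCast]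
    rw [← map_natCast ψ, h.map_p]

end IsGood

section step

variable {p : ℕ} {D : Type u} {k : Type v} [CommRing D] [IsDomain D] [Field k] {ψ : D →+* k}

/-- Adjoining a root of a monic lift of the minimal polynomial of `a`. -/
theorem IsGood.step (h : IsGood p ψ) (a : k) (g : D[X]) (hg0 : g.map ψ ≠ 0) (hga : g.eval₂ ψ a = 0) :
    ∃ f : D[X], f.Monic ∧ f.degree ≠ 0 ∧ ∃ (_ : IsDomain (AdjoinRoot f)) (ψ' : AdjoinRoot f →+* k),
      (∀ x, ψ' (AdjoinRoot.of f x) = ψ x) ∧ ψ' (AdjoinRoot.root f) = a ∧ IsGood p ψ' := by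
  classical
  haveI := h.isLocalRing
  haveI := h.isDVR
  have hmax : (RingHom.ker ψ).IsMaximal := h.ker_isMaximal
  letI : Field (D ⧸ RingHom.ker ψ) := Ideal.Quotient.field _
  letI : Algebra (D ⧸ RingHom.ker ψ) k := (RingHom.kerLift ψ).toAlgebra
  let π : D →+* (D ⧸ RingHom.ker ψ) := Ideal.Quotient.mk _
  have hcomp : (algebraMap (D ⧸ RingHom.ker ψ) k).comp π = ψ := by
    ext x
    rfl
  have hmap : ∀ q : D[X], (q.map π).map (algebraMap (D ⧸ RingHom.ker ψ) k) = q.map ψ := by
    intro q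
    rw [Polynomial.map_map, hcomp]
  have haeval : ∀ q : D[X], aeval a (q.map π) = q.eval₂ ψ a := by
    intro q
    rw [aeval_def, eval₂_map, hcomp]
  have hgπ : g.map π ≠ 0 := fun h0 => hg0 (by rw [← hmap, h0, Polynomial.map_zero])
  have hint : IsIntegral (D ⧸ RingHom.ker ψ) a := by
    apply IsAlgebraic.isIntegral
    exact ⟨g.map π, hgπ, by rw [haeval]; exact hga⟩
  have hμmonic := minpoly.monic hint
  have hμirr := minpoly.irreducible hint
  obtain ⟨f, hfμ, hfdeg, hfmonic⟩ := lifts_and_degree_eq_and_monic (f := π)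
    (p := minpoly (D ⧸ RingHom.ker ψ) a)
    (by rw [mem_lifts]; exact map_surjective π Ideal.Quotient.mk_surjective _) hμmonic
  have hfirr : Irreducible f :=
    hfmonic.irreducible_of_irreducible_map π f (by rw [hfμ]; exact hμirr)
  have hfprime : Prime f := UniqueFactorizationMonoid.irreducible_iff_prime.mp hfirr
  haveI hdom : IsDomain (AdjoinRoot f) := AdjoinRoot.isDomain_of_prime hfprime
  have hfdeg0 : f.degree ≠ 0 := by
    rw [hfdeg]
    exact (minpoly.degree_pos hint).ne'
  have hfa : f.eval₂ ψ a = 0 := by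
    rw [← haeval, hfμ, minpoly.aeval]
  refine ⟨f, hfmonic, hfdeg0, hdom, AdjoinRoot.lift ψ a hfa, fun x => AdjoinRoot.lift_of hfa,
    AdjoinRoot.lift_root hfa, ?_⟩
  set ψ' : AdjoinRoot f →+* k := AdjoinRoot.lift ψ a hfa with hψ'
  have hp' : ψ' (p : AdjoinRoot f) = 0 := by
    rw [map_natCast, ← map_natCast ψ, h.map_p]
  have hker' : ∀ y : AdjoinRoot f, ψ' y = 0 → ∃ z, y = (p : AdjoinRoot f) * z := by
    intro y hy
    obtain ⟨q, rfl⟩ := AdjoinRoot.mk_surjective y
    have hqr : AdjoinRoot.mk f q = AdjoinRoot.mk f (q %ₘ f) := by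
      rw [AdjoinRoot.mk_eq_mk, modByMonic_eq_sub_mul_div q f]
      simp
    rw [hqr] at hy ⊢
    rw [hψ', AdjoinRoot.lift_mk] at hy
    have hrμ : minpoly (D ⧸ RingHom.ker ψ) a ∣ (q %ₘ f).map π :=
      minpoly.dvd _ a (by rw [haeval]; exact hy)
    have hr0 : (q %ₘ f).map π = 0 := by
      by_contra hne
      have h1 := degree_le_of_dvd hrμ hne
      have h2 : ((q %ₘ f).map π).degree ≤ (q %ₘ f).degree := degree_map_le
      have h3 : (q %ₘ f).degree < f.degree := degree_modByMonic_lt q hfmonic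
      rw [hfdeg] at h3
      exact absurd (lt_of_le_of_lt (h1.trans h2) h3) (lt_irrefl _)
    have hdvd : C (p : D) ∣ q %ₘ f := by
      rw [C_dvd_iff_dvd_coeff]
      intro i
      have h4 : π ((q %ₘ f).coeff i) = 0 := by rw [← coeff_map, hr0, coeff_zero]
      rw [Ideal.Quotient.eq_zero_iff_mem, RingHom.mem_ker] at h4
      exact (h.map_eq_zero_iff _).mp h4
    obtain ⟨s, hs⟩ := hdvd
    refine ⟨AdjoinRoot.mk f s, ?_⟩
    rw [hs, map_mul, AdjoinRoot.mk_C, map_natCast]
  have hint' : Algebra.IsIntegral D (AdjoinRoot f) := by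
    haveI : Module.Finite D (AdjoinRoot f) := hfmonic.finite_adjoinRoot
    infer_instance
  have hcomap : (RingHom.ker ψ').comap (algebraMap D (AdjoinRoot f)) = RingHom.ker ψ := by
    ext x
    rw [Ideal.mem_comap, RingHom.mem_ker, RingHom.mem_ker, AdjoinRoot.algebraMap_eq, hψ',
      AdjoinRoot.lift_of]
  have hkmax : (RingHom.ker ψ').IsMaximal := by
    haveI : (RingHom.ker ψ').IsPrime := RingHom.ker_isPrime ψ'
    apply Ideal.isMaximal_of_isIntegral_of_isMaximal_comap (R := D)
    rw [hcomap]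
    exact hmax
  have hunit : ∀ y₀ : AdjoinRoot f, ψ' y₀ ≠ 0 → IsUnit y₀ := by
    intro y₀ hy₀
    by_contra hnu
    obtain ⟨M, hM, hyM⟩ := exists_max_ideal_of_mem_nonunits hnu
    have hcm : (M.comap (algebraMap D (AdjoinRoot f))).IsMaximal :=
      Ideal.isMaximal_comap_of_isIntegral_of_isMaximal M
    have hpM : (p : AdjoinRoot f) ∈ M := by
      have h5 : (p : D) ∈ M.comap (algebraMap D (AdjoinRoot f)) := by
        rw [IsLocalRing.eq_maximalIdeal hcm, h.maximalIdeal_eq]
        exact Ideal.subset_span rfl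
      simpa using h5
    have hle : RingHom.ker ψ' ≤ M := by
      intro z hz
      obtain ⟨w, rfl⟩ := hker' z hz
      exact M.mul_mem_right _ hpM
    have h6 := hkmax.eq_of_le hM.ne_top hle
    apply hy₀
    rw [← RingHom.mem_ker, h6]
    exact hyM
  have hpnu : ¬ IsUnit (p : AdjoinRoot f) := fun hu => (hu.map ψ').ne_zero hp'
  refine ⟨?_, hker', ?_, hp'⟩
  · intro y hy
    have hfin : FiniteMultiplicity (p : AdjoinRoot f) y := FiniteMultiplicity.of_not_isUnit hpnu hy
    obtain ⟨y₀, hy₀, hndvd⟩ := hfin.exists_eq_pow_mul_and_not_dvd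
    have hψy₀ : ψ' y₀ ≠ 0 := fun h0 => hndvd (by
      obtain ⟨z, hz⟩ := hker' y₀ h0
      exact ⟨z, hz⟩)
    obtain ⟨u, rfl⟩ := hunit y₀ hψy₀
    exact ⟨_, u, ↑u⁻¹, by simp, by rw [hy₀]; ring⟩
  · have hinj := AdjoinRoot.of.injective_of_degree_ne_zero hfdeg0
    intro h0
    apply h.p_ne
    apply hinj
    rw [map_natCast, map_zero]
    exact h0

end step

section zorn

variable (p : ℕ) (L : Type u) [Field L] (k : Type v) [Field k]

/-- A `p`-DVR inside `L` together with its residue map to `k`. -/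
structure Sub where
  B : Subalgebra ℤ L
  φ : B →ₐ[ℤ] k
  good : IsGood p (φ : B →+* k)

variable {p L k}

namespace Sub

instance : Preorder (Sub p L k) where
  le G₁ G₂ := ∃ h : G₁.B ≤ G₂.B, ∀ x, G₂.φ (Subalgebra.inclusion h x) = G₁.φ x
  le_refl G := ⟨le_rfl, by simp⟩
  le_trans G₁ G₂ G₃ := by
    rintro ⟨h₁₂, h₁₂'⟩ ⟨h₂₃, h₂₃'⟩
    refine ⟨h₁₂.trans h₂₃, fun _ ↦ ?_⟩
    rw [← Subalgebra.inclusion_inclusion h₁₂ h₂₃, h₂₃', h₁₂']

/-- A `p`-DVR embedded in `L` gives an element of `Sub`. -/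
noncomputable def ofInj {D : Type*} [CommRing D] (j : D →+* L) (hj : Function.Injective j)
    (ψ : D →+* k) (h : IsGood p ψ) : Sub p L k where
  B := j.toIntAlgHom.range
  φ := ψ.toIntAlgHom.comp (AlgEquiv.ofInjective j.toIntAlgHom hj).symm.toAlgHom
  good := by
    have := h.of_equiv (AlgEquiv.ofInjective j.toIntAlgHom hj).toRingEquiv
    exact this

lemma mem_ofInj {D : Type*} [CommRing D] (j : D →+* L) (hj : Function.Injective j)
    (ψ : D →+* k) (h : IsGood p ψ) (y : L) : y ∈ (ofInj j hj ψ h).B ↔ ∃ x, j x = y := by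
  change y ∈ j.toIntAlgHom.range ↔ _
  rw [AlgHom.mem_range]
  rfl

lemma ofInj_φ {D : Type*} [CommRing D] (j : D →+* L) (hj : Function.Injective j)
    (ψ : D →+* k) (h : IsGood p ψ) (x : D) (hx : j x ∈ (ofInj j hj ψ h).B) :
    (ofInj j hj ψ h).φ ⟨j x, hx⟩ = ψ x := by
  change ψ ((AlgEquiv.ofInjective j.toIntAlgHom hj).symm ⟨j x, hx⟩) = ψ x
  congr 1
  rw [AlgEquiv.symm_apply_eq]
  rfl

section Chain

variable (c : Set (Sub p L k)) (hc : IsChain (· ≤ ·) c) (hne : c.Nonempty)

/-- the union of a nonempty chain -/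
noncomputable def union : Sub p L k :=
  let t (i : c) := i.val.B
  have dir : Directed (· ≤ ·) t := hc.directedOn.directed_val.mono_comp _ fun _ _ h ↦ h.1
  haveI : Nonempty c := hne.to_subtype
  have hf : ∀ (i j : c) (h : t i ≤ t j), i.val.φ = (j.val.φ).comp (Subalgebra.inclusion h) :=
    fun i j h ↦ AlgHom.ext fun x ↦ by
      rcases eq_or_ne i j with rfl | hij
      · simp
      · rcases hc i.2 j.2 (fun h0 => hij (Subtype.ext h0)) with hij' | hji
        · exact (hij'.2 x).symm
        · rw [AlgHom.comp_apply, ← hji.2 (Subalgebra.inclusion h x), Subalgebra.inclusion_inclusion,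
            Subalgebra.inclusion_self, AlgHom.id_apply x]
  { B := iSup t
    φ := Subalgebra.iSupLift t dir (fun i => i.val.φ) hf (iSup t) le_rfl
    good := by
      obtain ⟨i₀⟩ := ‹Nonempty c›
      have hmem : ∀ x : (iSup t : Subalgebra ℤ L), ∃ i : c, (x : L) ∈ t i := by
        intro x
        have hx : (x : L) ∈ ((iSup t : Subalgebra ℤ L) : Set L) := x.2
        rw [Subalgebra.coe_iSup_of_directed dir] at hx
        exact Set.mem_iUnion.mp hx
      refine ⟨?_, ?_, ?_, ?_⟩
      · intro x hx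
        obtain ⟨i, hi⟩ := hmem x
        have hx' : (⟨x, hi⟩ : t i) ≠ 0 := fun h0 => hx (by
          have h00 := congrArg Subtype.val h0
          exact Subtype.ext (by simpa using h00))
        obtain ⟨n, u, v, huv, hxe⟩ := i.val.good.fact _ hx'
        refine ⟨n, Subalgebra.inclusion (le_iSup t i) u, Subalgebra.inclusion (le_iSup t i) v, ?_, ?_⟩
        · rw [← map_mul, huv, map_one]
        · apply Subtype.ext
          have := congrArg Subtype.val hxe
          simpa using this
      · intro x hx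
        obtain ⟨i, hi⟩ := hmem x
        have h1 : i.val.φ ⟨x, hi⟩ = 0 := by
          have := Subalgebra.iSupLift_of_mem (K := t) (dir := dir) (f := fun i => i.val.φ)
            (hf := hf) (T := iSup t) (hT := le_rfl) x hi
          rw [← this]
          exact hx
        obtain ⟨y, hy⟩ := i.val.good.ker _ h1
        refine ⟨Subalgebra.inclusion (le_iSup t i) y, ?_⟩
        apply Subtype.ext
        have := congrArg Subtype.val hy
        simpa using this
      · intro h0
        apply i₀.val.good.p_ne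
        apply Subtype.ext
        have := congrArg Subtype.val h0
        simpa using this
      · have h1 := i₀.val.good.map_p
        simp only [AlgHom.coe_toRingHom, map_natCast, RingHom.coe_coe] at h1 ⊢
        exact h1 }

theorem le_union ⦃σ : Sub p L k⦄ (hσ : σ ∈ c) : σ ≤ union c hc hne :=
  let t (i : c) := i.val.B
  haveI : Nonempty c := hne.to_subtype
  ⟨le_iSup t ⟨σ, hσ⟩, fun x ↦ by
    dsimp only [union]
    exact Subalgebra.iSupLift_inclusion (K := t) (i := ⟨σ, hσ⟩) x (le_iSup t ⟨σ, hσ⟩)⟩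

end Chain

/-- The extension step inside an algebraically closed field. -/
theorem exists_extension [IsAlgClosed L] (G : Sub p L k) (a : k) (g : G.B[X])
    (hg0 : g.map (G.φ : G.B →+* k) ≠ 0) (hga : g.eval₂ (G.φ : G.B →+* k) a = 0) :
    ∃ G' : Sub p L k, G ≤ G' ∧ a ∈ Set.range G'.φ := by
  obtain ⟨f, hfmonic, hfdeg, hdom, ψ', hψ'of, hψ'root, hgood'⟩ := G.good.step a g hg0 hga
  obtain ⟨α, hα⟩ := IsAlgClosed.exists_aeval_eq_zero L f hfdeg
  let j : AdjoinRoot f →ₐ[G.B] L := AdjoinRoot.liftAlgHom f (Algebra.ofId G.B L) α hα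
  have hint' : Algebra.IsIntegral G.B (AdjoinRoot f) := by
    haveI : Module.Finite G.B (AdjoinRoot f) := hfmonic.finite_adjoinRoot
    infer_instance
  have hj : Function.Injective j := by
    rw [injective_iff_map_eq_zero]
    intro x hx
    have hker : RingHom.ker (j : AdjoinRoot f →+* L) = ⊥ := by
      apply Ideal.eq_bot_of_comap_eq_bot (R := G.B)
      rw [eq_bot_iff]
      intro b hb
      rw [Ideal.mem_comap, RingHom.mem_ker] at hb
      have h1 : (j : AdjoinRoot f →+* L) (algebraMap G.B (AdjoinRoot f) b) = (b : L) := by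
        change j (algebraMap G.B (AdjoinRoot f) b) = _
        rw [j.commutes]
        rfl
      rw [h1] at hb
      exact Subtype.ext hb
    have : x ∈ RingHom.ker (j : AdjoinRoot f →+* L) := hx
    rwa [hker] at this
  refine ⟨ofInj (j : AdjoinRoot f →+* L) hj ψ' hgood', ?_, ?_⟩
  · have hmemB : ∀ x : G.B, (x : L) ∈ (ofInj (j : AdjoinRoot f →+* L) hj ψ' hgood').B := by
      intro x
      rw [mem_ofInj]
      refine ⟨AdjoinRoot.of f x, ?_⟩
      change j (algebraMap G.B (AdjoinRoot f) x) = _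
      rw [j.commutes]
      rfl
    refine ⟨fun x hx => hmemB ⟨x, hx⟩, fun x => ?_⟩
    have h2 : (Subalgebra.inclusion (fun x hx => hmemB ⟨x, hx⟩) x :
        (ofInj (j : AdjoinRoot f →+* L) hj ψ' hgood').B) =
        ⟨(j : AdjoinRoot f →+* L) (AdjoinRoot.of f x), by
          rw [mem_ofInj]; exact ⟨_, rfl⟩⟩ := by
      apply Subtype.ext
      change (x : L) = j (algebraMap G.B (AdjoinRoot f) x)
      rw [j.commutes]
      rfl
    rw [h2, ofInj_φ, hψ'of]
    rfl
  · refine ⟨⟨(j : AdjoinRoot f →+* L) (AdjoinRoot.root f), by rw [mem_ofInj]; exact ⟨_, rfl⟩⟩, ?_⟩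
    rw [ofInj_φ, hψ'root]

/-- Zorn: a maximal extension has surjective residue map, provided `k` is algebraic over the
residue field of the starting ring. -/
theorem exists_surjective [IsAlgClosed L] (G₀ : Sub p L k)
    (halg : ∀ a : k, ∃ g : G₀.B[X], g.map (G₀.φ : G₀.B →+* k) ≠ 0 ∧
      g.eval₂ (G₀.φ : G₀.B →+* k) a = 0) :
    ∃ G : Sub p L k, G₀ ≤ G ∧ Function.Surjective G.φ := by
  obtain ⟨m, hm0, hmax⟩ := zorn_le_nonempty₀ (Set.Ici G₀) (fun c hcs hc y hy =>
    ⟨union c hc ⟨y, hy⟩, le_trans (hcs hy) (le_union c hc ⟨y, hy⟩ hy),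
      fun z hz => le_union c hc ⟨y, hy⟩ hz⟩) G₀ (Set.mem_Ici.mpr le_rfl)
  refine ⟨m, hm0, fun a => ?_⟩
  obtain ⟨g, hg0, hga⟩ := halg a
  obtain ⟨h0, h0'⟩ := hm0
  let ι : G₀.B →+* m.B := (Subalgebra.inclusion h0 : G₀.B →ₐ[ℤ] m.B)
  have hcomp : (m.φ : m.B →+* k).comp ι = (G₀.φ : G₀.B →+* k) := by
    ext x
    exact h0' x
  obtain ⟨G', hG', x', hx'⟩ := exists_extension m a (g.map ι)
    (by rw [Polynomial.map_map, hcomp]; exact hg0)
    (by rw [eval₂_map, hcomp]; exact hga)
  have hle : G' ≤ m := hmax.2 (Set.mem_Ici.mpr (le_trans ⟨h0, h0'⟩ hG')) hG'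
  obtain ⟨h1, h1'⟩ := hle
  exact ⟨Subalgebra.inclusion h1 x', by rw [h1', hx']⟩

end Sub

end zorn

end Groth.Agent.Helper14.CohenZorn
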