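import Mathlib
import Groth.Prelude.Def_Found
import Groth.Agent.Lib.Helper14.CohenZorn
import Groth.Agent.Lib.Helper1.CompletionDim

/-!
# Existence of Cohen rings with prescribed residue field
-/

set_option autoImplicit false
set_option linter.unusedSectionVars false
set_option linter.style.haveILetI false
set_option linter.unusedSimpArgs false

universe u

namespace Groth.Agent.Helper14.CohenExist

open Polynomial Groth.Agent.Helper14.CohenZorn

/-- The localization of `ℤ[X_s]` (`s` a transcendence basis of `k/𝔽_p`) at `(p)`. -/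
theorem exists_base (p : ℕ) [hp : Fact p.Prime] (k : Type u) [Field k] [CharP k p] :
    ∃ (D : Type u) (_ : CommRing D) (_ : IsDomain D) (ψ : D →+* k), IsGood p ψ ∧
      ∀ a : k, ∃ g : D[X], g.map ψ ≠ 0 ∧ g.eval₂ ψ a = 0 := by
  classical
  letI : Algebra (ZMod p) k := ZMod.algebra k p
  obtain ⟨s, hs⟩ := exists_isTranscendenceBasis (ZMod p) k
  let ev : MvPolynomial s ℤ →+* k :=
    (MvPolynomial.aeval (fun t : s => (t : k)) : MvPolynomial s ℤ →ₐ[ℤ] k)
  let evF : MvPolynomial s (ZMod p) →ₐ[ZMod p] k := MvPolynomial.aeval (fun t : s => (t : k))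
  have hinj : Function.Injective evF := algebraicIndependent_iff_injective_aeval.mp hs.1
  have hfac : ev = (evF : MvPolynomial s (ZMod p) →+* k).comp
      (MvPolynomial.map (Int.castRingHom (ZMod p))) := by
    apply MvPolynomial.ringHom_ext
    · intro n
      simp [ev, evF]
    · intro i
      simp [ev, evF]
  have hker : RingHom.ker ev = Ideal.span {(p : MvPolynomial s ℤ)} := by
    have hinj' : Function.Injective (evF : MvPolynomial s (ZMod p) →+* k) := hinj
    rw [hfac, RingHom.ker_comp_of_injective _ hinj', MvPolynomial.ker_map, ZMod.ker_intCastRingHom,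
      Ideal.map_span, Set.image_singleton]
    simp
  haveI hprime : (RingHom.ker ev).IsPrime := RingHom.ker_isPrime ev
  have hevp : ev (p : MvPolynomial s ℤ) = 0 := by
    rw [map_natCast]
    exact CharP.cast_eq_zero k p
  have hp0 : (p : MvPolynomial s ℤ) ≠ 0 := Nat.cast_ne_zero.mpr hp.out.ne_zero
  have hg : ∀ y : (RingHom.ker ev).primeCompl, IsUnit (ev y) := fun y =>
    isUnit_iff_ne_zero.mpr fun h0 => y.2 h0
  let ev₁ : Localization.AtPrime (RingHom.ker ev) →+* k :=
    IsLocalization.lift (M := (RingHom.ker ev).primeCompl) hg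
  have hle : (RingHom.ker ev).primeCompl ≤ nonZeroDivisors (MvPolynomial s ℤ) :=
    Ideal.primeCompl_le_nonZeroDivisors _
  haveI hdom : IsDomain (Localization.AtPrime (RingHom.ker ev)) :=
    IsLocalization.isDomain_localization hle
  have hmemP : ∀ G : MvPolynomial s ℤ, G ∈ RingHom.ker ev ↔ (p : MvPolynomial s ℤ) ∣ G := by
    intro G
    rw [hker, Ideal.mem_span_singleton]
  have hcast : (algebraMap (MvPolynomial s ℤ) (Localization.AtPrime (RingHom.ker ev)))
      (p : MvPolynomial s ℤ) = (p : Localization.AtPrime (RingHom.ker ev)) := map_natCast _ p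
  have hgood : IsGood p ev₁ := by
    refine ⟨?_, ?_, ?_, ?_⟩
    · intro x hx
      obtain ⟨G, H, rfl⟩ := IsLocalization.exists_mk'_eq (RingHom.ker ev).primeCompl x
      have hG : G ≠ 0 := by
        rintro rfl
        exact hx (IsLocalization.mk'_zero _)
      have hpnu : ¬ IsUnit (p : MvPolynomial s ℤ) := fun hu => (hu.map ev).ne_zero hevp
      have hfin : FiniteMultiplicity (p : MvPolynomial s ℤ) G :=
        FiniteMultiplicity.of_not_isUnit hpnu hG
      obtain ⟨G', hG', hnd⟩ := hfin.exists_eq_pow_mul_and_not_dvd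
      have hG'P : G' ∈ (RingHom.ker ev).primeCompl := fun hmem => hnd ((hmemP G').mp hmem)
      refine ⟨multiplicity (p : MvPolynomial s ℤ) G, IsLocalization.mk' _ G' H,
        IsLocalization.mk' _ (H : MvPolynomial s ℤ) ⟨G', hG'P⟩,
        IsLocalization.mk'_mul_mk'_eq_one' _ _ hG'P, ?_⟩
      rw [← hcast, ← map_pow, mul_comm, IsLocalization.mul_mk'_eq_mk'_of_mul, ← hG']
    · intro x hx
      obtain ⟨G, H, rfl⟩ := IsLocalization.exists_mk'_eq (RingHom.ker ev).primeCompl x
      have h1 : ev G = ev H * 0 := (IsLocalization.lift_mk'_spec _ _ _ _).mp hx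
      rw [mul_zero, ← RingHom.mem_ker, hmemP] at h1
      obtain ⟨G'', rfl⟩ := h1
      refine ⟨IsLocalization.mk' _ G'' H, ?_⟩
      rw [← hcast, IsLocalization.mul_mk'_eq_mk'_of_mul]
    · rw [← hcast]
      intro h0
      apply hp0
      apply IsLocalization.injective (Localization.AtPrime (RingHom.ker ev)) hle
      rw [h0, map_zero]
    · rw [map_natCast]
      exact CharP.cast_eq_zero k p
  refine ⟨Localization.AtPrime (RingHom.ker ev), inferInstance, hdom, ev₁, hgood, ?_⟩
  -- algebraicity
  have hev₁ : ∀ G : MvPolynomial s ℤ, ev₁ (algebraMap _ _ G) = ev G := fun G =>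
    IsLocalization.lift_eq _ _
  have hrange : ∀ c ∈ Algebra.adjoin (ZMod p) (Set.range ((↑) : s → k)), c ∈ Set.range ev₁ := by
    intro c hc
    induction hc using Algebra.adjoin_induction with
    | mem x hx =>
      obtain ⟨t, rfl⟩ := hx
      exact ⟨algebraMap _ _ (MvPolynomial.X t), by rw [hev₁]; simp [ev]⟩
    | algebraMap z =>
      refine ⟨((ZMod.val z : ℕ) : Localization.AtPrime (RingHom.ker ev)), ?_⟩
      rw [map_natCast]
      conv_rhs => rw [← ZMod.natCast_zmod_val z]
      rw [map_natCast]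
    | add x y _ _ hx hy =>
      obtain ⟨x', rfl⟩ := hx
      obtain ⟨y', rfl⟩ := hy
      exact ⟨x' + y', map_add _ _ _⟩
    | mul x y _ _ hx hy =>
      obtain ⟨x', rfl⟩ := hx
      obtain ⟨y', rfl⟩ := hy
      exact ⟨x' * y', map_mul _ _ _⟩
  intro a
  obtain ⟨q, hq0, hqa⟩ := hs.isAlgebraic.isAlgebraic a
  have hq' : q.map (algebraMap (Algebra.adjoin (ZMod p) (Set.range ((↑) : s → k))) k) ∈
      lifts ev₁ := by
    rw [lifts_iff_coeff_lifts]
    intro n
    rw [coeff_map]
    exact hrange _ (q.coeff n).2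
  obtain ⟨g, hg'⟩ := (mem_lifts _).mp hq'
  refine ⟨g, ?_, ?_⟩
  · rw [hg']
    exact (Polynomial.map_ne_zero_iff (FaithfulSMul.algebraMap_injective _ _)).mpr hq0
  · rw [eval₂_eq_eval_map, hg', ← eval₂_eq_eval_map, ← aeval_def]
    exact hqa

/-- Every field of characteristic `p` is the residue field of a "`p`-DVR". -/
theorem exists_good_surjective (p : ℕ) [hp : Fact p.Prime] (k : Type u) [Field k] [CharP k p] :
    ∃ (D : Type u) (_ : CommRing D) (_ : IsDomain D) (ψ : D →+* k), IsGood p ψ ∧
      Function.Surjective ψ := by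
  obtain ⟨D₀, _, _, ψ₀, h₀, halg⟩ := exists_base p k
  let L := AlgebraicClosure (FractionRing D₀)
  let j : D₀ →+* L := (algebraMap (FractionRing D₀) L).comp (algebraMap D₀ (FractionRing D₀))
  have hj : Function.Injective j :=
    (algebraMap (FractionRing D₀) L).injective.comp (IsFractionRing.injective D₀ _)
  obtain ⟨G, -, hsurj⟩ := Sub.exists_surjective (Sub.ofInj j hj ψ₀ h₀) (fun a => by
    obtain ⟨g, hg0, hga⟩ := halg a
    let e : D₀ →+* (Sub.ofInj j hj ψ₀ h₀).B :=
      { toFun := fun x => ⟨j x, (Sub.mem_ofInj j hj ψ₀ h₀ _).mpr ⟨x, rfl⟩⟩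
        map_one' := Subtype.ext (map_one j)
        map_mul' := fun x y => Subtype.ext (map_mul j x y)
        map_zero' := Subtype.ext (map_zero j)
        map_add' := fun x y => Subtype.ext (map_add j x y) }
    have hcomp : ((Sub.ofInj j hj ψ₀ h₀).φ : (Sub.ofInj j hj ψ₀ h₀).B →+* k).comp e = ψ₀ := by
      ext x
      exact Sub.ofInj_φ j hj ψ₀ h₀ x _
    refine ⟨g.map e, ?_, ?_⟩
    · rw [Polynomial.map_map, hcomp]
      exact hg0
    · rw [eval₂_map, hcomp]
      exact hga)
  exact ⟨G.B, inferInstance, inferInstance, G.φ, G.good, hsurj⟩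

/-- Existence of Cohen rings with prescribed residue field (with the uniformizer recorded). -/
theorem exists_cohenRing' (p : ℕ) [hp : Fact p.Prime] (k : Type u) [Field k] [CharP k p] :
    ∃ (Λ : Type u) (_ : CommRing Λ) (_ : IsLocalRing Λ), CAlg.IsCohenRing Λ ∧
      IsLocalRing.maximalIdeal Λ = Ideal.span {(p : Λ)} ∧
      Nonempty (IsLocalRing.ResidueField Λ ≃+* k) := by
  obtain ⟨D, _, _, ψ, hgood, hsurj⟩ := exists_good_surjective p k
  haveI := hgood.isLocalRing
  haveI := hgood.isDVR
  obtain ⟨hdom, hdvr⟩ := (Groth.Agent.Helper1.isDiscreteValuationRing_adicCompletion_iff D).mp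
    ⟨inferInstance, inferInstance⟩
  have hmax : IsLocalRing.maximalIdeal (AdicCompletion (IsLocalRing.maximalIdeal D) D) =
      Ideal.span {(p : AdicCompletion (IsLocalRing.maximalIdeal D) D)} := by
    rw [AdicCompletion.maximalIdeal_eq_map, hgood.maximalIdeal_eq, Ideal.map_span,
      Set.image_singleton, map_natCast]
  refine ⟨AdicCompletion (IsLocalRing.maximalIdeal D) D, inferInstance, inferInstance,
    ⟨hdom, hdvr, inferInstance, p, hp.out, hmax⟩, hmax, ⟨?_⟩⟩
  have e1 : IsLocalRing.ResidueField D ≃+*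
      IsLocalRing.ResidueField (AdicCompletion (IsLocalRing.maximalIdeal D) D) :=
    RingEquiv.ofBijective _ (AdicCompletion.residueField_map_bijective D)
  have hk : RingHom.ker ψ = IsLocalRing.maximalIdeal D := by
    rw [hgood.ker_eq_span, hgood.maximalIdeal_eq]
  have e2 : IsLocalRing.ResidueField D ≃+* k :=
    (Ideal.quotEquivOfEq hk.symm).trans (RingHom.quotientKerEquivOfSurjective hsurj)
  exact e1.symm.trans e2

/-- Existence of Cohen rings with prescribed residue field. -/
theorem exists_cohenRing (p : ℕ) [hp : Fact p.Prime] (k : Type u) [Field k] [CharP k p] :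
    ∃ (Λ : Type u) (_ : CommRing Λ) (_ : IsLocalRing Λ), CAlg.IsCohenRing Λ ∧
      Nonempty (IsLocalRing.ResidueField Λ ≃+* k) := by
  obtain ⟨Λ, i1, i2, h1, -, h3⟩ := exists_cohenRing' p k
  exact ⟨Λ, i1, i2, h1, h3⟩

end Groth.Agent.Helper14.CohenExist
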