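import Mathlib
import Groth.Prelude.Def_EGA41
import Groth.Agent.Lib.Helper9.AdicLift
import Groth.Agent.Lib.Helper14.PerfectSmooth
import Groth.Agent.S9455

/-!
# Lifting ring homomorphisms out of Cohen rings into complete rings
-/

set_option autoImplicit false
set_option linter.unusedSectionVars false
set_option linter.style.haveILetI false
set_option linter.unusedSimpArgs false
set_option linter.overlappingInstances false

universe u

namespace Groth.Agent.Helper14.CohenLift

open IsLocalRing

/-- Formal smoothness over `ℤ` (i.e. for plain ring homomorphisms) for the `𝔟`-adic topology. -/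
def IsRingFS {W : Type u} [CommRing W] (𝔟 : Ideal W) : Prop :=
  ∀ (C : Type u) [CommRing C] (J : Ideal C), IsNilpotent J → ∀ u : W →+* C ⧸ J,
    (∃ k : ℕ, ∀ x ∈ 𝔟 ^ k, u x = 0) → ∃ v : W →+* C, (Ideal.Quotient.mk J).comp v = u

theorem isRingFS_of_formallySmooth_int {W : Type u} [CommRing W] [Algebra.FormallySmooth ℤ W]
    (𝔟 : Ideal W) : IsRingFS 𝔟 := by
  intro C _ J hJ u _
  obtain ⟨f, hf⟩ := Algebra.FormallySmooth.exists_lift J hJ u.toIntAlgHom
  refine ⟨f, ?_⟩
  ext x
  exact DFunLike.congr_fun hf x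

/-- A field of characteristic zero is formally smooth over `ℤ`. -/
theorem formallySmooth_int_of_field (W : Type u) [Field W] [CharZero W] :
    Algebra.FormallySmooth ℤ W := by
  haveI : Algebra.FormallySmooth ℚ W := PerfectSmooth.formallySmooth_of_charZero ℚ W
  haveI : Algebra.FormallyEtale ℤ ℚ := Algebra.FormallyEtale.of_isLocalization (nonZeroDivisors ℤ)
  exact Algebra.FormallySmooth.comp ℤ ℚ W

/-- the canonical ring hom `ZMod m → R` when `m = 0` in `R`. -/
noncomputable def zmodHom (m : ℕ) (R : Type*) [CommRing R] (h : (m : R) = 0) : ZMod m →+* R :=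
  (Ideal.Quotient.lift (Ideal.span {(m : ℤ)}) (Int.castRingHom R) (by
    intro a ha
    rw [Ideal.mem_span_singleton] at ha
    obtain ⟨b, rfl⟩ := ha
    simp [h])).comp (Int.quotientSpanNatEquivZMod m).symm.toRingHom

/-- A Cohen ring is formally smooth over `ℤ` for its adic topology. -/
theorem isRingFS_cohen (W : Type u) [CommRing W] [IsDomain W] [IsDiscreteValuationRing W]
    (p : ℕ) (hp : p.Prime) (hm : maximalIdeal W = Ideal.span {(p : W)}) :
    IsRingFS (maximalIdeal W) := by
  intro C _ J hJ u hu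
  obtain ⟨k, hk⟩ := hu
  obtain ⟨N, hN⟩ := hJ
  have hpk : (p : W) ^ k ∈ maximalIdeal W ^ k :=
    Ideal.pow_mem_pow (by rw [hm]; exact Ideal.subset_span rfl) k
  have h1 : (p : C) ^ k ∈ J := by
    rw [← Ideal.Quotient.eq_zero_iff_mem, map_pow, map_natCast]
    have := hk _ hpk
    simpa using this
  have h2 : (p : C) ^ (k * N) = 0 := by
    rw [pow_mul]
    have : ((p : C) ^ k) ^ N ∈ J ^ N := Ideal.pow_mem_pow h1 N
    rw [hN] at this
    exact this
  have hM : (p : C) ^ (k * N + 1) = 0 := by rw [pow_succ, h2, zero_mul]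
  generalize hMdef : k * N + 1 = M at hM
  have hM1 : 1 ≤ M := by omega
  have hpC : ((p ^ M : ℕ) : C) = 0 := by rw [Nat.cast_pow]; exact hM
  have hpW : ((p ^ M : ℕ) : W ⧸ Ideal.span {((p : W) ^ M)}) = 0 := by
    rw [Nat.cast_pow, ← map_natCast (Ideal.Quotient.mk (Ideal.span {((p : W) ^ M)})), ← map_pow]
    exact Ideal.Quotient.eq_zero_iff_mem.mpr (Ideal.subset_span rfl)
  letI algC : Algebra (ZMod (p ^ M)) C := (zmodHom (p ^ M) C hpC).toAlgebra
  letI algW : Algebra (ZMod (p ^ M)) (W ⧸ Ideal.span {((p : W) ^ M)}) :=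
    (zmodHom (p ^ M) _ hpW).toAlgebra
  haveI hfs : Algebra.FormallySmooth (ZMod (p ^ M)) (W ⧸ Ideal.span {((p : W) ^ M)}) :=
    Groth.Agent.S9455.main_aux W p hp hm M hM1 _
  have hu0 : ∀ a ∈ Ideal.span {((p : W) ^ M)}, u a = 0 := by
    intro a ha
    rw [Ideal.mem_span_singleton] at ha
    obtain ⟨b, rfl⟩ := ha
    rw [map_mul, map_pow, map_natCast, ← map_natCast (Ideal.Quotient.mk J), ← map_pow, hM,
      map_zero, zero_mul]
  let u₀ : W ⧸ Ideal.span {((p : W) ^ M)} →+* C ⧸ J := Ideal.Quotient.lift _ u hu0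
  let u₀' : W ⧸ Ideal.span {((p : W) ^ M)} →ₐ[ZMod (p ^ M)] C ⧸ J :=
    { u₀ with
      commutes' := fun r => DFunLike.congr_fun (Subsingleton.elim
        (u₀.comp (algebraMap (ZMod (p ^ M)) (W ⧸ Ideal.span {((p : W) ^ M)})))
        (algebraMap (ZMod (p ^ M)) (C ⧸ J))) r }
  obtain ⟨f, hf⟩ := Algebra.FormallySmooth.exists_lift J ⟨N, hN⟩ u₀'
  refine ⟨(f : W ⧸ Ideal.span {((p : W) ^ M)} →+* C).comp (Ideal.Quotient.mk _), ?_⟩
  ext x
  have := DFunLike.congr_fun hf (Ideal.Quotient.mk _ x)
  exact this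

instance subsingleton_ulift_ringHom (C : Type*) [CommRing C] :
    Subsingleton (ULift.{u} ℤ →+* C) :=
  ⟨fun f g => by
    have h : f.comp (ULift.ringEquiv.symm : ℤ ≃+* ULift.{u} ℤ).toRingHom =
        g.comp (ULift.ringEquiv.symm : ℤ ≃+* ULift.{u} ℤ).toRingHom := Subsingleton.elim _ _
    ext x
    have h2 := DFunLike.congr_fun h x.down
    simp only [RingHom.coe_comp, Function.comp_apply] at h2
    exact h2⟩

/-- the (unique) `ULift ℤ`-algebra structure -/
@[reducible] noncomputable def ualg (C : Type u) [CommRing C] : Algebra (ULift.{u} ℤ) C :=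
  ((Int.castRingHom C).comp (ULift.ringEquiv : ULift.{u} ℤ ≃+* ℤ).toRingHom).toAlgebra

theorem isFormallySmoothAdic_of_isRingFS {W : Type u} [CommRing W] [Algebra (ULift.{u} ℤ) W]
    (𝔟 : Ideal W) (h : IsRingFS 𝔟) : EGA41.IsFormallySmoothAdic (ULift.{u} ℤ) ⊥ W 𝔟 := by
  intro C _ _ J hJ _ u hu
  obtain ⟨v, hv⟩ := h C J hJ u.toRingHom hu
  refine ⟨{ v with
    commutes' := fun r => DFunLike.congr_fun (Subsingleton.elim
      (v.comp (algebraMap (ULift.{u} ℤ) W)) (algebraMap (ULift.{u} ℤ) C)) r }, ?_⟩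
  ext x
  exact DFunLike.congr_fun hv x

/-- EGA 0_IV 19.3.10 for ring homomorphisms. -/
theorem exists_ringHom_lift {W C : Type u} [CommRing W] [CommRing C] (𝔟 : Ideal W)
    (𝔠 J : Ideal C) (hW : IsRingFS 𝔟) [IsAdicComplete 𝔠 C] (hJ : ∃ t : ℕ, J ^ t ≤ 𝔠)
    [IsHausdorff (𝔠.map (Ideal.Quotient.mk J)) (C ⧸ J)] (u : W →+* C ⧸ J)
    (hu : ∃ k : ℕ, (𝔟 ^ k).map u ≤ 𝔠.map (Ideal.Quotient.mk J)) :
    ∃ v : W →+* C, (∃ k : ℕ, (𝔟 ^ k).map v ≤ 𝔠) ∧ (Ideal.Quotient.mk J).comp v = u := by
  letI := ualg W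
  letI := ualg C
  let u' : W →ₐ[ULift.{u} ℤ] C ⧸ J :=
    { u with
      commutes' := fun r => DFunLike.congr_fun (Subsingleton.elim
        (u.comp (algebraMap (ULift.{u} ℤ) W)) (algebraMap (ULift.{u} ℤ) (C ⧸ J))) r }
  obtain ⟨v, hv1, hv2⟩ := Groth.Agent.Helper9.AdicLift.exists_lift (⊥ : Ideal (ULift.{u} ℤ)) 𝔟 𝔠 J
    (isFormallySmoothAdic_of_isRingFS 𝔟 hW) ⟨1, by simp⟩ hJ u' hu
  refine ⟨v, hv1, ?_⟩
  ext x
  exact DFunLike.congr_fun hv2 x

/-- Lifting local homomorphisms into complete local rings (EGA 0_IV 19.8.6 (i)). -/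
theorem exists_local_lift {W C : Type u} [CommRing W] [IsLocalRing W] [CommRing C] [IsLocalRing C]
    [IsAdicComplete (maximalIdeal C) C] (hW : IsRingFS (maximalIdeal W)) (J : Ideal C)
    (hJ : J ≠ ⊤) [IsLocalRing (C ⧸ J)]
    [IsHausdorff ((maximalIdeal C).map (Ideal.Quotient.mk J)) (C ⧸ J)]
    (u : W →+* C ⧸ J) [IsLocalHom u] :
    ∃ v : W →+* C, IsLocalHom v ∧ (Ideal.Quotient.mk J).comp v = u := by
  have hu : ∃ k : ℕ, (maximalIdeal W ^ k).map u ≤ (maximalIdeal C).map (Ideal.Quotient.mk J) := by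
    refine ⟨1, ?_⟩
    rw [pow_one, Ideal.map_le_iff_le_comap]
    intro x hx
    rw [Ideal.mem_comap]
    have h1 : ¬ IsUnit (u x) := fun h => hx (IsUnit.of_map u x h)
    obtain ⟨c, hc⟩ := Ideal.Quotient.mk_surjective (u x)
    rw [← hc]
    apply Ideal.mem_map_of_mem
    rw [mem_maximalIdeal, mem_nonunits_iff]
    intro hcu
    apply h1
    rw [← hc]
    exact hcu.map _
  obtain ⟨v, -, hv⟩ := exists_ringHom_lift (maximalIdeal W) (maximalIdeal C) J hW
    ⟨1, by rw [pow_one]; exact le_maximalIdeal hJ⟩ u hu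
  refine ⟨v, ⟨fun x hx => ?_⟩, hv⟩
  have h2 : IsUnit (u x) := by
    rw [← hv]
    exact hx.map (Ideal.Quotient.mk J)
  exact IsUnit.of_map u x h2

/-- the structure of Cohen rings in the sense of EGA: they are formally smooth over `ℤ` for the
adic topology. -/
theorem isRingFS_of_isCohenRingEGA {W : Type u} [CommRing W] [IsLocalRing W]
    (hW : EGA41.IsCohenRingEGA W) : IsRingFS (maximalIdeal W) := by
  rcases hW with ⟨hf, hc⟩ | ⟨hdom, hdvr, -, p, hp, hm⟩
  · letI := hf.toField
    haveI := formallySmooth_int_of_field W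
    exact isRingFS_of_formallySmooth_int _
  · exact isRingFS_cohen W p hp hm

/-- A module is complete for the adic topology of a nilpotent ideal. -/
theorem isAdicComplete_of_pow_eq_bot {R : Type*} [CommRing R] (I : Ideal R) (M : Type*)
    [AddCommGroup M] [Module R M] (n : ℕ) (hn : I ^ n = ⊥) : IsAdicComplete I M where
  haus' x hx := by
    have := hx n
    rw [hn, SModEq.zero] at this
    simpa using this
  prec' f hf := by
    refine ⟨f n, fun m => ?_⟩
    rcases le_total m n with h | h
    · exact hf h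
    · have h1 := hf h
      rw [hn] at h1
      have h2 : f n = f m := by
        rw [SModEq.sub_mem] at h1
        have : f n - f m = 0 := by simpa using h1
        exact sub_eq_zero.mp this
      rw [h2]

/-- An Artinian local ring is complete. -/
theorem isAdicComplete_of_isArtinianRing (A : Type*) [CommRing A] [IsLocalRing A]
    [IsArtinianRing A] : IsAdicComplete (maximalIdeal A) A := by
  obtain ⟨n, hn⟩ := IsArtinianRing.isNilpotent_jacobson_bot (R := A)
  rw [IsLocalRing.jacobson_eq_maximalIdeal ⊥ bot_ne_top] at hn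
  exact isAdicComplete_of_pow_eq_bot _ _ n (by simpa using hn)

section unique

variable {W W' : Type u} [CommRing W] [IsLocalRing W] [CommRing W'] [IsLocalRing W']

/-- In a DVR whose maximal ideal is generated by the natural number `p`, `p ≠ 0`. -/
theorem natCast_ne_zero_of_dvr [IsDomain W] [IsDiscreteValuationRing W] (p : ℕ)
    (hm : maximalIdeal W = Ideal.span {(p : W)}) : (p : W) ≠ 0 := by
  intro h0
  apply IsDiscreteValuationRing.not_a_field W
  rw [hm, h0]
  simp

/-- A local homomorphism between Cohen rings with the same `p` inducing a surjection on residue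
fields is bijective. -/
theorem bijective_of_cohen [IsDomain W] [IsDiscreteValuationRing W]
    [IsAdicComplete (maximalIdeal W) W] [IsDomain W'] [IsDiscreteValuationRing W']
    [IsAdicComplete (maximalIdeal W') W'] (p : ℕ)
    (hm : maximalIdeal W = Ideal.span {(p : W)}) (hm' : maximalIdeal W' = Ideal.span {(p : W')})
    (v : W →+* W') [IsLocalHom v]
    (hsurj : Function.Surjective ((Ideal.Quotient.mk (maximalIdeal W')).comp v)) :
    Function.Bijective v := by
  have hmap : (maximalIdeal W).map v = maximalIdeal W' := by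
    rw [hm, hm', Ideal.map_span, Set.image_singleton, map_natCast]
  constructor
  · rw [injective_iff_map_eq_zero]
    intro x hx
    by_contra hx0
    have hirr : Irreducible (p : W) :=
      (IsDiscreteValuationRing.irreducible_iff_uniformizer _).mpr hm
    obtain ⟨n, w, rfl⟩ := IsDiscreteValuationRing.eq_unit_mul_pow_irreducible hx0 hirr
    rw [map_mul, map_pow, map_natCast] at hx
    have h1 : IsUnit (v (w : W)) := w.isUnit.map v
    have h2 : (p : W') ^ n = 0 := by
      rcases mul_eq_zero.mp hx with h | h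
      · exact absurd h h1.ne_zero
      · exact h
    exact natCast_ne_zero_of_dvr p hm' (pow_eq_zero_iff (n := n) (by
      rintro rfl
      simp at h2) |>.mp h2)
  · haveI : IsHausdorff ((maximalIdeal W).map v) W' := by
      rw [hmap]
      infer_instance
    apply surjective_of_mk_map_comp_surjective (I := maximalIdeal W) v
    rw [hmap]
    exact hsurj

/-- Two Cohen rings (complete DVRs with uniformizer a prime number) with isomorphic residue fields
are isomorphic (EGA 0_IV 19.8.6 (ii)). -/
theorem exists_equiv_of_cohen [IsDomain W] [IsDiscreteValuationRing W]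
    [IsAdicComplete (maximalIdeal W) W] [IsDomain W'] [IsDiscreteValuationRing W']
    [IsAdicComplete (maximalIdeal W') W'] (p p' : ℕ) (hp : p.Prime) (hp' : p'.Prime)
    (hm : maximalIdeal W = Ideal.span {(p : W)}) (hm' : maximalIdeal W' = Ideal.span {(p' : W')})
    (u : ResidueField W ≃+* ResidueField W') :
    ∃ v : W ≃+* W', ∀ x : W, residue W' (v x) = u (residue W x) := by
  -- p = p'
  have hpp : p = p' := by
    by_contra hne
    have h1 : residue W' (p : W') = 0 := by
      rw [map_natCast, ← map_natCast u, ← map_natCast (residue W), (residue_eq_zero_iff _).mpr,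
        map_zero]
      rw [hm]
      exact Ideal.subset_span rfl
    have h2 : (p : W') ∈ maximalIdeal W' := (residue_eq_zero_iff _).mp h1
    have h3 : (p' : W') ∈ maximalIdeal W' := by
      rw [hm']
      exact Ideal.subset_span rfl
    have hcop : Nat.Coprime p p' := (Nat.coprime_primes hp hp').mpr hne
    obtain ⟨a, b, hab⟩ := Nat.isCoprime_iff_coprime.mpr hcop
    have h4 : ((a * p + b * p' : ℤ) : W') = 1 := by rw [hab]; simp
    push_cast at h4
    have h5 : (1 : W') ∈ maximalIdeal W' := by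
      rw [← h4]
      exact Ideal.add_mem _ (Ideal.mul_mem_left _ _ h2) (Ideal.mul_mem_left _ _ h3)
    exact (maximalIdeal.isMaximal W').ne_top ((Ideal.eq_top_iff_one _).mpr h5)
  subst hpp
  haveI : IsLocalRing (W' ⧸ maximalIdeal W') := inferInstanceAs (IsLocalRing (ResidueField W'))
  haveI : IsHausdorff ((maximalIdeal W').map (Ideal.Quotient.mk (maximalIdeal W')))
      (W' ⧸ maximalIdeal W') := by
    rw [Ideal.map_quotient_self]
    exact ⟨fun x hx => by simpa [SModEq.zero] using hx 1⟩
  let u₀ : W →+* W' ⧸ maximalIdeal W' := (u : ResidueField W →+* ResidueField W').comp (residue W)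
  haveI : IsLocalHom u₀ := ⟨fun x hx => by
    have h1 : IsUnit (residue W x) := by
      have h0 := hx.map (u.symm : ResidueField W' →+* ResidueField W)
      have h00 : (u.symm : ResidueField W' →+* ResidueField W) (u₀ x) = residue W x :=
        u.symm_apply_apply _
      exact Eq.mp (congrArg IsUnit h00) h0
    exact isUnit_of_map_unit (residue W) x h1⟩
  obtain ⟨v, hvloc, hv⟩ := exists_local_lift (isRingFS_cohen W p hp hm) (maximalIdeal W')
    (maximalIdeal.isMaximal W').ne_top u₀
  have hbij : Function.Bijective v := by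
    apply bijective_of_cohen p hm hm' v
    rw [hv]
    exact u.surjective.comp residue_surjective
  refine ⟨RingEquiv.ofBijective v hbij, fun x => ?_⟩
  exact DFunLike.congr_fun hv x

end unique

end Groth.Agent.Helper14.CohenLift
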