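import Mathlib
import Groth.Agent.Lib.Helper14.CohenExist
import Groth.Agent.Lib.Helper14.CohenLift

/-!
# Coefficient rings of complete local rings of positive residue characteristic
-/

set_option autoImplicit false
set_option linter.unusedSectionVars false
set_option linter.style.haveILetI false
set_option linter.unusedSimpArgs false
set_option linter.overlappingInstances false

universe u

namespace Groth.Agent.Helper14.CohenCoeff

open IsLocalRing Groth.Agent.Helper14.CohenLift

/-- A complete local ring of residue characteristic `p > 0` receives a local homomorphism from a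
Cohen ring inducing an isomorphism of residue fields. -/
theorem exists_cohen_hom {A : Type u} [CommRing A] [IsLocalRing A]
    [IsAdicComplete (maximalIdeal A) A] (p : ℕ) [hp : Fact p.Prime] [CharP (ResidueField A) p] :
    ∃ (W : Type u) (_ : CommRing W) (_ : IsLocalRing W) (v : W →+* A), CAlg.IsCohenRing W ∧
      maximalIdeal W = Ideal.span {(p : W)} ∧ IsLocalHom v ∧
      Function.Surjective ((residue A).comp v) := by
  obtain ⟨W, _, _, hW, hm, ⟨e⟩⟩ := Groth.Agent.Helper14.CohenExist.exists_cohenRing' p (ResidueField A)
  obtain ⟨hdom, hdvr, hcomp, -, -, -⟩ := hW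
  haveI : IsLocalRing (A ⧸ maximalIdeal A) := inferInstanceAs (IsLocalRing (ResidueField A))
  haveI : IsHausdorff ((maximalIdeal A).map (Ideal.Quotient.mk (maximalIdeal A)))
      (A ⧸ maximalIdeal A) := by
    rw [Ideal.map_quotient_self]
    exact ⟨fun x hx => by simpa [SModEq.zero] using hx 1⟩
  let u₀ : W →+* A ⧸ maximalIdeal A := (e : ResidueField W →+* ResidueField A).comp (residue W)
  haveI : IsLocalHom u₀ := ⟨fun x hx => by
    have h1 : IsUnit (residue W x) := by
      have h0 := hx.map (e.symm : ResidueField A →+* ResidueField W)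
      have h00 : (e.symm : ResidueField A →+* ResidueField W) (u₀ x) = residue W x :=
        e.symm_apply_apply _
      exact Eq.mp (congrArg IsUnit h00) h0
    exact isUnit_of_map_unit (residue W) x h1⟩
  obtain ⟨v, hvloc, hv⟩ := exists_local_lift (isRingFS_cohen W p hp.out hm) (maximalIdeal A)
    (maximalIdeal.isMaximal A).ne_top u₀
  refine ⟨W, inferInstance, inferInstance, v, ⟨hdom, hdvr, hcomp, p, hp.out, hm⟩, hm, hvloc, ?_⟩
  have h2 : (residue A).comp v = u₀ := hv
  rw [h2]
  exact e.surjective.comp residue_surjective

/-- A complete local ring whose maximal ideal is generated by the residue characteristic `p > 0`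
is a quotient of a Cohen ring. -/
theorem exists_cohen_surjective {A : Type u} [CommRing A] [IsLocalRing A]
    [IsAdicComplete (maximalIdeal A) A] (p : ℕ) [hp : Fact p.Prime] [CharP (ResidueField A) p]
    (hmA : maximalIdeal A = Ideal.span {(p : A)}) :
    ∃ (W : Type u) (_ : CommRing W) (_ : IsLocalRing W) (v : W →+* A), CAlg.IsCohenRing W ∧
      Function.Surjective v := by
  obtain ⟨W, _, _, v, hW, hm, hvloc, hsurj⟩ := exists_cohen_hom (A := A) p
  refine ⟨W, inferInstance, inferInstance, v, hW, ?_⟩
  obtain ⟨hdom, hdvr, hcomp, -, -, -⟩ := hW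
  have hmap : (maximalIdeal W).map v = maximalIdeal A := by
    rw [hm, hmA, Ideal.map_span, Set.image_singleton, map_natCast]
  haveI : IsHausdorff ((maximalIdeal W).map v) A := by
    rw [hmap]
    infer_instance
  apply surjective_of_mk_map_comp_surjective (I := maximalIdeal W) v
  rw [hmap]
  exact hsurj

/-- A complete local ring of residue characteristic zero has a coefficient field. -/
theorem exists_coefficient_field {A : Type u} [CommRing A] [IsLocalRing A]
    [IsAdicComplete (maximalIdeal A) A] [CharZero (ResidueField A)] :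
    ∃ s : ResidueField A →+* A, (residue A).comp s = RingHom.id _ := by
  haveI : IsLocalRing (A ⧸ maximalIdeal A) := inferInstanceAs (IsLocalRing (ResidueField A))
  haveI : IsHausdorff ((maximalIdeal A).map (Ideal.Quotient.mk (maximalIdeal A)))
      (A ⧸ maximalIdeal A) := by
    rw [Ideal.map_quotient_self]
    exact ⟨fun x hx => by simpa [SModEq.zero] using hx 1⟩
  haveI := formallySmooth_int_of_field (ResidueField A)
  let u₀ : ResidueField A →+* A ⧸ maximalIdeal A := RingHom.id _
  haveI : IsLocalHom u₀ := ⟨fun x hx => hx⟩
  obtain ⟨v, -, hv⟩ := exists_local_lift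
    (isRingFS_of_formallySmooth_int (maximalIdeal (ResidueField A))) (maximalIdeal A)
    (maximalIdeal.isMaximal A).ne_top u₀
  exact ⟨v, hv⟩

/-- A complete local ring of characteristic `p` has a coefficient field. -/
theorem exists_coefficient_field_of_char {A : Type u} [CommRing A] [IsLocalRing A]
    [IsAdicComplete (maximalIdeal A) A] (p : ℕ) [hp : Fact p.Prime] [CharP (ResidueField A) p]
    (hpA : (p : A) = 0) :
    ∃ s : ResidueField A →+* A, (residue A).comp s = RingHom.id _ := by
  obtain ⟨W, _, _, v, hW, hm, hvloc, hsurj⟩ := exists_cohen_hom (A := A) p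
  have hv0 : ∀ a ∈ maximalIdeal W, v a = 0 := by
    intro a ha
    rw [hm, Ideal.mem_span_singleton] at ha
    obtain ⟨b, rfl⟩ := ha
    rw [map_mul, map_natCast, hpA, zero_mul]
  let vbar : ResidueField W →+* A := Ideal.Quotient.lift (maximalIdeal W) v hv0
  let ebar : ResidueField W →+* ResidueField A := (residue A).comp vbar
  have hebar : Function.Bijective ebar := by
    refine ⟨ebar.injective, fun y => ?_⟩
    obtain ⟨w, hw⟩ := hsurj y
    exact ⟨residue W w, hw⟩
  let E : ResidueField W ≃+* ResidueField A := RingEquiv.ofBijective ebar hebar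
  refine ⟨vbar.comp (E.symm : ResidueField A →+* ResidueField W), ?_⟩
  ext y
  change ebar (E.symm y) = y
  exact E.apply_symm_apply y

/-- Coefficient rings of complete local rings. -/
theorem exists_coefficient_ring (R : Type u) [CommRing R] [IsLocalRing R]
    [IsAdicComplete (maximalIdeal R) R] :
    ∃ (Λ : Type u) (_ : CommRing Λ) (_ : IsLocalRing Λ) (c : Λ →+* R), IsLocalHom c ∧
      Function.Surjective ((residue R).comp c) ∧
      ((CharZero (ResidueField R) ∧ IsField Λ) ∨
        (¬ CharZero (ResidueField R) ∧ CAlg.IsCohenRing Λ)) := by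
  obtain ⟨p, hp⟩ := CharP.exists (ResidueField R)
  rcases CharP.char_is_prime_or_zero (ResidueField R) p with hpp | hp0
  · haveI := Fact.mk hpp
    obtain ⟨W, _, _, v, hW, -, hvloc, hsurj⟩ := exists_cohen_hom (A := R) p
    refine ⟨W, inferInstance, inferInstance, v, hvloc, hsurj, Or.inr ⟨?_, hW⟩⟩
    intro hcz
    have := CharP.cast_eq_zero (ResidueField R) p
    exact hpp.ne_zero (Nat.cast_injective (R := ResidueField R) (by rw [this, Nat.cast_zero]))
  · subst hp0
    haveI : CharZero (ResidueField R) := CharP.charP_to_charZero _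
    obtain ⟨s, hs⟩ := exists_coefficient_field (A := R)
    refine ⟨ResidueField R, inferInstance, inferInstance, s, ⟨fun x hx => ?_⟩, ?_,
      Or.inl ⟨inferInstance, Field.toIsField _⟩⟩
    · have h1 : x ≠ 0 := by
        rintro rfl
        rw [map_zero] at hx
        exact not_isUnit_zero hx
      exact isUnit_iff_ne_zero.mpr h1
    · rw [hs]
      exact Function.surjective_id

end Groth.Agent.Helper14.CohenCoeff
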