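import Mathlib
import Groth.Agent.Lib.Helper14.PowerSeriesAdic
import Groth.Agent.Lib.Helper1.AdicExt

/-!
# Maps from power series rings to complete rings
-/

set_option autoImplicit false
set_option linter.unusedSectionVars false
set_option linter.style.haveILetI false
set_option linter.unusedSimpArgs false

universe u v w

namespace Groth.Agent.Helper14.PowerSeriesComplete

open MvPowerSeries Groth.Agent.Helper14.PowerSeriesAdic

variable {σ : Type w} [Finite σ] {Λ : Type u} {R : Type v} [CommRing Λ] [CommRing R] [Algebra Λ R]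

/-- Universal property of `Λ[[x]]` towards adically complete `Λ`-algebras. -/
theorem exists_algHom_complete (𝔪 : Ideal R) [IsAdicComplete 𝔪 R] (g : σ → R)
    (hg : ∀ i, g i ∈ 𝔪) :
    ∃ f : MvPowerSeries σ Λ →ₐ[Λ] R, ∀ i, f (X i) = g i := by
  have hz : ∀ k i, IsNilpotent (Ideal.Quotient.mk (𝔪 ^ k) (g i)) := fun k i =>
    ⟨k, by
      rw [← map_pow]
      exact Ideal.Quotient.eq_zero_iff_mem.mpr (Ideal.pow_mem_pow (hg i) k)⟩
  choose F hFX hFM using fun k =>
    exists_algHom (σ := σ) (A := Λ) (R ⧸ 𝔪 ^ k) (fun i => Ideal.Quotient.mk (𝔪 ^ k) (g i)) (hz k)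
  have hcompat : ∀ {m n : ℕ} (hle : m ≤ n),
      (Ideal.Quotient.factorₐ Λ (Ideal.pow_le_pow_right hle)).comp (F n) = F m := by
    intro m n hle
    obtain ⟨M₁, hM₁⟩ := hFM n
    obtain ⟨M₂, hM₂⟩ := hFM m
    apply algHom_ext_of_adic _ _ _ (max M₁ M₂)
    · intro x hx
      rw [AlgHom.comp_apply, hM₁ x (Ideal.pow_le_pow_right (le_max_left _ _) hx), map_zero]
    · intro x hx
      exact hM₂ x (Ideal.pow_le_pow_right (le_max_right _ _) hx)
    · intro i
      rw [AlgHom.comp_apply, hFX, hFX]
      rfl
  refine ⟨IsAdicComplete.liftAlgHom 𝔪 F hcompat, fun i => ?_⟩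
  rw [← sub_eq_zero]
  have hH : IsHausdorff 𝔪 R := inferInstance
  refine hH.haus' _ fun k => ?_
  rw [SModEq.zero, smul_eq_mul, Ideal.mul_top, ← Ideal.Quotient.eq_zero_iff_mem, map_sub,
    IsAdicComplete.mk_liftAlgHom, hFX, sub_self]

/-- A map from a power series ring to a complete local ring hitting generators of the maximal
ideal and surjective on residue fields is surjective. -/
theorem surjective_of_residue [IsLocalRing R] [IsAdicComplete (IsLocalRing.maximalIdeal R) R]
    (g : σ → R) (hspan : Ideal.span (Set.range g) = IsLocalRing.maximalIdeal R)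
    (hres : Function.Surjective ((IsLocalRing.residue R).comp (algebraMap Λ R)))
    (f : MvPowerSeries σ Λ →ₐ[Λ] R) (hf : ∀ i, f (X i) = g i) : Function.Surjective f := by
  have hmap : (Ideal.span (Set.range (X : σ → MvPowerSeries σ Λ))).map (f : _ →+* R) =
      IsLocalRing.maximalIdeal R := by
    rw [Ideal.map_span, ← Set.range_comp, ← hspan]
    congr 2
    ext i
    exact hf i
  haveI : IsHausdorff ((Ideal.span (Set.range (X : σ → MvPowerSeries σ Λ))).map
      (f : MvPowerSeries σ Λ →+* R)) R := by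
    rw [hmap]
    infer_instance
  apply surjective_of_mk_map_comp_surjective
    (I := Ideal.span (Set.range (X : σ → MvPowerSeries σ Λ))) (f : MvPowerSeries σ Λ →+* R)
  rw [hmap]
  intro y
  obtain ⟨a, ha⟩ := hres y
  refine ⟨algebraMap Λ _ a, ?_⟩
  rw [RingHom.comp_apply]
  change Ideal.Quotient.mk _ (f (algebraMap Λ _ a)) = y
  rw [f.commutes]
  exact ha

section local_ring

variable (σ : Type w) [Finite σ] (Λ : Type u) [CommRing Λ] [IsLocalRing Λ]

/-- The maximal ideal of `Λ[[x]]` is `𝔪_Λ Λ[[x]] + (x)`. -/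
theorem maximalIdeal_eq :
    IsLocalRing.maximalIdeal (MvPowerSeries σ Λ) =
      (IsLocalRing.maximalIdeal Λ).map (MvPowerSeries.C : Λ →+* MvPowerSeries σ Λ) ⊔
        Ideal.span (Set.range (X : σ → MvPowerSeries σ Λ)) := by
  rw [← ker_constantCoeff_eq]
  have hsurj : Function.Surjective
      (MvPowerSeries.constantCoeff : MvPowerSeries σ Λ →+* Λ) :=
    fun a => ⟨MvPowerSeries.C a, MvPowerSeries.constantCoeff_C a⟩
  have h1 : (IsLocalRing.maximalIdeal Λ).map
      (MvPowerSeries.C : Λ →+* MvPowerSeries σ Λ) ⊔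
        RingHom.ker (MvPowerSeries.constantCoeff : MvPowerSeries σ Λ →+* Λ) =
      (IsLocalRing.maximalIdeal Λ).comap
        (MvPowerSeries.constantCoeff : MvPowerSeries σ Λ →+* Λ) := by
    apply le_antisymm
    · apply sup_le
      · rw [Ideal.map_le_iff_le_comap]
        intro a ha
        simpa using ha
      · intro f hf
        rw [RingHom.mem_ker] at hf
        simp [hf]
    · intro f hf
      rw [Ideal.mem_comap] at hf
      have : f = MvPowerSeries.C (MvPowerSeries.constantCoeff f) +
          (f - MvPowerSeries.C (MvPowerSeries.constantCoeff f)) := by ring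
      rw [this]
      refine Ideal.add_mem _ (Ideal.mem_sup_left (Ideal.mem_map_of_mem _ hf))
        (Ideal.mem_sup_right ?_)
      simp [RingHom.mem_ker]
  rw [h1]
  symm
  apply IsLocalRing.eq_maximalIdeal
  exact Ideal.comap_isMaximal_of_surjective _ hsurj

theorem map_constantCoeff_maximalIdeal :
    (IsLocalRing.maximalIdeal (MvPowerSeries σ Λ)).map
      (MvPowerSeries.constantCoeff : MvPowerSeries σ Λ →+* Λ) = IsLocalRing.maximalIdeal Λ := by
  have hsurj : Function.Surjective
      (MvPowerSeries.constantCoeff : MvPowerSeries σ Λ →+* Λ) :=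
    fun a => ⟨MvPowerSeries.C a, MvPowerSeries.constantCoeff_C a⟩
  apply le_antisymm
  · rw [Ideal.map_le_iff_le_comap]
    intro f hf
    rw [Ideal.mem_comap, IsLocalRing.mem_maximalIdeal, mem_nonunits_iff]
    rw [IsLocalRing.mem_maximalIdeal, mem_nonunits_iff, MvPowerSeries.isUnit_iff_constantCoeff] at hf
    exact hf
  · intro a ha
    rw [Ideal.mem_map_iff_of_surjective _ hsurj]
    refine ⟨MvPowerSeries.C a, ?_, MvPowerSeries.constantCoeff_C a⟩
    rw [maximalIdeal_eq]
    exact Ideal.mem_sup_left (Ideal.mem_map_of_mem _ ha)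

/-- A power series ring over a complete Noetherian local ring is complete. -/
theorem isAdicComplete_maximalIdeal [IsNoetherianRing Λ]
    [IsAdicComplete (IsLocalRing.maximalIdeal Λ) Λ] :
    IsAdicComplete (IsLocalRing.maximalIdeal (MvPowerSeries σ Λ)) (MvPowerSeries σ Λ) := by
  have hsurj : Function.Surjective
      (MvPowerSeries.constantCoeff : MvPowerSeries σ Λ →+* Λ) :=
    fun a => ⟨MvPowerSeries.C a, MvPowerSeries.constantCoeff_C a⟩
  let e : (MvPowerSeries σ Λ ⧸ Ideal.span (Set.range (X : σ → MvPowerSeries σ Λ))) ≃+* Λ :=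
    (Ideal.quotEquivOfEq (ker_constantCoeff_eq (σ := σ) (A := Λ)).symm).trans
      (RingHom.quotientKerEquivOfSurjective hsurj)
  have he : ∀ f : MvPowerSeries σ Λ, e (Ideal.Quotient.mk _ f) = MvPowerSeries.constantCoeff f :=
    fun f => rfl
  haveI hq : IsAdicComplete ((IsLocalRing.maximalIdeal (MvPowerSeries σ Λ)).map
      (Ideal.Quotient.mk (Ideal.span (Set.range (X : σ → MvPowerSeries σ Λ)))))
      (MvPowerSeries σ Λ ⧸ Ideal.span (Set.range (X : σ → MvPowerSeries σ Λ))) := by
    rw [← IsAdicComplete.congr_ringEquiv _ e]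
    have h2 : Ideal.map (e : _ →+* Λ) ((IsLocalRing.maximalIdeal (MvPowerSeries σ Λ)).map
        (Ideal.Quotient.mk (Ideal.span (Set.range (X : σ → MvPowerSeries σ Λ))))) =
        IsLocalRing.maximalIdeal Λ := by
      rw [Ideal.map_map, ← map_constantCoeff_maximalIdeal σ Λ]
      congr 1
    convert (inferInstance : IsAdicComplete (IsLocalRing.maximalIdeal Λ) Λ)
    exact h2
  exact Groth.Agent.Helper1.isAdicComplete_of_isAdicComplete_quotient
    (Ideal.span (Set.range (X : σ → MvPowerSeries σ Λ))) _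

end local_ring

/-- Variant of `surjective_of_residue` where the maximal ideal of `R` is generated by the image of
the maximal ideal of the complete local coefficient ring together with the `g i`. -/
theorem surjective_of_residue' {σ : Type w} [Finite σ] {Λ : Type u} {R : Type v} [CommRing Λ]
    [CommRing R] [Algebra Λ R] [IsLocalRing Λ] [IsNoetherianRing Λ]
    [IsAdicComplete (IsLocalRing.maximalIdeal Λ) Λ] [IsLocalRing R]
    [IsAdicComplete (IsLocalRing.maximalIdeal R) R] (g : σ → R)
    (hspan : (IsLocalRing.maximalIdeal Λ).map (algebraMap Λ R) ⊔ Ideal.span (Set.range g) =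
      IsLocalRing.maximalIdeal R)
    (hres : Function.Surjective ((IsLocalRing.residue R).comp (algebraMap Λ R)))
    (f : MvPowerSeries σ Λ →ₐ[Λ] R) (hf : ∀ i, f (X i) = g i) : Function.Surjective f := by
  haveI := isAdicComplete_maximalIdeal σ Λ
  have hC : (f : MvPowerSeries σ Λ →+* R).comp (MvPowerSeries.C : Λ →+* MvPowerSeries σ Λ) =
      algebraMap Λ R := by
    ext a
    have : (MvPowerSeries.C a : MvPowerSeries σ Λ) = algebraMap Λ (MvPowerSeries σ Λ) a := by
      rw [MvPowerSeries.algebraMap_apply]; simp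
    simp [this]
  have hmap : (IsLocalRing.maximalIdeal (MvPowerSeries σ Λ)).map (f : _ →+* R) =
      IsLocalRing.maximalIdeal R := by
    rw [maximalIdeal_eq, Ideal.map_sup, Ideal.map_map, hC, Ideal.map_span, ← Set.range_comp,
      ← hspan]
    congr 3
    ext i
    exact hf i
  haveI : IsHausdorff ((IsLocalRing.maximalIdeal (MvPowerSeries σ Λ)).map
      (f : MvPowerSeries σ Λ →+* R)) R := by
    rw [hmap]
    infer_instance
  apply surjective_of_mk_map_comp_surjective
    (I := IsLocalRing.maximalIdeal (MvPowerSeries σ Λ)) (f : MvPowerSeries σ Λ →+* R)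
  rw [hmap]
  intro y
  obtain ⟨a, ha⟩ := hres y
  refine ⟨algebraMap Λ _ a, ?_⟩
  rw [RingHom.comp_apply]
  change Ideal.Quotient.mk _ (f (algebraMap Λ _ a)) = y
  rw [f.commutes]
  exact ha

end Groth.Agent.Helper14.PowerSeriesComplete
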