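import Mathlib
import Groth.Prelude
import Groth.Agent.Lib.Helper14.CohenCoeff
import Groth.Agent.Lib.Helper14.PowerSeriesComplete
import Groth.Agent.Lib.Helper1.AdicLib
import Groth.Agent.Lib.Helper21.IntDim
import Groth.Agent.Lib.Helper5.PSR

/-!
# Cohen structure theorem: complete local domains are finite over power series rings
-/

set_option autoImplicit false
universe u

namespace Groth.Agent.Helper14.CohenStructure

open IsLocalRing

section F

variable {S R M : Type*} [CommRing S] [CommRing R] [IsLocalRing R] [IsNoetherianRing R]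
  [Algebra S R] [AddCommGroup M] [Module R M] [Module S M] [IsScalarTower S R M]
  [Module.Finite R M]

lemma fg_step (hres : Function.Surjective ((residue R).comp (algebraMap S R))) (i : ℕ)
    (h : ((maximalIdeal R ^ (i + 1) • (⊤ : Submodule R M)).restrictScalars S).FG) :
    ((maximalIdeal R ^ i • (⊤ : Submodule R M)).restrictScalars S).FG := by
  classical
  obtain ⟨t, ht⟩ : (maximalIdeal R ^ i • (⊤ : Submodule R M)).FG := IsNoetherian.noetherian _
  have key : (maximalIdeal R ^ i • (⊤ : Submodule R M)).restrictScalars S =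
      Submodule.span S (t : Set M) ⊔
        (maximalIdeal R ^ (i + 1) • (⊤ : Submodule R M)).restrictScalars S := by
    apply le_antisymm
    · intro x hx
      rw [Submodule.restrictScalars_mem, ← ht, Submodule.mem_span_finset] at hx
      obtain ⟨c, hc, rfl⟩ := hx
      choose s hs using fun a => hres (residue R (c a))
      have hm : ∀ a, c a - algebraMap S R (s a) ∈ maximalIdeal R := fun a => by
        rw [← residue_eq_zero_iff, map_sub, sub_eq_zero]
        exact (hs a).symm
      have hsplit : ∑ a ∈ t, c a • a =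
          ∑ a ∈ t, s a • a + ∑ a ∈ t, (c a - algebraMap S R (s a)) • a := by
        rw [← Finset.sum_add_distrib]
        refine Finset.sum_congr rfl fun a _ => ?_
        rw [sub_smul, algebraMap_smul]
        abel
      rw [hsplit]
      refine Submodule.add_mem_sup ?_ ?_
      · exact Submodule.sum_mem _ fun a ha => Submodule.smul_mem _ _ (Submodule.subset_span ha)
      · rw [Submodule.restrictScalars_mem]
        refine Submodule.sum_mem _ fun a ha => ?_
        rw [pow_succ', mul_smul]
        refine Submodule.smul_mem_smul (hm a) ?_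
        rw [← ht]
        exact Submodule.subset_span ha
    · refine sup_le ?_ ?_
      · rw [Submodule.span_le]
        intro a ha
        rw [SetLike.mem_coe, Submodule.restrictScalars_mem, ← ht]
        exact Submodule.subset_span ha
      · intro x hx
        rw [Submodule.restrictScalars_mem] at hx ⊢
        exact Submodule.smul_mono_left (Ideal.pow_le_pow_right (Nat.le_succ i)) hx
  rw [key]
  exact (Submodule.fg_span t.finite_toSet).sup h

/-- A finite `R`-module killed by a power of the maximal ideal is finite over any ring `S`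
mapping onto the residue field of `R`. -/
theorem finite_of_pow_smul_eq_bot
    (hres : Function.Surjective ((residue R).comp (algebraMap S R))) (k : ℕ)
    (hk : maximalIdeal R ^ k • (⊤ : Submodule R M) = ⊥) : Module.Finite S M := by
  have h : ∀ j, ((maximalIdeal R ^ (k - j) • (⊤ : Submodule R M)).restrictScalars S).FG := by
    intro j
    induction j with
    | zero =>
      rw [Nat.sub_zero, hk, Submodule.restrictScalars_bot]
      exact Submodule.fg_bot
    | succ j ih =>
      by_cases hjk : j < k
      · have : k - j = (k - (j + 1)) + 1 := by omega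
        rw [this] at ih
        exact fg_step hres _ ih
      · have : k - (j + 1) = k - j := by omega
        rw [this]
        exact ih
  have h0 := h k
  rw [Nat.sub_self, pow_zero, Ideal.one_eq_top, Submodule.top_smul,
    Submodule.restrictScalars_top] at h0
  exact ⟨h0⟩

end F

section F2

variable {S R M : Type*} [CommRing S] [CommRing R] [IsLocalRing R] [IsNoetherianRing R]
  [Algebra S R] [AddCommGroup M] [Module R M] [Module S M] [IsScalarTower S R M]
  [Module.Finite R M]

lemma fg_step' {q : ℕ} (b : Fin q → R)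
    (hb : ∀ c : R, ∃ s : Fin q → S, c - ∑ j, algebraMap S R (s j) * b j ∈ maximalIdeal R) (i : ℕ)
    (h : ((maximalIdeal R ^ (i + 1) • (⊤ : Submodule R M)).restrictScalars S).FG) :
    ((maximalIdeal R ^ i • (⊤ : Submodule R M)).restrictScalars S).FG := by
  classical
  obtain ⟨t, ht⟩ : (maximalIdeal R ^ i • (⊤ : Submodule R M)).FG := IsNoetherian.noetherian _
  have hfin : (Set.image2 (fun (j : Fin q) (a : M) => b j • a) Set.univ (t : Set M)).Finite :=
    Set.Finite.image2 _ Set.finite_univ t.finite_toSet
  have key : (maximalIdeal R ^ i • (⊤ : Submodule R M)).restrictScalars S =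
      Submodule.span S (Set.image2 (fun (j : Fin q) (a : M) => b j • a) Set.univ (t : Set M)) ⊔
        (maximalIdeal R ^ (i + 1) • (⊤ : Submodule R M)).restrictScalars S := by
    apply le_antisymm
    · intro x hx
      rw [Submodule.restrictScalars_mem, ← ht, Submodule.mem_span_finset] at hx
      obtain ⟨c, hc, rfl⟩ := hx
      choose s hs using fun a => hb (c a)
      have hsplit : ∑ a ∈ t, c a • a =
          ∑ a ∈ t, ∑ j, s a j • (b j • a) +
            ∑ a ∈ t, (c a - ∑ j, algebraMap S R (s a j) * b j) • a := by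
        rw [← Finset.sum_add_distrib]
        refine Finset.sum_congr rfl fun a _ => ?_
        rw [sub_smul, Finset.sum_smul]
        have : ∀ j, (algebraMap S R (s a j) * b j) • a = s a j • (b j • a) := fun j => by
          rw [mul_smul, algebraMap_smul]
        simp only [this]
        abel
      rw [hsplit]
      refine Submodule.add_mem_sup ?_ ?_
      · refine Submodule.sum_mem _ fun a ha => Submodule.sum_mem _ fun j _ => ?_
        exact Submodule.smul_mem _ _ (Submodule.subset_span ⟨j, Set.mem_univ _, a, ha, rfl⟩)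
      · rw [Submodule.restrictScalars_mem]
        refine Submodule.sum_mem _ fun a ha => ?_
        rw [pow_succ', mul_smul]
        refine Submodule.smul_mem_smul (hs a) ?_
        rw [← ht]
        exact Submodule.subset_span ha
    · refine sup_le ?_ ?_
      · rw [Submodule.span_le]
        rintro _ ⟨j, -, a, ha, rfl⟩
        rw [SetLike.mem_coe, Submodule.restrictScalars_mem]
        refine Submodule.smul_mem _ _ ?_
        rw [← ht]
        exact Submodule.subset_span ha
      · intro x hx
        rw [Submodule.restrictScalars_mem] at hx ⊢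
        exact Submodule.smul_mono_left (Ideal.pow_le_pow_right (Nat.le_succ i)) hx
  rw [key]
  exact (Submodule.fg_span hfin).sup h

theorem finite_of_pow_smul_eq_bot' {q : ℕ} (b : Fin q → R)
    (hb : ∀ c : R, ∃ s : Fin q → S, c - ∑ j, algebraMap S R (s j) * b j ∈ maximalIdeal R) (k : ℕ)
    (hk : maximalIdeal R ^ k • (⊤ : Submodule R M) = ⊥) : Module.Finite S M := by
  have h : ∀ j, ((maximalIdeal R ^ (k - j) • (⊤ : Submodule R M)).restrictScalars S).FG := by
    intro j
    induction j with
    | zero =>
      rw [Nat.sub_zero, hk, Submodule.restrictScalars_bot]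
      exact Submodule.fg_bot
    | succ j ih =>
      by_cases hjk : j < k
      · have : k - j = (k - (j + 1)) + 1 := by omega
        rw [this] at ih
        exact fg_step' b hb _ ih
      · have : k - (j + 1) = k - j := by omega
        rw [this]
        exact ih
  have h0 := h k
  rw [Nat.sub_self, pow_zero, Ideal.one_eq_top, Submodule.top_smul,
    Submodule.restrictScalars_top] at h0
  exact ⟨h0⟩

/-- If the residue field of `R` is a finite `S`-module, lifts of generators work. -/
lemma exists_lift_generators_residue (hfin : Module.Finite S (ResidueField R)) :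
    ∃ (q : ℕ) (b : Fin q → R),
      ∀ c : R, ∃ s : Fin q → S, c - ∑ j, algebraMap S R (s j) * b j ∈ maximalIdeal R := by
  obtain ⟨q, β, hβ⟩ := Module.Finite.exists_fin (R := S) (M := ResidueField R)
  choose b hbβ using fun j => residue_surjective (β j)
  refine ⟨q, b, fun c => ?_⟩
  have hc : residue R c ∈ Submodule.span S (Set.range β) := by rw [hβ]; trivial
  obtain ⟨s, hs⟩ := (Submodule.mem_span_range_iff_exists_fun S).mp hc
  refine ⟨s, ?_⟩
  rw [← residue_eq_zero_iff, map_sub, sub_eq_zero, ← hs, map_sum]
  refine Finset.sum_congr rfl fun j _ => ?_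
  rw [map_mul, hbβ, Algebra.smul_def]
  rfl

end F2

section G

open MvPowerSeries

/-- If the maximal ideal is a minimal prime over `J`, a power of it lies in `J`. -/
lemma exists_pow_le_of_mem_minimalPrimes {R : Type*} [CommRing R] [IsLocalRing R]
    [IsNoetherianRing R] (J : Ideal R) (hJ : maximalIdeal R ∈ J.minimalPrimes) :
    ∃ k, maximalIdeal R ^ k ≤ J := by
  have hmin : J.minimalPrimes = {maximalIdeal R} := by
    ext q
    constructor
    · intro hq
      have hqp : q.IsPrime := hq.1.1
      have hle : q ≤ maximalIdeal R := le_maximalIdeal hqp.ne_top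
      have := hJ.2 hq.1 hle
      exact le_antisymm hle this
    · rintro rfl
      exact hJ
  have hrad : J.radical = maximalIdeal R := by
    rw [← Ideal.sInf_minimalPrimes, hmin, sInf_singleton]
  have := Ideal.exists_radical_pow_le_of_fg J (IsNoetherian.noetherian _)
  rwa [hrad] at this

variable {Λ R : Type u} [CommRing Λ] [IsDomain Λ] [IsLocalRing Λ] [IsNoetherianRing Λ]
  [IsAdicComplete (maximalIdeal Λ) Λ]
  [CommRing R] [IsDomain R] [IsLocalRing R] [IsNoetherianRing R]
  [IsAdicComplete (maximalIdeal R) R] [Algebra Λ R]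

theorem exists_finite_injective
    (hres : Function.Surjective ((residue R).comp (algebraMap Λ R)))
    (n : ℕ) (g : Fin n → R)
    (hmin : maximalIdeal R ∈
      ((maximalIdeal Λ).map (algebraMap Λ R) ⊔ Ideal.span (Set.range g)).minimalPrimes)
    (hdim : ringKrullDim (MvPowerSeries (Fin n) Λ) ≤ ringKrullDim R) :
    ∃ f : MvPowerSeries (Fin n) Λ →+* R, Function.Injective f ∧ f.Finite ∧
      Function.Surjective ((residue R).comp f) := by
  classical
  set J : Ideal R := (maximalIdeal Λ).map (algebraMap Λ R) ⊔ Ideal.span (Set.range g) with hJdef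
  have hJle : J ≤ maximalIdeal R := hmin.1.2
  have hg : ∀ i, g i ∈ maximalIdeal R := fun i =>
    hJle (Ideal.mem_sup_right (Ideal.subset_span ⟨i, rfl⟩))
  obtain ⟨f, hf⟩ := Groth.Agent.Helper14.PowerSeriesComplete.exists_algHom_complete
    (Λ := Λ) (maximalIdeal R) g hg
  letI : Algebra (MvPowerSeries (Fin n) Λ) R := (f : MvPowerSeries (Fin n) Λ →+* R).toAlgebra
  haveI : IsScalarTower Λ (MvPowerSeries (Fin n) Λ) R :=
    IsScalarTower.of_algebraMap_eq (fun x => (f.commutes x).symm)
  have hmap : (maximalIdeal (MvPowerSeries (Fin n) Λ)).map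
      (algebraMap (MvPowerSeries (Fin n) Λ) R) = J := by
    rw [Groth.Agent.Helper14.PowerSeriesComplete.maximalIdeal_eq, Ideal.map_sup, Ideal.map_map,
      Ideal.map_span, ← Set.range_comp, hJdef]
    congr 1
    · congr 1
      ext x
      exact f.commutes x
    · congr 2
      ext i
      exact hf i
  have hresS : Function.Surjective
      ((residue R).comp (algebraMap (MvPowerSeries (Fin n) Λ) R)) := by
    intro y
    obtain ⟨a, ha⟩ := hres y
    refine ⟨C a, ?_⟩
    rw [← ha]
    simp only [RingHom.comp_apply]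
    congr 1
    exact f.commutes a
  obtain ⟨k, hk⟩ := exists_pow_le_of_mem_minimalPrimes J hmin
  haveI : Module.Finite (MvPowerSeries (Fin n) Λ) (R ⧸ J) := by
    refine finite_of_pow_smul_eq_bot (R := R) hresS k ?_
    rw [eq_bot_iff]
    refine Submodule.smul_le.mpr fun r hr x _ => ?_
    obtain ⟨x, rfl⟩ := Ideal.Quotient.mk_surjective x
    rw [Submodule.mem_bot]
    change Ideal.Quotient.mk J (r * x) = 0
    rw [Ideal.Quotient.eq_zero_iff_mem]
    exact J.mul_mem_right _ (hk hr)
  haveI : IsHausdorff (maximalIdeal (MvPowerSeries (Fin n) Λ)) R := by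
    refine ⟨fun x hx => ?_⟩
    haveI : IsHausdorff (maximalIdeal R) R := inferInstance
    apply IsHausdorff.haus ‹IsHausdorff (maximalIdeal R) R› x
    intro m
    have hxm := hx m
    rw [SModEq.zero] at hxm ⊢
    have hle : (maximalIdeal (MvPowerSeries (Fin n) Λ) ^ m • ⊤ : Submodule _ R) ≤
        (maximalIdeal R ^ m • ⊤ : Submodule R R).restrictScalars (MvPowerSeries (Fin n) Λ) := by
      rw [Ideal.smul_top_eq_map, Ideal.map_pow, hmap]
      intro y hy
      rw [Submodule.restrictScalars_mem] at hy ⊢
      rw [smul_eq_mul, Ideal.mul_top]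
      exact Ideal.pow_right_mono hJle m hy
    exact hle hxm
  haveI := Groth.Agent.Helper14.PowerSeriesComplete.isAdicComplete_maximalIdeal (Fin n) Λ
  have hfin : Module.Finite (MvPowerSeries (Fin n) Λ) R := by
    refine Groth.Agent.Helper1.finite_of_isAdicComplete_of_finite_quotient
      (maximalIdeal (MvPowerSeries (Fin n) Λ)) ?_
    rw [Ideal.smul_top_eq_map, hmap]
    exact Module.Finite.equiv
      (Submodule.Quotient.restrictScalarsEquiv (MvPowerSeries (Fin n) Λ) J).symm
  refine ⟨f, ?_, hfin, hresS⟩
  -- injectivity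
  rw [injective_iff_map_eq_zero]
  intro x hx
  by_contra hne
  have hnzd : x ∈ nonZeroDivisors (MvPowerSeries (Fin n) Λ) := mem_nonZeroDivisors_of_ne_zero hne
  have h1 := ringKrullDim_quotient_succ_le_of_nonZeroDivisor hnzd
  let g' : MvPowerSeries (Fin n) Λ ⧸ Ideal.span {x} →+* R :=
    Ideal.Quotient.lift _ (f : MvPowerSeries (Fin n) Λ →+* R) (by
      intro a ha
      obtain ⟨b, rfl⟩ := Ideal.mem_span_singleton'.mp ha
      have hx' : (f : MvPowerSeries (Fin n) Λ →+* R) x = 0 := hx
      rw [map_mul, hx', mul_zero])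
  have hfint : (f : MvPowerSeries (Fin n) Λ →+* R).IsIntegral :=
    RingHom.Finite.to_isIntegral hfin
  have hg'int : g'.IsIntegral := by
    refine RingHom.IsIntegral.tower_top (Ideal.Quotient.mk (Ideal.span {x})) g' ?_
    have : g'.comp (Ideal.Quotient.mk (Ideal.span {x})) = (f : MvPowerSeries (Fin n) Λ →+* R) :=
      Ideal.Quotient.lift_comp_mk _ _ _
    rw [this]
    exact hfint
  have h3 := Groth.Agent.Helper21.ID.ringKrullDim_le_of_isIntegral g' hg'int
  obtain ⟨d, hd⟩ : ∃ d : ℕ, ringKrullDim R = d := by
    have h1 := ringKrullDim_ne_top (R := R)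
    have h2 := ringKrullDim_ne_bot (R := R)
    obtain ⟨e, he⟩ := WithBot.ne_bot_iff_exists.mp h2
    rw [← he] at h1
    have h3 : e ≠ ⊤ := fun h => h1 (by rw [h]; rfl)
    obtain ⟨d, rfl⟩ := ENat.ne_top_iff_exists.mp h3
    exact ⟨d, he.symm⟩
  rw [hd] at h3 hdim
  have h4 : ((d : WithBot ℕ∞) + 1) ≤ d := (add_le_add_left h3 1).trans (h1.trans hdim)
  have h5 : ((d + 1 : ℕ) : WithBot ℕ∞) ≤ (d : ℕ) := by exact_mod_cast h4
  have h6 : d + 1 ≤ d := by exact_mod_cast h5
  omega

theorem exists_finite_injective'
    [IsLocalHom (algebraMap Λ R)] (hfinΛ : Module.Finite Λ (ResidueField R))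
    (n : ℕ) (g : Fin n → R)
    (hmin : maximalIdeal R ∈
      ((maximalIdeal Λ).map (algebraMap Λ R) ⊔ Ideal.span (Set.range g)).minimalPrimes)
    (hdim : ringKrullDim (MvPowerSeries (Fin n) Λ) ≤ ringKrullDim R) :
    ∃ f : MvPowerSeries (Fin n) Λ →ₐ[Λ] R, (∀ i, f (X i) = g i) ∧ Function.Injective f ∧
      f.toRingHom.Finite ∧ IsLocalHom f.toRingHom := by
  classical
  set J : Ideal R := (maximalIdeal Λ).map (algebraMap Λ R) ⊔ Ideal.span (Set.range g) with hJdef
  have hJle : J ≤ maximalIdeal R := hmin.1.2
  have hg : ∀ i, g i ∈ maximalIdeal R := fun i =>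
    hJle (Ideal.mem_sup_right (Ideal.subset_span ⟨i, rfl⟩))
  obtain ⟨f, hf⟩ := Groth.Agent.Helper14.PowerSeriesComplete.exists_algHom_complete
    (Λ := Λ) (maximalIdeal R) g hg
  letI : Algebra (MvPowerSeries (Fin n) Λ) R := (f : MvPowerSeries (Fin n) Λ →+* R).toAlgebra
  haveI : IsScalarTower Λ (MvPowerSeries (Fin n) Λ) R :=
    IsScalarTower.of_algebraMap_eq (fun x => (f.commutes x).symm)
  have hmap : (maximalIdeal (MvPowerSeries (Fin n) Λ)).map
      (algebraMap (MvPowerSeries (Fin n) Λ) R) = J := by
    rw [Groth.Agent.Helper14.PowerSeriesComplete.maximalIdeal_eq, Ideal.map_sup, Ideal.map_map,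
      Ideal.map_span, ← Set.range_comp, hJdef]
    congr 1
    · congr 1
      ext x
      exact f.commutes x
    · congr 2
      ext i
      exact hf i
  haveI : IsScalarTower Λ (MvPowerSeries (Fin n) Λ) (ResidueField R) :=
    IsScalarTower.of_algebraMap_eq (fun x => by
      show residue R (algebraMap Λ R x) = residue R (f (algebraMap Λ _ x))
      rw [f.commutes])
  have hfinS : Module.Finite (MvPowerSeries (Fin n) Λ) (ResidueField R) :=
    Module.Finite.of_restrictScalars_finite Λ (MvPowerSeries (Fin n) Λ) (ResidueField R)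
  obtain ⟨q, b, hb⟩ := exists_lift_generators_residue (S := MvPowerSeries (Fin n) Λ) (R := R) hfinS
  obtain ⟨k, hk⟩ := exists_pow_le_of_mem_minimalPrimes J hmin
  haveI : Module.Finite (MvPowerSeries (Fin n) Λ) (R ⧸ J) := by
    refine finite_of_pow_smul_eq_bot' (R := R) b hb k ?_
    rw [eq_bot_iff]
    refine Submodule.smul_le.mpr fun r hr x _ => ?_
    obtain ⟨x, rfl⟩ := Ideal.Quotient.mk_surjective x
    rw [Submodule.mem_bot]
    change Ideal.Quotient.mk J (r * x) = 0
    rw [Ideal.Quotient.eq_zero_iff_mem]
    exact J.mul_mem_right _ (hk hr)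
  haveI : IsHausdorff (maximalIdeal (MvPowerSeries (Fin n) Λ)) R := by
    refine ⟨fun x hx => ?_⟩
    haveI : IsHausdorff (maximalIdeal R) R := inferInstance
    apply IsHausdorff.haus ‹IsHausdorff (maximalIdeal R) R› x
    intro m
    have hxm := hx m
    rw [SModEq.zero] at hxm ⊢
    have hle : (maximalIdeal (MvPowerSeries (Fin n) Λ) ^ m • ⊤ : Submodule _ R) ≤
        (maximalIdeal R ^ m • ⊤ : Submodule R R).restrictScalars (MvPowerSeries (Fin n) Λ) := by
      rw [Ideal.smul_top_eq_map, Ideal.map_pow, hmap]
      intro y hy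
      rw [Submodule.restrictScalars_mem] at hy ⊢
      rw [smul_eq_mul, Ideal.mul_top]
      exact Ideal.pow_right_mono hJle m hy
    exact hle hxm
  haveI := Groth.Agent.Helper14.PowerSeriesComplete.isAdicComplete_maximalIdeal (Fin n) Λ
  have hfin : Module.Finite (MvPowerSeries (Fin n) Λ) R := by
    refine Groth.Agent.Helper1.finite_of_isAdicComplete_of_finite_quotient
      (maximalIdeal (MvPowerSeries (Fin n) Λ)) ?_
    rw [Ideal.smul_top_eq_map, hmap]
    exact Module.Finite.equiv
      (Submodule.Quotient.restrictScalarsEquiv (MvPowerSeries (Fin n) Λ) J).symm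
  refine ⟨f, hf, ?_, hfin, ?_⟩
  swap
  · -- local homomorphism
    refine ⟨fun x hx => ?_⟩
    rw [MvPowerSeries.isUnit_iff_constantCoeff]
    have hsub : x - C (constantCoeff x) ∈ maximalIdeal (MvPowerSeries (Fin n) Λ) := by
      rw [mem_maximalIdeal, mem_nonunits_iff, MvPowerSeries.isUnit_iff_constantCoeff]
      simp
    have hfm : (f : MvPowerSeries (Fin n) Λ →+* R) (x - C (constantCoeff x)) ∈ maximalIdeal R := by
      have : (f : MvPowerSeries (Fin n) Λ →+* R) (x - C (constantCoeff x)) ∈
          (maximalIdeal (MvPowerSeries (Fin n) Λ)).map (algebraMap (MvPowerSeries (Fin n) Λ) R) :=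
        Ideal.mem_map_of_mem _ hsub
      rw [hmap] at this
      exact hJle this
    have hu : IsUnit ((f : MvPowerSeries (Fin n) Λ →+* R) (C (constantCoeff x))) := by
      by_contra hcon
      have hcm : (f : MvPowerSeries (Fin n) Λ →+* R) (C (constantCoeff x)) ∈ maximalIdeal R := hcon
      have hxm : (f : MvPowerSeries (Fin n) Λ →+* R) x ∈ maximalIdeal R := by
        have : (f : MvPowerSeries (Fin n) Λ →+* R) x =
            (f : MvPowerSeries (Fin n) Λ →+* R) (x - C (constantCoeff x)) +
              (f : MvPowerSeries (Fin n) Λ →+* R) (C (constantCoeff x)) := by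
          rw [← map_add, sub_add_cancel]
        rw [this]
        exact Ideal.add_mem _ hfm hcm
      exact hxm hx
    have hu' : IsUnit (algebraMap Λ R (constantCoeff x)) := by
      have : (f : MvPowerSeries (Fin n) Λ →+* R) (C (constantCoeff x)) =
          algebraMap Λ R (constantCoeff x) := f.commutes _
      rwa [this] at hu
    exact IsUnit.of_map (algebraMap Λ R) _ hu'
  -- injectivity
  rw [injective_iff_map_eq_zero]
  intro x hx
  by_contra hne
  have hnzd : x ∈ nonZeroDivisors (MvPowerSeries (Fin n) Λ) := mem_nonZeroDivisors_of_ne_zero hne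
  have h1 := ringKrullDim_quotient_succ_le_of_nonZeroDivisor hnzd
  let g' : MvPowerSeries (Fin n) Λ ⧸ Ideal.span {x} →+* R :=
    Ideal.Quotient.lift _ (f : MvPowerSeries (Fin n) Λ →+* R) (by
      intro a ha
      obtain ⟨b, rfl⟩ := Ideal.mem_span_singleton'.mp ha
      have hx' : (f : MvPowerSeries (Fin n) Λ →+* R) x = 0 := hx
      rw [map_mul, hx', mul_zero])
  have hfint : (f : MvPowerSeries (Fin n) Λ →+* R).IsIntegral :=
    RingHom.Finite.to_isIntegral hfin
  have hg'int : g'.IsIntegral := by
    refine RingHom.IsIntegral.tower_top (Ideal.Quotient.mk (Ideal.span {x})) g' ?_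
    have : g'.comp (Ideal.Quotient.mk (Ideal.span {x})) = (f : MvPowerSeries (Fin n) Λ →+* R) :=
      Ideal.Quotient.lift_comp_mk _ _ _
    rw [this]
    exact hfint
  have h3 := Groth.Agent.Helper21.ID.ringKrullDim_le_of_isIntegral g' hg'int
  obtain ⟨d, hd⟩ : ∃ d : ℕ, ringKrullDim R = d := by
    have h1 := ringKrullDim_ne_top (R := R)
    have h2 := ringKrullDim_ne_bot (R := R)
    obtain ⟨e, he⟩ := WithBot.ne_bot_iff_exists.mp h2
    rw [← he] at h1
    have h3 : e ≠ ⊤ := fun h => h1 (by rw [h]; rfl)
    obtain ⟨d, rfl⟩ := ENat.ne_top_iff_exists.mp h3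
    exact ⟨d, he.symm⟩
  rw [hd] at h3 hdim
  have h4 : ((d : WithBot ℕ∞) + 1) ≤ d := (add_le_add_left h3 1).trans (h1.trans hdim)
  have h5 : ((d + 1 : ℕ) : WithBot ℕ∞) ≤ (d : ℕ) := by exact_mod_cast h4
  have h6 : d + 1 ≤ d := by exact_mod_cast h5
  omega


end G

section Cases

open MvPowerSeries

variable (R : Type u) [CommRing R] [IsDomain R] [IsLocalRing R] [IsNoetherianRing R]
  [IsAdicComplete (maximalIdeal R) R]

lemma range_equivFin_symm {α : Type*} (t : Finset α) :
    Set.range (fun i : Fin t.card => ((t.equivFin.symm i : t) : α)) = (t : Set α) := by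
  ext x
  constructor
  · rintro ⟨i, rfl⟩
    exact (t.equivFin.symm i).2
  · intro hx
    exact ⟨t.equivFin ⟨x, hx⟩, by simp⟩

/-- The equicharacteristic case. -/
theorem exists_of_section (s : ResidueField R →+* R)
    (hs : (residue R).comp s = RingHom.id _) :
    ∃ (n : ℕ) (f : MvPowerSeries (Fin n) (ResidueField R) →+* R), Function.Injective f ∧
      f.Finite ∧ Function.Surjective ((residue R).comp f) := by
  classical
  letI : Algebra (ResidueField R) R := s.toAlgebra
  haveI : IsAdicComplete (maximalIdeal (ResidueField R)) (ResidueField R) :=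
    Groth.Agent.Helper14.CohenLift.isAdicComplete_of_isArtinianRing _
  obtain ⟨t, ht, hcard⟩ :=
    Ideal.exists_finset_card_eq_height_of_isNoetherianRing (maximalIdeal R)
  refine ⟨t.card, ?_⟩
  apply exists_finite_injective (Λ := ResidueField R) (R := R) ?_ t.card
    (fun i => ((t.equivFin.symm i : t) : R))
  · rw [range_equivFin_symm, IsLocalRing.maximalIdeal_eq_bot, Ideal.map_bot, bot_sup_eq]
    exact ht
  · refine (Groth.Agent.Helper5.PSR.ringKrullDim_mvPowerSeries_le (k := ResidueField R)
      t.card).trans ?_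
    rw [← IsLocalRing.maximalIdeal_height_eq_ringKrullDim, ← hcard]
    rfl
  · have : (residue R).comp (algebraMap (ResidueField R) R) = RingHom.id _ := hs
    rw [this]
    exact Function.surjective_id

/-- The mixed characteristic case. -/
theorem exists_of_natCast_ne_zero (p : ℕ) [hp : Fact p.Prime] [CharP (ResidueField R) p]
    (hpR : (p : R) ≠ 0) :
    ∃ (W : Type u) (_ : CommRing W) (n : ℕ) (f : MvPowerSeries (Fin n) W →+* R),
      CAlg.IsCohenRing W ∧ Function.Injective f ∧
      f.Finite ∧ Function.Surjective ((residue R).comp f) := by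
  classical
  obtain ⟨W, _, _, v, hW, hm, hvloc, hvsurj⟩ :=
    Groth.Agent.Helper14.CohenCoeff.exists_cohen_hom (A := R) p
  have hW' := hW
  obtain ⟨hdom, hdvr, hcomp, -, -, -⟩ := hW'
  letI : Algebra W R := v.toAlgebra
  have hpm : (p : R) ∈ maximalIdeal R := by
    rw [← residue_eq_zero_iff, map_natCast]
    exact CharP.cast_eq_zero _ p
  have hI0 : Ideal.span {(p : R)} ≠ ⊤ := by
    intro h
    have : Ideal.span {(p : R)} ≤ maximalIdeal R := by
      rw [Ideal.span_le, Set.singleton_subset_iff]
      exact hpm
    exact (maximalIdeal.isMaximal R).ne_top (top_le_iff.mp (h ▸ this))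
  haveI : Nontrivial (R ⧸ Ideal.span {(p : R)}) := Ideal.Quotient.nontrivial_iff.mpr hI0
  haveI : IsLocalRing (R ⧸ Ideal.span {(p : R)}) :=
    IsLocalRing.of_surjective' (Ideal.Quotient.mk _) Ideal.Quotient.mk_surjective
  obtain ⟨t, ht, hcard⟩ := Ideal.exists_finset_card_eq_height_of_isNoetherianRing
    (maximalIdeal (R ⧸ Ideal.span {(p : R)}))
  have hmk : Function.Surjective (Ideal.Quotient.mk (Ideal.span {(p : R)})) :=
    Ideal.Quotient.mk_surjective
  let g : Fin t.card → R := fun i => Function.surjInv hmk ((t.equivFin.symm i : t) : _)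
  have hg : ∀ i, Ideal.Quotient.mk (Ideal.span {(p : R)}) (g i) = ((t.equivFin.symm i : t) : _) :=
    fun i => Function.surjInv_eq hmk _
  refine ⟨W, inferInstance, t.card, ?_⟩
  suffices h : ∃ f : MvPowerSeries (Fin t.card) W →+* R, Function.Injective f ∧ f.Finite ∧
      Function.Surjective ((residue R).comp f) by
    obtain ⟨f, h1, h2, h3⟩ := h
    exact ⟨f, hW, h1, h2, h3⟩
  apply exists_finite_injective (Λ := W) (R := R) hvsurj t.card g
  · -- minimal prime
    have hJ : (maximalIdeal W).map (algebraMap W R) ⊔ Ideal.span (Set.range g) =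
        (Ideal.span (t : Set (R ⧸ Ideal.span {(p : R)}))).comap
          (Ideal.Quotient.mk (Ideal.span {(p : R)})) := by
      have h1 : Ideal.span (t : Set (R ⧸ Ideal.span {(p : R)})) =
          (Ideal.span (Set.range g)).map (Ideal.Quotient.mk (Ideal.span {(p : R)})) := by
        rw [Ideal.map_span, ← Set.range_comp, ← range_equivFin_symm t]
        congr 2
        ext i
        exact (hg i).symm
      rw [h1, Ideal.comap_map_of_surjective _ hmk, ← RingHom.ker_eq_comap_bot, Ideal.mk_ker, hm,
        Ideal.map_span, Set.image_singleton, map_natCast, sup_comm]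
    rw [hJ]
    have h2 : (maximalIdeal (R ⧸ Ideal.span {(p : R)})).comap
        (Ideal.Quotient.mk (Ideal.span {(p : R)})) = maximalIdeal R := by
      haveI := Ideal.comap_isMaximal_of_surjective (Ideal.Quotient.mk (Ideal.span {(p : R)})) hmk
        (K := maximalIdeal (R ⧸ Ideal.span {(p : R)}))
      exact IsLocalRing.eq_maximalIdeal this
    rw [← h2]
    exact Ideal.minimalPrimes_comap_of_surjective hmk ht
  · -- dimension
    have hY : Ideal.span (Set.range (Fin.cons (p : MvPowerSeries (Fin t.card) W) X :
        Fin (t.card + 1) → MvPowerSeries (Fin t.card) W)) =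
        maximalIdeal (MvPowerSeries (Fin t.card) W) := by
      rw [Groth.Agent.Helper14.PowerSeriesComplete.maximalIdeal_eq, Fin.range_cons,
        Ideal.span_insert, hm, Ideal.map_span, Set.image_singleton, map_natCast]
    have h1 : ringKrullDim (MvPowerSeries (Fin t.card) W) ≤ ((t.card + 1 : ℕ) : WithBot ℕ∞) := by
      refine (ringKrullDim_le_spanFinrank_maximalIdeal _).trans ?_
      rw [← hY]
      have h1 := Submodule.spanFinrank_span_le_ncard_of_finite
        (R := MvPowerSeries (Fin t.card) W) (Set.finite_range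
          (Fin.cons (p : MvPowerSeries (Fin t.card) W) X :
            Fin (t.card + 1) → MvPowerSeries (Fin t.card) W))
      have h2 := Groth.Agent.Lead.RLR.ncard_range_le
        (Fin.cons (p : MvPowerSeries (Fin t.card) W) X :
            Fin (t.card + 1) → MvPowerSeries (Fin t.card) W)
      exact_mod_cast h1.trans h2
    refine h1.trans ?_
    have hnzd : (p : R) ∈ nonZeroDivisors R := mem_nonZeroDivisors_of_ne_zero hpR
    rw [← ringKrullDim_quotient_span_singleton_succ_eq_ringKrullDim_of_mem_nonZeroDivisors hnzd hpm,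
      ← IsLocalRing.maximalIdeal_height_eq_ringKrullDim, ← hcard]
    push_cast
    rfl

end Cases

/-- Cohen structure theorem for complete Noetherian local domains. -/
theorem exists_powerSeries_finite_injective (R : Type u) [CommRing R] [IsDomain R] [IsLocalRing R]
    [IsNoetherianRing R] [IsAdicComplete (maximalIdeal R) R] :
    ∃ (Λ : Type u) (_ : CommRing Λ) (n : ℕ) (f : MvPowerSeries (Fin n) Λ →+* R),
      (IsField Λ ∨ CAlg.IsCohenRing Λ) ∧ Function.Injective f ∧ f.Finite ∧
      Function.Surjective ((IsLocalRing.residue R).comp f) := by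
  classical
  have hfield : ∀ s : ResidueField R →+* R, (residue R).comp s = RingHom.id _ →
      ∃ (Λ : Type u) (_ : CommRing Λ) (n : ℕ) (f : MvPowerSeries (Fin n) Λ →+* R),
      (IsField Λ ∨ CAlg.IsCohenRing Λ) ∧ Function.Injective f ∧ f.Finite ∧
      Function.Surjective ((IsLocalRing.residue R).comp f) := by
    intro s hs
    obtain ⟨n, f, h1, h2, h3⟩ := exists_of_section R s hs
    exact ⟨ResidueField R, inferInstance, n, f, Or.inl (Field.toIsField _), h1, h2, h3⟩
  obtain ⟨p, hpc⟩ := CharP.exists (ResidueField R)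
  rcases Nat.eq_zero_or_pos p with rfl | hpos
  · haveI : CharZero (ResidueField R) := CharP.charP_to_charZero _
    obtain ⟨s, hs⟩ := Groth.Agent.Helper14.CohenCoeff.exists_coefficient_field (A := R)
    exact hfield s hs
  · have hprime : p.Prime := by
      rcases CharP.char_is_prime_or_zero (ResidueField R) p with hp | hp
      · exact hp
      · omega
    haveI : Fact p.Prime := ⟨hprime⟩
    by_cases hpR : (p : R) = 0
    · obtain ⟨s, hs⟩ :=
        Groth.Agent.Helper14.CohenCoeff.exists_coefficient_field_of_char (A := R) p hpR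
      exact hfield s hs
    · obtain ⟨W, _, n, f, hW, h1, h2, h3⟩ := exists_of_natCast_ne_zero R p hpR
      exact ⟨W, inferInstance, n, f, Or.inr hW, h1, h2, h3⟩

/-- EGA 0_IV 19.8.9-type statement: complete local domains with finite residue extension over a
field `k₀` are finite over a power series ring over `k₀`. -/
theorem exists_finite_injective_of_field {k₀ A : Type u} [Field k₀] [CommRing A] [IsDomain A]
    [IsLocalRing A] [IsNoetherianRing A] [IsAdicComplete (maximalIdeal A) A] [Algebra k₀ A]
    [Module.Finite k₀ (ResidueField A)] :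
    ∃ (n : ℕ) (w : MvPowerSeries (Fin n) k₀ →ₐ[k₀] A), Function.Injective w ∧
      IsLocalHom w.toRingHom ∧ w.toRingHom.Finite := by
  classical
  haveI : IsAdicComplete (maximalIdeal k₀) k₀ :=
    Groth.Agent.Helper14.CohenLift.isAdicComplete_of_isArtinianRing _
  obtain ⟨t, ht, hcard⟩ :=
    Ideal.exists_finset_card_eq_height_of_isNoetherianRing (maximalIdeal A)
  obtain ⟨f, -, h1, h2, h3⟩ := exists_finite_injective' (Λ := k₀) (R := A) inferInstance t.card
    (fun i => ((t.equivFin.symm i : t) : A)) (by
      rw [range_equivFin_symm, IsLocalRing.maximalIdeal_eq_bot, Ideal.map_bot, bot_sup_eq]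
      exact ht) (by
      refine (Groth.Agent.Helper5.PSR.ringKrullDim_mvPowerSeries_le (k := k₀) t.card).trans ?_
      rw [← IsLocalRing.maximalIdeal_height_eq_ringKrullDim, ← hcard]
      rfl)
  exact ⟨t.card, f, h1, h3, h2⟩

end Groth.Agent.Helper14.CohenStructure
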