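import Mathlib

set_option autoImplicit false
set_option linter.style.haveILetI false
universe u v w
namespace Groth.Agent.Helper14

/-- Finiteness of the integral closure passes to localizations of the base. -/
theorem finite_integralClosure_of_isLocalization {R : Type u} [CommRing R] (M : Submonoid R)
    (S : Type v) [CommRing S] [Algebra R S] [IsLocalization M S]
    (L : Type w) [CommRing L] [Algebra R L] [Algebra S L] [IsScalarTower R S L]
    (h : Module.Finite R (integralClosure R L)) : Module.Finite S (integralClosure S L) := by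
  classical
  have h' : (Subalgebra.toSubmodule (integralClosure R L)).FG :=
    Module.Finite.iff_fg.1 (show Module.Finite R (Subalgebra.toSubmodule (integralClosure R L)) from h)
  show Module.Finite S (Subalgebra.toSubmodule (integralClosure S L))
  rw [Module.Finite.iff_fg]
  obtain ⟨G, hG⟩ := h'
  refine ⟨G, ?_⟩
  apply le_antisymm
  · rw [Submodule.span_le]
    intro g hg
    have hg' : g ∈ Subalgebra.toSubmodule (integralClosure R L) := by
      rw [← hG]; exact Submodule.subset_span hg
    have : IsIntegral R g := hg'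
    exact this.tower_top
  · intro z hz
    have hz' : IsIntegral S z := hz
    obtain ⟨m, hm⟩ := IsIntegral.exists_multiple_integral_of_isLocalization M (Rₘ := S) z hz'
    have h1 : m • z ∈ Subalgebra.toSubmodule (integralClosure R L) := hm
    rw [← hG] at h1
    have h2 : m • z ∈ Submodule.span S (G : Set L) := Submodule.span_le_restrictScalars R S _ h1
    have h3 : z = (IsLocalization.mk' S (1 : R) m) • (m • z) := by
      rw [Submonoid.smul_def, ← algebraMap_smul S (m : R) z, smul_smul, IsLocalization.mk'_spec,
        map_one, one_smul]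
    rw [h3]
    exact Submodule.smul_mem _ _ h2

/-- Finiteness of the integral closure can be checked on a finite cover by principal opens. -/
theorem finite_integralClosure_of_span_eq_top {R : Type u} [CommRing R]
    {ι : Type v} [Finite ι] (f : ι → R) (hf : Ideal.span (Set.range f) = ⊤)
    (Rf : ι → Type w) [∀ i, CommRing (Rf i)] [∀ i, Algebra R (Rf i)]
    [∀ i, IsLocalization.Away (f i) (Rf i)]
    (L : Type w) [CommRing L] [Algebra R L] [∀ i, Algebra (Rf i) L] [∀ i, IsScalarTower R (Rf i) L]
    (h : ∀ i, Module.Finite (Rf i) (integralClosure (Rf i) L)) : Module.Finite R (integralClosure R L) := by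
  classical
  cases nonempty_fintype ι
  show Module.Finite R (Subalgebra.toSubmodule (integralClosure R L))
  rw [Module.Finite.iff_fg]
  have h' : ∀ i, (Subalgebra.toSubmodule (integralClosure (Rf i) L)).FG := fun i =>
    Module.Finite.iff_fg.1 (show Module.Finite (Rf i) (Subalgebra.toSubmodule (integralClosure (Rf i) L)) from h i)
  choose G hG using h'
  -- scale generators to be integral over R
  have hscale : ∀ i, ∀ g : L, g ∈ G i → ∃ n : ℕ, IsIntegral R ((f i) ^ n • g) := by
    intro i g hg
    have hg' : g ∈ Subalgebra.toSubmodule (integralClosure (Rf i) L) := by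
      rw [← hG i]; exact Submodule.subset_span hg
    have hint : IsIntegral (Rf i) g := hg'
    obtain ⟨⟨_, n, rfl⟩, hm⟩ := IsIntegral.exists_multiple_integral_of_isLocalization
      (Submonoid.powers (f i)) (Rₘ := Rf i) g hint
    exact ⟨n, hm⟩
  choose n hn using hscale
  let G' : Finset L := Finset.univ.biUnion fun i => (G i).attach.image fun g => (f i) ^ (n i g.1 g.2) • g.1
  have hG'mem : ∀ i g (hg : g ∈ G i), (f i) ^ (n i g hg) • g ∈ G' := by
    intro i g hg
    refine Finset.mem_biUnion.2 ⟨i, Finset.mem_univ _, Finset.mem_image.2 ⟨⟨g, hg⟩, Finset.mem_attach _ _, rfl⟩⟩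
  refine ⟨G', ?_⟩
  apply le_antisymm
  · rw [Submodule.span_le]
    intro y hy
    obtain ⟨i, -, hy⟩ := Finset.mem_biUnion.1 (Finset.mem_coe.1 hy)
    obtain ⟨g, -, rfl⟩ := Finset.mem_image.1 hy
    exact hn i g.1 g.2
  · intro z hz
    have hz' : IsIntegral R z := hz
    refine Submodule.mem_of_span_eq_top_of_smul_pow_mem _ (Set.range f) hf z ?_
    rintro ⟨_, i, rfl⟩
    have hzi : z ∈ Submodule.span (Rf i) (G i : Set L) := by
      rw [hG i]
      exact (hz'.tower_top : IsIntegral (Rf i) z)
    show ∃ N : ℕ, (f i) ^ N • z ∈ Submodule.span R (G' : Set L)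
    clear hz hz'
    induction hzi using Submodule.span_induction with
    | mem g hg => exact ⟨n i g hg, Submodule.subset_span (Finset.mem_coe.2 (hG'mem i g hg))⟩
    | zero => exact ⟨0, by simp⟩
    | add y₁ y₂ _ _ h₁ h₂ =>
      obtain ⟨N₁, h₁⟩ := h₁
      obtain ⟨N₂, h₂⟩ := h₂
      refine ⟨N₁ + N₂, ?_⟩
      rw [smul_add]
      refine Submodule.add_mem _ ?_ ?_
      · rw [add_comm, pow_add, mul_smul]
        exact Submodule.smul_mem _ _ h₁
      · rw [pow_add, mul_smul]
        exact Submodule.smul_mem _ _ h₂
    | smul a y _ hy =>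
      obtain ⟨N, hN⟩ := hy
      obtain ⟨r, ⟨_, k, rfl⟩, rfl⟩ := IsLocalization.exists_mk'_eq (Submonoid.powers (f i)) a
      refine ⟨k + N, ?_⟩
      have : (f i) ^ (k + N) • (IsLocalization.mk' (Rf i) r
          (⟨(f i) ^ k, ⟨k, rfl⟩⟩ : Submonoid.powers (f i)) • y) = r • ((f i) ^ N • y) := by
        have e : algebraMap R (Rf i) (f i ^ k) * IsLocalization.mk' (Rf i) r
            (⟨(f i) ^ k, ⟨k, rfl⟩⟩ : Submonoid.powers (f i)) = algebraMap R (Rf i) r :=
          IsLocalization.mk'_spec' (Rf i) r (⟨(f i) ^ k, ⟨k, rfl⟩⟩ : Submonoid.powers (f i))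
        rw [pow_add, mul_comm, mul_smul, ← algebraMap_smul (Rf i) ((f i) ^ k), smul_smul,
          e, algebraMap_smul, smul_comm]
      rw [this]
      exact Submodule.smul_mem _ _ hN

end Groth.Agent.Helper14
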