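import Mathlib
import Groth.Agent.Lib.Helper14.AlgClosedTensor
import Groth.Agent.Lib.Helper14.GeomRedTFAE

/-!
# Geometric irreducibility / connectedness: purely inseparable and directed-union steps (helper14)
-/

set_option autoImplicit false

namespace Groth.Agent.Helper14.GeomIrred

open TensorProduct Function Groth.Agent.Helper14 Groth.Agent.Helper14.AlgClosedTensor

universe u

/-- Primality of the nilradical descends along injective ring homomorphisms. -/
theorem isPrime_nilradical_of_injective {A B : Type*} [CommRing A] [CommRing B] (φ : A →+* B)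
    (hφ : Injective φ) (hB : (nilradical B).IsPrime) : (nilradical A).IsPrime := by
  have : nilradical A = (nilradical B).comap φ := by
    ext x
    rw [Ideal.mem_comap, mem_nilradical, mem_nilradical, IsNilpotent.map_iff hφ]
  rw [this]
  exact Ideal.IsPrime.comap φ

theorem irreducibleSpace_of_injective {A B : Type*} [CommRing A] [CommRing B] (φ : A →+* B)
    (hφ : Injective φ) [hB : IrreducibleSpace (PrimeSpectrum B)] :
    IrreducibleSpace (PrimeSpectrum A) := by
  rw [PrimeSpectrum.irreducibleSpace_iff_isPrime_nilradical] at *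
  exact isPrime_nilradical_of_injective φ hφ hB

section PI

variable {F : Type u} [Field F] (L : Type u) [Field L] [Algebra F L] [IsPurelyInseparable F L]
  (R : Type u) [CommRing R] [Algebra F R]

theorem exists_pow_eq_one_tmul (q : ℕ) [ExpChar F q] (x : L ⊗[F] R) :
    ∃ (n : ℕ) (a : R), x ^ q ^ n = (1 : L) ⊗ₜ[F] a := by
  rcases subsingleton_or_nontrivial R with hR | hR
  · refine ⟨0, 0, ?_⟩
    have h0 : ∀ z : L ⊗[F] R, z = 0 := by
      intro z
      induction z using TensorProduct.induction_on with
      | zero => rfl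
      | tmul c r => rw [Subsingleton.elim r 0, TensorProduct.tmul_zero]
      | add x y hx hy => rw [hx, hy, add_zero]
    rw [h0 (x ^ q ^ 0), TensorProduct.tmul_zero]
  have : Nontrivial (L ⊗[F] R) := nontrivial_tensor (k := F) R L
  have : ExpChar (L ⊗[F] R) q :=
    expChar_of_injective_algebraMap (algebraMap F (L ⊗[F] R)).injective q
  have hpow : ∀ (y : L ⊗[F] R) (n m : ℕ), n ≤ m →
      (∃ a : R, y ^ q ^ n = (1 : L) ⊗ₜ[F] a) → ∃ a : R, y ^ q ^ m = (1 : L) ⊗ₜ[F] a := by
    intro y n m hnm hy
    obtain ⟨d, rfl⟩ := Nat.exists_eq_add_of_le hnm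
    obtain ⟨a, ha⟩ := hy
    refine ⟨a ^ q ^ d, ?_⟩
    rw [pow_add, pow_mul, ha, Algebra.TensorProduct.tmul_pow, one_pow]
  induction x using TensorProduct.induction_on with
  | zero => exact ⟨0, 0, by simp⟩
  | tmul c r =>
    obtain ⟨n, a, ha⟩ := IsPurelyInseparable.pow_mem F q c
    refine ⟨n, a • r ^ q ^ n, ?_⟩
    rw [Algebra.TensorProduct.tmul_pow, ← ha,
      TensorProduct.tmul_smul, TensorProduct.smul_tmul', Algebra.algebraMap_eq_smul_one]
  | add x y hx hy =>
    obtain ⟨n, hn⟩ := hx
    obtain ⟨m, hm⟩ := hy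
    obtain ⟨a, ha⟩ := hpow x n _ (le_max_left n m) hn
    obtain ⟨b, hb⟩ := hpow y m _ (le_max_right n m) hm
    refine ⟨max n m, a + b, ?_⟩
    rw [add_pow_expChar_pow, ha, hb, TensorProduct.tmul_add]

omit [IsPurelyInseparable F L] in
theorem one_tmul_injective : Injective (fun a : R => (1 : L) ⊗ₜ[F] a) :=
  Algebra.TensorProduct.includeRight_injective (R := F) (A := L) (B := R)
    (algebraMap F L).injective

omit [IsPurelyInseparable F L] in
theorem isNilpotent_one_tmul_iff (a : R) : IsNilpotent ((1 : L) ⊗ₜ[F] a) ↔ IsNilpotent a :=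
  IsNilpotent.map_iff (f := (Algebra.TensorProduct.includeRight : R →ₐ[F] L ⊗[F] R))
    (Algebra.TensorProduct.includeRight_injective (algebraMap F L).injective)

/-- A purely inseparable base field extension preserves primality of the nilradical. -/
theorem isPrime_nilradical_tensor_of_purelyInseparable (hR : (nilradical R).IsPrime) :
    (nilradical (L ⊗[F] R)).IsPrime := by
  have hnt : Nontrivial R := by
    by_contra h
    rw [not_nontrivial_iff_subsingleton] at h
    exact hR.ne_top (Ideal.eq_top_iff_one _ |>.mpr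
      (by rw [Subsingleton.elim (1 : R) 0]; exact zero_mem _))
  have := nontrivial_tensor (k := F) R L
  obtain ⟨q, hq⟩ := ExpChar.exists F
  rw [Ideal.isPrime_iff]
  refine ⟨?_, ?_⟩
  · rw [Ideal.ne_top_iff_one, mem_nilradical]
    exact not_isNilpotent_one
  · intro x y hxy
    rw [mem_nilradical] at hxy
    obtain ⟨n, a, ha⟩ := exists_pow_eq_one_tmul L R q x
    obtain ⟨m, b, hb⟩ := exists_pow_eq_one_tmul L R q y
    have hq0 : ∀ j, q ^ j ≠ 0 := fun j => pow_ne_zero _ (expChar_pos F q).ne'
    have hab : IsNilpotent (a * b) := by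
      rw [← isNilpotent_one_tmul_iff (F := F) L R]
      have h1 : (1 : L) ⊗ₜ[F] (a * b) = x ^ q ^ n * y ^ q ^ m := by
        rw [ha, hb, Algebra.TensorProduct.tmul_mul_tmul, one_mul]
      rw [h1]
      obtain ⟨i, hi⟩ := Nat.exists_eq_succ_of_ne_zero (hq0 n)
      obtain ⟨j, hj⟩ := Nat.exists_eq_succ_of_ne_zero (hq0 m)
      rw [hi, hj]
      have h2 : x ^ (i + 1) * y ^ (j + 1) = (x * y) * (x ^ i * y ^ j) := by ring
      rw [h2]
      exact (Commute.all _ _).isNilpotent_mul_right hxy
    rcases hR.mem_or_mem (mem_nilradical.mpr hab) with h | h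
    · left
      rw [mem_nilradical] at h ⊢
      rw [← isNilpotent_one_tmul_iff (F := F) L R, ← ha] at h
      exact (IsNilpotent.pow_iff_pos (hq0 n)).mp h
    · right
      rw [mem_nilradical] at h ⊢
      rw [← isNilpotent_one_tmul_iff (F := F) L R, ← hb] at h
      exact (IsNilpotent.pow_iff_pos (hq0 m)).mp h

/-- A purely inseparable base field extension preserves connectedness of the spectrum. -/
theorem connectedSpace_tensor_of_purelyInseparable [ConnectedSpace (PrimeSpectrum R)] :
    ConnectedSpace (PrimeSpectrum (L ⊗[F] R)) := by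
  obtain ⟨hnt, hid⟩ := (connectedSpace_primeSpectrum_iff (A := R)).mp ‹_›
  obtain ⟨q, hq⟩ := ExpChar.exists F
  rw [connectedSpace_primeSpectrum_iff]
  refine ⟨nontrivial_tensor (k := F) R L, ?_⟩
  intro e he
  obtain ⟨n, a, ha⟩ := exists_pow_eq_one_tmul L R q e
  have hq0 : q ^ n ≠ 0 := pow_ne_zero _ (expChar_pos F q).ne'
  obtain ⟨i, hi⟩ := Nat.exists_eq_succ_of_ne_zero hq0
  rw [hi, he.pow_succ_eq] at ha
  have ha2 : IsIdempotentElem a := by
    apply one_tmul_injective (F := F) L R
    show (1 : L) ⊗ₜ[F] (a * a) = (1 : L) ⊗ₜ[F] a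
    have : (1 : L) ⊗ₜ[F] (a * a) = ((1 : L) ⊗ₜ[F] a) * ((1 : L) ⊗ₜ[F] a) := by
      rw [Algebra.TensorProduct.tmul_mul_tmul, one_mul]
    rw [this, ← ha]
    exact he
  rcases hid a ha2 with h | h
  · left; rw [ha, h, TensorProduct.tmul_zero]
  · right; rw [ha, h]; rfl

end PI


section steps

variable {k : Type u} [Field k] (R : Type u) [CommRing R] [Algebra k R]

theorem exists_map_eq_of_le_range {K : Type u} [CommRing K] [Algebra k K] (A : Subalgebra k K)
    {E : Type u} [CommRing E] [Algebra k E] (j : E →ₐ[k] K) (h : ∀ a ∈ A, ∃ e, j e = a)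
    (x : A ⊗[k] R) :
    ∃ w, Algebra.TensorProduct.map j (AlgHom.id k R) w = incl A R x := by
  induction x using TensorProduct.induction_on with
  | zero => exact ⟨0, by simp⟩
  | tmul a r =>
    obtain ⟨e, he⟩ := h a a.2
    exact ⟨e ⊗ₜ r, by simp [he]⟩
  | add x y hx hy =>
    obtain ⟨w, hw⟩ := hx
    obtain ⟨v, hv⟩ := hy
    exact ⟨w + v, by rw [map_add, map_add, hw, hv]⟩

theorem map_injective {E K : Type u} [Field E] [CommRing K] [Nontrivial K] [Algebra k E]
    [Algebra k K] (j : E →ₐ[k] K) :
    Injective (Algebra.TensorProduct.map j (AlgHom.id k R)) :=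
  Module.Flat.rTensor_preserves_injective_linearMap (M := R) j.toLinearMap j.injective

/-- Step (2) ⇒ (3): irreducibility passes to separable algebraic extensions from the finite
separable ones. -/
theorem isPrime_nilradical_of_forall_finite_separable (K : Type u) [Field K] [Algebra k K]
    [Algebra.IsSeparable k K]
    (h2 : ∀ (k' : Type u) [Field k'] [Algebra k k'] [Module.Finite k k']
      [Algebra.IsSeparable k k'], IrreducibleSpace (PrimeSpectrum (k' ⊗[k] R))) :
    (nilradical (K ⊗[k] R)).IsPrime := by
  have hnt : Nontrivial R := by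
    have h := h2 k
    rw [PrimeSpectrum.irreducibleSpace_iff_isPrime_nilradical] at h
    by_contra hsub
    rw [not_nontrivial_iff_subsingleton] at hsub
    apply h.ne_top
    rw [Ideal.eq_top_iff_one]
    have : (1 : k ⊗[k] R) = 0 := by
      rw [Algebra.TensorProduct.one_def, Subsingleton.elim (1 : R) 0, TensorProduct.tmul_zero]
    rw [this]
    exact zero_mem _
  have := nontrivial_tensor (k := k) R K
  rw [Ideal.isPrime_iff]
  refine ⟨?_, ?_⟩
  · rw [Ideal.ne_top_iff_one, mem_nilradical]
    exact not_isNilpotent_one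
  · intro x y hxy
    rw [mem_nilradical] at hxy
    obtain ⟨A, ⟨s, hs⟩, ⟨x₀, hx₀⟩, ⟨y₀, hy₀⟩⟩ := exists_fg_mem_range₂ x y
    change incl A R x₀ = x at hx₀
    change incl A R y₀ = y at hy₀
    subst hx₀ hy₀
    let E := IntermediateField.adjoin k (s : Set K)
    have hfd : FiniteDimensional k E :=
      IntermediateField.finiteDimensional_adjoin (fun x _ => Algebra.IsIntegral.isIntegral x)
    have hAE : ∀ a ∈ A, ∃ e : E, E.val e = a := by
      intro a ha
      have hle : A ≤ E.toSubalgebra := by
        rw [← hs, Algebra.adjoin_le_iff]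
        intro a ha
        exact IntermediateField.subset_adjoin k _ ha
      exact ⟨⟨a, hle ha⟩, rfl⟩
    obtain ⟨x', hx'⟩ := exists_map_eq_of_le_range R A E.val hAE x₀
    obtain ⟨y', hy'⟩ := exists_map_eq_of_le_range R A E.val hAE y₀
    rw [← hx', ← hy'] at hxy ⊢
    have hE := h2 E
    rw [PrimeSpectrum.irreducibleSpace_iff_isPrime_nilradical] at hE
    have hinj := map_injective (k := k) R E.val
    rw [← map_mul, IsNilpotent.map_iff hinj] at hxy
    rcases hE.mem_or_mem (mem_nilradical.mpr hxy) with h | h
    · left; exact mem_nilradical.mpr ((mem_nilradical.mp h).map _)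
    · right; exact mem_nilradical.mpr ((mem_nilradical.mp h).map _)

/-- Step (3) ⇒ (4). -/
theorem isPrime_nilradical_algebraicClosure
    (h3 : (nilradical (SeparableClosure k ⊗[k] R)).IsPrime) :
    (nilradical (AlgebraicClosure k ⊗[k] R)).IsPrime := by
  have h := isPrime_nilradical_tensor_of_purelyInseparable (F := SeparableClosure k)
    (AlgebraicClosure k) (SeparableClosure k ⊗[k] R) h3
  let e := Algebra.TensorProduct.cancelBaseChange k (SeparableClosure k) (SeparableClosure k)
    (AlgebraicClosure k) R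
  exact isPrime_nilradical_of_injective (e.symm : _ →+* _) e.symm.injective h

/-- Step (4) ⇒ (1). -/
theorem isPrime_nilradical_of_algebraicClosure
    (h4 : (nilradical (AlgebraicClosure k ⊗[k] R)).IsPrime)
    (k' : Type u) [Field k'] [Algebra k k'] : (nilradical (k' ⊗[k] R)).IsPrime := by
  let φ : AlgebraicClosure k →ₐ[k] AlgebraicClosure k' := IsAlgClosed.lift
  let _ : Algebra (AlgebraicClosure k) (AlgebraicClosure k') := φ.toRingHom.toAlgebra
  have : IsScalarTower k (AlgebraicClosure k) (AlgebraicClosure k') :=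
    IsScalarTower.of_algebraMap_eq (fun x => (φ.commutes x).symm)
  have h := isPrime_nilradical_tensor (k := AlgebraicClosure k) (AlgebraicClosure k ⊗[k] R)
    (AlgebraicClosure k') h4
  let e := Algebra.TensorProduct.cancelBaseChange k (AlgebraicClosure k) (AlgebraicClosure k)
    (AlgebraicClosure k') R
  have h' : (nilradical (AlgebraicClosure k' ⊗[k] R)).IsPrime :=
    isPrime_nilradical_of_injective (e.symm : _ →+* _) e.symm.injective h
  exact isPrime_nilradical_of_injective
    (Algebra.TensorProduct.map (IsScalarTower.toAlgHom k k' (AlgebraicClosure k'))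
      (AlgHom.id k R) : _ →+* _)
    (map_injective (k := k) R _) h'

/-- A finitely generated subalgebra of an algebraic extension lies in a finite subextension;
domain version of the directed union step. -/
theorem isDomain_of_forall_finite (K : Type u) [Field K] [Algebra k K] [Algebra.IsAlgebraic k K]
    (h2 : ∀ (k' : Type u) [Field k'] [Algebra k k'] [Module.Finite k k'], IsDomain (k' ⊗[k] R)) :
    IsDomain (K ⊗[k] R) := by
  have hnt : Nontrivial R := by
    have h := h2 k
    by_contra hsub
    rw [not_nontrivial_iff_subsingleton] at hsub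
    have : (1 : k ⊗[k] R) = 0 := by
      rw [Algebra.TensorProduct.one_def, Subsingleton.elim (1 : R) 0, TensorProduct.tmul_zero]
    exact one_ne_zero this
  have := nontrivial_tensor (k := k) R K
  have : NoZeroDivisors (K ⊗[k] R) := by
    refine ⟨fun {x y} hxy => ?_⟩
    obtain ⟨A, ⟨s, hs⟩, ⟨x₀, hx₀⟩, ⟨y₀, hy₀⟩⟩ := exists_fg_mem_range₂ x y
    change incl A R x₀ = x at hx₀
    change incl A R y₀ = y at hy₀
    subst hx₀ hy₀
    let E := IntermediateField.adjoin k (s : Set K)
    have hfd : FiniteDimensional k E :=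
      IntermediateField.finiteDimensional_adjoin
        (fun x _ => (Algebra.IsAlgebraic.isAlgebraic x).isIntegral)
    have hAE : ∀ a ∈ A, ∃ e : E, E.val e = a := by
      intro a ha
      have hle : A ≤ E.toSubalgebra := by
        rw [← hs, Algebra.adjoin_le_iff]
        intro a ha
        exact IntermediateField.subset_adjoin k _ ha
      exact ⟨⟨a, hle ha⟩, rfl⟩
    obtain ⟨x', hx'⟩ := exists_map_eq_of_le_range R A E.val hAE x₀
    obtain ⟨y', hy'⟩ := exists_map_eq_of_le_range R A E.val hAE y₀
    rw [← hx', ← hy'] at hxy ⊢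
    have hE := h2 E
    have hinj := map_injective (k := k) R E.val
    rw [← map_mul, map_eq_zero_iff _ hinj] at hxy
    rcases mul_eq_zero.mp hxy with h | h
    · left; rw [h, map_zero]
    · right; rw [h, map_zero]
  exact NoZeroDivisors.to_isDomain _

/-- If `k̄ ⊗ R` is a domain then `k' ⊗ R` is a domain for every field extension `k'/k`. -/
theorem isDomain_of_algebraicClosure [h4 : IsDomain (AlgebraicClosure k ⊗[k] R)]
    (k' : Type u) [Field k'] [Algebra k k'] : IsDomain (k' ⊗[k] R) := by
  have hgr : Algebra.IsGeometricallyReduced k R :=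
    (Algebra.isGeometricallyReduced_field_iff k R).mpr inferInstance
  have hred : IsReduced (k' ⊗[k] R) := isReduced_tensor_of_isGeometricallyReduced k'
  have h4' : (nilradical (AlgebraicClosure k ⊗[k] R)).IsPrime := by
    rw [nilradical_eq_zero]
    exact Ideal.isPrime_bot
  have hp := isPrime_nilradical_of_algebraicClosure R h4' k'
  rw [nilradical_eq_zero] at hp
  exact IsDomain.of_bot_isPrime _

end steps

end Groth.Agent.Helper14.GeomIrred
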