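import Mathlib
import Groth.Agent.Lib.Helper1.LocalCriterion

/-!
# Lifting étaleness along nilpotent thickenings (helper14)

If `A' → A` and `B' → B` are surjections with `ker(B' → B) = ker(A' → A) B'`, the kernel of
`A' → A` is nilpotent, `B'` is flat over `A'` and `A → B` is étale, then `A' → B'` is étale.
-/

set_option autoImplicit false

namespace Groth.Agent.Helper14.SqZeroEtale

open TensorProduct Function

universe u

section Nak

variable {A : Type*} [CommRing A] {M : Type*} [AddCommGroup M] [Module A M]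

/-- Nakayama for a nilpotent ideal, no finiteness needed. -/
theorem eq_top_of_sup_smul_eq_top (I : Ideal A) (hI : IsNilpotent I) (N : Submodule A M)
    (h : N ⊔ I • (⊤ : Submodule A M) = ⊤) : N = ⊤ := by
  have key : ∀ n : ℕ, N ⊔ (I ^ n) • (⊤ : Submodule A M) = ⊤ := by
    intro n
    induction n with
    | zero => simp
    | succ n ih =>
      rw [eq_top_iff]
      calc (⊤ : Submodule A M) = N ⊔ (I ^ n) • (⊤ : Submodule A M) := ih.symm
        _ = N ⊔ (I ^ n) • (N ⊔ I • (⊤ : Submodule A M)) := by rw [h]
        _ = N ⊔ ((I ^ n) • N ⊔ (I ^ n) • (I • (⊤ : Submodule A M))) := by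
            rw [Submodule.smul_sup]
        _ ≤ N ⊔ (I ^ (n + 1)) • (⊤ : Submodule A M) := by
            apply sup_le le_sup_left
            apply sup_le
            · exact le_trans Submodule.smul_le_right le_sup_left
            · rw [← Submodule.smul_assoc, smul_eq_mul, ← pow_succ]
              exact le_sup_right
  obtain ⟨n, hn⟩ := hI
  have := key n
  rw [hn] at this
  simpa using this

theorem subsingleton_of_smul_top_eq_top (I : Ideal A) (hI : IsNilpotent I)
    (h : I • (⊤ : Submodule A M) = ⊤) : Subsingleton M := by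
  have := eq_top_of_sup_smul_eq_top I hI (⊥ : Submodule A M) (by rw [bot_sup_eq, h])
  exact (Submodule.subsingleton_iff A).mp (subsingleton_of_bot_eq_top this)

theorem le_of_le_sup_smul (I : Ideal A) (hI : IsNilpotent I) (N F : Submodule A M)
    (h : N ≤ F ⊔ I • N) : N ≤ F := by
  obtain ⟨k, hk⟩ := hI
  have key : ∀ j : ℕ, N ≤ F ⊔ I ^ j • N := by
    intro j
    induction j with
    | zero => simp
    | succ j ih =>
      calc N ≤ F ⊔ I • N := h
        _ ≤ F ⊔ I • (F ⊔ I ^ j • N) := sup_le_sup_left (Submodule.smul_mono le_rfl ih) _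
        _ ≤ F ⊔ I ^ (j + 1) • N := by
          rw [Submodule.smul_sup, ← mul_smul, ← pow_succ']
          exact sup_le le_sup_left
            (sup_le (le_sup_of_le_left Submodule.smul_le_right) le_sup_right)
  have := key k
  rw [hk, Ideal.zero_eq_bot, Submodule.bot_smul, sup_bot_eq] at this
  exact this

theorem exists_sum_of_mem_smul_top (I : Ideal A) (x : M) (h : x ∈ I • (⊤ : Submodule A M)) :
    ∃ (ι : Type) (_ : Fintype ι) (b : ι → A) (s : ι → M), (∀ i, b i ∈ I) ∧ x = ∑ i, b i • s i := by
  refine Submodule.smul_induction_on h ?_ ?_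
  · intro r hr n _
    exact ⟨Unit, inferInstance, fun _ => r, fun _ => n, fun _ => hr, by simp⟩
  · rintro x y ⟨ι₁, _, b₁, s₁, hb₁, h₁⟩ ⟨ι₂, _, b₂, s₂, hb₂, h₂⟩
    refine ⟨ι₁ ⊕ ι₂, inferInstance, Sum.elim b₁ b₂, Sum.elim s₁ s₂, ?_, ?_⟩
    · rintro (i | i)
      · exact hb₁ i
      · exact hb₂ i
    · rw [Fintype.sum_sum_type, h₁, h₂]
      simp

/-- If `g : M → N` is surjective with `N` flat then `ker g ∩ I M = I ker g`. -/
theorem mem_smul_ker_of_flat {N : Type*} [AddCommGroup N] [Module A N] [Module.Flat A N]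
    (g : M →ₗ[A] N) (hg : Surjective g) (I : Ideal A) (d : M) (hdK : g d = 0)
    (hd : d ∈ I • (⊤ : Submodule A M)) : d ∈ I • LinearMap.ker g := by
  classical
  obtain ⟨ι, _, a, p, ha, hsum⟩ := exists_sum_of_mem_smul_top I d hd
  have hrel : ∑ i, a i • g (p i) = 0 := by
    simp_rw [← map_smul]
    rw [← map_sum, ← hsum]
    exact hdK
  obtain ⟨k, α, y, hx, hα⟩ := Module.Flat.isTrivialRelation_of_sum_smul_eq_zero hrel
  choose y' hy' using fun j => hg (y j)
  have hκ : ∀ i, p i - ∑ j, α i j • y' j ∈ LinearMap.ker g := by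
    intro i
    rw [LinearMap.mem_ker, map_sub, map_sum]
    simp_rw [map_smul, hy']
    rw [← hx i]
    exact sub_self _
  have hd2 : d = ∑ i, a i • (p i - ∑ j, α i j • y' j) := by
    simp_rw [smul_sub, Finset.sum_sub_distrib, Finset.smul_sum, smul_smul]
    rw [Finset.sum_comm]
    simp_rw [← Finset.sum_smul, hα, zero_smul, Finset.sum_const_zero, sub_zero]
    exact hsum
  rw [hd2]
  exact Submodule.sum_mem _ fun i _ => Submodule.smul_mem_smul (ha i) (hκ i)

end Nak

section Pushout

variable {R S R' S' : Type*} [CommRing R] [CommRing S] [CommRing R'] [CommRing S']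
  [Algebra R S] [Algebra R R'] [Algebra S S'] [Algebra R' S'] [Algebra R S']
  [IsScalarTower R S S'] [IsScalarTower R R' S']

/-- If `R → S` and `R' → S'` are surjective and `ker(R' → S') = ker(R → S) R'`, the square is a
pushout. -/
theorem isPushout_of_surjective (hS : Surjective (algebraMap R S))
    (hS' : Surjective (algebraMap R' S'))
    (hker : RingHom.ker (algebraMap R' S') =
      (RingHom.ker (algebraMap R S)).map (algebraMap R R')) :
    Algebra.IsPushout R S R' S' := by
  constructor
  let g : S ⊗[R] R' →ₗ[S] S' :=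
    (TensorProduct.isBaseChange R R' S).lift (IsScalarTower.toAlgHom R R' S').toLinearMap
  have hg : ∀ x : R', g (1 ⊗ₜ x) = algebraMap R' S' x := fun x =>
    (TensorProduct.isBaseChange R R' S).lift_eq _ x
  have hform : ∀ z : S ⊗[R] R', ∃ x : R', z = 1 ⊗ₜ x := by
    intro z
    induction z using TensorProduct.induction_on with
    | zero => exact ⟨0, (tmul_zero _ _).symm⟩
    | tmul s x =>
      obtain ⟨r, rfl⟩ := hS s
      refine ⟨r • x, ?_⟩
      rw [tmul_smul, smul_tmul', ← Algebra.algebraMap_eq_smul_one]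
    | add z w hz hw =>
      obtain ⟨x, rfl⟩ := hz
      obtain ⟨y, rfl⟩ := hw
      exact ⟨x + y, (tmul_add _ _ _).symm⟩
  have hkerle : (RingHom.ker (algebraMap R S)).map (algebraMap R R') ≤
      RingHom.ker (Algebra.TensorProduct.includeRight (R := R) (A := S) (B := R')).toRingHom := by
    rw [Ideal.map_le_iff_le_comap]
    intro i hi
    rw [Ideal.mem_comap, RingHom.mem_ker]
    change (1 : S) ⊗ₜ[R] (algebraMap R R' i) = 0
    rw [Algebra.algebraMap_eq_smul_one, tmul_smul, smul_tmul', ← Algebra.algebraMap_eq_smul_one,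
      (RingHom.mem_ker).mp hi, zero_tmul]
  have hbij : Bijective g := by
    constructor
    · rw [injective_iff_map_eq_zero]
      intro z hz
      obtain ⟨x, rfl⟩ := hform z
      rw [hg] at hz
      have hx : x ∈ RingHom.ker (algebraMap R' S') := hz
      rw [hker] at hx
      exact hkerle hx
    · intro s'
      obtain ⟨x, rfl⟩ := hS' s'
      exact ⟨1 ⊗ₜ x, hg x⟩
  exact IsBaseChange.of_equiv (LinearEquiv.ofBijective g hbij) hg

end Pushout

section Tensor

variable {R S : Type*} [CommRing R] [CommRing S] [Algebra R S]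

/-- If `R → S` is surjective with nilpotent kernel and `S ⊗ M = 0` then `M = 0`. -/
theorem subsingleton_of_tensor_of_surjective (hS : Surjective (algebraMap R S))
    (hJ : IsNilpotent (RingHom.ker (algebraMap R S))) (M : Type*) [AddCommGroup M] [Module R M]
    [Subsingleton (S ⊗[R] M)] : Subsingleton M := by
  apply subsingleton_of_smul_top_eq_top _ hJ
  rw [eq_top_iff]
  intro m _
  have e : (R ⧸ RingHom.ker (algebraMap R S)) ≃ₗ[R] S :=
    (Ideal.quotientKerAlgEquivOfSurjective (f := Algebra.ofId R S) hS).toLinearEquiv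
  have e2 : (R ⧸ RingHom.ker (algebraMap R S)) ⊗[R] M ≃ₗ[R] S ⊗[R] M :=
    TensorProduct.congr e (LinearEquiv.refl R M)
  have : Subsingleton ((R ⧸ RingHom.ker (algebraMap R S)) ⊗[R] M) := e2.toEquiv.subsingleton
  have h0 : (1 : R ⧸ RingHom.ker (algebraMap R S)) ⊗ₜ[R] m = 0 := Subsingleton.elim _ _
  rw [← (quotTensorEquivQuotSMul M (RingHom.ker (algebraMap R S))).map_eq_zero_iff,
    quotTensorEquivQuotSMul_mk_one_tmul, Submodule.Quotient.mk_eq_zero] at h0
  exact h0

end Tensor


section Main

variable {A' A B' B : Type u} [CommRing A'] [CommRing A] [CommRing B'] [CommRing B]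
  [Algebra A' A] [Algebra A' B'] [Algebra B' B] [Algebra A B] [Algebra A' B]
  [IsScalarTower A' A B] [IsScalarTower A' B' B]

/-- Flatness lifts along a nilpotent thickening (local criterion). -/
theorem flat_of_nilpotent_lift (I : Ideal A') (hIker : RingHom.ker (algebraMap A' A) = I)
    (hA : Surjective (algebraMap A' A)) (hB : Surjective (algebraMap B' B))
    (hI : IsNilpotent I)
    (hJI : RingHom.ker (algebraMap B' B) = I.map (algebraMap A' B'))
    (hinj : Injective (I.subtype.rTensor B')) [Module.Flat A B] : Module.Flat A' B' := by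
  let φ : A' ⧸ I →+* A := Ideal.Quotient.lift I (algebraMap A' A) (fun a ha => by
    rw [← hIker] at ha; exact ha)
  have hφ : Bijective φ := by
    constructor
    · rw [injective_iff_map_eq_zero]
      intro x hx
      obtain ⟨a, rfl⟩ := Ideal.Quotient.mk_surjective x
      rw [Ideal.Quotient.eq_zero_iff_mem, ← hIker]
      exact hx
    · intro a
      obtain ⟨a', rfl⟩ := hA a
      exact ⟨Ideal.Quotient.mk I a', rfl⟩
  let _ : Algebra (A' ⧸ I) A := φ.toAlgebra
  have : IsScalarTower A' (A' ⧸ I) A := IsScalarTower.of_algebraMap_eq (fun x => rfl)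
  let _ : Algebra (A' ⧸ I) B := ((algebraMap A B).comp φ).toAlgebra
  have : IsScalarTower (A' ⧸ I) A B := IsScalarTower.of_algebraMap_eq (fun x => rfl)
  have : IsScalarTower A' (A' ⧸ I) B := IsScalarTower.of_algebraMap_eq (fun x =>
    IsScalarTower.algebraMap_apply A' A B x)
  have : Module.Flat (A' ⧸ I) A :=
    Module.Flat.of_linearEquiv (LinearEquiv.ofBijective (Algebra.linearMap (A' ⧸ I) A) hφ).symm
  have : Module.Flat (A' ⧸ I) B := Module.Flat.trans (A' ⧸ I) A B
  have : Algebra.IsPushout A' (A' ⧸ I) B' B :=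
    isPushout_of_surjective Ideal.Quotient.mk_surjective hB (by
      rw [Ideal.Quotient.algebraMap_eq, Ideal.mk_ker]; exact hJI)
  have : Module.Flat (A' ⧸ I) ((A' ⧸ I) ⊗[A'] B') :=
    Module.Flat.of_linearEquiv (Algebra.IsPushout.equiv A' (A' ⧸ I) B' B).toLinearEquiv
  exact Groth.Agent.Helper1.flat_of_isNilpotent I hI hinj

/-- Finite presentation lifts along a nilpotent thickening, given flatness. -/
theorem finitePresentation_of_nilpotent_lift (I : Ideal A')
    (hIker : RingHom.ker (algebraMap A' A) = I)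
    (hA : Surjective (algebraMap A' A)) (hB : Surjective (algebraMap B' B))
    (hI : IsNilpotent I)
    (hJI : RingHom.ker (algebraMap B' B) = I.map (algebraMap A' B'))
    [Module.Flat A' B'] [Algebra.FinitePresentation A B] : Algebra.FinitePresentation A' B' := by
  classical
  obtain ⟨n, f, hf⟩ := Algebra.FiniteType.iff_quotient_mvPolynomial''.mp
    (inferInstance : Algebra.FiniteType A B)
  have hK : (RingHom.ker f.toRingHom).FG := Algebra.FinitePresentation.ker_fG_of_surjective f hf
  let φ : MvPolynomial (Fin n) A' →+* MvPolynomial (Fin n) A := MvPolynomial.map (algebraMap A' A)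
  have hφ : Surjective φ := MvPolynomial.map_surjective _ hA
  have hkerφ : RingHom.ker φ = I.map MvPolynomial.C := by
    rw [← hIker]; exact MvPolynomial.ker_map _
  choose b' hb' using fun i => hB (f (MvPolynomial.X i))
  let f' : MvPolynomial (Fin n) A' →ₐ[A'] B' := MvPolynomial.aeval b'
  have hcomp : ∀ p, algebraMap B' B (f' p) = f (φ p) := by
    intro p
    have : (algebraMap B' B).comp f'.toRingHom = f.toRingHom.comp φ := by
      apply MvPolynomial.ringHom_ext
      · intro a
        simp only [RingHom.coe_comp, Function.comp_apply, AlgHom.toRingHom_eq_coe, RingHom.coe_coe,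
          f', φ, MvPolynomial.aeval_C, MvPolynomial.map_C]
        rw [← MvPolynomial.algebraMap_eq, f.commutes, ← IsScalarTower.algebraMap_apply,
          ← IsScalarTower.algebraMap_apply]
      · intro i
        simp only [RingHom.coe_comp, Function.comp_apply, AlgHom.toRingHom_eq_coe, RingHom.coe_coe,
          f', φ, MvPolynomial.aeval_X, MvPolynomial.map_X, hb']
    exact congr($this p)
  -- the ideal `I B'` as the image of `I P'`
  have hJmap : RingHom.ker (algebraMap B' B) = (I.map (MvPolynomial.C (σ := Fin n))).map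
      f'.toRingHom := by
    rw [hJI, Ideal.map_map]
    congr 1
    ext a
    simp [f']
  -- surjectivity of f'
  have hf' : Surjective f' := by
    rw [← AlgHom.coe_toLinearMap, ← LinearMap.range_eq_top]
    apply eq_top_of_sup_smul_eq_top I hI
    rw [eq_top_iff]
    intro x _
    obtain ⟨p, hp⟩ := hf (algebraMap B' B x)
    obtain ⟨p', rfl⟩ := hφ p
    have hmem : x - f' p' ∈ RingHom.ker (algebraMap B' B) := by
      rw [RingHom.mem_ker, map_sub, hcomp, hp, sub_self]
    rw [hJI] at hmem
    have hmem' : x - f' p' ∈ I • (⊤ : Submodule A' B') := by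
      rw [Ideal.smul_top_eq_map]; exact hmem
    have : x = f' p' + (x - f' p') := by ring
    rw [this]
    exact Submodule.add_mem_sup (LinearMap.mem_range_self _ p') hmem'
  refine Algebra.FinitePresentation.of_surjective hf' ?_
  -- finite generation of the kernel
  obtain ⟨s, hs⟩ := hK
  have hlift : ∀ k : (s : Set (MvPolynomial (Fin n) A)), ∃ k' : MvPolynomial (Fin n) A',
      f' k' = 0 ∧ φ k' = k := by
    intro k
    obtain ⟨p', hp'⟩ := hφ k
    have hk0 : f (k : MvPolynomial (Fin n) A) = 0 := by
      have : (k : MvPolynomial (Fin n) A) ∈ Ideal.span (s : Set (MvPolynomial (Fin n) A)) :=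
        Ideal.subset_span k.2
      rw [hs] at this
      exact this
    have h1 : f' p' ∈ RingHom.ker (algebraMap B' B) := by
      rw [RingHom.mem_ker, hcomp, hp', hk0]
    rw [hJmap] at h1
    obtain ⟨q', hq', hq'2⟩ := (Ideal.mem_map_iff_of_surjective f'.toRingHom hf').mp h1
    refine ⟨p' - q', ?_, ?_⟩
    · rw [map_sub]; exact sub_eq_zero.mpr hq'2.symm
    · rw [map_sub, hp']
      have : φ q' = 0 := by
        rw [← RingHom.mem_ker, hkerφ]; exact hq'
      rw [this, sub_zero]
  choose g hg1 hg2 using hlift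
  have hIs : IsNilpotent (I.map (MvPolynomial.C (σ := Fin n))) := by
    obtain ⟨m, hm⟩ := hI
    refine ⟨m, ?_⟩
    rw [← Ideal.map_pow, hm, Ideal.zero_eq_bot, Ideal.map_bot, Ideal.zero_eq_bot]
  have hle1 : Ideal.span (Set.range g) ≤ RingHom.ker f'.toRingHom := by
    rw [Ideal.span_le]
    rintro _ ⟨k, rfl⟩
    exact hg1 k
  have hmapspan : Ideal.map φ (Ideal.span (Set.range g)) = RingHom.ker f.toRingHom := by
    rw [Ideal.map_span, ← hs]
    congr 1
    ext y
    constructor
    · rintro ⟨_, ⟨k, rfl⟩, rfl⟩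
      rw [hg2]; exact k.2
    · intro hy
      exact ⟨g ⟨y, hy⟩, ⟨_, rfl⟩, hg2 _⟩
  have hle2 : RingHom.ker f'.toRingHom ≤ Ideal.span (Set.range g) := by
    apply le_of_le_sup_smul _ hIs
    intro x hx
    have hx0 : f' x = 0 := hx
    have hφx : φ x ∈ Ideal.map φ (Ideal.span (Set.range g)) := by
      rw [hmapspan]
      show f (φ x) = 0
      rw [← hcomp, hx0, map_zero]
    rw [Ideal.mem_map_iff_of_surjective _ hφ] at hφx
    obtain ⟨y, hy, hyx⟩ := hφx
    have hy0 : f' y = 0 := hle1 hy
    have hd1 : f'.toLinearMap (x - y) = 0 := by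
      rw [map_sub]
      show f' x - f' y = 0
      rw [hx0, hy0, sub_zero]
    have hd2 : x - y ∈ I • (⊤ : Submodule A' (MvPolynomial (Fin n) A')) := by
      rw [Ideal.smul_top_eq_map, Submodule.restrictScalars_mem, MvPolynomial.algebraMap_eq,
        ← hkerφ, RingHom.mem_ker, map_sub, hyx, sub_self]
    have hd3 := mem_smul_ker_of_flat f'.toLinearMap hf' I (x - y) hd1 hd2
    have hd4 : x - y ∈ (I.map (MvPolynomial.C (σ := Fin n))) • RingHom.ker f'.toRingHom := by
      refine Submodule.smul_induction_on hd3 ?_ ?_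
      · intro a ha k hk
        rw [MvPolynomial.smul_eq_C_mul]
        exact Submodule.smul_mem_smul (Ideal.mem_map_of_mem _ ha) hk
      · intro a b ha hb
        exact Submodule.add_mem _ ha hb
    have : x = y + (x - y) := by ring
    rw [this]
    exact Submodule.add_mem_sup hy hd4
  have : RingHom.ker f'.toRingHom = Ideal.span (Set.range g) := le_antisymm hle2 hle1
  rw [this]
  exact Submodule.fg_span (Set.finite_range g)

/-- Formal unramifiedness lifts along a nilpotent thickening. -/
theorem formallyUnramified_of_nilpotent_lift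
    (hA : Surjective (algebraMap A' A)) (hB : Surjective (algebraMap B' B))
    (hI : IsNilpotent (RingHom.ker (algebraMap A' A)))
    (hJI : RingHom.ker (algebraMap B' B) = (RingHom.ker (algebraMap A' A)).map (algebraMap A' B'))
    [Algebra.FormallyUnramified A B] : Algebra.FormallyUnramified A' B' := by
  have : Algebra.IsPushout A' A B' B := isPushout_of_surjective hA hB hJI
  have e := KaehlerDifferential.tensorKaehlerEquiv A' A B' B
  have : Subsingleton (Ω[B⁄A]) := Algebra.FormallyUnramified.subsingleton_kaehlerDifferential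
  have : Subsingleton (B ⊗[B'] Ω[B'⁄A']) := e.toEquiv.subsingleton
  have hJ : IsNilpotent (RingHom.ker (algebraMap B' B)) := by
    obtain ⟨m, hm⟩ := hI
    refine ⟨m, ?_⟩
    rw [hJI, ← Ideal.map_pow, hm, Ideal.zero_eq_bot, Ideal.map_bot, Ideal.zero_eq_bot]
  have := subsingleton_of_tensor_of_surjective hB hJ (Ω[B'⁄A'])
  exact ⟨this⟩

/-- Étaleness lifts along a nilpotent thickening, given flatness. -/
theorem etale_of_nilpotent_lift
    (hA : Surjective (algebraMap A' A)) (hB : Surjective (algebraMap B' B))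
    (hI : IsNilpotent (RingHom.ker (algebraMap A' A)))
    (hJI : RingHom.ker (algebraMap B' B) = (RingHom.ker (algebraMap A' A)).map (algebraMap A' B'))
    (hinj : Injective ((RingHom.ker (algebraMap A' A)).subtype.rTensor B'))
    [Algebra.Etale A B] : Algebra.Etale A' B' := by
  have : Module.Flat A' B' := flat_of_nilpotent_lift _ rfl hA hB hI hJI hinj
  have : Algebra.FinitePresentation A' B' :=
    finitePresentation_of_nilpotent_lift (A := A) (B := B) _ rfl hA hB hI hJI
  have : Algebra.FormallyUnramified A' B' :=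
    formallyUnramified_of_nilpotent_lift (A := A) (B := B) hA hB hI hJI
  exact Algebra.Etale.of_formallyUnramified_of_flat

end Main

end Groth.Agent.Helper14.SqZeroEtale
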