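import Mathlib
import Groth.Agent.Lib.Helper14.SqZeroEtale

/-!
# Étale algebras lift along surjections (helper14)

For an ideal `I` of `R` and an étale `R/I`-algebra `S̄` there is an étale `R`-algebra `S`
with `(R/I) ⊗_R S ≅ S̄`.
-/

set_option autoImplicit false

namespace Groth.Agent.Helper14.EtaleLiftQuot

open TensorProduct Function MvPolynomial Algebra

universe u

/-- If `S₀ / I S₀ ≅ S̄` (via `ψ₀`) and `Δ₀` maps to a unit of `S̄` then
`(R/I) ⊗ S₀[1/Δ₀] ≅ S̄`. -/
theorem nonempty_equiv_of_localization_away {R : Type u} [CommRing R] (I : Ideal R)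
    {Sb : Type u} [CommRing Sb] [Algebra (R ⧸ I) Sb] [Algebra R Sb] [IsScalarTower R (R ⧸ I) Sb]
    {S₀ : Type u} [CommRing S₀] [Algebra R S₀] (ψ₀ : S₀ →ₐ[R] Sb) (hsurj : Surjective ψ₀)
    (hker : ∀ s, ψ₀ s = 0 → s ∈ I.map (algebraMap R S₀)) (Δ₀ : S₀) (hΔ : IsUnit (ψ₀ Δ₀)) :
    Nonempty (((R ⧸ I) ⊗[R] Localization.Away Δ₀) ≃ₐ[R ⧸ I] Sb) := by
  let ψ : Localization.Away Δ₀ →ₐ[R] Sb :=
    IsLocalization.liftAlgHom (M := Submonoid.powers Δ₀) (f := ψ₀) (by
      rintro ⟨_, n, rfl⟩
      rw [map_pow]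
      exact hΔ.pow n)
  have hψ : ∀ s₀, ψ (algebraMap S₀ _ s₀) = ψ₀ s₀ := fun s₀ => IsLocalization.lift_eq _ _
  let _ : Algebra (Localization.Away Δ₀) Sb := ψ.toRingHom.toAlgebra
  have : IsScalarTower R (Localization.Away Δ₀) Sb :=
    IsScalarTower.of_algebraMap_eq (fun x => (ψ.commutes x).symm)
  have : Algebra.IsPushout R (R ⧸ I) (Localization.Away Δ₀) Sb := by
    apply SqZeroEtale.isPushout_of_surjective Ideal.Quotient.mk_surjective
    · intro b
      obtain ⟨s₀, rfl⟩ := hsurj b
      exact ⟨algebraMap _ _ s₀, hψ s₀⟩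
    · rw [Ideal.Quotient.algebraMap_eq, Ideal.mk_ker]
      apply le_antisymm
      · intro s hs
        obtain ⟨⟨s₀, ⟨_, n, rfl⟩⟩, h⟩ := IsLocalization.surj (Submonoid.powers Δ₀) s
        have hs' : ψ s = 0 := hs
        have h0 : ψ₀ s₀ = 0 := by
          rw [← hψ, ← h, map_mul, hs', zero_mul]
        have h1 := hker s₀ h0
        have h2 : algebraMap S₀ (Localization.Away Δ₀) s₀ ∈
            I.map (algebraMap R (Localization.Away Δ₀)) := by
          rw [IsScalarTower.algebraMap_eq R S₀ (Localization.Away Δ₀), ← Ideal.map_map]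
          exact Ideal.mem_map_of_mem _ h1
        have hu : IsUnit (algebraMap S₀ (Localization.Away Δ₀) (Δ₀ ^ n)) :=
          IsLocalization.map_units _ (⟨Δ₀ ^ n, n, rfl⟩ : Submonoid.powers Δ₀)
        rw [← h] at h2
        exact (Ideal.mul_unit_mem_iff_mem _ hu).mp h2
      · rw [Ideal.map_le_iff_le_comap]
        intro i hi
        rw [Ideal.mem_comap, RingHom.mem_ker, ← IsScalarTower.algebraMap_apply,
          IsScalarTower.algebraMap_apply R (R ⧸ I) Sb, Ideal.Quotient.algebraMap_eq,
          Ideal.Quotient.eq_zero_iff_mem.mpr hi, map_zero]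
  exact ⟨Algebra.IsPushout.equiv R (R ⧸ I) (Localization.Away Δ₀) Sb⟩

theorem exists_etale_lift (R : Type u) [CommRing R] (I : Ideal R) (Sb : Type u)
    [CommRing Sb] [Algebra (R ⧸ I) Sb] [Algebra.Etale (R ⧸ I) Sb] :
    ∃ (S : Type u) (_ : CommRing S) (_ : Algebra R S), Algebra.Etale R S ∧
      Nonempty (((R ⧸ I) ⊗[R] S) ≃ₐ[R ⧸ I] Sb) := by
  classical
  have hss : Algebra.IsStandardSmoothOfRelativeDimension 0 (R ⧸ I) Sb :=
    Algebra.Etale.iff_isStandardSmoothOfRelativeDimension_zero.mp inferInstance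
  obtain ⟨ι, σ, _, _, P, hP⟩ := hss.out
  cases nonempty_fintype σ
  let mkI : R →+* R ⧸ I := Ideal.Quotient.mk I
  have hmap : Surjective (MvPolynomial.map (σ := ι) mkI) :=
    MvPolynomial.map_surjective _ Ideal.Quotient.mk_surjective
  choose v hv using fun j : σ => hmap (P.relation j)
  -- the unlocalized lift
  let P₀ : PreSubmersivePresentation R (MvPolynomial ι R ⧸ Ideal.span (Set.range v)) ι σ :=
    PreSubmersivePresentation.naive (v := v) P.map P.map_inj
  let _ : Algebra R Sb := ((algebraMap (R ⧸ I) Sb).comp mkI).toAlgebra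
  have : IsScalarTower R (R ⧸ I) Sb := IsScalarTower.of_algebraMap_eq (fun x => rfl)
  have haeval : ∀ p : MvPolynomial ι R, aeval P.val p = aeval P.val (MvPolynomial.map mkI p) := by
    intro p
    exact (MvPolynomial.aeval_map_algebraMap (R ⧸ I) P.val p).symm
  have hvan : ∀ p ∈ Ideal.span (Set.range v), (aeval P.val : MvPolynomial ι R →ₐ[R] Sb) p = 0 := by
    intro p hp
    have hle : Ideal.span (Set.range v) ≤
        RingHom.ker (aeval P.val : MvPolynomial ι R →ₐ[R] Sb).toRingHom := by
      rw [Ideal.span_le]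
      rintro _ ⟨j, rfl⟩
      show aeval P.val (v j) = 0
      rw [haeval, hv, P.aeval_val_relation]
    exact hle hp
  let ψ₀ : (MvPolynomial ι R ⧸ Ideal.span (Set.range v)) →ₐ[R] Sb :=
    Ideal.Quotient.liftₐ _ (aeval P.val) hvan
  have hψ₀mk : ∀ p : MvPolynomial ι R, ψ₀ (Ideal.Quotient.mk _ p) = aeval P.val p := fun p => rfl
  -- the jacobian maps to the jacobian
  have hjac : ψ₀ P₀.jacobian = P.jacobian := by
    rw [PreSubmersivePresentation.jacobian_eq_jacobiMatrix_det,
      PreSubmersivePresentation.jacobian_eq_jacobiMatrix_det]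
    have h1 : algebraMap P₀.Ring (MvPolynomial ι R ⧸ Ideal.span (Set.range v))
        P₀.jacobiMatrix.det = Ideal.Quotient.mk _ P₀.jacobiMatrix.det := rfl
    rw [h1, hψ₀mk, haeval, Generators.algebraMap_apply]
    congr 1
    rw [RingHom.map_det]
    congr 1
    refine Matrix.ext fun i j => ?_
    simp only [RingHom.mapMatrix_apply, Matrix.map_apply]
    rw [PreSubmersivePresentation.jacobiMatrix_apply, PreSubmersivePresentation.jacobiMatrix_apply]
    change MvPolynomial.map mkI ((v j).pderiv (P.map i)) = _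
    rw [← MvPolynomial.pderiv_map, hv]
  -- surjectivity and kernel of ψ₀
  have hsurj : Surjective ψ₀ := by
    intro b
    obtain ⟨pb, rfl⟩ := P.algebraMap_surjective b
    obtain ⟨p, rfl⟩ := hmap pb
    refine ⟨Ideal.Quotient.mk _ p, ?_⟩
    rw [hψ₀mk, haeval, Generators.algebraMap_apply]
  have hkerψ₀ : ∀ s, ψ₀ s = 0 → s ∈ I.map (algebraMap R _) := by
    intro s hs
    obtain ⟨p, rfl⟩ := Ideal.Quotient.mk_surjective s
    rw [hψ₀mk, haeval] at hs
    have h1 : MvPolynomial.map mkI p ∈ P.ker := by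
      rw [P.ker_eq_ker_aeval_val]; exact hs
    rw [← P.span_range_relation_eq_ker] at h1
    have h2 : Ideal.span (Set.range P.relation) =
        Ideal.map (MvPolynomial.map mkI) (Ideal.span (Set.range v)) := by
      rw [Ideal.map_span]
      congr 1
      ext y
      constructor
      · rintro ⟨j, rfl⟩
        exact ⟨v j, ⟨j, rfl⟩, hv j⟩
      · rintro ⟨_, ⟨j, rfl⟩, rfl⟩
        exact ⟨j, (hv j).symm⟩
    rw [h2] at h1
    obtain ⟨q, hq, hqp⟩ := (Ideal.mem_map_iff_of_surjective _ hmap).mp h1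
    have h3 : p - q ∈ RingHom.ker (MvPolynomial.map (σ := ι) mkI) := by
      rw [RingHom.mem_ker, map_sub, hqp, sub_self]
    rw [MvPolynomial.ker_map, Ideal.mk_ker] at h3
    have h4 : Ideal.Quotient.mk (Ideal.span (Set.range v)) p = Ideal.Quotient.mk _ (p - q) := by
      rw [map_sub, Ideal.Quotient.eq_zero_iff_mem.mpr hq, sub_zero]
    rw [h4]
    have h5 : algebraMap R (MvPolynomial ι R ⧸ Ideal.span (Set.range v)) =
        (Ideal.Quotient.mk _).comp MvPolynomial.C := rfl
    rw [h5, ← Ideal.map_map]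
    exact Ideal.mem_map_of_mem _ h3
  refine ⟨Localization.Away P₀.jacobian, inferInstance, inferInstance, ?_,
    nonempty_equiv_of_localization_away I ψ₀ hsurj hkerψ₀ P₀.jacobian
      (by rw [hjac]; exact P.jacobian_isUnit)⟩
  let Q : PreSubmersivePresentation _ (Localization.Away P₀.jacobian) Unit Unit :=
    PreSubmersivePresentation.localizationAway (Localization.Away P₀.jacobian) P₀.jacobian
  let PP : SubmersivePresentation R (Localization.Away P₀.jacobian) (Unit ⊕ ι) (Unit ⊕ σ) :=
    { toPreSubmersivePresentation := Q.comp P₀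
      jacobian_isUnit := by
        rw [PreSubmersivePresentation.comp_jacobian_eq_jacobian_smul_jacobian,
          PreSubmersivePresentation.localizationAway_jacobian, Algebra.smul_def]
        exact (IsLocalization.Away.algebraMap_isUnit _).mul
          (IsLocalization.Away.algebraMap_isUnit _) }
  have hdim : PP.dimension = 0 := by
    show (Q.comp P₀).dimension = 0
    rw [PreSubmersivePresentation.dimension_comp_eq_dimension_add_dimension]
    have h1 : Q.dimension = 0 := by simp [Presentation.dimension]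
    have h2 : P₀.dimension = 0 := hP
    rw [h1, h2]
  have := PP.isStandardSmoothOfRelativeDimension hdim
  infer_instance

end Groth.Agent.Helper14.EtaleLiftQuot
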