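import Mathlib
import Groth.Prelude.Def_Flatn
import Groth.Prelude.Def_Mor2

/-!
# Zariski gluing of representing objects over the base: definitions, universe-generic covers (helper14)
-/

set_option autoImplicit false
set_option linter.style.haveILetI false
set_option linter.unusedSectionVars false
set_option linter.unusedVariables false

universe w u
open CategoryTheory CategoryTheory.Limits AlgebraicGeometry Opposite

namespace Groth.Agent.Helper14.MorGlue

/-- Zariski sheaf condition for a presheaf on `Over S`, spelled out for open covers with index type in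
an arbitrary universe `w`. -/
def IsZarSheafW {S : Scheme.{u}} (F : (Over S)ᵒᵖ ⥤ Type u) : Prop :=
  ∀ (T : Scheme.{u}) (t : T ⟶ S) (𝒰 : Scheme.OpenCover.{w} T)
    (x : ∀ i, F.obj (op (Over.mk (𝒰.f i ≫ t)))),
    (∀ i j, F.map (Over.homMk (pullback.fst (𝒰.f i) (𝒰.f j)) rfl :
          Over.mk (pullback.fst (𝒰.f i) (𝒰.f j) ≫ 𝒰.f i ≫ t) ⟶ Over.mk (𝒰.f i ≫ t)).op (x i) =
        F.map (Over.homMk (pullback.snd (𝒰.f i) (𝒰.f j))
          (by simp only [Over.mk_hom]
              exact (pullback.condition_assoc _).symm) :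
          Over.mk (pullback.fst (𝒰.f i) (𝒰.f j) ≫ 𝒰.f i ≫ t) ⟶ Over.mk (𝒰.f j ≫ t)).op (x j)) →
    ∃! y : F.obj (op (Over.mk t)),
      ∀ i, F.map (Over.homMk (𝒰.f i) rfl : Over.mk (𝒰.f i ≫ t) ⟶ Over.mk t).op y = x i

end Groth.Agent.Helper14.MorGlue
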