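import Mathlib
import Groth.Prelude.Def_DerCA

set_option autoImplicit false
universe u

namespace Groth.Agent.Helper14

open CategoryTheory Limits

section General

variable {C : Type*} [Category C] [Preadditive C] [HasBinaryBiproducts C] [HasZeroObject C]

theorem mappingCocone_contractible {K L : CochainComplex C ℤ} (φ : K ⟶ L)
    (h : IsIso ((HomotopyCategory.quotient C (ComplexShape.up ℤ)).map φ)) :
    Nonempty (Homotopy (𝟙 (CochainComplex.mappingCocone φ)) 0) := by
  rw [← HomotopyCategory.isZero_quotient_obj_iff]
  have hT := HomotopyCategory.mappingCone_triangleh_distinguished φ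
  have h3 : IsZero ((HomotopyCategory.quotient C _).obj (CochainComplex.mappingCone φ)) :=
    Pretriangulated.Triangle.isZero₃_of_isIso₁ _ hT h
  have e := ((HomotopyCategory.quotient C (ComplexShape.up ℤ)).commShiftIso (-1 : ℤ)).app
    (CochainComplex.mappingCone φ)
  exact IsZero.of_iso ((shiftFunctor _ (-1 : ℤ)).map_isZero h3) e

end General


theorem mkLinearMap_bijective_of_isUnit {R : Type u} [CommRing R] (f : R) (hf : IsUnit f)
    (M : Type u) [AddCommGroup M] [Module R M] :
    Function.Bijective (LocalizedModule.mkLinearMap (Submonoid.powers f) M) := by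
  have hunit : ∀ s : Submonoid.powers f, IsUnit (s : R) := by
    rintro ⟨_, n, rfl⟩
    exact hf.pow n
  constructor
  · intro m m' h
    rw [LocalizedModule.mkLinearMap_apply, LocalizedModule.mkLinearMap_apply,
      LocalizedModule.mk_eq] at h
    obtain ⟨u, hu⟩ := h
    simp only [one_smul] at hu
    rw [Submonoid.smul_def, Submonoid.smul_def] at hu
    exact (hunit u).smul_left_cancel.mp hu
  · intro x
    induction x using LocalizedModule.induction_on with
    | h m s =>
      obtain ⟨v, hv⟩ := (hunit s).exists_right_inv
      refine ⟨v • m, ?_⟩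
      rw [LocalizedModule.mkLinearMap_apply, LocalizedModule.mk_eq]
      refine ⟨1, ?_⟩
      simp only [one_smul]
      rw [Submonoid.smul_def, smul_smul, hv, one_smul]

open DerCA in
theorem extCech_contractible (R : Type u) [CommRing R] (M : ModuleCat.{u} R) :
    ∀ (fs : List R), (∃ f ∈ fs, IsUnit f) →
      Nonempty (Homotopy (𝟙 (DerCA.extCech M fs)) 0)
  | [], h => by
    obtain ⟨f, hf, _⟩ := h
    simp at hf
  | f :: fs, h => by
    show Nonempty (Homotopy (𝟙 (CochainComplex.mappingCocone
      (locCxUnit (Submonoid.powers f) (extCech M fs)))) 0)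
    apply mappingCocone_contractible
    by_cases hf : IsUnit f
    · have hiso : IsIso (locCxUnit (Submonoid.powers f) (extCech M fs)) := by
        have : ∀ i, IsIso ((locCxUnit (Submonoid.powers f) (extCech M fs)).f i) := by
          intro i
          rw [ConcreteCategory.isIso_iff_bijective]
          exact mkLinearMap_bijective_of_isUnit f hf _
        exact HomologicalComplex.Hom.isIso_of_components _
      infer_instance
    · have hfs : ∃ g ∈ fs, IsUnit g := by
        obtain ⟨g, hg, hu⟩ := h
        rcases List.mem_cons.mp hg with rfl | hg'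
        · exact absurd hu hf
        · exact ⟨g, hg', hu⟩
      obtain ⟨H⟩ := extCech_contractible R M fs hfs
      have hz1 : IsZero ((HomotopyCategory.quotient _ (ComplexShape.up ℤ)).obj (extCech M fs)) :=
        (HomotopyCategory.isZero_quotient_obj_iff _).mpr ⟨H⟩
      have H' := (locFunctor (Submonoid.powers f)).mapHomotopy H
      have hz2 : IsZero ((HomotopyCategory.quotient _ (ComplexShape.up ℤ)).obj
          ((locCx (Submonoid.powers f)).obj (extCech M fs))) := by
        rw [HomotopyCategory.isZero_quotient_obj_iff]
        refine ⟨?_⟩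
        have e1 : ((locFunctor (Submonoid.powers f)).mapHomologicalComplex (ComplexShape.up ℤ)).map
            (𝟙 (extCech M fs)) = 𝟙 _ := CategoryTheory.Functor.map_id _ _
        have e2 : ((locFunctor (Submonoid.powers f)).mapHomologicalComplex (ComplexShape.up ℤ)).map
            (0 : extCech M fs ⟶ extCech M fs) = 0 := CategoryTheory.Functor.map_zero _ _ _
        rw [e1, e2] at H'
        exact H'
      exact ⟨⟨(hz2.to_ _), hz1.eq_of_src _ _, hz2.eq_of_src _ _⟩⟩

end Groth.Agent.Helper14
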