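import Mathlib
import Groth.Prelude.Def_CInt

/-!
# Scheme-theoretically dominant morphisms: extensionality and schematically dense opens
-/

set_option autoImplicit false
universe u
open CategoryTheory AlgebraicGeometry TopologicalSpace Limits

namespace Groth.Agent.Helper14.Ner

variable {W X Y Z : Scheme.{u}}

set_option backward.isDefEq.respectTransparency false in
/-- two morphisms over a separated base which agree on a scheme-theoretically dominant
morphism are equal. -/
theorem ext_of_isSchemeTheoreticallyDominant {f g : X ⟶ Y}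
    (s : Y ⟶ Z) [IsSeparated s] (h : f ≫ s = g ≫ s)
    (ι : W ⟶ X) [IsSchemeTheoreticallyDominant ι] (hU : ι ≫ f = ι ≫ g) : f = g := by
  let X' : Over Z := Over.mk (f ≫ s)
  let Y' : Over Z := Over.mk s
  let U' : Over Z := Over.mk (ι ≫ f ≫ s)
  let f' : X' ⟶ Y' := Over.homMk f
  let g' : X' ⟶ Y' := Over.homMk g
  let ι' : U' ⟶ X' := Over.homMk ι
  have : IsSeparated Y'.hom := ‹_›
  have hι : ι' ≫ f' = ι' ≫ g' := by ext1; exact hU
  have hfac : (equalizer.lift ι' hι).left ≫ (equalizer.ι f' g').left = ι := by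
    rw [← Over.comp_left, equalizer.lift_ι]; rfl
  have hker : (equalizer.ι f' g').left.ker = ⊥ := by
    rw [eq_bot_iff]
    have h1 := Scheme.Hom.le_ker_comp (equalizer.lift ι' hι).left (equalizer.ι f' g').left
    rw [hfac, ι.ker_eq_bot] at h1
    exact h1
  have : IsIso (equalizer.ι f' g').left := IsClosedImmersion.isIso_iff_ker_eq_bot.mpr hker
  rw [← cancel_epi (equalizer.ι f' g').left]
  exact congr($(equalizer.condition f' g').left)

/-- a schematically dense open subset gives scheme-theoretically dominant inclusions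
`W ⊓ V' ⟶ W` for all opens `W`. -/
theorem isSchemeTheoreticallyDominant_homOfLE {V' : X.Opens} (hV : CInt.IsSchematicallyDense V')
    (W₀ : X.Opens) :
    IsSchemeTheoreticallyDominant (X.homOfLE (inf_le_left : W₀ ⊓ V' ≤ W₀)) := by
  rw [isSchemeTheoreticallyDominant_iff, eq_bot_iff]
  intro O
  refine ((X.homOfLE (inf_le_left : W₀ ⊓ V' ≤ W₀)).ideal_ker_le O).trans ?_
  rw [Scheme.IdealSheafData.ideal_bot, Pi.bot_apply, le_bot_iff, ← RingHom.injective_iff_ker_eq_bot,
    Scheme.homOfLE_app]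
  have hle : W₀.ι ''ᵁ O.1 ⊓ V' ≤ (W₀ ⊓ V').ι ''ᵁ X.homOfLE (inf_le_left : W₀ ⊓ V' ≤ W₀) ⁻¹ᵁ O.1 := by
    rw [Scheme.ι_image_homOfLE_eq_ι_image_inf]
    intro y hy
    refine ⟨hy.1, ?_, hy.2⟩
    obtain ⟨z, -, rfl⟩ := hy.1
    exact z.2
  have hinj := hV (W₀.ι ''ᵁ O.1)
  have hcomp : X.presheaf.map (homOfLE (inf_le_left : W₀.ι ''ᵁ O.1 ⊓ V' ≤ W₀.ι ''ᵁ O.1)).op =
      X.presheaf.map (homOfLE (X.ι_image_homOfLE_le_ι_image inf_le_left O.1)).op ≫
        X.presheaf.map (homOfLE hle).op := by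
    rw [← Functor.map_comp]; rfl
  rw [hcomp] at hinj
  have hinj' : Function.Injective ((X.presheaf.map (homOfLE hle).op).hom ∘
      (X.presheaf.map (homOfLE (X.ι_image_homOfLE_le_ι_image inf_le_left O.1)).op).hom) := by
    simpa using hinj
  exact Function.Injective.of_comp hinj'

/-- the inclusion of a schematically dense open subscheme is scheme-theoretically dominant. -/
theorem isSchemeTheoreticallyDominant_ι {V' : X.Opens} (hV : CInt.IsSchematicallyDense V') :
    IsSchemeTheoreticallyDominant V'.ι := by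
  rw [isSchemeTheoreticallyDominant_iff, eq_bot_iff]
  intro O
  refine (V'.ι.ideal_ker_le O).trans ?_
  rw [Scheme.IdealSheafData.ideal_bot, Pi.bot_apply, le_bot_iff, ← RingHom.injective_iff_ker_eq_bot,
    Scheme.Opens.ι_app]
  have hle : O.1 ⊓ V' ≤ V'.ι ''ᵁ V'.ι ⁻¹ᵁ O.1 := by
    intro y hy
    exact ⟨⟨y, hy.2⟩, hy.1, rfl⟩
  have hinj := hV O.1
  have hcomp : X.presheaf.map (homOfLE (inf_le_left : O.1 ⊓ V' ≤ O.1)).op =
      X.presheaf.map (homOfLE (x := V'.ι ''ᵁ V'.ι ⁻¹ᵁ O.1) (Set.image_preimage_subset _ _)).op ≫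
        X.presheaf.map (homOfLE hle).op := by
    rw [← Functor.map_comp]; rfl
  rw [hcomp] at hinj
  have hinj' : Function.Injective ((X.presheaf.map (homOfLE hle).op).hom ∘
      (X.presheaf.map (homOfLE (x := V'.ι ''ᵁ V'.ι ⁻¹ᵁ O.1)
        (Set.image_preimage_subset _ _)).op).hom) := by
    simpa using hinj
  exact Function.Injective.of_comp hinj'

end Groth.Agent.Helper14.Ner
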