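import Mathlib

set_option autoImplicit false
universe u

namespace Groth.Agent.Helper14

open Polynomial

/-- A field of finite type over a domain `D ⊆ K` is algebraic over `D`. -/
theorem isAlgebraic_of_finiteType_field {D K : Type*} [CommRing D] [IsDomain D] [Field K]
    [Algebra D K] [FaithfulSMul D K] [Algebra.FiniteType D K] : Algebra.IsAlgebraic D K := by
  let _ := FractionRing.liftAlgebra D K
  have : IsScalarTower D (FractionRing D) K := FractionRing.isScalarTower_liftAlgebra D K
  have : Algebra.FiniteType (FractionRing D) K :=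
    Algebra.FiniteType.of_restrictScalars_finiteType D (FractionRing D) K
  have : Module.Finite (FractionRing D) K :=
    finite_of_finite_type_of_isJacobsonRing (FractionRing D) K
  have : Algebra.IsAlgebraic (FractionRing D) K := Algebra.IsAlgebraic.of_finite _ _
  have : Algebra.IsAlgebraic D (FractionRing D) :=
    IsLocalization.isAlgebraic _ (nonZeroDivisors D)
  exact Algebra.IsAlgebraic.trans D (FractionRing D) K

/-- **Goldman-type lemma**: if a field `K` is of finite type over a subdomain `D`, then there is
`g ≠ 0` in `D` such that every nonzero element of `D` divides a power of `g`. -/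
theorem exists_forall_dvd_pow_of_finiteType_field {D K : Type u} [CommRing D] [IsDomain D]
    [Field K] [Algebra D K] [FaithfulSMul D K] [Algebra.FiniteType D K] :
    ∃ g : D, g ≠ 0 ∧ ∀ b : D, b ≠ 0 → ∃ (d : D) (m : ℕ), b * d = g ^ m := by
  classical
  have := isAlgebraic_of_finiteType_field (D := D) (K := K)
  obtain ⟨s, hs⟩ := (inferInstance : Algebra.FiniteType D K).out
  obtain ⟨g, hg0, hint⟩ := Algebra.IsAlgebraic.exists_integral_multiples D s
  refine ⟨g, hg0, ?_⟩
  have hinj : Function.Injective (algebraMap D K) := FaithfulSMul.algebraMap_injective D K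
  have hgK : IsUnit (algebraMap D K g) :=
    isUnit_iff_ne_zero.mpr (fun h => hg0 (hinj (by rw [h, map_zero])))
  let D' := Localization.Away g
  let φ : D' →+* K := IsLocalization.Away.lift g hgK
  let _ : Algebra D' K := φ.toAlgebra
  have : IsScalarTower D D' K := IsScalarTower.of_algebraMap_eq fun x => by
    show algebraMap D K x = φ (algebraMap D D' x)
    exact (IsLocalization.Away.lift_eq g hgK x).symm
  -- `K` is integral over `D'`
  have hintK : Algebra.IsIntegral D' K := by
    have hle : (⊤ : Subalgebra D K) ≤ (integralClosure D' K).restrictScalars D := by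
      rw [← hs, Algebra.adjoin_le_iff]
      intro z hz
      have h1 : IsIntegral D' (g • z) := (hint z hz).tower_top
      have h2 : z = (IsLocalization.Away.invSelf (S := D') g) • (g • z) := by
        rw [← algebraMap_smul D' g z, smul_smul, mul_comm, IsLocalization.Away.mul_invSelf, one_smul]
      show IsIntegral D' z
      rw [h2]
      exact h1.smul _
    exact ⟨fun z => hle (Algebra.mem_top : z ∈ (⊤ : Subalgebra D K))⟩
  have hφinj : Function.Injective (algebraMap D' K) := by
    rw [injective_iff_map_eq_zero]
    intro z hz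
    obtain ⟨d, t, rfl⟩ := IsLocalization.exists_mk'_eq (Submonoid.powers g) z
    have h4 := IsLocalization.mk'_spec D' d t
    have h5 := congrArg (algebraMap D' K) h4
    rw [map_mul, hz, zero_mul, ← IsScalarTower.algebraMap_apply] at h5
    have : d = 0 := hinj (by rw [← h5, map_zero])
    rw [this, IsLocalization.mk'_zero]
  have hfield : IsField D' := isField_of_isIntegral_of_isField hφinj (Field.toIsField K)
  have hinj' : Function.Injective (algebraMap D D') :=
    IsLocalization.injective D' (powers_le_nonZeroDivisors_of_noZeroDivisors hg0)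
  intro b hb
  have hb' : algebraMap D D' b ≠ 0 := fun h => hb (hinj' (by rw [h, map_zero]))
  obtain ⟨y, hy⟩ := hfield.mul_inv_cancel hb'
  obtain ⟨d, ⟨_, m, rfl⟩, rfl⟩ := IsLocalization.exists_mk'_eq (Submonoid.powers g) y
  refine ⟨d, m, hinj' ?_⟩
  rw [map_mul]
  have h6 := IsLocalization.mk'_spec D' d (⟨g ^ m, m, rfl⟩ : Submonoid.powers g)
  calc algebraMap D D' b * algebraMap D D' d
      = algebraMap D D' b * (IsLocalization.mk' D' d (⟨g ^ m, m, rfl⟩ : Submonoid.powers g) *
          algebraMap D D' (g ^ m)) := by rw [h6]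
    _ = (algebraMap D D' b * IsLocalization.mk' D' d (⟨g ^ m, m, rfl⟩ : Submonoid.powers g)) *
          algebraMap D D' (g ^ m) := by ring
    _ = algebraMap D D' (g ^ m) := by rw [hy, one_mul]


/-- Ring-hom form: if `ψ : A → K` is of finite type with `K` a field, then `ker ψ` is a closed
point of some basic open `D(g)` of `Spec A`. -/
theorem exists_notMem_ker_forall_prime {A K : Type u} [CommRing A] [Field K] (ψ : A →+* K)
    (hψ : ψ.FiniteType) :
    ∃ g : A, g ∉ RingHom.ker ψ ∧
      ∀ q : Ideal A, q.IsPrime → RingHom.ker ψ ≤ q → g ∉ q → q = RingHom.ker ψ := by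
  have hprime : (RingHom.ker ψ).IsPrime := RingHom.ker_isPrime ψ
  let D := A ⧸ RingHom.ker ψ
  let κ : D →+* K := RingHom.kerLift ψ
  have hκinj : Function.Injective κ := RingHom.kerLift_injective ψ
  let _ : Algebra D K := κ.toAlgebra
  have hfs : FaithfulSMul D K := (faithfulSMul_iff_algebraMap_injective D K).mpr hκinj
  have hft : Algebra.FiniteType D K := by
    have h1 : (κ.comp (Ideal.Quotient.mk (RingHom.ker ψ))).FiniteType := by
      have : κ.comp (Ideal.Quotient.mk (RingHom.ker ψ)) = ψ := by
        ext x; rfl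
      rw [this]; exact hψ
    exact RingHom.FiniteType.of_comp_finiteType h1
  obtain ⟨gbar, hg0, hg⟩ := exists_forall_dvd_pow_of_finiteType_field (D := D) (K := K)
  obtain ⟨g, rfl⟩ := Ideal.Quotient.mk_surjective gbar
  have hgker : g ∉ RingHom.ker ψ := fun h => hg0 (Ideal.Quotient.eq_zero_iff_mem.mpr h)
  refine ⟨g, hgker, fun q hq hle hgq => le_antisymm ?_ hle⟩
  intro b hb
  by_contra hbk
  have hb0 : (Ideal.Quotient.mk (RingHom.ker ψ) b) ≠ 0 := fun h =>
    hbk (Ideal.Quotient.eq_zero_iff_mem.mp h)
  obtain ⟨dbar, m, hdm⟩ := hg _ hb0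
  obtain ⟨d, rfl⟩ := Ideal.Quotient.mk_surjective dbar
  rw [← map_mul, ← map_pow, Ideal.Quotient.eq] at hdm
  have h2 : b * d - g ^ m ∈ q := hle hdm
  have h3 : g ^ m ∈ q := by
    have h4 : b * d ∈ q := q.mul_mem_right d hb
    have := q.sub_mem h4 h2
    simpa using this
  exact hgq (hq.mem_of_pow_mem m h3)


theorem exists_notMem_ker_forall_prime' {A K : Type u} [CommRing A] [CommRing K] (hK : IsField K)
    (ψ : A →+* K) (hψ : ψ.FiniteType) :
    ∃ g : A, g ∉ RingHom.ker ψ ∧
      ∀ q : Ideal A, q.IsPrime → RingHom.ker ψ ≤ q → g ∉ q → q = RingHom.ker ψ := by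
  letI := hK.toField
  exact exists_notMem_ker_forall_prime ψ hψ

end Groth.Agent.Helper14
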