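import Mathlib
import Groth.Agent.Lib.Helper14.FtCore

set_option autoImplicit false
universe u

namespace Groth.Agent.Helper14

open AlgebraicGeometry CategoryTheory

theorem exists_affineOpen_isClosed_aux {S : Scheme.{u}} {R : CommRingCat.{u}} (hR : IsField R)
    (h : Spec R ⟶ S) [LocallyOfFiniteType h] (pt : Spec R)
    {A : CommRingCat.{u}} (ι : Spec A ⟶ S) [IsOpenImmersion ι] (y : Spec A) (hy : ι y = h pt) :
    ∃ U : S.Opens, IsAffineOpen U ∧ ∃ hs : h pt ∈ U, IsClosed ({⟨h pt, hs⟩} : Set ↥U) := by
  letI := hR.toField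
  have hsub : Subsingleton (PrimeSpectrum R) := inferInstance
  have hrange : Set.range h ⊆ Set.range ι := by
    rintro _ ⟨pt', rfl⟩
    have : pt' = pt := hsub.elim _ _
    rw [this]
    exact ⟨y, hy⟩
  let a' := IsOpenImmersion.lift ι h hrange
  have ha' : a' ≫ ι = h := IsOpenImmersion.lift_fac ..
  haveI : LocallyOfFiniteType (a' ≫ ι) := by rw [ha']; infer_instance
  haveI : LocallyOfFiniteType a' := locallyOfFiniteType_of_comp a' ι
  obtain ⟨ψ, hψ⟩ := Spec.map_surjective a'
  have hft : ψ.hom.FiniteType := by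
    have : LocallyOfFiniteType (Spec.map ψ) := by rw [hψ]; infer_instance
    exact (HasRingHomProperty.Spec_iff (P := @LocallyOfFiniteType)).mp this
  obtain ⟨g, hgker, hg⟩ := exists_notMem_ker_forall_prime' hR ψ.hom hft
  have hpt : a' pt = y := by
    apply ι.isOpenEmbedding.injective
    rw [hy, ← Scheme.Hom.comp_apply, ha']
  have hptI : (pt : PrimeSpectrum R).asIdeal = ⊥ :=
    Ideal.eq_bot_of_prime _
  have hyI : (y : PrimeSpectrum A).asIdeal = RingHom.ker ψ.hom := by
    rw [← hpt, ← hψ]
    show Ideal.comap ψ.hom (pt : PrimeSpectrum R).asIdeal = _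
    rw [hptI]
    rfl
  have hyg : y ∈ (PrimeSpectrum.basicOpen (g : A) : Set (PrimeSpectrum A)) := by
    show g ∉ (y : PrimeSpectrum A).asIdeal
    rw [hyI]; exact hgker
  refine ⟨ι ''ᵁ (PrimeSpectrum.basicOpen (g : A)),
    (IsAffineOpen.Spec_basicOpen (g : A)).image_of_isOpenImmersion ι, ?_, ?_⟩
  · rw [← hy]
    exact ⟨y, hyg, rfl⟩
  · rw [← closure_subset_iff_isClosed]
    rintro ⟨t, ht⟩ htc
    rw [← specializes_iff_mem_closure] at htc
    have hst : h pt ⤳ t := htc.map continuous_subtype_val
    obtain ⟨yt, hytg, rfl⟩ := ht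
    rw [← hy] at hst
    have hst' : (y : Spec A) ⤳ yt := ι.isOpenEmbedding.isInducing.specializes_iff.mp hst
    have hle0 := (PrimeSpectrum.le_iff_specializes (R := A) y yt).mpr hst'
    have hle : (y : PrimeSpectrum A).asIdeal ≤ (yt : PrimeSpectrum A).asIdeal :=
      (PrimeSpectrum.asIdeal_le_asIdeal (R := A) y yt).mpr hle0
    have hle' : RingHom.ker ψ.hom ≤ (yt : PrimeSpectrum A).asIdeal := by
      rw [← hyI]; exact hle
    have heq := hg _ (yt : PrimeSpectrum A).isPrime hle' hytg
    have hyt : yt = y := by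
      apply PrimeSpectrum.ext
      rw [heq, hyI]
    rw [Set.mem_singleton_iff, Subtype.mk.injEq]
    show ι yt = h pt
    rw [hyt, hy]

/-- **Key lemma**: a point of a scheme which is the image of a morphism locally of finite type
from the spectrum of a field is closed in some affine open neighbourhood. -/
theorem exists_affineOpen_isClosed_of_locallyOfFiniteType {S : Scheme.{u}} {R : CommRingCat.{u}}
    (hR : IsField R) (h : Spec R ⟶ S) [LocallyOfFiniteType h] (pt : Spec R) :
    ∃ U : S.Opens, IsAffineOpen U ∧ ∃ hs : h pt ∈ U, IsClosed ({⟨h pt, hs⟩} : Set ↥U) := by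
  obtain ⟨i, y, hy⟩ := S.affineCover.exists_eq (h pt)
  have hi : IsOpenImmersion (S.affineCover.f i) := inferInstance
  exact @exists_affineOpen_isClosed_aux S R hR h _ pt _ (S.affineCover.f i) hi y hy


/-- A point closed in an open neighbourhood is a finite type point. -/
theorem locallyOfFiniteType_fromSpecResidueField_of_isClosed {S : Scheme.{u}} (s : S)
    (U : S.Opens) (hs : s ∈ U) (hcl : IsClosed ({⟨s, hs⟩} : Set ↥U)) :
    LocallyOfFiniteType (S.fromSpecResidueField s) := by
  let z : U.toScheme := ⟨s, hs⟩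
  have hci : IsClosedImmersion (U.toScheme.fromSpecResidueField z) :=
    isClosed_singleton_iff_isClosedImmersion.mp hcl
  have hnat := Scheme.Hom.SpecMap_residueFieldMap_fromSpecResidueField U.ι z
  have h1 : LocallyOfFiniteType
      (Spec.map (U.ι.residueFieldMap z) ≫ S.fromSpecResidueField (U.ι z)) := by
    rw [hnat]; infer_instance
  have h2 : LocallyOfFiniteType (S.fromSpecResidueField (U.ι z)) :=
    (MorphismProperty.cancel_left_of_respectsIso @LocallyOfFiniteType
      (Spec.map (U.ι.residueFieldMap z)) _).mp h1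
  exact h2

/-- A finite type point is closed in some affine open neighbourhood. -/
theorem exists_affineOpen_isClosed_of_ftPoint {S : Scheme.{u}} (s : S)
    [LocallyOfFiniteType (S.fromSpecResidueField s)] :
    ∃ U : S.Opens, IsAffineOpen U ∧ ∃ hs : s ∈ U, IsClosed ({⟨s, hs⟩} : Set ↥U) := by
  have hR : IsField (S.residueField s) := Field.toIsField _
  let pt : Spec (S.residueField s) := IsLocalRing.closedPoint (S.residueField s)
  obtain ⟨U, hU, hs, hcl⟩ :=
    exists_affineOpen_isClosed_of_locallyOfFiniteType hR (S.fromSpecResidueField s) pt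
  have hpt : S.fromSpecResidueField s pt = s := Scheme.fromSpecResidueField_apply s pt
  refine ⟨U, hU, hpt ▸ hs, ?_⟩
  convert hcl using 2
  exact Subtype.ext hpt.symm


/-- For a field `k`, the canonical map `Spec κ(x) ⟶ Spec k` is an isomorphism. -/
theorem isIso_fromSpecResidueField_of_field (k : Type u) [Field k]
    (x : Spec (CommRingCat.of k)) :
    IsIso ((Spec (CommRingCat.of k)).fromSpecResidueField x) := by
  rw [← Scheme.Spec.map_residueFieldIso_inv_eq_fromSpecResidueField]
  have hmax : (x : PrimeSpectrum k).asIdeal.IsMaximal := by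
    have : (x : PrimeSpectrum k).asIdeal = ⊥ := Ideal.eq_bot_of_prime _
    rw [this]; exact Ideal.bot_isMaximal
  have hbij : Function.Bijective (algebraMap k (x : PrimeSpectrum k).asIdeal.ResidueField) :=
    ⟨(algebraMap k (x : PrimeSpectrum k).asIdeal.ResidueField).injective,
      Ideal.algebraMap_residueField_surjective _⟩
  have hiso : IsIso (CommRingCat.ofHom
      (algebraMap (CommRingCat.of k) (x : PrimeSpectrum k).asIdeal.ResidueField)) :=
    (ConcreteCategory.isIso_iff_bijective _).mpr hbij
  infer_instance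

end Groth.Agent.Helper14
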