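import Mathlib
import Groth.Agent.Lib.Helper14.EtaleReg

/-!
# Smooth algebras over regular rings are regular
-/

namespace Groth.Agent.Helper14.SmoothReg

open IsLocalRing TensorProduct

universe u

/-- Étale over regular is regular (local version, for a prime of the target). -/
theorem isRegularLocalRing_of_etale (A B : Type u) [CommRing A] [CommRing B] [Algebra A B]
    [Algebra.Etale A B] [IsRegularRing A] (q : Ideal B) [q.IsPrime] :
    IsRegularLocalRing (Localization.AtPrime q) := by
  haveI : q.LiesOver (Ideal.comap (algebraMap A B) q) := ⟨rfl⟩
  exact EtaleReg.isRegularLocalRing_of_unramified_flat A B (Ideal.comap (algebraMap A B) q) q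

/-- A smooth algebra over a regular ring is regular. -/
theorem isRegularRing_of_smooth (R S : Type u) [CommRing R] [CommRing S] [Algebra R S]
    [Algebra.Smooth R S] [IsRegularRing R] : IsRegularRing S := by
  haveI : IsNoetherianRing S := Algebra.FiniteType.isNoetherianRing R S
  rw [isRegularRing_iff]
  intro q hq
  obtain ⟨f, hf, n, alg, htower, hse⟩ :=
    Algebra.IsSmoothAt.exists_isStandardEtale_mvPolynomial (R := R) (p := q)
  set q' : Ideal (Localization.Away f) := q.map (algebraMap S (Localization.Away f)) with hq'
  have hdisj : Disjoint (Submonoid.powers f : Set S) (q : Set S) :=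
    (Ideal.disjoint_powers_iff_notMem_of_isPrime _).mpr hf
  haveI : q'.IsPrime := IsLocalization.isPrime_of_isPrime_disjoint (.powers f) _ _ hq hdisj
  have hcomap : q'.comap (algebraMap S (Localization.Away f)) = q :=
    IsLocalization.comap_map_of_isPrime_disjoint (.powers f) _ hq hdisj
  have h1 : IsRegularLocalRing (Localization.AtPrime q') :=
    isRegularLocalRing_of_etale (MvPolynomial (Fin n) R) (Localization.Away f) q'
  have h2 : IsRegularLocalRing
      (Localization.AtPrime (q'.comap (algebraMap S (Localization.Away f)))) :=
    @IsRegularLocalRing.of_ringEquiv (Localization.AtPrime q') _ h1 _ _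
      (IsLocalization.localizationLocalizationAtPrimeIsoLocalization
        (Submonoid.powers f) q').symm.toRingEquiv
  have key : ∀ (r' : Ideal S) [r'.IsPrime], r' = q →
      IsRegularLocalRing (Localization.AtPrime r') → IsRegularLocalRing (Localization.AtPrime q) := by
    intro r' _ h
    subst h
    exact id
  exact key _ hcomap h2

end Groth.Agent.Helper14.SmoothReg
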