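import Mathlib
import Groth.Agent.Lib.Lead.RLR6
import Groth.Agent.Lib.Helper14.GeomRedSmooth
import Groth.Agent.Lib.Helper14.SmoothReg

/-!
# Regular local rings with separable residue field are smooth (essentially of finite type over a
field)
-/

namespace Groth.Agent.Helper14.RegSmooth

open IsLocalRing TensorProduct KaehlerDifferential

universe u

section tensor

variable {P K : Type u} [CommRing P] [CommRing K] [Algebra P K]

theorem exists_one_tmul (hK : Function.Surjective (algebraMap P K)) {M : Type u} [AddCommGroup M]
    [Module P M] (t : K ⊗[P] M) : ∃ x : M, t = (1 : K) ⊗ₜ[P] x := by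
  induction t using TensorProduct.induction_on with
  | zero => exact ⟨0, by simp⟩
  | tmul a y =>
    obtain ⟨p, rfl⟩ := hK a
    refine ⟨p • y, ?_⟩
    rw [TensorProduct.tmul_smul, TensorProduct.smul_tmul', Algebra.smul_def, mul_one]
  | add s t hs ht =>
    obtain ⟨x, rfl⟩ := hs
    obtain ⟨y, rfl⟩ := ht
    exact ⟨x + y, by rw [TensorProduct.tmul_add]⟩

theorem one_tmul_eq_zero_iff (hK : Function.Surjective (algebraMap P K)) {M : Type u}
    [AddCommGroup M] [Module P M] (x : M) :
    (1 : K) ⊗ₜ[P] x = 0 ↔ x ∈ (RingHom.ker (algebraMap P K)) • (⊤ : Submodule P M) := by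
  constructor
  · intro h
    let e : (P ⧸ RingHom.ker (algebraMap P K)) ≃ₐ[P] K :=
      Ideal.quotientKerAlgEquivOfSurjective (f := Algebra.ofId P K) hK
    let φ : K ⊗[P] M ≃ₗ[P] M ⧸ (RingHom.ker (algebraMap P K)) • (⊤ : Submodule P M) :=
      (TensorProduct.congr e.symm.toLinearEquiv (LinearEquiv.refl P M)).trans
        (quotTensorEquivQuotSMul M (RingHom.ker (algebraMap P K)))
    have h1 : φ ((1 : K) ⊗ₜ[P] x) = Submodule.Quotient.mk x := by
      have h2 : e.symm 1 = Ideal.Quotient.mk _ 1 := by
        rw [map_one, map_one]
      simp only [φ, LinearEquiv.trans_apply, TensorProduct.congr_tmul, AlgEquiv.toLinearEquiv_apply,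
        LinearEquiv.refl_apply, h2, quotTensorEquivQuotSMul_mk_tmul, one_smul]
    rw [h, map_zero] at h1
    exact (Submodule.Quotient.mk_eq_zero _).mp h1.symm
  · intro h
    refine Submodule.smul_induction_on h ?_ ?_
    · intro r hr y _
      rw [TensorProduct.tmul_smul, TensorProduct.smul_tmul', Algebra.smul_def, mul_one,
        (RingHom.mem_ker).mp hr, TensorProduct.zero_tmul]
    · intro y z hy hz
      rw [TensorProduct.tmul_add, hy, hz, add_zero]

theorem lTensor_inclusion_injective (hK : Function.Surjective (algebraMap P K)) (I J : Ideal P)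
    (hJ : J = RingHom.ker (algebraMap P K)) (hIJ : I ≤ J) (hI : I ⊓ J ^ 2 ≤ J * I) :
    Function.Injective (LinearMap.lTensor K (Submodule.inclusion hIJ)) := by
  rw [injective_iff_map_eq_zero]
  intro t ht
  obtain ⟨x, rfl⟩ := exists_one_tmul hK t
  rw [LinearMap.lTensor_tmul, one_tmul_eq_zero_iff hK, ← hJ, Submodule.mem_smul_top_iff] at ht
  rw [one_tmul_eq_zero_iff hK, ← hJ, Submodule.mem_smul_top_iff]
  have h1 : (x : P) ∈ I ⊓ J ^ 2 := by
    refine ⟨x.2, ?_⟩
    rw [pow_two]
    exact ht
  exact hI h1

end tensor

section main

open Groth.Agent.Lead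

variable (k : Type u) [Field k] (P A : Type u) [CommRing P] [CommRing A] [Algebra k P]
  [Algebra k A] [Algebra P A] [IsScalarTower k P A]

theorem inf_sq_le_of_regular [IsRegularLocalRing P] (I : Ideal P) [IsRegularLocalRing (P ⧸ I)] :
    I ⊓ maximalIdeal P ^ 2 ≤ maximalIdeal P * I := by
  obtain ⟨c, e, z, hce, hz, hIz⟩ := RLR.exists_adapted_generators_of_regular_quotient I
  have := RLR.inf_sq_eq_mul_of_generators z hz hce.symm (Fin.castAdd e) (Fin.castAdd_injective c e)
  rw [← hIz] at this
  exact this.le

theorem formallySmooth_of_regular [IsRegularLocalRing P] [IsRegularLocalRing A]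
    [Algebra.FormallySmooth k P] [Module.Free P Ω[P⁄k]] [Module.Finite P Ω[P⁄k]]
    (hsurj : Function.Surjective (algebraMap P A))
    (hκ : Algebra.FormallySmooth k (ResidueField A)) : Algebra.FormallySmooth k A := by
  set K := ResidueField A with hKdef
  have hsurjK : Function.Surjective (algebraMap P K) := by
    rw [IsScalarTower.algebraMap_eq P A K]
    exact (IsLocalRing.residue_surjective).comp hsurj
  have hFG : (RingHom.ker (algebraMap P A)).FG := (RingHom.ker (algebraMap P A)).fg_of_isNoetherianRing
  have hFGK : (RingHom.ker (algebraMap P K)).FG := (RingHom.ker (algebraMap P K)).fg_of_isNoetherianRing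
  have h₃ : maximalIdeal A ≤ RingHom.ker (algebraMap A K) := by
    intro x hx
    rw [RingHom.mem_ker]
    exact (IsLocalRing.residue_eq_zero_iff x).mpr hx
  have h₃K : maximalIdeal K ≤ RingHom.ker (algebraMap K K) := by
    rw [IsLocalRing.maximalIdeal_eq_bot]
    exact bot_le
  rw [Algebra.FormallySmooth.iff_injective_cotangentComplexBaseChange P K hsurj hFG h₃]
  have hinjK := (Algebra.FormallySmooth.iff_injective_cotangentComplexBaseChange (R := k) (S := K)
    P K hsurjK hFGK h₃K).mp hκ
  have hIJ : RingHom.ker (algebraMap P A) ≤ RingHom.ker (algebraMap P K) := by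
    intro x hx
    rw [RingHom.mem_ker] at hx ⊢
    rw [IsScalarTower.algebraMap_apply P A K, hx, map_zero]
  have hJ : RingHom.ker (algebraMap P K) = maximalIdeal P := by
    haveI : (RingHom.ker (algebraMap P K)).IsMaximal := RingHom.ker_isMaximal_of_surjective _ hsurjK
    exact IsLocalRing.eq_maximalIdeal inferInstance
  haveI : IsRegularLocalRing (P ⧸ RingHom.ker (algebraMap P A)) :=
    IsRegularLocalRing.of_ringEquiv (RingHom.quotientKerEquivOfSurjective hsurj).symm
  have hI : RingHom.ker (algebraMap P A) ⊓ (RingHom.ker (algebraMap P K)) ^ 2 ≤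
      RingHom.ker (algebraMap P K) * RingHom.ker (algebraMap P A) := by
    rw [hJ]
    exact inf_sq_le_of_regular P _
  have hinj1 := lTensor_inclusion_injective hsurjK _ _ rfl hIJ hI
  have hcomp : ⇑(cotangentComplexBaseChange k A P K) =
      ⇑(cotangentComplexBaseChange k K P K) ∘ ⇑(LinearMap.lTensor K (Submodule.inclusion hIJ)) := by
    funext t
    induction t using TensorProduct.induction_on with
    | zero => simp
    | tmul a b => rfl
    | add s t hs ht =>
      simp only [map_add, Function.comp_apply] at hs ht ⊢
      rw [hs, ht]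
  rw [hcomp]
  exact hinjK.comp hinj1

end main

section global

variable (k : Type u) [Field k] (S : Type u) [CommRing S] [Algebra k S] [Algebra.FiniteType k S]
  (q : Ideal S) [q.IsPrime]

theorem isSmoothAt_of_regular [Algebra.IsGeometricallyReduced k q.ResidueField]
    [IsRegularLocalRing (Localization.AtPrime q)] : Algebra.IsSmoothAt k q := by
  obtain ⟨n, f₀, hf₀⟩ := Algebra.FiniteType.iff_quotient_mvPolynomial''.mp
    (inferInstance : Algebra.FiniteType k S)
  set Q : Ideal (MvPolynomial (Fin n) k) := q.comap f₀.toRingHom with hQ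
  haveI : Q.IsPrime := Ideal.comap_isPrime _ _
  set fP : Localization.AtPrime Q →+* Localization.AtPrime q :=
    Localization.localRingHom Q q f₀.toRingHom rfl with hfP
  have hsurj : Function.Surjective fP :=
    RingHom.surjective_localRingHom_of_surjective f₀.toRingHom hf₀ q
  letI : Algebra (Localization.AtPrime Q) (Localization.AtPrime q) := fP.toAlgebra
  haveI : IsScalarTower k (Localization.AtPrime Q) (Localization.AtPrime q) := by
    refine IsScalarTower.of_algebraMap_eq (fun x => ?_)
    rw [RingHom.algebraMap_toAlgebra, IsScalarTower.algebraMap_apply k (MvPolynomial (Fin n) k)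
      (Localization.AtPrime Q), hfP, Localization.localRingHom_to_map,
      IsScalarTower.algebraMap_apply k S (Localization.AtPrime q)]
    simp
  haveI : Algebra.FormallyEtale (MvPolynomial (Fin n) k) (Localization.AtPrime Q) :=
    .of_isLocalization Q.primeCompl
  haveI : Algebra.FormallySmooth k (Localization.AtPrime Q) :=
    .comp _ (MvPolynomial (Fin n) k) _
  haveI : Module.Free (Localization.AtPrime Q) Ω[Localization.AtPrime Q⁄k] :=
    .of_equiv (KaehlerDifferential.tensorKaehlerEquivOfFormallyEtale k (MvPolynomial (Fin n) k)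
      (Localization.AtPrime Q))
  haveI : Module.Finite (Localization.AtPrime Q) Ω[Localization.AtPrime Q⁄k] :=
    Module.Finite.equiv (KaehlerDifferential.tensorKaehlerEquivOfFormallyEtale k
      (MvPolynomial (Fin n) k) (Localization.AtPrime Q))
  haveI : IsRegularLocalRing (Localization.AtPrime Q) :=
    IsRegularRing.isRegularLocalRing_localization Q
  haveI : Algebra.EssFiniteType k q.ResidueField := by
    haveI : Algebra.EssFiniteType k (Localization.AtPrime q) :=
      Algebra.EssFiniteType.comp k S (Localization.AtPrime q)
    exact Algebra.EssFiniteType.comp k (Localization.AtPrime q) q.ResidueField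
  have hκ : Algebra.FormallySmooth k (ResidueField (Localization.AtPrime q)) :=
    Groth.Agent.Helper14.formallySmooth_of_isGeometricallyReduced_of_essFiniteType k q.ResidueField
  exact formallySmooth_of_regular k (Localization.AtPrime Q) (Localization.AtPrime q) hsurj hκ

theorem isRegularLocalRing_of_away {S : Type u} [CommRing S] (q : Ideal S) [hq : q.IsPrime]
    (f : S) (hf : f ∉ q) [IsRegularRing (Localization.Away f)] :
    IsRegularLocalRing (Localization.AtPrime q) := by
  set q' : Ideal (Localization.Away f) := q.map (algebraMap S (Localization.Away f)) with hq'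
  have hdisj : Disjoint (Submonoid.powers f : Set S) (q : Set S) :=
    (Ideal.disjoint_powers_iff_notMem_of_isPrime _).mpr hf
  haveI : q'.IsPrime := IsLocalization.isPrime_of_isPrime_disjoint (.powers f) _ _ hq hdisj
  have hcomap : q'.comap (algebraMap S (Localization.Away f)) = q :=
    IsLocalization.under_map_of_isPrime_disjoint (.powers f) _ hq hdisj
  have h1 : IsRegularLocalRing (Localization.AtPrime q') :=
    IsRegularRing.isRegularLocalRing_localization q'
  have h2 : IsRegularLocalRing
      (Localization.AtPrime (q'.comap (algebraMap S (Localization.Away f)))) :=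
    @IsRegularLocalRing.of_ringEquiv (Localization.AtPrime q') _ h1 _ _
      (IsLocalization.localizationLocalizationAtPrimeIsoLocalization
        (Submonoid.powers f) q').symm.toRingEquiv
  have key : ∀ (r' : Ideal S) [r'.IsPrime], r' = q →
      IsRegularLocalRing (Localization.AtPrime r') → IsRegularLocalRing (Localization.AtPrime q) := by
    intro r' _ h
    subst h
    exact id
  exact key _ hcomap h2

theorem isRegularLocalRing_of_isSmoothAt [Algebra.IsSmoothAt k q] :
    IsRegularLocalRing (Localization.AtPrime q) := by
  haveI : Algebra.FinitePresentation k S := Algebra.FinitePresentation.of_finiteType.mp inferInstance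
  obtain ⟨f, hf, hsm⟩ := Algebra.IsSmoothAt.exists_notMem_smooth k q
  haveI : IsRegularRing (Localization.Away f) := SmoothReg.isRegularRing_of_smooth k _
  exact isRegularLocalRing_of_away q f hf

end global

end Groth.Agent.Helper14.RegSmooth
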