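import Mathlib
import Groth.Prelude.Def_Flat
import Groth.Agent.Lib.Helper14.FibreDimBC
import Groth.Agent.Lib.Helper14.FibreChart

/-!
# Base change of a field: local dimensions of `Spec (K ⊗[k] S)` versus `Spec S`
-/

namespace Groth.Agent.Helper14.FieldBC
universe u
open AlgebraicGeometry CategoryTheory Limits TensorProduct

/-- over a one-point base the fibre dimension is the local dimension. -/
theorem fibreDimAt_eq_localDim {X Y : Scheme.{u}} (f : X ⟶ Y) [Subsingleton Y] (x : X) :
    FlatMor.fibreDimAt f x = FlatMor.localDim X x := by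
  have hrange : Set.range (f.fiberι (f x)) = Set.univ := by
    rw [Scheme.Hom.range_fiberι]
    ext z
    simp only [Set.mem_preimage, Set.mem_singleton_iff, Set.mem_univ, iff_true]
    exact Subsingleton.elim _ _
  have hopen : Topology.IsOpenEmbedding (f.fiberι (f x)) :=
    ⟨(f.fiberι (f x)).isEmbedding, by rw [hrange]; exact isOpen_univ⟩
  have := FibreChart.localDim_openEmbedding _ hopen (f.asFiber x)
  rw [f.fiberι_asFiber] at this
  exact this.symm

section ring
variable {k S K : Type u} [Field k] [CommRing S] [Algebra k S] [Algebra.FiniteType k S] [Field K]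
  [Algebra k K]

theorem isPullback_tensor :
    IsPullback
      (Spec.map (CommRingCat.ofHom
        (Algebra.TensorProduct.includeRight.toRingHom : S →+* K ⊗[k] S)))
      (Spec.map (CommRingCat.ofHom
        (Algebra.TensorProduct.includeLeftRingHom : K →+* K ⊗[k] S)))
      (Spec.map (CommRingCat.ofHom (algebraMap k S)))
      (Spec.map (CommRingCat.ofHom (algebraMap k K))) :=
  isPullback_SpecMap_of_isPushout _ _ _ _ (CommRingCat.isPushout_tensorProduct k K S).flip

omit [Algebra.FiniteType k S] in
theorem locallyOfFiniteType_SpecMap [Algebra.FiniteType k S] :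
    LocallyOfFiniteType (Spec.map (CommRingCat.ofHom (algebraMap k S))) := by
  rw [HasRingHomProperty.Spec_iff (P := @LocallyOfFiniteType)]
  exact (RingHom.finiteType_algebraMap (A := k) (B := S)).mpr inferInstance

/-- **Local dimension is invariant under extension of the base field.** -/
theorem localDim_tensor_eq (qK : PrimeSpectrum (K ⊗[k] S)) :
    FlatMor.localDim (PrimeSpectrum (K ⊗[k] S)) qK =
      FlatMor.localDim (PrimeSpectrum S)
        (PrimeSpectrum.comap
          (Algebra.TensorProduct.includeRight.toRingHom : S →+* K ⊗[k] S) qK) := by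
  haveI := locallyOfFiniteType_SpecMap (k := k) (S := S)
  haveI : Subsingleton ↥(Spec (CommRingCat.of k)) :=
    inferInstanceAs (Subsingleton (PrimeSpectrum k))
  haveI : Subsingleton ↥(Spec (CommRingCat.of K)) :=
    inferInstanceAs (Subsingleton (PrimeSpectrum K))
  have h := FibreDimBC.fibreDimAt_eq (isPullback_tensor (k := k) (S := S) (K := K)) qK
  rw [fibreDimAt_eq_localDim, fibreDimAt_eq_localDim] at h
  exact h

end ring

end Groth.Agent.Helper14.FieldBC
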