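import Mathlib
import Groth.Agent.Lib.Helper14.GeomIrred
import Groth.Agent.Lib.Helper14.SepGen

/-!
# Geometric irreducibility of a field extension and relative separable closedness (helper14)
-/

set_option autoImplicit false

namespace Groth.Agent.Helper14.SepClosedIn

open TensorProduct Function Polynomial Groth.Agent.Helper14 Groth.Agent.Helper14.AlgClosedTensor
  Groth.Agent.Helper14.GeomIrred

universe u

variable {k K : Type u} [Field k] [Field K] [Algebra k K]

/-- If `A/k` is finite separable, embeds into `K`, and `A ⊗ K` has irreducible spectrum, then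
`A = k`. -/
theorem finrank_eq_one_of_irreducible (A : Type u) [Field A] [Algebra k A] [Module.Finite k A]
    [Algebra.IsSeparable k A] (j : A →ₐ[k] K)
    (h : (nilradical (A ⊗[k] K)).IsPrime) : Module.finrank k A = 1 := by
  let e := Algebra.TensorProduct.comm k K A
  have h' : (nilradical (K ⊗[k] A)).IsPrime :=
    isPrime_nilradical_of_injective e.toAlgHom.toRingHom e.injective h
  have hred : IsReduced (K ⊗[k] A) := isReduced_tensor_of_isSeparable
  rw [nilradical_eq_zero] at h'
  have hdom : IsDomain (K ⊗[k] A) := IsDomain.of_bot_isPrime _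
  have hfield : IsField (K ⊗[k] A) :=
    isField_of_isIntegral_of_isField' (R := K) (Field.toIsField K)
  let μ : K ⊗[k] A →ₐ[K] K :=
    Algebra.TensorProduct.lift (AlgHom.id K K) j (fun _ _ => Commute.all _ _)
  have hμ : Injective μ := by
    rw [injective_iff_map_eq_zero]
    intro x hx
    by_contra hx0
    obtain ⟨y, hy⟩ := hfield.mul_inv_cancel hx0
    have : μ (x * y) = 1 := by rw [hy, map_one]
    rw [map_mul, hx, zero_mul] at this
    exact zero_ne_one this
  have h1 : Module.finrank K (K ⊗[k] A) ≤ Module.finrank K K :=
    LinearMap.finrank_le_finrank_of_injective (f := μ.toLinearMap) hμ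
  rw [Module.finrank_baseChange, Module.finrank_self] at h1
  exact le_antisymm h1 Module.finrank_pos

/-- If `k(α) ⊗ K` has irreducible spectrum for `α ∈ K` separable over `k`, then `α ∈ k`. -/
theorem mem_range_of_isSeparable_of_irreducible (α : K) (hα : IsSeparable k α)
    (h : IrreducibleSpace (PrimeSpectrum ((IntermediateField.adjoin k {α} : IntermediateField k K)
      ⊗[k] K))) : α ∈ Set.range (algebraMap k K) := by
  have hint : IsIntegral k α := hα.isIntegral
  have hfd : FiniteDimensional k (IntermediateField.adjoin k {α} : IntermediateField k K) :=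
    IntermediateField.adjoin.finiteDimensional hint
  have hsep : Algebra.IsSeparable k (IntermediateField.adjoin k {α} : IntermediateField k K) := by
    rw [IntermediateField.isSeparable_adjoin_simple_iff_isSeparable]
    exact hα
  rw [PrimeSpectrum.irreducibleSpace_iff_isPrime_nilradical] at h
  have h2 := finrank_eq_one_of_irreducible
    (IntermediateField.adjoin k {α} : IntermediateField k K)
    (IntermediateField.adjoin k {α} : IntermediateField k K).val h
  rw [IntermediateField.finrank_eq_one_iff] at h2
  have h3 : α ∈ (⊥ : IntermediateField k K) := by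
    rw [← h2]
    exact IntermediateField.mem_adjoin_simple_self k α
  exact IntermediateField.mem_bot.mp h3


/-- Coefficients of a monic factor over `K` of a separable polynomial over `k` are separable
over `k`. -/
theorem isSeparable_coeff_of_dvd_map (f : k[X]) (hf : f.Separable) (g : K[X]) (hg : g.Monic)
    (hgf : g ∣ f.map (algebraMap k K)) (n : ℕ) : IsSeparable k (g.coeff n) := by
  have hsplit : (g.map (algebraMap K (AlgebraicClosure K))).Splits := IsAlgClosed.splits _
  have hroots : ∀ r ∈ (g.map (algebraMap K (AlgebraicClosure K))).roots,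
      r ∈ (algebraMap (separableClosure k (AlgebraicClosure K)) (AlgebraicClosure K)).range := by
    intro r hr
    have h1 : (g.map (algebraMap K (AlgebraicClosure K))).IsRoot r := (mem_roots'.mp hr).2
    have h2 : aeval r f = 0 := by
      obtain ⟨q, hq⟩ := hgf
      have h3 : aeval r (f.map (algebraMap k K)) = 0 := by
        rw [hq, map_mul, aeval_def, eval₂_eq_eval_map, h1, zero_mul]
      rwa [aeval_map_algebraMap] at h3
    have h4 : minpoly k r ∣ f := minpoly.dvd k r h2
    have h5 : IsSeparable k r := hf.of_dvd h4
    exact ⟨⟨r, mem_separableClosure_iff.mpr h5⟩, rfl⟩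
  have hlift := hsplit.mem_lift_of_roots_mem_range (hg.map _)
    (algebraMap (separableClosure k (AlgebraicClosure K)) (AlgebraicClosure K)) hroots
  rw [lifts_iff_coeff_lifts] at hlift
  obtain ⟨c, hc⟩ := hlift n
  rw [coeff_map] at hc
  have hcsep : IsSeparable k (c : AlgebraicClosure K) := mem_separableClosure_iff.mp c.2
  have hc' : algebraMap K (AlgebraicClosure K) (g.coeff n) = (c : AlgebraicClosure K) := hc.symm
  rw [IsSeparable, ← minpoly.algebraMap_eq (algebraMap K (AlgebraicClosure K)).injective, hc']
  exact hcsep

/-- If every element of `K` separable over `k` lies in `k`, then `k' ⊗ K` is a domain for every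
finite separable extension `k'/k`. -/
theorem isDomain_tensor_of_sepClosedIn
    (hK : ∀ α : K, IsSeparable k α → α ∈ Set.range (algebraMap k K))
    (k' : Type u) [Field k'] [Algebra k k'] [Module.Finite k k'] [Algebra.IsSeparable k k'] :
    IsDomain (K ⊗[k] k') := by
  let pb := Field.powerBasisOfFiniteOfSeparable k k'
  let j : k' →ₐ[k] AlgebraicClosure K := IsAlgClosed.lift
  have hfsep : (minpoly k pb.gen).Separable := Algebra.IsSeparable.isSeparable k pb.gen
  have hint : IsIntegral K (j pb.gen) :=
    ((Algebra.IsIntegral.isIntegral (R := k) pb.gen).map j).tower_top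
  -- the minimal polynomial over `K` divides the one over `k`
  have hdvd : minpoly K (j pb.gen) ∣ (minpoly k pb.gen).map (algebraMap k K) := by
    apply minpoly.dvd
    rw [aeval_map_algebraMap, aeval_algHom_apply, minpoly.aeval, map_zero]
  have hlifts : minpoly K (j pb.gen) ∈ lifts (algebraMap k K) := by
    rw [lifts_iff_coeff_lifts]
    intro n
    exact hK _ (isSeparable_coeff_of_dvd_map _ hfsep _ (minpoly.monic hint) hdvd n)
  obtain ⟨g₀, hg₀, hdeg, hmonic⟩ := lifts_and_natDegree_eq_and_monic hlifts (minpoly.monic hint)
  have hroot : aeval pb.gen g₀ = 0 := by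
    have h1 : j (aeval pb.gen g₀) = 0 := by
      rw [← aeval_algHom_apply, ← aeval_map_algebraMap K, hg₀, minpoly.aeval]
    exact (injective_iff_map_eq_zero j).mp j.injective _ h1
  have hle : pb.dim ≤ (minpoly K (j pb.gen)).natDegree := by
    rw [← pb.natDegree_minpoly, ← hdeg]
    exact natDegree_le_of_dvd (minpoly.dvd k pb.gen hroot) hmonic.ne_zero
  -- the map to the algebraic closure is injective
  let μ : K ⊗[k] k' →ₐ[K] AlgebraicClosure K :=
    Algebra.TensorProduct.lift (Algebra.ofId K (AlgebraicClosure K)) j
      (fun _ _ => Commute.all _ _)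
  let B := Algebra.TensorProduct.basis K pb.basis
  have hμB : ∀ i, μ (B i) = (j pb.gen) ^ (i : ℕ) := by
    intro i
    simp only [B, Algebra.TensorProduct.basis_apply, μ, Algebra.TensorProduct.lift_tmul, map_one,
      one_mul, pb.basis_eq_pow, map_pow]
  have hli : LinearIndependent K (μ.toLinearMap ∘ B) := by
    have h1 := (linearIndependent_pow (K := K) (j pb.gen)).comp (Fin.castLE hle)
      (Fin.castLE_injective hle)
    convert h1 using 1
    ext i
    simp only [Function.comp_apply, AlgHom.toLinearMap_apply, hμB, Fin.val_castLE]
  have hinj : Injective μ := LinearMap.injective_of_linearIndependent (f := μ.toLinearMap)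
    B.span_eq hli
  exact hinj.isDomain μ.toRingHom

/-- If every element of `K` separable over `k` lies in `k` then `K/k` is geometrically
irreducible. -/
theorem isPrime_nilradical_of_sepClosedIn
    (hK : ∀ α : K, IsSeparable k α → α ∈ Set.range (algebraMap k K))
    (k' : Type u) [Field k'] [Algebra k k'] : (nilradical (k' ⊗[k] K)).IsPrime := by
  have h2 : ∀ (k' : Type u) [Field k'] [Algebra k k'] [Module.Finite k k']
      [Algebra.IsSeparable k k'], IrreducibleSpace (PrimeSpectrum (k' ⊗[k] K)) := by
    intro k' _ _ _ _
    have hdom := isDomain_tensor_of_sepClosedIn hK k'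
    let e := Algebra.TensorProduct.comm k k' K
    have : IsDomain (k' ⊗[k] K) := e.injective.isDomain e.toAlgHom.toRingHom
    infer_instance
  have h3 := isPrime_nilradical_of_forall_finite_separable K (SeparableClosure k) h2
  have h4 := isPrime_nilradical_algebraicClosure K h3
  exact isPrime_nilradical_of_algebraicClosure K h4 k'

end Groth.Agent.Helper14.SepClosedIn
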