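import Mathlib.AlgebraicGeometry.PullbackCarrier
import Mathlib.AlgebraicGeometry.Morphisms.QuasiCompact

set_option autoImplicit false
universe u

open AlgebraicGeometry CategoryTheory

namespace Groth.Agent.Helper14

theorem exists_preimage_of_isPullback {X S X' S' : Scheme.{u}} {f : X ⟶ S} {g : S' ⟶ S}
    {g' : X' ⟶ X} {f' : X' ⟶ S'} (hsq : IsPullback g' f' f g) (x : X) (y : S')
    (h : f x = g y) : ∃ z : X', g' z = x ∧ f' z = y := by
  obtain ⟨w, hw1, hw2⟩ := Scheme.Pullback.exists_preimage_pullback (f := f) (g := g) x y h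
  refine ⟨hsq.isoPullback.inv w, ?_, ?_⟩
  · rw [← Scheme.Hom.comp_apply, hsq.isoPullback_inv_fst]
    exact hw1
  · rw [← Scheme.Hom.comp_apply, hsq.isoPullback_inv_snd]
    exact hw2

theorem range_snd_of_isPullback {X S X' S' : Scheme.{u}} {f : X ⟶ S} {g : S' ⟶ S}
    {g' : X' ⟶ X} {f' : X' ⟶ S'} (hsq : IsPullback g' f' f g) :
    Set.range f' = g ⁻¹' Set.range f := by
  ext y
  constructor
  · rintro ⟨z, rfl⟩
    refine ⟨g' z, ?_⟩
    rw [← Scheme.Hom.comp_apply, ← Scheme.Hom.comp_apply, hsq.w]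
  · rintro ⟨x, hx⟩
    obtain ⟨z, -, hz⟩ := exists_preimage_of_isPullback hsq x y hx
    exact ⟨z, hz⟩

end Groth.Agent.Helper14
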