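import Mathlib
import Groth.Prelude.Def_Cyc
import Groth.Prelude.Def_Flat
import Groth.Agent.Lib.Helper14.DimClosure
import Groth.Agent.Lib.Helper14.DimFun
import Groth.Agent.Lib.Helper14.DimIneqGen
import Groth.Agent.Lib.Helper14.LocalDimAlg
import Groth.Agent.Lib.Helper14.ResFieldBridge
import Groth.Agent.Lib.Helper14.RegHomTFAE
import Groth.Agent.Lib.Helper14.LocalDimSch
import Groth.Agent.Lib.Helper14.DimFormulaSch
import Groth.Agent.Lib.Helper16.Sch.FibStalk

/-!
# Fibres of constant relative dimension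
-/

namespace Groth.Agent.Helper14.FlatRelDim
universe u
open TopologicalSpace AlgebraicGeometry CategoryTheory

variable {X Y : Scheme.{u}} (f : X ⟶ Y) [LocallyOfFiniteType f]

/-- In a fibre all of whose irreducible components have dimension `d`:
`dim O_{F,z} + trdeg κ(z)/κ(y) = d`. -/
theorem stalk_fibre_add_trdeg (d : ℕ) (hd : Cyc.HasRelDim f d) (y : Y) (z : f.fiber y) :
    ∃ n m : ℕ, ringKrullDim ((f.fiber y).presheaf.stalk z) = n ∧
      DimClosure.trdegFun (f.fiberToSpecResidueField y) z = m ∧ n + m = d := by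
  let k := Y.residueField y
  let g : f.fiber y ⟶ Spec (CommRingCat.of k) := f.fiberToSpecResidueField y
  haveI : LocallyOfFiniteType g := by
    show LocallyOfFiniteType (f.fiberToSpecResidueField y)
    exact MorphismProperty.pullback_snd _ _ inferInstance
  haveI : IsLocallyNoetherian (f.fiber y) := LocallyOfFiniteType.isLocallyNoetherian g
  have hδ : Cyc.IsDimFun (f.fiber y) (DimClosure.trdegFun g) := DimClosure.isDimFun_trdegFun k g
  obtain ⟨W, hW, hzW⟩ : ∃ W : (f.fiber y).Opens, IsAffineOpen W ∧ z ∈ W := by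
    obtain ⟨_, ⟨V, hV : IsAffineOpen V, rfl⟩, hxV, -⟩ :=
      ((f.fiber y).isBasis_affineOpens).exists_subset_of_mem_open (Set.mem_univ z) isOpen_univ
    exact ⟨V, hV, hxV⟩
  haveI hNoeth : IsNoetherianRing Γ(f.fiber y, W) :=
    IsLocallyNoetherian.component_noetherian ⟨W, hW⟩
  set pz := hW.primeIdealOf ⟨z, hzW⟩ with hpz
  haveI : pz.asIdeal.IsPrime := pz.isPrime
  obtain ⟨P, hPprime, hPmin, hPle, hht⟩ :=
    DimIneqGen.exists_minimalPrime_height_le Γ(f.fiber y, W) pz.asIdeal
  set ξ := hW.fromSpec ⟨P, hPprime⟩ with hξ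
  have hξW : ξ ∈ W := ResFieldBridge.fromSpec_mem hW _
  have hpξ : hW.primeIdealOf ⟨ξ, hξW⟩ = ⟨P, hPprime⟩ := ResFieldBridge.primeIdealOf_fromSpec hW _
  have hcomp : closure {ξ} ∈ irreducibleComponents (f.fiber y) :=
    ResFieldBridge.closure_mem_irreducibleComponents hW ⟨P, hPprime⟩ hPmin
  have hdim := hd y _ hcomp
  have hdim' := DimClosure.dim_closure_eq k g ξ
  rw [hdim] at hdim'
  have hξd : (DimClosure.trdegFun g ξ).toNat = d := by
    have : ((d : ℕ) : WithBot ℕ∞) = (((DimClosure.trdegFun g ξ).toNat : ℕ) : WithBot ℕ∞) := hdim'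
    exact_mod_cast this.symm
  have hspec : ξ ⤳ z := by
    have hfz : hW.fromSpec pz = z := hW.fromSpec_primeIdealOf ⟨z, hzW⟩
    rw [← hfz, hξ, ResFieldBridge.specializes_fromSpec_iff]
    exact hPle
  obtain ⟨n, hn, hδn⟩ := DimFun.delta_eq_add_height_sch (DimClosure.trdegFun g) hδ hW ξ z
    hξW hzW hspec
  rw [hpξ] at hn
  have hn' : (pz.asIdeal.map (Ideal.Quotient.mk P)).height = n := hn
  have hle : (pz.asIdeal.map (Ideal.Quotient.mk P)).height ≤ pz.asIdeal.height :=
    LocalDimAlg.height_map_le P pz.asIdeal hPle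
  have hhz : pz.asIdeal.height = n := le_antisymm (hht.trans_eq hn') (hn'.symm.le.trans hle)
  have hstalk : ringKrullDim ((f.fiber y).presheaf.stalk z) = n := by
    letI := (f.fiber y).presheaf.algebra_section_stalk ⟨z, hzW⟩
    haveI := hW.isLocalization_stalk ⟨z, hzW⟩
    rw [IsLocalization.AtPrime.ringKrullDim_eq_height pz.asIdeal, hhz]
    rfl
  have h0 := DimClosure.trdegFun_nonneg g z
  have h0ξ := DimClosure.trdegFun_nonneg g ξ
  refine ⟨n, (DimClosure.trdegFun g z).toNat, hstalk, ?_, ?_⟩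
  · exact (Int.toNat_of_nonneg h0).symm
  · omega

omit [LocallyOfFiniteType f] in
/-- the dimension formula for flat morphisms, at a point of a fibre. -/
theorem stalk_dim_flat [Flat f] [IsLocallyNoetherian X] [IsLocallyNoetherian Y] (y : Y)
    (z : f.fiber y) :
    ringKrullDim (X.presheaf.stalk (f.fiberι y z)) =
      ringKrullDim (Y.presheaf.stalk (f (f.fiberι y z))) +
        ringKrullDim ((f.fiber y).presheaf.stalk z) := by
  set x := f.fiberι y z with hx
  letI := (f.stalkMap x).hom.toAlgebra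
  haveI hflat : Module.Flat (Y.presheaf.stalk (f x)) (X.presheaf.stalk x) := Flat.stalkMap f x
  haveI : IsLocalHom (algebraMap (Y.presheaf.stalk (f x)) (X.presheaf.stalk x)) :=
    inferInstanceAs (IsLocalHom (f.stalkMap x).hom)
  have hK : (IsLocalRing.maximalIdeal (Y.presheaf.stalk (f x))).map
      (algebraMap (Y.presheaf.stalk (f x)) (X.presheaf.stalk x)) =
      Groth.Agent.Helper16.FibStalk.fibIdeal f x := rfl
  haveI : IsLocalRing (X.presheaf.stalk x ⧸
      (IsLocalRing.maximalIdeal (Y.presheaf.stalk (f x))).map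
        (algebraMap (Y.presheaf.stalk (f x)) (X.presheaf.stalk x))) := by
    rw [hK]; infer_instance
  have h := RegHomTFAE.dim_eq_of_flat (A := Y.presheaf.stalk (f x)) (B := X.presheaf.stalk x)
  rw [h]
  congr 1
  exact ringKrullDim_eq_of_ringEquiv (Groth.Agent.Helper16.FibStalk.quotEquivStalkFiber f y z)

/-- upper bound for the local rings of the source. -/
theorem stalk_le [Flat f] [IsLocallyNoetherian X] [IsLocallyNoetherian Y] (d : ℕ)
    (hd : Cyc.HasRelDim f d) (u : X) :
    ringKrullDim (X.presheaf.stalk u) ≤ ringKrullDim (Y.presheaf.stalk (f u)) + (d : WithBot ℕ∞) := by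
  have hι : f.fiberι (f u) (f.asFiber u) = u := f.fiberι_asFiber u
  have h := stalk_dim_flat f (f u) (f.asFiber u)
  obtain ⟨n, m, hn, -, hnm⟩ := stalk_fibre_add_trdeg f d hd (f u) (f.asFiber u)
  have e1 : ringKrullDim (X.presheaf.stalk (f.fiberι (f u) (f.asFiber u))) =
      ringKrullDim (X.presheaf.stalk u) :=
    congrArg (fun a => ringKrullDim (X.presheaf.stalk a)) hι
  have e2 : ringKrullDim (Y.presheaf.stalk (f (f.fiberι (f u) (f.asFiber u)))) =
      ringKrullDim (Y.presheaf.stalk (f u)) :=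
    congrArg (fun a => ringKrullDim (Y.presheaf.stalk (f a))) hι
  rw [e1, e2, hn] at h
  rw [h]
  gcongr
  exact_mod_cast (by omega : n ≤ d)

/-- every nonempty open part of a fibre contains a point where the bound is attained. -/
theorem exists_stalk_eq [Flat f] [IsLocallyNoetherian X] [IsLocallyNoetherian Y] (d : ℕ)
    (hd : Cyc.HasRelDim f d) (U : X.Opens) (u₀ : X) (hu₀ : u₀ ∈ U) :
    ∃ u ∈ U, f u = f u₀ ∧
      ringKrullDim (X.presheaf.stalk u) =
        ringKrullDim (Y.presheaf.stalk (f u₀)) + (d : WithBot ℕ∞) := by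
  let k := Y.residueField (f u₀)
  let g : f.fiber (f u₀) ⟶ Spec (CommRingCat.of k) := f.fiberToSpecResidueField (f u₀)
  haveI : LocallyOfFiniteType g := by
    show LocallyOfFiniteType (f.fiberToSpecResidueField (f u₀))
    exact MorphismProperty.pullback_snd _ _ inferInstance
  let W : (f.fiber (f u₀)).Opens := (f.fiberι (f u₀)) ⁻¹ᵁ U
  have hι : f.fiberι (f u₀) (f.asFiber u₀) = u₀ := f.fiberι_asFiber u₀
  have hz₀ : f.asFiber u₀ ∈ W := by
    show f.fiberι (f u₀) (f.asFiber u₀) ∈ U
    rw [hι]; exact hu₀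
  obtain ⟨w, -, -, hw0⟩ := DimClosure.exists_specializes_trdeg_eq_zero (W.ι ≫ g) ⟨f.asFiber u₀, hz₀⟩
  have hcomp := DimClosure.trdeg_comp W.ι g w
  rw [hw0] at hcomp
  have hz0 : @Algebra.trdeg ((Spec (CommRingCat.of k)).residueField (g (W.ι w)))
      ((f.fiber (f u₀)).residueField (W.ι w)) _ _
      (g.residueFieldMap (W.ι w)).hom.toAlgebra = 0 := (add_eq_zero.mp hcomp.symm).1
  set z := W.ι w with hz
  have hzW : f.fiberι (f u₀) z ∈ U := w.2
  have htr : DimClosure.trdegFun g z = 0 := by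
    have := DimClosure.trdegFun_eq g z 0 (by rw [hz0]; rfl)
    exact_mod_cast this
  obtain ⟨n, m, hn, hm, hnm⟩ := stalk_fibre_add_trdeg f d hd (f u₀) z
  have hm0 : m = 0 := by
    have : (m : ℤ) = 0 := by rw [← hm]; exact htr
    exact_mod_cast this
  have hnd : n = d := by omega
  have hfz : f (f.fiberι (f u₀) z) = f u₀ := Groth.Agent.Helper16.FibStalk.apply_fiberι f (f u₀) z
  refine ⟨f.fiberι (f u₀) z, hzW, hfz, ?_⟩
  have h := stalk_dim_flat f (f u₀) z
  rw [h, hn, hnd]
  congr 1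
  exact congrArg (fun a => ringKrullDim (Y.presheaf.stalk a)) hfz

/-- the local dimension is attained on some open neighbourhood. -/
theorem exists_dim_eq_localDim {T : Type*} [TopologicalSpace T] (t : T) :
    ∃ V : Opens T, t ∈ V ∧ topologicalKrullDim (V : Set T) = FlatMor.localDim T t := by
  let S : Set (WithBot ℕ∞) :=
    Set.range (fun V : {V : Opens T // t ∈ V} => topologicalKrullDim (V.1 : Set T))
  have hS : S.Nonempty := ⟨_, ⟨⟨⊤, trivial⟩, rfl⟩⟩
  obtain ⟨V, hV⟩ := wellFounded_lt.min_mem S hS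
  refine ⟨V.1, V.2, ?_⟩
  unfold FlatMor.localDim
  apply le_antisymm
  · refine le_iInf fun V' => ?_
    have := wellFounded_lt.not_lt_min S (x := topologicalKrullDim (V'.1 : Set T)) ⟨V', rfl⟩
    have hV' : topologicalKrullDim (V.1 : Set T) = wellFounded_lt.min S hS := hV
    rw [hV']
    exact not_lt.mp this
  · exact iInf_le _ V

omit [LocallyOfFiniteType f] in
/-- **Local dimension of the source of a flat morphism of constant relative dimension.** -/
theorem localDim_eq [LocallyOfFiniteType f] [Flat f] [IsLocallyNoetherian X]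
    [IsLocallyNoetherian Y] (d : ℕ)
    (hd : Cyc.HasRelDim f d) (x : X) :
    FlatMor.localDim X x = FlatMor.localDim Y (f x) + (d : WithBot ℕ∞) := by
  apply le_antisymm
  · obtain ⟨V, hxV, hV⟩ := exists_dim_eq_localDim (T := Y) (f x)
    rw [← hV]
    have hxU : x ∈ f ⁻¹ᵁ V := hxV
    have h0 : FlatMor.localDim X x ≤ topologicalKrullDim ((f ⁻¹ᵁ V : Opens X) : Set X) := by
      unfold FlatMor.localDim
      exact iInf_le _ (⟨f ⁻¹ᵁ V, hxU⟩ : {U : Opens X // x ∈ U})
    refine h0.trans ?_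
    apply LocalDimSch.dim_opens_le
    intro u hu
    refine (stalk_le f d hd u).trans ?_
    gcongr
    exact LocalDimSch.stalk_le_dim_opens V (f u) hu
  · unfold FlatMor.localDim
    refine le_iInf ?_
    rintro ⟨U, hxU⟩
    have hopen : IsOpen ((f : X → Y) '' (U : Set X)) := f.isOpenMap _ U.isOpen
    let V : Opens Y := ⟨(f : X → Y) '' (U : Set X), hopen⟩
    have hyV : f x ∈ V := ⟨x, hxU, rfl⟩
    have h1 : (⨅ V : {V : Opens Y // f x ∈ V}, topologicalKrullDim (V.1 : Set Y)) ≤
        topologicalKrullDim (V : Set Y) := iInf_le _ (⟨V, hyV⟩ : {V : Opens Y // f x ∈ V})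
    refine (add_le_add_left h1 _).trans ?_
    rw [LocalDimSch.dim_opens V]
    apply DimFormulaSch.iSup_add_le_aux
    rintro ⟨y', u₀, hu₀, rfl⟩
    obtain ⟨u, huU, hfu, hdim⟩ := exists_stalk_eq f d hd U u₀ hu₀
    rw [← hdim]
    exact LocalDimSch.stalk_le_dim_opens U u huU

end Groth.Agent.Helper14.FlatRelDim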