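import Mathlib
import Groth.Agent.Lib.Helper14.FibreBC

namespace Groth.Agent.Helper14.PtTrdegEq
universe u
open AlgebraicGeometry CategoryTheory Limits Scheme.Pullback TensorProduct
open Groth.Agent.Helper14.FibreBC

section scheme
variable {X Y S : Scheme.{u}} {f : X ⟶ S} {g : Y ⟶ S}

/-- variant of `trdeg_snd`: the lower bound only needs minimality of the prime of `κ(x) ⊗ κ(y)`. -/
theorem le_trdeg_snd_of_minimal (t : ↑(pullback f g))
    (hmin : (SpecOfPoint t).asIdeal ∈ minimalPrimes (Triplet.ofPoint t).tensor) :
    @Algebra.trdeg (S.residueField (f (pullback.fst f g t))) (X.residueField (pullback.fst f g t))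
        _ _ (f.residueFieldMap (pullback.fst f g t)).hom.toAlgebra ≤
      @Algebra.trdeg (Y.residueField (pullback.snd f g t)) ((pullback f g).residueField t) _ _
        ((pullback.snd f g).residueFieldMap t).hom.toAlgebra := by
  let a : S.residueField (Triplet.ofPoint t).s ⟶ X.residueField (Triplet.ofPoint t).x :=
    (S.residueFieldCongr (Triplet.ofPoint t).hx).inv ≫ f.residueFieldMap (Triplet.ofPoint t).x
  let b' : S.residueField (Triplet.ofPoint t).s ⟶ Y.residueField (Triplet.ofPoint t).y :=
    (S.residueFieldCongr (Triplet.ofPoint t).hy).inv ≫ g.residueFieldMap (Triplet.ofPoint t).y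
  letI algkL : Algebra (S.residueField (Triplet.ofPoint t).s) (X.residueField (Triplet.ofPoint t).x) :=
    a.hom.toAlgebra
  letI algkK : Algebra (S.residueField (Triplet.ofPoint t).s) (Y.residueField (Triplet.ofPoint t).y) :=
    b'.hom.toAlgebra
  letI algLB : Algebra (X.residueField (Triplet.ofPoint t).x) (Triplet.ofPoint t).tensor :=
    (Triplet.ofPoint t).tensorInl.hom.toAlgebra
  letI algKB : Algebra (Y.residueField (Triplet.ofPoint t).y) (Triplet.ofPoint t).tensor :=
    (Triplet.ofPoint t).tensorInr.hom.toAlgebra
  letI algkB : Algebra (S.residueField (Triplet.ofPoint t).s) (Triplet.ofPoint t).tensor :=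
    (a ≫ (Triplet.ofPoint t).tensorInl).hom.toAlgebra
  haveI : IsScalarTower (S.residueField (Triplet.ofPoint t).s) (X.residueField (Triplet.ofPoint t).x)
      (Triplet.ofPoint t).tensor := IsScalarTower.of_algebraMap_eq' rfl
  haveI : IsScalarTower (S.residueField (Triplet.ofPoint t).s) (Y.residueField (Triplet.ofPoint t).y)
      (Triplet.ofPoint t).tensor := IsScalarTower.of_algebraMap_eq'
        (congrArg CommRingCat.Hom.hom (pushout.condition (f := a) (g := b')))
  haveI hpo : Algebra.IsPushout (S.residueField (Triplet.ofPoint t).s)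
      (X.residueField (Triplet.ofPoint t).x) (Y.residueField (Triplet.ofPoint t).y)
      (Triplet.ofPoint t).tensor :=
    CommRingCat.isPushout_iff_isPushout.mp (IsPushout.of_hasPushout a b')
  letI algKt : Algebra (Y.residueField (Triplet.ofPoint t).y) ((pullback f g).residueField t) :=
    ((pullback.snd f g).residueFieldMap t).hom.toAlgebra
  let bAlg : (Triplet.ofPoint t).tensor →ₐ[Y.residueField (Triplet.ofPoint t).y]
      (pullback f g).residueField t :=
    { (ofPointTensor t).hom with
      commutes' := fun c => by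
        have h := pushout.inr_desc ((pullback.fst f g).residueFieldMap t)
          ((pullback.snd f g).residueFieldMap t) (residueFieldCongr_inv_residueFieldMap_ofPoint t)
        exact congr($(h).hom c) }
  haveI : (SpecOfPoint t).asIdeal.IsPrime := (SpecOfPoint t).isPrime
  have e1 := trdeg_eq_of_fraction_field (k := Y.residueField (Triplet.ofPoint t).y)
    (SpecOfPoint t).asIdeal bAlg (ker_ofPointTensor t) (fraction_ofPointTensor t)
  have e2 : @Algebra.trdeg (S.residueField (f (pullback.fst f g t)))
      (X.residueField (pullback.fst f g t))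
        _ _ (f.residueFieldMap (pullback.fst f g t)).hom.toAlgebra =
      Algebra.trdeg (S.residueField (Triplet.ofPoint t).s) (X.residueField (Triplet.ofPoint t).x) := by
    apply trdeg_congr_algebra
    change (f.residueFieldMap (pullback.fst f g t)).hom =
      ((S.residueFieldCongr (Eq.refl (f (pullback.fst f g t)))).inv ≫
        f.residueFieldMap (pullback.fst f g t)).hom
    rw [Scheme.residueFieldCongr_refl, Iso.refl_inv, Category.id_comp]
  change _ ≤ Algebra.trdeg (Y.residueField (Triplet.ofPoint t).y) ((pullback f g).residueField t)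
  rw [e1, e2]
  exact FieldTensor.le_trdeg_quotient_of_minimal _ hmin

lemma minimal_transport (σ₁ σ₂ : Σ T : Triplet f g, Spec T.tensor) (h : σ₁ = σ₂)
    (hmin : σ₂.2.asIdeal ∈ minimalPrimes σ₂.1.tensor) :
    σ₁.2.asIdeal ∈ minimalPrimes σ₁.1.tensor := by
  subst h; exact hmin

/-- over every pair of points `(x, y)` with the same image there is a point of the fibre product
whose residue field has transcendence degree over `κ(y)` at least that of `κ(x)` over `κ(s)`. -/
theorem exists_point_le_trdeg (x : X) (y : Y) (hxy : f x = g y) :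
    ∃ t : ↑(pullback f g), pullback.fst f g t = x ∧ pullback.snd f g t = y ∧
      @Algebra.trdeg (S.residueField (f (pullback.fst f g t))) (X.residueField (pullback.fst f g t))
        _ _ (f.residueFieldMap (pullback.fst f g t)).hom.toAlgebra ≤
      @Algebra.trdeg (Y.residueField (pullback.snd f g t)) ((pullback f g).residueField t) _ _
        ((pullback.snd f g).residueFieldMap t).hom.toAlgebra := by
  let T : Triplet f g := Triplet.mk' x y hxy
  obtain ⟨⟨Q, hQ⟩⟩ : Nonempty ↑(minimalPrimes T.tensor) :=
    Ideal.nonempty_minimalPrimes (I := (⊥ : Ideal T.tensor)) bot_ne_top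
  haveI : Q.IsPrime := hQ.1.1
  let q : Spec T.tensor := ⟨Q, inferInstance⟩
  have hQ' : q.asIdeal ∈ minimalPrimes T.tensor := hQ
  clear_value q
  let σ : Σ T : Triplet f g, Spec T.tensor := ⟨T, q⟩
  have hσ : σ.2.asIdeal ∈ minimalPrimes σ.1.tensor := hQ'
  have h1 : carrierEquiv (carrierEquiv.symm σ) = σ := carrierEquiv.apply_symm_apply σ
  have hx1 : pullback.fst f g (carrierEquiv.symm σ) = x := carrierEquiv_symm_fst T q
  have hy1 : pullback.snd f g (carrierEquiv.symm σ) = y := carrierEquiv_symm_snd T q
  clear_value σ
  refine ⟨carrierEquiv.symm σ, hx1, hy1, ?_⟩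
  apply le_trdeg_snd_of_minimal
  exact minimal_transport (carrierEquiv (carrierEquiv.symm σ)) σ h1 hσ

end scheme

section square
variable {X S X' S' : Scheme.{u}} {f : X ⟶ S} {g : S' ⟶ S} {g' : X' ⟶ X} {f' : X' ⟶ S'}

/-- for a cartesian square, over every compatible pair `(x, y')` there is a point `x'` with
`trdeg κ(x')/κ(y') = trdeg κ(x)/κ(f x)`. -/
theorem exists_point_trdeg_eq (hsq : IsPullback g' f' f g) (x : X) (y' : S') (hxy : f x = g y') :
    ∃ x' : X', g' x' = x ∧ f' x' = y' ∧
      @Algebra.trdeg (S'.residueField (f' x')) (X'.residueField x') _ _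
        (f'.residueFieldMap x').hom.toAlgebra =
      @Algebra.trdeg (S.residueField (f (g' x'))) (X.residueField (g' x'))
        _ _ (f.residueFieldMap (g' x')).hom.toAlgebra := by
  set i := hsq.isoPullback with hi
  have hfst : i.hom ≫ pullback.fst f g = g' := hsq.isoPullback_hom_fst
  have hsnd : i.hom ≫ pullback.snd f g = f' := hsq.isoPullback_hom_snd
  obtain ⟨t, ht1, ht2, ht3⟩ := exists_point_le_trdeg (f := f) (g := g) x y' hxy
  have hit : i.hom (i.inv t) = t := by
    rw [← Scheme.Hom.comp_apply, Iso.inv_hom_id]; rfl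
  have hx : g' (i.inv t) = pullback.fst f g t := by
    rw [← hfst, Scheme.Hom.comp_apply, hit]
  have hy : f' (i.inv t) = pullback.snd f g t := by
    rw [← hsnd, Scheme.Hom.comp_apply, hit]
  refine ⟨i.inv t, hx.trans ht1, hy.trans ht2, le_antisymm (trdeg_of_isPullback hsq _).1 ?_⟩
  have e1 : @Algebra.trdeg (S'.residueField (f' (i.inv t))) (X'.residueField (i.inv t)) _ _
        (f'.residueFieldMap (i.inv t)).hom.toAlgebra =
      @Algebra.trdeg (S'.residueField (pullback.snd f g (i.hom (i.inv t))))
        ((pullback f g).residueField (i.hom (i.inv t))) _ _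
        ((pullback.snd f g).residueFieldMap (i.hom (i.inv t))).hom.toAlgebra := by
    rw [← FibreComp.trdeg_congr hsnd (i.inv t), DimClosure.trdeg_comp i.hom (pullback.snd f g) (i.inv t),
      FibreComp.trdeg_of_surjectiveOnStalks i.hom (i.inv t), add_zero]
  have e2 := trdeg_point_congr f hx
  have e3 := trdeg_point_congr (pullback.snd f g) hit
  rw [e1, e2, e3]
  exact ht3

end square

end Groth.Agent.Helper14.PtTrdegEq
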