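import Mathlib

/-!
# Transcendence degrees of residue extensions do not go up under specialization over a
valuation ring
-/

namespace Groth.Agent.Helper14.ValRingTrdeg
universe u
open MvPolynomial

section dvd
variable {R : Type*} [CommRing R] [IsDomain R] [ValuationRing R]

/-- a nonempty finite family of elements of a valuation ring has a member dividing all others. -/
theorem exists_dvd_all {ι : Type*} (s : Finset ι) (hs : s.Nonempty) (c : ι → R) :
    ∃ i ∈ s, ∀ j ∈ s, c i ∣ c j := by
  induction hs using Finset.Nonempty.cons_induction with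
  | singleton a =>
    exact ⟨a, Finset.mem_singleton_self a, fun j hj => by rw [Finset.mem_singleton.mp hj]⟩
  | cons a s ha hs ih =>
    obtain ⟨i, his, hi⟩ := ih
    rcases ValuationRing.dvd_total (c a) (c i) with h | h
    · refine ⟨a, Finset.mem_cons_self a s, fun j hj => ?_⟩
      rcases Finset.mem_cons.mp hj with rfl | hj
      · exact dvd_rfl
      · exact h.trans (hi j hj)
    · refine ⟨i, Finset.mem_cons.mpr (Or.inr his), fun j hj => ?_⟩
      rcases Finset.mem_cons.mp hj with rfl | hj
      · exact h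
      · exact hi j hj

end dvd

variable {R B : Type u} [CommRing R] [IsDomain R] [ValuationRing R] [CommRing B] [Algebra R B]

omit [IsDomain R] [ValuationRing R] in
theorem aeval_mk_map (p : Ideal R) (q : Ideal B) [q.LiesOver p] {ι : Type*} (t : ι → B)
    (F : MvPolynomial ι R) :
    aeval (fun i => Ideal.Quotient.mk q (t i)) (map (Ideal.Quotient.mk p) F) =
      Ideal.Quotient.mk q (aeval t F) := by
  have h1 := aeval_map_algebraMap (R := R) (A := R ⧸ p) (B := B ⧸ q)
    (fun i => Ideal.Quotient.mk q (t i)) F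
  have h2 := comp_aeval_apply (f := t) (Ideal.Quotient.mkₐ R q) F
  exact h1.trans h2.symm

/-- algebraically independent families in the residue ring at a specialization lift to
algebraically independent families at the generization, over a valuation ring. -/
theorem algebraicIndependent_lift (p₀ p : Ideal R) [p₀.IsPrime] [p.IsPrime] (q₀ q : Ideal B)
    [q₀.IsPrime] [q.IsPrime] [q₀.LiesOver p₀] [q.LiesOver p] (hq : q₀ ≤ q) {ι : Type*} (t : ι → B)
    (ht : AlgebraicIndependent (R ⧸ p) (fun i => Ideal.Quotient.mk q (t i))) :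
    AlgebraicIndependent (R ⧸ p₀) (fun i => Ideal.Quotient.mk q₀ (t i)) := by
  rw [algebraicIndependent_iff]
  intro P hP
  by_contra hne
  obtain ⟨F, rfl⟩ := map_surjective (σ := ι) (Ideal.Quotient.mk p₀) Ideal.Quotient.mk_surjective P
  rw [aeval_mk_map, Ideal.Quotient.eq_zero_iff_mem] at hP
  set S := (map (Ideal.Quotient.mk p₀) F).support with hS
  have hSne : S.Nonempty := support_nonempty.mpr hne
  obtain ⟨m₀, hm₀S, hm₀⟩ := exists_dvd_all S hSne (fun m => coeff m F)
  set c := coeff m₀ F with hc
  have hnotmem : ∀ m ∈ S, coeff m F ∉ p₀ := by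
    intro m hm hmem
    rw [hS, mem_support_iff, coeff_map] at hm
    exact hm (Ideal.Quotient.eq_zero_iff_mem.mpr hmem)
  have hcp₀ : c ∉ p₀ := hnotmem m₀ hm₀S
  have hc0 : c ≠ 0 := fun h => hcp₀ (h ▸ p₀.zero_mem)
  have hdvd : ∀ m, c ∣ coeff m F := by
    intro m
    by_cases hm : m ∈ S
    · exact hm₀ m hm
    · have hmem : coeff m F ∈ p₀ := by
        rw [hS, mem_support_iff, coeff_map, not_not] at hm
        exact Ideal.Quotient.eq_zero_iff_mem.mp hm
      rcases ValuationRing.dvd_total c (coeff m F) with h | h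
      · exact h
      · obtain ⟨b, hb⟩ := h
        exact absurd (hb ▸ p₀.mul_mem_right b hmem) hcp₀
  have hFmem : F ∈ Ideal.map (C : R →+* MvPolynomial ι R) (Ideal.span {c}) := by
    rw [mem_map_C_iff]
    intro m
    exact Ideal.mem_span_singleton.mpr (hdvd m)
  rw [Ideal.map_span, Set.image_singleton] at hFmem
  obtain ⟨G, hG⟩ := Ideal.mem_span_singleton'.mp hFmem
  have hG1 : coeff m₀ G = 1 := by
    have h1 : coeff m₀ F = coeff m₀ G * c := by
      rw [← hG, mul_comm G, coeff_C_mul, mul_comm]
    rw [← hc] at h1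
    have h2 : coeff m₀ G * c = 1 * c := by rw [one_mul]; exact h1.symm
    exact mul_right_cancel₀ hc0 h2
  -- `aeval t G ∈ q₀`
  have h3 : aeval t G * algebraMap R B c ∈ q₀ := by
    rw [← hG, map_mul, aeval_C] at hP
    exact hP
  have h4 : algebraMap R B c ∉ q₀ := by
    intro h
    exact hcp₀ ((Ideal.mem_of_liesOver q₀ p₀ c).mpr h)
  have h5 : aeval t G ∈ q := hq ((Ideal.IsPrime.mem_or_mem inferInstance h3).resolve_right h4)
  have h6 : aeval (fun i => Ideal.Quotient.mk q (t i)) (map (Ideal.Quotient.mk p) G) = 0 := by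
    rw [aeval_mk_map, Ideal.Quotient.eq_zero_iff_mem]
    exact h5
  have h7 := (algebraicIndependent_iff.mp ht) _ h6
  have h8 : coeff m₀ (map (Ideal.Quotient.mk p) G) = 0 := by rw [h7, coeff_zero]
  rw [coeff_map, hG1, map_one] at h8
  haveI : Nontrivial (R ⧸ p) := Ideal.Quotient.nontrivial_iff.mpr (Ideal.IsPrime.ne_top inferInstance)
  exact one_ne_zero h8

/-- over a valuation ring, the transcendence degree of the residue extension does not go up under
specialization. -/
theorem trdeg_quotient_le (p₀ p : Ideal R) [p₀.IsPrime] [p.IsPrime] (q₀ q : Ideal B)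
    [q₀.IsPrime] [q.IsPrime] [q₀.LiesOver p₀] [q.LiesOver p] (hq : q₀ ≤ q) :
    Algebra.trdeg (R ⧸ p) (B ⧸ q) ≤ Algebra.trdeg (R ⧸ p₀) (B ⧸ q₀) := by
  haveI : Nontrivial (R ⧸ p₀) :=
    Ideal.Quotient.nontrivial_iff.mpr (Ideal.IsPrime.ne_top inferInstance)
  rw [Algebra.trdeg]
  apply ciSup_le'
  rintro ⟨s, hs⟩
  -- lift the elements of `s`
  let t : s → B := fun a => (Ideal.Quotient.mk_surjective (I := q) a.1).choose
  have htspec : ∀ a : s, Ideal.Quotient.mk q (t a) = a.1 := fun a =>
    (Ideal.Quotient.mk_surjective (I := q) a.1).choose_spec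
  have hind : AlgebraicIndependent (R ⧸ p) (fun a : s => Ideal.Quotient.mk q (t a)) := by
    have : (fun a : s => Ideal.Quotient.mk q (t a)) = fun a : s => (a.1 : B ⧸ q) := funext htspec
    rw [this]
    exact hs
  exact (algebraicIndependent_lift p₀ p q₀ q hq t hind).cardinalMk_le_trdeg

end Groth.Agent.Helper14.ValRingTrdeg
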