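import Mathlib
import Groth.Agent.Lib.Helper14.ValRingTrdeg
import Groth.Agent.Lib.Helper14.ResFieldBridge
import Groth.Agent.Lib.Helper14.FibreConst

/-!
# Fibres of morphisms to the spectrum of a valuation ring
-/

namespace Groth.Agent.Helper14.ValRingFibre
universe u
open TopologicalSpace AlgebraicGeometry CategoryTheory Topology

/-- over an affine open of the base whose ring is a valuation ring, transcendence degrees of residue
field extensions do not go up under specialization. -/
theorem trdeg_le_of_specializes {X S : Scheme.{u}} (f : X ⟶ S) (V : S.Opens) (hV : IsAffineOpen V)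
    [IsDomain Γ(S, V)] [ValuationRing Γ(S, V)] (ξ ζ : X) (h : ξ ⤳ ζ) (hζV : f ζ ∈ V) :
    @Algebra.trdeg (S.residueField (f ζ)) (X.residueField ζ) _ _
      (f.residueFieldMap ζ).hom.toAlgebra ≤
    @Algebra.trdeg (S.residueField (f ξ)) (X.residueField ξ) _ _
      (f.residueFieldMap ξ).hom.toAlgebra := by
  obtain ⟨U, hU, hζU, hUV⟩ :=
    exists_isAffineOpen_mem_and_subset (X := X) (x := ζ) (U := f ⁻¹ᵁ V) hζV
  have hξU : ξ ∈ U := h.mem_open U.isOpen hζU
  letI alg : Algebra Γ(S, V) Γ(X, U) := (f.appLE V U hUV).hom.toAlgebra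
  have halg : algebraMap Γ(S, V) Γ(X, U) = (f.appLE V U hUV).hom := rfl
  let q : Ideal Γ(X, U) := (hU.primeIdealOf ⟨ζ, hζU⟩).asIdeal
  haveI : q.IsPrime := (hU.primeIdealOf ⟨ζ, hζU⟩).isPrime
  let q₀ : Ideal Γ(X, U) := (hU.primeIdealOf ⟨ξ, hξU⟩).asIdeal
  haveI : q₀.IsPrime := (hU.primeIdealOf ⟨ξ, hξU⟩).isPrime
  let p : Ideal Γ(S, V) := q.under Γ(S, V)
  let p₀ : Ideal Γ(S, V) := q₀.under Γ(S, V)
  haveI : p.IsPrime := inferInstance
  haveI : p₀.IsPrime := inferInstance
  haveI : q.LiesOver p := inferInstance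
  haveI : q₀.LiesOver p₀ := inferInstance
  have hle : q₀ ≤ q := by
    have e1 : hU.fromSpec (hU.primeIdealOf ⟨ξ, hξU⟩) = ξ := hU.fromSpec_primeIdealOf ⟨ξ, hξU⟩
    have e2 : hU.fromSpec (hU.primeIdealOf ⟨ζ, hζU⟩) = ζ := hU.fromSpec_primeIdealOf ⟨ζ, hζU⟩
    have h' := h
    rw [← e1, ← e2, ResFieldBridge.specializes_fromSpec_iff] at h'
    exact h'
  rw [ResFieldBridge.trdeg_residueField_eq f hU hV hUV ζ hζU halg p q rfl,
    ResFieldBridge.trdeg_residueField_eq f hU hV hUV ξ hξU halg p₀ q₀ rfl]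
  exact ValRingTrdeg.trdeg_quotient_le p₀ p q₀ q hle

/-- the global sections of the spectrum of a valuation ring form a valuation ring. -/
theorem valuationRing_Γ (A : Type u) [CommRing A] [IsDomain A] [ValuationRing A] :
    IsDomain Γ(Spec (CommRingCat.of A), ⊤) ∧ ValuationRing Γ(Spec (CommRingCat.of A), ⊤) := by
  let e : A ≃+* Γ(Spec (CommRingCat.of A), ⊤) :=
    (Scheme.ΓSpecIso (CommRingCat.of A)).symm.commRingCatIsoToRingEquiv
  haveI : IsDomain Γ(Spec (CommRingCat.of A), ⊤) := e.symm.injective.isDomain e.symm.toRingHom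
  exact ⟨inferInstance, Function.Surjective.valuationRing e.toRingHom e.surjective⟩

/-- over the spectrum of a valuation ring, transcendence degrees of residue field extensions do
not go up under specialization. -/
theorem trdeg_le_of_specializes_Spec {A : Type u} [CommRing A] [IsDomain A] [ValuationRing A]
    {X : Scheme.{u}} (f : X ⟶ Spec (CommRingCat.of A)) (ξ ζ : X) (h : ξ ⤳ ζ) :
    @Algebra.trdeg ((Spec (CommRingCat.of A)).residueField (f ζ)) (X.residueField ζ) _ _
      (f.residueFieldMap ζ).hom.toAlgebra ≤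
    @Algebra.trdeg ((Spec (CommRingCat.of A)).residueField (f ξ)) (X.residueField ξ) _ _
      (f.residueFieldMap ξ).hom.toAlgebra := by
  obtain ⟨h1, h2⟩ := valuationRing_Γ A
  exact trdeg_le_of_specializes f ⊤ (isAffineOpen_top _) ξ ζ h trivial

end Groth.Agent.Helper14.ValRingFibre
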