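import Mathlib
import Groth.Agent.Lib.Helper14.PtTrdegEq
import Groth.Agent.Lib.Helper14.ClosedFibreDim
import Groth.Agent.Lib.Helper14.ValRingFibre
import Groth.Agent.Lib.Helper14.ResFieldBridge
import Groth.Agent.Lib.Helper9.TopDim
import Groth.Agent.Lib.Helper11.HTopV3
import Groth.Agent.Lib.Helper14.FibreDimBC
import Groth.Agent.Lib.Helper14.SectionComp2

/-!
# Dimension of closures of images of universally open families in fibres
-/

namespace Groth.Agent.Helper14.UOpenFam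
universe u
open TopologicalSpace AlgebraicGeometry CategoryTheory Limits Topology

section dimD
variable {X Y : Scheme.{u}} (f : X ⟶ Y) [LocallyOfFiniteType f]

/-- transcendence degrees of points of `T ∩ f⁻¹(y)` bound its dimension from below. -/
theorem le_dim_of_trdeg (T : Closeds X) (x : X) (hx : x ∈ (T : Set X)) (n : ℕ)
    (hn : @Algebra.trdeg (Y.residueField (f x)) (X.residueField x) _ _
        (f.residueFieldMap x).hom.toAlgebra = n) :
    (n : WithBot ℕ∞) ≤ topologicalKrullDim ↥((T : Set X) ∩ f ⁻¹' {f x}) :=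
  (ClosedFibreDim.trdeg_le_localDim f T x ⟨hx, rfl⟩ x hx specializes_rfl n hn).trans
    (Helper9.TopDim.localDim_le_dim _)

/-- the dimension of `T ∩ f⁻¹(y)` is bounded by the transcendence degrees of its points. -/
theorem dim_le_of_forall_trdeg (T : Closeds X) (y : Y) (d : WithBot ℕ∞)
    (h : ∀ x : X, x ∈ (T : Set X) → f x = y → ∀ n : ℕ,
      @Algebra.trdeg (Y.residueField (f x)) (X.residueField x) _ _
        (f.residueFieldMap x).hom.toAlgebra = n → (n : WithBot ℕ∞) ≤ d) :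
    topologicalKrullDim ↥((T : Set X) ∩ f ⁻¹' {y}) ≤ d := by
  rw [Helper9.TopDim.dim_eq_iSup_localDim]
  refine iSup_le ?_
  rintro ⟨x, hxT, hxy⟩
  have hxy' : f x = y := hxy
  subst hxy'
  obtain ⟨z, n, hzT, -, hfz, -, hn, hloc⟩ :=
    ClosedFibreDim.exists_maximal_trdeg_eq_localDim f T x ⟨hxT, rfl⟩
  rw [hloc]
  exact h z hzT hfz n hn

end dimD


section noeth
variable {X S : Scheme.{u}} (f : X ⟶ S) [LocallyOfFiniteType f] [QuasiCompact f]

/-- a point in the closure of a subset of a fibre of a morphism of finite type is a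
specialization of a point of the closure lying in that fibre. -/
theorem exists_specializes_of_mem_closure (η : S) (A₀ : Set X) (hA₀ : A₀ ⊆ f ⁻¹' {η}) (x : X)
    (hx : x ∈ closure A₀) : ∃ a ∈ closure A₀, f a = η ∧ a ⤳ x := by
  haveI := SectionComp.isLocallyNoetherian_fiber f η
  haveI : QuasiCompact (f.fiberToSpecResidueField η) :=
    MorphismProperty.pullback_snd (P := @QuasiCompact) _ _ inferInstance
  haveI : CompactSpace (f.fiber η) :=
    QuasiCompact.compactSpace_of_compactSpace (f.fiberToSpecResidueField η)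
  haveI : IsNoetherian (f.fiber η) := {}
  set ι := f.fiberι η with hι
  let B : Set (f.fiber η) := ι ⁻¹' A₀
  have hB : ι '' B = A₀ := by
    rw [Set.image_preimage_eq_inter_range, f.range_fiberι]
    exact Set.inter_eq_left.mpr hA₀
  obtain ⟨Sfin, hfin, hcl, hirr, hC⟩ :=
    NoetherianSpace.exists_finite_set_isClosed_irreducible (isClosed_closure (s := B))
  have hcov : A₀ ⊆ ⋃ t ∈ Sfin, ι '' t := by
    rw [← hB]
    rintro _ ⟨b, hb, rfl⟩
    have : b ∈ ⋃₀ Sfin := by rw [← hC]; exact subset_closure hb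
    obtain ⟨t, ht, hbt⟩ := this
    exact Set.mem_biUnion ht ⟨b, hbt, rfl⟩
  have hx2 : x ∈ ⋃ t ∈ Sfin, closure (ι '' t) := by
    rw [← hfin.closure_biUnion]
    exact closure_mono hcov hx
  obtain ⟨t, ht, hxt⟩ := Set.mem_iUnion₂.mp hx2
  obtain ⟨a, ha⟩ := QuasiSober.sober (hirr t ht) (hcl t ht)
  have hat : a ∈ t := ha.mem
  have haC : a ∈ closure B := by rw [hC]; exact ⟨t, ht, hat⟩
  refine ⟨ι a, ?_, ?_, ?_⟩
  · rw [← hB]
    exact image_closure_subset_closure_image ι.continuous ⟨a, haC, rfl⟩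
  · exact (f.fiberHomeo η a).2
  · rw [specializes_iff_mem_closure]
    have h1 : ι '' t ⊆ closure {ι a} := by
      rw [← ha.def, ← Set.image_singleton]
      exact image_closure_subset_closure_image ι.continuous
    exact closure_minimal h1 isClosed_closure hxt

end noeth

section square
variable {X S X' S' : Scheme.{u}} {f : X ⟶ S} {g : S' ⟶ S} {g' : X' ⟶ X} {f' : X' ⟶ S'}

/-- the map induced on fibres by a base change is open. -/
theorem fibre_open (hsq : IsPullback g' f' f g) (x' : X') (U' : Set X') (hU' : IsOpen U')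
    (hx' : x' ∈ U') :
    ∃ V : Set X, IsOpen V ∧ g' x' ∈ V ∧
      V ∩ f ⁻¹' {g (f' x')} ⊆ g' '' (U' ∩ f' ⁻¹' {f' x'}) := by
  set y' := f' x' with hy'
  let h : f'.fiber y' ⟶ f.fiber (g y') :=
    pullback.map _ _ _ _ g' (Spec.map (g.residueFieldMap y')) g hsq.w.symm (by simp)
  have sqh : IsPullback h (f'.fiberToSpecResidueField y') (f.fiberToSpecResidueField (g y'))
      (Spec.map (g.residueFieldMap y')) := isPullback_fiberToSpecResidueField_of_isPullback hsq y'
  have hcomp : h ≫ f.fiberι (g y') = f'.fiberι y' ≫ g' := pullback.lift_fst _ _ _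
  haveI : UniversallyOpen (Spec.map (g.residueFieldMap y')) := inferInstance
  haveI : UniversallyOpen h := MorphismProperty.of_isPullback sqh.flip inferInstance
  have hopen : IsOpenMap h := h.isOpenMap
  let W : Set (f'.fiber y') := (f'.fiberι y') ⁻¹' U'
  have hW : IsOpen W := hU'.preimage (f'.fiberι y').continuous
  have hhW : IsOpen (h '' W) := hopen W hW
  obtain ⟨V, hV, hVeq⟩ := (f.fiberι (g y')).isEmbedding.isInducing.isOpen_iff.mp hhW
  refine ⟨V, hV, ?_, ?_⟩
  · have ha : f'.asFiber x' ∈ W := by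
      show f'.fiberι y' (f'.asFiber x') ∈ U'
      rw [f'.fiberι_asFiber x']; exact hx'
    have h1 : h (f'.asFiber x') ∈ (f.fiberι (g y')) ⁻¹' V := by
      rw [hVeq]; exact ⟨_, ha, rfl⟩
    have h2 : f.fiberι (g y') (h (f'.asFiber x')) = g' x' := by
      rw [← Scheme.Hom.comp_apply, hcomp, Scheme.Hom.comp_apply]
      exact congrArg g' (f'.fiberι_asFiber x')
    rw [← h2]; exact h1
  · rintro z ⟨hzV, hzf⟩
    have hzr : z ∈ Set.range (f.fiberι (g y')) := by rw [f.range_fiberι]; exact hzf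
    obtain ⟨b, rfl⟩ := hzr
    have hb : b ∈ h '' W := by rw [← hVeq]; exact hzV
    obtain ⟨w, hw, rfl⟩ := hb
    refine ⟨f'.fiberι y' w, ⟨hw, ?_⟩, ?_⟩
    · exact (f'.fiberHomeo y' w).2
    · rw [← Scheme.Hom.comp_apply, ← hcomp, Scheme.Hom.comp_apply]

/-- closures inside fibres commute with base change. -/
theorem closure_fibre_bc (hsq : IsPullback g' f' f g) (E : Set X) (y' : S') :
    f' ⁻¹' {y'} ∩ closure (g' ⁻¹' E ∩ f' ⁻¹' {y'}) =
      f' ⁻¹' {y'} ∩ g' ⁻¹' (closure (E ∩ f ⁻¹' {g y'})) := by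
  apply Set.Subset.antisymm
  · rintro x₁ ⟨h1, h2⟩
    refine ⟨h1, ?_⟩
    have hsub : g' ⁻¹' E ∩ f' ⁻¹' {y'} ⊆ g' ⁻¹' (closure (E ∩ f ⁻¹' {g y'})) := by
      rintro z ⟨hzE, hzy⟩
      apply subset_closure
      refine ⟨hzE, ?_⟩
      have hzy' : f' z = y' := hzy
      show f (g' z) = g y'
      rw [← Scheme.Hom.comp_apply, hsq.w, Scheme.Hom.comp_apply, hzy']
    exact closure_minimal hsub (isClosed_closure.preimage g'.continuous) h2
  · rintro x₁ ⟨h1, h2⟩
    refine ⟨h1, ?_⟩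
    rw [mem_closure_iff]
    intro U₁ hU₁ hx₁
    have h1' : f' x₁ = y' := h1
    subst h1'
    obtain ⟨V, hV, hxV, hVsub⟩ := fibre_open hsq x₁ U₁ hU₁ hx₁
    have h2' : g' x₁ ∈ closure (E ∩ f ⁻¹' {g (f' x₁)}) := h2
    rw [mem_closure_iff] at h2'
    obtain ⟨z, hzV, hzE, hzf⟩ := h2' V hV hxV
    obtain ⟨z₁, ⟨hz₁U, hz₁f⟩, rfl⟩ := hVsub ⟨hzV, hzf⟩
    exact ⟨z₁, hz₁U, hzE, hz₁f⟩

end square


section val
variable {A : Type u} [CommRing A] [IsDomain A] [ValuationRing A] {X : Scheme.{u}}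
  (f : X ⟶ Spec (CommRingCat.of A)) [LocallyOfFiniteType f] [QuasiCompact f]

/-- over a valuation ring: if `E` lies in the closure of its part over `η`, then the closure of
`E` in the fibre over `c` has dimension at most that of the closure of `E` in the fibre over `η`. -/
theorem valStep (E : Set X) (c η : Spec (CommRingCat.of A))
    (hE : E ⊆ closure (E ∩ f ⁻¹' {η})) :
    topologicalKrullDim ↥(f ⁻¹' {c} ∩ closure (E ∩ f ⁻¹' {c})) ≤
      topologicalKrullDim ↥(f ⁻¹' {η} ∩ closure (E ∩ f ⁻¹' {η})) := by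
  let W : Closeds X := ⟨closure (E ∩ f ⁻¹' {η}), isClosed_closure⟩
  have hsub : f ⁻¹' {c} ∩ closure (E ∩ f ⁻¹' {c}) ⊆ (W : Set X) ∩ f ⁻¹' {c} := by
    rintro x ⟨h1, h2⟩
    refine ⟨?_, h1⟩
    exact closure_minimal (Set.inter_subset_left.trans hE) isClosed_closure h2
  have h1 : topologicalKrullDim ↥(f ⁻¹' {c} ∩ closure (E ∩ f ⁻¹' {c})) ≤
      topologicalKrullDim ↥((W : Set X) ∩ f ⁻¹' {c}) := by
    apply Helper9.TopDim.dim_le_of_range_subset (X := X) IsInducing.subtypeVal IsInducing.subtypeVal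
    rw [Subtype.range_coe, Subtype.range_coe]
    exact hsub
  refine h1.trans ?_
  have hcomm : f ⁻¹' {η} ∩ closure (E ∩ f ⁻¹' {η}) = (W : Set X) ∩ f ⁻¹' {η} := Set.inter_comm _ _
  rw [hcomm]
  apply dim_le_of_forall_trdeg f W c
  intro x hxW hfx n hn
  obtain ⟨a, haW, hfa, hax⟩ := exists_specializes_of_mem_closure f η (E ∩ f ⁻¹' {η})
    Set.inter_subset_right x hxW
  obtain ⟨m, hm⟩ := ResFieldBridge.exists_nat_trdeg_residueField f a
  have hle := ValRingFibre.trdeg_le_of_specializes_Spec f a x hax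
  rw [hn, hm] at hle
  have hnm : n ≤ m := by exact_mod_cast hle
  have h2 := le_dim_of_trdeg f W a haW m hm
  rw [hfa] at h2
  refine le_trans ?_ h2
  exact_mod_cast hnm

end val

section square2
variable {X S X' S' : Scheme.{u}} {f : X ⟶ S} {g : S' ⟶ S} {g' : X' ⟶ X} {f' : X' ⟶ S'}

/-- the dimension of the closure of `E` in a fibre is invariant under base change. -/
theorem dim_bc [LocallyOfFiniteType f] (hsq : IsPullback g' f' f g) (E : Set X) (y' : S') :
    topologicalKrullDim ↥(f' ⁻¹' {y'} ∩ closure (g' ⁻¹' E ∩ f' ⁻¹' {y'})) =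
      topologicalKrullDim ↥(f ⁻¹' {g y'} ∩ closure (E ∩ f ⁻¹' {g y'})) := by
  haveI : LocallyOfFiniteType f' := FibreDimBC.locallyOfFiniteType_of_isPullback hsq
  rw [closure_fibre_bc hsq E y']
  let T : Closeds X := ⟨closure (E ∩ f ⁻¹' {g y'}), isClosed_closure⟩
  let T' : Closeds X' := ⟨g' ⁻¹' (T : Set X), T.isClosed.preimage g'.continuous⟩
  have e1 : f' ⁻¹' {y'} ∩ g' ⁻¹' (closure (E ∩ f ⁻¹' {g y'})) = (T' : Set X') ∩ f' ⁻¹' {y'} :=
    Set.inter_comm _ _
  have e2 : f ⁻¹' {g y'} ∩ closure (E ∩ f ⁻¹' {g y'}) = (T : Set X) ∩ f ⁻¹' {g y'} :=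
    Set.inter_comm _ _
  rw [e1, e2]
  have hw : ∀ x' : X', f (g' x') = g (f' x') := fun x' => by
    rw [← Scheme.Hom.comp_apply, hsq.w, Scheme.Hom.comp_apply]
  apply le_antisymm
  · apply dim_le_of_forall_trdeg f' T' y'
    intro x' hx'T hfx' n hn
    obtain ⟨m, hm⟩ := ResFieldBridge.exists_nat_trdeg_residueField f (g' x')
    have hle := (FibreBC.trdeg_of_isPullback hsq x').1
    rw [hn, hm] at hle
    have hnm : n ≤ m := by exact_mod_cast hle
    have h2 := le_dim_of_trdeg f T (g' x') hx'T m hm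
    rw [hw x', hfx'] at h2
    refine le_trans ?_ h2
    exact_mod_cast hnm
  · apply dim_le_of_forall_trdeg f T (g y')
    intro x hxT hfx n hn
    obtain ⟨x', hx'1, hx'2, hx'3⟩ := PtTrdegEq.exists_point_trdeg_eq hsq x y' hfx
    subst hx'1
    rw [hn] at hx'3
    have h2 := le_dim_of_trdeg f' T' x' hxT n hx'3
    rw [hx'2] at h2
    exact h2

end square2

end Groth.Agent.Helper14.UOpenFam
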