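import Mathlib
import Groth.Agent.Lib.Helper14.UOpenFam
import Groth.Agent.Lib.Helper14.EquidimAt
import Groth.Agent.Lib.Helper14.FibreMax

/-!
# Dimension of open parts of fibres, maximal points of fibres
-/

namespace Groth.Agent.Helper14.UOpenAtDim
universe u
open TopologicalSpace AlgebraicGeometry CategoryTheory Limits Topology

section opens
variable {X Y : Scheme.{u}} (f : X ⟶ Y) [LocallyOfFiniteType f]

lemma isInducing_aux (U : X.Opens) (s : Set ↥U) :
    IsInducing (fun w : ↥s => (U.ι w.1 : X)) :=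
  U.ι.isEmbedding.isInducing.comp IsInducing.subtypeVal

lemma range_aux (U : X.Opens) (y : Y) :
    Set.range (fun w : ↥(((⊤ : Closeds ↥U) : Set ↥U) ∩ (U.ι ≫ f) ⁻¹' {y}) => (U.ι w.1 : X)) =
      (U : Set X) ∩ f ⁻¹' {y} := by
  ext z
  constructor
  · rintro ⟨w, rfl⟩
    exact ⟨w.1.2, w.2.2⟩
  · rintro ⟨hzU, hzy⟩
    exact ⟨⟨⟨z, hzU⟩, trivial, hzy⟩, rfl⟩

/-- lower bound for the dimension of the open part `U ∩ f⁻¹(y)` of a fibre. -/
theorem le_dim_open_of_trdeg (U : X.Opens) (z : X) (hz : z ∈ U) (m : ℕ)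
    (hm : @Algebra.trdeg (Y.residueField (f z)) (X.residueField z) _ _
        (f.residueFieldMap z).hom.toAlgebra = m) :
    (m : WithBot ℕ∞) ≤ topologicalKrullDim ↥((U : Set X) ∩ f ⁻¹' {f z}) := by
  have h1 := UOpenFam.le_dim_of_trdeg (U.ι ≫ f) ⊤ ⟨z, hz⟩ trivial m
    (by rw [EquidimAt.trdeg_opens]; exact hm)
  refine h1.trans ?_
  apply Helper9.TopDim.dim_le_of_range_subset (X := X) (isInducing_aux U _) IsInducing.subtypeVal
  rw [Subtype.range_coe]
  exact (range_aux f U _).subset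

/-- upper bound for the dimension of the open part `U ∩ f⁻¹(y)` of a fibre. -/
theorem dim_open_le_of_forall_trdeg (U : X.Opens) (y : Y) (d : WithBot ℕ∞)
    (h : ∀ z : X, z ∈ U → f z = y → ∀ m : ℕ,
      @Algebra.trdeg (Y.residueField (f z)) (X.residueField z) _ _
        (f.residueFieldMap z).hom.toAlgebra = m → (m : WithBot ℕ∞) ≤ d) :
    topologicalKrullDim ↥((U : Set X) ∩ f ⁻¹' {y}) ≤ d := by
  have h1 : topologicalKrullDim ↥((U : Set X) ∩ f ⁻¹' {y}) ≤
      topologicalKrullDim ↥(((⊤ : Closeds ↥U) : Set ↥U) ∩ (U.ι ≫ f) ⁻¹' {y}) := by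
    apply Helper9.TopDim.dim_le_of_range_subset (X := X) IsInducing.subtypeVal (isInducing_aux U _)
    rw [Subtype.range_coe]
    exact (range_aux f U y).superset
  refine h1.trans ?_
  apply UOpenFam.dim_le_of_forall_trdeg (U.ι ≫ f) ⊤ y d
  intro w _ hw m hm
  refine h (U.ι w) w.2 hw m ?_
  rw [← EquidimAt.trdeg_opens]
  exact hm

/-- if `U ∩ f⁻¹(y)` has dimension at least `n`, it contains a point of transcendence degree at
least `n`. -/
theorem exists_trdeg_ge_of_le_dim_open (U : X.Opens) (y : Y) (n : ℕ)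
    (h : (n : WithBot ℕ∞) ≤ topologicalKrullDim ↥((U : Set X) ∩ f ⁻¹' {y})) :
    ∃ z : X, z ∈ U ∧ f z = y ∧ ∃ m : ℕ,
      @Algebra.trdeg (Y.residueField (f z)) (X.residueField z) _ _
        (f.residueFieldMap z).hom.toAlgebra = m ∧ n ≤ m := by
  by_contra hcon
  push_neg at hcon
  rcases Nat.eq_zero_or_pos n with rfl | hn
  · have hd : topologicalKrullDim ↥((U : Set X) ∩ f ⁻¹' {y}) ≤ ⊥ := by
      apply dim_open_le_of_forall_trdeg f U y ⊥
      intro z hzU hzy m hm
      exact absurd (Nat.zero_le m) (not_le.mpr (hcon z hzU hzy m hm))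
    rw [le_bot_iff] at hd
    rw [hd] at h
    exact absurd h (by simp)
  · have hd : topologicalKrullDim ↥((U : Set X) ∩ f ⁻¹' {y}) ≤ ((n - 1 : ℕ) : WithBot ℕ∞) := by
      apply dim_open_le_of_forall_trdeg f U y
      intro z hzU hzy m hm
      have := hcon z hzU hzy m hm
      have : m ≤ n - 1 := by omega
      exact_mod_cast this
    have h2 : (n : WithBot ℕ∞) ≤ ((n - 1 : ℕ) : WithBot ℕ∞) := h.trans hd
    have h3 : n ≤ n - 1 := by exact_mod_cast h2
    omega

end opens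


section maxpts

/-- in a quasi-sober space, a point without proper generizations is the generic point of an
irreducible component. -/
theorem mem_genericPoints_of_maximal {T : Type*} [TopologicalSpace T] [QuasiSober T] (g : T)
    (hg : ∀ g' : T, g' ⤳ g → g' = g) : g ∈ genericPoints T := by
  refine ⟨isIrreducible_singleton.closure, ?_⟩
  intro S hS hle
  obtain ⟨g', hg'⟩ := QuasiSober.sober hS.closure isClosed_closure
  have h1 : g ∈ closure S := subset_closure (hle (subset_closure rfl))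
  have h2 : g' ⤳ g := hg'.specializes h1
  have h3 := hg g' h2
  subst h3
  rw [hg'.def]
  exact subset_closure

variable {X Y : Scheme.{u}} (f : X ⟶ Y) [LocallyOfFiniteType f]

/-- a quasi-compact open subset of `X` contains only finitely many maximal points of a given
fibre. -/
theorem finite_maximal_fibre_inter (η : Y) (U₀ : X.Opens) (hU₀ : IsCompact (U₀ : Set X)) :
    {ζ : X | ζ ∈ U₀ ∧ f ζ = η ∧ ∀ w : X, f w = f ζ → w ⤳ ζ → w = ζ}.Finite := by
  haveI := SectionComp.isLocallyNoetherian_fiber f η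
  set ι := f.fiberι η with hι
  let G : (f.fiber η).Opens := ι ⁻¹ᵁ U₀
  haveI : QuasiCompact (Y.fromSpecResidueField η) := inferInstance
  haveI : QuasiCompact ι := MorphismProperty.pullback_fst (P := @QuasiCompact) _ _ inferInstance
  have hGc : IsCompact (G : Set (f.fiber η)) := ι.isCompact_preimage hU₀
  haveI : CompactSpace ↥(G : Scheme.{u}) := isCompact_iff_compactSpace.mp hGc
  haveI : IsLocallyNoetherian (G : Scheme.{u}) := inferInstance
  haveI : IsNoetherian (G : Scheme.{u}) := AlgebraicGeometry.IsNoetherian.mk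
  have hfin : (genericPoints ↥(G : Scheme.{u})).Finite :=
    genericPoints.finite (NoetherianSpace.finite_irreducibleComponents (α := ↥(G : Scheme.{u})))
  refine (hfin.image (fun g : ↥(G : Scheme.{u}) => (ι (G.ι g) : X))).subset ?_
  rintro ζ ⟨hζU, hζη, hζmax⟩
  set ζF := (f.fiberHomeo η).symm ⟨ζ, hζη⟩ with hζF
  have hιζ : ι ζF = ζ := f.fiberι_fiberHomeo_symm _ _
  have hζG : ζF ∈ G := by
    show ι ζF ∈ U₀
    rw [hιζ]; exact hζU
  refine ⟨(⟨ζF, hζG⟩ : ↥(G : Scheme.{u})), ?_, hιζ⟩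
  apply mem_genericPoints_of_maximal (T := ↥(G : Scheme.{u}))
  intro g' hg'
  have h1 : G.ι g' ⤳ ζF := hg'.map G.ι.continuous
  have h2 : ι (G.ι g') ⤳ ζ := by
    have := h1.map ι.continuous
    rwa [hιζ] at this
  have h3 : f (ι (G.ι g')) = f ζ := ((f.fiberHomeo η (G.ι g')).2).trans hζη.symm
  have h4 := hζmax _ h3 h2
  apply G.ι.isEmbedding.injective
  apply ι.isEmbedding.injective
  rw [h4]
  exact hιζ.symm

/-- **Key lemma**: if every open neighbourhood of `x` meets the fibre over `η` in dimension at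
least `n`, then `x` is a specialization of a maximal point of that fibre of transcendence degree
at least `n`. -/
theorem exists_maximal_specializes_trdeg_ge (x : X) (η : Y) (n : ℕ)
    (h : ∀ U : X.Opens, x ∈ U → (n : WithBot ℕ∞) ≤ topologicalKrullDim ↥((U : Set X) ∩ f ⁻¹' {η})) :
    ∃ ζ : X, f ζ = η ∧ ζ ⤳ x ∧ (∀ w : X, f w = f ζ → w ⤳ ζ → w = ζ) ∧ ∃ e : ℕ,
      @Algebra.trdeg (Y.residueField (f ζ)) (X.residueField ζ) _ _
        (f.residueFieldMap ζ).hom.toAlgebra = e ∧ n ≤ e := by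
  obtain ⟨_, ⟨(U₀ : X.Opens), hU₀ : IsAffineOpen U₀, rfl⟩, hxU₀, -⟩ :=
    X.isBasis_affineOpens.exists_subset_of_mem_open (Set.mem_univ x) isOpen_univ
  set M : Set X := {ζ : X | ζ ∈ U₀ ∧ f ζ = η ∧ ∀ w : X, f w = f ζ → w ⤳ ζ → w = ζ} with hM
  have hMfin : M.Finite := finite_maximal_fibre_inter f η U₀ hU₀.isCompact
  set N : Set X := {ζ : X | ζ ∈ M ∧ ∃ e : ℕ,
      @Algebra.trdeg (Y.residueField (f ζ)) (X.residueField ζ) _ _
        (f.residueFieldMap ζ).hom.toAlgebra = e ∧ n ≤ e} with hN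
  have hNfin : N.Finite := hMfin.subset (fun ζ hζ => hζ.1)
  have hxN : x ∈ closure N := by
    rw [mem_closure_iff]
    intro O hO hxO
    let U : X.Opens := ⟨O, hO⟩ ⊓ U₀
    have hxU : x ∈ U := ⟨hxO, hxU₀⟩
    obtain ⟨z, hzU, hzη, m, hm, hnm⟩ := exists_trdeg_ge_of_le_dim_open f U η n (h U hxU)
    obtain ⟨ζ, e, hζz, hfζ, hζmax, he, hfd⟩ := EquidimAt.exists_maximal_trdeg_eq_fibreDimAt f z
    have hme : (m : WithBot ℕ∞) ≤ e := by
      rw [← hfd]
      exact EquidimAt.trdeg_le_fibreDimAt f z z specializes_rfl m hm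
    have hme' : m ≤ e := by exact_mod_cast hme
    have hζU : ζ ∈ U := hζz.mem_open U.2 hzU
    exact ⟨ζ, hζU.1, ⟨hζU.2, hfζ.trans hzη, hζmax⟩, e, he, hnm.trans hme'⟩
  have hcl : closure N = ⋃ ζ ∈ N, closure {ζ} := by
    rw [← hNfin.closure_biUnion, Set.biUnion_of_singleton]
  rw [hcl] at hxN
  obtain ⟨ζ, hζN, hxζ⟩ := Set.mem_iUnion₂.mp hxN
  obtain ⟨⟨-, hfζ, hζmax⟩, e, he, hne⟩ := hζN
  exact ⟨ζ, hfζ, specializes_iff_mem_closure.mpr hxζ, hζmax, e, he, hne⟩

end maxpts

end Groth.Agent.Helper14.UOpenAtDim
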