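import Mathlib
import Groth.Agent.Lib.Helper14.PtTrdegEq

/-!
# Transcendence degree of points of a fibre product which are maximal over a pair of points
-/

namespace Groth.Agent.Helper14.PtTrdegMax
universe u
open AlgebraicGeometry CategoryTheory Limits Scheme.Pullback TensorProduct
open Groth.Agent.Helper14.FibreBC Groth.Agent.Helper14.PtTrdegEq

section scheme
variable {X Y S : Scheme.{u}} {f : X ⟶ S} {g : Y ⟶ S}

/-- points of the fibre product which are maximal among the points lying over the same pair of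
points correspond to minimal primes of `κ(x) ⊗ κ(y)`. -/
lemma specOfPoint_mem_minimalPrimes' (t : ↑(pullback f g))
    (hmax : ∀ t' : ↑(pullback f g), t' ⤳ t → pullback.fst f g t' = pullback.fst f g t →
      pullback.snd f g t' = pullback.snd f g t → t' = t) :
    (SpecOfPoint t).asIdeal ∈ minimalPrimes (Triplet.ofPoint t).tensor := by
  rw [minimalPrimes_eq_minimals]
  refine ⟨(SpecOfPoint t).isPrime, fun Q₁ hQ₁ hle => ?_⟩
  let q₁ : Spec (Triplet.ofPoint t).tensor := ⟨Q₁, hQ₁⟩
  have hsp : q₁ ⤳ SpecOfPoint t := (PrimeSpectrum.le_iff_specializes _ _).mp hle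
  have h1 : (Triplet.ofPoint t).SpecTensorTo q₁ ⤳ (Triplet.ofPoint t).SpecTensorTo (SpecOfPoint t) :=
    hsp.map (Triplet.ofPoint t).SpecTensorTo.continuous
  rw [SpecTensorTo_SpecOfPoint] at h1
  have h2 : pullback.snd f g ((Triplet.ofPoint t).SpecTensorTo q₁) = pullback.snd f g t :=
    Triplet.snd_SpecTensorTo_apply _ _
  have h2' : pullback.fst f g ((Triplet.ofPoint t).SpecTensorTo q₁) = pullback.fst f g t :=
    Triplet.fst_SpecTensorTo_apply _ _
  have h3 := hmax _ h1 h2' h2
  have h4 : carrierEquiv.symm ⟨Triplet.ofPoint t, q₁⟩ =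
      carrierEquiv.symm (⟨Triplet.ofPoint t, SpecOfPoint t⟩ : Σ T : Triplet f g, Spec T.tensor) := by
    change (Triplet.ofPoint t).SpecTensorTo q₁ = (Triplet.ofPoint t).SpecTensorTo (SpecOfPoint t)
    rw [h3, SpecTensorTo_SpecOfPoint]
  have h5 := carrierEquiv.symm.injective h4
  have h6 : q₁ = SpecOfPoint t := eq_of_heq (Sigma.mk.inj h5).2
  rw [← h6]

end scheme

section square
variable {X S X' S' : Scheme.{u}} {f : X ⟶ S} {g : S' ⟶ S} {g' : X' ⟶ X} {f' : X' ⟶ S'}

/-- in a cartesian square, a point `x'` which is maximal among the points with the same two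
projections has `trdeg κ(x')/κ(f' x') = trdeg κ(g' x')/κ(f (g' x'))`. -/
theorem trdeg_eq_of_maximal (hsq : IsPullback g' f' f g) (x' : X')
    (hmax : ∀ z' : X', z' ⤳ x' → g' z' = g' x' → f' z' = f' x' → z' = x') :
    @Algebra.trdeg (S'.residueField (f' x')) (X'.residueField x') _ _
        (f'.residueFieldMap x').hom.toAlgebra =
      @Algebra.trdeg (S.residueField (f (g' x'))) (X.residueField (g' x'))
        _ _ (f.residueFieldMap (g' x')).hom.toAlgebra := by
  refine le_antisymm (trdeg_of_isPullback hsq x').1 ?_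
  set i := hsq.isoPullback with hi
  have hfst : i.hom ≫ pullback.fst f g = g' := hsq.isoPullback_hom_fst
  have hsnd : i.hom ≫ pullback.snd f g = f' := hsq.isoPullback_hom_snd
  set t := i.hom x' with ht
  have e1 : @Algebra.trdeg (S'.residueField (f' x')) (X'.residueField x') _ _
        (f'.residueFieldMap x').hom.toAlgebra =
      @Algebra.trdeg (S'.residueField (pullback.snd f g t)) ((pullback f g).residueField t) _ _
        ((pullback.snd f g).residueFieldMap t).hom.toAlgebra := by
    rw [← FibreComp.trdeg_congr hsnd x', DimClosure.trdeg_comp i.hom (pullback.snd f g) x',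
      FibreComp.trdeg_of_surjectiveOnStalks i.hom x', add_zero]
  have hx : g' x' = pullback.fst f g t := by
    rw [ht, ← Scheme.Hom.comp_apply, hfst]
  have e2 := trdeg_point_congr f hx
  rw [e1, e2]
  apply le_trdeg_snd_of_minimal
  apply specOfPoint_mem_minimalPrimes'
  intro t' ht' hf' hs'
  have h3 : i.inv t' ⤳ x' := by
    have := ht'.map i.inv.continuous
    rwa [ht, ← Scheme.Hom.comp_apply, Iso.hom_inv_id] at this
  have hit : i.hom (i.inv t') = t' := by
    rw [← Scheme.Hom.comp_apply, Iso.inv_hom_id]; rfl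
  have h4 : g' (i.inv t') = g' x' := by
    rw [← hfst, Scheme.Hom.comp_apply, Scheme.Hom.comp_apply, hit, hf']
  have h5 : f' (i.inv t') = f' x' := by
    rw [← hsnd, Scheme.Hom.comp_apply, Scheme.Hom.comp_apply, hit, hs']
  have h6 := hmax _ h3 h4 h5
  rw [ht, ← h6, hit]

end square

end Groth.Agent.Helper14.PtTrdegMax
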