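import Mathlib
import Groth.Agent.Lib.Helper14.PtTrdegMax
import Groth.Agent.Lib.Helper14.DimClosure
import Groth.Agent.Lib.Helper14.SectionComp
import Groth.Agent.Lib.Helper14.FibreBC
import Groth.Prelude.Def_FDesc

/-!
# Irreducible components of inverse images of closed subsets under base change
-/

namespace Groth.Agent.Helper14.FieldBCComp
universe u
open AlgebraicGeometry CategoryTheory Limits TopologicalSpace Topology

/-- dimension of a closed irreducible subset of a scheme locally of finite type over a field. -/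
theorem dim_eq_of_isGenericPoint (k : Type u) [Field k] {Y : Scheme.{u}}
    (g : Y ⟶ Spec (CommRingCat.of k)) [LocallyOfFiniteType g] (T : Set Y) (η : Y)
    (hη : IsGenericPoint η T) :
    topologicalKrullDim ↥T = (((DimClosure.trdegFun g η).toNat : ℕ) : WithBot ℕ∞) := by
  rw [← DimClosure.dim_closure_eq k g η, hη.def]

section top

variable {E : Type*} [TopologicalSpace E] [QuasiSober E] [T0Space E]

/-- an irreducible component is the closure of a maximal point. -/
theorem exists_maximal_of_mem_irreducibleComponents (W : Set E) (hW : W ∈ irreducibleComponents E) :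
    ∃ w : E, IsGenericPoint w W ∧ ∀ z : E, z ⤳ w → z = w := by
  have hWc : IsClosed W := isClosed_of_mem_irreducibleComponents W hW
  obtain ⟨w, hw⟩ := QuasiSober.sober hW.1 hWc
  refine ⟨w, hw, fun z hz => ?_⟩
  have hb : IsIrreducible (closure ({z} : Set E)) := isIrreducible_singleton.closure
  have hle : W ≤ closure ({z} : Set E) := by
    rw [← hw.def]
    exact closure_minimal (Set.singleton_subset_iff.mpr hz.mem_closure) isClosed_closure
  have h2 := hW.2 hb hle
  have hzW : z ∈ W := h2 (subset_closure rfl)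
  rw [← hw.def] at hzW
  have : w ⤳ z := specializes_iff_mem_closure.mpr hzW
  exact ((this.antisymm hz).symm).eq

end top

section square
variable {X S X' S' : Scheme.{u}} {f : X ⟶ S} {g : S' ⟶ S} {g' : X' ⟶ X} {f' : X' ⟶ S'}

/-- a maximal point of `g'⁻¹(Z)`, `Z` closed irreducible contained in a fibre of `f`, lies over
the generic point of `Z`. -/
theorem map_eq_of_maximal (hsq : IsPullback g' f' f g) (Z : Set X) (ζ : X)
    (hζ : IsGenericPoint ζ Z) (hfib : ∀ x ∈ Z, f x = f ζ) (w : X') (hw : g' w ∈ Z)
    (hmax : ∀ z' : X', z' ⤳ w → g' z' ∈ Z → z' = w) : g' w = ζ := by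
  have h1 : ζ ⤳ g' w := hζ.specializes hw
  obtain ⟨z', hz', hgz', -⟩ := FibreBC.exists_generization_lift hsq w ζ h1 (hfib _ hw).symm
  have := hmax z' hz' (by rw [hgz']; exact hζ.mem)
  rw [← this, hgz']

/-- variant of `map_eq_of_maximal` where maximality is only needed among points with the same
image under `f'`. -/
theorem map_eq_of_maximal' (hsq : IsPullback g' f' f g) (Z : Set X) (ζ : X)
    (hζ : IsGenericPoint ζ Z) (hfib : ∀ x ∈ Z, f x = f ζ) (w : X') (hw : g' w ∈ Z)
    (hmax : ∀ z' : X', z' ⤳ w → g' z' ∈ Z → f' z' = f' w → z' = w) : g' w = ζ := by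
  have h1 : ζ ⤳ g' w := hζ.specializes hw
  obtain ⟨z', hz', hgz', hfz'⟩ := FibreBC.exists_generization_lift hsq w ζ h1 (hfib _ hw).symm
  have := hmax z' hz' (by rw [hgz']; exact hζ.mem) hfz'
  rw [← this, hgz']

end square

end Groth.Agent.Helper14.FieldBCComp

namespace Groth.Agent.Helper14.FieldBCComp
universe u
open AlgebraicGeometry CategoryTheory Limits TopologicalSpace Topology

section field
variable {k K : Type u} [Field k] [Field K] [Algebra k K] {X : Scheme.{u}}
  (f : X ⟶ Spec (CommRingCat.of k)) [LocallyOfFiniteType f]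

theorem isPullback_bc : IsPullback (FBase.bcπ f K) (FBase.bcStr f K) f
    (Spec.map (CommRingCat.ofHom (algebraMap k K))) := IsPullback.of_hasPullback f _

instance : LocallyOfFiniteType (FBase.bcStr f K) := MorphismProperty.pullback_snd _ _ inferInstance

instance : Subsingleton ↥(Spec (CommRingCat.of k)) :=
  inferInstanceAs (Subsingleton (PrimeSpectrum k))

/-- a maximal point of `X ⊗_k K` lies over a maximal point of `X`, with the same transcendence
degree. -/
theorem maximal_map (w : ↥(FBase.bc f K)) (hw : ∀ z' : ↥(FBase.bc f K), z' ⤳ w → z' = w) :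
    (∀ z : X, z ⤳ (FBase.bcπ f K) w → z = (FBase.bcπ f K) w) ∧
      DimClosure.trdegFun (FBase.bcStr f K) w = DimClosure.trdegFun f ((FBase.bcπ f K) w) := by
  refine ⟨fun z hz => ?_, ?_⟩
  · obtain ⟨z', hz', hgz', -⟩ := FibreBC.exists_generization_lift (isPullback_bc f) w z hz
      (Subsingleton.elim _ _)
    rw [← hgz', hw z' hz']
  · unfold DimClosure.trdegFun
    rw [PtTrdegMax.trdeg_eq_of_maximal (isPullback_bc f) w (fun z' hz' _ _ => hw z' hz')]

/-- `X ⊗_k K ⟶ X` is surjective. -/
theorem bcπ_surjective (x : X) : ∃ w : ↥(FBase.bc f K), (FBase.bcπ f K) w = x := by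
  obtain ⟨y'⟩ : Nonempty ↥(Spec (CommRingCat.of K)) :=
    inferInstanceAs (Nonempty (PrimeSpectrum K))
  obtain ⟨w, hw, -, -⟩ := PtTrdegEq.exists_point_trdeg_eq (isPullback_bc f (K := K)) x y'
    (Subsingleton.elim _ _)
  exact ⟨w, hw⟩

end field

end Groth.Agent.Helper14.FieldBCComp
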