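import Groth.Agent.Lib.Helper14.PullbackPts
import Mathlib.AlgebraicGeometry.Morphisms.QuasiCompact
import Mathlib.AlgebraicGeometry.Morphisms.UnderlyingMap
import Mathlib.AlgebraicGeometry.GammaSpecAdjunction
import Mathlib.RingTheory.Ideal.MinimalPrime.Localization

set_option autoImplicit false
universe u

open AlgebraicGeometry CategoryTheory Limits

namespace Groth.Agent.Helper14

/-- Ring level: a prime in the closure of the image of `Spec φ` is a specialization of a point of
the image. -/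
theorem exists_comap_le_of_mem_closure_range {R A : Type u} [CommRing R] [CommRing A]
    (φ : R →+* A) (p : PrimeSpectrum R) (hp : p ∈ closure (Set.range (PrimeSpectrum.comap φ))) :
    ∃ a : PrimeSpectrum A, PrimeSpectrum.comap φ a ≤ p := by
  rw [PrimeSpectrum.closure_range_comap, PrimeSpectrum.mem_zeroLocus] at hp
  have hp' : RingHom.ker φ ≤ p.asIdeal := hp
  obtain ⟨q, hq, hqp⟩ := Ideal.exists_minimalPrimes_le hp'
  have hq' : q ∈ (Ideal.comap φ ⊥).minimalPrimes := hq
  obtain ⟨q', hq'prime, -, hq'q⟩ := Ideal.exists_comap_eq_of_mem_minimalPrimes φ q hq'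
  refine ⟨⟨q', hq'prime⟩, ?_⟩
  change Ideal.comap φ q' ≤ p.asIdeal
  rw [hq'q]
  exact hqp

theorem exists_specializes_of_mem_closure_range_aux {X Y : Scheme.{u}} (f : X ⟶ Y)
    [QuasiCompact f] {R : CommRingCat.{u}} (ι : Spec R ⟶ Y) [IsOpenImmersion ι]
    (y₀ : Spec R) (hy : ι y₀ ∈ closure (Set.range f)) : ∃ x : X, f x ⤳ ι y₀ := by
  have hqc : QuasiCompact (pullback.snd f ι) := inferInstance
  have hcpt : CompactSpace ↥(pullback f ι) :=
    QuasiCompact.compactSpace_of_compactSpace (pullback.snd f ι)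
  obtain ⟨A, h, hsurj⟩ := compactSpace_iff_exists.mp hcpt
  have hk : Spec.map (Spec.preimage (h ≫ pullback.snd f ι)) = h ≫ pullback.snd f ι :=
    Spec.map_preimage _
  have hrange : Set.range (h ≫ pullback.snd f ι) = ι ⁻¹' Set.range f := by
    rw [← Scheme.Pullback.range_snd]
    ext z
    constructor
    · rintro ⟨a, rfl⟩
      exact ⟨h a, rfl⟩
    · rintro ⟨w, rfl⟩
      obtain ⟨a, rfl⟩ := hsurj w
      exact ⟨a, rfl⟩
  have hcl : y₀ ∈ closure (Set.range (h ≫ pullback.snd f ι)) := by
    rw [hrange, ← ι.isOpenEmbedding.isOpenMap.preimage_closure_eq_closure_preimage ι.continuous]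
    exact hy
  rw [← hk] at hcl
  obtain ⟨a, ha⟩ := exists_comap_le_of_mem_closure_range _ y₀ hcl
  refine ⟨pullback.fst f ι (h a), ?_⟩
  have h1 : f (pullback.fst f ι (h a)) = ι ((h ≫ pullback.snd f ι) a) := by
    rw [Scheme.Hom.comp_apply, ← Scheme.Hom.comp_apply, ← Scheme.Hom.comp_apply (pullback.snd _ _),
      pullback.condition]
  rw [h1, ← hk]
  apply Specializes.map _ ι.continuous
  exact (PrimeSpectrum.le_iff_specializes _ _).mp ha

theorem exists_specializes_of_mem_closure_range {X Y : Scheme.{u}} (f : X ⟶ Y) [QuasiCompact f]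
    (y : Y) (hy : y ∈ closure (Set.range f)) : ∃ x : X, f x ⤳ y := by
  obtain ⟨y₀, hy₀⟩ := Y.affineOpenCover.covers y
  have h2 : (Y.affineOpenCover.f (Y.affineOpenCover.idx y)) y₀ ∈ closure (Set.range f) := by
    rw [hy₀]
    exact hy
  have h1 := exists_specializes_of_mem_closure_range_aux f
    (Y.affineOpenCover.f (Y.affineOpenCover.idx y)) y₀ h2
  rw [hy₀] at h1
  exact h1

end Groth.Agent.Helper14
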