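import Mathlib

set_option autoImplicit false
universe u

namespace Groth.Agent.Helper14

open AlgebraicGeometry CategoryTheory

theorem ker_isMaximal_of_isAlgebraic {k B K : Type*} [Field k] [CommRing B] [Field K]
    (θ : k →+* B) (ψ : B →+* K)
    (halg : @Algebra.IsAlgebraic k K _ _ (ψ.comp θ).toAlgebra) : (RingHom.ker ψ).IsMaximal := by
  let _ := (ψ.comp θ).toAlgebra
  let _ := θ.toAlgebra
  let ψ' : B →ₐ[k] K := ⟨ψ, fun r => rfl⟩
  let _ : Field ψ'.range := (Subalgebra.isField_of_algebraic ψ'.range).toField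
  have hsurj : Function.Surjective ψ'.rangeRestrict := ψ'.rangeRestrict_surjective
  have hmax := RingHom.ker_isMaximal_of_surjective (ψ'.rangeRestrict : B →+* ψ'.range) hsurj
  have hker : RingHom.ker ψ = RingHom.ker (ψ'.rangeRestrict : B →+* ψ'.range) := by
    ext b
    rw [RingHom.mem_ker, RingHom.mem_ker]
    constructor
    · intro hb
      exact Subtype.ext hb
    · intro hb
      exact congrArg Subtype.val hb
  rw [hker]
  exact hmax

theorem isClosed_singleton_of_map_eq_asFiber {X S : Scheme.{u}} (f : X ⟶ S) (x : X)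
    (halg : @Algebra.IsAlgebraic (S.residueField (f.base x)) (X.residueField x) _ _
      (f.residueFieldMap x).hom.toAlgebra)
    {B : CommRingCat.{u}} (ι : Spec B ⟶ f.fiber (f.base x)) [IsOpenImmersion ι] (y : Spec B)
    (hy : ι y = f.asFiber x) : IsClosed ({y} : Set (Spec B)) := by
  have hrange : Set.range (f.asFiberHom x) ⊆ Set.range ι := by
    rw [Scheme.Hom.range_asFiberHom, Set.singleton_subset_iff]
    exact ⟨y, hy⟩
  let a' := IsOpenImmersion.lift ι (f.asFiberHom x) hrange
  have ha' : a' ≫ ι = f.asFiberHom x := IsOpenImmersion.lift_fac ..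
  obtain ⟨ψ, hψ⟩ := Spec.map_surjective a'
  obtain ⟨θ, hθ⟩ := Spec.map_surjective (ι ≫ f.fiberToSpecResidueField (f.base x))
  have hcomp : θ ≫ ψ = f.residueFieldMap x := by
    apply Spec.map_injective
    rw [Spec.map_comp, hψ, hθ, ← Category.assoc, ha',
      Scheme.Hom.asFiberHom_fiberToSpecResidueField]
  have hmax : (RingHom.ker ψ.hom).IsMaximal := by
    have key : ψ.hom.comp θ.hom = (f.residueFieldMap x).hom := by
      rw [← hcomp]; rfl
    apply ker_isMaximal_of_isAlgebraic θ.hom ψ.hom
    rw [key]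
    exact halg
  let pt : Spec (X.residueField x) := (⟨⊥, Ideal.isPrime_bot⟩ : PrimeSpectrum (X.residueField x))
  have hpt : a' pt = y := by
    apply ι.isOpenEmbedding.injective
    rw [hy, ← Scheme.Hom.comp_apply, ha', Scheme.Hom.asFiberHom_apply]
  have hyI : (y : PrimeSpectrum B).asIdeal = RingHom.ker ψ.hom := by
    rw [← hpt, ← hψ]
    rfl
  have h := (PrimeSpectrum.isClosed_singleton_iff_isMaximal (R := B) y).mpr (by rw [hyI]; exact hmax)
  exact h


theorem isClosed_singleton_asFiber_of_isAlgebraic {X S : Scheme.{u}} (f : X ⟶ S) (x : X)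
    (halg : @Algebra.IsAlgebraic (S.residueField (f.base x)) (X.residueField x) _ _
      (f.residueFieldMap x).hom.toAlgebra) :
    IsClosed ({f.asFiber x} : Set ↑(f.fiber (f.base x))) := by
  rw [← closure_subset_iff_isClosed]
  intro ξ' hξ'
  rw [← specializes_iff_mem_closure] at hξ'
  obtain ⟨i, y', hy'⟩ := (f.fiber (f.base x)).affineCover.exists_eq ξ'
  have hi : IsOpenImmersion ((f.fiber (f.base x)).affineCover.f i) := inferInstance
  have hmem : f.asFiber x ∈ Set.range ((f.fiber (f.base x)).affineCover.f i) :=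
    hξ'.mem_open ((f.fiber (f.base x)).affineCover.f i).isOpenEmbedding.isOpen_range ⟨y', hy'⟩
  obtain ⟨y, hy⟩ := hmem
  have hcl := @isClosed_singleton_of_map_eq_asFiber X S f x halg _
    ((f.fiber (f.base x)).affineCover.f i) hi y hy
  have hspec : y ⤳ y' := by
    rw [← ((f.fiber (f.base x)).affineCover.f i).isOpenEmbedding.isInducing.specializes_iff,
      hy, hy']
    exact hξ'
  have : y' = y := by
    have h1 := hspec.mem_closed hcl rfl
    exact h1
  rw [← hy', this, hy]
  exact Set.mem_singleton _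

end Groth.Agent.Helper14
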