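import Mathlib

/-!
# Descent along a faithfully flat map in a tower `A → B → C`
-/

namespace Groth.Agent.Helper14.FFDescent

open TensorProduct

universe u

variable (A B C : Type u) [CommRing A] [CommRing B] [CommRing C]
  [Algebra A B] [Algebra B C] [Algebra A C] [IsScalarTower A B C]

/-- If `C` is flat over `A` and faithfully flat over `B`, then `B` is flat over `A`. -/
theorem flat_of_comp [Module.Flat A C] [Module.FaithfullyFlat B C] : Module.Flat A B := by
  rw [Module.Flat.iff_lTensor_preserves_injective_linearMap]
  intro N N' _ _ _ _ f hf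
  have h1 : Function.Injective (f.lTensor C) := Module.Flat.lTensor_preserves_injective_linearMap f hf
  -- the `B`-linear map
  let g : B ⊗[A] N →ₗ[B] B ⊗[A] N' := f.baseChange B
  have hg : ⇑g = ⇑(f.lTensor B) := rfl
  rw [← hg, ← Module.FaithfullyFlat.lTensor_injective_iff_injective B C g]
  let e := AlgebraTensorModule.cancelBaseChange A B B C N
  let e' := AlgebraTensorModule.cancelBaseChange A B B C N'
  have hcomm : ∀ x, e' (g.lTensor C x) = f.lTensor C (e x) := by
    intro x
    induction x using TensorProduct.induction_on with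
    | zero => simp
    | add x y hx hy => simp only [map_add, hx, hy]
    | tmul c y =>
      induction y using TensorProduct.induction_on with
      | zero => simp
      | add x y hx hy => simp only [tmul_add, map_add, hx, hy]
      | tmul b n =>
        simp [e, e', g]
  intro x y hxy
  apply e.injective
  apply h1
  rw [← hcomm, ← hcomm, hxy]

/-- Transfer of a ring property stable under isomorphism and descending along faithfully flat
maps from `T ⊗[A] C` to `T ⊗[A] B`. -/
theorem descend [Module.FaithfullyFlat B C] (T : Type u) [CommRing T] [Algebra A T]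
    (P : ∀ (X : Type u) [CommRing X], Prop)
    (hP_equiv : ∀ (X Y : Type u) [CommRing X] [CommRing Y], (X ≃+* Y) → P X → P Y)
    (hP_desc : ∀ (X Y : Type u) [CommRing X] [CommRing Y] [Algebra X Y]
      [Module.FaithfullyFlat X Y], P Y → P X)
    (h : P (T ⊗[A] C)) : P (T ⊗[A] B) := by
  have h1 : P (C ⊗[A] T) := hP_equiv _ _ (Algebra.TensorProduct.comm A T C).toRingEquiv h
  have h2 : P (C ⊗[B] (B ⊗[A] T)) :=
    hP_equiv _ _ (Algebra.TensorProduct.cancelBaseChange A B B C T).symm.toRingEquiv h1
  have h3 : P ((B ⊗[A] T) ⊗[B] C) :=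
    hP_equiv _ _ (Algebra.TensorProduct.comm B C (B ⊗[A] T)).toRingEquiv h2
  have h4 : P (B ⊗[A] T) := hP_desc (B ⊗[A] T) ((B ⊗[A] T) ⊗[B] C) h3
  exact hP_equiv _ _ (Algebra.TensorProduct.comm A B T).toRingEquiv h4

end Groth.Agent.Helper14.FFDescent
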