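import Mathlib

/-!
# Dimension of étale algebras over polynomial rings over a field
-/

namespace Groth.Agent.Helper14.SmoothDim

open Polynomial

universe u

/-- Every maximal ideal of `k[x₁,…,x_d]` has height `d`. -/
theorem height_eq_of_isMaximal_mvPolynomial (k : Type u) [Field k] :
    ∀ (d : ℕ) (p : Ideal (MvPolynomial (Fin d) k)) [p.IsMaximal], p.height = d := by
  intro d
  induction d with
  | zero =>
    intro p hp
    have h1 : ringKrullDim (MvPolynomial (Fin 0) k) = 0 := by
      rw [MvPolynomial.ringKrullDim_of_isNoetherianRing, ringKrullDim_eq_zero_of_field]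
      simp
    have h2 := Ideal.height_le_ringKrullDim_of_ne_top hp.ne_top
    rw [h1] at h2
    have h3 : p.height ≤ 0 := by exact_mod_cast h2
    simpa using h3
  | succ d ih =>
    intro p hp
    let e := (MvPolynomial.finSuccEquiv k d).toRingEquiv
    set P : Ideal (MvPolynomial (Fin d) k)[X] := p.map e with hP
    haveI : P.IsMaximal := Ideal.map_isMaximal_of_equiv e
    set q : Ideal (MvPolynomial (Fin d) k) := P.comap (C : _ →+* (MvPolynomial (Fin d) k)[X]) with hq
    haveI : q.IsMaximal := Polynomial.isMaximal_comap_C_of_isJacobsonRing P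
    haveI : P.LiesOver q := ⟨rfl⟩
    have h1 := Polynomial.height_eq_height_add_one q P
    rw [ih q, hP, RingEquiv.height_map] at h1
    rw [h1]
    simp

/-- Quasi-finite algebras do not raise the Krull dimension. -/
theorem ringKrullDim_le_of_quasiFinite (A B : Type u) [CommRing A] [CommRing B] [Algebra A B]
    [Algebra.QuasiFinite A B] : ringKrullDim B ≤ ringKrullDim A := by
  apply Order.krullDim_le_of_strictMono (PrimeSpectrum.comap (algebraMap A B))
  intro P Q hPQ
  have hle : P.asIdeal ≤ Q.asIdeal := hPQ.le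
  refine lt_of_le_of_ne (Ideal.comap_mono hle) ?_
  intro heq
  have h1 : P.asIdeal.under A = Q.asIdeal.under A := congrArg PrimeSpectrum.asIdeal heq
  have h2 := Algebra.QuasiFinite.eq_of_le_of_under_eq (R := A) P.asIdeal Q.asIdeal hle h1
  exact hPQ.ne (PrimeSpectrum.ext h2)

/-- A nontrivial étale algebra over `k[x₁,…,x_d]` has Krull dimension `d`. -/
theorem ringKrullDim_eq_of_etale (k : Type u) [Field k] (d : ℕ) (T : Type u) [CommRing T]
    [Algebra (MvPolynomial (Fin d) k) T] [Algebra.Etale (MvPolynomial (Fin d) k) T]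
    [Nontrivial T] : ringKrullDim T = d := by
  have hD : ringKrullDim (MvPolynomial (Fin d) k) = d := by
    rw [MvPolynomial.ringKrullDim_of_isNoetherianRing, ringKrullDim_eq_zero_of_field]
    simp
  apply le_antisymm
  · rw [← hD]
    exact ringKrullDim_le_of_quasiFinite _ _
  · obtain ⟨m, hm⟩ := Ideal.exists_maximal T
    letI : Field (T ⧸ m) := Ideal.Quotient.field m
    haveI : Module.Finite (MvPolynomial (Fin d) k) (T ⧸ m) :=
      finite_of_finite_type_of_isJacobsonRing _ _
    haveI : Algebra.IsIntegral (MvPolynomial (Fin d) k) (T ⧸ m) := Algebra.IsIntegral.of_finite _ _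
    have h1 : ((⊥ : Ideal (T ⧸ m)).comap (algebraMap (MvPolynomial (Fin d) k) (T ⧸ m))).IsMaximal :=
      Ideal.isMaximal_comap_of_isIntegral_of_isMaximal ⊥
    have h2 : (⊥ : Ideal (T ⧸ m)).comap (algebraMap (MvPolynomial (Fin d) k) (T ⧸ m)) =
        m.comap (algebraMap (MvPolynomial (Fin d) k) T) := by
      rw [IsScalarTower.algebraMap_eq (MvPolynomial (Fin d) k) T (T ⧸ m), ← Ideal.comap_comap,
        Ideal.Quotient.algebraMap_eq, ← RingHom.ker_eq_comap_bot, Ideal.mk_ker]
    rw [h2] at h1
    set p := m.comap (algebraMap (MvPolynomial (Fin d) k) T) with hp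
    haveI : m.LiesOver p := ⟨rfl⟩
    haveI : IsNoetherianRing T := Algebra.FiniteType.isNoetherianRing (MvPolynomial (Fin d) k) T
    have h3 := Ideal.height_eq_height_add_of_liesOver_of_hasGoingDown p m
    rw [height_eq_of_isMaximal_mvPolynomial k d p] at h3
    have h4 : (d : ℕ∞) ≤ m.height := by rw [h3]; exact le_self_add
    have h5 := Ideal.height_le_ringKrullDim_of_ne_top hm.ne_top
    refine le_trans ?_ h5
    exact_mod_cast h4

end Groth.Agent.Helper14.SmoothDim
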