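import Mathlib
import Groth.Agent.Lib.Helper7.GeomRed

/-!
# Ring-level: geometrically reduced ⊗ reduced is reduced
-/

namespace Groth.Agent.Helper14.GeomRedBridge

open AlgebraicGeometry CategoryTheory CategoryTheory.Limits TensorProduct
universe u

theorem geometricallyReduced_of_forall_field {k A : Type u} [Field k] [CommRing A] [Algebra k A]
    (hA : ∀ (K : Type u) [Field K] [Algebra k K], IsReduced (K ⊗[k] A)) :
    GeometricallyReduced (Spec.map (CommRingCat.ofHom (algebraMap k A))) := by
  rw [geometricallyReduced_iff, geometrically_iff_of_commRing_of_isClosedUnderIsomorphisms]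
  intro K _ _
  have h1 : IsReduced (A ⊗[k] K) :=
    isReduced_of_injective (Algebra.TensorProduct.comm k A K).toRingEquiv.toRingHom
      (Algebra.TensorProduct.comm k A K).injective
  have : IsReduced (Spec (.of (A ⊗[k] K))) := (affine_isReduced_iff _).mpr h1
  exact isReduced_of_isOpenImmersion (pullbackSpecIso k A K).hom

/-- If `K ⊗[k] A` is reduced for all field extensions `K/k` and `C` is a reduced `k`-algebra then
`A ⊗[k] C` is reduced. -/
theorem isReduced_tensor_of_forall_field {k A C : Type u} [Field k] [CommRing A] [CommRing C]
    [Algebra k A] [Algebra k C]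
    (hA : ∀ (K : Type u) [Field K] [Algebra k K], IsReduced (K ⊗[k] A)) [IsReduced C] :
    IsReduced (A ⊗[k] C) :=
  Groth.Agent.Helper7.isReduced_tensor_of_geometricallyReduced
    (geometricallyReduced_of_forall_field hA)

end Groth.Agent.Helper14.GeomRedBridge
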