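import Mathlib
import Groth.Agent.Lib.Helper21.StageColim1
import Groth.Agent.Lib.Helper29.ColimTensor
import Groth.Agent.Lib.Helper4.LimSm2

/-!
# Flatness descends to a stage of a cofiltered limit (EGA IV 11.2.6, scheme form)

The ring-level input is helper21's finite-stage flatness (`FS.exists_finset_forall_flat`); the
argument of `StageColim1` is redone here for directed systems whose transition maps are not assumed
functorial (the format of helper4's `TensorDescends`).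
-/

set_option autoImplicit false
set_option linter.style.haveILetI false
set_option linter.unusedSectionVars false

universe u

open TensorProduct Function

namespace Groth.Agent.Helper14.LimFlat

open Groth.Agent.Helper29.ColimTensor Groth.Agent.Helper21

section Sys

variable {ι : Type u} [Preorder ι] [IsDirected ι (· ≤ ·)] [Nonempty ι]
    {A₀ : Type u} [CommRing A₀] {G : ι → Type u} [∀ i, CommRing (G i)] [∀ i, Algebra A₀ (G i)]
    (f : ∀ i j, i ≤ j → (G i →ₐ[A₀] G j)) {A : Type u} [CommRing A] [Algebra A₀ A]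
    (g : ∀ i, G i →ₐ[A₀] A)
    (hg : ∀ i j (h : i ≤ j), (g j).comp (f i j h) = g i)
    (hsurj : ∀ a : A, ∃ i, ∃ x : G i, g i x = a)
    (hker : ∀ i (x : G i), g i x = 0 → ∃ j, ∃ h : i ≤ j, f i j h x = 0)

include hg hsurj in
/-- finitely many elements of the colimit lift to a common stage -/
theorem exists_stage_lift {κ : Type*} [Finite κ] (a : κ → A) :
    ∃ i, ∃ y : κ → G i, ∀ k, g i (y k) = a k := by
  choose i x hx using fun k => hsurj (a k)
  obtain ⟨i₀, hi₀⟩ := Finite.exists_le i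
  refine ⟨i₀, fun k => f (i k) i₀ (hi₀ k) (x k), fun k => ?_⟩
  rw [(Adm.of_f f hg (hi₀ k)).apply, hx]

include hg hsurj hker in
/-- A finitely generated subalgebra (over a Noetherian ring `𝔸`) of the colimit maps to some
stage, compatibly with the `𝔸`-algebra structures. -/
theorem exists_ringHom_of_fg {𝔸 : Type u} [CommRing 𝔸] [IsNoetherianRing 𝔸] [Algebra 𝔸 A₀]
    [∀ i, Algebra 𝔸 (G i)] [∀ i, IsScalarTower 𝔸 A₀ (G i)] [Algebra 𝔸 A] [IsScalarTower 𝔸 A₀ A]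
    (R' : Subalgebra 𝔸 A) (hR' : R'.FG) :
    ∃ j, ∃ φ : R' →+* G j, (∀ x : 𝔸, φ (algebraMap 𝔸 R' x) = algebraMap 𝔸 (G j) x) ∧
      ∀ r : R', g j (φ r) = (r : A) := by
  classical
  obtain ⟨t, ht⟩ := hR'
  let ψ : MvPolynomial t 𝔸 →ₐ[𝔸] A := MvPolynomial.aeval (fun k : t => (k : A))
  have hrange : ψ.range = R' := by
    rw [← ht, ← Algebra.adjoin_range_eq_range_aeval]
    congr 1
    ext x
    constructor
    · rintro ⟨⟨y, hy⟩, rfl⟩
      exact hy
    · intro hx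
      exact ⟨⟨x, hx⟩, rfl⟩
  have hmem : ∀ p, ψ p ∈ R' := fun p => by
    rw [← hrange]
    exact ⟨p, rfl⟩
  let ψ' : MvPolynomial t 𝔸 →ₐ[𝔸] R' := ψ.codRestrict R' hmem
  have hsurj' : Surjective ψ' := by
    intro r
    have hr : (r : A) ∈ ψ.range := by
      rw [hrange]
      exact r.2
    obtain ⟨p, hp⟩ := hr
    exact ⟨p, Subtype.ext hp⟩
  obtain ⟨i₀, y, hy⟩ := exists_stage_lift f g hg hsurj (fun k : t => (k : A))
  let ψ₀ : MvPolynomial t 𝔸 →ₐ[𝔸] G i₀ := MvPolynomial.aeval y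
  have h1 : ∀ p, g i₀ (ψ₀ p) = ψ p := by
    have h2 : ((g i₀).restrictScalars 𝔸).comp ψ₀ = ψ := by
      apply MvPolynomial.algHom_ext
      intro k
      simp only [AlgHom.comp_apply, ψ₀, ψ, MvPolynomial.aeval_X, AlgHom.coe_restrictScalars', hy]
    intro p
    exact AlgHom.congr_fun h2 p
  obtain ⟨F, hF⟩ := IsNoetherian.noetherian (RingHom.ker ψ)
  obtain ⟨j, θ, hθ, Hj⟩ := kill_finset f hg hker i₀ (F.image ψ₀) (by
    intro x hx
    obtain ⟨p, hp, rfl⟩ := Finset.mem_image.mp hx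
    rw [h1]
    have hpk : p ∈ RingHom.ker ψ := by
      rw [← hF]
      exact Submodule.subset_span hp
    exact hpk)
  let ψj : MvPolynomial t 𝔸 →+* G j := (θ : G i₀ →+* G j).comp (ψ₀ : MvPolynomial t 𝔸 →+* G i₀)
  have hker' : RingHom.ker (ψ' : MvPolynomial t 𝔸 →+* R') ≤ RingHom.ker ψj := by
    intro p hp
    have hp' : p ∈ RingHom.ker ψ := by
      rw [RingHom.mem_ker] at hp ⊢
      exact congrArg Subtype.val hp
    rw [← hF] at hp'
    have hle : Submodule.span (MvPolynomial t 𝔸) (F : Set (MvPolynomial t 𝔸)) ≤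
        RingHom.ker ψj := by
      rw [Submodule.span_le]
      intro q hq
      rw [SetLike.mem_coe, RingHom.mem_ker]
      exact Hj (ψ₀ q) (Finset.mem_image_of_mem _ hq)
    exact hle hp'
  refine ⟨j, RingHom.liftOfSurjective (ψ' : MvPolynomial t 𝔸 →+* R') hsurj' ⟨ψj, hker'⟩,
    fun x => ?_, fun r => ?_⟩
  · have e1 : algebraMap 𝔸 R' x =
        (ψ' : MvPolynomial t 𝔸 →+* R') (algebraMap 𝔸 (MvPolynomial t 𝔸) x) :=
      (ψ'.commutes x).symm
    rw [e1, RingHom.liftOfSurjective_comp_apply]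
    change θ (ψ₀ (algebraMap 𝔸 (MvPolynomial t 𝔸) x)) = _
    rw [ψ₀.commutes, IsScalarTower.algebraMap_apply 𝔸 A₀ (G i₀), θ.commutes,
      ← IsScalarTower.algebraMap_apply 𝔸 A₀ (G j)]
  · obtain ⟨p, rfl⟩ := hsurj' r
    have e2 : (RingHom.liftOfSurjective (ψ' : MvPolynomial t 𝔸 →+* R') hsurj' ⟨ψj, hker'⟩)
        (ψ' p) = ψj p :=
      RingHom.liftOfSurjective_comp_apply (ψ' : MvPolynomial t 𝔸 →+* R') hsurj' ⟨ψj, hker'⟩ p
    rw [e2]
    change g j (θ (ψ₀ p)) = ψ p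
    rw [hθ.apply, h1]

end Sys

section Main

variable {𝔸 A₀ S₁ B₀ : Type u} [CommRing 𝔸] [CommRing A₀] [CommRing S₁] [CommRing B₀]
  [Algebra 𝔸 A₀] [Algebra 𝔸 S₁] [Algebra A₀ B₀] [Algebra S₁ B₀] [Algebra 𝔸 B₀]
  [IsScalarTower 𝔸 A₀ B₀] [IsScalarTower 𝔸 S₁ B₀] [Algebra.IsPushout 𝔸 A₀ S₁ B₀]
  [IsNoetherianRing 𝔸] [Algebra.FiniteType 𝔸 S₁]
  {M₁ : Type u} [AddCommGroup M₁] [Module S₁ M₁] [Module.Finite S₁ M₁]
  {M₀ : Type u} [AddCommGroup M₀] [Module B₀ M₀] [Module A₀ M₀] [IsScalarTower A₀ B₀ M₀]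
  [Module S₁ M₀] [IsScalarTower S₁ B₀ M₀]

variable (𝔸) in
include 𝔸 in
/-- stage flatness, given a Noetherian model (non-functorial directed systems) -/
theorem exists_stage_flat (h : M₁ →ₗ[S₁] M₀) (hh : IsBaseChange B₀ h)
    {ι : Type u} [Preorder ι] [IsDirected ι (· ≤ ·)] [Nonempty ι]
    (G : ι → Type u) [∀ i, CommRing (G i)] [∀ i, Algebra A₀ (G i)]
    (f : ∀ i j, i ≤ j → (G i →ₐ[A₀] G j)) (A : Type u) [CommRing A] [Algebra A₀ A]
    (g : ∀ i, G i →ₐ[A₀] A)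
    (hg : ∀ i j (h : i ≤ j), (g j).comp (f i j h) = g i)
    (hsurj : ∀ a : A, ∃ i, ∃ x : G i, g i x = a)
    (hker : ∀ i (x : G i), g i x = 0 → ∃ j, ∃ h : i ≤ j, f i j h x = 0)
    [Module.Flat A (A ⊗[A₀] M₀)] : ∃ i, Module.Flat (G i) (G i ⊗[A₀] M₀) := by
  classical
  letI : Module 𝔸 M₁ := Module.compHom M₁ (algebraMap 𝔸 S₁)
  haveI : IsScalarTower 𝔸 S₁ M₁ := IsScalarTower.of_algebraMap_smul fun _ _ => rfl
  letI : ∀ i, Algebra 𝔸 (G i) := fun i =>
    ((algebraMap A₀ (G i)).comp (algebraMap 𝔸 A₀)).toAlgebra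
  haveI : ∀ i, IsScalarTower 𝔸 A₀ (G i) := fun i => IsScalarTower.of_algebraMap_eq fun _ => rfl
  letI : Algebra 𝔸 A := ((algebraMap A₀ A).comp (algebraMap 𝔸 A₀)).toAlgebra
  haveI : IsScalarTower 𝔸 A₀ A := IsScalarTower.of_algebraMap_eq fun _ => rfl
  let e : A₀ ⊗[𝔸] M₁ ≃ₗ[A₀] M₀ := FS.baseChangeEquiv h hh
  haveI : Module.Flat A (A ⊗[𝔸] M₁) := (StageColim.flat_model_iff (X := A) e).mp inferInstance
  obtain ⟨T, hT⟩ := FS.exists_finset_forall_flat 𝔸 S₁ M₁ A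
  let R' : Subalgebra 𝔸 A := Algebra.adjoin 𝔸 (T : Set A)
  have hfg : R'.FG := Subalgebra.fg_adjoin_finset T
  haveI : Module.Flat R' (R' ⊗[𝔸] M₁) := hT R' Algebra.subset_adjoin hfg
  obtain ⟨j, φ, hφ, -⟩ := exists_ringHom_of_fg f g hg hsurj hker R' hfg
  letI : Algebra R' (G j) := φ.toAlgebra
  haveI : IsScalarTower 𝔸 R' (G j) := IsScalarTower.of_algebraMap_eq fun x => (hφ x).symm
  haveI : Module.Flat (G j) (G j ⊗[𝔸] M₁) :=
    Module.Flat.of_linearEquiv (AlgebraTensorModule.cancelBaseChange 𝔸 R' (G j) (G j) M₁).symm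
  exact ⟨j, (StageColim.flat_model_iff (X := G j) e).mpr inferInstance⟩

end Main

/-- **EGA IV 11.2.6 (ring form)**, for directed systems with not necessarily functorial
transition maps. -/
theorem flat_descends {A₀ : Type u} [CommRing A₀]
    {ι : Type u} [Preorder ι] [IsDirected ι (· ≤ ·)] [Nonempty ι]
    (G : ι → Type u) [∀ i, CommRing (G i)] [∀ i, Algebra A₀ (G i)]
    (f : ∀ i j, i ≤ j → (G i →ₐ[A₀] G j)) (A : Type u) [CommRing A] [Algebra A₀ A]
    (g : ∀ i, G i →ₐ[A₀] A)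
    (hg : ∀ i j (h : i ≤ j), (g j).comp (f i j h) = g i)
    (hsurj : ∀ a : A, ∃ i, ∃ x : G i, g i x = a)
    (hker : ∀ i (x : G i), g i x = 0 → ∃ j, ∃ h : i ≤ j, f i j h x = 0)
    {B₀ : Type u} [CommRing B₀] [Algebra A₀ B₀] [Algebra.FinitePresentation A₀ B₀]
    (M₀ : Type u) [AddCommGroup M₀] [Module B₀ M₀] [Module A₀ M₀] [IsScalarTower A₀ B₀ M₀]
    [Module.FinitePresentation B₀ M₀] (hflat : Module.Flat A (A ⊗[A₀] M₀)) :
    ∃ i : ι, Module.Flat (G i) (G i ⊗[A₀] M₀) := by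
  classical
  haveI := hflat
  let P := Algebra.Presentation.ofFinitePresentation A₀ B₀
  obtain ⟨n, m, f', gg, hf, hfg⟩ := Module.FinitePresentation.exists_fin' B₀ M₀
  have hsurj' : ∀ (k : Fin m) (l : Fin n), ∃ w : MvPolynomial _ A₀,
      MvPolynomial.aeval P.val w = gg (Pi.single k 1) l := fun k l => by
    obtain ⟨w, hw⟩ := P.algebraMap_surjective (gg (Pi.single k 1) l)
    exact ⟨w, by rw [← hw, Algebra.Generators.algebraMap_apply]⟩
  choose w hw using hsurj'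
  let s : Set A₀ := P.coeffs ∪ ⋃ k, ⋃ l, ((w k l).coeffs : Set A₀)
  have hsfin : s.Finite := by
    refine Set.Finite.union P.finite_coeffs ?_
    exact Set.finite_iUnion fun k => Set.finite_iUnion fun l => Finset.finite_toSet _
  let 𝔸 : Subalgebra ℤ A₀ := Algebra.adjoin ℤ s
  haveI : P.HasCoeffs 𝔸 := ⟨fun x hx => ⟨⟨x, Algebra.subset_adjoin (Or.inl hx)⟩, rfl⟩⟩
  haveI : Algebra.FiniteType ℤ 𝔸 := Algebra.FiniteType.adjoin_of_finite hsfin
  haveI : IsNoetherianRing 𝔸 := Algebra.FiniteType.isNoetherianRing ℤ 𝔸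
  let S₁ := P.ModelOfHasCoeffs 𝔸
  letI : Algebra S₁ B₀ := FS.modelAlgebra P 𝔸
  haveI : IsScalarTower 𝔸 S₁ B₀ := FS.model_isScalarTower P 𝔸
  haveI : Algebra.IsPushout 𝔸 A₀ S₁ B₀ := FS.model_isPushout P 𝔸
  have hw' : ∀ k l, ∃ w' : MvPolynomial _ 𝔸, MvPolynomial.map (algebraMap 𝔸 A₀) w' = w k l := by
    intro k l
    have : w k l ∈ Set.range (MvPolynomial.map (algebraMap 𝔸 A₀)) := by
      rw [MvPolynomial.mem_range_map_iff_coeffs_subset]
      intro x hx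
      exact ⟨⟨x, Algebra.subset_adjoin (Or.inr (Set.mem_iUnion₂.mpr ⟨k, l, hx⟩))⟩, rfl⟩
    exact this
  choose w' hw' using hw'
  let c' : Fin m → Fin n → S₁ := fun k l => Ideal.Quotient.mk _ (w' k l)
  letI : Module S₁ M₀ := Module.compHom M₀ (algebraMap S₁ B₀)
  haveI : IsScalarTower S₁ B₀ M₀ := IsScalarTower.of_algebraMap_smul fun _ _ => rfl
  have hc : ∀ k l, algebraMap S₁ B₀ (c' k l) = gg (Pi.single k 1) l := by
    intro k l
    rw [FS.modelAlgebra_mk, ← hw, ← hw', MvPolynomial.aeval_map_algebraMap]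
  obtain ⟨h, hh⟩ := FS.exists_isBaseChange_cokerModel c' f' gg hf hfg hc
  haveI : Module.Finite S₁ (FS.CokerModel c') := Module.Finite.quotient S₁ _
  exact exists_stage_flat 𝔸 h hh G f A g hg hsurj hker

/-- flatness descends to a stage, in the format of helper4's limit framework -/
theorem tensorDescends_flat : Groth.Agent.Helper4.LimSmRing.TensorDescends @RingHom.Flat := by
  intro ι _ _ _ A₀ _ G _ _ f A _ _ g hg hsurj hker C₀ _ _ _ h
  rw [RingHom.flat_algebraMap_iff] at h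
  obtain ⟨i, hi⟩ := flat_descends G f A g hg hsurj hker (B₀ := C₀) C₀ h
  exact ⟨i, (RingHom.flat_algebraMap_iff).mpr hi⟩

open AlgebraicGeometry CategoryTheory in
theorem nice_flat : Groth.Agent.Helper4.LimSm.Nice @Flat.{u} :=
  ⟨inferInstance, inferInstance, fun f _ => inferInstance, inferInstance⟩

end Groth.Agent.Helper14.LimFlat
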