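import Mathlib
import Groth.Agent.Lib.Helper14.MaxPoints
import Groth.Agent.Lib.Helper14.EquidimAt
import Groth.Agent.Lib.Helper16.Sch.FTDim1
import Groth.Agent.Lib.Helper8.JacDim

/-!
# Dimension of schemes of finite type over a field: dense opens
-/

set_option autoImplicit false
universe u
open AlgebraicGeometry CategoryTheory CategoryTheory.Limits TopologicalSpace

namespace Groth.Agent.Helper14.DimFT

/-- the dimension of a quasi-sober space is the supremum of the dimensions of closures of points. -/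
theorem dim_le_iSup_closure (T : Type u) [TopologicalSpace T] [QuasiSober T] :
    topologicalKrullDim T ≤ ⨆ t : T, topologicalKrullDim ↥(closure ({t} : Set T)) := by
  rw [topologicalKrullDim, Order.krullDim_eq_iSup_height]
  refine iSup_le fun Z => ?_
  obtain ⟨t, ht⟩ := QuasiSober.sober Z.isIrreducible Z.isClosed
  have h1 := Groth.Agent.Helper8.JacDim.height_le_dim_of_subset (Z : Set T) Z le_rfl
  have h2 : (Z : Set T) = closure {t} := ht.def.symm
  rw [h2] at h1
  exact h1.trans (le_iSup (fun t : T => topologicalKrullDim ↥(closure ({t} : Set T))) t)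

variable {X : Scheme.{u}}

/-- maximal points lie in every dense open. -/
theorem maximal_mem_of_dense [IsLocallyNoetherian X] (U : X.Opens) (hU : Dense (U : Set X))
    (ξ : X) (hξ : ∀ ξ' : X, ξ' ⤳ ξ → ξ' = ξ) : ξ ∈ U := by
  obtain ⟨W, hξW, hW⟩ := MaxPoints.exists_open_maximal_specializes ξ
  obtain ⟨y, hyW, hyU⟩ := hU.inter_open_nonempty W.1 W.2 ⟨ξ, hξW⟩
  obtain ⟨ξ', hξ'max, hξ'y⟩ := MaxPoints.exists_maximal_specializes y
  have h1 : ξ' ∈ W := hξ'y.mem_open W.2 hyW
  have h2 : ξ' ∈ U := hξ'y.mem_open U.2 hyU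
  have h3 : ξ' ⤳ ξ := hW ξ' h1 hξ'max
  rw [← hξ ξ' h3]
  exact h2

open Groth.Agent.Helper16 in
/-- a dense open subscheme of a scheme locally of finite type over a field has the same dimension. -/
theorem dim_opens_eq_of_dense (k : Type u) [Field k] (f : X ⟶ Spec (CommRingCat.of k))
    [LocallyOfFiniteType f] (U : X.Opens) (hU : Dense (U : Set X)) :
    topologicalKrullDim ↥U = topologicalKrullDim X := by
  haveI : IsLocallyNoetherian X := LocallyOfFiniteType.isLocallyNoetherian f
  apply le_antisymm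
  · exact topologicalKrullDim_subspace_le X (U : Set X)
  · refine (dim_le_iSup_closure X).trans (iSup_le fun x => ?_)
    obtain ⟨ξ, hξmax, hξx⟩ := MaxPoints.exists_maximal_specializes x
    have hξU := maximal_mem_of_dense U hU ξ hξmax
    have hsub : closure ({x} : Set X) ⊆ closure ({ξ} : Set X) :=
      closure_minimal (Set.singleton_subset_iff.mpr hξx.mem_closure) isClosed_closure
    have h1 : topologicalKrullDim ↥(closure ({x} : Set X)) ≤
        topologicalKrullDim ↥(closure ({ξ} : Set X)) :=
      (Topology.IsEmbedding.inclusion hsub).isInducing.topologicalKrullDim_le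
    rw [FTDim.dim_closure k f ξ] at h1
    refine h1.trans ?_
    let ξU : (U : Scheme.{u}) := ⟨ξ, hξU⟩
    have h2 : FTDim.td (U.ι ≫ f) ξU = FTDim.td f ξ := by
      rw [FTDim.td_comp U.ι f ξU]
      have : FTDim.td U.ι ξU = 0 := by
        apply FTDim.td_eq
        rw [FibreComp.trdeg_of_surjectiveOnStalks U.ι ξU]
        rfl
      rw [this, add_zero]
      rfl
    have h3 := FTDim.dim_closure k (U.ι ≫ f) ξU
    rw [h2] at h3
    rw [← h3]
    exact topologicalKrullDim_subspace_le (U : Scheme.{u}) (closure ({ξU} : Set (U : Scheme.{u})))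

/-- a Noetherian scheme has a dense affine open. -/
theorem exists_dense_affineOpen (X : Scheme.{u}) [IsNoetherian X] :
    ∃ U : X.Opens, IsAffineOpen U ∧ Dense (U : Set X) := by
  have hN : NoetherianSpace X := inferInstance
  have hwf : WellFounded ((· > ·) : X.Opens → X.Opens → Prop) := hN.wf
  obtain ⟨U, hU, hmax⟩ := hwf.has_min {U : X.Opens | IsAffineOpen U} ⟨⊥, isAffineOpen_bot X⟩
  refine ⟨U, hU, ?_⟩
  rw [dense_iff_inter_open]
  intro W hW hWne
  by_contra hcon
  rw [Set.not_nonempty_iff_eq_empty] at hcon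
  obtain ⟨x, hxW⟩ := hWne
  obtain ⟨V, hV, hxV, hVW⟩ := exists_isAffineOpen_mem_and_subset (x := x) (U := ⟨W, hW⟩) hxW
  have hdisj : Disjoint U V := by
    rw [← Opens.coe_disjoint, Set.disjoint_iff_inter_eq_empty]
    apply Set.eq_empty_of_subset_empty
    rw [← hcon]
    intro z hz
    exact ⟨hVW hz.2, hz.1⟩
  have hUV : IsAffineOpen (U ⊔ V) := hU.sup_of_disjoint hV hdisj
  have hlt : U < U ⊔ V := by
    refine lt_of_le_of_ne le_sup_left ?_
    intro h
    have hxU : x ∈ U := by rw [h]; exact Or.inr hxV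
    have : x ∈ W ∩ (U : Set X) := ⟨hxW, hxU⟩
    rw [hcon] at this
    exact this
  exact hmax (U ⊔ V) hUV hlt

end Groth.Agent.Helper14.DimFT
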