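import Mathlib

/-!
# Weil restriction along a finite free algebra: the algebra of the representing ring

`A → B` free with finite basis `e`, `C` an `A`-algebra.  The ring `R = A[x_{c,k}]/(relations)`
has the property: for every "free extension" `(D, D', φ, ιB)` (a ring `D'` over `D` and `B` in
which every element has unique coordinates `Σ φ(d_k) ιB(e_k)`), ring maps `C → D'` over `B ← A`
correspond to ring maps `R → D` over `A`.
-/

set_option autoImplicit false
set_option linter.style.haveILetI false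
set_option linter.unusedSectionVars false
set_option linter.unusedVariables false
set_option maxRecDepth 8000

universe u

open CategoryTheory

namespace Groth.Agent.Helper14.WeilAff

variable {A B C : Type u} [CommRing A] [CommRing B] [CommRing C] [Algebra A B] [Algebra A C]
  {ι : Type u} [Fintype ι] (e : Module.Basis ι A B)

/-- structure constants -/
noncomputable def gam (k l m : ι) : A := e.repr (e k * e l) m

/-- coordinates of `1` -/
noncomputable def eta (m : ι) : A := e.repr 1 m

theorem mul_eq (k l : ι) : e k * e l = ∑ m, gam e k l m • e m :=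
  (e.sum_repr (e k * e l)).symm

theorem one_eq : (1 : B) = ∑ m, eta e m • e m := (e.sum_repr 1).symm

variable (C)

/-- the relations -/
inductive Rel : MvPolynomial (C × ι) A → Prop
  | add (c c' : C) (m : ι) :
      Rel (MvPolynomial.X (c + c', m) - MvPolynomial.X (c, m) - MvPolynomial.X (c', m))
  | mul (c c' : C) (m : ι) :
      Rel (MvPolynomial.X (c * c', m) - ∑ k, ∑ l,
        MvPolynomial.C (gam e k l m) * MvPolynomial.X (c, k) * MvPolynomial.X (c', l))
  | alg (a : A) (m : ι) :
      Rel (MvPolynomial.X (algebraMap A C a, m) - MvPolynomial.C (a * eta e m))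

/-- the representing ring -/
abbrev WR : Type u := MvPolynomial (C × ι) A ⧸ Ideal.span {p | Rel C e p}

variable {C}

/-- the generators -/
noncomputable def xb (c : C) (k : ι) : WR C e :=
  Ideal.Quotient.mk _ (MvPolynomial.X (c, k))

theorem mk_C (a : A) :
    (Ideal.Quotient.mk (Ideal.span {p | Rel C e p}) (MvPolynomial.C a) : WR C e) =
      algebraMap A (WR C e) a := rfl

theorem xb_add (c c' : C) (m : ι) : xb e (c + c') m = xb e c m + xb e c' m := by
  have h : Ideal.Quotient.mk (Ideal.span {p | Rel C e p})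
      (MvPolynomial.X (c + c', m) - MvPolynomial.X (c, m) - MvPolynomial.X (c', m)) = 0 :=
    Ideal.Quotient.eq_zero_iff_mem.mpr (Ideal.subset_span (Rel.add c c' m))
  rw [map_sub, map_sub, sub_sub, sub_eq_zero] at h
  exact h

theorem xb_mul (c c' : C) (m : ι) : xb e (c * c') m =
    ∑ k, ∑ l, algebraMap A (WR C e) (gam e k l m) * xb e c k * xb e c' l := by
  have h : Ideal.Quotient.mk (Ideal.span {p | Rel C e p})
      (MvPolynomial.X (c * c', m) - ∑ k, ∑ l,
        MvPolynomial.C (gam e k l m) * MvPolynomial.X (c, k) * MvPolynomial.X (c', l)) = 0 :=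
    Ideal.Quotient.eq_zero_iff_mem.mpr (Ideal.subset_span (Rel.mul c c' m))
  rw [map_sub, sub_eq_zero] at h
  rw [xb, h, map_sum]
  refine Finset.sum_congr rfl fun k _ => ?_
  rw [map_sum]
  refine Finset.sum_congr rfl fun l _ => ?_
  rw [map_mul, map_mul]
  rfl

theorem xb_alg (a : A) (m : ι) :
    xb e (algebraMap A C a) m = algebraMap A (WR C e) (a * eta e m) := by
  have h : Ideal.Quotient.mk (Ideal.span {p | Rel C e p})
      (MvPolynomial.X (algebraMap A C a, m) - MvPolynomial.C (a * eta e m)) = 0 :=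
    Ideal.Quotient.eq_zero_iff_mem.mpr (Ideal.subset_span (Rel.alg a m))
  rw [map_sub, sub_eq_zero] at h
  exact h

/-- ring maps out of `WR` are determined by their values on `A` and on the generators -/
theorem wr_hom_ext {D : Type u} [CommRing D] (ρ ρ' : WR C e →+* D)
    (hA : ρ.comp (algebraMap A (WR C e)) = ρ'.comp (algebraMap A (WR C e)))
    (hx : ∀ c k, ρ (xb e c k) = ρ' (xb e c k)) : ρ = ρ' := by
  apply Ideal.Quotient.ringHom_ext
  apply MvPolynomial.ringHom_ext
  · intro a
    exact congrArg (fun f : A →+* D => f a) hA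
  · rintro ⟨c, k⟩
    exact hx c k

section FreeExt

variable {D D' : Type u} [CommRing D] [CommRing D'] (φ : D →+* D') (ιB : B →+* D') (σ : A →+* D)
  (hσ : φ.comp σ = ιB.comp (algebraMap A B))

include hσ in
theorem iB_smul (a : A) (b : B) : ιB (a • b) = φ (σ a) * ιB b := by
  rw [Algebra.smul_def, map_mul]
  congr 1
  exact (congrArg (fun f : A →+* D' => f a) hσ).symm

include hσ in
theorem expand (u v : ι → D) :
    (∑ k, φ (u k) * ιB (e k)) * (∑ l, φ (v l) * ιB (e l)) =
      ∑ m, φ (∑ k, ∑ l, σ (gam e k l m) * u k * v l) * ιB (e m) := by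
  rw [Finset.sum_mul_sum]
  have h1 : ∀ k l, (φ (u k) * ιB (e k)) * (φ (v l) * ιB (e l)) =
      ∑ m, φ (σ (gam e k l m) * u k * v l) * ιB (e m) := by
    intro k l
    have h2 : (φ (u k) * ιB (e k)) * (φ (v l) * ιB (e l)) =
        φ (u k) * φ (v l) * ιB (e k * e l) := by
      rw [map_mul]; ring
    rw [h2, mul_eq e k l, map_sum, Finset.mul_sum]
    refine Finset.sum_congr rfl fun m _ => ?_
    rw [iB_smul φ ιB σ hσ, map_mul, map_mul]
    ring
  simp_rw [h1]
  rw [Finset.sum_congr rfl (fun k _ => Finset.sum_comm), Finset.sum_comm]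
  refine Finset.sum_congr rfl fun m _ => ?_
  rw [map_sum, Finset.sum_mul]
  refine Finset.sum_congr rfl fun k _ => ?_
  rw [map_sum, Finset.sum_mul]

include hσ in
theorem one_expand : (1 : D') = ∑ m, φ (σ (eta e m)) * ιB (e m) := by
  have h := congrArg ιB (one_eq e)
  rw [map_one, map_sum] at h
  rw [h]
  refine Finset.sum_congr rfl fun m _ => ?_
  exact iB_smul φ ιB σ hσ _ _

variable (hcoord : ∀ x : D', ∃! d : ι → D, x = ∑ k, φ (d k) * ιB (e k))

include hcoord in
theorem coord_inj (d d' : ι → D)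
    (h : ∑ k, φ (d k) * ιB (e k) = ∑ k, φ (d' k) * ιB (e k)) : d = d' := by
  obtain ⟨d₀, -, hu⟩ := hcoord (∑ k, φ (d k) * ιB (e k))
  rw [hu d rfl, hu d' h]

include hσ in
/-- (Alg1) a ring map `ρ : R → D` over `A` gives a ring map `C → D'` over `B ← A`. -/
theorem exists_beta (ρ : WR C e →+* D) (hρ : ρ.comp (algebraMap A (WR C e)) = σ) :
    ∃ β : C →+* D', (∀ c, β c = ∑ k, φ (ρ (xb e c k)) * ιB (e k)) ∧
      β.comp (algebraMap A C) = ιB.comp (algebraMap A B) := by
  have hρa : ∀ a, ρ (algebraMap A (WR C e) a) = σ a := fun a =>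
    congrArg (fun f : A →+* D => f a) hρ
  have halg : ∀ a : A, (∑ k, φ (ρ (xb e (algebraMap A C a) k)) * ιB (e k)) =
      ιB (algebraMap A B a) := by
    intro a
    have h1 : algebraMap A B a = ∑ m, (a * eta e m) • e m := by
      rw [Algebra.algebraMap_eq_smul_one, one_eq e, Finset.smul_sum]
      refine Finset.sum_congr rfl fun m _ => ?_
      rw [smul_smul]
    rw [h1, map_sum]
    refine Finset.sum_congr rfl fun m _ => ?_
    rw [xb_alg, hρa, iB_smul φ ιB σ hσ]
  have hone : (∑ k, φ (ρ (xb e (1 : C) k)) * ιB (e k)) = 1 := by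
    have := halg 1
    rwa [map_one, map_one, map_one] at this
  have hadd : ∀ c c' : C, (∑ k, φ (ρ (xb e (c + c') k)) * ιB (e k)) =
      (∑ k, φ (ρ (xb e c k)) * ιB (e k)) + ∑ k, φ (ρ (xb e c' k)) * ιB (e k) := by
    intro c c'
    rw [← Finset.sum_add_distrib]
    refine Finset.sum_congr rfl fun k _ => ?_
    rw [xb_add, map_add, map_add, add_mul]
  have hzero : (∑ k, φ (ρ (xb e (0 : C) k)) * ιB (e k)) = 0 := by
    have := hadd 0 0
    rw [add_zero] at this
    exact left_eq_add.mp this
  have hmul : ∀ c c' : C, (∑ k, φ (ρ (xb e (c * c') k)) * ιB (e k)) =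
      (∑ k, φ (ρ (xb e c k)) * ιB (e k)) * ∑ k, φ (ρ (xb e c' k)) * ιB (e k) := by
    intro c c'
    rw [expand e φ ιB σ hσ]
    refine Finset.sum_congr rfl fun m _ => ?_
    congr 2
    rw [xb_mul, map_sum]
    refine Finset.sum_congr rfl fun k _ => ?_
    rw [map_sum]
    refine Finset.sum_congr rfl fun l _ => ?_
    rw [map_mul, map_mul, hρa]
  refine ⟨{ toFun := fun c => ∑ k, φ (ρ (xb e c k)) * ιB (e k)
            map_one' := hone
            map_mul' := hmul
            map_zero' := hzero
            map_add' := hadd }, fun c => rfl, ?_⟩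
  refine RingHom.ext fun a => ?_
  exact halg a

include hσ hcoord in
/-- (Alg2) a ring map `C → D'` over `B ← A` comes from a unique ring map `R → D` over `A`. -/
theorem existsUnique_rho (β : C →+* D')
    (hβ : β.comp (algebraMap A C) = ιB.comp (algebraMap A B)) :
    ∃! ρ : WR C e →+* D, ρ.comp (algebraMap A (WR C e)) = σ ∧
      ∀ c, β c = ∑ k, φ (ρ (xb e c k)) * ιB (e k) := by
  choose d hd hdu using fun c => hcoord (β c)
  have hβa : ∀ a, β (algebraMap A C a) = ιB (algebraMap A B a) := fun a =>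
    congrArg (fun f : A →+* D' => f a) hβ
  have hdadd : ∀ c c' m, d (c + c') m = d c m + d c' m := by
    intro c c' m
    have h1 : d (c + c') = fun m => d c m + d c' m := by
      apply coord_inj e φ ιB hcoord
      rw [← hd, map_add, hd c, hd c', ← Finset.sum_add_distrib]
      refine Finset.sum_congr rfl fun k _ => ?_
      rw [map_add, add_mul]
    exact congrFun h1 m
  have hdmul : ∀ c c' m, d (c * c') m = ∑ k, ∑ l, σ (gam e k l m) * d c k * d c' l := by
    intro c c' m
    have h1 : d (c * c') = fun m => ∑ k, ∑ l, σ (gam e k l m) * d c k * d c' l := by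
      apply coord_inj e φ ιB hcoord
      rw [← hd, map_mul, hd c, hd c', expand e φ ιB σ hσ]
    exact congrFun h1 m
  have hdalg : ∀ a m, d (algebraMap A C a) m = σ (a * eta e m) := by
    intro a m
    have h1 : d (algebraMap A C a) = fun m => σ (a * eta e m) := by
      apply coord_inj e φ ιB hcoord
      rw [← hd, hβa]
      have h2 : algebraMap A B a = ∑ m, (a * eta e m) • e m := by
        rw [Algebra.algebraMap_eq_smul_one, one_eq e, Finset.smul_sum]
        refine Finset.sum_congr rfl fun m _ => ?_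
        rw [smul_smul]
      rw [h2, map_sum]
      refine Finset.sum_congr rfl fun m _ => ?_
      rw [iB_smul φ ιB σ hσ]
    exact congrFun h1 m
  let ρ₀ : MvPolynomial (C × ι) A →+* D := MvPolynomial.eval₂Hom σ (fun p => d p.1 p.2)
  have hker : ∀ p ∈ Ideal.span {p | Rel C e p}, ρ₀ p = 0 := by
    intro p hp
    have hle : Ideal.span {p | Rel C e p} ≤ RingHom.ker ρ₀ := by
      rw [Ideal.span_le]
      rintro q (⟨c, c', m⟩ | ⟨c, c', m⟩ | ⟨a, m⟩)
      · show ρ₀ _ = 0
        simp only [ρ₀, map_sub, MvPolynomial.eval₂Hom_X']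
        rw [hdadd]; ring
      · show ρ₀ _ = 0
        simp only [ρ₀, map_sub, map_sum, map_mul, MvPolynomial.eval₂Hom_X',
          MvPolynomial.eval₂Hom_C]
        rw [hdmul, sub_self]
      · show ρ₀ _ = 0
        simp only [ρ₀, map_sub, MvPolynomial.eval₂Hom_X', MvPolynomial.eval₂Hom_C]
        rw [hdalg, sub_self]
    exact hle hp
  refine ⟨Ideal.Quotient.lift _ ρ₀ hker, ⟨?_, ?_⟩, ?_⟩
  · refine RingHom.ext fun a => ?_
    show Ideal.Quotient.lift _ ρ₀ hker (Ideal.Quotient.mk _ (MvPolynomial.C a)) = σ a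
    rw [Ideal.Quotient.lift_mk]
    exact MvPolynomial.eval₂Hom_C _ _ _
  · intro c
    rw [hd c]
    refine Finset.sum_congr rfl fun k _ => ?_
    congr 2
    show d c k = Ideal.Quotient.lift _ ρ₀ hker (Ideal.Quotient.mk _ (MvPolynomial.X (c, k)))
    rw [Ideal.Quotient.lift_mk]
    exact (MvPolynomial.eval₂Hom_X' σ (fun p : C × ι => d p.1 p.2) (c, k)).symm
  · rintro ρ' ⟨hρ'1, hρ'2⟩
    apply wr_hom_ext e
    · rw [hρ'1]
      refine RingHom.ext fun a => ?_
      show σ a = Ideal.Quotient.lift _ ρ₀ hker (Ideal.Quotient.mk _ (MvPolynomial.C a))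
      rw [Ideal.Quotient.lift_mk]
      exact (MvPolynomial.eval₂Hom_C _ _ _).symm
    · intro c k
      have h1 : (fun k => ρ' (xb e c k)) = d c := by
        apply coord_inj e φ ιB hcoord
        rw [← hρ'2, hd c]
      rw [congrFun h1 k]
      show d c k = Ideal.Quotient.lift _ ρ₀ hker (Ideal.Quotient.mk _ (MvPolynomial.X (c, k)))
      rw [Ideal.Quotient.lift_mk]
      exact (MvPolynomial.eval₂Hom_X' σ (fun p : C × ι => d p.1 p.2) (c, k)).symm

end FreeExt

end Groth.Agent.Helper14.WeilAff
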