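import Mathlib
import Groth.Prelude.Def_CAlgX
import Groth.Agent.Lib.Helper14.AdicComplQuot

/-!
# Adic formal smoothness: replacing the base by its completion
-/

set_option autoImplicit false
universe u

namespace Groth.Agent.Helper14.AdicFSBase

open Groth.Agent.Helper14.AdicComplQuot

variable {R : Type u} [CommRing R] (𝔪 : Ideal R)

/-- Two ring maps out of an adic completion which agree on `R` and kill a power of the ideal
agree. -/
theorem ringHom_ext (h𝔪 : 𝔪.FG) {B : Type*} [CommRing B] (f g : AdicCompletion 𝔪 R →+* B)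
    (N : ℕ) (hf : ∀ x ∈ (𝔪.map (algebraMap R (AdicCompletion 𝔪 R))) ^ N, f x = 0)
    (hg : ∀ x ∈ (𝔪.map (algebraMap R (AdicCompletion 𝔪 R))) ^ N, g x = 0)
    (hfg : ∀ r : R, f (algebraMap R (AdicCompletion 𝔪 R) r) =
      g (algebraMap R (AdicCompletion 𝔪 R) r)) : f = g := by
  ext x
  obtain ⟨r, hr⟩ := Ideal.Quotient.mk_surjective (AdicCompletion.evalₐ 𝔪 N x)
  have hmem := algebraMap_sub_mem 𝔪 h𝔪 N x r hr
  have h1 := hf _ hmem
  have h2 := hg _ hmem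
  rw [map_sub, sub_eq_zero] at h1 h2
  rw [h1, h2, hfg]

theorem sq_zero_aux {A : Type*} [CommRing A] (J : Ideal A) (hJ : J ^ 2 = ⊥) {B : Type*}
    [CommRing B] (I : Ideal B) (f : B →+* A) (k : ℕ) (h : ∀ x ∈ I ^ k, f x ∈ J) :
    ∀ x ∈ I ^ (k + k), f x = 0 := by
  intro x hx
  rw [pow_add] at hx
  have h1 : f x ∈ J * J := by
    refine Submodule.mul_induction_on hx ?_ ?_
    · intro a ha b hb
      rw [map_mul]
      exact Ideal.mul_mem_mul (h a ha) (h b hb)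
    · intro a b ha hb
      rw [map_add]
      exact Ideal.add_mem _ ha hb
  rw [← pow_two, hJ] at h1
  exact h1

variable (T : Type u) [CommRing T] [Algebra R T] [Algebra (AdicCompletion 𝔪 R) T]
  [IsScalarTower R (AdicCompletion 𝔪 R) T] (𝔮 : Ideal T)

theorem map_pow_le (c : ℕ) (hc : (𝔪 ^ c).map (algebraMap R T) ≤ 𝔮) (k : ℕ) :
    ((𝔪.map (algebraMap R (AdicCompletion 𝔪 R))) ^ (c * k)).map
      (algebraMap (AdicCompletion 𝔪 R) T) ≤ 𝔮 ^ k := by
  rw [pow_mul, Ideal.map_pow]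
  apply Ideal.pow_right_mono
  rw [← Ideal.map_pow, Ideal.map_map, ← IsScalarTower.algebraMap_eq]
  exact hc

theorem of_base (h𝔪 : 𝔪.FG) (hc : ∃ c : ℕ, (𝔪 ^ c).map (algebraMap R T) ≤ 𝔮)
    (h : CAlgX.IsAdicFormallySmooth R T 𝔮) :
    CAlgX.IsAdicFormallySmooth (AdicCompletion 𝔪 R) T 𝔮 := by
  obtain ⟨c, hc⟩ := hc
  intro A _ _ J hJ ψ hψ
  obtain ⟨k, hk⟩ := hψ
  letI algRA : Algebra R A :=
    ((algebraMap (AdicCompletion 𝔪 R) A).comp (algebraMap R (AdicCompletion 𝔪 R))).toAlgebra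
  haveI : IsScalarTower R (AdicCompletion 𝔪 R) A := IsScalarTower.of_algebraMap_eq fun r => rfl
  haveI : IsScalarTower R (AdicCompletion 𝔪 R) (A ⧸ J) :=
    IsScalarTower.of_algebraMap_eq fun r => rfl
  obtain ⟨χ₀, hχ₀⟩ := h A J hJ (ψ.restrictScalars R) ⟨k, hk⟩
  have hχ₀' : ∀ t : T, Ideal.Quotient.mk J (χ₀ t) = ψ t := fun t => DFunLike.congr_fun hχ₀ t
  have hχ₀J : ∀ x ∈ 𝔮 ^ k, χ₀ x ∈ J := by
    intro x hx
    rw [← Ideal.Quotient.eq_zero_iff_mem, hχ₀', hk x hx]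
  -- the two maps `R̂ → A`
  have key : (χ₀ : T →+* A).comp (algebraMap (AdicCompletion 𝔪 R) T) =
      algebraMap (AdicCompletion 𝔪 R) A := by
    apply ringHom_ext 𝔪 h𝔪 _ _ (c * k + c * k)
    · apply sq_zero_aux J hJ
      intro x hx
      apply hχ₀J
      exact map_pow_le 𝔪 T 𝔮 c hc k (Ideal.mem_map_of_mem _ hx)
    · apply sq_zero_aux J hJ
      intro x hx
      rw [← Ideal.Quotient.eq_zero_iff_mem, Ideal.Quotient.mk_algebraMap, ← ψ.commutes]
      apply hk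
      exact map_pow_le 𝔪 T 𝔮 c hc k (Ideal.mem_map_of_mem _ hx)
    · intro r
      rw [RingHom.comp_apply, ← IsScalarTower.algebraMap_apply,
        ← IsScalarTower.algebraMap_apply]
      exact χ₀.commutes r
  refine ⟨{ (χ₀ : T →+* A) with commutes' := fun x => RingHom.congr_fun key x }, ?_⟩
  apply AlgHom.ext
  intro t
  exact hχ₀' t

theorem to_base (h𝔪 : 𝔪.FG) (hc : ∃ c : ℕ, (𝔪 ^ c).map (algebraMap R T) ≤ 𝔮)
    (h : CAlgX.IsAdicFormallySmooth (AdicCompletion 𝔪 R) T 𝔮) :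
    CAlgX.IsAdicFormallySmooth R T 𝔮 := by
  obtain ⟨c, hc⟩ := hc
  intro A _ _ J hJ ψ hψ
  obtain ⟨k, hk⟩ := hψ
  have h1 : ∀ r ∈ 𝔪 ^ (c * k), algebraMap R A r ∈ J := by
    intro r hr
    rw [← Ideal.Quotient.eq_zero_iff_mem, Ideal.Quotient.mk_algebraMap, ← ψ.commutes]
    apply hk
    have : (𝔪 ^ (c * k)).map (algebraMap R T) ≤ 𝔮 ^ k := by
      rw [pow_mul, Ideal.map_pow]
      exact Ideal.pow_right_mono hc k
    exact this (Ideal.mem_map_of_mem _ hr)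
  have h2 : ∀ r ∈ 𝔪 ^ (c * k + c * k), algebraMap R A r = 0 :=
    sq_zero_aux J hJ 𝔪 (algebraMap R A) (c * k) h1
  generalize hN : c * k + c * k = N at h2
  let φ : AdicCompletion 𝔪 R →+* A :=
    (Ideal.Quotient.lift (𝔪 ^ N) (algebraMap R A) h2).comp (AdicCompletion.evalₐ 𝔪 N).toRingHom
  have hφ : ∀ r : R, φ (algebraMap R (AdicCompletion 𝔪 R) r) = algebraMap R A r := by
    intro r
    change (Ideal.Quotient.lift (𝔪 ^ N) (algebraMap R A) h2)
      (AdicCompletion.evalₐ 𝔪 N (algebraMap R (AdicCompletion 𝔪 R) r)) = _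
    rw [AdicCompletion.algebraMap_apply, Algebra.algebraMap_self, RingHom.id_apply,
      AdicCompletion.evalₐ_of]
    rfl
  letI algA : Algebra (AdicCompletion 𝔪 R) A := φ.toAlgebra
  haveI : IsScalarTower R (AdicCompletion 𝔪 R) A :=
    IsScalarTower.of_algebraMap_eq fun r => (hφ r).symm
  have key : (ψ : T →+* A ⧸ J).comp (algebraMap (AdicCompletion 𝔪 R) T) =
      algebraMap (AdicCompletion 𝔪 R) (A ⧸ J) := by
    apply ringHom_ext 𝔪 h𝔪 _ _ N
    · intro x hx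
      apply hk
      refine map_pow_le 𝔪 T 𝔮 c hc k (Ideal.mem_map_of_mem _ (Ideal.pow_le_pow_right ?_ hx))
      omega
    · intro x hx
      rw [← Ideal.Quotient.mk_algebraMap]
      change Ideal.Quotient.mk J (φ x) = 0
      have h3 : AdicCompletion.evalₐ 𝔪 N x = 0 := (evalₐ_eq_zero_iff 𝔪 h𝔪 N x).mpr hx
      change Ideal.Quotient.mk J ((Ideal.Quotient.lift (𝔪 ^ N) (algebraMap R A) h2)
        (AdicCompletion.evalₐ 𝔪 N x)) = 0
      rw [h3, map_zero, map_zero]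
    · intro r
      rw [RingHom.comp_apply, ← IsScalarTower.algebraMap_apply,
        ← IsScalarTower.algebraMap_apply]
      exact ψ.commutes r
  let ψ' : T →ₐ[AdicCompletion 𝔪 R] A ⧸ J :=
    { (ψ : T →+* A ⧸ J) with commutes' := fun x => RingHom.congr_fun key x }
  obtain ⟨χ', hχ'⟩ := h A J hJ ψ' ⟨k, hk⟩
  refine ⟨χ'.restrictScalars R, ?_⟩
  apply AlgHom.ext
  intro t
  exact DFunLike.congr_fun hχ' t

theorem iff_base (h𝔪 : 𝔪.FG) (hc : ∃ c : ℕ, (𝔪 ^ c).map (algebraMap R T) ≤ 𝔮) :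
    CAlgX.IsAdicFormallySmooth R T 𝔮 ↔ CAlgX.IsAdicFormallySmooth (AdicCompletion 𝔪 R) T 𝔮 :=
  ⟨of_base 𝔪 T 𝔮 h𝔪 hc, to_base 𝔪 T 𝔮 h𝔪 hc⟩

end Groth.Agent.Helper14.AdicFSBase
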