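import Mathlib

/-!
# Split injections into projective modules over a local ring

`M` finite, `N` projective (not necessarily finite) over a local ring `R`:
a linear map `l : M → N` is a split injection as soon as `k ⊗ l` is injective.
-/

namespace Groth.Agent.Helper14.SplitProj

open TensorProduct IsLocalRing

/-- auxiliary version: `l` factors through a finite free submodule `F'` of a module `F`
which is a retract of `F`. -/
theorem split_aux {R M N F : Type*} [CommRing R] [IsLocalRing R]
    [AddCommGroup M] [AddCommGroup N] [AddCommGroup F] [Module R M] [Module R N] [Module R F]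
    [Module.Finite R M] (l : M →ₗ[R] N)
    (h : Function.Injective (l.lTensor (ResidueField R)))
    (s : N →ₗ[R] F) (r : F →ₗ[R] N) (hs : r ∘ₗ s = LinearMap.id)
    (F' : Submodule R F) [Module.Finite R F'] [Module.Free R F']
    (ρ : F →ₗ[R] F') (hρ : ρ ∘ₗ F'.subtype = LinearMap.id)
    (hrange : ∀ m, (s ∘ₗ l) m ∈ F') :
    ∃ l' : N →ₗ[R] M, l' ∘ₗ l = LinearMap.id := by
  let l'' : M →ₗ[R] F' := LinearMap.codRestrict F' (s ∘ₗ l) hrange
  have hl'' : F'.subtype ∘ₗ l'' = s ∘ₗ l := LinearMap.subtype_comp_codRestrict _ _ _
  have hinj : Function.Injective (l''.lTensor (ResidueField R)) := by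
    have h1 : (F'.subtype.lTensor (ResidueField R)) ∘ₗ (l''.lTensor (ResidueField R)) =
        (s.lTensor (ResidueField R)) ∘ₗ (l.lTensor (ResidueField R)) := by
      rw [← LinearMap.lTensor_comp, hl'', LinearMap.lTensor_comp]
    have h2 : Function.Injective (s.lTensor (ResidueField R)) := by
      have : r.lTensor (ResidueField R) ∘ₗ s.lTensor (ResidueField R) = LinearMap.id := by
        rw [← LinearMap.lTensor_comp, hs, LinearMap.lTensor_id]
      exact Function.HasLeftInverse.injective ⟨_, LinearMap.congr_fun this⟩
    have h3 : Function.Injective ((F'.subtype.lTensor (ResidueField R)) ∘ₗ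
        (l''.lTensor (ResidueField R))) := by
      rw [h1]
      exact h2.comp h
    exact Function.Injective.of_comp h3
  obtain ⟨l₁, hl₁⟩ :=
    (IsLocalRing.split_injective_iff_lTensor_residueField_injective l'').mpr hinj
  refine ⟨l₁ ∘ₗ ρ ∘ₗ s, ?_⟩
  have h4 : (ρ ∘ₗ s) ∘ₗ l = l'' := by
    rw [LinearMap.comp_assoc, ← hl'', ← LinearMap.comp_assoc, hρ, LinearMap.id_comp]
  rw [LinearMap.comp_assoc, h4, hl₁]

theorem split_injective_of_projective {R M N : Type*} [CommRing R] [IsLocalRing R]
    [AddCommGroup M] [AddCommGroup N] [Module R M] [Module R N]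
    [Module.Finite R M] [Module.Projective R N] (l : M →ₗ[R] N)
    (h : Function.Injective (l.lTensor (ResidueField R))) :
    ∃ l' : N →ₗ[R] M, l' ∘ₗ l = LinearMap.id := by
  classical
  obtain ⟨s, hs⟩ := Module.projective_def'.mp (inferInstance : Module.Projective R N)
  obtain ⟨G, hG⟩ := (Module.Finite.fg_top : (⊤ : Submodule R M).FG)
  let T : Finset N := G.biUnion fun m => (s (l m)).support
  have hrange : ∀ m, (s ∘ₗ l) m ∈ Finsupp.supported R R (T : Set N) := by
    intro m
    have hm : m ∈ Submodule.span R (G : Set M) := by rw [hG]; trivial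
    induction hm using Submodule.span_induction with
    | mem x hx =>
      rw [Finsupp.mem_supported]
      intro n hn
      exact Finset.mem_coe.mpr (Finset.mem_biUnion.mpr ⟨x, hx, hn⟩)
    | zero => rw [map_zero]; exact Submodule.zero_mem _
    | add x y _ _ hx hy => rw [map_add]; exact Submodule.add_mem _ hx hy
    | smul a x _ hx => rw [map_smul]; exact Submodule.smul_mem _ a hx
  have : Module.Finite R (Finsupp.supported R R (T : Set N)) :=
    Module.Finite.equiv (Finsupp.supportedEquivFinsupp (M := R) (R := R) (T : Set N)).symm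
  have : Module.Free R (Finsupp.supported R R (T : Set N)) :=
    Module.Free.of_equiv (Finsupp.supportedEquivFinsupp (M := R) (R := R) (T : Set N)).symm
  exact split_aux l h s _ hs (Finsupp.supported R R (T : Set N))
    (Finsupp.restrictDom R R (T : Set N)) (Finsupp.restrictDom_comp_subtype _) hrange

end Groth.Agent.Helper14.SplitProj
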