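import Mathlib
import Groth.Prelude
import Groth.Agent.Lib.Helper14.SplitProj

/-!
# Adic formal smoothness of a quotient of a formally smooth Noetherian algebra

`R → P → S` with `P → S` surjective with kernel `I`, `P` Noetherian.  If `S` is formally smooth over
`R` for the `𝔫`-adic topology, `𝔫 ≤ 𝔐 S`, `I ≤ 𝔐`, then every `x ∈ I` with `dx ∈ 𝔐 Ω_{P/R}` lies in
`𝔐 I`  (EGA 0_IV 22.6, Jacobian criterion).  For `S` local and `P` formally smooth over `R` this
gives: `S` is formally smooth over `R` for the discrete topologies.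
-/

set_option linter.style.haveILetI false

universe u

namespace Groth.Agent.Helper14.AdicFSJacobi

open TensorProduct IsLocalRing KaehlerDifferential

section core

variable {R P S : Type u} [CommRing R] [CommRing P] [CommRing S]
  [Algebra R P] [Algebra P S] [Algebra R S] [IsScalarTower R P S]

theorem mem_sup_pow_of_D_mem
    (hsurj : Function.Surjective (algebraMap P S))
    (𝔐 : Ideal P) (hI : RingHom.ker (algebraMap P S) ≤ 𝔐)
    (𝔫 : Ideal S) (h𝔫 : 𝔫 ≤ 𝔐.map (algebraMap P S))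
    (h : CAlgX.IsAdicFormallySmooth R S 𝔫) (N : ℕ) (hN : 1 ≤ N)
    (x : P) (hx : x ∈ RingHom.ker (algebraMap P S))
    (hdx : KaehlerDifferential.D R P x ∈ (𝔐 • ⊤ : Submodule P (Ω[P⁄R]))) :
    x ∈ 𝔐 * RingHom.ker (algebraMap P S) ⊔ 𝔐 ^ N := by
  classical
  set I : Ideal P := RingHom.ker (algebraMap P S) with hIdef
  have hmemI : ∀ y, y ∈ I ↔ algebraMap P S y = 0 := fun y => RingHom.mem_ker
  let K : Ideal P := 𝔐 * I ⊔ 𝔐 ^ N
  let 𝔑 : Ideal (P ⧸ K) := (I ⊔ 𝔐 ^ N).map (Ideal.Quotient.mk K)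
  have hsqle : (I ⊔ 𝔐 ^ N) * (I ⊔ 𝔐 ^ N) ≤ K := by
    rw [Ideal.sup_mul, Ideal.mul_sup, Ideal.mul_sup]
    refine sup_le (sup_le ?_ ?_) (sup_le ?_ ?_)
    · exact le_sup_of_le_left (Ideal.mul_mono_left hI)
    · exact le_sup_of_le_right Ideal.mul_le_right
    · exact le_sup_of_le_left (Ideal.mul_mono_left (Ideal.pow_le_self (by omega)))
    · exact le_sup_of_le_right Ideal.mul_le_right
  have h𝔑 : 𝔑 ^ 2 = ⊥ := by
    rw [pow_two, ← Ideal.map_mul, eq_bot_iff, Ideal.map_le_iff_le_comap]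
    intro y hy
    rw [Ideal.mem_comap, Ideal.mem_bot]
    exact Ideal.Quotient.eq_zero_iff_mem.mpr (hsqle hy)
  have hkill : ∀ m ∈ 𝔐, ∀ n ∈ 𝔑, (Ideal.Quotient.mk K m) * n = 0 := by
    intro m hm n hn
    obtain ⟨y, hy, rfl⟩ := (Ideal.mem_map_iff_of_surjective _ Ideal.Quotient.mk_surjective).mp hn
    rw [← map_mul]
    refine Ideal.Quotient.eq_zero_iff_mem.mpr ?_
    have h1 : m * y ∈ 𝔐 * (I ⊔ 𝔐 ^ N) := Ideal.mul_mem_mul hm hy
    rw [Ideal.mul_sup] at h1
    exact (sup_le_sup_left Ideal.mul_le_right _ : 𝔐 * I ⊔ 𝔐 * 𝔐 ^ N ≤ K) h1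
  -- the test map
  let q : P →ₐ[R] S := IsScalarTower.toAlgHom R P S
  have hq : ∀ y, q y = algebraMap P S y := fun y => rfl
  have hqsurj : Function.Surjective q := hsurj
  let φ : P →ₐ[R] (P ⧸ K) ⧸ 𝔑 := (Ideal.Quotient.mkₐ R 𝔑).comp (Ideal.Quotient.mkₐ R K)
  have hφ0 : ∀ y ∈ I ⊔ 𝔐 ^ N, φ y = 0 := by
    intro y hy
    change Ideal.Quotient.mk 𝔑 (Ideal.Quotient.mk K y) = 0
    exact Ideal.Quotient.eq_zero_iff_mem.mpr (Ideal.mem_map_of_mem _ hy)
  let e : (P ⧸ RingHom.ker q) ≃ₐ[R] S := Ideal.quotientKerAlgEquivOfSurjective hqsurj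
  have hker : RingHom.ker q = I := rfl
  let ψ₀ : (P ⧸ RingHom.ker q) →ₐ[R] (P ⧸ K) ⧸ 𝔑 :=
    Ideal.Quotient.liftₐ (RingHom.ker q) φ (fun y hy => hφ0 y (le_sup_left (a := I) hy))
  let ψ : S →ₐ[R] (P ⧸ K) ⧸ 𝔑 := ψ₀.comp e.symm
  have hψ : ∀ y, ψ (algebraMap P S y) = φ y := by
    intro y
    have h1 : e.symm (algebraMap P S y) = Ideal.Quotient.mk _ y := by
      rw [AlgEquiv.symm_apply_eq]
      rfl
    change ψ₀ (e.symm (algebraMap P S y)) = φ y
    rw [h1]
    rfl
  have hψkill : ∃ k : ℕ, ∀ s ∈ 𝔫 ^ k, ψ s = 0 := by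
    refine ⟨N, fun s hs => ?_⟩
    have h1 : s ∈ (𝔐 ^ N).map (algebraMap P S) := by
      rw [Ideal.map_pow]
      exact Ideal.pow_right_mono h𝔫 N hs
    obtain ⟨y, hy, rfl⟩ := (Ideal.mem_map_iff_of_surjective _ hsurj).mp h1
    rw [hψ]
    exact hφ0 y (le_sup_right (a := I) hy)
  obtain ⟨χ, hχ⟩ := h (P ⧸ K) 𝔑 h𝔑 ψ hψkill
  have hlift : (Ideal.Quotient.mkₐ R 𝔑).comp (χ.comp q) =
      IsScalarTower.toAlgHom R P ((P ⧸ K) ⧸ 𝔑) := by
    rw [← AlgHom.comp_assoc, hχ]
    ext y
    change ψ (algebraMap P S y) = _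
    rw [hψ]
    rfl
  let Dv : Derivation R P 𝔑 := derivationToSquareZeroOfLift 𝔑 h𝔑 (χ.comp q) hlift
  have hDv : ∀ y, ((Dv y : 𝔑) : P ⧸ K) = χ (q y) - Ideal.Quotient.mk K y := fun y => rfl
  have hL : Dv.liftKaehlerDifferential (KaehlerDifferential.D R P x) = 0 := by
    refine Submodule.smul_induction_on hdx ?_ ?_
    · intro m hm ω _
      rw [map_smul]
      ext
      change (Ideal.Quotient.mk K m) * ((Dv.liftKaehlerDifferential ω : 𝔑) : P ⧸ K) = 0
      exact hkill m hm _ (Dv.liftKaehlerDifferential ω).2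
    · intro a b ha hb
      rw [map_add, ha, hb, add_zero]
  rw [Derivation.liftKaehlerDifferential_comp_D] at hL
  have h2 := hDv x
  rw [hL, hq, (hmemI x).mp hx, map_zero, zero_sub] at h2
  have h3 : Ideal.Quotient.mk K x = 0 := by
    have : -(Ideal.Quotient.mk K x) = 0 := h2.symm
    exact neg_eq_zero.mp this
  exact Ideal.Quotient.eq_zero_iff_mem.mp h3

theorem mem_mul_of_forall_mem_sup_pow [IsNoetherianRing P] (𝔐 I : Ideal P) (x : P) (hx : x ∈ I)
    (h : ∀ N, 1 ≤ N → x ∈ 𝔐 * I ⊔ 𝔐 ^ N) : x ∈ 𝔐 * I := by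
  have h1 : (Ideal.Quotient.mk (𝔐 * I) x) ∈
      (⨅ i : ℕ, 𝔐 ^ i • ⊤ : Submodule P (P ⧸ 𝔐 * I)) := by
    rw [Submodule.mem_iInf]
    intro i
    rcases Nat.eq_zero_or_pos i with hi | hi
    · subst hi
      rw [pow_zero, Ideal.one_eq_top, Submodule.top_smul]
      trivial
    · obtain ⟨a, ha, b, hb, hab⟩ := Submodule.mem_sup.mp (h i hi)
      have h2 : Ideal.Quotient.mk (𝔐 * I) x = b • (Ideal.Quotient.mk (𝔐 * I) 1) := by
        rw [← hab, map_add, Ideal.Quotient.eq_zero_iff_mem.mpr ha, zero_add]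
        change _ = Ideal.Quotient.mk (𝔐 * I) (b • (1 : P))
        rw [smul_eq_mul, mul_one]
      rw [h2]
      exact Submodule.smul_mem_smul hb trivial
  obtain ⟨r, hr⟩ := (Ideal.mem_iInf_smul_pow_eq_bot_iff 𝔐 _).mp h1
  have h3 : (r : P) * x - x ∈ 𝔐 * I := by
    rw [← Ideal.Quotient.eq_zero_iff_mem, map_sub, sub_eq_zero]
    exact hr
  have h4 : (r : P) * x ∈ 𝔐 * I := Ideal.mul_mem_mul r.2 hx
  have h5 : x = (r : P) * x - ((r : P) * x - x) := by ring
  rw [h5]
  exact Ideal.sub_mem _ h4 h3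

/-- Jacobian criterion, necessity: if `S = P/I` is formally smooth over `R` for the `𝔫`-adic
topology then every `x ∈ I` with `dx ∈ 𝔐 Ω_{P/R}` lies in `𝔐 I`. -/
theorem mem_mul_of_D_mem [IsNoetherianRing P]
    (hsurj : Function.Surjective (algebraMap P S))
    (𝔐 : Ideal P) (hI : RingHom.ker (algebraMap P S) ≤ 𝔐)
    (𝔫 : Ideal S) (h𝔫 : 𝔫 ≤ 𝔐.map (algebraMap P S))
    (h : CAlgX.IsAdicFormallySmooth R S 𝔫)
    (x : P) (hx : x ∈ RingHom.ker (algebraMap P S))
    (hdx : KaehlerDifferential.D R P x ∈ (𝔐 • ⊤ : Submodule P (Ω[P⁄R]))) :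
    x ∈ 𝔐 * RingHom.ker (algebraMap P S) :=
  mem_mul_of_forall_mem_sup_pow 𝔐 _ x hx fun N hN =>
    mem_sup_pow_of_D_mem hsurj 𝔐 hI 𝔫 h𝔫 h N hN x hx hdx

end core

section tensor

theorem mem_smul_top_of_tmul_eq_zero {P κ M : Type*} [CommRing P] [CommRing κ] [Algebra P κ]
    [AddCommGroup M] [Module P M]
    (hκ : Function.Surjective (algebraMap P κ)) (m : M) (h : (1 : κ) ⊗ₜ[P] m = 0) :
    m ∈ (RingHom.ker (algebraMap P κ) • ⊤ : Submodule P M) := by
  let f : P →ₐ[P] κ := Algebra.ofId P κ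
  have hf : Function.Surjective f := hκ
  let e : (P ⧸ RingHom.ker f) ≃ₐ[P] κ := Ideal.quotientKerAlgEquivOfSurjective hf
  have h1 : (LinearMap.rTensor M e.symm.toLinearMap) ((1 : κ) ⊗ₜ[P] m) = 0 := by
    rw [h, map_zero]
  rw [LinearMap.rTensor_tmul] at h1
  have h2 : e.symm.toLinearMap (1 : κ) = (1 : P ⧸ RingHom.ker f) := map_one e.symm
  rw [h2] at h1
  have h3 := congrArg (TensorProduct.quotTensorEquivQuotSMul M (RingHom.ker f)) h1
  rw [map_zero] at h3
  have h4 : (TensorProduct.quotTensorEquivQuotSMul M (RingHom.ker f))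
      ((1 : P ⧸ RingHom.ker f) ⊗ₜ[P] m) = Submodule.Quotient.mk m := by
    have := TensorProduct.quotTensorEquivQuotSMul_mk_tmul (M := M) (RingHom.ker f) 1 m
    rw [one_smul] at this
    exact this
  rw [h4, Submodule.Quotient.mk_eq_zero] at h3
  exact h3

end tensor

section smooth

variable {R P S : Type u} [CommRing R] [CommRing P] [CommRing S]
  [Algebra R P] [Algebra P S] [Algebra R S] [IsScalarTower R P S]

/-- **Adic formal smoothness implies formal smoothness** for a local ring `S` which is a quotient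
of a Noetherian formally smooth `R`-algebra `P`. -/
theorem formallySmooth_of_adicFS [IsNoetherianRing P] [IsLocalRing S] [Algebra.FormallySmooth R P]
    (hsurj : Function.Surjective (algebraMap P S))
    (h : CAlgX.IsAdicFormallySmooth R S (maximalIdeal S)) :
    Algebra.FormallySmooth R S := by
  let E : Algebra.Extension.{u} R S :=
    { Ring := P, σ := _, algebraMap_σ := Function.surjInv_eq hsurj }
  haveI : Algebra.FormallySmooth R E.Ring := ‹_›
  haveI : IsNoetherianRing E.Ring := ‹_›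
  rw [E.formallySmooth_iff_split_injection]
  haveI : Module.Finite E.Ring E.Cotangent :=
    have : Module.Finite E.Ring E.ker := Module.Finite.of_fg (IsNoetherian.noetherian E.ker)
    .of_surjective _ Algebra.Extension.Cotangent.mk_surjective
  haveI : Module.Finite S E.Cotangent := Module.Finite.of_restrictScalars_finite E.Ring _ _
  haveI : Module.Projective E.Ring (Ω[E.Ring⁄R]) := inferInstance
  haveI : Module.Projective S E.CotangentSpace := inferInstance
  apply SplitProj.split_injective_of_projective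
  rw [injective_iff_map_eq_zero]
  intro z hz
  obtain ⟨c, rfl⟩ := TensorProduct.mk_surjective S E.Cotangent (ResidueField S)
    IsLocalRing.residue_surjective z
  obtain ⟨x, rfl⟩ := Algebra.Extension.Cotangent.mk_surjective c
  change (1 : ResidueField S) ⊗ₜ[S] Algebra.Extension.Cotangent.mk x = 0
  have hz' : (1 : ResidueField S) ⊗ₜ[S] ((1 : S) ⊗ₜ[P] KaehlerDifferential.D R P (x : P)) = 0 := hz
  -- pass to `κ ⊗[P] Ω`
  have h1 := congrArg (AlgebraTensorModule.cancelBaseChange P S S (ResidueField S) (Ω[P⁄R])) hz'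
  rw [map_zero, AlgebraTensorModule.cancelBaseChange_tmul, one_smul] at h1
  have hκsurj : Function.Surjective (algebraMap P (ResidueField S)) := by
    rw [IsScalarTower.algebraMap_eq P S (ResidueField S)]
    exact IsLocalRing.residue_surjective.comp hsurj
  have h2 := mem_smul_top_of_tmul_eq_zero hκsurj _ h1
  set 𝔐 : Ideal P := RingHom.ker (algebraMap P (ResidueField S)) with h𝔐
  have hmem𝔐 : ∀ y, y ∈ 𝔐 ↔ algebraMap P S y ∈ maximalIdeal S := by
    intro y
    rw [h𝔐, RingHom.mem_ker, IsScalarTower.algebraMap_apply P S (ResidueField S)]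
    exact IsLocalRing.residue_eq_zero_iff _
  have hI : RingHom.ker (algebraMap P S) ≤ 𝔐 := by
    intro y hy
    rw [hmem𝔐, RingHom.mem_ker.mp hy]
    exact zero_mem _
  have h𝔫 : maximalIdeal S ≤ 𝔐.map (algebraMap P S) := by
    intro s hs
    obtain ⟨y, rfl⟩ := hsurj s
    exact Ideal.mem_map_of_mem _ ((hmem𝔐 y).mpr hs)
  have h3 := mem_mul_of_D_mem hsurj 𝔐 hI (maximalIdeal S) h𝔫 h (x : P) x.2 h2
  -- conclude
  have h4 : x ∈ (𝔐 • ⊤ : Submodule P E.ker) := by
    rw [Submodule.mem_smul_top_iff]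
    exact h3
  refine Submodule.smul_induction_on h4 ?_ ?_
  · intro m hm y _
    rw [map_smul, ← algebraMap_smul S m (Algebra.Extension.Cotangent.mk y),
      ← TensorProduct.smul_tmul, Algebra.smul_def, mul_one]
    have : algebraMap S (ResidueField S) (algebraMap E.Ring S m) = 0 := by
      rw [← IsScalarTower.algebraMap_apply P S (ResidueField S)]
      exact RingHom.mem_ker.mp hm
    rw [this, zero_tmul]
  · intro a b ha hb
    rw [map_add, tmul_add, ha, hb, add_zero]

/-- **Adic formal smoothness implies formal smoothness** for a local ring essentially of finite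
type over a Noetherian ring. -/
theorem formallySmooth_of_adicFS_of_essFiniteType {R S : Type u} [CommRing R] [CommRing S]
    [Algebra R S] [IsNoetherianRing R] [IsLocalRing S] [Algebra.EssFiniteType R S]
    (h : CAlgX.IsAdicFormallySmooth R S (maximalIdeal S)) : Algebra.FormallySmooth R S := by
  let T := Algebra.EssFiniteType.subalgebra R S
  let M : Submonoid T := Algebra.EssFiniteType.submonoid R S
  haveI : IsLocalization M S := Algebra.EssFiniteType.isLocalization R S
  obtain ⟨n, f₀, hf₀⟩ := Algebra.FiniteType.iff_quotient_mvPolynomial''.mp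
    (inferInstance : Algebra.FiniteType R T)
  let M' := M.comap f₀
  let P' := Localization M'
  let fP : P' →ₐ[R] S := IsLocalization.liftAlgHom (M := M')
      (f := (IsScalarTower.toAlgHom R T S).comp f₀) fun x ↦ by
    have := IsLocalization.map_units (M := M) S ⟨f₀ x.1, x.2⟩
    exact this
  have hf₁ : Function.Surjective fP := by
    intro x
    obtain ⟨x, ⟨s, hs⟩, rfl⟩ := IsLocalization.exists_mk'_eq M x
    obtain ⟨x, rfl⟩ := hf₀ x
    obtain ⟨s, rfl⟩ := hf₀ s
    refine ⟨IsLocalization.mk' (M := M') _ x ⟨s, hs⟩, ?_⟩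
    simp [fP, IsLocalization.lift_mk', Units.mul_inv_eq_iff_eq_mul, IsUnit.liftRight]
    exact (IsLocalization.mk'_spec S (f₀ x) ⟨f₀ s, hs⟩).symm
  algebraize [fP.toRingHom]
  haveI : IsScalarTower R P' S := IsScalarTower.of_algebraMap_eq' fP.comp_algebraMap.symm
  haveI : Algebra.FormallyEtale (MvPolynomial (Fin n) R) P' := .of_isLocalization M'
  haveI : Algebra.FormallySmooth R P' := .comp _ (MvPolynomial (Fin n) R) _
  haveI : IsNoetherianRing P' := IsLocalization.isNoetherianRing M' P' inferInstance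
  exact formallySmooth_of_adicFS (P := P') hf₁ h

/-- Tower version: `R₀ → R` formally smooth, `S` local and essentially of finite type over the
Noetherian ring `R`; adic formal smoothness of `S` over `R₀` implies formal smoothness. -/
theorem formallySmooth_of_adicFS_of_essFiniteType_tower {R₀ R S : Type u} [CommRing R₀]
    [CommRing R] [CommRing S] [Algebra R₀ R] [Algebra R S] [Algebra R₀ S] [IsScalarTower R₀ R S]
    [Algebra.FormallySmooth R₀ R] [IsNoetherianRing R] [IsLocalRing S] [Algebra.EssFiniteType R S]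
    (h : CAlgX.IsAdicFormallySmooth R₀ S (maximalIdeal S)) : Algebra.FormallySmooth R₀ S := by
  let T := Algebra.EssFiniteType.subalgebra R S
  let M : Submonoid T := Algebra.EssFiniteType.submonoid R S
  haveI : IsLocalization M S := Algebra.EssFiniteType.isLocalization R S
  obtain ⟨n, f₀, hf₀⟩ := Algebra.FiniteType.iff_quotient_mvPolynomial''.mp
    (inferInstance : Algebra.FiniteType R T)
  let M' := M.comap f₀
  let P' := Localization M'
  let fP : P' →ₐ[R] S := IsLocalization.liftAlgHom (M := M')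
      (f := (IsScalarTower.toAlgHom R T S).comp f₀) fun x ↦ by
    have := IsLocalization.map_units (M := M) S ⟨f₀ x.1, x.2⟩
    exact this
  have hf₁ : Function.Surjective fP := by
    intro x
    obtain ⟨x, ⟨s, hs⟩, rfl⟩ := IsLocalization.exists_mk'_eq M x
    obtain ⟨x, rfl⟩ := hf₀ x
    obtain ⟨s, rfl⟩ := hf₀ s
    refine ⟨IsLocalization.mk' (M := M') _ x ⟨s, hs⟩, ?_⟩
    simp [fP, IsLocalization.lift_mk', Units.mul_inv_eq_iff_eq_mul, IsUnit.liftRight]
    exact (IsLocalization.mk'_spec S (f₀ x) ⟨f₀ s, hs⟩).symm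
  algebraize [fP.toRingHom]
  haveI : IsScalarTower R P' S := IsScalarTower.of_algebraMap_eq' fP.comp_algebraMap.symm
  haveI : IsScalarTower R₀ P' S := by
    refine IsScalarTower.of_algebraMap_eq (R := R₀) (S := P') (A := S) fun r => ?_
    rw [IsScalarTower.algebraMap_apply R₀ R S, IsScalarTower.algebraMap_apply R P' S,
      ← IsScalarTower.algebraMap_apply R₀ R P']
  haveI : Algebra.FormallyEtale (MvPolynomial (Fin n) R) P' := .of_isLocalization M'
  haveI : Algebra.FormallySmooth R P' := .comp _ (MvPolynomial (Fin n) R) _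
  haveI : Algebra.FormallySmooth R₀ P' := .comp R₀ R P'
  haveI : IsNoetherianRing P' := IsLocalization.isNoetherianRing M' P' inferInstance
  exact formallySmooth_of_adicFS (P := P') hf₁ h

end smooth

section convert

/-- For a continuous structure map, EGA's adic formal smoothness (adic base) implies adic formal
smoothness over the discrete base. -/
theorem isAdicFormallySmooth_of_isFormallySmoothAdic {R S : Type u} [CommRing R] [CommRing S]
    [Algebra R S] (𝔞 : Ideal R) (𝔟 : Ideal S) (hab : 𝔞.map (algebraMap R S) ≤ 𝔟)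
    (h : EGA41.IsFormallySmoothAdic R 𝔞 S 𝔟) : CAlgX.IsAdicFormallySmooth R S 𝔟 := by
  intro A _ _ J hJ ψ hψ
  obtain ⟨k, hk⟩ := hψ
  refine h A J ⟨2, hJ⟩ ⟨k + k, ?_⟩ ψ ⟨k, hk⟩
  rw [eq_bot_iff, Ideal.map_le_iff_le_comap]
  intro a ha
  rw [Ideal.mem_comap, Ideal.mem_bot]
  have h1 : ∀ a ∈ 𝔞 ^ k, algebraMap R A a ∈ J := by
    intro a ha
    rw [← Ideal.Quotient.eq_zero_iff_mem]
    have h2 : Ideal.Quotient.mk J (algebraMap R A a) = ψ (algebraMap R S a) := by
      rw [AlgHom.commutes]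
      rfl
    rw [h2]
    apply hk
    have h3 : algebraMap R S a ∈ (𝔞 ^ k).map (algebraMap R S) := Ideal.mem_map_of_mem _ ha
    rw [Ideal.map_pow] at h3
    exact Ideal.pow_right_mono hab k h3
  rw [pow_add] at ha
  have h4 : algebraMap R A a ∈ J * J := by
    refine Submodule.mul_induction_on ha ?_ ?_
    · intro x hx y hy
      rw [map_mul]
      exact Ideal.mul_mem_mul (h1 x hx) (h1 y hy)
    · intro x y hx hy
      rw [map_add]
      exact Ideal.add_mem _ hx hy
  rw [← pow_two, hJ] at h4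
  exact h4

end convert

end Groth.Agent.Helper14.AdicFSJacobi
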