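import Mathlib
import Groth.Prelude.Def_CAlgX

/-!
# Adic formal smoothness is insensitive to localizing the base
-/

set_option autoImplicit false
set_option linter.style.haveILetI false
set_option linter.unusedVariables false
universe u

namespace Groth.Agent.Helper14.AdicFSLocBase

variable {A A' T : Type u} [CommRing A] [CommRing A'] [CommRing T] [Algebra A A'] [Algebra A' T]
  [Algebra A T] [IsScalarTower A A' T] (M : Submonoid A) [IsLocalization M A'] (𝔫 : Ideal T)

include M in
theorem of_base (h : CAlgX.IsAdicFormallySmooth A T 𝔫) : CAlgX.IsAdicFormallySmooth A' T 𝔫 := by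
  intro E _ _ J hJ ψ hψ
  letI : Algebra A E := ((algebraMap A' E).comp (algebraMap A A')).toAlgebra
  haveI : IsScalarTower A A' E := IsScalarTower.of_algebraMap_eq' rfl
  obtain ⟨χ, hχ⟩ := h E J hJ (ψ.restrictScalars A) hψ
  have hcomm : χ.toRingHom.comp (algebraMap A' T) = algebraMap A' E := by
    apply IsLocalization.ringHom_ext M
    ext a
    simp only [RingHom.comp_apply, ← IsScalarTower.algebraMap_apply A A' T]
    rw [← IsScalarTower.algebraMap_apply A A' E]
    exact χ.commutes a
  let χ' : T →ₐ[A'] E := { χ.toRingHom with commutes' := fun a => RingHom.congr_fun hcomm a }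
  refine ⟨χ', ?_⟩
  ext x
  exact congrArg (fun f => f x) hχ

include M in
theorem to_base (h : CAlgX.IsAdicFormallySmooth A' T 𝔫) : CAlgX.IsAdicFormallySmooth A T 𝔫 := by
  intro E _ _ J hJ ψ hψ
  have hunits : ∀ m : M, IsUnit (algebraMap A E m) := by
    intro m
    rw [← IsNilpotent.isUnit_quotient_mk_iff (I := J) ⟨2, hJ⟩]
    have h1 : Ideal.Quotient.mk J (algebraMap A E m) = ψ (algebraMap A T m) := by
      rw [ψ.commutes]
      rfl
    rw [h1, IsScalarTower.algebraMap_apply A A' T]
    exact ((IsLocalization.map_units A' m).map (algebraMap A' T)).map ψ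
  letI : Algebra A' E := (IsLocalization.lift (M := M) (g := algebraMap A E) hunits).toAlgebra
  haveI : IsScalarTower A A' E :=
    IsScalarTower.of_algebraMap_eq' (IsLocalization.lift_comp (M := M) hunits).symm
  have hcomm : ψ.toRingHom.comp (algebraMap A' T) = algebraMap A' (E ⧸ J) := by
    apply IsLocalization.ringHom_ext M
    ext a
    simp only [RingHom.comp_apply, ← IsScalarTower.algebraMap_apply A A' T]
    rw [← IsScalarTower.algebraMap_apply A A' (E ⧸ J)]
    exact ψ.commutes a
  let ψ' : T →ₐ[A'] E ⧸ J := { ψ.toRingHom with commutes' := fun a => RingHom.congr_fun hcomm a }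
  obtain ⟨χ, hχ⟩ := h E J hJ ψ' hψ
  refine ⟨χ.restrictScalars A, ?_⟩
  ext x
  exact congrArg (fun f => f x) hχ

include M in
theorem iff_base : CAlgX.IsAdicFormallySmooth A' T 𝔫 ↔ CAlgX.IsAdicFormallySmooth A T 𝔫 :=
  ⟨to_base M 𝔫, of_base M 𝔫⟩

end Groth.Agent.Helper14.AdicFSLocBase
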