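import Mathlib
import Groth.Agent.Lib.Helper14.PuncAffE

/-!
# Finiteness of the set of opens with affine inclusion containing a dense open
-/

set_option autoImplicit false

namespace Groth.Agent.Helper14.AffOpensFinite
universe u
open AlgebraicGeometry CategoryTheory TopologicalSpace

section Top
variable {X : Type u} [TopologicalSpace X] [NoetherianSpace X] [QuasiSober X] [T0Space X]

/-- membership in a finite sup of closed sets. -/
theorem mem_finset_sup_closeds (F : Finset (Closeds X)) (x : X) :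
    x ∈ ((F.sup id : Closeds X) : Set X) ↔ ∃ k ∈ F, x ∈ (k : Set X) := by
  classical
  induction F using Finset.induction_on with
  | empty => simp
  | insert a s _ ih =>
    rw [Finset.sup_insert, Closeds.coe_sup, Set.mem_union, ih]
    simp

/-- In a Noetherian sober space, every point of a closed set is a specialization of a maximal
point of that closed set. -/
theorem exists_maximal_in_closed (C : Set X) (hC : IsClosed C) (s : X) (hs : s ∈ C) :
    ∃ ξ ∈ C, ξ ⤳ s ∧ ∀ η ∈ C, η ⤳ ξ → η = ξ := by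
  classical
  obtain ⟨F, hFirr, hF⟩ := NoetherianSpace.exists_finset_irreducible (⟨C, hC⟩ : Closeds X)
  have hmemC : ∀ x : X, x ∈ C ↔ ∃ k ∈ F, x ∈ (k : Set X) := by
    intro x
    rw [← mem_finset_sup_closeds, ← hF]
    rfl
  obtain ⟨k, hkF, hsk⟩ := (hmemC s).mp hs
  obtain ⟨m, hkm, hmmax⟩ := F.exists_le_maximal hkF
  have hmF : m ∈ F := hmmax.1
  obtain ⟨ξ, hξ⟩ := QuasiSober.sober (hFirr ⟨m, hmF⟩) m.isClosed
  have hξm : ξ ∈ (m : Set X) := hξ.mem
  refine ⟨ξ, (hmemC ξ).mpr ⟨m, hmF, hξm⟩, ?_, ?_⟩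
  · rw [specializes_iff_mem_closure, hξ.def]
    exact hkm hsk
  · intro η hηC hηξ
    obtain ⟨j, hjF, hηj⟩ := (hmemC η).mp hηC
    have hmj : m ≤ j := by
      intro x hx
      have hx' : x ∈ closure {ξ} := by rw [hξ.def]; exact hx
      have h1 : ξ ⤳ x := specializes_iff_mem_closure.mpr hx'
      have h2 : η ⤳ x := hηξ.trans h1
      exact h2.mem_closed j.isClosed hηj
    have hjm : j ≤ m := hmmax.2 hjF hmj
    have h3 : η ∈ closure {ξ} := by rw [hξ.def]; exact hjm hηj
    have h4 : ξ ⤳ η := specializes_iff_mem_closure.mpr h3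
    exact (hηξ.antisymm h4).eq

/-- the maximal points of a closed subset of a Noetherian sober space form a finite set. -/
theorem finite_maximal_points (C : Set X) (hC : IsClosed C) :
    {ζ : X | ζ ∈ C ∧ ∀ η ∈ C, η ⤳ ζ → η = ζ}.Finite := by
  classical
  obtain ⟨F, hFirr, hF⟩ := NoetherianSpace.exists_finset_irreducible (⟨C, hC⟩ : Closeds X)
  have hmemC : ∀ x : X, x ∈ C ↔ ∃ k ∈ F, x ∈ (k : Set X) := by
    intro x
    rw [← mem_finset_sup_closeds, ← hF]
    rfl
  have hsub : {ζ : X | ζ ∈ C ∧ ∀ η ∈ C, η ⤳ ζ → η = ζ} ⊆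
      ⋃ k ∈ (F : Set (Closeds X)), {ζ : X | IsGenericPoint ζ (k : Set X)} := by
    rintro ζ ⟨hζC, hζmax⟩
    obtain ⟨k, hkF, hζk⟩ := (hmemC ζ).mp hζC
    obtain ⟨g, hg⟩ := QuasiSober.sober (hFirr ⟨k, hkF⟩) k.isClosed
    have hgC : g ∈ C := (hmemC g).mpr ⟨k, hkF, hg.mem⟩
    have hgζ : g ⤳ ζ := by
      rw [specializes_iff_mem_closure, hg.def]; exact hζk
    have : g = ζ := hζmax g hgC hgζ
    simp only [Set.mem_iUnion]
    exact ⟨k, hkF, this ▸ hg⟩
  refine Set.Finite.subset (Set.Finite.biUnion F.finite_toSet ?_) hsub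
  intro k _
  apply Set.Subsingleton.finite
  intro a ha b hb
  exact IsGenericPoint.eq ha hb

end Top

section Sch
variable (S : Scheme.{u})

/-- the inclusion of an open is affine iff its intersection with every affine open is affine. -/
theorem isAffineHom_ι_iff (V : S.Opens) :
    IsAffineHom V.ι ↔ ∀ W : S.Opens, IsAffineOpen W → IsAffineOpen (V ⊓ W) := by
  rw [isAffineHom_iff]
  refine forall₂_congr fun W hW => ?_
  rw [← V.ι.isAffineOpen_iff_of_isOpenImmersion, Scheme.Hom.image_preimage_eq_opensRange_inf,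
    Scheme.Opens.opensRange_ι]

/-- **S13043.** -/
theorem finite_and_least [IsNoetherian S] [S.IsSeparated] (U : S.Opens)
    (hU : Dense (U : Set S)) :
    Set.Finite {V : S.Opens | U ≤ V ∧ IsAffineHom V.ι} ∧
      ∃ V₀ : S.Opens, (U ≤ V₀ ∧ IsAffineHom V₀.ι) ∧
        ∀ V : S.Opens, U ≤ V → IsAffineHom V.ι → V₀ ≤ V := by
  classical
  set Z : Set S := (U : Set S)ᶜ with hZdef
  have hZ : IsClosed Z := U.isOpen.isClosed_compl
  set G : Set S := {ζ | ζ ∈ Z ∧ ∀ η ∈ Z, η ⤳ ζ → η = ζ} with hGdef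
  have hG : G.Finite := finite_maximal_points Z hZ
  have key : ∀ V : S.Opens, U ≤ V → IsAffineHom V.ι → ∀ s : S, s ∉ V →
      ∃ ξ ∈ G, ξ ∉ V ∧ ξ ⤳ s := by
    intro V hUV hV s hs
    obtain ⟨ξ, hξC, hξs, hξmax⟩ :=
      exists_maximal_in_closed ((V : Set S)ᶜ) V.isOpen.isClosed_compl s hs
    have hξV : ξ ∉ V := hξC
    have hξZ : ξ ∈ Z := fun h => hξC (hUV h)
    obtain ⟨ζ, hζZ, hζξ, hζmax⟩ := exists_maximal_in_closed Z hZ ξ hξZ
    haveI := hV
    have hclV : ξ ∈ closure (V : Set S) := by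
      have : Dense (V : Set S) := hU.mono hUV
      rw [this.closure_eq]; exact Set.mem_univ ξ
    have h1 : ringKrullDim (S.presheaf.stalk ξ) = 1 :=
      PuncAff.dim_stalk_eq_one S V ξ hξV (fun η hη h => hξmax η hη h) hclV
    have h0 : ringKrullDim (S.presheaf.stalk ζ) ≠ 0 :=
      PuncAff.dim_stalk_ne_zero_of_mem_closure S U ζ hζZ (by rw [hU.closure_eq]; exact Set.mem_univ ζ)
    have hζeq : ζ = ξ := by
      by_contra hne
      rw [AlgebraicGeometry.ringKrullDim_stalk_eq_coheight] at h1 h0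
      have hlt : ξ < ζ := by
        refine lt_of_le_not_ge (Scheme.le_iff_specializes.mpr hζξ) ?_
        intro hle
        exact hne ((hζξ.antisymm (Scheme.le_iff_specializes.mp hle)).eq)
      have h2 := Order.coheight_add_one_le hlt
      have h1' : Order.coheight ξ = 1 := by exact_mod_cast h1
      have h0' : Order.coheight ζ ≠ 0 := by
        intro h; apply h0; rw [h]; rfl
      rw [h1'] at h2
      have h3 : Order.coheight ζ ≤ 0 := by
        have h4 : Order.coheight ζ + 1 ≤ 0 + 1 := by simpa using h2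
        exact (ENat.add_le_add_iff_right (k := 1) (by simp)).mp h4
      exact h0' (le_antisymm h3 bot_le)
    subst hζeq
    exact ⟨ζ, ⟨hζZ, hζmax⟩, hξV, hξs⟩
  have hfin : Set.Finite {V : S.Opens | U ≤ V ∧ IsAffineHom V.ι} := by
    refine Set.Finite.of_injOn (f := fun V : S.Opens => G ∩ (V : Set S)ᶜ)
      (t := {b | b ⊆ G}) (fun V _ => Set.inter_subset_left) ?_ hG.finite_subsets
    have hle : ∀ V V' : S.Opens, (U ≤ V ∧ IsAffineHom V.ι) → (U ≤ V' ∧ IsAffineHom V'.ι) →
        G ∩ (V : Set S)ᶜ = G ∩ (V' : Set S)ᶜ → V ≤ V' := by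
      intro V V' hV hV' hEq s hsV
      by_contra hsV'
      obtain ⟨ξ, hξG, hξV', hξs⟩ := key V' hV'.1 hV'.2 s hsV'
      have h1 : ξ ∈ G ∩ (V' : Set S)ᶜ := ⟨hξG, hξV'⟩
      rw [← hEq] at h1
      exact h1.2 (hξs.mem_open V.isOpen hsV)
    intro V hV V' hV' hEq
    exact le_antisymm (hle V V' hV hV' hEq) (hle V' V hV' hV hEq.symm)
  refine ⟨hfin, hfin.toFinset.inf id, ⟨?_, ?_⟩, ?_⟩
  · apply Finset.le_inf
    intro V hV
    exact ((hfin.mem_toFinset).mp hV).1
  · rw [isAffineHom_ι_iff]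
    intro W hW
    have hall : ∀ V ∈ hfin.toFinset, ∀ W : S.Opens, IsAffineOpen W → IsAffineOpen (V ⊓ W) := by
      intro V hV
      exact (isAffineHom_ι_iff S V).mp ((hfin.mem_toFinset).mp hV).2
    generalize hfin.toFinset = T at hall
    induction T using Finset.induction_on with
    | empty => simpa using hW
    | insert a T _ ih =>
      rw [Finset.inf_insert]
      have h1 : IsAffineOpen (a ⊓ W) := hall a (Finset.mem_insert_self a T) W hW
      have h2 : IsAffineOpen (T.inf id ⊓ W) :=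
        ih (fun V hV => hall V (Finset.mem_insert_of_mem hV))
      have h3 : id a ⊓ T.inf id ⊓ W = (a ⊓ W) ⊓ (T.inf id ⊓ W) := by
        simp only [id]
        rw [inf_inf_distrib_right]
      rw [h3]
      exact h1.inf h2
  · intro V hUV hV
    exact Finset.inf_le (f := id) ((hfin.mem_toFinset).mpr ⟨hUV, hV⟩)

end Sch

end Groth.Agent.Helper14.AffOpensFinite
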