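import Mathlib
import Groth.Agent.Lib.Helper7.IntDim

/-!
# Noether normalisation of a fibre ring, lifted to the base (abstract residue field)

`κ` is a field which is an `A`-algebra such that `A → κ` is surjective on stalks (for instance the
residue field of a prime of `A`).
-/

set_option autoImplicit false
universe u
open TensorProduct

namespace Groth.Agent.Helper14.AffSpNN

variable {A B κ : Type u} [CommRing A] [CommRing B] [Field κ] [Algebra A B] [Algebra A κ]

theorem exists_smul_eq_one_tmul (hs : (algebraMap A κ).SurjectiveOnStalks) (c : κ ⊗[A] B) :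
    ∃ (u : κ) (b : B), u ≠ 0 ∧ u • c = 1 ⊗ₜ[A] b := by
  obtain ⟨t, r, a, hrt, e⟩ := RingHom.SurjectiveOnStalks.exists_mul_eq_tmul (S := B) hs
    (Algebra.TensorProduct.comm A κ B c) ⊥ Ideal.isPrime_bot
  have hrt' : r • t ≠ 0 := by simpa using hrt
  have ht : t ≠ 0 := by
    rintro rfl
    exact hrt' (smul_zero r)
  refine ⟨t⁻¹ * (r • t), a, mul_ne_zero (inv_ne_zero ht) hrt', ?_⟩
  have e' := congrArg (Algebra.TensorProduct.comm A κ B).symm e
  rw [map_mul, AlgEquiv.symm_apply_apply] at e'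
  simp only [Algebra.TensorProduct.comm_symm_tmul] at e'
  -- e' : (r • t) ⊗ₜ 1 * c = t ⊗ₜ a
  rw [mul_smul]
  have h1 : (r • t) • c = (r • t) ⊗ₜ[A] (1 : B) * c := by
    rw [Algebra.smul_def]
    rfl
  rw [h1, e', TensorProduct.smul_tmul', smul_eq_mul, inv_mul_cancel₀ ht]

theorem nn [Algebra.FiniteType A B] (hs : (algebraMap A κ).SurjectiveOnStalks) (d : ℕ)
    (hd : ringKrullDim (κ ⊗[A] B) = d) :
    ∃ v : Fin d → B,
      (MvPolynomial.aeval (R := κ) (fun i => (1 : κ) ⊗ₜ[A] v i) :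
        MvPolynomial (Fin d) κ →ₐ[κ] κ ⊗[A] B).toRingHom.Finite := by
  haveI : Nontrivial (κ ⊗[A] B) := by
    by_contra h
    rw [not_nontrivial_iff_subsingleton] at h
    rw [ringKrullDim_eq_bot_of_subsingleton] at hd
    exact WithBot.bot_ne_coe hd
  obtain ⟨s, g, hinj, hfin⟩ := exists_finite_inj_algHom_of_fg κ (κ ⊗[A] B)
  have hsd : s = d := by
    letI := g.toRingHom.toAlgebra
    haveI : Module.Finite (MvPolynomial (Fin s) κ) (κ ⊗[A] B) := hfin
    have h1 := Groth.Agent.Helper7.IntDim.ringKrullDim_eq_of_isIntegral_of_injective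
      (A := MvPolynomial (Fin s) κ) (B := κ ⊗[A] B) hinj
    rw [hd, MvPolynomial.ringKrullDim_of_isNoetherianRing, ringKrullDim_eq_zero_of_field,
      Nat.card_fin, zero_add] at h1
    exact_mod_cast h1.symm
  subst hsd
  choose u b hu hb using fun i : Fin s => exists_smul_eq_one_tmul hs (g (MvPolynomial.X i))
  refine ⟨b, ?_⟩
  let h : MvPolynomial (Fin s) κ →ₐ[κ] MvPolynomial (Fin s) κ :=
    MvPolynomial.aeval (fun i => (u i)⁻¹ • (MvPolynomial.X i : MvPolynomial (Fin s) κ))
  have hcomp : (MvPolynomial.aeval (R := κ) (fun i => (1 : κ) ⊗ₜ[A] b i) :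
      MvPolynomial (Fin s) κ →ₐ[κ] κ ⊗[A] B).comp h = g := by
    apply MvPolynomial.algHom_ext
    intro i
    rw [AlgHom.comp_apply, MvPolynomial.aeval_X, map_smul, MvPolynomial.aeval_X, ← hb i, smul_smul,
      inv_mul_cancel₀ (hu i), one_smul]
  have hf : ((MvPolynomial.aeval (R := κ) (fun i => (1 : κ) ⊗ₜ[A] b i) :
      MvPolynomial (Fin s) κ →ₐ[κ] κ ⊗[A] B).toRingHom.comp h.toRingHom).Finite := by
    have e : (MvPolynomial.aeval (R := κ) (fun i => (1 : κ) ⊗ₜ[A] b i) :
        MvPolynomial (Fin s) κ →ₐ[κ] κ ⊗[A] B).toRingHom.comp h.toRingHom = g.toRingHom := by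
      rw [← hcomp]
      rfl
    rw [e]
    exact hfin
  exact RingHom.Finite.of_comp_finite hf

end Groth.Agent.Helper14.AffSpNN
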