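import Mathlib
import Groth.Agent.Lib.Helper14.AffSpNN

/-!
# Noether normalisation of a fibre, in terms of pushouts of commutative rings
-/

set_option autoImplicit false
universe u
open TensorProduct CategoryTheory CategoryTheory.Limits

namespace Groth.Agent.Helper14.AffSpPush

theorem main_ring {A B κ C : CommRingCat.{u}} (φ : A ⟶ B) (σ : A ⟶ κ) (c₁ : B ⟶ C) (c₂ : κ ⟶ C)
    (HC : IsPushout φ σ c₁ c₂) (hκ : IsField κ) (hφ : φ.hom.FiniteType)
    (hσ : σ.hom.SurjectiveOnStalks) (d : ℕ) (hd : ringKrullDim C = d) :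
    ∃ v : Fin d → B, ∀ {R' S' : CommRingCat.{u}} (a : B ⟶ S') (b : κ ⟶ S')
      (_ : IsPushout φ σ a b) (ρ : κ ⟶ R') (T' : Fin d → R') (χ : R' ⟶ S'), ρ ≫ χ = b →
      (∀ i, χ (T' i) = a (v i)) → χ.hom.Finite := by
  letI : Field κ := hκ.toField
  letI : Algebra A B := φ.hom.toAlgebra
  letI : Algebra A κ := σ.hom.toAlgebra
  haveI : Algebra.FiniteType A B := hφ
  have HT := (CommRingCat.isPushout_tensorProduct A κ B).flip
  have HC' : IsPushout (CommRingCat.ofHom (algebraMap A B)) (CommRingCat.ofHom (algebraMap A κ))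
      c₁ c₂ := HC
  let EC := HT.isoIsPushout _ _ HC'
  have hdim : ringKrullDim (κ ⊗[A] B) = d := by
    rw [← hd]
    exact ringKrullDim_eq_of_ringEquiv EC.commRingCatIsoToRingEquiv
  obtain ⟨v, hv⟩ := AffSpNN.nn (A := A) (B := B) (κ := κ) hσ d hdim
  refine ⟨v, ?_⟩
  intro R' S' a b H' ρ T' χ hρ hT
  have H'' : IsPushout (CommRingCat.ofHom (algebraMap A B)) (CommRingCat.ofHom (algebraMap A κ))
      a b := H'
  let E := HT.isoIsPushout _ _ H''
  have hE1 : ∀ x : B, E.hom ((1 : κ) ⊗ₜ[A] x) = a x := by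
    intro x
    have := IsPushout.inl_isoIsPushout_hom _ _ HT H''
    exact congr($(this) x)
  have hE2 : ∀ k : κ, E.hom (k ⊗ₜ[A] (1 : B)) = b k := by
    intro k
    have := IsPushout.inr_isoIsPushout_hom _ _ HT H''
    exact congr($(this) k)
  let Θ : MvPolynomial (Fin d) κ →+* R' := MvPolynomial.eval₂Hom ρ.hom T'
  have hcomp : χ.hom.comp Θ = E.hom.hom.comp
      (MvPolynomial.aeval (R := κ) (fun i => (1 : κ) ⊗ₜ[A] v i) :
        MvPolynomial (Fin d) κ →ₐ[κ] κ ⊗[A] B).toRingHom := by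
    apply MvPolynomial.ringHom_ext
    · intro k
      simp only [RingHom.comp_apply, Θ, MvPolynomial.eval₂Hom_C, AlgHom.toRingHom_eq_coe,
        RingHom.coe_coe, MvPolynomial.aeval_C]
      rw [Algebra.TensorProduct.algebraMap_apply]
      change _ = E.hom (k ⊗ₜ[A] (1 : B))
      rw [hE2, ← hρ]
      rfl
    · intro i
      simp only [RingHom.comp_apply, Θ, MvPolynomial.eval₂Hom_X', AlgHom.toRingHom_eq_coe,
        RingHom.coe_coe, MvPolynomial.aeval_X]
      change χ (T' i) = E.hom ((1 : κ) ⊗ₜ[A] v i)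
      rw [hE1, hT]
  have hfin : (χ.hom.comp Θ).Finite := by
    rw [hcomp]
    refine RingHom.Finite.comp ?_ hv
    exact RingHom.Finite.of_surjective _ (ConcreteCategory.bijective_of_isIso E.hom).2
  exact RingHom.Finite.of_comp_finite hfin

end Groth.Agent.Helper14.AffSpPush
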