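import Mathlib
import Groth.Agent.Lib.Helper14.AffSpPush

/-!
# Morphisms to affine space inducing a finite morphism on a fibre (EGA IV 13.3.1.1)
-/

set_option autoImplicit false
universe u
open AlgebraicGeometry CategoryTheory CategoryTheory.Limits

namespace Groth.Agent.Helper14.AffSpFibre

theorem ringKrullDim_Γ (Z : Scheme.{u}) [IsAffine Z] :
    ringKrullDim Γ(Z, ⊤) = topologicalKrullDim Z := by
  rw [← PrimeSpectrum.topologicalKrullDim_eq_ringKrullDim]
  exact (IsHomeomorph.topologicalKrullDim_eq _ Z.isoSpec.hom.homeomorph.isHomeomorph).symm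

theorem isField_Γ_Spec (K : CommRingCat.{u}) (hK : IsField K) : IsField Γ(Spec K, ⊤) :=
  MulEquiv.isField hK (Scheme.ΓSpecIso K).commRingCatIsoToRingEquiv.toMulEquiv

variable {X Y : Scheme.{u}} [IsAffine X] [IsAffine Y] (f : X ⟶ Y) (y : Y)

theorem exists_vector [LocallyOfFiniteType f] (e : ℕ)
    (he : topologicalKrullDim ↥(f.fiber y) = e) :
    ∃ v : Fin e → Γ(X, ⊤), ∀ {R' S' : CommRingCat.{u}} (a : Γ(X, ⊤) ⟶ S')
      (b : Γ(Spec (Y.residueField y), ⊤) ⟶ S')
      (_ : IsPushout f.appTop (Y.fromSpecResidueField y).appTop a b)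
      (ρ : Γ(Spec (Y.residueField y), ⊤) ⟶ R') (T' : Fin e → R') (χ : R' ⟶ S'), ρ ≫ χ = b →
      (∀ i, χ (T' i) = a (v i)) → χ.hom.Finite := by
  have HF : IsPullback (f.fiberι y) (f.fiberToSpecResidueField y) f (Y.fromSpecResidueField y) :=
    IsPullback.of_hasPullback f (Y.fromSpecResidueField y)
  have HC := isPushout_appTop_of_isPullback HF
  haveI : IsAffine (f.fiber y) := by
    unfold Scheme.Hom.fiber
    infer_instance
  have hd : ringKrullDim Γ(f.fiber y, ⊤) = e := by rw [ringKrullDim_Γ, he]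
  have hκ : IsField Γ(Spec (Y.residueField y), ⊤) :=
    isField_Γ_Spec _ (Field.toIsField (Y.residueField y))
  have hφ : f.appTop.hom.FiniteType :=
    (HasRingHomProperty.iff_of_isAffine (P := @LocallyOfFiniteType)).mp inferInstance
  have hσ : (Y.fromSpecResidueField y).appTop.hom.SurjectiveOnStalks :=
    SurjectiveOnStalks.iff_of_isAffine.mp inferInstance
  exact AffSpPush.main_ring _ _ _ _ HC hκ hφ hσ e hd


/-- the pasted pullback square of the base change of `g` to the fibre of affine space -/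
theorem isPullback_paste {n : Type u} (g : X ⟶ 𝔸(n; Y)) (hg : g ≫ (𝔸(n; Y) ↘ Y) = f) :
    IsPullback (pullback.fst g ((𝔸(n; Y) ↘ Y).fiberι y))
      (pullback.snd g ((𝔸(n; Y) ↘ Y).fiberι y) ≫ (𝔸(n; Y) ↘ Y).fiberToSpecResidueField y)
      f (Y.fromSpecResidueField y) := by
  have HW := IsPullback.of_hasPullback g ((𝔸(n; Y) ↘ Y).fiberι y)
  have Hq : IsPullback ((𝔸(n; Y) ↘ Y).fiberι y) ((𝔸(n; Y) ↘ Y).fiberToSpecResidueField y)
      (𝔸(n; Y) ↘ Y) (Y.fromSpecResidueField y) :=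
    IsPullback.of_hasPullback (𝔸(n; Y) ↘ Y) (Y.fromSpecResidueField y)
  have := HW.paste_vert Hq
  rwa [hg] at this

instance {n : Type u} : IsAffine ((𝔸(n; Y) ↘ Y).fiber y) := by
  unfold Scheme.Hom.fiber
  infer_instance

instance {n : Type u} (g : X ⟶ 𝔸(n; Y)) : IsAffine (pullback g ((𝔸(n; Y) ↘ Y).fiberι y)) := by
  haveI : IsAffineHom (Y.fromSpecResidueField y) := isAffineHom_of_isAffine _
  haveI : IsAffineHom ((𝔸(n; Y) ↘ Y).fiberι y) := by
    unfold Scheme.Hom.fiberι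
    infer_instance
  infer_instance

theorem isFinite_snd (e : ℕ) (v : Fin e → Γ(X, ⊤))
    (hv : ∀ {R' S' : CommRingCat.{u}} (a : Γ(X, ⊤) ⟶ S')
      (b : Γ(Spec (Y.residueField y), ⊤) ⟶ S')
      (_ : IsPushout f.appTop (Y.fromSpecResidueField y).appTop a b)
      (ρ : Γ(Spec (Y.residueField y), ⊤) ⟶ R') (T' : Fin e → R') (χ : R' ⟶ S'), ρ ≫ χ = b →
      (∀ i, χ (T' i) = a (v i)) → χ.hom.Finite)
    (g : X ⟶ 𝔸(ULift.{u} (Fin e); Y)) (hg : g ≫ (𝔸(ULift.{u} (Fin e); Y) ↘ Y) = f)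
    (hgv : ∀ i : Fin e, g.appTop (AffineSpace.coord Y (ULift.up i)) = v i) :
    IsFinite (pullback.snd g ((𝔸(ULift.{u} (Fin e); Y) ↘ Y).fiberι y)) := by
  rw [HasAffineProperty.iff_of_isAffine (P := @IsFinite)]
  refine ⟨inferInstance, ?_⟩
  have HP := isPullback_paste f y g hg
  have HS := isPushout_appTop_of_isPullback HP
  refine hv _ _ HS ((𝔸(ULift.{u} (Fin e); Y) ↘ Y).fiberToSpecResidueField y).appTop
    (fun i => ((𝔸(ULift.{u} (Fin e); Y) ↘ Y).fiberι y).appTop (AffineSpace.coord Y (ULift.up i)))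
    _ ?_ ?_
  · rw [← Scheme.Hom.comp_appTop]
  · intro i
    rw [← hgv i]
    have h1 : pullback.snd g ((𝔸(ULift.{u} (Fin e); Y) ↘ Y).fiberι y) ≫
        (𝔸(ULift.{u} (Fin e); Y) ↘ Y).fiberι y =
        pullback.fst g ((𝔸(ULift.{u} (Fin e); Y) ↘ Y).fiberι y) ≫ g := pullback.condition.symm
    have h2 := congrArg (fun φ => φ.appTop (AffineSpace.coord Y (ULift.up i))) h1
    simpa only [Scheme.Hom.comp_appTop, CommRingCat.comp_apply] using h2

end Groth.Agent.Helper14.AffSpFibre
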