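import Mathlib
import Groth.Agent.Lib.Helper7.IntDim

/-!
# A finite ring map from a domain to a ring of the same finite Krull dimension is injective,
hence surjective on spectra
-/

set_option autoImplicit false
universe u

namespace Groth.Agent.Helper14.FiniteSurj

theorem injective_of_finite_of_dim_eq {R S : Type u} [CommRing R] [CommRing S] [IsDomain R]
    (χ : R →+* S) (hχ : χ.Finite) (e : ℕ) (hR : ringKrullDim R = e) (hS : ringKrullDim S = e) :
    Function.Injective χ := by
  rw [injective_iff_map_eq_zero]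
  intro r hr
  by_contra hne
  -- the quotient by the kernel
  let I := RingHom.ker χ
  have hrI : r ∈ I := hr
  let ψ : R ⧸ I →+* S := RingHom.kerLift χ
  have hψinj : Function.Injective ψ := RingHom.kerLift_injective χ
  letI : Algebra (R ⧸ I) S := ψ.toAlgebra
  have hint : χ.IsIntegral := hχ.to_isIntegral
  haveI : Algebra.IsIntegral (R ⧸ I) S := by
    refine ⟨fun s => ?_⟩
    obtain ⟨p, hp, hps⟩ := hint s
    refine ⟨p.map (Ideal.Quotient.mk I), hp.map _, ?_⟩
    rw [Polynomial.eval₂_map]
    have : (algebraMap (R ⧸ I) S).comp (Ideal.Quotient.mk I) = χ := by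
      ext x
      rfl
    rw [this]
    exact hps
  have h1 := Groth.Agent.Helper7.IntDim.ringKrullDim_eq_of_isIntegral_of_injective
    (A := R ⧸ I) (B := S) hψinj
  have hrnz : r ∈ nonZeroDivisors R := mem_nonZeroDivisors_of_ne_zero hne
  have h2 := ringKrullDim_quotient_succ_le_of_nonZeroDivisor hrnz
  have h3 : ringKrullDim (R ⧸ I) ≤ ringKrullDim (R ⧸ Ideal.span {r}) := by
    have hle : Ideal.span {r} ≤ I := (Ideal.span_singleton_le_iff_mem I).mpr hrI
    exact ringKrullDim_le_of_surjective (Ideal.Quotient.factor hle)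
      (Ideal.Quotient.factor_surjective hle)
  rw [← h1, hS] at h3
  rw [hR] at h2
  have h4 : ((e : WithBot ℕ∞)) + 1 ≤ e := le_trans (add_le_add_left h3 1) h2
  have h5 : ((e + 1 : ℕ) : WithBot ℕ∞) ≤ ((e : ℕ) : WithBot ℕ∞) := by exact_mod_cast h4
  have h6 : e + 1 ≤ e := by exact_mod_cast h5
  omega

theorem comap_surjective_of_finite_of_dim_eq {R S : Type u} [CommRing R] [CommRing S] [IsDomain R]
    (χ : R →+* S) (hχ : χ.Finite) (e : ℕ) (hR : ringKrullDim R = e) (hS : ringKrullDim S = e) :
    Function.Surjective (PrimeSpectrum.comap χ) := by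
  have hinj := injective_of_finite_of_dim_eq χ hχ e hR hS
  intro P
  letI : Algebra R S := χ.toAlgebra
  haveI : Algebra.IsIntegral R S := ⟨hχ.to_isIntegral⟩
  obtain ⟨Q, -, hQ, hQP⟩ := Ideal.exists_ideal_over_prime_of_isIntegral P.asIdeal (⊥ : Ideal S) (by
    rw [Ideal.comap_bot_of_injective (algebraMap R S) hinj]; exact bot_le)
  exact ⟨⟨Q, hQ⟩, PrimeSpectrum.ext hQP⟩

end Groth.Agent.Helper14.FiniteSurj
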