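import Mathlib
import Groth.Agent.Lib.Helper14.AffSpFibre
import Groth.Agent.Lib.Helper14.FiniteSurj

/-!
# The fibres of affine space, and surjectivity of finite maps onto them
-/

set_option autoImplicit false
universe u
open AlgebraicGeometry CategoryTheory CategoryTheory.Limits

namespace Groth.Agent.Helper14.AffSpFibre

/-- the fibre of affine space over `y` is the affine space over the residue field -/
noncomputable def fibreAffineSpaceIso (n : Type u) (Y : Scheme.{u}) (y : Y) :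
    (𝔸(n; Y) ↘ Y).fiber y ≅ Spec (.of (MvPolynomial n (Y.residueField y))) :=
  ((AffineSpace.isPullback_map (n := n) (Y.fromSpecResidueField y)).isoIsPullback _ _
    (IsPullback.of_hasPullback (𝔸(n; Y) ↘ Y) (Y.fromSpecResidueField y))).symm ≪≫
    AffineSpace.SpecIso n (Y.residueField y)

/-- ring of global sections of the fibre of affine space -/
noncomputable def ΓfibreAffineSpaceEquiv (n : Type u) (Y : Scheme.{u}) (y : Y) :
    Γ((𝔸(n; Y) ↘ Y).fiber y, ⊤) ≃+* MvPolynomial n (Y.residueField y) :=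
  ((Scheme.Γ.mapIso (fibreAffineSpaceIso n Y y).op).symm ≪≫
    Scheme.ΓSpecIso (.of (MvPolynomial n (Y.residueField y)))).commRingCatIsoToRingEquiv

theorem isDomain_Γ_fibre (n : Type u) (Y : Scheme.{u}) (y : Y) :
    IsDomain Γ((𝔸(n; Y) ↘ Y).fiber y, ⊤) :=
  (ΓfibreAffineSpaceEquiv n Y y).toMulEquiv.isDomain _

theorem ringKrullDim_Γ_fibre (e : ℕ) (Y : Scheme.{u}) (y : Y) :
    ringKrullDim Γ((𝔸(ULift.{u} (Fin e); Y) ↘ Y).fiber y, ⊤) = e := by
  rw [ringKrullDim_eq_of_ringEquiv (ΓfibreAffineSpaceEquiv (ULift.{u} (Fin e)) Y y),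
    MvPolynomial.ringKrullDim_of_isNoetherianRing, ringKrullDim_eq_zero_of_field]
  simp

variable {X Y : Scheme.{u}} [IsAffine X] [IsAffine Y] (f : X ⟶ Y) (y : Y)

theorem topDim_pullback {n : Type u} (g : X ⟶ 𝔸(n; Y)) (hg : g ≫ (𝔸(n; Y) ↘ Y) = f) :
    topologicalKrullDim ↥(pullback g ((𝔸(n; Y) ↘ Y).fiberι y)) =
      topologicalKrullDim ↥(f.fiber y) := by
  have HP := isPullback_paste f y g hg
  have HF : IsPullback (f.fiberι y) (f.fiberToSpecResidueField y) f (Y.fromSpecResidueField y) :=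
    IsPullback.of_hasPullback f (Y.fromSpecResidueField y)
  exact IsHomeomorph.topologicalKrullDim_eq _ (HP.isoIsPullback _ _ HF).hom.homeomorph.isHomeomorph

theorem surjective_snd (e : ℕ) (he : topologicalKrullDim ↥(f.fiber y) = e)
    (g : X ⟶ 𝔸(ULift.{u} (Fin e); Y)) (hg : g ≫ (𝔸(ULift.{u} (Fin e); Y) ↘ Y) = f)
    (hfin : IsFinite (pullback.snd g ((𝔸(ULift.{u} (Fin e); Y) ↘ Y).fiberι y))) :
    Function.Surjective (pullback.snd g ((𝔸(ULift.{u} (Fin e); Y) ↘ Y).fiberι y)).base := by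
  set h := pullback.snd g ((𝔸(ULift.{u} (Fin e); Y) ↘ Y).fiberι y) with hh
  have hχ : h.appTop.hom.Finite :=
    ((HasAffineProperty.iff_of_isAffine (P := @IsFinite)).mp hfin).2
  haveI := isDomain_Γ_fibre (ULift.{u} (Fin e)) Y y
  have hR := ringKrullDim_Γ_fibre e Y y
  have hS : ringKrullDim Γ(pullback g ((𝔸(ULift.{u} (Fin e); Y) ↘ Y).fiberι y), ⊤) = e := by
    rw [ringKrullDim_Γ, topDim_pullback f y g hg, he]
  have hsurj := FiniteSurj.comap_surjective_of_finite_of_dim_eq h.appTop.hom hχ e hR hS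
  have h1 : Surjective (Spec.map h.appTop) := ⟨hsurj⟩
  have h2 : Surjective h :=
    (MorphismProperty.arrow_mk_iso_iff @Surjective (arrowIsoSpecΓOfIsAffine h)).mpr h1
  exact h2.surj

end Groth.Agent.Helper14.AffSpFibre
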