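import Mathlib
import Groth.Prelude.Def_Flat
import Groth.Agent.Lib.Helper14.AffSpFibre2
import Groth.Agent.Lib.Helper14.FibreGeneric
import Groth.Agent.Lib.Helper14.FibreMax
import Groth.Agent.Lib.Helper14.DimClosure
import Groth.Agent.Lib.Helper15.FibDim0

/-!
# Points of affine space over a scheme: fibre dimension, maximal points
-/

set_option autoImplicit false
universe u
open AlgebraicGeometry CategoryTheory CategoryTheory.Limits

namespace Groth.Agent.Helper14.AffSpEquidim

/-- a point whose local ring has dimension zero has no proper generization -/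
theorem maximal_of_stalk_dim_zero {Z : Scheme.{u}} (z : Z)
    (h : ringKrullDim (Z.presheaf.stalk z) = 0) : ∀ z' : Z, z' ⤳ z → z' = z := by
  intro z' hz'
  rw [AlgebraicGeometry.ringKrullDim_stalk_eq_coheight] at h
  have h0 : Order.coheight z = 0 := by exact_mod_cast h
  have hmax : IsMax z := Order.coheight_eq_zero.mp h0
  have h1 : z ≤ z' := Scheme.le_iff_specializes.mpr hz'
  have h2 : z' ≤ z := hmax h1
  have h3 : z ⤳ z' := Scheme.le_iff_specializes.mp h2
  exact (hz'.antisymm h3).eq

/-- the local dimension of affine space over a field -/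
theorem localDim_mvPolynomial (K : Type u) [Field K] (e : ℕ)
    (Q : PrimeSpectrum (MvPolynomial (ULift.{u} (Fin e)) K)) :
    FlatMor.localDim (PrimeSpectrum (MvPolynomial (ULift.{u} (Fin e)) K)) Q = (e : WithBot ℕ∞) := by
  have hr : Algebra.trdeg K (MvPolynomial (ULift.{u} (Fin e)) K ⧸
      (⊥ : Ideal (MvPolynomial (ULift.{u} (Fin e)) K))) = e := by
    rw [(AlgEquiv.quotientBot K (MvPolynomial (ULift.{u} (Fin e)) K)).trdeg_eq,
      MvPolynomial.trdeg_of_isDomain]
    simp
  haveI : (⊥ : Ideal (MvPolynomial (ULift.{u} (Fin e)) K)).IsPrime := Ideal.isPrime_bot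
  exact FibreGeneric.localDim_eq_of_unique_minimal K (MvPolynomial (ULift.{u} (Fin e)) K) ⊥
    (fun _ _ => bot_le) e hr Q.asIdeal

instance (n : Type u) (Y : Scheme.{u}) (y : Y) : IsAffine ((𝔸(n; Y) ↘ Y).fiber y) := by
  unfold Scheme.Hom.fiber
  infer_instance

/-- the fibres of affine space are equidimensional -/
theorem fibreDimAt_affineSpace (Y : Scheme.{u}) (e : ℕ) (p : 𝔸(ULift.{u} (Fin e); Y)) :
    FlatMor.fibreDimAt (𝔸(ULift.{u} (Fin e); Y) ↘ Y) p = (e : WithBot ℕ∞) := by
  unfold FlatMor.fibreDimAt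
  set q := 𝔸(ULift.{u} (Fin e); Y) ↘ Y with hq
  let φ := (AffSpFibre.fibreAffineSpaceIso (ULift.{u} (Fin e)) Y (q p)).hom.homeomorph
  rw [← FibreChart.localDim_openEmbedding φ φ.isOpenEmbedding (q.asFiber p)]
  exact localDim_mvPolynomial _ e _

variable {Y : Scheme.{u}} (e : ℕ)

/-- a point of affine space over a maximal point, of full transcendence degree, is maximal -/
theorem maximal_of_trdeg (p : 𝔸(ULift.{u} (Fin e); Y))
    (hη : ∀ η' : Y, η' ⤳ (𝔸(ULift.{u} (Fin e); Y) ↘ Y) p → η' = (𝔸(ULift.{u} (Fin e); Y) ↘ Y) p)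
    (htr : @Algebra.trdeg (Y.residueField ((𝔸(ULift.{u} (Fin e); Y) ↘ Y) p))
      ((𝔸(ULift.{u} (Fin e); Y)).residueField p) _ _
      ((𝔸(ULift.{u} (Fin e); Y) ↘ Y).residueFieldMap p).hom.toAlgebra = e) :
    ∀ p' : 𝔸(ULift.{u} (Fin e); Y), p' ⤳ p → p' = p := by
  set q := 𝔸(ULift.{u} (Fin e); Y) ↘ Y with hq
  have h1 := FibreGeneric.fibreDimAt_eq_stalk_add_trdeg q p e htr
  rw [fibreDimAt_affineSpace] at h1
  have h0 : ringKrullDim ((q.fiber (q p)).presheaf.stalk (q.asFiber p)) = 0 := by
    have hnn : (0 : WithBot ℕ∞) ≤ ringKrullDim ((q.fiber (q p)).presheaf.stalk (q.asFiber p)) :=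
      ringKrullDim_nonneg_of_nontrivial
    generalize ringKrullDim ((q.fiber (q p)).presheaf.stalk (q.asFiber p)) = d at h1 hnn
    induction d using WithBot.recBotCoe with
    | bot => exact absurd hnn (by simp)
    | coe d =>
      have h2 : ((e : ℕ∞) : WithBot ℕ∞) = ((d + (e : ℕ∞) : ℕ∞) : WithBot ℕ∞) := by
        exact_mod_cast h1
      have h3 : (e : ℕ∞) = d + (e : ℕ∞) := by exact_mod_cast h2
      have h4 : d = 0 := by
        induction d using ENat.recTopCoe with
        | top => simp at h3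
        | coe d =>
          have : (e : ℕ∞) = ((d + e : ℕ) : ℕ∞) := by exact_mod_cast h3
          have h5 : e = d + e := by exact_mod_cast this
          have : d = 0 := by omega
          simp [this]
      simp [h4]
  have hmax := maximal_of_stalk_dim_zero (q.asFiber p) h0
  have hmax' := FibreMax.maximal_fiberι q (q p) (q.asFiber p) hmax
  rw [q.fiberι_asFiber] at hmax'
  intro p' hp'
  have h5 : q p' = q p := hη _ (hp'.map q.continuous)
  exact hmax' p' h5 hp'

/-- quasi-finiteness at a point forces an algebraic residue field extension -/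
theorem trdeg_eq_zero_of_quasiFiniteAt {X P : Scheme.{u}} (g : X ⟶ P) [LocallyOfFiniteType g]
    (x : X) (h : g.QuasiFiniteAt x) :
    @Algebra.trdeg (P.residueField (g x)) (X.residueField x) _ _
      (g.residueFieldMap x).hom.toAlgebra = 0 := by
  obtain ⟨n, hn⟩ := ResFieldBridge.exists_nat_trdeg_residueField g x
  have h1 := FibreGeneric.fibreDimAt_eq_stalk_add_trdeg g x n hn
  rw [(Groth.Agent.Helper15.FibDim.fibreDimAt_eq_zero_iff_quasiFiniteAt g x).mpr h] at h1
  have hnn : (0 : WithBot ℕ∞) ≤ ringKrullDim ((g.fiber (g x)).presheaf.stalk (g.asFiber x)) :=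
    ringKrullDim_nonneg_of_nontrivial
  have h2 : (n : WithBot ℕ∞) ≤ 0 := by
    rw [h1]
    exact le_add_of_nonneg_left hnn
  have h3 : n = 0 := by
    have : ((n : ℕ) : WithBot ℕ∞) ≤ ((0 : ℕ) : WithBot ℕ∞) := by exact_mod_cast h2
    have : n ≤ 0 := by exact_mod_cast this
    omega
  rw [hn, h3]
  simp

end Groth.Agent.Helper14.AffSpEquidim
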