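import Mathlib
import Groth.Prelude.Def_Flat
import Groth.Prelude.Def_EGA43
import Groth.Agent.Lib.Helper14.AffSpEquidim
import Groth.Agent.Lib.Helper14.EquidimAt
import Groth.Agent.Lib.Helper14.EquidimAtMk
import Groth.Agent.Lib.Helper14.QuasiSection
import Groth.Agent.Lib.Helper14.FibreClosure
import Groth.Agent.Lib.Helper14.MaxPoints
import Groth.Agent.Lib.Helper14.RestrictedChevalley
import Groth.Agent.Lib.Helper16.Sch.ConsFD2
import Groth.Agent.Lib.Helper9.TopDim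
import Groth.Agent.Lib.Helper4.UOpen7
import Groth.Agent.S3394
import Groth.Agent.S3395

/-!
# Equidimensional morphisms and quasi-finite morphisms to affine space (EGA IV 13.3.1)
-/

set_option autoImplicit false
universe u
open AlgebraicGeometry CategoryTheory CategoryTheory.Limits EGA43

namespace Groth.Agent.Helper14.AffSpEquidim

theorem trdeg_congr {X Y : Scheme.{u}} (φ ψ : X ⟶ Y) (h : φ = ψ) (x : X) :
    @Algebra.trdeg (Y.residueField (φ x)) (X.residueField x) _ _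
      (φ.residueFieldMap x).hom.toAlgebra =
    @Algebra.trdeg (Y.residueField (ψ x)) (X.residueField x) _ _
      (ψ.residueFieldMap x).hom.toAlgebra := by
  subst h; rfl

variable {X Y : Scheme.{u}} (f : X ⟶ Y) [LocallyOfFiniteType f]

/-- the dimension of a fibre all of whose points have local dimension `e` -/
theorem topDim_fiber_eq {X' Y' : Scheme.{u}} (f' : X' ⟶ Y') (y' : Y') (e : ℕ) (x' : X')
    (hx' : f' x' = y') (h : ∀ u : X', FlatMor.fibreDimAt f' u = e) :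
    topologicalKrullDim ↥(f'.fiber y') = e := by
  rw [Groth.Agent.Helper9.TopDim.dim_eq_iSup_localDim]
  haveI : Nonempty ↥(f'.fiber y') := ⟨(f'.fiberHomeo y').symm ⟨x', hx'⟩⟩
  have key : ∀ z : ↥(f'.fiber y'), FlatMor.localDim ↥(f'.fiber y') z = (e : WithBot ℕ∞) := by
    intro z
    have hz : f' (f'.fiberι y' z) = y' := (f'.fiberHomeo y' z).2
    have h1 := FibreChart.localDim_asFiber_congr f' (f'.fiberι y' z) y' hz
    rw [h] at h1
    rw [h1]
    congr 1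
    apply (f'.fiberHomeo y').injective
    rw [Homeomorph.apply_symm_apply]
    rfl
  simp only [key]
  exact ciSup_const


/-- the images of the maximal points under a quasi-finite morphism to affine space -/
theorem components_of_quasiFinite (e : ℕ) (U₀ : X.Opens)
    (h1 : ∀ ξ : X, ξ ∈ U₀ → (∀ ξ' : X, ξ' ⤳ ξ → ξ' = ξ) → (∀ η' : Y, η' ⤳ f ξ → η' = f ξ))
    (h2 : ∀ z : X, z ∈ U₀ → (∀ z' : X, f z' = f z → z' ⤳ z → z' = z) →
      @Algebra.trdeg (Y.residueField (f z)) (X.residueField z) _ _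
        (f.residueFieldMap z).hom.toAlgebra = e)
    (U : X.Opens) (hUle : U ≤ U₀) (g : (U : Scheme.{u}) ⟶ 𝔸(ULift.{u} (Fin e); Y))
    (hgq : g ≫ (𝔸(ULift.{u} (Fin e); Y) ↘ Y) = U.ι ≫ f) (hqf : LocallyQuasiFinite g) :
    ∀ Z ∈ irreducibleComponents (↥U : Type u),
      closure (g.base '' Z) ∈ irreducibleComponents (↥𝔸(ULift.{u} (Fin e); Y) : Type u) := by
  intro Z hZ
  obtain ⟨ξ, hcl, hξmax⟩ :=
    FibreComp.exists_maximal_of_mem_irreducibleComponents (F := (U : Scheme.{u})) Z hZ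
  have hmaxX : ∀ ξ' : X, ξ' ⤳ ξ.1 → ξ' = ξ.1 := by
    intro ξ' hξ'
    have hξ'U : ξ' ∈ U := hξ'.mem_open U.isOpen ξ.2
    have h3 : (⟨ξ', hξ'U⟩ : U) ⤳ ξ := (subtype_specializes_iff _ _).mpr hξ'
    exact congrArg Subtype.val (hξmax _ h3)
  have hcl2 : closure (g.base '' Z) = closure {g.base ξ} := by
    rw [← hcl, closure_image_closure g.continuous, Set.image_singleton]
  rw [hcl2]
  apply FibreClosure.closure_mem_irreducibleComponents_of_maximal
  haveI : LocallyOfFiniteType (g ≫ (𝔸(ULift.{u} (Fin e); Y) ↘ Y)) := by rw [hgq]; infer_instance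
  haveI : LocallyOfFiniteType g :=
    locallyOfFiniteType_of_comp g (𝔸(ULift.{u} (Fin e); Y) ↘ Y)
  have hq : (𝔸(ULift.{u} (Fin e); Y) ↘ Y) (g ξ) = f ξ.1 := by
    rw [← Scheme.Hom.comp_apply, hgq]
    rfl
  apply maximal_of_trdeg e (g ξ)
  · intro η' hη'
    rw [hq] at hη' ⊢
    exact h1 ξ.1 (hUle ξ.2) hmaxX η' hη'
  · have hc := DimClosure.trdeg_comp g (𝔸(ULift.{u} (Fin e); Y) ↘ Y) ξ
    have hE := h2 (U.ι ξ) (hUle ξ.2) (fun z' _ h => hmaxX z' h)
    rw [trdeg_congr _ _ hgq ξ, EquidimAt.trdeg_opens f U ξ, hE,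
      trdeg_eq_zero_of_quasiFiniteAt g ξ (g.quasiFiniteAt ξ), add_zero] at hc
    exact hc.symm

set_option maxHeartbeats 1600000 in
/-- **EGA IV 13.3.1 a) ⇒ b)** -/
theorem exists_quasiFinite_of_isEquidimAt (x : X) (hEq : IsEquidimAt f x) :
    ∃ (e : ℕ) (U : X.Opens) (g : (U : Scheme.{u}) ⟶ 𝔸(ULift.{u} (Fin e); Y)),
      x ∈ U ∧ g ≫ (𝔸(ULift.{u} (Fin e); Y) ↘ Y) = U.ι ≫ f ∧ LocallyQuasiFinite g ∧
      ∀ Z ∈ irreducibleComponents (↥U : Type u),
        closure (g.base '' Z) ∈ irreducibleComponents (↥𝔸(ULift.{u} (Fin e); Y) : Type u) := by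
  obtain ⟨e, U₀, hxU₀, h1, h2, h3⟩ := EquidimAt.spec f hEq
  obtain ⟨V, hV, hyV, -⟩ := exists_isAffineOpen_mem_and_subset (x := f x) (U := ⊤) trivial
  obtain ⟨U₁, hU₁, hxU₁, hU₁le⟩ := exists_isAffineOpen_mem_and_subset (x := x)
    (U := f ⁻¹ᵁ V ⊓ U₀) ⟨hyV, hxU₀⟩
  have hle : U₁ ≤ f ⁻¹ᵁ V := fun z hz => (hU₁le hz).1
  have hle₀ : U₁ ≤ U₀ := fun z hz => (hU₁le hz).2
  haveI : IsAffine (U₁ : Scheme.{u}) := hU₁
  haveI : IsAffine (V : Scheme.{u}) := hV
  set f' := f.resLE V U₁ hle with hf'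
  have hf'ι : f' ≫ V.ι = U₁.ι ≫ f := Scheme.Hom.resLE_comp_ι f hle
  let x₁ : U₁ := ⟨x, hxU₁⟩
  let y' : V := ⟨f x, hyV⟩
  have hf'x : f' x₁ = y' := by
    apply Subtype.ext
    change (f' ≫ V.ι) x₁ = f x
    rw [hf'ι]
    rfl
  have hfd : ∀ u : U₁, FlatMor.fibreDimAt f' u = e := by
    intro u
    haveI : LocallyOfFiniteType (f' ≫ V.ι) := by rw [hf'ι]; infer_instance
    rw [Groth.Agent.Helper16.ConsFD.fibreDimAt_comp_mono f' V.ι u]
    have h4 : FlatMor.fibreDimAt (f' ≫ V.ι) u = FlatMor.fibreDimAt (U₁.ι ≫ f) u := by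
      rw [hf'ι]
    rw [h4, QuasiSection.fibreDimAt_opens f U₁ u]
    exact h3 u.1 (hle₀ u.2)
  have he' : topologicalKrullDim ↥(f'.fiber y') = e := topDim_fiber_eq f' y' e x₁ hf'x hfd
  obtain ⟨g', hg', hfin⟩ := Groth.Agent.S3394.result f' y' ⟨x₁, hf'x⟩ e he'
  obtain ⟨-, U₂, hU₂, hqf⟩ := Groth.Agent.S3395.result f' y' ⟨x₁, hf'x⟩ e he' g' hg' hfin
  have hx₁U₂ : x₁ ∈ U₂ := hU₂ hf'x
  -- the open subset of `X`
  refine ⟨e, U₁.ι ''ᵁ U₂, (U₁.ι.isoImage U₂).inv ≫ U₂.ι ≫ g' ≫ AffineSpace.map _ V.ι,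
    ⟨x₁, hx₁U₂, rfl⟩, ?_, ?_, ?_⟩
  · simp only [Category.assoc]
    rw [AffineSpace.map_over, reassoc_of% hg', hf'ι]
    rw [← Category.assoc U₂.ι, ← Category.assoc, ← Category.assoc, Category.assoc _ U₂.ι,
      Scheme.Hom.isoImage_inv_ι]
  · haveI : IsOpenImmersion (AffineSpace.map (ULift.{u} (Fin e)) V.ι) :=
      MorphismProperty.of_isPullback (AffineSpace.isPullback_map (n := ULift.{u} (Fin e)) V.ι).flip
        inferInstance
    haveI : LocallyQuasiFinite (U₂.ι ≫ g') := hqf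
    have : (U₁.ι.isoImage U₂).inv ≫ U₂.ι ≫ g' ≫ AffineSpace.map _ V.ι =
        (U₁.ι.isoImage U₂).inv ≫ (U₂.ι ≫ g') ≫ AffineSpace.map _ V.ι := by
      simp only [Category.assoc]
    rw [this]
    infer_instance
  · have hgq : ((U₁.ι.isoImage U₂).inv ≫ U₂.ι ≫ g' ≫ AffineSpace.map _ V.ι) ≫
        (𝔸(ULift.{u} (Fin e); Y) ↘ Y) = (U₁.ι ''ᵁ U₂).ι ≫ f := by
      simp only [Category.assoc]
      rw [AffineSpace.map_over, reassoc_of% hg', hf'ι]
      rw [← Category.assoc U₂.ι, ← Category.assoc, ← Category.assoc, Category.assoc _ U₂.ι,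
        Scheme.Hom.isoImage_inv_ι]
    have hlqf : LocallyQuasiFinite ((U₁.ι.isoImage U₂).inv ≫ U₂.ι ≫ g' ≫ AffineSpace.map _ V.ι) := by
      haveI : IsOpenImmersion (AffineSpace.map (ULift.{u} (Fin e)) V.ι) :=
        MorphismProperty.of_isPullback (AffineSpace.isPullback_map (n := ULift.{u} (Fin e)) V.ι).flip
          inferInstance
      haveI : LocallyQuasiFinite (U₂.ι ≫ g') := hqf
      have : (U₁.ι.isoImage U₂).inv ≫ U₂.ι ≫ g' ≫ AffineSpace.map _ V.ι =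
          (U₁.ι.isoImage U₂).inv ≫ (U₂.ι ≫ g') ≫ AffineSpace.map _ V.ι := by
        simp only [Category.assoc]
      rw [this]
      infer_instance
    have hUle : U₁.ι ''ᵁ U₂ ≤ U₀ := by
      rintro _ ⟨u, -, rfl⟩
      exact hle₀ u.2
    exact components_of_quasiFinite f e U₀ (fun ξ hξ hmax => (h1 ξ hξ hmax).1) h2 _ hUle _ hgq hlqf

/-- a point whose closure is an irreducible component has no proper generization -/
theorem maximal_of_closure_mem_irreducibleComponents {T : Type*} [TopologicalSpace T] [T0Space T]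
    (η : T) (hη : closure {η} ∈ irreducibleComponents T) : ∀ ζ : T, ζ ⤳ η → ζ = η := by
  intro ζ hζ
  have h2 : closure {η} ⊆ closure {ζ} :=
    closure_minimal (Set.singleton_subset_iff.mpr (specializes_iff_mem_closure.mp hζ))
      isClosed_closure
  have h3 : closure {ζ} ⊆ closure {η} := hη.2 isIrreducible_singleton.closure h2
  have h4 : η ⤳ ζ := specializes_iff_mem_closure.mpr (h3 (subset_closure rfl))
  exact (hζ.antisymm h4).eq

set_option maxHeartbeats 1600000 in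
/-- **EGA IV 13.3.1 b) ⇒ a)** over a locally Noetherian base -/
theorem isEquidimAt_of_quasiFinite [IsLocallyNoetherian Y] (x : X) (e : ℕ) (U : X.Opens)
    (g : (U : Scheme.{u}) ⟶ 𝔸(ULift.{u} (Fin e); Y)) (hxU : x ∈ U)
    (hgq : g ≫ (𝔸(ULift.{u} (Fin e); Y) ↘ Y) = U.ι ≫ f) (hqf : LocallyQuasiFinite g)
    (hcomp : ∀ Z ∈ irreducibleComponents (↥U : Type u),
      closure (g.base '' Z) ∈ irreducibleComponents (↥𝔸(ULift.{u} (Fin e); Y) : Type u)) :
    IsEquidimAt f x := by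
  haveI : IsLocallyNoetherian X := LocallyOfFiniteType.isLocallyNoetherian f
  obtain ⟨U', hxU', hspec⟩ := EquidimAt.exists_nhd_maximal_specializes x
  haveI : LocallyOfFiniteType (g ≫ (𝔸(ULift.{u} (Fin e); Y) ↘ Y)) := by rw [hgq]; infer_instance
  haveI : LocallyOfFiniteType g :=
    locallyOfFiniteType_of_comp g (𝔸(ULift.{u} (Fin e); Y) ↘ Y)
  set q := 𝔸(ULift.{u} (Fin e); Y) ↘ Y with hq
  -- the image of a maximal point of `U`
  have hmaxP : ∀ ξ : U, (∀ ξ' : X, ξ' ⤳ ξ.1 → ξ' = ξ.1) →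
      ∀ p' : 𝔸(ULift.{u} (Fin e); Y), p' ⤳ g ξ → p' = g ξ := by
    intro ξ hξ
    have hξU := EquidimAt.maximal_opens U ξ.1 ξ.2 hξ
    have hZ := FibreClosure.closure_mem_irreducibleComponents_of_maximal
      (X := (U : Scheme.{u})) (⟨ξ.1, ξ.2⟩ : U) hξU
    have h4 := hcomp _ hZ
    rw [closure_image_closure g.continuous, Set.image_singleton] at h4
    exact maximal_of_closure_mem_irreducibleComponents _ h4
  have hqg : ∀ z : U, q (g z) = f z.1 := by
    intro z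
    rw [← Scheme.Hom.comp_apply, hgq]
    rfl
  -- transcendence degrees through `g`
  have htr : ∀ z : U, @Algebra.trdeg (Y.residueField (f (U.ι z))) (X.residueField (U.ι z)) _ _
      (f.residueFieldMap (U.ι z)).hom.toAlgebra =
      @Algebra.trdeg (Y.residueField (q (g z))) ((𝔸(ULift.{u} (Fin e); Y)).residueField (g z)) _ _
        (q.residueFieldMap (g z)).hom.toAlgebra := by
    intro z
    have hc := DimClosure.trdeg_comp g q z
    rw [trdeg_congr _ _ hgq z, EquidimAt.trdeg_opens f U z,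
      trdeg_eq_zero_of_quasiFiniteAt g z (g.quasiFiniteAt z), add_zero] at hc
    exact hc
  have htrmax : ∀ ξ : U, (∀ ξ' : X, ξ' ⤳ ξ.1 → ξ' = ξ.1) →
      @Algebra.trdeg (Y.residueField (f (U.ι ξ))) (X.residueField (U.ι ξ)) _ _
        (f.residueFieldMap (U.ι ξ)).hom.toAlgebra = e := by
    intro ξ hξ
    rw [htr ξ]
    obtain ⟨n, hn⟩ := ResFieldBridge.exists_nat_trdeg_residueField q (g ξ)
    have h5 := FibreMax.fibreDimAt_eq_of_maximal q (g ξ)
      (fun p₁ _ hp₁ => hmaxP ξ hξ p₁ hp₁) n hn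
    rw [fibreDimAt_affineSpace] at h5
    rw [hn]
    have : ((e : ℕ) : WithBot ℕ∞) = ((n : ℕ) : WithBot ℕ∞) := h5
    have : e = n := by exact_mod_cast this
    rw [this]
  refine EquidimAt.of_spec f x e (U ⊓ U') ⟨hxU, hxU'⟩ ?_ ?_
  · intro ξ hξmem hξ
    refine ⟨?_, (hspec ξ hξmem.2 hξ).map f.continuous⟩
    intro η' hη'
    have h6 := hmaxP ⟨ξ, hξmem.1⟩ hξ
    have hη'' : η' ⤳ q (g ⟨ξ, hξmem.1⟩) := by rw [hqg]; exact hη'
    obtain ⟨p₁, hp₁, hqp₁⟩ := Groth.Agent.Helper4.UOpen.genAt_of_isOpenAt q (g ⟨ξ, hξmem.1⟩)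
      ((Groth.Agent.Helper4.UOpen.isOpenMap_iff_isOpenAt _).mp (AffineSpace.isOpenMap_over Y) _) η' hη''
    rw [← hqp₁, h6 p₁ hp₁, hqg]
  · intro z hzmem hzmax
    obtain ⟨m, hm⟩ := ResFieldBridge.exists_nat_trdeg_residueField f z
    -- upper bound
    have hle : m ≤ e := by
      have h7 := htr ⟨z, hzmem.1⟩
      have hm' : @Algebra.trdeg (Y.residueField (f (U.ι ⟨z, hzmem.1⟩)))
          (X.residueField (U.ι ⟨z, hzmem.1⟩)) _ _
          (f.residueFieldMap (U.ι ⟨z, hzmem.1⟩)).hom.toAlgebra = m := hm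
      rw [hm'] at h7
      have h8 := EquidimAt.trdeg_le_fibreDimAt q (g ⟨z, hzmem.1⟩) (g ⟨z, hzmem.1⟩) specializes_rfl
        m h7.symm
      rw [fibreDimAt_affineSpace] at h8
      exact_mod_cast h8
    -- lower bound
    obtain ⟨ξ, hξmax, hξz⟩ := MaxPoints.exists_maximal_specializes z
    have hξU : ξ ∈ U := hξz.mem_open U.isOpen hzmem.1
    have hE := htrmax ⟨ξ, hξU⟩ hξmax
    obtain ⟨x₁, -, hx₁z, hfx₁, n₁, hn₁, hle'⟩ := RestrictedChevalley.rc f z ξ hξz e hE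
    have hx₁ := hzmax x₁ hfx₁ hx₁z
    subst hx₁
    have h9 : n₁ = m := by
      have := hn₁.symm.trans hm
      exact_mod_cast this
    have h10 : m = e := by omega
    rw [hm, h10]

end Groth.Agent.Helper14.AffSpEquidim
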