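import Mathlib

/-!
# Homogeneous forms avoiding finitely many primes (helper14)

Algebraic input for "a section of an ample power through the image of `Spec A`, `A` integral
over a field".
-/

set_option autoImplicit false
universe u v
open MvPolynomial

namespace Groth.Agent.Helper14.AmpleInt

/-- noncommutative homogeneous forms of degree `d` in the variables `ι`, with integer coefficients. -/
def Form (ι : Type) : ℕ → Type
  | 0 => ℤ
  | d + 1 => ι → Form ι d

/-- the coefficient of a form of degree `0`. -/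
def Form.toInt {ι : Type} (c : Form ι 0) : ℤ := c

/-- the form of degree `0` with given coefficient. -/
def Form.ofInt {ι : Type} (c : ℤ) : Form ι 0 := c

/-- the components `F = ∑ F_i x_i` of a form of positive degree. -/
def Form.comp {ι : Type} {d : ℕ} (F : Form ι (d + 1)) (i : ι) : Form ι d := F i

/-- the form `∑ G_i x_i`. -/
def Form.mk {ι : Type} {d : ℕ} (G : ι → Form ι d) : Form ι (d + 1) := G

lemma Form.toInt_ofInt {ι : Type} (c : ℤ) : (Form.ofInt (ι := ι) c).toInt = c := rfl

lemma Form.comp_mk {ι : Type} {d : ℕ} (G : ι → Form ι d) (i : ι) : (Form.mk G).comp i = G i := rfl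

section evalF

variable {ι : Type} [Fintype ι]

/-- evaluation of a form at a point of a commutative ring. -/
noncomputable def evalF {R : Type u} [CommRing R] : (d : ℕ) → Form ι d → (ι → R) → R
  | 0, c, _ => ((c.toInt : ℤ) : R)
  | d + 1, F, a => ∑ i, evalF d (F.comp i) a * a i

lemma evalF_zero {R : Type u} [CommRing R] (c : Form ι 0) (a : ι → R) :
    evalF 0 c a = ((c.toInt : ℤ) : R) := rfl

lemma evalF_succ {R : Type u} [CommRing R] (d : ℕ) (F : Form ι (d + 1)) (a : ι → R) :
    evalF (d + 1) F a = ∑ i, evalF d (F.comp i) a * a i := rfl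

lemma evalF_smul {R : Type u} [CommRing R] (d : ℕ) (F : Form ι d) (t : R) (a : ι → R) :
    evalF d F (fun i => t * a i) = t ^ d * evalF d F a := by
  induction d with
  | zero => simp [evalF_zero]
  | succ d ih =>
    rw [evalF_succ, evalF_succ, Finset.mul_sum]
    refine Finset.sum_congr rfl fun i _ => ?_
    rw [ih]; ring

lemma evalF_map {R : Type u} {S : Type v} [CommRing R] [CommRing S] (φ : R →+* S) (d : ℕ)
    (F : Form ι d) (a : ι → R) : φ (evalF d F a) = evalF d F (fun i => φ (a i)) := by
  induction d with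
  | zero => simp [evalF_zero]
  | succ d ih =>
    rw [evalF_succ, evalF_succ, map_sum]
    refine Finset.sum_congr rfl fun i _ => ?_
    rw [map_mul, ih]

/-- a positive degree form vanishes at a point all of whose coordinates lie in an ideal. -/
lemma evalF_mem {R : Type u} [CommRing R] (I : Ideal R) (d : ℕ) (F : Form ι (d + 1)) (a : ι → R)
    (ha : ∀ i, a i ∈ I) : evalF (d + 1) F a ∈ I := by
  rw [evalF_succ]
  exact I.sum_mem fun i _ => I.mul_mem_left _ (ha i)

end evalF

section Decomp

variable {ι : Type} [Fintype ι]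

theorem exists_decomp (d : ℕ) (P : MvPolynomial ι ℤ) (hP : P.IsHomogeneous (d + 1)) :
    ∃ Q : ι → MvPolynomial ι ℤ, (∀ i, (Q i).IsHomogeneous d) ∧ P = ∑ i, Q i * X i := by
  classical
  have hmem : P ∈ homogeneousSubmodule ι ℤ d * homogeneousSubmodule ι ℤ 1 := by
    rw [← homogeneousSubmodule_one_pow (σ := ι) (R := ℤ) d, ← pow_succ, homogeneousSubmodule_one_pow]
    exact hP
  refine Submodule.mul_induction_on hmem ?_ ?_
  · intro q hq l hl
    rw [homogeneousSubmodule_one_eq_span_X] at hl
    induction hl using Submodule.span_induction with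
    | mem x hx =>
      obtain ⟨i, rfl⟩ := hx
      refine ⟨fun j => if j = i then q else 0, fun j => ?_, ?_⟩
      · by_cases h : j = i
        · simp only [h, if_true]; exact hq
        · simp only [h, if_false]; exact isHomogeneous_zero _ _ _
      · rw [Finset.sum_eq_single i]
        · simp
        · intro j _ hj; simp [hj]
        · intro h; exact absurd (Finset.mem_univ i) h
    | zero => exact ⟨fun _ => 0, fun _ => isHomogeneous_zero _ _ _, by simp⟩
    | add x y _ _ hx hy =>
      obtain ⟨Q₁, h₁, e₁⟩ := hx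
      obtain ⟨Q₂, h₂, e₂⟩ := hy
      refine ⟨fun i => Q₁ i + Q₂ i, fun i => (h₁ i).add (h₂ i), ?_⟩
      rw [mul_add, e₁, e₂, ← Finset.sum_add_distrib]
      exact Finset.sum_congr rfl fun i _ => by ring
    | smul r x _ hx =>
      obtain ⟨Q₁, h₁, e₁⟩ := hx
      refine ⟨fun i => C r * Q₁ i, fun i => (h₁ i).C_mul r, ?_⟩
      rw [Algebra.mul_smul_comm, e₁, Finset.smul_sum]
      refine Finset.sum_congr rfl fun i _ => ?_
      rw [MvPolynomial.smul_eq_C_mul, mul_assoc]
  · intro x y hx hy
    obtain ⟨Q₁, h₁, e₁⟩ := hx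
    obtain ⟨Q₂, h₂, e₂⟩ := hy
    refine ⟨fun i => Q₁ i + Q₂ i, fun i => (h₁ i).add (h₂ i), ?_⟩
    rw [e₁, e₂, ← Finset.sum_add_distrib]
    exact Finset.sum_congr rfl fun i _ => by ring

/-- every homogeneous polynomial of degree `d` is the commutative image of a form. -/
theorem exists_form (d : ℕ) (P : MvPolynomial ι ℤ) (hP : P.IsHomogeneous d) :
    ∃ F : Form ι d, ∀ (R : Type u) [CommRing R] (a : ι → R), evalF d F a = aeval a P := by
  induction d generalizing P with
  | zero =>
    have h0 : P = C (coeff 0 P) := by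
      have := (totalDegree_zero_iff_isHomogeneous (p := P)).mpr hP
      exact (totalDegree_eq_zero_iff_eq_C.mp this)
    refine ⟨Form.ofInt (coeff 0 P : ℤ), fun R _ a => ?_⟩
    rw [evalF_zero, Form.toInt_ofInt]
    conv_rhs => rw [h0]
    simp
  | succ d ih =>
    obtain ⟨Q, hQ, e⟩ := exists_decomp d P hP
    choose G hG using fun i => ih (Q i) (hQ i)
    refine ⟨Form.mk G, fun R _ a => ?_⟩
    rw [evalF_succ, e, map_sum]
    refine Finset.sum_congr rfl fun i _ => ?_
    rw [map_mul, aeval_X, Form.comp_mk, hG i R a]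

end Decomp

section Avoid

variable {ι : Type}

/-- homogeneous prime avoidance in `ℤ[x_i]`. -/
theorem exists_homogeneous_notMem (S : Finset (Ideal (MvPolynomial ι ℤ)))
    (hprime : ∀ p ∈ S, p.IsPrime)
    (hx : ∀ p ∈ S, ∃ (e : ℕ) (x : MvPolynomial ι ℤ), 0 < e ∧ x.IsHomogeneous e ∧ x ∉ p) :
    ∃ (d : ℕ) (f : MvPolynomial ι ℤ), 0 < d ∧ f.IsHomogeneous d ∧ ∀ p ∈ S, f ∉ p := by
  classical
  induction S using Finset.strongInduction with
  | H S ih =>
    rcases S.eq_empty_or_nonempty with rfl | hne
    · exact ⟨1, 0, one_pos, isHomogeneous_zero _ _ _, by simp⟩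
    by_cases hI : ∃ p ∈ S, ∃ p' ∈ S, p ≠ p' ∧
        ∀ (e : ℕ) (g : MvPolynomial ι ℤ), g.IsHomogeneous e → g ∈ p' → g ∈ p
    · obtain ⟨p, hp, p', hp', hne', hsub⟩ := hI
      obtain ⟨d, f, hd, hf, hav⟩ := ih (S.erase p') (Finset.erase_ssubset hp')
        (fun q hq => hprime q (Finset.mem_of_mem_erase hq))
        (fun q hq => hx q (Finset.mem_of_mem_erase hq))
      refine ⟨d, f, hd, hf, fun q hq => ?_⟩
      by_cases hqp : q = p'
      · subst hqp
        intro hfq
        exact hav p (Finset.mem_erase.mpr ⟨hne', hp⟩) (hsub d f hf hfq)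
      · exact hav q (Finset.mem_erase.mpr ⟨hqp, hq⟩)
    · push_neg at hI
      obtain ⟨p, hp⟩ := hne
      obtain ⟨d, f, hd, hf, hav⟩ := ih (S.erase p) (Finset.erase_ssubset hp)
        (fun q hq => hprime q (Finset.mem_of_mem_erase hq))
        (fun q hq => hx q (Finset.mem_of_mem_erase hq))
      by_cases hfp : f ∉ p
      · refine ⟨d, f, hd, hf, fun q hq => ?_⟩
        by_cases hqp : q = p
        · subst hqp; exact hfp
        · exact hav q (Finset.mem_erase.mpr ⟨hqp, hq⟩)
      rw [not_not] at hfp
      haveI := hprime p hp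
      obtain ⟨e₀, x₀, he₀, hx₀, hx₀p⟩ := hx p hp
      -- for each other prime, a homogeneous element in it but not in `p`
      have hch : ∀ q : Ideal (MvPolynomial ι ℤ), ∃ (e : ℕ) (g : MvPolynomial ι ℤ),
          g.IsHomogeneous e ∧ g ∉ p ∧ (q ∈ S.erase p → g ∈ q) := by
        intro q
        by_cases hq : q ∈ S.erase p
        · obtain ⟨e, g, hg, hgq, hgp⟩ := hI p hp q (Finset.mem_of_mem_erase hq)
            (Finset.ne_of_mem_erase hq).symm
          exact ⟨e, g, hg, hgp, fun _ => hgq⟩
        · exact ⟨0, 1, isHomogeneous_one _ _, (Ideal.ne_top_iff_one p).mp (hprime p hp).ne_top,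
            fun h => absurd h hq⟩
      choose ee gg hgg hggp hggq using hch
      set g : MvPolynomial ι ℤ := x₀ * ∏ q ∈ S.erase p, gg q with hgdef
      set e : ℕ := e₀ + ∑ q ∈ S.erase p, ee q with hedef
      have hghom : g.IsHomogeneous e := hx₀.mul (IsHomogeneous.prod _ _ _ fun q _ => hgg q)
      have hepos : 0 < e := by omega
      have hgp : g ∉ p := by
        intro h
        rcases (hprime p hp).mem_or_mem h with h | h
        · exact hx₀p h
        · obtain ⟨q, -, hq⟩ := (Ideal.IsPrime.prod_mem_iff).mp h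
          exact hggp q hq
      have hgq : ∀ q ∈ S.erase p, g ∈ q := by
        intro q hq
        refine Ideal.mul_mem_left _ _ ?_
        exact Ideal.mem_of_dvd _ (Finset.dvd_prod_of_mem _ hq) (hggq q hq)
      refine ⟨d * e, f ^ e + g ^ d, Nat.mul_pos hd hepos, ?_, fun q hq => ?_⟩
      · refine (hf.pow e).add ?_
        have := hghom.pow d
        rwa [mul_comm] at this
      · by_cases hqp : q = p
        · subst hqp
          intro h
          have h1 : g ^ d ∈ q := by
            have := q.sub_mem h (q.pow_mem_of_mem hfp e hepos)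
            simpa using this
          exact hgp ((hprime q hq).mem_of_pow_mem _ h1)
        · have hq' : q ∈ S.erase p := Finset.mem_erase.mpr ⟨hqp, hq⟩
          intro h
          have h1 : f ^ e ∈ q := by
            have := q.sub_mem h (q.pow_mem_of_mem (hgq q hq') d hd)
            simpa using this
          exact hav q hq' ((hprime q hq).mem_of_pow_mem _ h1)

end Avoid

section Core

/-- every finite subset lies in a subring with finite prime spectrum. -/
def FinSpecLocally (B : Type u) [CommRing B] : Prop :=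
  ∀ S : Finset B, ∃ B' : Subring B, (↑S ⊆ (B' : Set B)) ∧ Finite (PrimeSpectrum B')

theorem finSpecLocally_of_isIntegral (k : Type v) (A : Type u) [Field k] [CommRing A] [Algebra k A]
    [Algebra.IsIntegral k A] : FinSpecLocally A := by
  intro S
  let A' : Subalgebra k A := Algebra.adjoin k (S : Set A)
  haveI : Module.Finite k A' :=
    Algebra.finite_adjoin_of_finite_of_isIntegral S.finite_toSet
      (fun x _ => Algebra.IsIntegral.isIntegral x)
  haveI : IsArtinianRing A' := IsArtinianRing.of_finite k A'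
  refine ⟨A'.toSubring, fun x hx => Algebra.subset_adjoin hx, ?_⟩
  change Finite (PrimeSpectrum A')
  infer_instance

theorem FinSpecLocally.of_ringEquiv {A : Type u} {B : Type v} [CommRing A] [CommRing B]
    (e : A ≃+* B) (h : FinSpecLocally A) : FinSpecLocally B := by
  classical
  intro S
  obtain ⟨A', hS, hfin⟩ := h (S.image e.symm)
  refine ⟨A'.map (e : A →+* B), fun x hx => ?_, ?_⟩
  · refine ⟨e.symm x, hS (by simpa using Finset.mem_image_of_mem e.symm hx), by simp⟩
  · let e' : A' ≃+* A'.map (e : A →+* B) := A'.equivMapOfInjective (e : A →+* B) e.injective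
    exact Finite.of_equiv _ (PrimeSpectrum.comapEquiv e'.symm).toEquiv.symm

lemma hom_aeval_int {B' : Type u} {B : Type v} [CommRing B'] [CommRing B] {ι : Type}
    (φ : B' →+* B) (c : ι → B') (P : MvPolynomial ι ℤ) :
    φ (aeval c P) = aeval (fun i => φ (c i)) P := by
  induction P using MvPolynomial.induction_on with
  | C a => simp
  | add p q hp hq => simp [hp, hq]
  | mul_X p i hp => simp [hp]

theorem core {B : Type u} [CommRing B] (hB : FinSpecLocally B) {ι : Type} {μ : Type v} [Fintype ι] [Finite μ]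
    (c : μ → ι → B) (i : μ → ι) :
    ∃ (d : ℕ) (F : Form ι (d + 1)),
      ∀ (m : μ) (q : Ideal B), q.IsPrime → c m (i m) ∉ q → evalF (d + 1) F (c m) ∉ q := by
  classical
  haveI : Fintype μ := Fintype.ofFinite μ
  obtain ⟨B', hS, hfin⟩ := hB (Finset.univ.image (fun p : μ × ι => c p.1 p.2))
  haveI := hfin
  haveI : Fintype (PrimeSpectrum B') := Fintype.ofFinite _
  have hc : ∀ m j, c m j ∈ B' := fun m j =>
    hS (by simpa using Finset.mem_image_of_mem (fun p : μ × ι => c p.1 p.2) (Finset.mem_univ (m, j)))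
  let c' : μ → ι → B' := fun m j => ⟨c m j, hc m j⟩
  let pr : μ × PrimeSpectrum B' → Ideal (MvPolynomial ι ℤ) := fun p =>
    RingHom.ker ((Ideal.Quotient.mk p.2.asIdeal).comp (aeval (c' p.1) : MvPolynomial ι ℤ →ₐ[ℤ] B').toRingHom)
  let T : Finset (Ideal (MvPolynomial ι ℤ)) :=
    (Finset.univ.filter (fun p : μ × PrimeSpectrum B' => c' p.1 (i p.1) ∉ p.2.asIdeal)).image pr
  obtain ⟨d, P, hd, hP, hav⟩ := exists_homogeneous_notMem T
    (by
      intro p hp
      obtain ⟨x, -, rfl⟩ := Finset.mem_image.mp hp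
      exact RingHom.ker_isPrime _)
    (by
      intro p hp
      obtain ⟨x, hx, rfl⟩ := Finset.mem_image.mp hp
      refine ⟨1, X (i x.1), one_pos, isHomogeneous_X _ _, ?_⟩
      intro h
      have hx' := (Finset.mem_filter.mp hx).2
      rw [RingHom.mem_ker] at h
      simp only [RingHom.coe_comp, Function.comp_apply, AlgHom.toRingHom_eq_coe, RingHom.coe_coe,
        aeval_X] at h
      exact hx' (Ideal.Quotient.eq_zero_iff_mem.mp h))
  obtain ⟨d', rfl⟩ : ∃ d', d = d' + 1 := ⟨d - 1, by omega⟩
  obtain ⟨F, hF⟩ := exists_form.{u} (d' + 1) P hP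
  refine ⟨d', F, fun m q hq hcq => ?_⟩
  haveI := hq
  let q' : PrimeSpectrum B' := ⟨q.comap B'.subtype, inferInstance⟩
  have hvalid : c' m (i m) ∉ q'.asIdeal := fun h => hcq h
  have hmem : pr (m, q') ∈ T :=
    Finset.mem_image_of_mem pr (Finset.mem_filter.mpr ⟨Finset.mem_univ _, hvalid⟩)
  have h1 := hav _ hmem
  intro hcontra
  apply h1
  rw [RingHom.mem_ker]
  simp only [RingHom.coe_comp, Function.comp_apply, AlgHom.toRingHom_eq_coe, RingHom.coe_coe]
  rw [Ideal.Quotient.eq_zero_iff_mem]
  change B'.subtype (aeval (c' m) P) ∈ q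
  rw [hom_aeval_int]
  rw [hF B (c m)] at hcontra
  exact hcontra

end Core

end Groth.Agent.Helper14.AmpleInt
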