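import Mathlib
import Groth.Agent.Lib.Helper13.AmpleBasis
import Groth.Agent.Lib.Helper14.AmpleIntA

set_option autoImplicit false
universe u
open CategoryTheory CategoryTheory.Limits AlgebraicGeometry Opposite TopologicalSpace TensorProduct
open Groth.Agent.Helper13.QCoh Groth.Agent.Helper13.FinType Groth.Agent.Helper13.Tensor
open Groth.Agent.Helper13.Inv Groth.Agent.Helper13.GenLoc Groth.Agent.Helper13.Qcqs
open Groth.Agent.Helper13.Twist Groth.Agent.Helper13

namespace Groth.Agent.Helper14.AmpleInt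

variable {X : Scheme.{u}}

/-- the section over `U` named by a morphism `O ⟶ L`. -/
noncomputable abbrev vl {L : X.Modules} (s : Coh.structureModule X ⟶ L) (U : X.Opens) : Γ(L, U) :=
  SecTwist.val s U

lemma vl_eq_app {L : X.Modules} (s : Coh.structureModule X ⟶ L) (U : X.Opens) :
    vl s U = s.app U (LocFree.toO U 1) := rfl

lemma vl_add {L : X.Modules} (s t : Coh.structureModule X ⟶ L) (U : X.Opens) :
    vl (s + t) U = vl s U + vl t U := rfl

lemma vl_zero {L : X.Modules} (U : X.Opens) :
    vl (0 : Coh.structureModule X ⟶ L) U = 0 := rfl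

lemma vl_sum {L : X.Modules} {I : Type*} (S : Finset I) (s : I → (Coh.structureModule X ⟶ L))
    (U : X.Opens) : vl (∑ i ∈ S, s i) U = ∑ i ∈ S, vl (s i) U := by
  classical
  induction S using Finset.induction_on with
  | empty => simp only [Finset.sum_empty]; rfl
  | insert a S ha ih => rw [Finset.sum_insert ha, Finset.sum_insert ha, vl_add, ih]

lemma vl_zsmul {L : X.Modules} (c : ℤ) (s : Coh.structureModule X ⟶ L) (U : X.Opens) :
    vl (c • s) U = c • vl s U := by
  induction c using Int.induction_on with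
  | zero => simp only [zero_smul]; rfl
  | succ n ih => rw [add_smul, add_smul, vl_add, ih, one_smul, one_smul]
  | pred n ih => rw [sub_smul, sub_smul, one_smul, one_smul, sub_eq_add_neg, sub_eq_add_neg, vl_add, ih]; rfl


variable (N : X.Modules) {ι : Type} [Fintype ι] (σ : ι → (Coh.structureModule X ⟶ N))

/-- realization of a form in sections of `N` as a section of `N^{⊗ d}`. -/
noncomputable def realize : (d : ℕ) → Form ι d → (Coh.structureModule X ⟶ CohB1.tensorPow N d)
  | 0, c => c.toInt • 𝟙 (Coh.structureModule X)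
  | d + 1, F => ∑ i, SecTwist.tmulHom (realize d (F.comp i)) (σ i)

lemma realize_zero (c : Form ι 0) :
    realize N σ 0 c = c.toInt • 𝟙 (Coh.structureModule X) := rfl

lemma realize_succ (d : ℕ) (F : Form ι (d + 1)) :
    realize N σ (d + 1) F = ∑ i, SecTwist.tmulHom (realize N σ d (F.comp i)) (σ i) := rfl

lemma vl_tmulHom {M M' : X.Modules} (a : Coh.structureModule X ⟶ M)
    (b : Coh.structureModule X ⟶ M') (U : X.Opens) :
    vl (SecTwist.tmulHom a b) U = tmul M M' (vl a U) (vl b U) :=
  SecTwist.val_tmulHom a b U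

theorem vl_realize (d : ℕ) (F : Form ι d) {U : X.Opens} (e : Γ(N, U)) (a : ι → Γ(X, U))
    (ha : ∀ i, vl (σ i) U = a i • e) :
    vl (realize N σ d F) U = evalF d F a • lpow N e d := by
  induction d with
  | zero =>
    rw [evalF_zero]
    change vl (L := Coh.structureModule X) (F.toInt • 𝟙 (Coh.structureModule X)) U =
      (((F.toInt : ℤ) : Γ(X, U))) • LocFree.toO U (1 : Γ(X, U))
    rw [vl_zsmul, Int.cast_smul_eq_zsmul]
    rfl
  | succ d ih =>
    rw [evalF_succ, Finset.sum_smul]
    change vl (L := CohB1.tensorMod (CohB1.tensorPow N d) N)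
      (∑ i, SecTwist.tmulHom (realize N σ d (F.comp i)) (σ i)) U = _
    rw [vl_sum]
    refine Finset.sum_congr rfl fun i _ => ?_
    rw [vl_tmulHom, ih (F.comp i), ha i, tmul_smul_left, tmul_smul_right, ← mul_smul, mul_comm]
    rfl


section GlobSmul

variable (M : X.Modules)

theorem smul_injective_of_isGen {U : X.Opens} (e : Γ(M, U))
    (he : ∀ (y : X) (hy : y ∈ U), IsGen M e y hy) (a b : Γ(X, U)) (h : a • e = b • e) : a = b := by
  apply TopCat.Presheaf.section_ext X.sheaf U
  intro y hy
  apply (he y hy).1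
  change X.presheaf.germ U y hy a • M.presheaf.germ U y hy e =
    X.presheaf.germ U y hy b • M.presheaf.germ U y hy e
  rw [← Tensor.germ_smul, ← Tensor.germ_smul, h]

theorem exists_eq_smul_of_forall_isGen {U : X.Opens} (e : Γ(M, U))
    (he : ∀ (y : X) (hy : y ∈ U), IsGen M e y hy) (t : Γ(M, U)) : ∃ a : Γ(X, U), t = a • e := by
  have h := fun y : U => exists_eq_smul_of_isGen M e y.1 y.2 (he y.1 y.2) (V := U) y.2 t
  choose W hyW hWU hWU' a ha using h
  have hcompat : TopCat.Presheaf.IsCompatible X.presheaf W a := by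
    intro y z
    have hgen : ∀ (w : X) (hw : w ∈ W y ⊓ W z), IsGen M
        (M.presheaf.map (homOfLE (inf_le_left.trans (hWU y) : W y ⊓ W z ≤ U)).op e) w hw :=
      fun w hw => (isGen_res M (homOfLE _) e w hw).2 (he w _)
    apply smul_injective_of_isGen M _ hgen
    have e1 : X.presheaf.map (Opens.infLELeft (W y) (W z)).op (a y) •
        M.presheaf.map (homOfLE (inf_le_left.trans (hWU y) : W y ⊓ W z ≤ U)).op e =
        M.presheaf.map (homOfLE (inf_le_left.trans (hWU y) : W y ⊓ W z ≤ U)).op t := by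
      have := congrArg (M.presheaf.map (Opens.infLELeft (W y) (W z)).op) (ha y)
      rw [Scheme.Modules.map_smul, map_map_eq M _ _ (homOfLE (inf_le_left.trans (hWU y))).op e,
        map_map_eq M _ _ (homOfLE (inf_le_left.trans (hWU y))).op t] at this
      exact this.symm
    have e2 : X.presheaf.map (Opens.infLERight (W y) (W z)).op (a z) •
        M.presheaf.map (homOfLE (inf_le_left.trans (hWU y) : W y ⊓ W z ≤ U)).op e =
        M.presheaf.map (homOfLE (inf_le_left.trans (hWU y) : W y ⊓ W z ≤ U)).op t := by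
      have := congrArg (M.presheaf.map (Opens.infLERight (W y) (W z)).op) (ha z)
      rw [Scheme.Modules.map_smul, map_map_eq M _ _ (homOfLE (inf_le_left.trans (hWU y))).op e,
        map_map_eq M _ _ (homOfLE (inf_le_left.trans (hWU y))).op t] at this
      exact this.symm
    exact e1.trans e2.symm
  have hcov : U ≤ iSup W := fun y hy => Opens.mem_iSup.2 ⟨⟨y, hy⟩, hyW ⟨y, hy⟩⟩
  obtain ⟨g, hg⟩ : ∃ g : Γ(X, U), ∀ y, X.presheaf.map (homOfLE (hWU y)).op g = a y := by
    obtain ⟨g, hg, -⟩ := TopCat.Sheaf.existsUnique_gluing' X.sheaf W U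
      (fun y => homOfLE (hWU y)) hcov a hcompat
    exact ⟨g, hg⟩
  refine ⟨g, ?_⟩
  apply TopCat.Sheaf.eq_of_locally_eq' ⟨M.presheaf, M.isSheaf⟩ W U (fun y => homOfLE (hWU y)) hcov
  intro y
  change M.presheaf.map (homOfLE (hWU y)).op t =
    M.presheaf.map (homOfLE (hWU y)).op (g • e)
  rw [Scheme.Modules.map_smul]
  have : X.presheaf.map (homOfLE (hWU y)).op g = a y := hg y
  rw [this]
  exact ha y

end GlobSmul


section SumSections

variable (M : X.Modules)

lemma isGen_vl_genLocus (s : Coh.structureModule X ⟶ M) (y : X) (hy : y ∈ CohB1.genLocus M s) :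
    IsGen M (vl s (CohB1.genLocus M s)) y hy := by
  have h := isGen_of_mem_genLocus M s hy
  have h2 := (isGen_res M (homOfLE (le_top : CohB1.genLocus M s ≤ ⊤)) (sec M s) y hy).2 h
  have e : M.presheaf.map (homOfLE (le_top : CohB1.genLocus M s ≤ ⊤)).op (sec M s) =
      vl s (CohB1.genLocus M s) := SecTwist.map_val s (homOfLE le_top)
  rwa [e] at h2

lemma map_sec_eq_vl (s : Coh.structureModule X ⟶ M) (U : X.Opens) :
    M.presheaf.map (homOfLE (le_top : U ≤ ⊤)).op (sec M s) = vl s U :=
  SecTwist.map_val s (homOfLE le_top)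

variable {ι : Type} [Fintype ι] (t : ι → (Coh.structureModule X ⟶ M))

/-- the coefficient functions of the summands on the locus where the sum generates. -/
theorem exists_coeff_sum :
    ∃ h : ι → Γ(X, CohB1.genLocus M (∑ i, t i)), (∑ i, h i = 1) ∧
      ∀ i, X.basicOpen (h i) = CohB1.genLocus M (t i) ⊓ CohB1.genLocus M (∑ i, t i) := by
  set s := ∑ i, t i with hs
  set U := CohB1.genLocus M s with hU
  have he : ∀ (y : X) (hy : y ∈ U), IsGen M (vl s U) y hy := fun y hy => isGen_vl_genLocus M s y hy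
  choose h hh using fun i => exists_eq_smul_of_forall_isGen M (vl s U) he (vl (t i) U)
  refine ⟨h, ?_, fun i => ?_⟩
  · apply smul_injective_of_isGen M (vl s U) he
    rw [Finset.sum_smul, one_smul]
    have e1 : vl s U = ∑ i, vl (t i) U := by rw [hs, vl_sum]
    rw [e1]
    refine Finset.sum_congr rfl fun i _ => ?_
    rw [← e1]
    exact (hh i).symm
  · rw [← genLocus_inf_eq_basicOpen M (t i) (vl s U) he (h i)]
    rw [map_sec_eq_vl]
    exact hh i

theorem genLocus_sum_le : CohB1.genLocus M (∑ i, t i) ≤ ⨆ i, CohB1.genLocus M (t i) := by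
  obtain ⟨h, h1, h2⟩ := exists_coeff_sum M t
  have hspan : Ideal.span (Set.range h) = ⊤ := by
    rw [Ideal.eq_top_iff_one, ← h1]
    exact Ideal.sum_mem _ fun i _ => Ideal.subset_span ⟨i, rfl⟩
  have := iSup_basicOpen_of_span_eq_top (CohB1.genLocus M (∑ i, t i)) (Set.range h) hspan
  conv_lhs => rw [← this]
  refine iSup₂_le fun f hf => ?_
  obtain ⟨i, rfl⟩ := hf
  rw [h2 i]
  exact inf_le_left.trans (le_iSup (fun i => CohB1.genLocus M (t i)) i)

theorem isAffineOpen_genLocus_sum
    (haff : ∀ i, IsAffineOpen (CohB1.genLocus M (t i) ⊓ CohB1.genLocus M (∑ i, t i))) :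
    IsAffineOpen (CohB1.genLocus M (∑ i, t i)) := by
  obtain ⟨h, h1, h2⟩ := exists_coeff_sum M t
  have hspan : Ideal.span (Set.range h) = ⊤ := by
    rw [Ideal.eq_top_iff_one, ← h1]
    exact Ideal.sum_mem _ fun i _ => Ideal.subset_span ⟨i, rfl⟩
  refine isAffineOpen_of_isAffineOpen_basicOpen _ (Set.range h) hspan ?_
  rintro _ ⟨i, rfl⟩
  rw [h2 i]
  exact haff i

end SumSections


section RealizeLocus

variable (N : X.Modules) (hN : PicF.IsInvertible N) {ι : Type} [Fintype ι]
  (σ : ι → (Coh.structureModule X ⟶ N))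

include hN in
theorem genLocus_realize_le (d : ℕ) (F : Form ι (d + 1)) :
    CohB1.genLocus (CohB1.tensorPow N (d + 1)) (realize N σ (d + 1) F) ≤
      ⨆ i, CohB1.genLocus N (σ i) := by
  change CohB1.genLocus (CohB1.tensorMod (CohB1.tensorPow N d) N)
    (∑ i, SecTwist.tmulHom (realize N σ d (F.comp i)) (σ i)) ≤ _
  refine (genLocus_sum_le _ _).trans (iSup_le fun i => ?_)
  rw [Ample.genLocus_tmulHom _ _ (isInvertible_tensorPow N hN d) hN]
  exact inf_le_right.trans (le_iSup (fun i => CohB1.genLocus N (σ i)) i)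

include hN in
theorem isAffineOpen_genLocus_realize (hσ : ∀ i, IsAffineOpen (CohB1.genLocus N (σ i)))
    (d : ℕ) (F : Form ι (d + 1)) :
    IsAffineOpen (CohB1.genLocus (CohB1.tensorPow N (d + 1)) (realize N σ (d + 1) F)) := by
  change IsAffineOpen (CohB1.genLocus (CohB1.tensorMod (CohB1.tensorPow N d) N)
    (∑ i, SecTwist.tmulHom (realize N σ d (F.comp i)) (σ i)))
  have hM : PicF.IsInvertible (CohB1.tensorMod (CohB1.tensorPow N d) N) :=
    isInvertible_tensorMod _ _ (isInvertible_tensorPow N hN d) hN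
  apply isAffineOpen_genLocus_sum
  intro i
  rw [← Ample.genLocus_tmulHom _ _ hM hM]
  refine isAffineOpen_genLocus_of_le _ (isInvertible_tensorMod _ _ hM hM) _ (hσ i) ?_
  rw [Ample.genLocus_tmulHom _ _ hM hM, Ample.genLocus_tmulHom _ _ (isInvertible_tensorPow N hN d) hN]
  exact inf_le_left.trans inf_le_right

theorem mem_genLocus_realize_iff (d : ℕ) (F : Form ι d) {U : X.Opens} (e : Γ(N, U))
    (he : ∀ (y : X) (hy : y ∈ U), IsGen N e y hy) (a : ι → Γ(X, U))
    (ha : ∀ i, vl (σ i) U = a i • e) (x : X) (hx : x ∈ U) :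
    x ∈ CohB1.genLocus (CohB1.tensorPow N d) (realize N σ d F) ↔
      x ∈ X.basicOpen (evalF d F a) := by
  have h := genLocus_inf_eq_basicOpen (CohB1.tensorPow N d) (realize N σ d F) (lpow N e d)
    (fun y hy => Ample.isGen_lpow N e y hy (he y hy) d) (evalF d F a)
    (by rw [map_sec_eq_vl]; exact vl_realize N σ d F e a ha)
  rw [← h]
  exact ⟨fun h1 => ⟨h1, hx⟩, fun h1 => h1.1⟩

end RealizeLocus

end Groth.Agent.Helper14.AmpleInt
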