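import Mathlib
import Groth.Agent.Lib.Helper14.AmpleIntB

set_option autoImplicit false
universe u
open CategoryTheory CategoryTheory.Limits AlgebraicGeometry Opposite TopologicalSpace TensorProduct
open Groth.Agent.Helper13.QCoh Groth.Agent.Helper13.FinType Groth.Agent.Helper13.Tensor
open Groth.Agent.Helper13.Inv Groth.Agent.Helper13.GenLoc Groth.Agent.Helper13.Qcqs
open Groth.Agent.Helper13.Twist Groth.Agent.Helper13

namespace Groth.Agent.Helper14.AmpleInt

variable {X : Scheme.{u}}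

/-- replace a section of `L^{n+1}` by a power, a section of `L^{N₀}` with the same locus. -/
theorem exists_pow_adjust (L : X.Modules) (hL : PicF.IsInvertible L) (n : ℕ)
    (s : Coh.structureModule X ⟶ CohB1.tensorPow L (n + 1)) (m N₀ : ℕ) (hm : 0 < m)
    (h : (n + 1) * m = N₀) :
    ∃ σ : Coh.structureModule X ⟶ CohB1.tensorPow L N₀,
      CohB1.genLocus _ σ = CohB1.genLocus _ s := by
  obtain ⟨k, rfl⟩ : ∃ k, m = k + 1 := ⟨m - 1, by omega⟩
  subst h
  refine ⟨SecTwist.powHom s (k + 1) ≫ (powMul L (n + 1) (k + 1)).hom, ?_⟩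
  rw [genLocus_comp_iso, Ample.genLocus_powHom _ (isInvertible_tensorPow L hL (n + 1))]

section PtIdeal

variable (Y : Scheme.{u})

/-- the prime ideal of global functions vanishing at a point. -/
noncomputable def ptIdeal (y : Y) : Ideal Γ(Y, ⊤) :=
  Ideal.comap (Y.presheaf.germ ⊤ y trivial).hom (IsLocalRing.maximalIdeal (Y.presheaf.stalk y))

instance (y : Y) : (ptIdeal Y y).IsPrime := by
  unfold ptIdeal
  infer_instance

lemma notMem_ptIdeal_iff (y : Y) (f : Γ(Y, ⊤)) : f ∉ ptIdeal Y y ↔ y ∈ Y.basicOpen f := by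
  rw [Scheme.mem_basicOpen_top]
  unfold ptIdeal
  rw [Ideal.mem_comap, IsLocalRing.mem_maximalIdeal, mem_nonunits_iff, not_not]

end PtIdeal

section Chart

variable {Y : Scheme.{u}} [IsAffine Y]

/-- a finite family of functions on an open of an affine scheme has a common denominator on a
basic open neighbourhood of a given point. -/
theorem exists_chart {ι : Type} [Finite ι] (V : Y.Opens) (y : Y) (hy : y ∈ V) (b : ι → Γ(Y, V)) :
    ∃ (f : Γ(Y, ⊤)) (hfV : Y.basicOpen f ≤ V) (k : ℕ) (c : ι → Γ(Y, ⊤)), y ∈ Y.basicOpen f ∧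
      ∀ j, Y.presheaf.map (homOfLE (le_top : Y.basicOpen f ≤ ⊤)).op (c j) =
        Y.presheaf.map (homOfLE (le_top : Y.basicOpen f ≤ ⊤)).op f ^ k *
          Y.presheaf.map (homOfLE hfV).op (b j) := by
  obtain ⟨_, ⟨f, rfl⟩, hyf, hfV⟩ := (Opens.isBasis_iff_nbhd.mp (isBasis_basicOpen Y)) hy
  obtain ⟨⟨_, ⟨k, rfl⟩⟩, hk⟩ := IsLocalization.exist_integer_multiples_of_finite
    (Submonoid.powers f) (fun j => Y.presheaf.map (homOfLE hfV).op (b j))
  choose c hc using hk
  refine ⟨f, hfV, k, c, hyf, fun j => ?_⟩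
  have := hc j
  rw [Algebra.smul_def, RingHom.algebraMap_toAlgebra] at this
  change _ = (Y.presheaf.map (homOfLE (le_top : Y.basicOpen f ≤ ⊤)).op).hom (f ^ k) * _ at this
  rw [map_pow] at this
  exact this

end Chart


section Main

variable {Y : Scheme.{u}} [IsAffine Y]

/-- finitely many sections of positive powers of an ample `L` with affine loci inside `W`
covering the image of `g`. -/
theorem exists_finite_cover (L : X.Modules) (hL : CohB1.IsAmple L) (W : X.Opens) (g : Y ⟶ X)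
    (hg : Set.range g.base ⊆ (W : Set X)) :
    ∃ (r : ℕ) (n : Fin r → ℕ) (s : ∀ i, Coh.structureModule X ⟶ CohB1.tensorPow L (n i + 1)),
      (∀ i, IsAffineOpen (CohB1.genLocus _ (s i))) ∧ (∀ i, CohB1.genLocus _ (s i) ≤ W) ∧
      ∀ y : Y, ∃ i, g.base y ∈ CohB1.genLocus _ (s i) := by
  have hB : ∀ {U : X.Opens} {x : X}, x ∈ U → ∃ U' ∈ {U : X.Opens | ∃ (n : ℕ)
      (s : Coh.structureModule X ⟶ CohB1.tensorPow L (n + 1)), U = CohB1.genLocus _ s},
      x ∈ U' ∧ U' ≤ U := Opens.isBasis_iff_nbhd.mp (Ample.isBasis_genLocus_of_isAmple L hL)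
  have key : ∀ y : Y, ∃ (n : ℕ) (s : Coh.structureModule X ⟶ CohB1.tensorPow L (n + 1)),
      g.base y ∈ CohB1.genLocus _ s ∧ IsAffineOpen (CohB1.genLocus _ s) ∧
        CohB1.genLocus _ s ≤ W := by
    intro y
    have hyW : g.base y ∈ W := hg ⟨y, rfl⟩
    obtain ⟨V, hV, hxV, hVW⟩ := exists_isAffineOpen_mem_and_subset hyW
    obtain ⟨_, ⟨n, s, rfl⟩, hx, hle⟩ := hB hxV
    exact ⟨n, s, hx, isAffineOpen_genLocus_of_le _ (isInvertible_tensorPow L hL.1 (n + 1)) s hV hle,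
      hle.trans hVW⟩
  choose n s h1 h2 h3 using key
  obtain ⟨T, hT⟩ := isCompact_univ.elim_finite_subcover
    (fun y : Y => ((g ⁻¹ᵁ CohB1.genLocus _ (s y) : Y.Opens) : Set Y))
    (fun y => (g ⁻¹ᵁ CohB1.genLocus _ (s y)).2)
    (fun y _ => Set.mem_iUnion.mpr ⟨y, h1 y⟩)
  refine ⟨T.card, fun i => n (T.equivFin.symm i).1, fun i => s (T.equivFin.symm i).1,
    fun i => h2 _, fun i => h3 _, fun y => ?_⟩
  obtain ⟨y', hy', hyy'⟩ := Set.mem_iUnion₂.mp (hT (Set.mem_univ y))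
  refine ⟨T.equivFin ⟨y', hy'⟩, ?_⟩
  have e : T.equivFin.symm (T.equivFin ⟨y', hy'⟩) = ⟨y', hy'⟩ := Equiv.symm_apply_apply _ _
  show g.base y ∈ CohB1.genLocus _ (s (T.equivFin.symm (T.equivFin ⟨y', hy'⟩)).1)
  rw [e]
  exact hyy'


/-- restriction to a basic open: the key local computation. -/
theorem mem_basicOpen_evalF_of_chart {ι : Type} [Fintype ι] (d : ℕ) (F : Form ι d)
    {V : Y.Opens} (b : ι → Γ(Y, V)) (f : Γ(Y, ⊤)) (hfV : Y.basicOpen f ≤ V) (k : ℕ)
    (c : ι → Γ(Y, ⊤))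
    (hc : ∀ j, Y.presheaf.map (homOfLE (le_top : Y.basicOpen f ≤ ⊤)).op (c j) =
        Y.presheaf.map (homOfLE (le_top : Y.basicOpen f ≤ ⊤)).op f ^ k *
          Y.presheaf.map (homOfLE hfV).op (b j))
    (y : Y) (hy : y ∈ Y.basicOpen f) (hyc : y ∈ Y.basicOpen (evalF d F c)) :
    y ∈ Y.basicOpen (evalF d F b) := by
  set ρ := (Y.presheaf.map (homOfLE hfV).op).hom with hρ
  set ρ' := (Y.presheaf.map (homOfLE (le_top : Y.basicOpen f ≤ ⊤)).op).hom with hρ'
  have h1 : ρ' (evalF d F c) = (ρ' f ^ k) ^ d * ρ (evalF d F b) := by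
    rw [evalF_map ρ', evalF_map ρ, ← evalF_smul]
    congr 1
    funext j
    exact hc j
  have h2 : y ∈ Y.basicOpen (ρ' (evalF d F c)) := by
    have := Scheme.basicOpen_res (X := Y) (evalF d F c) (homOfLE (le_top : Y.basicOpen f ≤ ⊤)).op
    rw [hρ', this]
    exact ⟨hy, hyc⟩
  rw [h1, Scheme.basicOpen_mul] at h2
  have h3 : y ∈ Y.basicOpen (ρ (evalF d F b)) := h2.2
  have := Scheme.basicOpen_res (X := Y) (evalF d F b) (homOfLE hfV).op
  rw [hρ, this] at h3
  exact h3.2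

theorem exists_form_through (N : X.Modules) (hN : PicF.IsInvertible N) {r : ℕ}
    (σ : Fin r → (Coh.structureModule X ⟶ N)) (hY : FinSpecLocally Γ(Y, ⊤)) (g : Y ⟶ X)
    (hcov : ∀ y : Y, ∃ i, g.base y ∈ CohB1.genLocus N (σ i)) :
    ∃ (d : ℕ) (F : Form (Fin r) (d + 1)),
      ∀ y : Y, g.base y ∈ CohB1.genLocus (CohB1.tensorPow N (d + 1)) (realize N σ (d + 1) F) := by
  -- charts on `X`
  set U : Fin r → X.Opens := fun i => CohB1.genLocus N (σ i) with hU
  have he : ∀ i (y : X) (hy : y ∈ U i), IsGen N (vl (σ i) (U i)) y hy :=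
    fun i y hy => isGen_vl_genLocus N (σ i) y hy
  choose a ha using fun i j => exists_eq_smul_of_forall_isGen N (vl (σ i) (U i)) (he i)
    (vl (σ j) (U i))
  have haii : ∀ i, a i i = 1 := by
    intro i
    apply smul_injective_of_isGen N (vl (σ i) (U i)) (he i)
    rw [one_smul]
    exact (ha i i).symm
  -- functions on `Y`
  set V : Fin r → Y.Opens := fun i => g ⁻¹ᵁ U i with hV
  set b : ∀ i, Fin r → Γ(Y, V i) := fun i j => g.app (U i) (a i j) with hb
  have hbii : ∀ i, b i i = 1 := by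
    intro i
    change (g.app (U i)).hom (a i i) = 1
    rw [haii i, map_one]
  choose iy hiy using hcov
  choose fy hfVy ky cy hyfy hcy using fun y : Y => exists_chart (V (iy y)) y (hiy y) (b (iy y))
  obtain ⟨T, hT⟩ := isCompact_univ.elim_finite_subcover
    (fun y : Y => ((Y.basicOpen (fy y) : Y.Opens) : Set Y))
    (fun y => (Y.basicOpen (fy y)).2)
    (fun y _ => Set.mem_iUnion.mpr ⟨y, hyfy y⟩)
  obtain ⟨d, F, hF⟩ := core hY (μ := T) (fun m j => cy m.1 j) (fun m => iy m.1)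
  refine ⟨d, F, fun y' => ?_⟩
  obtain ⟨y, hyT, hy'⟩ := Set.mem_iUnion₂.mp (hT (Set.mem_univ y'))
  have hy' : y' ∈ Y.basicOpen (fy y) := hy'
  have hxU : g.base y' ∈ U (iy y) := hfVy y hy'
  rw [mem_genLocus_realize_iff N σ (d + 1) F (vl (σ (iy y)) (U (iy y))) (he (iy y)) (a (iy y))
    (fun j => ha (iy y) j) (g.base y') hxU]
  change y' ∈ g ⁻¹ᵁ X.basicOpen (evalF (d + 1) F (a (iy y)))
  rw [Scheme.preimage_basicOpen]
  have e1 : g.app (U (iy y)) (evalF (d + 1) F (a (iy y))) = evalF (d + 1) F (b (iy y)) :=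
    evalF_map (g.app (U (iy y))).hom (d + 1) F (a (iy y))
  rw [e1]
  refine mem_basicOpen_evalF_of_chart (d + 1) F (b (iy y)) (fy y) (hfVy y) (ky y) (cy y) (hcy y)
    y' hy' ?_
  rw [← notMem_ptIdeal_iff]
  refine hF ⟨y, hyT⟩ (ptIdeal Y y') inferInstance ?_
  rw [notMem_ptIdeal_iff]
  -- `c (i)` restricts to a unit on `D(f)`
  have hunit : IsUnit (Y.presheaf.map (homOfLE (le_top : Y.basicOpen (fy y) ≤ ⊤)).op
      (cy y (iy y))) := by
    rw [hcy y (iy y), hbii, map_one, mul_one]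
    exact (RingedSpace.isUnit_res_basicOpen Y.toRingedSpace (fy y)).pow _
  have h4 := Scheme.basicOpen_of_isUnit Y hunit
  rw [Scheme.basicOpen_res] at h4
  have : y' ∈ Y.basicOpen (fy y) ⊓ Y.basicOpen (cy y (iy y)) := by rw [h4]; exact hy'
  exact this.2


/-- **a section of a power of an ample module through a quasi-finite-like image.** -/
theorem exists_section_through (L : X.Modules) (hL : CohB1.IsAmple L)
    (hY : FinSpecLocally Γ(Y, ⊤)) (W : X.Opens) (g : Y ⟶ X)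
    (hg : Set.range g.base ⊆ (W : Set X)) :
    ∃ (n : ℕ) (s : Coh.structureModule X ⟶ CohB1.tensorPow L (n + 1)),
      IsAffineOpen (CohB1.genLocus _ s) ∧ CohB1.genLocus _ s ≤ W ∧
        Set.range g.base ⊆ (CohB1.genLocus _ s : Set X) := by
  classical
  obtain ⟨r, n, s, h2, h3, hcov⟩ := exists_finite_cover L hL W g hg
  set N₀ : ℕ := ∏ i, (n i + 1) with hN₀def
  have hN₀ : 0 < N₀ := Finset.prod_pos (fun i _ => Nat.succ_pos _)
  have key : ∀ i, ∃ σ : Coh.structureModule X ⟶ CohB1.tensorPow L N₀,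
      CohB1.genLocus _ σ = CohB1.genLocus _ (s i) := fun i =>
    exists_pow_adjust L hL.1 (n i) (s i) (∏ j ∈ Finset.univ.erase i, (n j + 1)) N₀
      (Finset.prod_pos (fun j _ => Nat.succ_pos _))
      (Finset.mul_prod_erase Finset.univ (fun j => n j + 1) (Finset.mem_univ i))
  choose σ hσ using key
  have hN : PicF.IsInvertible (CohB1.tensorPow L N₀) := isInvertible_tensorPow L hL.1 N₀
  obtain ⟨d, F, hF⟩ := exists_form_through (CohB1.tensorPow L N₀) hN σ hY g (fun y => by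
    obtain ⟨i, hi⟩ := hcov y
    exact ⟨i, by rw [hσ]; exact hi⟩)
  obtain ⟨m, hm⟩ : ∃ m, N₀ * (d + 1) = m + 1 :=
    ⟨N₀ * (d + 1) - 1, (Nat.succ_pred_eq_of_pos (Nat.mul_pos hN₀ (Nat.succ_pos d))).symm⟩
  refine ⟨m, realize (CohB1.tensorPow L N₀) σ (d + 1) F ≫
    (powMul L N₀ (d + 1) ≪≫ powCast L hm).hom, ?_, ?_, ?_⟩
  · rw [genLocus_comp_iso]
    exact isAffineOpen_genLocus_realize _ hN σ (fun i => by rw [hσ]; exact h2 i) d F
  · rw [genLocus_comp_iso]
    exact (genLocus_realize_le _ hN σ d F).trans (iSup_le fun i => by rw [hσ]; exact h3 i)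
  · rintro _ ⟨y, rfl⟩
    rw [genLocus_comp_iso]
    exact hF y

end Main

end Groth.Agent.Helper14.AmpleInt
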