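import Groth.Agent.Lib.Helper14.HomLimF
import Mathlib

/-!
# The filtered system of modules `φ_{k*} φ_k^* G₀` on the base stage of a cofiltered system of
schemes, and its colimit property on affine opens (helper14)
-/

set_option autoImplicit false
set_option maxRecDepth 8000
universe u
open CategoryTheory CategoryTheory.Limits AlgebraicGeometry Opposite TopologicalSpace TensorProduct
open OmegaSh Groth.Agent.Helper18.PbCompat Groth.Agent.Helper18.Rec Groth.Agent.Helper13.Pullback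

namespace Groth.Agent.Helper14.HomLim

open Groth.Agent.Helper14.LimMod

/-- induction principle for sections of a pulled back quasi-coherent module over the preimage of an
affine open -/
theorem pullSect_induction {Y Z : Scheme.{u}} (f : Y ⟶ Z) (G : Z.Modules) [G.IsQuasicoherent]
    {V : Z.Opens} (hV : IsAffineOpen V) (hV' : IsAffineOpen (f ⁻¹ᵁ V))
    {motive : Γ((Scheme.Modules.pullback f).obj G, f ⁻¹ᵁ V) → Prop}
    (gen : ∀ n : Γ(G, V), motive (pullSect f G V n)) (zero : motive 0)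
    (add : ∀ x y, motive x → motive y → motive (x + y))
    (smul : ∀ (r : Γ(Y, f ⁻¹ᵁ V)) x, motive x → motive (r • x)) : ∀ x, motive x := by
  intro x
  have h := span_pullRes f G hV' hV le_rfl Set.univ Submodule.span_univ
  have hx : x ∈ Submodule.span Γ(Y, f ⁻¹ᵁ V)
      ((fun t => pullRes f G (le_refl (f ⁻¹ᵁ V)) t) '' Set.univ) := by
    rw [h]; trivial
  induction hx using Submodule.span_induction with
  | mem y hy =>
    obtain ⟨n, -, rfl⟩ := hy
    dsimp only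
    rw [pullRes_refl]
    exact gen n
  | zero => exact zero
  | add x y _ _ hx hy => exact add x y hx hy
  | smul r x _ hx => exact smul r x hx

variable {I : Type u} [SmallCategory I] [IsCofiltered I] (D : I ⥤ Scheme.{u}) (c : Cone D)
  (hc : IsLimit c) [∀ {i j : I} (f : i ⟶ j), IsAffineHom (D.map f)]
  (i₀ : I) (G₀ : (D.obj i₀).Modules)

/-- the module `φ_{k*} φ_k^* G₀` on the base stage -/
noncomputable abbrev Pst (k : Over i₀) : (D.obj i₀).Modules :=
  (Scheme.Modules.pushforward (D.map k.hom)).obj ((Scheme.Modules.pullback (D.map k.hom)).obj G₀)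

/-- the module `π_* π^* G₀` on the base stage -/
noncomputable abbrev Ppt : (D.obj i₀).Modules :=
  (Scheme.Modules.pushforward (c.π.app i₀)).obj ((Scheme.Modules.pullback (c.π.app i₀)).obj G₀)

theorem map_w {k l : Over i₀} (u : l ⟶ k) : D.map u.left ≫ D.map k.hom = D.map l.hom := by
  rw [← D.map_comp, Over.w]

/-- the maps to the limit -/
noncomputable def sig (k : Over i₀) : Pst D i₀ G₀ k ⟶ Ppt D c i₀ G₀ :=
  trHom (c.π.app k.left) (D.map k.hom) (c.π.app i₀) (c.w k.hom) G₀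

/-- the transition maps -/
noncomputable def tau {k l : Over i₀} (u : l ⟶ k) : Pst D i₀ G₀ k ⟶ Pst D i₀ G₀ l :=
  trHom (D.map u.left) (D.map k.hom) (D.map l.hom) (map_w D i₀ u) G₀

variable (V : (D.obj i₀).Opens)

/-- `sig` on sections, with explicit types -/
noncomputable def sigA (k : Over i₀)
    (x : Γ((Scheme.Modules.pullback (D.map k.hom)).obj G₀, preU D i₀ V k)) :
    Γ((Scheme.Modules.pullback (c.π.app i₀)).obj G₀, preUpt D c i₀ V) :=
  trApp (c.π.app k.left) (D.map k.hom) (c.π.app i₀) (c.w k.hom) G₀ V x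

/-- `tau` on sections, with explicit types -/
noncomputable def tauA {k l : Over i₀} (u : l ⟶ k)
    (x : Γ((Scheme.Modules.pullback (D.map k.hom)).obj G₀, preU D i₀ V k)) :
    Γ((Scheme.Modules.pullback (D.map l.hom)).obj G₀, preU D i₀ V l) :=
  trApp (D.map u.left) (D.map k.hom) (D.map l.hom) (map_w D i₀ u) G₀ V x

theorem sig_app (k : Over i₀) (x : Γ(Pst D i₀ G₀ k, V)) :
    (sig D c i₀ G₀ k).app V x = sigA D c i₀ G₀ V k x := rfl

theorem tau_app {k l : Over i₀} (u : l ⟶ k) (x : Γ(Pst D i₀ G₀ k, V)) :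
    (tau D i₀ G₀ u).app V x = tauA D i₀ G₀ V u x := rfl

theorem sigA_add (k : Over i₀) (x y) :
    sigA D c i₀ G₀ V k (x + y) = sigA D c i₀ G₀ V k x + sigA D c i₀ G₀ V k y :=
  trApp_add _ _ _ _ _ _ _ _

theorem tauA_add {k l : Over i₀} (u : l ⟶ k) (x y) :
    tauA D i₀ G₀ V u (x + y) = tauA D i₀ G₀ V u x + tauA D i₀ G₀ V u y :=
  trApp_add _ _ _ _ _ _ _ _

theorem sigA_zero (k : Over i₀) : sigA D c i₀ G₀ V k 0 = 0 := trApp_zero _ _ _ _ _ _

theorem tauA_zero {k l : Over i₀} (u : l ⟶ k) : tauA D i₀ G₀ V u 0 = 0 := trApp_zero _ _ _ _ _ _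

theorem sigA_smul (k : Over i₀) (r : Γ(D.obj k.left, preU D i₀ V k)) (x) :
    sigA D c i₀ G₀ V k (r • x) = (rPt D c i₀ V k).hom r • sigA D c i₀ G₀ V k x :=
  trApp_smul _ _ _ _ _ _ (le_pt D c i₀ V k) r x

theorem tauA_smul {k l : Over i₀} (u : l ⟶ k) (r : Γ(D.obj k.left, preU D i₀ V k)) (x) :
    tauA D i₀ G₀ V u (r • x) = (rTr D i₀ V u).hom r • tauA D i₀ G₀ V u x :=
  trApp_smul _ _ _ _ _ _ (le_tr D i₀ V u) r x

theorem sigA_pullSect (k : Over i₀) (n : Γ(G₀, V)) :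
    sigA D c i₀ G₀ V k (pullSect (D.map k.hom) G₀ V n) = pullSect (c.π.app i₀) G₀ V n :=
  trApp_pullSect _ _ _ _ _ _ n

theorem tauA_pullSect {k l : Over i₀} (u : l ⟶ k) (n : Γ(G₀, V)) :
    tauA D i₀ G₀ V u (pullSect (D.map k.hom) G₀ V n) = pullSect (D.map l.hom) G₀ V n :=
  trApp_pullSect _ _ _ _ _ _ n

variable [G₀.IsQuasicoherent] {V} (hV : IsAffineOpen V)

include hV in
/-- compatibility of `sig` with the transition maps, on affine opens -/
theorem sigA_tauA {k l : Over i₀} (u : l ⟶ k) (x) :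
    sigA D c i₀ G₀ V l (tauA D i₀ G₀ V u x) = sigA D c i₀ G₀ V k x := by
  refine pullSect_induction (D.map k.hom) G₀ hV (isAffineOpen_preU D i₀ hV k)
    (motive := fun x => sigA D c i₀ G₀ V l (tauA D i₀ G₀ V u x) = sigA D c i₀ G₀ V k x)
    ?_ ?_ ?_ ?_ x
  · intro n
    rw [tauA_pullSect, sigA_pullSect, sigA_pullSect]
  · rw [tauA_zero, sigA_zero, sigA_zero]
  · intro x y hx hy
    rw [tauA_add, sigA_add, sigA_add, hx, hy]
  · intro r x hx
    rw [tauA_smul, sigA_smul, sigA_smul, hx]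
    congr 1
    exact congr($(rTr_comp_rPt D c i₀ V u).hom r)

include hc hV in
/-- joint surjectivity on affine opens -/
theorem sigA_surj (q : Γ((Scheme.Modules.pullback (c.π.app i₀)).obj G₀, preUpt D c i₀ V)) :
    ∃ (k : Over i₀) (x : Γ((Scheme.Modules.pullback (D.map k.hom)).obj G₀, preU D i₀ V k)),
      sigA D c i₀ G₀ V k x = q := by
  refine pullSect_induction (c.π.app i₀) G₀ hV (isAffineOpen_preUpt D c hc i₀ hV)
    (motive := fun q => ∃ (k : Over i₀)
      (x : Γ((Scheme.Modules.pullback (D.map k.hom)).obj G₀, preU D i₀ V k)),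
      sigA D c i₀ G₀ V k x = q) ?_ ?_ ?_ ?_ q
  · intro n
    exact ⟨Over.mk (𝟙 i₀), _, sigA_pullSect D c i₀ G₀ V (Over.mk (𝟙 i₀)) n⟩
  · exact ⟨Over.mk (𝟙 i₀), 0, sigA_zero D c i₀ G₀ V _⟩
  · rintro q₁ q₂ ⟨k₁, x₁, rfl⟩ ⟨k₂, x₂, rfl⟩
    let k := IsCofiltered.min k₁ k₂
    let u₁ : k ⟶ k₁ := IsCofiltered.minToLeft k₁ k₂
    let u₂ : k ⟶ k₂ := IsCofiltered.minToRight k₁ k₂
    refine ⟨k, tauA D i₀ G₀ V u₁ x₁ + tauA D i₀ G₀ V u₂ x₂, ?_⟩
    rw [sigA_add, sigA_tauA D c i₀ G₀ hV, sigA_tauA D c i₀ G₀ hV]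
  · rintro b q ⟨k₁, x₁, rfl⟩
    obtain ⟨k₂, t, rfl⟩ := rPt_surj D c hc i₀ hV b
    let k := IsCofiltered.min k₁ k₂
    let u₁ : k ⟶ k₁ := IsCofiltered.minToLeft k₁ k₂
    let u₂ : k ⟶ k₂ := IsCofiltered.minToRight k₁ k₂
    refine ⟨k, (rTr D i₀ V u₂).hom t • tauA D i₀ G₀ V u₁ x₁, ?_⟩
    rw [sigA_smul, sigA_tauA D c i₀ G₀ hV]
    congr 1
    exact congr($(rTr_comp_rPt D c i₀ V u₂).hom t)

include hc hV in
/-- kernels die at a later stage, on affine opens -/
theorem sigA_ker (k : Over i₀) (x) (h0 : sigA D c i₀ G₀ V k x = 0) :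
    ∃ (l : Over i₀) (u : l ⟶ k), tauA D i₀ G₀ V u x = 0 := by
  have h1 := (trApp_eq_zero_iff _ _ _ _ _ _ _).mp h0
  obtain ⟨l, hl⟩ := exists_pullSect_eq_zero D c hc k.left (isAffineOpen_preU D i₀ hV k)
    ((Scheme.Modules.pullback (D.map k.hom)).obj G₀) x h1
  refine ⟨Over.mk (l.hom ≫ k.hom), Over.homMk l.hom rfl, ?_⟩
  exact (trApp_eq_zero_iff _ _ _ _ _ _ _).mpr hl

end Groth.Agent.Helper14.HomLim
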