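import Groth.Agent.Lib.Helper14.HomLimC
import Groth.Agent.Lib.Helper14.HomLimG
import Groth.Agent.Lib.Helper13.FinPresAffine
import Mathlib

/-!
# Morphisms between pulled back modules on a cofiltered limit descend to a stage (helper14)
-/

set_option autoImplicit false
set_option maxRecDepth 8000
universe u
open CategoryTheory CategoryTheory.Limits AlgebraicGeometry Opposite TopologicalSpace

namespace Groth.Agent.Helper14.HomLim

open Groth.Agent.Helper14.LimMod

variable {I : Type u} [SmallCategory I] [IsCofiltered I] (D : I ⥤ Scheme.{u}) (c : Cone D)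
  (hc : IsLimit c) [∀ {i j : I} (f : i ⟶ j), IsAffineHom (D.map f)]
  (i₀ : I) [CompactSpace (D.obj i₀)] [QuasiSeparatedSpace (D.obj i₀)]
  (F₀ G₀ : (D.obj i₀).Modules) [F₀.IsQuasicoherent] [G₀.IsQuasicoherent]
  [SheafOfModules.IsFinitePresentation (R := (D.obj i₀).ringCatSheaf) F₀]

include hc in
/-- **Surjectivity of `colim Hom(F_j, G_j) → Hom(F, G)`**. -/
theorem exists_stage_hom
    (h : (Scheme.Modules.pullback (c.π.app i₀)).obj F₀ ⟶
      (Scheme.Modules.pullback (c.π.app i₀)).obj G₀) :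
    ∃ (j : I) (φ : j ⟶ i₀) (hj : (Scheme.Modules.pullback (D.map φ)).obj F₀ ⟶
        (Scheme.Modules.pullback (D.map φ)).obj G₀),
      (kap (c.π.app j) (D.map φ) (c.π.app i₀) (c.w φ)).inv.app F₀ ≫
        (Scheme.Modules.pullback (c.π.app j)).map hj ≫
          (kap (c.π.app j) (D.map φ) (c.π.app i₀) (c.w φ)).hom.app G₀ = h := by
  obtain ⟨k, hk, hk_eq⟩ := exists_hom_lift (X := D.obj i₀) (F := F₀) (J := (Over i₀)ᵒᵖ)
    (fun k => Pst D i₀ G₀ k.unop) (fun u => tau D i₀ G₀ u.unop)
    (fun k => sig D c i₀ G₀ k.unop)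
    (fun {k l} u V hV x => by
      rw [tau_app, sig_app, sig_app]
      exact sigA_tauA D c i₀ G₀ hV u.unop x)
    (fun V hV q => by
      obtain ⟨k, x, hx⟩ := sigA_surj D c hc i₀ G₀ hV q
      exact ⟨op k, x, hx⟩)
    (fun V hV k x hx => by
      obtain ⟨l, u, hu⟩ := sigA_ker D c hc i₀ G₀ hV k.unop x hx
      exact ⟨op l, u.op, hu⟩)
    (fun V hV => Groth.Agent.Helper13.LocFree.finitePresentation_sections_of_isFinitePresentation
      F₀ hV)
    ((Scheme.Modules.pullbackPushforwardAdjunction (c.π.app i₀)).homEquiv F₀ _ h)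
  refine ⟨k.unop.left, k.unop.hom,
    ((Scheme.Modules.pullbackPushforwardAdjunction (D.map k.unop.hom)).homEquiv F₀ _).symm hk, ?_⟩
  apply ((Scheme.Modules.pullbackPushforwardAdjunction (c.π.app i₀)).homEquiv F₀ _).injective
  rw [homEquiv_transport, Equiv.apply_symm_apply]
  exact hk_eq

end Groth.Agent.Helper14.HomLim
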