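import Mathlib
import Groth.Agent.Lib.Helper14.HomLimH
import Groth.Agent.Lib.Helper13.PbAmple
import Groth.Agent.Lib.Helper13.Ample
import Groth.Agent.Lib.Helper13.FinPresAffine
import Groth.Agent.Lib.Helper13.InvTensor
import Groth.Agent.Lib.Helper13.InvQCoh

/-!
# Ampleness on a cofiltered limit descends to a stage (helper14; on top of helper13's ample library)
-/

set_option autoImplicit false
universe u
open CategoryTheory CategoryTheory.Limits AlgebraicGeometry TopologicalSpace Opposite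

namespace Groth.Agent.Helper14.AmpleLim

open Groth.Agent.Helper14.HomLim Groth.Agent.Helper14.LimMod Groth.Agent.Helper13

theorem isFP_unit (X : Scheme.{u}) :
    SheafOfModules.IsFinitePresentation (R := X.ringCatSheaf) (Coh.structureModule X) := by
  haveI : (Coh.structureModule X).IsQuasicoherent := QCoh.isQuasicoherent_unit X
  apply LocFree.isFinitePresentation_of_finitePresentation_sections
  intro x
  obtain ⟨_, ⟨V, hV, rfl⟩, hxV, -⟩ :=
      X.isBasis_affineOpens.exists_subset_of_mem_open (Set.mem_univ x) isOpen_univ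
  refine ⟨V, hV, hxV, ?_⟩
  change Module.FinitePresentation Γ(X, V) Γ(X, V)
  infer_instance

variable {I : Type u} [SmallCategory I] [IsCofiltered I] (D : I ⥤ Scheme.{u}) (c : Cone D)
  (hc : IsLimit c) [∀ {i j : I} (f : i ⟶ j), IsAffineHom (D.map f)]
  (i₀ : I) [CompactSpace (D.obj i₀)] [QuasiSeparatedSpace (D.obj i₀)]
  (L₀ : (D.obj i₀).Modules) (hL₀ : PicF.IsInvertible L₀)

include hc hL₀ in
/-- the locus `X_s` of a section of a power of the pullback of `L₀` to the limit is the preimage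
of the locus of a section of the pullback of the power of `L₀` to a stage. -/
theorem exists_stage_genLocus (n : ℕ)
    (s : Coh.structureModule c.pt ⟶
      CohB1.tensorPow ((Scheme.Modules.pullback (c.π.app i₀)).obj L₀) n) :
    ∃ (j : I) (φ : j ⟶ i₀) (t : Coh.structureModule (D.obj j) ⟶
        (Scheme.Modules.pullback (D.map φ)).obj (CohB1.tensorPow L₀ n)),
      c.π.app j ⁻¹ᵁ CohB1.genLocus _ t = CohB1.genLocus _ s := by
  have hM₀ : PicF.IsInvertible (CohB1.tensorPow L₀ n) := Inv.isInvertible_tensorPow L₀ hL₀ n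
  haveI : (CohB1.tensorPow L₀ n).IsQuasicoherent := Inv.isQuasicoherent_of_isInvertible _ hM₀
  haveI : (Coh.structureModule (D.obj i₀)).IsQuasicoherent := QCoh.isQuasicoherent_unit _
  haveI := isFP_unit (D.obj i₀)
  obtain ⟨pui₀, -⟩ : ∃ x, x = PbUnit.pullbackUnitIso (c.π.app i₀) := ⟨_, rfl⟩
  obtain ⟨ppi, -⟩ : ∃ x, x = PbTensor.pullbackPowIso (c.π.app i₀) L₀ hL₀ n := ⟨_, rfl⟩
  obtain ⟨j, φ, hj, heq⟩ := exists_stage_hom D c hc i₀ (Coh.structureModule (D.obj i₀))
    (CohB1.tensorPow L₀ n) (pui₀.hom ≫ s ≫ ppi.inv)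
  obtain ⟨K, hK⟩ : ∃ x, x = kap (c.π.app j) (D.map φ) (c.π.app i₀) (c.w φ) := ⟨_, rfl⟩
  rw [← hK] at heq
  obtain ⟨puiφ, -⟩ : ∃ x, x = PbUnit.pullbackUnitIso (D.map φ) := ⟨_, rfl⟩
  refine ⟨j, φ, puiφ.inv ≫ hj, ?_⟩
  let e : Coh.structureModule c.pt ≅
      (Scheme.Modules.pullback (c.π.app j)).obj (Coh.structureModule (D.obj j)) :=
    pui₀.symm ≪≫ (K.symm.app _) ≪≫ (Scheme.Modules.pullback (c.π.app j)).mapIso puiφ
  have h1 := PbInv.genLocus_pullback (c.π.app j)
    ((Scheme.Modules.pullback (D.map φ)).obj (CohB1.tensorPow L₀ n))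
    (PbInv.isInvertible_pullback (D.map φ) _ hM₀) (puiφ.inv ≫ hj) e
  rw [← h1]
  have h2 : e.hom ≫ (Scheme.Modules.pullback (c.π.app j)).map (puiφ.inv ≫ hj) =
      (s ≫ ppi.inv) ≫ (K.app (CohB1.tensorPow L₀ n)).inv := by
    have heq' : K.inv.app _ ≫ (Scheme.Modules.pullback (c.π.app j)).map hj =
        (pui₀.hom ≫ s ≫ ppi.inv) ≫ K.inv.app _ := by
      rw [← heq]
      simp only [Category.assoc, Iso.hom_inv_id_app]
      erw [Category.comp_id]
    have e_hom : e.hom = pui₀.inv ≫ K.inv.app _ ≫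
        (Scheme.Modules.pullback (c.π.app j)).map puiφ.hom := rfl
    rw [e_hom]
    have h3 : (Scheme.Modules.pullback (c.π.app j)).map puiφ.hom ≫
        (Scheme.Modules.pullback (c.π.app j)).map (puiφ.inv ≫ hj) =
        (Scheme.Modules.pullback (c.π.app j)).map hj := by
      rw [← CategoryTheory.Functor.map_comp, Iso.hom_inv_id_assoc]
    calc (pui₀.inv ≫ K.inv.app _ ≫ (Scheme.Modules.pullback (c.π.app j)).map puiφ.hom) ≫
          (Scheme.Modules.pullback (c.π.app j)).map (puiφ.inv ≫ hj)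
        = pui₀.inv ≫ (K.inv.app _ ≫ (Scheme.Modules.pullback (c.π.app j)).map hj) := by
          simp only [Category.assoc, h3]
      _ = pui₀.inv ≫ ((pui₀.hom ≫ s ≫ ppi.inv) ≫ K.inv.app _) := by rw [heq']
      _ = (s ≫ ppi.inv) ≫ (K.app (CohB1.tensorPow L₀ n)).inv := by
          simp only [Category.assoc, Iso.inv_hom_id_assoc]
          rfl
  rw [h2]
  exact (GenLoc.genLocus_comp_iso (s ≫ ppi.inv) (K.app (CohB1.tensorPow L₀ n)).symm).trans
    (GenLoc.genLocus_comp_iso s ppi.symm)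

end Groth.Agent.Helper14.AmpleLim
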