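import Mathlib
import Groth.Agent.Lib.Helper14.AmpleLimA
import Groth.Agent.Lib.Helper13.TensorPow
import Groth.Agent.Lib.Helper13.AmpleBasis

/-!
# Ampleness on a cofiltered limit descends to a stage: assembly (helper14)
-/

set_option autoImplicit false
universe u
open CategoryTheory CategoryTheory.Limits AlgebraicGeometry TopologicalSpace Opposite

namespace Groth.Agent.Helper14.AmpleLim

open Groth.Agent.Helper14.HomLim Groth.Agent.Helper14.LimMod Groth.Agent.Helper13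

variable {I : Type u} [SmallCategory I] [IsCofiltered I] (D : I ⥤ Scheme.{u}) (c : Cone D)
  (hc : IsLimit c) [∀ {i j : I} (f : i ⟶ j), IsAffineHom (D.map f)]
  (i₀ : I)
  (L₀ : (D.obj i₀).Modules) (hL₀ : PicF.IsInvertible L₀)

/-- `V` is the locus `X_t` of a section of a positive power of the pullback of `L₀` to stage `k`. -/
def IsLocus (k : Over i₀) (V : (D.obj k.left).Opens) : Prop :=
  ∃ (n : ℕ) (t : Coh.structureModule (D.obj k.left) ⟶
      CohB1.tensorPow ((Scheme.Modules.pullback (D.map k.hom)).obj L₀) (n + 1)),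
    CohB1.genLocus _ t = V

include hL₀ in
theorem isLocus_preimage {k k' : Over i₀} (v : k' ⟶ k) {V : (D.obj k.left).Opens}
    (h : IsLocus D i₀ L₀ k V) : IsLocus D i₀ L₀ k' (D.map v.left ⁻¹ᵁ V) := by
  obtain ⟨n, t, rfl⟩ := h
  have hinv : PicF.IsInvertible ((Scheme.Modules.pullback (D.map k.hom)).obj L₀) :=
    PbInv.isInvertible_pullback _ _ hL₀
  refine ⟨n, PbAmple.pullbackPowSec (D.map v.left) _ hinv (n + 1) t ≫
    (Tensor.powIso ((kap (D.map v.left) (D.map k.hom) (D.map k'.hom)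
      (by rw [← D.map_comp, Over.w])).app L₀) (n + 1)).hom, ?_⟩
  rw [GenLoc.genLocus_comp_iso, PbAmple.genLocus_pullbackPowSec]

include hL₀ in
theorem isRetrocompact_of_isLocus {k : Over i₀} {V : (D.obj k.left).Opens}
    (h : IsLocus D i₀ L₀ k V) : IsRetrocompact (X := D.obj k.left) V := by
  obtain ⟨n, t, rfl⟩ := h
  exact Ample.isRetrocompact_genLocus _ (Inv.isInvertible_tensorPow _
    (PbInv.isInvertible_pullback _ _ hL₀) _) t

variable [∀ i, CompactSpace (D.obj i)] [∀ i, QuasiSeparatedSpace (D.obj i)]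

include hc in
/-- if the preimage in the limit of a quasi-compact open of a stage is affine, so is its preimage
at some later stage. -/
theorem exists_stage_isAffineOpen_preimage {i : I} (U : (D.obj i).Opens)
    (hUc : IsCompact (U : Set (D.obj i))) (hUa : IsAffineOpen (c.π.app i ⁻¹ᵁ U)) :
    ∃ j : Over i, IsAffineOpen (D.map j.hom ⁻¹ᵁ U) := by
  have (j : Over i) : CompactSpace ((opensDiagram D i U).obj j) :=
    isCompact_iff_compactSpace.mp (QuasiCompact.isCompact_preimage _ U.2 hUc)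
  have (j : Over i) : QuasiSeparatedSpace ((opensDiagram D i U).obj j) :=
    (isQuasiSeparated_iff_quasiSeparatedSpace _ (D.map _ ⁻¹ᵁ _).2).mp (.of_quasiSeparatedSpace _)
  have : IsAffine (opensCone D c i U).pt := hUa
  obtain ⟨j, hj⟩ := Scheme.exists_isAffine_of_isLimit _ _ (isLimitOpensCone D c hc i U)
  exact ⟨j, hj⟩

include hc hL₀ in
/-- every point of the limit lies in the preimage of an affine locus at some stage. -/
theorem exists_stage_affine_locus
    (h : CohB1.IsAmple ((Scheme.Modules.pullback (c.π.app i₀)).obj L₀)) (x : c.pt) :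
    ∃ (k : Over i₀) (V : (D.obj k.left).Opens), IsLocus D i₀ L₀ k V ∧ IsAffineOpen V ∧
      x ∈ c.π.app k.left ⁻¹ᵁ V := by
  obtain ⟨-, -, hpts⟩ := h
  obtain ⟨n, s, hx, haff⟩ := hpts x
  obtain ⟨j, φ, t, ht⟩ := exists_stage_genLocus D c hc i₀ L₀ hL₀ (n + 1) s
  -- the locus at stage `(j, φ)`
  have hloc : IsLocus D i₀ L₀ (Over.mk φ) (CohB1.genLocus _ t) :=
    ⟨n, t ≫ (PbTensor.pullbackPowIso (D.map φ) L₀ hL₀ (n + 1)).hom,
      GenLoc.genLocus_comp_iso t _⟩
  have hcpt : IsCompact ((CohB1.genLocus _ t : (D.obj j).Opens) : Set (D.obj j)) :=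
    (isRetrocompact_of_isLocus D i₀ L₀ hL₀ hloc).isCompact
  obtain ⟨j', hj'⟩ := exists_stage_isAffineOpen_preimage D c hc (CohB1.genLocus _ t) hcpt
    (by rw [ht]; exact haff)
  refine ⟨Over.mk (j'.hom ≫ φ), D.map j'.hom ⁻¹ᵁ CohB1.genLocus _ t,
    isLocus_preimage D i₀ L₀ hL₀ (Over.homMk j'.hom : Over.mk (j'.hom ≫ φ) ⟶ Over.mk φ) hloc,
    hj', ?_⟩
  change D.map j'.hom (c.π.app j'.left x) ∈ CohB1.genLocus _ t
  rw [← Scheme.Hom.comp_apply, c.w]
  have : x ∈ c.π.app j ⁻¹ᵁ CohB1.genLocus _ t := by rw [ht]; exact hx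
  exact this


include hc hL₀ in
/-- **Ampleness descends to a stage.** -/
theorem exists_stage_isAmple
    (h : CohB1.IsAmple ((Scheme.Modules.pullback (c.π.app i₀)).obj L₀)) :
    ∃ (i : I) (φ : i ⟶ i₀), CohB1.IsAmple ((Scheme.Modules.pullback (D.map φ)).obj L₀) := by
  classical
  choose k V hloc haff hx using exists_stage_affine_locus D c hc i₀ L₀ hL₀ h
  haveI : CompactSpace c.pt := h.2.1
  obtain ⟨T, hT⟩ := isCompact_univ.elim_finite_subcover
    (fun x : c.pt => ((c.π.app (k x).left ⁻¹ᵁ V x : c.pt.Opens) : Set c.pt))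
    (fun x => (c.π.app (k x).left ⁻¹ᵁ V x).isOpen)
    (fun x _ => Set.mem_iUnion.mpr ⟨x, hx x⟩)
  obtain ⟨l, hl⟩ := IsCofiltered.inf_objs_exists (T.image k)
  have u : ∀ y : T, l ⟶ k y.1 := fun y => (hl (Finset.mem_image_of_mem k y.2)).some
  let W : (D.obj l.left).Opens := ⨆ y : T, D.map (u y).left ⁻¹ᵁ V y.1
  have htop : c.π.app l.left ⁻¹ᵁ ⊤ ≤ c.π.app l.left ⁻¹ᵁ W := by
    intro z _
    have hz := hT (Set.mem_univ z)
    simp only [Set.mem_iUnion] at hz
    obtain ⟨x, hxT, hzx⟩ := hz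
    change c.π.app l.left z ∈ W
    refine Opens.mem_iSup.mpr ⟨⟨x, hxT⟩, ?_⟩
    change D.map (u ⟨x, hxT⟩).left (c.π.app l.left z) ∈ V x
    rw [← Scheme.Hom.comp_apply, c.w]
    exact hzx
  obtain ⟨l', v, hv⟩ := exists_map_preimage_le_map_preimage D c hc (i := l.left) (U := ⊤)
    (V := W) (by rw [Opens.coe_top]; exact isCompact_univ) htop
  refine ⟨l', v ≫ l.hom, PbInv.isInvertible_pullback _ _ hL₀, inferInstance, fun z => ?_⟩
  have hz : z ∈ D.map v ⁻¹ᵁ W := hv (show z ∈ D.map v ⁻¹ᵁ ⊤ from trivial)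
  obtain ⟨y, hy⟩ := Opens.mem_iSup.mp (show D.map v z ∈ W from hz)
  have hloc' : IsLocus D i₀ L₀ (Over.mk (v ≫ l.hom))
      (D.map v ⁻¹ᵁ (D.map (u y).left ⁻¹ᵁ V y.1)) :=
    isLocus_preimage D i₀ L₀ hL₀ (Over.homMk v : Over.mk (v ≫ l.hom) ⟶ l)
      (isLocus_preimage D i₀ L₀ hL₀ (u y) (hloc y.1))
  obtain ⟨n, t, ht⟩ := hloc'
  refine ⟨n, t, ?_, ?_⟩
  · exact ht ▸ hy
  · exact ht ▸ ((haff y.1).preimage _).preimage _

end Groth.Agent.Helper14.AmpleLim
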