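import Mathlib

/-!
# The annihilator of a finite module commutes with flat base change (helper14)
-/

set_option autoImplicit false
universe u
open TensorProduct

namespace Groth.Agent.Helper14.AnnFlat

theorem annihilator_baseChange_of_flat {A B : Type u} [CommRing A] [CommRing B] [Algebra A B]
    [Module.Flat A B] (M : Type u) [AddCommGroup M] [Module A M] [Module.Finite A M] :
    Module.annihilator B (B ⊗[A] M) = (Module.annihilator A M).map (algebraMap A B) := by
  classical
  apply le_antisymm
  · intro b hb
    rw [Module.mem_annihilator] at hb
    obtain ⟨r, m, hm⟩ := Module.Finite.exists_fin (R := A) (M := M)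
    let ψ : A →ₗ[A] (Fin r → M) := LinearMap.pi (fun i => LinearMap.toSpanSingleton A M (m i))
    have hψ : ∀ (a : A) (i : Fin r), ψ a i = a • m i := fun a i => rfl
    have hker : ∀ a : A, a ∈ LinearMap.ker ψ → a ∈ Module.annihilator A M := by
      intro a ha
      rw [Module.mem_annihilator]
      intro x
      have hx : x ∈ Submodule.span A (Set.range m) := hm ▸ Submodule.mem_top
      induction hx using Submodule.span_induction with
      | mem x hx =>
        obtain ⟨i, rfl⟩ := hx
        have := congrFun (LinearMap.mem_ker.mp ha) i
        rw [hψ] at this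
        exact this
      | zero => exact smul_zero a
      | add x y _ _ hx hy => rw [smul_add, hx, hy, add_zero]
      | smul c x _ hx => rw [smul_comm, hx, smul_zero]
    have hex := Module.Flat.lTensor_exact B (LinearMap.exact_subtype_ker_map ψ)
    have h0 : LinearMap.lTensor B ψ (b ⊗ₜ[A] (1 : A)) = 0 := by
      rw [LinearMap.lTensor_tmul]
      have h1 : ψ 1 = ∑ i : Fin r, LinearMap.single A (fun _ => M) i (m i) := by
        ext j
        rw [hψ, one_smul, Finset.sum_apply]
        simp [Pi.single_apply]
      rw [h1, TensorProduct.tmul_sum]
      refine Finset.sum_eq_zero (fun i _ => ?_)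
      have h2 : b ⊗ₜ[A] (LinearMap.single A (fun _ => M) i (m i)) =
          LinearMap.lTensor B (LinearMap.single A (fun _ => M) i) (b ⊗ₜ[A] m i) := by
        rw [LinearMap.lTensor_tmul]
      have h3 : b ⊗ₜ[A] m i = 0 := by
        have := hb ((1 : B) ⊗ₜ[A] m i)
        rw [TensorProduct.smul_tmul', smul_eq_mul, mul_one] at this
        exact this
      rw [h2, h3, map_zero]
    obtain ⟨y, hy⟩ := (hex _).mp h0
    have hrid : ∀ y : B ⊗[A] (LinearMap.ker ψ),
        TensorProduct.rid A B (LinearMap.lTensor B (LinearMap.ker ψ).subtype y) ∈
          (Module.annihilator A M).map (algebraMap A B) := by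
      intro y
      induction y using TensorProduct.induction_on with
      | zero => simp
      | tmul b' k =>
        rw [LinearMap.lTensor_tmul, TensorProduct.rid_tmul, Submodule.subtype_apply,
          Algebra.smul_def]
        exact Ideal.mul_mem_right _ _ (Ideal.mem_map_of_mem _ (hker k.1 k.2))
      | add x y hx hy => rw [map_add, map_add]; exact Ideal.add_mem _ hx hy
    have := hrid y
    rw [hy, TensorProduct.rid_tmul, one_smul] at this
    exact this
  · rw [Ideal.map_le_iff_le_comap]
    intro a ha
    rw [Module.mem_annihilator] at ha
    rw [Ideal.mem_comap, Module.mem_annihilator]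
    intro z
    induction z using TensorProduct.induction_on with
    | zero => exact smul_zero _
    | tmul b m =>
      have e1 : (algebraMap A B a) • (b ⊗ₜ[A] m) = (a • b) ⊗ₜ[A] m := by
        rw [TensorProduct.smul_tmul', smul_eq_mul, Algebra.smul_def]
      rw [e1, TensorProduct.smul_tmul, ha, TensorProduct.tmul_zero]
    | add x y hx hy => rw [smul_add, hx, hy, add_zero]

end Groth.Agent.Helper14.AnnFlat
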