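import Groth.Agent.Lib.Helper14.HomLimA
import Groth.Agent.Lib.Helper14.HomLimB

/-!
# Morphisms out of a finitely presented quasi-coherent module into a filtered "colimit" of
modules on a quasi-compact quasi-separated scheme (helper14)

`exists_hom_lift`: let `X` be qcqs, `F` quasi-coherent with finitely presented sections on affine
opens, `(P j)` a filtered system of `𝒪_X`-modules with compatible maps `σ j : P j ⟶ P'` such that on
every affine open the sections of `P'` are the filtered colimit of the sections of the `P j`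
(element-wise).  Then every `h : F ⟶ P'` factors through some `σ j`.
-/

set_option autoImplicit false
universe u v w
open CategoryTheory CategoryTheory.Limits AlgebraicGeometry Opposite TopologicalSpace
open RefHull Groth.Agent.Lead.HomSh

namespace Groth.Agent.Helper14.HomLim

variable {X : Scheme.{u}}

/-- the action of a morphism of modules on sections, as a linear map -/
noncomputable def appLin {M N : X.Modules} (φ : M ⟶ N) (U : X.Opens) :
    Γ(M, U) →ₗ[Γ(X, U)] Γ(N, U) where
  toFun := φ.app U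
  map_add' := map_add _
  map_smul' r x := Scheme.Modules.Hom.app_smul φ r x

theorem appLin_apply {M N : X.Modules} (φ : M ⟶ N) (U : X.Opens) (x : Γ(M, U)) :
    appLin φ U x = φ.app U x := rfl

theorem sec_ext_of_affine' {F G : X.Modules} [F.IsQuasicoherent] {V : X.Opens}
    (hV : IsAffineOpen V) (g g' : Γ(homSh F G, V))
    (h : ∀ m : Γ(F, V), evalSec g m = evalSec g' m) : g = g' := by
  apply sec_ext_of_affine hV (le_refl V)
  intro m
  exact h _

section System

variable {F : X.Modules} [F.IsQuasicoherent]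
  {J : Type w} [Category.{v} J] [IsFiltered J] (P : J → X.Modules)
  (τ : ∀ {j k : J}, (j ⟶ k) → (P j ⟶ P k)) {P' : X.Modules} (σ : ∀ j, P j ⟶ P')
  (hσ : ∀ {j k : J} (u : j ⟶ k) (V : X.Opens), IsAffineOpen V → ∀ x : Γ(P j, V),
    (σ k).app V ((τ u).app V x) = (σ j).app V x)
  (hsurj : ∀ (V : X.Opens), IsAffineOpen V → ∀ q : Γ(P', V),
    ∃ (j : J) (x : Γ(P j, V)), (σ j).app V x = q)
  (hker : ∀ (V : X.Opens), IsAffineOpen V → ∀ (j : J) (x : Γ(P j, V)), (σ j).app V x = 0 →
    ∃ (k : J) (u : j ⟶ k), (τ u).app V x = 0)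

include hσ in
theorem postcomp_postcomp_σ {V : X.Opens} (hV : IsAffineOpen V) {j k : J} (u : j ⟶ k)
    (g : Γ(homSh F (P j), V)) :
    postcomp (σ k) (postcomp (τ u) g) = postcomp (σ j) g := by
  apply sec_ext_of_affine' hV
  intro m
  rw [evalSec_postcomp, evalSec_postcomp, evalSec_postcomp, hσ u V hV]

variable {ι : Type u} (U : ι → X.Opens) (h : F ⟶ P')

/-- a stage together with local sections of the sheaf Hom on the cover -/
abbrev State := Σ j : J, ∀ a : ι, Γ(homSh F (P j), U a)

variable {P U} in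
/-- the local sections lift `h` -/
def Inv (s : State (F := F) P U) : Prop := ∀ a, postcomp (σ s.1) (s.2 a) = ofHom h (U a)

variable {P U} in
/-- push the local sections to a later stage -/
noncomputable def push {j k : J} (u : j ⟶ k) (g : ∀ a : ι, Γ(homSh F (P j), U a)) :
    ∀ a : ι, Γ(homSh F (P k), U a) := fun a => postcomp (τ u) (g a)

variable {P U} in
/-- one step -/
def Step (s s' : State (F := F) P U) : Prop := ∃ u : s.1 ⟶ s'.1, s'.2 = push τ u s.2

variable {P U} in
/-- reachability -/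
def Reach : State (F := F) P U → State (F := F) P U → Prop := Relation.ReflTransGen (Step τ)

variable (hUaff : ∀ a, IsAffineOpen (U a))

include hσ hUaff in
theorem inv_step {s s' : State (F := F) P U} (hs : Inv σ h s) (hst : Step τ s s') :
    Inv σ h s' := by
  obtain ⟨j, g⟩ := s
  obtain ⟨k, g'⟩ := s'
  obtain ⟨u, hu⟩ := hst
  dsimp only at u hu
  subst hu
  intro a
  change postcomp (σ k) (postcomp (τ u) (g a)) = _
  rw [postcomp_postcomp_σ P τ σ hσ (hUaff a) u (g a)]
  exact hs a

include hσ hUaff in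
theorem inv_reach {s s' : State (F := F) P U} (hs : Inv σ h s) (hst : Reach τ s s') :
    Inv σ h s' := by
  induction hst with
  | refl => exact hs
  | tail _ hbc ih => exact inv_step P τ σ hσ U h hUaff ih hbc

variable {P U} in
/-- a property holds eventually -/
def Ev (Φ : State (F := F) P U → Prop) : Prop :=
  ∀ s, Inv σ h s → ∃ s', Reach τ s s' ∧ Φ s'

include hσ hUaff in
theorem ev_finset {K : Type*} (Φ : K → State (F := F) P U → Prop)
    (hpers : ∀ k s s', Step τ s s' → Φ k s → Φ k s')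
    (hev : ∀ k, Ev τ σ h (Φ k)) (S : Finset K) :
    Ev τ σ h (fun s => ∀ k ∈ S, Φ k s) := by
  classical
  have hpers' : ∀ k s s', Reach τ s s' → Φ k s → Φ k s' := by
    intro k s s' hst hk
    induction hst with
    | refl => exact hk
    | tail _ hbc ih => exact hpers k _ _ hbc ih
  induction S using Finset.induction_on with
  | empty => exact fun s _ => ⟨s, Relation.ReflTransGen.refl, by simp⟩
  | insert k S hk ih =>
    intro s hs
    obtain ⟨s₁, h1, hΦ1⟩ := ih s hs
    obtain ⟨s₂, h2, hΦ2⟩ := hev k s₁ (inv_reach P τ σ hσ U h hUaff hs h1)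
    refine ⟨s₂, h1.trans h2, fun k' hk' => ?_⟩
    rcases Finset.mem_insert.mp hk' with rfl | h'
    · exact hΦ2
    · exact hpers' k' _ _ h2 (hΦ1 k' h')

/-! ### the agreement conditions -/

variable {P U} in
/-- agreement of the two local sections at a section of `F` over a small affine -/
def AgreeAt (a b : ι) {V' : X.Opens} (hle : V' ≤ U a ⊓ U b) (m : Γ(F, V'))
    (s : State (F := F) P U) : Prop :=
  evalSec (resH (hle.trans inf_le_left) (s.2 a)) m = evalSec (resH (hle.trans inf_le_right) (s.2 b)) m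

variable {P U} in
/-- agreement of the two local sections over a small affine -/
def AgreeOn (a b : ι) {V' : X.Opens} (hle : V' ≤ U a ⊓ U b) (s : State (F := F) P U) : Prop :=
  resH (hle.trans inf_le_left) (s.2 a) = resH (hle.trans inf_le_right) (s.2 b)

variable {P U} in
/-- agreement on the whole overlap -/
def AgreeInter (a b : ι) (s : State (F := F) P U) : Prop :=
  resH (inf_le_left : U a ⊓ U b ≤ U a) (s.2 a) = resH (inf_le_right : U a ⊓ U b ≤ U b) (s.2 b)

theorem agreeAt_step (a b : ι) {V' : X.Opens} (hle : V' ≤ U a ⊓ U b) (m : Γ(F, V'))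
    (s s' : State (F := F) P U) (hst : Step τ s s') (hs : AgreeAt a b hle m s) :
    AgreeAt a b hle m s' := by
  obtain ⟨j, g⟩ := s
  obtain ⟨k, g'⟩ := s'
  obtain ⟨u, hu⟩ := hst
  dsimp only at u hu
  subst hu
  change evalSec (postcomp (τ u) (resH _ (g a))) m = evalSec (postcomp (τ u) (resH _ (g b))) m
  rw [evalSec_postcomp, evalSec_postcomp]
  exact congrArg _ hs

theorem agreeOn_step (a b : ι) {V' : X.Opens} (hle : V' ≤ U a ⊓ U b)
    (s s' : State (F := F) P U) (hst : Step τ s s') (hs : AgreeOn a b hle s) :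
    AgreeOn a b hle s' := by
  obtain ⟨j, g⟩ := s
  obtain ⟨k, g'⟩ := s'
  obtain ⟨u, hu⟩ := hst
  dsimp only at u hu
  subst hu
  change postcomp (τ u) (resH _ (g a)) = postcomp (τ u) (resH _ (g b))
  exact congrArg _ hs

theorem agreeInter_step (a b : ι)
    (s s' : State (F := F) P U) (hst : Step τ s s') (hs : AgreeInter a b s) :
    AgreeInter a b s' := by
  obtain ⟨j, g⟩ := s
  obtain ⟨k, g'⟩ := s'
  obtain ⟨u, hu⟩ := hst
  dsimp only at u hu
  subst hu
  change postcomp (τ u) (resH _ (g a)) = postcomp (τ u) (resH _ (g b))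
  exact congrArg _ hs

include hσ hker in
theorem ev_agreeAt (a b : ι) {V' : X.Opens} (hV' : IsAffineOpen V') (hle : V' ≤ U a ⊓ U b)
    (m : Γ(F, V')) : Ev τ σ h (AgreeAt a b hle m) := by
  intro s hs
  obtain ⟨j, g⟩ := s
  have key : ∀ (c : ι) (hc : V' ≤ U c),
      (σ j).app V' (evalSec (resH hc (g c)) m) = h.app V' m := by
    intro c hc
    rw [← evalSec_postcomp, ← resH_postcomp, hs c, resH_ofHom, evalSec_ofHom]
  have heq : (σ j).app V' (evalSec (resH (hle.trans inf_le_left) (g a)) m) =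
      (σ j).app V' (evalSec (resH (hle.trans inf_le_right) (g b)) m) := by
    rw [key a, key b]
  obtain ⟨k, u, hu⟩ := exists_eq_of_eq (A := Γ(X, V')) (fun j => Γ(P j, V'))
    (fun u => appLin (τ u) V') (fun j => appLin (σ j) V')
    (fun u x => hσ u V' hV' x) (fun j x hx => hker V' hV' j x hx) j _ _ heq
  refine ⟨⟨k, push τ u g⟩, Relation.ReflTransGen.single ⟨u, rfl⟩, ?_⟩
  change evalSec (postcomp (τ u) (resH _ (g a))) m = evalSec (postcomp (τ u) (resH _ (g b))) m
  rw [evalSec_postcomp, evalSec_postcomp]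
  exact hu

include hσ hker hUaff in
theorem ev_agreeOn (a b : ι) {V' : X.Opens} (hV' : IsAffineOpen V') (hle : V' ≤ U a ⊓ U b)
    [Module.Finite Γ(X, V') Γ(F, V')] : Ev τ σ h (AgreeOn a b hle) := by
  obtain ⟨S, hS⟩ := (Module.Finite.fg_top : (⊤ : Submodule Γ(X, V') Γ(F, V')).FG)
  intro s hs
  obtain ⟨s', hr, hs'⟩ := ev_finset P τ σ hσ U h hUaff (fun m => AgreeAt a b hle m)
    (fun m s s' hst hm => agreeAt_step P τ U a b hle m s s' hst hm)
    (fun m => ev_agreeAt P τ σ hσ hker U h a b hV' hle m) S s hs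
  refine ⟨s', hr, ?_⟩
  apply sec_ext_of_affine' hV'
  intro m
  have h1 : evalLin (resH (hle.trans inf_le_left) (s'.2 a)) =
      evalLin (resH (hle.trans inf_le_right) (s'.2 b)) := by
    apply LinearMap.ext_on hS
    intro m hm
    exact hs' m hm
  exact congr($h1 m)

include hσ hker hUaff in
theorem ev_agreeInter [QuasiSeparatedSpace X]
    (hfin : ∀ V : X.Opens, IsAffineOpen V → Module.Finite Γ(X, V) Γ(F, V)) (a b : ι) :
    Ev τ σ h (AgreeInter (F := F) (P := P) (U := U) a b) := by
  classical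
  have hc : IsCompact (X := X) ((U a ⊓ U b : X.Opens) : Set X) :=
    QuasiSeparatedSpace.inter_isCompact _ _ (U a).2 (hUaff a).isCompact (U b).2
      (hUaff b).isCompact
  obtain ⟨S, hSfin, hS⟩ := isCompact_iff_finite_and_eq_biUnion_affineOpens.mp hc
  intro s hs
  obtain ⟨s', hr, hs'⟩ := ev_finset P τ σ hσ U h hUaff
    (fun (V' : X.affineOpens) s => ∀ hle : V'.1 ≤ U a ⊓ U b, AgreeOn a b hle s)
    (fun V' s s' hst hV' hle => agreeOn_step P τ U a b hle s s' hst (hV' hle))
    (fun V' => by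
      by_cases hle : V'.1 ≤ U a ⊓ U b
      · haveI := hfin V'.1 V'.2
        intro s hs
        obtain ⟨s', hr, hs'⟩ := ev_agreeOn P τ σ hσ hker U h hUaff a b V'.2 hle s hs
        exact ⟨s', hr, fun _ => hs'⟩
      · exact fun s _ => ⟨s, Relation.ReflTransGen.refl, fun hle' => absurd hle' hle⟩)
    hSfin.toFinset s hs
  refine ⟨s', hr, ?_⟩
  apply sec_ext
  intro y
  have hy : y.1 ∈ ⨆ i ∈ S, (i : X.Opens) := hS ▸ y.2
  obtain ⟨V', hV'S, hyV'⟩ : ∃ V' ∈ S, y.1 ∈ V'.1 := by
    simpa [Opens.mem_iSup] using hy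
  have hle : V'.1 ≤ U a ⊓ U b := by
    rw [hS]
    exact le_biSup (fun i : X.affineOpens => (i : X.Opens)) hV'S
  have h1 := hs' V' (hSfin.mem_toFinset.mpr hV'S) hle
  exact congrArg (fun g : Γ(homSh F (P s'.1), V'.1) => g.1 ⟨y.1, hyV'⟩) h1

include hσ hker hUaff in
theorem ev_all [QuasiSeparatedSpace X] [Finite ι]
    (hfin : ∀ V : X.Opens, IsAffineOpen V → Module.Finite Γ(X, V) Γ(F, V)) :
    Ev τ σ h (fun s => ∀ a b, AgreeInter (F := F) (P := P) (U := U) a b s) := by
  classical
  haveI := Fintype.ofFinite ι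
  intro s hs
  obtain ⟨s', hr, hs'⟩ := ev_finset P τ σ hσ U h hUaff
    (fun (ab : ι × ι) s => AgreeInter ab.1 ab.2 s)
    (fun ab s s' hst hab => agreeInter_step P τ U ab.1 ab.2 s s' hst hab)
    (fun ab => ev_agreeInter P τ σ hσ hker U h hUaff hfin ab.1 ab.2) Finset.univ s hs
  exact ⟨s', hr, fun a b => hs' (a, b) (Finset.mem_univ _)⟩

include hσ hsurj hker hUaff in
theorem exists_init [Finite ι]
    (hfp : ∀ V : X.Opens, IsAffineOpen V → Module.FinitePresentation Γ(X, V) Γ(F, V)) :
    ∃ s : State (F := F) P U, Inv σ h s := by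
  classical
  haveI := Fintype.ofFinite ι
  have hloc : ∀ a : ι, ∃ (j : J) (l : Γ(F, U a) →ₗ[Γ(X, U a)] Γ(P j, U a)),
      ∀ m, (σ j).app (U a) (l m) = h.app (U a) m := by
    intro a
    haveI := hfp (U a) (hUaff a)
    exact exists_lift_of_finitePresentation (A := Γ(X, U a)) (fun j => Γ(P j, U a))
      (fun u => appLin (τ u) (U a)) (fun j => appLin (σ j) (U a))
      (fun u x => hσ u (U a) (hUaff a) x) (fun q => hsurj (U a) (hUaff a) q)
      (fun j x hx => hker (U a) (hUaff a) j x hx) (appLin h (U a))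
  choose ja la hla using hloc
  obtain ⟨j, hj⟩ := IsFiltered.sup_objs_exists (Finset.univ.image ja)
  have hu : ∀ a : ι, Nonempty (ja a ⟶ j) := fun a =>
    hj (Finset.mem_image_of_mem ja (Finset.mem_univ a))
  let u : ∀ a, ja a ⟶ j := fun a => (hu a).some
  have hg : ∀ a : ι, ∃ g : Γ(homSh F (P j), U a), ∀ m : Γ(F, U a),
      evalSec g m = (appLin (τ (u a)) (U a)).comp (la a) m := fun a =>
    exists_sec_of_linear (hUaff a) _
  choose g hg using hg
  refine ⟨⟨j, g⟩, fun a => ?_⟩
  apply sec_ext_of_affine' (hUaff a)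
  intro m
  change evalSec (postcomp (σ j) (g a)) m = _
  rw [evalSec_postcomp, hg a m, evalSec_ofHom, LinearMap.comp_apply, appLin_apply,
    hσ (u a) (U a) (hUaff a), hla]

include hσ hsurj hker in
/-- **Main theorem**: morphisms from a finitely presented quasi-coherent module to `P'` lift to a
stage. -/
theorem exists_hom_lift [CompactSpace X] [QuasiSeparatedSpace X]
    (hfp : ∀ V : X.Opens, IsAffineOpen V → Module.FinitePresentation Γ(X, V) Γ(F, V))
    (h : F ⟶ P') : ∃ (j : J) (hj : F ⟶ P j), hj ≫ σ j = h := by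
  classical
  have hex : ∀ x : X, ∃ V : X.Opens, IsAffineOpen V ∧ x ∈ V := by
    intro x
    obtain ⟨_, ⟨V, hV, rfl⟩, hxV, -⟩ :=
      X.isBasis_affineOpens.exists_subset_of_mem_open (Set.mem_univ x) isOpen_univ
    exact ⟨V, hV, hxV⟩
  choose V hV hxV using hex
  obtain ⟨t, ht⟩ := CompactSpace.elim_nhds_subcover (fun x => (V x : Set X))
    (fun x => (V x).2.mem_nhds (hxV x))
  let U : t → X.Opens := fun a => V a.1
  have hUaff : ∀ a, IsAffineOpen (U a) := fun a => hV a.1
  have hUcov : ∀ x : X, ∃ a, x ∈ U a := by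
    intro x
    have hx : x ∈ ⋃ y ∈ t, (V y : Set X) := by rw [ht]; exact Set.mem_univ _
    obtain ⟨y, hy, hxy⟩ := Set.mem_iUnion₂.mp hx
    exact ⟨⟨y, hy⟩, hxy⟩
  have hfin : ∀ V : X.Opens, IsAffineOpen V → Module.Finite Γ(X, V) Γ(F, V) := by
    intro V hV
    haveI := hfp V hV
    infer_instance
  obtain ⟨s₀, hs₀⟩ := exists_init P τ σ hσ hsurj hker U h hUaff hfp
  obtain ⟨s, hr, hs⟩ := ev_all P τ σ hσ hker U h hUaff hfin s₀ hs₀
  have hinv := inv_reach P τ σ hσ U h hUaff hs₀ hr
  obtain ⟨gs, hgs⟩ := exists_glue_sec U hUcov s.2 hs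
  refine ⟨s.1, homOfSec gs, ?_⟩
  apply hom_ext_of_ofHom _ _ U hUcov
  intro a
  rw [ofHom_comp, ofHom_homOfSec, hgs a]
  exact hinv a

end System

end Groth.Agent.Helper14.HomLim
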