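import Mathlib
import Groth.Agent.Lib.Helper14.AnnFlatA
import Groth.Agent.Lib.Helper14.HomLimC
import Groth.Agent.Lib.Helper13.IdealComap
import Groth.Agent.Lib.Helper13.FittPullback
import Groth.Agent.Lib.Helper13.FinAffine2
import Groth.Agent.Lib.Helper13.PullbackSections

/-!
# The annihilator ideal sheaf of a finite type quasi-coherent module and flat pullback (helper14)
-/

set_option autoImplicit false
universe u
open CategoryTheory CategoryTheory.Limits AlgebraicGeometry TensorProduct

namespace Groth.Agent.Helper14.AnnFlat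

open Groth.Agent.Helper13.Pullback Groth.Agent.Helper14.HomLim

/-- sections of isomorphic modules are linearly equivalent -/
noncomputable def secEquiv {X : Scheme.{u}} {M N : X.Modules} (φ : M ≅ N) (U : X.Opens) :
    Γ(M, U) ≃ₗ[Γ(X, U)] Γ(N, U) :=
  LinearEquiv.ofLinearMap (appLin φ.hom U) (appLin φ.inv U)
    (by
      ext x
      change φ.hom.app U (φ.inv.app U x) = x
      rw [← ConcreteCategory.comp_apply, ← Scheme.Modules.Hom.comp_app, Iso.inv_hom_id]
      rfl)
    (by
      ext x
      change φ.inv.app U (φ.hom.app U x) = x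
      rw [← ConcreteCategory.comp_apply, ← Scheme.Modules.Hom.comp_app, Iso.hom_inv_id]
      rfl)

/-- the annihilator of the sections of a flat pullback over an affine open. -/
theorem annihilator_sections_pullback {Y X : Scheme.{u}} (f : Y ⟶ X) [Flat f] (F : X.Modules)
    [F.IsQuasicoherent] [SheafOfModules.IsFiniteType (R := X.ringCatSheaf) F]
    {U : X.Opens} (hU : IsAffineOpen U) {W : Y.Opens} (hW : IsAffineOpen W) (e : W ≤ f ⁻¹ᵁ U) :
    Module.annihilator Γ(Y, W) Γ((Scheme.Modules.pullback f).obj F, W) =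
      (Module.annihilator Γ(X, U) Γ(F, U)).map (f.appLE U W e).hom := by
  letI := (f.appLE U W e).hom.toAlgebra
  haveI : Module.Flat Γ(X, U) Γ(Y, W) :=
    HasRingHomProperty.appLE (P := @Flat) f inferInstance ⟨U, hU⟩ ⟨W, hW⟩ e
  haveI : Module.Finite Γ(X, U) Γ(F, U) :=
    Groth.Agent.Helper13.FinType.finite_sections_of_isFiniteType F hU
  rw [(sectionsPullbackEquiv f F hW hU e).annihilator_eq]
  exact annihilator_baseChange_of_flat Γ(F, U)

/-- the annihilator of the sections of a finite type quasi-coherent module is compatible with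
restriction between affine opens. -/
theorem annihilator_sections_res {Y : Scheme.{u}} (G : Y.Modules)
    [G.IsQuasicoherent] [SheafOfModules.IsFiniteType (R := Y.ringCatSheaf) G]
    {V W : Y.Opens} (hV : IsAffineOpen V) (hW : IsAffineOpen W) (e : W ≤ V) :
    (Module.annihilator Γ(Y, V) Γ(G, V)).map (Y.presheaf.map (homOfLE e).op).hom =
      Module.annihilator Γ(Y, W) Γ(G, W) := by
  have h1 := annihilator_sections_pullback (𝟙 Y) G hV hW e
  have h2 : (𝟙 Y : Y ⟶ Y).appLE V W e = Y.presheaf.map (homOfLE e).op := by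
    simp only [Scheme.Hom.appLE, Scheme.Hom.id_app]
    exact Category.id_comp _
  rw [h2] at h1
  rw [← h1]
  exact (secEquiv ((Scheme.Modules.pullbackId Y).app G) W).annihilator_eq

/-- **The annihilator ideal sheaf commutes with flat pullback.** -/
theorem ideal_comap_eq_annihilator {Y X : Scheme.{u}} (f : Y ⟶ X) [Flat f] (F : X.Modules)
    [F.IsQuasicoherent] [SheafOfModules.IsFiniteType (R := X.ringCatSheaf) F]
    (J : X.IdealSheafData)
    (hJ : ∀ U : X.affineOpens, J.ideal U = Module.annihilator Γ(X, U.1) Γ(F, U.1))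
    (V : Y.affineOpens) :
    (J.comap f).ideal V =
      Module.annihilator Γ(Y, V.1) Γ((Scheme.Modules.pullback f).obj F, V.1) := by
  rw [V.2.ideal_ext_iff]
  intro y hy
  obtain ⟨_, ⟨U, hU, rfl⟩, hyU, -⟩ :=
    X.isBasis_affineOpens.exists_subset_of_mem_open (Set.mem_univ (f y)) isOpen_univ
  obtain ⟨_, ⟨W, hW, rfl⟩, hyW, hWle⟩ :=
    Y.isBasis_affineOpens.exists_subset_of_mem_open
      (show y ∈ ((V.1 ⊓ f ⁻¹ᵁ U : Y.Opens) : Set Y) from ⟨hy, hyU⟩) (V.1 ⊓ f ⁻¹ᵁ U).2
  have hWV : W ≤ V.1 := fun z hz => (hWle hz).1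
  have hWU : W ≤ f ⁻¹ᵁ U := fun z hz => (hWle hz).2
  have key : ∀ I : Ideal Γ(Y, V.1), I.map (Y.presheaf.germ V.1 y hy).hom =
      (I.map (Y.presheaf.map (homOfLE hWV).op).hom).map (Y.presheaf.germ W y hyW).hom := by
    intro I
    rw [Ideal.map_map, ← CommRingCat.hom_comp, Y.presheaf.germ_res]
  rw [key, key]
  congr 1
  have h1 : ((J.comap f).ideal V).map (Y.presheaf.map (homOfLE hWV).op).hom =
      (J.comap f).ideal ⟨W, hW⟩ := (J.comap f).map_ideal (U := ⟨W, hW⟩) (V := V) hWV
  rw [h1, Groth.Agent.Helper13.IdealComap.ideal_comap f J ⟨U, hU⟩ ⟨W, hW⟩ hWU, hJ ⟨U, hU⟩,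
    ← annihilator_sections_pullback f F hU hW hWU]
  exact (annihilator_sections_res _ V.2 hW hWV).symm

end Groth.Agent.Helper14.AnnFlat
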