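import Mathlib

set_option autoImplicit false
universe u

namespace Groth.Agent.Helper14

/-- Nilpotent Nakayama: if `N + J M = M` then `N + J^k M = M` for all `k`. -/
theorem sup_pow_smul_top_eq_top {B M : Type*} [CommRing B] [AddCommGroup M] [Module B M]
    (J : Ideal B) (N : Submodule B M) (h : N ⊔ J • (⊤ : Submodule B M) = ⊤) (k : ℕ) :
    N ⊔ (J ^ k) • (⊤ : Submodule B M) = ⊤ := by
  induction k with
  | zero => simp
  | succ k ih =>
    have key : (J ^ k) • (⊤ : Submodule B M) ≤ N ⊔ (J ^ (k + 1)) • (⊤ : Submodule B M) := by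
      calc (J ^ k) • (⊤ : Submodule B M)
          = (J ^ k) • (N ⊔ J • (⊤ : Submodule B M)) := by rw [h]
        _ = (J ^ k) • N ⊔ (J ^ k) • J • (⊤ : Submodule B M) := Submodule.smul_sup _ _ _
        _ = (J ^ k) • N ⊔ (J ^ (k + 1)) • (⊤ : Submodule B M) := by
            rw [← Submodule.mul_smul, ← pow_succ]
        _ ≤ N ⊔ (J ^ (k + 1)) • (⊤ : Submodule B M) :=
            sup_le_sup_right Submodule.smul_le_right _
    rw [eq_top_iff]
    calc (⊤ : Submodule B M) = N ⊔ (J ^ k) • (⊤ : Submodule B M) := ih.symm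
      _ ≤ N ⊔ (J ^ (k + 1)) • (⊤ : Submodule B M) := sup_le le_sup_left key


open IsLocalRing in
theorem finiteType_of_residue_comp_finiteType {R A : Type u} [CommRing R] [CommRing A]
    [IsLocalRing A] (θ : R →+* A) (hfg : (maximalIdeal A).FG)
    (hnil : ∃ n, maximalIdeal A ^ n = ⊥)
    (h : ((residue A).comp θ).FiniteType) : θ.FiniteType := by
  classical
  let _ : Algebra R A := θ.toAlgebra
  let _ : Algebra R (ResidueField A) := ((residue A).comp θ).toAlgebra
  have : IsScalarTower R A (ResidueField A) := IsScalarTower.of_algebraMap_eq fun x => rfl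
  have hκ : Algebra.FiniteType R (ResidueField A) := h
  obtain ⟨s, hs⟩ := hκ.out
  obtain ⟨t, ht⟩ := hfg
  obtain ⟨n, hn⟩ := hnil
  let σ := Function.surjInv (residue_surjective (R := A))
  have hσ : ∀ x, residue A (σ x) = x := Function.surjInv_eq _
  let gens : Finset A := s.image σ ∪ t
  let B : Subalgebra R A := Algebra.adjoin R (gens : Set A)
  suffices hB : B = ⊤ from ⟨⟨gens, hB⟩⟩
  -- Step 1
  have step1 : ∀ a : A, ∃ b ∈ B, a - b ∈ maximalIdeal A := by
    intro a
    let resA : A →ₐ[R] ResidueField A := IsScalarTower.toAlgHom R A _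
    have hmap : (Algebra.adjoin R ((s.image σ : Finset A) : Set A)).map resA = ⊤ := by
      rw [AlgHom.map_adjoin, ← hs]
      congr 1
      ext x
      simp only [Finset.coe_image, Set.mem_image, Finset.mem_coe, exists_exists_and_eq_and]
      constructor
      · rintro ⟨y, hy, rfl⟩
        have : resA (σ y) = y := hσ y
        rw [this]; exact hy
      · intro hx
        exact ⟨x, hx, hσ x⟩
    have hmem : resA a ∈ (Algebra.adjoin R ((s.image σ : Finset A) : Set A)).map resA := by
      rw [hmap]; trivial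
    obtain ⟨b, hb, hba⟩ := hmem
    refine ⟨b, Algebra.adjoin_mono (by simp [gens]) hb, ?_⟩
    rw [← Ideal.Quotient.eq]
    exact hba.symm
  let J : Ideal B := Ideal.span (Set.range fun j : t =>
    (⟨j.1, Algebra.subset_adjoin (by simp [gens])⟩ : B))
  let N : Submodule B A := Submodule.span B {(1 : A)}
  have hJm : ∀ r ∈ J, (r : A) ∈ maximalIdeal A := by
    have : J ≤ Ideal.comap (algebraMap B A) (maximalIdeal A) := by
      rw [Ideal.span_le]
      rintro _ ⟨j, rfl⟩
      show (j.1 : A) ∈ maximalIdeal A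
      rw [← ht]
      exact Ideal.subset_span j.2
    exact fun r hr => this hr
  have hsup : N ⊔ J • (⊤ : Submodule B A) = ⊤ := by
    rw [eq_top_iff]
    intro a _
    obtain ⟨b, hb, hab⟩ := step1 a
    have hdecomp : a = (⟨b, hb⟩ : B) • (1 : A) + (a - b) := by
      rw [Subalgebra.smul_def]; simp
    rw [hdecomp]
    apply Submodule.add_mem_sup
    · exact Submodule.smul_mem _ _ (Submodule.subset_span rfl)
    · rw [← ht] at hab
      obtain ⟨f, -, hf⟩ := Submodule.mem_span_finset.mp hab
      rw [← hf]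
      refine Submodule.sum_mem _ fun i hi => ?_
      have : f i • i = (⟨i, Algebra.subset_adjoin (by simp [gens, hi])⟩ : B) • f i := by
        rw [Subalgebra.smul_def, smul_eq_mul, smul_eq_mul, mul_comm]
      rw [this]
      exact Submodule.smul_mem_smul (Ideal.subset_span ⟨⟨i, hi⟩, rfl⟩) trivial
  have hpow : ∀ k, (J ^ k) • (⊤ : Submodule B A) ≤
      ((maximalIdeal A) ^ k).restrictScalars B := by
    intro k
    induction k with
    | zero => intro x _; simp
    | succ k ih =>
      rw [pow_succ', Submodule.mul_smul, Submodule.smul_le]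
      intro r hr x hx
      have hx' : x ∈ (maximalIdeal A) ^ k := ih hx
      show r • x ∈ (maximalIdeal A) ^ (k + 1)
      rw [Subalgebra.smul_def, smul_eq_mul, pow_succ']
      exact Ideal.mul_mem_mul (hJm r hr) hx'
  have htop := sup_pow_smul_top_eq_top J N hsup n
  have hbot : (J ^ n) • (⊤ : Submodule B A) = ⊥ := by
    rw [eq_bot_iff]
    refine (hpow n).trans ?_
    rw [hn]
    intro x hx
    exact hx
  rw [hbot, sup_bot_eq] at htop
  rw [eq_top_iff]
  intro a _
  have haN : a ∈ N := by rw [htop]; trivial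
  obtain ⟨b, rfl⟩ := Submodule.mem_span_singleton.mp haN
  rw [Subalgebra.smul_def, smul_eq_mul, mul_one]
  exact b.2

end Groth.Agent.Helper14
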