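import Mathlib.RingTheory.Artinian.Ring
import Mathlib.RingTheory.Finiteness.Quotient
import Mathlib.Algebra.Module.Torsion.Basic
import Mathlib.RingTheory.Noetherian.Basic
import Mathlib.RingTheory.Ideal.Quotient.Operations

set_option autoImplicit false
set_option linter.style.haveILetI false
universe u
namespace Groth.Agent.Helper14

theorem finite_of_torsion {R S : Type u} [CommRing R] [CommRing S] [Algebra R S] (m : Ideal S)
    [Module.Finite R (S ⧸ m)]
    (M : Type u) [AddCommGroup M] [Module S M] [Module R M] [IsScalarTower R S M] [Module.Finite S M]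
    (hM : Module.IsTorsionBySet S M m) : Module.Finite R M := by
  letI : Module (S ⧸ m) M := hM.module
  haveI : IsScalarTower S (S ⧸ m) M := hM.isScalarTower
  haveI : IsScalarTower R (S ⧸ m) M := hM.isScalarTower
  haveI : Module.Finite (S ⧸ m) M := Module.Finite.of_restrictScalars_finite S (S ⧸ m) M
  exact Module.Finite.trans (S ⧸ m) M

theorem finite_of_pow_torsion {R S : Type u} [CommRing R] [CommRing S] [Algebra R S] [IsNoetherianRing S]
    (m : Ideal S) [Module.Finite R (S ⧸ m)] (k : ℕ) :
    ∀ (M : Type u) [AddCommGroup M] [Module S M] [Module R M] [IsScalarTower R S M] [Module.Finite S M],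
    (m ^ k • (⊤ : Submodule S M) = ⊥) → Module.Finite R M := by
  induction k with
  | zero =>
    intro M _ _ _ _ _ h
    rw [pow_zero, Ideal.one_eq_top, Submodule.top_smul] at h
    haveI : Subsingleton M := by
      rw [← Submodule.subsingleton_iff S, ← subsingleton_iff_bot_eq_top]; exact h.symm
    infer_instance
  | succ k ih =>
    intro M _ _ _ _ _ h
    let N : Submodule S M := m • (⊤ : Submodule S M)
    haveI : IsNoetherian S M := isNoetherian_of_isNoetherianRing_of_finite S M
    haveI : Module.Finite S N := inferInstance
    have hN : m ^ k • (⊤ : Submodule S N) = ⊥ := by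
      rw [eq_bot_iff]
      intro x hx
      rw [Submodule.mem_bot]
      apply Subtype.ext
      have : (x : M) ∈ m ^ k • N := by
        have := Submodule.mem_map_of_mem (f := N.subtype) hx
        rw [Submodule.map_smul'', Submodule.map_top, Submodule.range_subtype] at this
        exact this
      have h2 : m ^ k • N = ⊥ := by
        show m ^ k • (m • (⊤ : Submodule S M)) = ⊥
        rw [← mul_smul, ← pow_succ, h]
      rw [h2] at this
      exact this
    haveI hNfin : Module.Finite R N := ih N hN
    have hQ : Module.IsTorsionBySet S (M ⧸ N) m := by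
      intro x a
      obtain ⟨y, rfl⟩ := N.mkQ_surjective x
      rw [← map_smul, Submodule.mkQ_apply, Submodule.Quotient.mk_eq_zero]
      exact Submodule.smul_mem_smul a.2 Submodule.mem_top
    haveI hQfin : Module.Finite R (M ⧸ N) := finite_of_torsion m (M ⧸ N) hQ
    -- extension
    haveI : Module.Finite R (N.restrictScalars R) := hNfin
    haveI : Module.Finite R (M ⧸ N.restrictScalars R) :=
      Module.Finite.equiv (Submodule.Quotient.restrictScalarsEquiv R N).symm
    exact Module.Finite.of_submodule_quotient (N.restrictScalars R)

end Groth.Agent.Helper14
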