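import Mathlib
import Groth.Agent.Lib.Helper14.CohenCoeff
import Groth.Agent.Lib.Helper14.PowerSeriesComplete
import Groth.Agent.Lib.Helper5.PSR
import Groth.Agent.Lib.Helper5.RegPS

/-!
# Artinian local rings with `𝔪² = 0` are regular local rings modulo the square of the maximal ideal
(EGA 0_IV 19.8.?)
-/

set_option autoImplicit false
set_option linter.unusedSectionVars false
set_option linter.style.haveILetI false
set_option linter.unusedSimpArgs false
set_option linter.overlappingInstances false

universe u

namespace Groth.Agent.Helper14.ArtinSqZero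

open IsLocalRing

/-- A surjection from a local ring whose maximal ideal is generated by elements with linearly
independent images in the cotangent space of a target with `𝔪² = 0` has kernel `𝔪_B²`. -/
theorem ker_eq_sq {B A : Type*} [CommRing B] [CommRing A] [IsLocalRing B] [IsLocalRing A]
    (f : B →+* A) (hA : maximalIdeal A ^ 2 = ⊥)
    {ι : Type*} [Fintype ι] (y : ι → B) (hy : Ideal.span (Set.range y) = maximalIdeal B)
    (hfy : ∀ i, f (y i) ∈ maximalIdeal A)
    (hli : LinearIndependent (ResidueField A)
      (fun i => (maximalIdeal A).toCotangent ⟨f (y i), hfy i⟩)) :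
    RingHom.ker f = maximalIdeal B ^ 2 := by
  classical
  have hloc : ∀ b, f b ∈ maximalIdeal A → b ∈ maximalIdeal B := by
    intro b hb
    rw [mem_maximalIdeal, mem_nonunits_iff] at hb ⊢
    exact fun hu => hb (hu.map f)
  have hker : RingHom.ker f ≤ maximalIdeal B := le_maximalIdeal (RingHom.ker_ne_top f)
  have hmapm : (maximalIdeal B).map f ≤ maximalIdeal A := by
    rw [← hy, Ideal.map_span, Ideal.span_le]
    rintro _ ⟨_, ⟨i, rfl⟩, rfl⟩
    exact hfy i
  apply le_antisymm
  · intro b hb
    have hbm : b ∈ Ideal.span (Set.range y) := by rw [hy]; exact hker hb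
    obtain ⟨β, hβ⟩ := (Submodule.mem_span_range_iff_exists_fun B).mp hbm
    rw [RingHom.mem_ker] at hb
    have hsum : ∑ i, f (β i) • (⟨f (y i), hfy i⟩ : maximalIdeal A) = 0 := by
      apply Subtype.ext
      rw [Submodule.coe_sum]
      simp only [Submodule.coe_smul, smul_eq_mul, Submodule.coe_zero]
      rw [← hb, ← hβ, map_sum]
      simp
    have hsum' : ∑ i, (residue A (f (β i))) •
        (maximalIdeal A).toCotangent ⟨f (y i), hfy i⟩ = 0 := by
      have h1 := congrArg (maximalIdeal A).toCotangent hsum
      rw [map_sum, map_zero] at h1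
      rw [← h1]
      refine Finset.sum_congr rfl fun i _ => ?_
      rw [map_smul]
      exact (IsScalarTower.algebraMap_smul (ResidueField A) (f (β i)) _)
    have h2 := Fintype.linearIndependent_iff.mp hli (fun i => residue A (f (β i))) hsum'
    have h3 : ∀ i, β i ∈ maximalIdeal B := fun i =>
      hloc _ ((residue_eq_zero_iff _).mp (h2 i))
    rw [← hβ, pow_two]
    refine Ideal.sum_mem _ fun i _ => ?_
    rw [smul_eq_mul]
    refine Ideal.mul_mem_mul (h3 i) ?_
    rw [← hy]
    exact Ideal.subset_span ⟨i, rfl⟩
  · rw [← Ideal.map_eq_bot_iff_le_ker, Ideal.map_pow, eq_bot_iff, ← hA]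
    exact Ideal.pow_right_mono hmapm 2

variable {A : Type u} [CommRing A] [IsLocalRing A] [IsArtinianRing A]

/-- The equicharacteristic case. -/
theorem exists_of_section (h : maximalIdeal A ^ 2 = ⊥)
    (s : ResidueField A →+* A) (hs : (residue A).comp s = RingHom.id _) :
    ∃ (B : Type u) (_ : CommRing B) (_ : IsRegularLocalRing B),
      Nonempty (A ≃+* B ⧸ IsLocalRing.maximalIdeal B ^ 2) := by
  classical
  haveI := Groth.Agent.Helper14.CohenLift.isAdicComplete_of_isArtinianRing A
  letI : Algebra (ResidueField A) A := s.toAlgebra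
  let b := Module.finBasis (ResidueField A) (CotangentSpace A)
  choose g hg using fun i => Ideal.toCotangent_surjective (maximalIdeal A) (b i)
  obtain ⟨f, hf⟩ := Groth.Agent.Helper14.PowerSeriesComplete.exists_algHom_complete
    (Λ := ResidueField A) (maximalIdeal A) (fun i => (g i : A)) (fun i => (g i).2)
  have hsp : Submodule.span (ResidueField A)
      (Set.range (fun i => (maximalIdeal A).toCotangent ⟨(g i : A), (g i).2⟩)) = ⊤ := by
    have : (fun i => (maximalIdeal A).toCotangent ⟨(g i : A), (g i).2⟩) = b := by
      funext i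
      exact hg i
    rw [this]
    exact b.span_eq
  have hspan : Ideal.span (Set.range (fun i => (g i : A))) = maximalIdeal A :=
    Groth.Agent.Helper5.PSR.ideal_span_eq_of_cotangent_span (fun i => (g i : A))
      (fun i => (g i).2) hsp
  have hres : Function.Surjective ((residue A).comp (algebraMap (ResidueField A) A)) := by
    change Function.Surjective ((residue A).comp s)
    rw [hs]
    exact Function.surjective_id
  have fsurj : Function.Surjective f :=
    Groth.Agent.Helper14.PowerSeriesComplete.surjective_of_residue _ hspan hres f hf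
  let fr : MvPowerSeries (Fin (Module.finrank (ResidueField A) (CotangentSpace A)))
      (ResidueField A) →+* A := f
  have hfy : ∀ i, fr (MvPowerSeries.X i) ∈ maximalIdeal A := fun i => by
    change f (MvPowerSeries.X i) ∈ _
    rw [hf]
    exact (g i).2
  have hli : LinearIndependent (ResidueField A)
      (fun i => (maximalIdeal A).toCotangent ⟨fr (MvPowerSeries.X i), hfy i⟩) := by
    have : (fun i => (maximalIdeal A).toCotangent ⟨fr (MvPowerSeries.X i), hfy i⟩) = b := by
      funext i
      rw [← hg i]
      congr 1
      exact Subtype.ext (hf i)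
    rw [this]
    exact b.linearIndependent
  have hker := ker_eq_sq fr h
    (MvPowerSeries.X : Fin (Module.finrank (ResidueField A) (CotangentSpace A)) →
      MvPowerSeries _ (ResidueField A))
    (Groth.Agent.Helper5.PSR.maximalIdeal_eq_span_X _).symm hfy hli
  exact ⟨MvPowerSeries (Fin (Module.finrank (ResidueField A) (CotangentSpace A)))
    (ResidueField A), inferInstance, inferInstance,
    ⟨(RingHom.quotientKerEquivOfSurjective (f := fr) fsurj).symm.trans
      (Ideal.quotEquivOfEq hker)⟩⟩

/-- The unequal characteristic case. -/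
theorem exists_of_natCast_ne_zero (h : maximalIdeal A ^ 2 = ⊥) (p : ℕ) [hp : Fact p.Prime]
    [CharP (ResidueField A) p] (hpA : (p : A) ≠ 0) :
    ∃ (B : Type u) (_ : CommRing B) (_ : IsRegularLocalRing B),
      Nonempty (A ≃+* B ⧸ IsLocalRing.maximalIdeal B ^ 2) := by
  classical
  haveI := Groth.Agent.Helper14.CohenLift.isAdicComplete_of_isArtinianRing A
  obtain ⟨W, _, _, v, hW, hm, hvloc, hvsurj⟩ :=
    Groth.Agent.Helper14.CohenCoeff.exists_cohen_hom (A := A) p
  obtain ⟨hdom, hdvr, hcomp, -, -, -⟩ := hW
  letI : Algebra W A := v.toAlgebra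
  have hpm : (p : A) ∈ maximalIdeal A := by
    rw [← residue_eq_zero_iff, map_natCast]
    exact CharP.cast_eq_zero _ p
  set v₀ : CotangentSpace A := (maximalIdeal A).toCotangent ⟨(p : A), hpm⟩ with hv₀
  have hv₀ne : v₀ ≠ 0 := by
    intro h0
    rw [hv₀, Ideal.toCotangent_eq_zero, h] at h0
    exact hpA h0
  -- a basis of the quotient by `v₀`
  let V' := CotangentSpace A ⧸ Submodule.span (ResidueField A) {v₀}
  let b' := Module.finBasis (ResidueField A) V'
  have hsurjq : ∀ i, ∃ g : maximalIdeal A,
      Submodule.mkQ (Submodule.span (ResidueField A) {v₀}) ((maximalIdeal A).toCotangent g) = b' i := by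
    intro i
    obtain ⟨w, hw⟩ := Submodule.mkQ_surjective _ (b' i)
    obtain ⟨g, rfl⟩ := Ideal.toCotangent_surjective (maximalIdeal A) w
    exact ⟨g, hw⟩
  choose g hg using hsurjq
  -- the family `p, g₁, …, g_s`
  let G : Fin (Module.finrank (ResidueField A) V' + 1) → maximalIdeal A :=
    Fin.cons ⟨(p : A), hpm⟩ g
  have hGli : LinearIndependent (ResidueField A) (fun i => (maximalIdeal A).toCotangent (G i)) := by
    rw [Fintype.linearIndependent_iff]
    intro c hc
    rw [Fin.sum_univ_succ] at hc
    simp only [G, Fin.cons_zero, Fin.cons_succ] at hc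
    have h1 := congrArg (Submodule.mkQ (Submodule.span (ResidueField A) {v₀})) hc
    rw [map_add, map_smul, map_sum, map_zero] at h1
    have h2 : Submodule.mkQ (Submodule.span (ResidueField A) {v₀}) v₀ = 0 :=
      (Submodule.Quotient.mk_eq_zero _).mpr (Submodule.subset_span rfl)
    rw [← hv₀, h2, smul_zero, zero_add] at h1
    simp only [map_smul, hg] at h1
    have h3 := Fintype.linearIndependent_iff.mp b'.linearIndependent (fun i => c i.succ) h1
    have h4 : c 0 • v₀ = 0 := by
      rw [← hv₀] at hc
      simpa [h3] using hc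
    have h5 : c 0 = 0 := (smul_eq_zero.mp h4).resolve_right hv₀ne
    intro i
    refine Fin.cases h5 (fun j => h3 j) i
  have hGsp : Submodule.span (ResidueField A)
      (Set.range (fun i => (maximalIdeal A).toCotangent ⟨(G i : A), (G i).2⟩)) = ⊤ := by
    rw [eq_top_iff]
    intro w _
    have h1 : Submodule.mkQ (Submodule.span (ResidueField A) {v₀}) w ∈
        Submodule.span (ResidueField A) (Set.range b') := by rw [b'.span_eq]; trivial
    obtain ⟨c, hc⟩ := (Submodule.mem_span_range_iff_exists_fun _).mp h1
    have h2 : w - ∑ i, c i • (maximalIdeal A).toCotangent (g i) ∈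
        Submodule.span (ResidueField A) {v₀} := by
      rw [← Submodule.Quotient.mk_eq_zero, Submodule.Quotient.mk_sub, ← Submodule.mkQ_apply,
        ← Submodule.mkQ_apply, map_sum, ← hc, sub_eq_zero]
      refine Finset.sum_congr rfl fun i _ => ?_
      rw [map_smul, hg]
    obtain ⟨a, ha⟩ := Submodule.mem_span_singleton.mp h2
    have h3 : w = a • v₀ + ∑ i, c i • (maximalIdeal A).toCotangent (g i) := by
      rw [ha]; abel
    rw [h3]
    refine Submodule.add_mem _ (Submodule.smul_mem _ _ (Submodule.subset_span ⟨0, ?_⟩))
      (Submodule.sum_mem _ fun i _ => Submodule.smul_mem _ _ (Submodule.subset_span ⟨i.succ, ?_⟩))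
    · simp [G, hv₀]
    · simp [G]
  have hspanG : Ideal.span (Set.range (fun i => (G i : A))) = maximalIdeal A :=
    Groth.Agent.Helper5.PSR.ideal_span_eq_of_cotangent_span (fun i => (G i : A))
      (fun i => (G i).2) hGsp
  -- the map from the power series ring
  obtain ⟨f, hf⟩ := Groth.Agent.Helper14.PowerSeriesComplete.exists_algHom_complete
    (Λ := W) (maximalIdeal A) (fun i => (g i : A)) (fun i => (g i).2)
  have hrange : Set.range (fun i => (G i : A)) =
      insert (p : A) (Set.range (fun i => (g i : A))) := by
    have : (fun i => (G i : A)) = Fin.cons (p : A) (fun i => (g i : A)) := by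
      funext i
      refine Fin.cases ?_ (fun j => ?_) i <;> simp [G]
    rw [this, Fin.range_cons]
  have hspan' : (maximalIdeal W).map (algebraMap W A) ⊔
      Ideal.span (Set.range (fun i => (g i : A))) = maximalIdeal A := by
    have h1 : (maximalIdeal W).map (algebraMap W A) ⊔
        Ideal.span (Set.range (fun i => (g i : A))) =
        Ideal.span (Set.range fun i => (G i : A)) := by
      rw [hrange, Ideal.span_insert, hm, Ideal.map_span, Set.image_singleton, map_natCast]
    exact h1.trans hspanG
  have fsurj : Function.Surjective f :=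
    Groth.Agent.Helper14.PowerSeriesComplete.surjective_of_residue' _ hspan' hvsurj f hf
  let fr : MvPowerSeries (Fin (Module.finrank (ResidueField A) V')) W →+* A := f
  let Y : Fin (Module.finrank (ResidueField A) V' + 1) →
      MvPowerSeries (Fin (Module.finrank (ResidueField A) V')) W :=
    Fin.cons (p : MvPowerSeries (Fin (Module.finrank (ResidueField A) V')) W) MvPowerSeries.X
  have hfrY : ∀ i, fr (Y i) = (G i : A) := by
    intro i
    refine Fin.cases ?_ (fun j => ?_) i
    · simp [Y, G, fr]
    · simp only [Y, G, Fin.cons_succ]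
      exact hf j
  have hfy : ∀ i, fr (Y i) ∈ maximalIdeal A := fun i => by
    rw [hfrY]
    exact (G i).2
  have hli : LinearIndependent (ResidueField A)
      (fun i => (maximalIdeal A).toCotangent ⟨fr (Y i), hfy i⟩) := by
    have : (fun i => (maximalIdeal A).toCotangent ⟨fr (Y i), hfy i⟩) =
        (fun i => (maximalIdeal A).toCotangent (G i)) := by
      funext i
      congr 1
      exact Subtype.ext (hfrY i)
    rw [this]
    exact hGli
  have hY : Ideal.span (Set.range Y) =
      maximalIdeal (MvPowerSeries (Fin (Module.finrank (ResidueField A) V')) W) := by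
    rw [Groth.Agent.Helper14.PowerSeriesComplete.maximalIdeal_eq, Fin.range_cons,
      Ideal.span_insert, hm, Ideal.map_span, Set.image_singleton, map_natCast]
  have hker := ker_eq_sq fr h Y hY hfy hli
  haveI : IsRegularRing (MvPowerSeries (Fin (Module.finrank (ResidueField A) V')) W) :=
    Groth.Agent.Helper5.RegPS.isRegularRing_mvPowerSeries_fin W _
  haveI : IsRegularLocalRing (MvPowerSeries (Fin (Module.finrank (ResidueField A) V')) W) :=
    IsRegularLocalRing.of_isRegularRing_of_isLocalRing _
  exact ⟨MvPowerSeries (Fin (Module.finrank (ResidueField A) V')) W, inferInstance, inferInstance,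
    ⟨(RingHom.quotientKerEquivOfSurjective (f := fr) fsurj).symm.trans
      (Ideal.quotEquivOfEq hker)⟩⟩

end Groth.Agent.Helper14.ArtinSqZero
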