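import Mathlib
import Groth.Agent.Lib.Helper14.DimIneq

/-!
# The dimension inequality for birational (not necessarily finite type) extensions
-/

set_option autoImplicit false

namespace Groth.Agent.Helper14.BiratDim
universe u
open Polynomial

/-- **Dimension inequality, birational case** (Matsumura 15.5 for extensions inside the fraction
field, no finiteness on `S`): if `R ⊆ S` are domains, `R` Noetherian, and every element of `S` is
a fraction of elements of `R`, then `ht M ≤ ht (M ∩ R)` for every prime `M` of `S`. -/
theorem height_le_height_under (R : Type u) [CommRing R] [IsDomain R] [IsNoetherianRing R]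
    (S : Type u) [CommRing S] [IsDomain S] [Algebra R S] [FaithfulSMul R S]
    (hfrac : ∀ b : S, ∃ a s : R, s ≠ 0 ∧ b * algebraMap R S s = algebraMap R S a)
    (M : Ideal S) [hMp : M.IsPrime] : M.height ≤ (M.under R).height := by
  have hM : M.height = Order.height (⟨M, hMp⟩ : PrimeSpectrum S) :=
    PrimeSpectrum.height_eq_orderHeight ⟨M, hMp⟩
  rw [hM, Order.height_le_iff']
  intro l hl
  have hb : ∀ i : Fin l.length, ∃ b : S, b ∈ (l i.succ).asIdeal ∧ b ∉ (l i.castSucc).asIdeal := by
    intro i
    have hlt : l i.castSucc < l i.succ := l.strictMono (Fin.castSucc_lt_succ)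
    exact SetLike.exists_of_lt hlt
  choose b hb1 hb2 using hb
  let C : Subalgebra R S := Algebra.adjoin R (Set.range b)
  haveI : Algebra.FiniteType R C := by
    rw [← Subalgebra.fg_iff_finiteType]
    exact Subalgebra.fg_def.2 ⟨_, Set.finite_range b, rfl⟩
  have hbC : ∀ i, b i ∈ C := fun i => Algebra.subset_adjoin ⟨i, rfl⟩
  let f : PrimeSpectrum S → PrimeSpectrum C := PrimeSpectrum.comap (algebraMap C S)
  have hmono : StrictMono (fun i : Fin (l.length + 1) => f (l i)) := by
    rw [Fin.strictMono_iff_lt_succ]
    intro i
    have hle : l i.castSucc ≤ l i.succ := l.strictMono.monotone (Fin.castSucc_lt_succ).le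
    refine lt_of_le_of_ne ?_ ?_
    · intro x hx
      exact hle hx
    · intro heq
      apply hb2 i
      have h1 : (⟨b i, hbC i⟩ : C) ∈ (f (l i.succ)).asIdeal := hb1 i
      rw [← heq] at h1
      exact h1
  let l' : LTSeries (PrimeSpectrum C) := LTSeries.mk l.length (fun i => f (l i)) hmono
  have hlen : (l'.length : ℕ∞) ≤ Order.height l'.last := Order.length_le_height_last
  have hlast : l'.last = f ⟨M, hMp⟩ := by
    show f (l (Fin.last _)) = _
    rw [← hl]; rfl
  rw [hlast, ← PrimeSpectrum.height_eq_orderHeight] at hlen
  have hlen' : (l.length : ℕ∞) ≤ (M.comap (algebraMap C S)).height := hlen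
  -- the dimension inequality for the finite type algebra `C`
  haveI : FaithfulSMul R C := by
    rw [faithfulSMul_iff_algebraMap_injective]
    intro x y hxy
    apply FaithfulSMul.algebraMap_injective R S
    have := congrArg (algebraMap C S) hxy
    rwa [← IsScalarTower.algebraMap_apply, ← IsScalarTower.algebraMap_apply] at this
  haveI : Algebra.IsAlgebraic R C := by
    constructor
    intro c
    obtain ⟨a, s, hs, h⟩ := hfrac c.1
    refine ⟨Polynomial.C s * X - Polynomial.C a, ?_, ?_⟩
    · intro h0
      have := congrArg (fun P => Polynomial.coeff P 1) h0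
      simp at this
      exact hs this
    · apply Subtype.ext
      simp only [map_sub, map_mul, aeval_C, aeval_X, Subalgebra.coe_sub, Subalgebra.coe_mul,
        ZeroMemClass.coe_zero, Subalgebra.coe_algebraMap]
      rw [mul_comm, h, sub_self]
  set q : Ideal C := M.comap (algebraMap C S) with hq
  haveI : q.IsPrime := Ideal.comap_isPrime _ _
  haveI : q.LiesOver (q.under R) := ⟨rfl⟩
  have key := DimIneq.dimension_inequality R C (q.under R) q
  rw [trdeg_eq_zero (R := R) (A := C), add_zero] at key
  have h2 : (q.height : Cardinal.{u}) ≤ ((q.under R).height : Cardinal.{u}) :=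
    le_trans (le_add_right le_rfl) key
  have h3 : q.height ≤ (q.under R).height := by exact_mod_cast h2
  have h4 : q.under R = M.under R := by
    rw [Ideal.under_def, hq, Ideal.comap_comap, ← IsScalarTower.algebraMap_eq]
  rw [h4] at h3
  exact hlen'.trans h3

end Groth.Agent.Helper14.BiratDim
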