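import Mathlib

/-!
# Two topological lemmas on Noetherian quasi-sober spaces / locally Noetherian schemes
-/

set_option autoImplicit false

namespace Groth.Agent.Helper14.CondX
universe u
open AlgebraicGeometry CategoryTheory TopologicalSpace

/-- In a Noetherian quasi-sober space a point which is both maximal (no proper generization) and
closed (no proper specialization) is isolated. -/
theorem isOpen_singleton_of_maximal_of_closed {T : Type*} [TopologicalSpace T] [NoetherianSpace T]
    [QuasiSober T] (z : T) (hmax : ∀ t, t ⤳ z → t = z) (hcl : ∀ t, z ⤳ t → t = z) :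
    IsOpen ({z} : Set T) := by
  classical
  have hfin : (irreducibleComponents T).Finite := NoetherianSpace.finite_irreducibleComponents
  have hC : ∀ C ∈ irreducibleComponents T, z ∈ C → C = {z} := by
    intro C hC hzC
    obtain ⟨c, hc⟩ := QuasiSober.sober hC.1 (isClosed_of_mem_irreducibleComponents C hC)
    have hcz : c ⤳ z := by rw [specializes_iff_mem_closure, hc.def]; exact hzC
    have hcz' := hmax c hcz
    subst hcz'
    rw [← hc.def]
    ext t
    rw [← specializes_iff_mem_closure, Set.mem_singleton_iff]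
    exact ⟨hcl t, fun h => h ▸ specializes_rfl⟩
  have hcompl : ({z} : Set T)ᶜ = ⋃ C ∈ {C ∈ irreducibleComponents T | z ∉ C}, C := by
    ext t
    simp only [Set.mem_compl_iff, Set.mem_singleton_iff, Set.mem_iUnion, Set.mem_setOf_eq,
      exists_prop]
    constructor
    · intro htz
      obtain ⟨C, hCmem, htC⟩ : ∃ C ∈ irreducibleComponents T, t ∈ C := by
        have : t ∈ ⋃₀ irreducibleComponents T := by
          rw [sUnion_irreducibleComponents]; trivial
        exact this
      refine ⟨C, ⟨hCmem, fun hzC => htz ?_⟩, htC⟩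
      have := hC C hCmem hzC
      rw [this] at htC
      exact htC
    · rintro ⟨C, ⟨_, hzC⟩, htC⟩ rfl
      exact hzC htC
  rw [← isClosed_compl_iff, hcompl]
  exact (hfin.subset (Set.sep_subset _ _)).isClosed_biUnion
    (fun C hC => isClosed_of_mem_irreducibleComponents C hC.1)

/-- Around a maximal point `z` of a closed subset `T` of a Noetherian quasi-sober space, all
points of `T` are specializations of `z`. -/
theorem exists_isOpen_forall_specializes_top {N : Type*} [TopologicalSpace N] [NoetherianSpace N]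
    [QuasiSober N] (T : Set N) (hT : IsClosed T) (z : N)
    (hmax : ∀ z' ∈ T, z' ⤳ z → z' = z) :
    ∃ O : Set N, IsOpen O ∧ z ∈ O ∧ ∀ x ∈ O, x ∈ T → z ⤳ x := by
  classical
  obtain ⟨S, hSfin, hSclosed, hSirr, hSU⟩ :=
    NoetherianSpace.exists_finite_set_isClosed_irreducible hT
  refine ⟨(⋃ C ∈ {C ∈ S | z ∉ C}, C)ᶜ, ?_, ?_, ?_⟩
  · rw [isOpen_compl_iff]
    exact (hSfin.subset (Set.sep_subset _ _)).isClosed_biUnion (fun C hC => hSclosed C hC.1)
  · simp only [Set.mem_compl_iff, Set.mem_iUnion, Set.mem_setOf_eq, exists_prop, not_exists,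
      not_and]
    rintro C ⟨_, hzC⟩ hzC'
    exact hzC hzC'
  · intro x hxO hxT
    rw [hSU] at hxT
    obtain ⟨C, hCS, hxC⟩ := hxT
    have hzC : z ∈ C := by
      by_contra hzC
      apply hxO
      simp only [Set.mem_iUnion, Set.mem_setOf_eq, exists_prop]
      exact ⟨C, ⟨hCS, hzC⟩, hxC⟩
    obtain ⟨c, hc⟩ := QuasiSober.sober (hSirr C hCS) (hSclosed C hCS)
    have hcC : c ∈ C := by rw [← hc.def]; exact subset_closure rfl
    have hcT : c ∈ T := by rw [hSU]; exact ⟨C, hCS, hcC⟩
    have hcz : c ⤳ z := by rw [specializes_iff_mem_closure, hc.def]; exact hzC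
    have hcz' := hmax c hcT hcz
    subst hcz'
    rw [specializes_iff_mem_closure, hc.def]
    exact hxC

/-- scheme version. -/
theorem exists_opens_forall_specializes {X : Scheme.{u}} [IsLocallyNoetherian X] (T : Set X)
    (hT : IsClosed T) (z : X) (hmax : ∀ z' ∈ T, z' ⤳ z → z' = z) :
    ∃ X₀ : X.Opens, z ∈ X₀ ∧ ∀ x ∈ X₀, x ∈ T → z ⤳ x := by
  obtain ⟨_, ⟨N, hN : IsAffineOpen N, rfl⟩, hzN, -⟩ :=
    X.isBasis_affineOpens.exists_subset_of_mem_open (Set.mem_univ z) isOpen_univ
  haveI : IsNoetherianRing Γ(X, N) := IsLocallyNoetherian.component_noetherian ⟨N, hN⟩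
  haveI : NoetherianSpace ↥N := noetherianSpace_of_isAffineOpen N hN
  haveI : QuasiSober ↥N := N.isOpen.isOpenEmbedding_subtypeVal.quasiSober
  obtain ⟨O, hOopen, hzO, hO⟩ := exists_isOpen_forall_specializes_top
    (Subtype.val ⁻¹' T : Set ↥N) (hT.preimage continuous_subtype_val) ⟨z, hzN⟩
    (fun z' hz'T hz'z => Subtype.ext (hmax z'.1 hz'T ((subtype_specializes_iff _ _).mp hz'z)))
  refine ⟨⟨Subtype.val '' O, N.isOpen.isOpenMap_subtype_val O hOopen⟩, ⟨⟨z, hzN⟩, hzO, rfl⟩, ?_⟩
  rintro _ ⟨x, hxO, rfl⟩ hxT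
  exact (subtype_specializes_iff _ _).mp (hO x hxO hxT)

end Groth.Agent.Helper14.CondX
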