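import Mathlib

/-!
# Hartogs for principal ideals of a normal Noetherian domain
-/

namespace Groth.Agent.Helper14.CartEq

variable {A : Type*} [CommRing A] [IsDomain A] [IsNoetherianRing A] [IsIntegrallyClosed A]

/-- in a normal Noetherian domain, membership in a nonzero principal ideal can be tested at the
primes of height one. -/
theorem mem_span_of_forall_height_one (a b : A) (hb : b ≠ 0)
    (H : ∀ p : Ideal A, p.IsPrime → p.height = 1 → ∃ s, s ∉ p ∧ s * a ∈ Ideal.span {b}) :
    a ∈ Ideal.span {b} := by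
  classical
  by_contra ha
  set M := A ⧸ Ideal.span {b}
  set x : M := Ideal.Quotient.mk _ a with hx
  have hx0 : x ≠ 0 := by
    rw [hx, Ne, Ideal.Quotient.eq_zero_iff_mem]; exact ha
  let N : Submodule A M := Submodule.span A {x}
  have hxN : x ∈ N := Submodule.mem_span_singleton_self x
  have hN0 : (⟨x, hxN⟩ : N) ≠ 0 := by
    intro h; exact hx0 (congrArg Subtype.val h)
  obtain ⟨p, hp, -⟩ := exists_le_isAssociatedPrime_of_isNoetherianRing A (⟨x, hxN⟩ : N) hN0
  obtain ⟨hpp, y, hy⟩ := isAssociatedPrime_iff.1 hp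
  obtain ⟨c, hc⟩ := Submodule.mem_span_singleton.1 y.2
  -- `p = {s | s * (c * a) ∈ (b)}`
  have hmem : ∀ s : A, s ∈ p ↔ s * (c * a) ∈ Ideal.span {b} := by
    intro s
    rw [hy, Submodule.mem_colon_singleton, Submodule.mem_bot]
    have : s • y = 0 ↔ s • (y : M) = 0 := by
      rw [← Submodule.coe_smul, Submodule.coe_eq_zero]
    rw [this, ← hc, hx, ← Ideal.Quotient.eq_zero_iff_mem, map_mul, map_mul]
    rfl
  have hbp : b ∈ p := by
    rw [hmem]; exact Ideal.mul_mem_right _ _ (Ideal.mem_span_singleton_self b)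
  have hr : ∀ s ∈ p, ∃ r, s * (c * a) = b * r := fun s hs =>
    Ideal.mem_span_singleton'.1 ((hmem s).1 hs) |>.imp fun r hr => by rw [← hr, mul_comm]
  have hca : c * a ∉ Ideal.span {b} := by
    intro h
    apply hpp.ne_top
    rw [Ideal.eq_top_iff_one, hmem, one_mul]; exact h
  -- height one
  have hht : p.height = 1 := by
    by_cases hB : ∃ s₀ ∈ p, ∃ r₀, s₀ * (c * a) = b * r₀ ∧ r₀ ∉ p
    · obtain ⟨s₀, hs₀, r₀, hsr₀, hr₀⟩ := hB
      have hmin : p ∈ (Ideal.span {s₀}).minimalPrimes := by
        refine ⟨⟨hpp, (Ideal.span_singleton_le_iff_mem _).2 hs₀⟩, ?_⟩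
        rintro q ⟨hqp, hsq⟩ hqle s hs
        obtain ⟨r, hsr⟩ := hr s hs
        have h1 : r₀ * s = r * s₀ := by
          have hca0 : c * a ≠ 0 := fun h => hca (h ▸ Ideal.zero_mem _)
          apply mul_right_cancel₀ (mul_ne_zero hb hca0)
          calc r₀ * s * (b * (c * a)) = (b * r₀) * (s * (c * a)) := by ring
            _ = (s₀ * (c * a)) * (b * r) := by rw [hsr₀, hsr]
            _ = r * s₀ * (b * (c * a)) := by ring
        have h2 : r₀ * s ∈ q := by
          rw [h1]
          exact Ideal.mul_mem_left _ _ ((Ideal.span_singleton_le_iff_mem _).1 hsq)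
        exact (hqp.mem_or_mem h2).resolve_left (fun h => hr₀ (hqle h))
      refine le_antisymm (Ideal.height_le_one_of_isPrincipal_of_mem_minimalPrimes _ p hmin) ?_
      rw [Order.one_le_iff_ne_zero, Ne, Ideal.height_eq_zero_iff]
      intro h0
      have : p = ⊥ := by
        have h1 : (⊥ : Ideal A) ∈ minimalPrimes A := by
          rw [IsDomain.minimalPrimes_eq_singleton_bot]; rfl
        exact le_antisymm (h0.2 ⟨Ideal.isPrime_bot, bot_le⟩ bot_le) bot_le
      rw [this] at hbp
      exact hb hbp
    · exfalso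
      push Not at hB
      apply hca
      set K := FractionRing A
      have hinj : Function.Injective (algebraMap A K) := IsFractionRing.injective A K
      have hbK : algebraMap A K b ≠ 0 := fun h => hb (hinj (h.trans (map_zero _).symm))
      set φ : K := algebraMap A K (c * a) / algebraMap A K b with hφ
      set P : Submodule A K := Submodule.map (Algebra.linearMap A K) p with hP
      have hP0 : P ≠ ⊥ := by
        intro h0
        have : algebraMap A K b ∈ P := ⟨b, hbp, rfl⟩
        rw [h0, Submodule.mem_bot] at this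
        exact hbK this
      have hPfg : P.FG := Submodule.FG.map _ (IsNoetherian.noetherian p)
      have hint : IsIntegral A φ := by
        refine isIntegral_of_smul_mem_submodule P hP0 hPfg φ ?_
        rintro _ ⟨s, hs, rfl⟩
        obtain ⟨r, hsr⟩ := hr s hs
        refine ⟨r, hB s hs r hsr, ?_⟩
        rw [Algebra.linearMap_apply, Algebra.linearMap_apply, hφ, smul_eq_mul, div_mul_eq_mul_div,
          eq_div_iff hbK, ← map_mul, ← map_mul, mul_comm r b, ← hsr, mul_comm]
      obtain ⟨t, ht⟩ := IsIntegrallyClosed.isIntegral_iff.1 hint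
      rw [hφ, eq_div_iff hbK, ← map_mul] at ht
      have := hinj ht
      rw [Ideal.mem_span_singleton']
      exact ⟨t, this⟩
  obtain ⟨s, hsp, hsa⟩ := H p hpp hht
  apply hsp
  rw [hmem]
  have : s * (c * a) = c * (s * a) := by ring
  rw [this]
  exact Ideal.mul_mem_left _ _ hsa

end Groth.Agent.Helper14.CartEq
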