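import Mathlib

/-!
# Comparison of principal ideals of a valuation ring after a local extension
-/

namespace Groth.Agent.Helper14.CartEq
open IsLocalRing

/-- Let `R` be a valuation ring, `φ : R → B` a local homomorphism to a local ring and `ψ : B → C`
such that `ψ ∘ φ` kills no nonzero element. If `d, e` generate the same ideal in `B` then they
generate the same ideal in `R`. -/
theorem span_eq_of_map_span_eq {R B C : Type*} [CommRing R] [IsDomain R] [ValuationRing R]
    [CommRing B] [IsLocalRing B] [CommRing C] (φ : R →+* B) [IsLocalHom φ] (ψ : B →+* C)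
    (hψ : ∀ r : R, r ≠ 0 → ψ (φ r) ≠ 0) (d e : R) (hd : d ≠ 0) (he : e ≠ 0)
    (h : Ideal.span {φ d} = Ideal.span {φ e}) :
    Ideal.span {d} = Ideal.span {e} := by
  have key : ∀ d e : R, d ≠ 0 → Ideal.span {φ d} = Ideal.span {φ e} → d ∣ e →
      Ideal.span {d} = Ideal.span {e} := by
    intro d e hd h hde
    obtain ⟨t, rfl⟩ := hde
    by_cases ht : IsUnit t
    · rw [Ideal.span_singleton_eq_span_singleton]
      exact ⟨ht.unit, by simp⟩
    · exfalso
      have htm : φ t ∈ maximalIdeal B := by
        rw [mem_maximalIdeal, mem_nonunits_iff]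
        intro hu
        exact ht (isUnit_of_map_unit φ t hu)
      have h1 : φ d ∈ Ideal.span {φ (d * t)} := by
        rw [← h]; exact Ideal.mem_span_singleton_self _
      obtain ⟨c, hc⟩ := Ideal.mem_span_singleton'.1 h1
      have h2 : φ d * (1 - φ t * c) = 0 := by
        rw [map_mul] at hc
        rw [mul_sub, mul_one, sub_eq_zero]
        have h3 : φ d * (φ t * c) = c * (φ d * φ t) := by ring
        rw [h3, hc]
      have hu : IsUnit (1 - φ t * c) := by
        have : φ t * c ∈ maximalIdeal B := Ideal.mul_mem_right _ _ htm
        by_contra hnu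
        have h3 : (1 - φ t * c) ∈ maximalIdeal B := by
          rw [mem_maximalIdeal, mem_nonunits_iff]; exact hnu
        have h4 : (1 : B) ∈ maximalIdeal B := by
          have := Ideal.add_mem _ h3 this
          rwa [sub_add_cancel] at this
        exact (maximalIdeal.isMaximal B).ne_top ((Ideal.eq_top_iff_one _).2 h4)
      have h5 : φ d = 0 := by
        have := congrArg (· * (hu.unit⁻¹ : Bˣ).val) h2
        simpa [mul_assoc] using this
      exact hψ d hd (by rw [h5, map_zero])
  rcases ValuationRing.dvd_total d e with hde | hed
  · exact key d e hd h hde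
  · exact (key e d he h.symm hed).symm

/-- a Noetherian local integrally closed domain of dimension one is a discrete valuation ring. -/
theorem isDVR_of_ringKrullDim_eq_one (R : Type*) [CommRing R] [IsDomain R] [IsNoetherianRing R]
    [IsLocalRing R] [IsIntegrallyClosed R] (hdim : ringKrullDim R = 1) :
    IsDiscreteValuationRing R := by
  haveI : Ring.KrullDimLE 1 R := by
    rw [Ring.krullDimLE_iff, hdim]; rfl
  have hnf : ¬ IsField R := by
    intro h
    have := ringKrullDim_eq_zero_of_isField h
    rw [hdim] at this
    exact one_ne_zero this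
  haveI : Ring.DimensionLEOne R :=
    ⟨fun {p} hp hpp => (Ring.krullDimLE_one_iff_of_noZeroDivisors.mp inferInstance) p hp hpp⟩
  haveI : IsDedekindDomain R := by
    rw [isDedekindDomain_iff R (FractionRing R)]
    exact ⟨inferInstance, inferInstance, inferInstance,
      fun {_} => (isIntegrallyClosed_iff _).mp inferInstance⟩
  exact ((IsDiscreteValuationRing.TFAE R hnf).out 0 2).mpr ‹_›

end Groth.Agent.Helper14.CartEq
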