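import Mathlib
import Groth.Agent.Lib.Helper14.CartEqA
import Groth.Agent.Lib.Helper14.CartEqB
import Groth.Agent.Lib.Helper14.LocFactB
import Groth.Agent.Lib.Helper28.IdealExt

/-!
# Effective Cartier divisors on a normal scheme are determined by their pullback along a proper
dominant morphism
-/

set_option autoImplicit false
universe u
open CategoryTheory AlgebraicGeometry TopologicalSpace IsLocalRing

namespace Groth.Agent.Helper14.CartEq

open Groth.Agent.Helper28.IdealExt

variable {S S' : Scheme.{u}}

theorem surjective_of_ker_eq_bot (f : S' ⟶ S) [IsProper f] (h : f.ker = ⊥) :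
    Function.Surjective f := by
  have h1 : (f.ker.support : Set S) = closure (Set.range f) := Scheme.Hom.support_ker f
  rw [h, Scheme.IdealSheafData.support_bot, f.isClosedMap.isClosed_range.closure_eq] at h1
  intro x
  have : x ∈ Set.range f := by rw [← h1]; trivial
  exact this

theorem exists_specializes_lift (f : S' ⟶ S) [IsProper f] (hf : Function.Surjective f)
    {η x : S} (h : η ⤳ x) : ∃ (η' s' : S'), η' ⤳ s' ∧ f η' = η ∧ f s' = x := by
  obtain ⟨η', rfl⟩ := hf η
  have h1 : x ∈ closure (f '' {η'}) := by
    rw [Set.image_singleton]; exact specializes_iff_mem_closure.1 h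
  have h2 := f.isClosedMap.closure_image_subset {η'} h1
  obtain ⟨s', hs', rfl⟩ := h2
  exact ⟨η', s', specializes_iff_mem_closure.2 hs', rfl, rfl⟩

/-- stalk ideals are compatible with generization. -/
theorem stalkIdeal_map_stalkSpecializes (I : S.IdealSheafData) {z x : S} (h : z ⤳ x) :
    (stalkIdeal I x).map (S.presheaf.stalkSpecializes h).hom = stalkIdeal I z := by
  obtain ⟨_, ⟨A, hA, rfl⟩, hxA, -⟩ :=
    S.isBasis_affineOpens.exists_subset_of_mem_open (Set.mem_univ x) isOpen_univ
  have hzA : z ∈ A := h.mem_open A.2 hxA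
  rw [stalkIdeal_eq I ⟨A, hA⟩ x hxA, stalkIdeal_eq I ⟨A, hA⟩ z hzA, Ideal.map_map,
    ← CommRingCat.hom_comp, TopCat.Presheaf.germ_stalkSpecializes]

end Groth.Agent.Helper14.CartEq
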