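import Mathlib
import Groth.Agent.Lib.Helper14.CartEqC
import Groth.Agent.Lib.Helper16.Sch.SectionDVRSch

/-!
# Effective Cartier divisors on a normal scheme are determined by their pullback along a proper
dominant morphism (main part)
-/

set_option autoImplicit false
universe u
open CategoryTheory AlgebraicGeometry TopologicalSpace IsLocalRing

namespace Groth.Agent.Helper14.CartEq

open Groth.Agent.Helper28.IdealExt

variable {S S' : Scheme.{u}}

set_option backward.isDefEq.respectTransparency false in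
/-- comparison at a point of codimension one. -/
theorem stalkIdeal_eq_of_dim_one [IsLocallyNoetherian S]
    (hnorm : ∀ x : S, IsDomain (S.presheaf.stalk x) ∧ IsIntegrallyClosed (S.presheaf.stalk x))
    (f : S' ⟶ S) [IsProper f] (hf : Function.Surjective f) (D E : S.IdealSheafData)
    (h : D.comap f = E.comap f) (z : S) (hz : ringKrullDim (S.presheaf.stalk z) = 1)
    (d e : S.presheaf.stalk z) (hd : d ≠ 0) (he : e ≠ 0)
    (hD : stalkIdeal D z = Ideal.span {d}) (hE : stalkIdeal E z = Ideal.span {e}) :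
    stalkIdeal D z = stalkIdeal E z := by
  obtain ⟨η, hη, hbot⟩ := Groth.Agent.Helper23.RegPull.exists_generization_of_isPrime S z
    (⊥ : Ideal (S.presheaf.stalk z)) (hqp := by haveI := (hnorm z).1; exact Ideal.isPrime_bot)
  obtain ⟨η', s', hsp, rfl, rfl⟩ := exists_specializes_lift f hf hη
  haveI := (hnorm (f s')).1
  haveI := (hnorm (f s')).2
  haveI : IsDiscreteValuationRing (S.presheaf.stalk (f s')) := isDVR_of_ringKrullDim_eq_one _ hz
  rw [hD, hE]
  refine span_eq_of_map_span_eq (f.stalkMap s').hom (S'.presheaf.stalkSpecializes hsp).hom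
    ?_ d e hd he ?_
  · intro r hr
    have h1 : (S'.presheaf.stalkSpecializes hsp).hom ((f.stalkMap s').hom r) =
        (f.stalkMap η').hom ((S.presheaf.stalkSpecializes hη).hom r) :=
      (Scheme.Hom.stalkSpecializes_stalkMap_apply f η' s' hsp r).symm
    rw [h1]
    have h2 : (S.presheaf.stalkSpecializes hη).hom r ∉ maximalIdeal (S.presheaf.stalk (f η')) := by
      intro hmem
      have : r ∈ (⊥ : Ideal (S.presheaf.stalk (f s'))) := by rw [hbot]; exact hmem
      exact hr this
    have h3 : IsUnit ((S.presheaf.stalkSpecializes hη).hom r) := by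
      by_contra hnu
      exact h2 ((mem_maximalIdeal _).2 hnu)
    exact (h3.map (f.stalkMap η').hom).ne_zero
  · have h1 := stalkIdeal_comap f D s'
    have h2 := stalkIdeal_comap f E s'
    rw [hD, Ideal.map_span, Set.image_singleton] at h1
    rw [hE, Ideal.map_span, Set.image_singleton] at h2
    rw [← h1, ← h2, h]

set_option backward.isDefEq.respectTransparency false in
/-- one inclusion at an arbitrary point. -/
theorem mem_span_stalk [IsLocallyNoetherian S]
    (hnorm : ∀ x : S, IsDomain (S.presheaf.stalk x) ∧ IsIntegrallyClosed (S.presheaf.stalk x))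
    (f : S' ⟶ S) [IsProper f] (hf : Function.Surjective f) (D E : S.IdealSheafData)
    (h : D.comap f = E.comap f) (x : S)
    (d e : S.presheaf.stalk x) (hd : d ≠ 0) (he : e ≠ 0)
    (hD : stalkIdeal D x = Ideal.span {d}) (hE : stalkIdeal E x = Ideal.span {e}) :
    e ∈ Ideal.span {d} := by
  haveI := (hnorm x).1
  haveI := (hnorm x).2
  refine mem_span_of_forall_height_one e d hd ?_
  intro p hp hht
  obtain ⟨z, hz, hpz⟩ := Groth.Agent.Helper23.RegPull.exists_generization_of_isPrime S x p
  letI : Algebra (S.presheaf.stalk x) (S.presheaf.stalk z) :=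
    (S.presheaf.stalkSpecializes hz).hom.toAlgebra
  haveI hprime : (Ideal.comap (S.presheaf.stalkSpecializes hz).hom
    (maximalIdeal (S.presheaf.stalk z))).IsPrime := Ideal.comap_isPrime _ _
  haveI hloc := Groth.Agent.Helper23.RegPull.isLocalization_stalkSpecializes S hz
  have hdim : ringKrullDim (S.presheaf.stalk z) = 1 := by
    rw [Groth.Agent.Helper14.LocFact.ringKrullDim_stalk_eq_height S hz, ← hpz, hht]; rfl
  have hinj : Function.Injective (S.presheaf.stalkSpecializes hz).hom := by
    have := IsLocalization.injective (S.presheaf.stalk z)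
      (M := (Ideal.comap (S.presheaf.stalkSpecializes hz).hom
        (maximalIdeal (S.presheaf.stalk z))).primeCompl)
      (Ideal.primeCompl_le_nonZeroDivisors _)
    exact this
  set sp := (S.presheaf.stalkSpecializes hz).hom with hsp
  have hd' : sp d ≠ 0 := fun h0 => hd (hinj (h0.trans (map_zero _).symm))
  have he' : sp e ≠ 0 := fun h0 => he (hinj (h0.trans (map_zero _).symm))
  have hDz : stalkIdeal D z = Ideal.span {sp d} := by
    rw [← stalkIdeal_map_stalkSpecializes D hz, hD, Ideal.map_span, Set.image_singleton]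
  have hEz : stalkIdeal E z = Ideal.span {sp e} := by
    rw [← stalkIdeal_map_stalkSpecializes E hz, hE, Ideal.map_span, Set.image_singleton]
  have heq := stalkIdeal_eq_of_dim_one hnorm f hf D E h z hdim (sp d) (sp e) hd' he' hDz hEz
  rw [hDz, hEz] at heq
  have hmem : sp e ∈ Ideal.span {sp d} := by
    rw [heq]; exact Ideal.mem_span_singleton_self _
  obtain ⟨w, hw⟩ := Ideal.mem_span_singleton'.1 hmem
  obtain ⟨r, s, rfl⟩ := IsLocalization.exists_mk'_eq
    (Ideal.comap (S.presheaf.stalkSpecializes hz).hom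
      (maximalIdeal (S.presheaf.stalk z))).primeCompl w
  refine ⟨s.1, ?_, ?_⟩
  · rw [hpz]; exact s.2
  · rw [Ideal.mem_span_singleton']
    refine ⟨r, ?_⟩
    apply hinj
    have h1 := IsLocalization.mk'_spec (S.presheaf.stalk z) r s
    have h2 : algebraMap (S.presheaf.stalk x) (S.presheaf.stalk z) = sp := rfl
    rw [h2] at h1
    rw [map_mul, map_mul, ← hw, ← h1]
    ring

end Groth.Agent.Helper14.CartEq

namespace Groth.Agent.Helper14.CartEq

open Groth.Agent.Helper28.IdealExt

variable {S S' : Scheme.{u}}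

theorem main [IsLocallyNoetherian S]
    (hnorm : ∀ x : S, IsDomain (S.presheaf.stalk x) ∧ IsIntegrallyClosed (S.presheaf.stalk x))
    (f : S' ⟶ S) [IsProper f] (hdom : f.ker = ⊥)
    (D E : S.IdealSheafData)
    (hD : (∀ x : S, ∃ U : S.affineOpens, x ∈ (U : S.Opens) ∧ ∃ g : Γ(S, U),
      g ∈ nonZeroDivisors Γ(S, U) ∧ D.ideal U = Ideal.span {g}))
    (hE : (∀ x : S, ∃ U : S.affineOpens, x ∈ (U : S.Opens) ∧ ∃ g : Γ(S, U),
      g ∈ nonZeroDivisors Γ(S, U) ∧ E.ideal U = Ideal.span {g}))
    (h : D.comap f = E.comap f) : D = E := by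
  have hf := surjective_of_ker_eq_bot f hdom
  apply ext_stalk
  intro x
  obtain ⟨U₁, hx₁, g₁, hg₁, hDU⟩ := hD x
  obtain ⟨U₂, hx₂, g₂, hg₂, hEU⟩ := hE x
  have hDx : stalkIdeal D x = Ideal.span {(S.presheaf.germ U₁.1 x hx₁).hom g₁} := by
    rw [stalkIdeal_eq D U₁ x hx₁, hDU, Ideal.map_span, Set.image_singleton]
  have hEx : stalkIdeal E x = Ideal.span {(S.presheaf.germ U₂.1 x hx₂).hom g₂} := by
    rw [stalkIdeal_eq E U₂ x hx₂, hEU, Ideal.map_span, Set.image_singleton]
  have hd : (S.presheaf.germ U₁.1 x hx₁).hom g₁ ≠ 0 :=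
    nonZeroDivisors.ne_zero
      (Groth.Agent.Helper16.SectionDVRSch.germ_mem_nonZeroDivisors U₁ x hx₁ g₁ hg₁)
  have he : (S.presheaf.germ U₂.1 x hx₂).hom g₂ ≠ 0 :=
    nonZeroDivisors.ne_zero
      (Groth.Agent.Helper16.SectionDVRSch.germ_mem_nonZeroDivisors U₂ x hx₂ g₂ hg₂)
  rw [hDx, hEx]
  apply le_antisymm
  · rw [Ideal.span_singleton_le_iff_mem]
    exact mem_span_stalk hnorm f hf E D h.symm x _ _ he hd hEx hDx
  · rw [Ideal.span_singleton_le_iff_mem]
    exact mem_span_stalk hnorm f hf D E h x _ _ hd he hDx hEx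

end Groth.Agent.Helper14.CartEq
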