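import Mathlib
import Groth.Agent.Lib.Helper14.BiratDim

/-!
# A monotone section of `Spec B → Spec A` over a punctured component contradicts the
dimension inequality
-/

set_option autoImplicit false

namespace Groth.Agent.Helper14.ChainLift
universe u
open IsLocalRing

theorem false_of_chainLift {A B : Type u} [CommRing A] [IsNoetherianRing A] [IsLocalRing A]
    [CommRing B] (ψ : A →+* B)
    (p : PrimeSpectrum A) (hp : p ≠ closedPoint A)
    (N M : PrimeSpectrum B) (hNM : N < M)
    (F : ∀ t : PrimeSpectrum A, p ≤ t → t ≠ closedPoint A → PrimeSpectrum B)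
    (hF1 : ∀ t h1 h2, PrimeSpectrum.comap ψ (F t h1 h2) = t)
    (hF2 : ∀ t₁ t₂ h1 h2 h1' h2', t₁ ≤ t₂ → F t₁ h1 h2 ≤ F t₂ h1' h2')
    (hF3 : ∀ t h1 h2, F t h1 h2 < N)
    (hfrac : ∀ b : B, ∃ a s : A, ψ s ∉ (F p le_rfl hp).asIdeal ∧
      b * ψ s - ψ a ∈ (F p le_rfl hp).asIdeal) : False := by
  classical
  set Q₀ := F p le_rfl hp with hQ₀
  have hcomap : Q₀.asIdeal.comap ψ = p.asIdeal :=
    congrArg PrimeSpectrum.asIdeal (hF1 p le_rfl hp)
  let R := A ⧸ p.asIdeal
  let S := B ⧸ Q₀.asIdeal
  let ψ' : R →+* S := Ideal.quotientMap Q₀.asIdeal ψ hcomap.ge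
  have hinj : Function.Injective ψ' := Ideal.quotientMap_injective' hcomap.le
  letI : Algebra R S := ψ'.toAlgebra
  haveI : FaithfulSMul R S := (faithfulSMul_iff_algebraMap_injective R S).mpr hinj
  have hfrac' : ∀ b : S, ∃ a s : R, s ≠ 0 ∧ b * algebraMap R S s = algebraMap R S a := by
    intro b
    obtain ⟨b, rfl⟩ := Ideal.Quotient.mk_surjective b
    obtain ⟨a, s, hs, has⟩ := hfrac b
    refine ⟨Ideal.Quotient.mk _ a, Ideal.Quotient.mk _ s, ?_, ?_⟩
    · intro h0
      rw [Ideal.Quotient.eq_zero_iff_mem, ← hcomap] at h0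
      exact hs h0
    · show Ideal.Quotient.mk _ b * ψ' (Ideal.Quotient.mk _ s) = ψ' (Ideal.Quotient.mk _ a)
      rw [Ideal.quotientMap_mk, Ideal.quotientMap_mk, ← map_mul, Ideal.Quotient.eq]
      exact has
  have hbir := BiratDim.height_le_height_under R S hfrac'
  let eA := p.asIdeal.primeSpectrumQuotientOrderIsoZeroLocus
  let eB := Q₀.asIdeal.primeSpectrumQuotientOrderIsoZeroLocus
  have hQle : ∀ t h1 h2, Q₀ ≤ F t h1 h2 := fun t h1 h2 => hF2 p t le_rfl hp h1 h2 h1
  have hmemA : ∀ r : PrimeSpectrum R, p ≤ (eA r).1 := fun r => (eA r).2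
  have hQN : Q₀ ≤ N := (hF3 p le_rfl hp).le
  have hQM : Q₀ ≤ M := hQN.trans hNM.le
  let N' : PrimeSpectrum S := eB.symm ⟨N, hQN⟩
  let M' : PrimeSpectrum S := eB.symm ⟨M, hQM⟩
  have hN'M' : N' < M' := eB.symm.strictMono (show (⟨N, hQN⟩ : PrimeSpectrum.zeroLocus _) <
    ⟨M, hQM⟩ from hNM)
  let G : PrimeSpectrum R → PrimeSpectrum S := fun r =>
    if h : (eA r).1 ≠ closedPoint A then eB.symm ⟨F (eA r).1 (hmemA r) h, hQle _ _ _⟩ else M'
  have hGN : ∀ r, (eA r).1 ≠ closedPoint A → G r < N' := by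
    intro r h
    simp only [G, dif_pos h]
    exact eB.symm.strictMono (show (⟨F (eA r).1 (hmemA r) h, hQle _ _ _⟩ :
      PrimeSpectrum.zeroLocus _) < ⟨N, hQN⟩ from hF3 _ _ _)
  have hclosed_top : ∀ t : PrimeSpectrum A, t ≤ closedPoint A := fun t =>
    IsLocalRing.le_maximalIdeal t.isPrime.ne_top
  have hG : StrictMono G := by
    intro r₁ r₂ h12
    have h12' : (eA r₁).1 < (eA r₂).1 := eA.strictMono h12
    have h1 : (eA r₁).1 ≠ closedPoint A := by
      intro h
      rw [h] at h12'
      exact absurd (hclosed_top _) (not_le_of_gt h12')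
    by_cases h2 : (eA r₂).1 ≠ closedPoint A
    · simp only [G, dif_pos h1, dif_pos h2]
      apply eB.symm.strictMono
      show F _ _ _ < F _ _ _
      refine lt_of_le_of_ne (hF2 _ _ _ _ _ _ h12'.le) ?_
      intro heq
      have := congrArg (PrimeSpectrum.comap ψ) heq
      rw [hF1, hF1] at this
      exact h12'.ne this
    · have hG2 : G r₂ = M' := by simp only [G, dif_neg h2]
      rw [hG2]
      exact (hGN r₁ h1).trans hN'M'
  have key : ∀ r : PrimeSpectrum R, Order.height r + 1 ≤ Order.height M' := by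
    intro r
    have hcase1 : ∀ r', (eA r').1 ≠ closedPoint A → Order.height r' + 1 ≤ Order.height N' := by
      intro r' h
      have h1 := Order.height_le_height_apply_of_strictMono G hG r'
      have h2 := Order.height_add_one_le (hGN r' h)
      exact (by gcongr : Order.height r' + 1 ≤ Order.height (G r') + 1).trans h2
    by_cases h : (eA r).1 ≠ closedPoint A
    · exact (hcase1 r h).trans (Order.height_mono hN'M'.le)
    · push_neg at h
      have h3 : Order.height r ≤ Order.height N' := by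
        rw [Order.height_eq_iSup_lt_height]
        refine iSup₂_le fun r' hr' => ?_
        apply hcase1
        intro h'
        have h12' : (eA r').1 < (eA r).1 := eA.strictMono hr'
        rw [h'] at h12'
        exact absurd (hclosed_top _) (not_le_of_gt h12')
      exact (by gcongr : Order.height r + 1 ≤ Order.height N' + 1).trans (Order.height_add_one_le hN'M')
  let r₀ : PrimeSpectrum R := ⟨M'.asIdeal.under R, inferInstance⟩
  have h1 := key r₀
  have h2 := hbir M'.asIdeal
  rw [PrimeSpectrum.height_eq_orderHeight M'] at h2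
  have h3 : (M'.asIdeal.under R).height = Order.height r₀ :=
    PrimeSpectrum.height_eq_orderHeight r₀
  rw [h3] at h2
  have h4 : Order.height r₀ < ⊤ := by
    rw [← h3]
    exact Ideal.height_lt_top (Ideal.IsPrime.ne_top inferInstance)
  have h5 : Order.height r₀ + 1 ≤ Order.height r₀ := h1.trans h2
  exact absurd h5 (not_le_of_gt (ENat.lt_add_one_iff h4.ne |>.mpr le_rfl))

end Groth.Agent.Helper14.ChainLift
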