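import Mathlib
import Groth.Prelude.Def_Coh
import Groth.Prelude.Def_CohB1
import Groth.Agent.Lib.Helper26.DevE
import Groth.Agent.Lib.Helper13.CohRoof

set_option autoImplicit false
set_option linter.style.haveILetI false
set_option linter.unusedSectionVars false
universe u
open CategoryTheory CategoryTheory.Limits AlgebraicGeometry Opposite TopologicalSpace

namespace Groth.Agent.Helper14.FinSupp

open Groth.Agent.Helper13.QCoh

variable {X W : Scheme.{u}}

/-- sections of `h_* O_W`. -/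
noncomputable abbrev PU (h : W ⟶ X) : X.Modules := (Scheme.Modules.pushforward h).obj (Coh.structureModule W)

lemma smul_PU (h : W ⟶ X) (U : X.Opens) (a : Γ(X, U)) (t : Γ(W, h ⁻¹ᵁ U)) :
    (a • (show Γ(PU h, U) from t) : Γ(PU h, U)) =
      (show Γ(W, h ⁻¹ᵁ U) from h.app U a * t) := rfl

/-- the support of `h_* O_W` is contained in the range of `h` when the latter is closed. -/
theorem support_PU_subset (h : W ⟶ X) (hcl : IsClosed (Set.range h)) :
    CohB1.support (PU h) ⊆ Set.range h := by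
  intro x hx
  by_contra hxr
  apply hx
  let V : X.Opens := ⟨(Set.range h)ᶜ, hcl.isOpen_compl⟩
  have hxV : x ∈ V := hxr
  have hsub : ∀ U : X.Opens, U ≤ V → ∀ s : Γ(PU h, U), s = 0 := by
    intro U hU s
    refine TopCat.Presheaf.section_ext ⟨(Coh.structureModule W).presheaf,
      (Coh.structureModule W).isSheaf⟩ (h ⁻¹ᵁ U) s 0 ?_
    intro z hz
    exact absurd ⟨z, rfl⟩ (hU hz : h z ∉ Set.range h)
  suffices h0 : ∀ z : (PU h).presheaf.stalk x, z = 0 from ⟨fun a b => by rw [h0 a, h0 b]⟩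
  intro z
  obtain ⟨U, hxU, s, rfl⟩ := TopCat.Presheaf.exists_germ_eq (PU h).presheaf z
  have hxUV : x ∈ U ⊓ V := ⟨hxU, hxV⟩
  have h5 := TopCat.Presheaf.germ_res_apply (PU h).presheaf
    (homOfLE (inf_le_left : U ⊓ V ≤ U)) x hxUV s
  rw [← h5, hsub (U ⊓ V) inf_le_right
    ((PU h).presheaf.map (homOfLE (inf_le_left : U ⊓ V ≤ U)).op s), map_zero]

theorem range_subset_support_PU (h : W ⟶ X) : Set.range h ⊆ CohB1.support (PU h) := by
  rintro _ ⟨z, rfl⟩
  intro hss
  let one : Γ(PU h, ⊤) := (1 : Γ(W, h ⁻¹ᵁ ⊤))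
  have h1 : (PU h).presheaf.germ ⊤ (h z) trivial one =
      (PU h).presheaf.germ ⊤ (h z) trivial 0 := Subsingleton.elim _ _
  obtain ⟨W', hxW', i₁, i₂, heq⟩ := TopCat.Presheaf.germ_eq (PU h).presheaf (h z)
    (show h z ∈ (⊤ : X.Opens) from trivial) (show h z ∈ (⊤ : X.Opens) from trivial) one 0 h1
  have h2 : (1 : Γ(W, h ⁻¹ᵁ W')) = 0 := by
    have h3 : (PU h).presheaf.map i₁.op one = (1 : Γ(W, h ⁻¹ᵁ W')) :=
      map_one (W.presheaf.map ((Opens.map h.base).map i₁).op).hom
    rw [← h3, heq, map_zero]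
    rfl
  have hz : z ∈ h ⁻¹ᵁ W' := hxW'
  have h4 : W.presheaf.germ (h ⁻¹ᵁ W') z hz 1 = W.presheaf.germ (h ⁻¹ᵁ W') z hz 0 := by
    rw [h2]
  rw [map_one, map_zero] at h4
  exact one_ne_zero h4

/-- if `W` is integral and `h` maps its generic point to `ξ`, a function vanishing at `ξ` pulls
back to zero. -/
lemma app_eq_zero_of_notMem_basicOpen [IsIntegral W] (h : W ⟶ X) (ξ : X)
    (hξ : h (genericPoint W) = ξ) {V : X.Opens} (c : Γ(X, V)) (hc : ξ ∉ X.basicOpen c) :
    h.app V c = 0 := by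
  rw [← basicOpen_eq_bot_iff, ← Scheme.preimage_basicOpen]
  by_contra hne
  have hne' : ((h ⁻¹ᵁ X.basicOpen c : W.Opens) : Set W).Nonempty := by
    rw [Set.nonempty_iff_ne_empty]
    intro he
    apply hne
    ext z
    simp only [Opens.coe_bot, Set.mem_empty_iff_false, iff_false]
    intro hz
    have : z ∈ ((h ⁻¹ᵁ X.basicOpen c : W.Opens) : Set W) := hz
    rw [he] at this
    exact this
  have hg : genericPoint W ∈ h ⁻¹ᵁ X.basicOpen c :=
    (genericPoint_spec W).mem_open_set_iff (h ⁻¹ᵁ X.basicOpen c).2 |>.2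
      (by simpa [Set.univ_inter] using hne')
  apply hc
  rw [← hξ]
  exact hg

theorem stalk_killed_PU [IsIntegral W] (h : W ⟶ X) (ξ : X) (hξ : h (genericPoint W) = ξ) :
    ∀ a ∈ IsLocalRing.maximalIdeal (X.presheaf.stalk ξ), ∀ m : ↑((PU h).presheaf.stalk ξ),
      a • m = 0 := by
  intro r hr z
  obtain ⟨V, hξV, t, rfl⟩ := TopCat.Presheaf.exists_germ_eq (PU h).presheaf z
  obtain ⟨V', hξV', c, rfl⟩ := TopCat.Presheaf.exists_germ_eq X.presheaf r
  let Wo : X.Opens := V ⊓ V'
  have hξW : ξ ∈ Wo := ⟨hξV, hξV'⟩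
  have hWV : Wo ≤ V := inf_le_left
  have hWV' : Wo ≤ V' := inf_le_right
  set t' : Γ(PU h, Wo) := (PU h).presheaf.map (homOfLE hWV).op t with ht'
  set c' : Γ(X, Wo) := X.presheaf.map (homOfLE hWV').op c with hc'
  have hgt : (PU h).presheaf.germ Wo ξ hξW t' = (PU h).presheaf.germ V ξ hξV t :=
    TopCat.Presheaf.germ_res_apply (PU h).presheaf (homOfLE hWV) ξ hξW t
  have hgc : X.presheaf.germ Wo ξ hξW c' = X.presheaf.germ V' ξ hξV' c :=
    TopCat.Presheaf.germ_res_apply X.presheaf (homOfLE hWV') ξ hξW c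
  rw [← hgt, ← hgc, ← germ_smul]
  have hcξ : ξ ∉ X.basicOpen c' := by
    rw [X.mem_basicOpen c' ξ hξW, hgc]
    exact (IsLocalRing.mem_maximalIdeal _).1 hr
  have h0 : h.app Wo c' = 0 := app_eq_zero_of_notMem_basicOpen h ξ hξ c' hcξ
  have h2 : c' • t' = 0 := by
    rw [smul_PU, h0]
    exact zero_mul (show Γ(W, h ⁻¹ᵁ Wo) from t')
  rw [h2, map_zero]

/-- S0820. -/
theorem main0820 {Y X : Scheme.{u}} (f : Y ⟶ X) [IsFinite f]
    [Surjective f] [IsLocallyNoetherian X] (Z : Scheme.{u}) (i : Z ⟶ X) [IsClosedImmersion i]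
    [IsIntegral Z] :
    ∃ F : Y.Modules, Coh.IsCoh F ∧ CohB1.support ((Coh.push f).obj F) = Set.range ⇑i ∧
      ∀ a ∈ IsLocalRing.maximalIdeal (X.presheaf.stalk (i (genericPoint Z))),
        ∀ m : ↑(((Coh.push f).obj F).presheaf.stalk (i (genericPoint Z))), a • m = 0 := by
  set ξ : X := i (genericPoint Z) with hξdef
  obtain ⟨y, hy⟩ := f.surjective ξ
  obtain ⟨Z', j, hj1, hj2, hj3⟩ := Groth.Agent.Helper26.DevC.exists_integral y
  haveI := hj1
  haveI := hj2
  have hjg : j (genericPoint Z') = y := Groth.Agent.Helper26.DevE.map_genericPoint y j hj3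
  have hhg : (j ≫ f) (genericPoint Z') = ξ := by
    rw [Scheme.Hom.comp_apply, hjg, hy]
  have hri : Set.range i = closure ({ξ} : Set X) := by
    rw [hξdef, ← Set.image_singleton, i.isClosedEmbedding.closure_image_eq,
      (genericPoint_spec Z).def, Set.image_univ]
  have hrh : Set.range (j ≫ f) = closure ({ξ} : Set X) := by
    have h1 : Set.range (j ≫ f) = f '' Set.range j := by
      rw [← Set.range_comp]
      rfl
    rw [h1, hj3, ← hy, ← Set.image_singleton]
    exact (f.isClosedMap.closure_image_eq_of_continuous f.continuous _).symm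
  haveI : (Coh.structureModule Z').IsQuasicoherent :=
    (Groth.Agent.Helper13.CohRoof.isCoh_structureModule Z').1
  haveI : SheafOfModules.IsFiniteType (R := Z'.ringCatSheaf) (Coh.structureModule Z') :=
    (Groth.Agent.Helper13.CohRoof.isCoh_structureModule Z').2
  refine ⟨(Coh.push j).obj (Coh.structureModule Z'), ⟨?_, ?_⟩, ?_, ?_⟩
  · exact Groth.Agent.Helper13.QCohPush.isQuasicoherent_pushforward j _
  · exact (Groth.Agent.Helper13.PushFinite.isFiniteType_pushforward_iff j _).1 inferInstance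
  · show CohB1.support (PU (j ≫ f)) = Set.range i
    rw [hri, ← hrh]
    refine Set.Subset.antisymm (support_PU_subset (j ≫ f) ?_) (range_subset_support_PU (j ≫ f))
    rw [hrh]
    exact isClosed_closure
  · exact stalk_killed_PU (j ≫ f) ξ hhg

end Groth.Agent.Helper14.FinSupp
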