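import Mathlib
import Groth.Prelude.Def_Coh
import Groth.Prelude.Def_CohB1
import Groth.Agent.Lib.Helper9.AffStrat
import Groth.Agent.Lib.Helper14.FinSupp
import Groth.Agent.Lib.Helper14.CohLoc
import Groth.Agent.Lib.Helper14.IdealMulC
import Groth.Agent.Lib.Helper26.StalkNbhd
import Groth.Agent.S0009

set_option autoImplicit false
set_option linter.style.haveILetI false
set_option linter.unusedSectionVars false
universe u
open CategoryTheory CategoryTheory.Limits AlgebraicGeometry Opposite TopologicalSpace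

namespace Groth.Agent.Helper14.Chev

open Groth.Agent.Helper13 Groth.Agent.Helper13.ToAbExact Groth.Agent.Helper9.AffStrat

variable {X : Scheme.{u}}

/-- the property `H¹(X, F) = 0`. -/
def P1 (X : Scheme.{u}) (F : X.Modules) : Prop := Subsingleton (Coh.HH X F 1)

lemma P1_of_iso {M N : X.Modules} (e : Nonempty (M ≅ N)) (h : P1 X M) : P1 X N := by
  obtain ⟨e⟩ := e
  exact HH_subsingleton_of_iso e.symm 1 h

lemma H_map_zero_apply {F G : Sheaf (Opens.grothendieckTopology X) AddCommGrpCat.{u}} (n : ℕ)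
    (x : Sheaf.H F n) : Sheaf.H.map (0 : F ⟶ G) n x = 0 := by
  have h := Sheaf.H.map_add_apply (0 : F ⟶ G) 0 x
  rw [add_zero] at h
  exact left_eq_add.mp h

lemma P1_of_retract {M N : X.Modules} (i : M ⟶ N) (r : N ⟶ M) (h : i ≫ r = 𝟙 M)
    (hN : P1 X N) : P1 X M := by
  have hinj : Function.Injective (Sheaf.H.map ((toAbF X).map i) 1) := by
    apply Function.LeftInverse.injective (g := Sheaf.H.map ((toAbF X).map r) 1)
    intro x
    rw [← Sheaf.H.map_comp_apply, ← CategoryTheory.Functor.map_comp, h,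
      CategoryTheory.Functor.map_id]
    exact Sheaf.H.map_id_apply x
  haveI : Subsingleton (Sheaf.H ((toAbF X).obj N) 1) := hN
  exact hinj.subsingleton

lemma P1_of_isZero {M : X.Modules} (h : IsZero M) : P1 X M := by
  refine ⟨fun a b => ?_⟩
  have key : ∀ x : Coh.HH X M 1, x = 0 := by
    intro x
    have h1 : (toAbF X).map (𝟙 M) = 0 := by
      rw [h.eq_of_src (𝟙 M) 0]
      exact (toAbF X).map_zero _ _
    have h2 := Sheaf.H.map_id_apply (F := (toAbF X).obj M) (n := 1) x
    rw [← CategoryTheory.Functor.map_id, h1, H_map_zero_apply] at h2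
    exact h2.symm
  rw [key a, key b]

open Abelian in
lemma P1_ext (S : ShortComplex X.Modules) (hS : S.ShortExact) (h1 : P1 X S.X₁) (h3 : P1 X S.X₃) :
    P1 X S.X₂ := by
  have hS' := toAb_shortExact S hS
  refine subsingleton_of_forall_eq 0 fun x₂ => ?_
  haveI : Subsingleton (Coh.HH X S.X₃ 1) := h3
  haveI : Subsingleton (Coh.HH X S.X₁ 1) := h1
  obtain ⟨x₁, hx₁⟩ := Ext.covariant_sequence_exact₂ _ hS' x₂
    (Subsingleton.elim (α := Coh.HH X S.X₃ 1) _ _)
  have h0 : x₁ = 0 := Subsingleton.elim (α := Coh.HH X S.X₁ 1) x₁ 0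
  rw [← hx₁, h0, Ext.zero_comp]
  rfl

lemma P1_of_pow (F : X.Modules) (r : ℕ) (hr : 1 ≤ r) (h : P1 X (∐ fun _ : Fin r => F)) :
    P1 X F :=
  P1_of_retract (Sigma.ι (fun _ : Fin r => F) ⟨0, hr⟩) (Sigma.desc (fun _ => 𝟙 F))
    (by simp) h

end Groth.Agent.Helper14.Chev
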