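import Mathlib
import Groth.Agent.Lib.Helper14.Chev1

set_option autoImplicit false
set_option linter.style.haveILetI false
set_option linter.unusedSectionVars false
universe u
open CategoryTheory CategoryTheory.Limits AlgebraicGeometry Opposite TopologicalSpace

namespace Groth.Agent.Helper14.Chev

open Groth.Agent.Helper13 Groth.Agent.Helper13.ToAbExact Groth.Agent.Helper9.AffStrat
open Groth.Agent.Helper13.QCoh Groth.Agent.Helper13.FinType
open Groth.Agent.Helper14.IdealMul Groth.Agent.Helper14.CohLoc Groth.Agent.Helper14.RestrLoc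

variable {X : Scheme.{u}}

/-- the stalk map of `J·G → G` at a point outside `V(J)` is an isomorphism. -/
lemma isIso_stalk_idealMulι (J : X.IdealSheafData) (G : X.Modules) [G.IsQuasicoherent] (ξ : X)
    (hξ : ξ ∉ (J.support : Set X)) :
    IsIso ((TopCat.Presheaf.stalkFunctor _ ξ).map (Dual3.idealMulι J G).mapPresheaf) := by
  let U : X.Opens := ⟨(J.support : Set X)ᶜ, J.support.isClosed.isOpen_compl⟩
  have hU : (U : Set X) = (J.support : Set X)ᶜ := rfl
  have hξU : ξ ∈ U := hξ
  have hiso := isIso_restrict_idealMulι J U hU G 1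
  rw [pow_one] at hiso
  obtain ⟨hk, hc⟩ := (isIso_restrict_iff U _).1 hiso
  have hk' : Subsingleton ((kernel (Dual3.idealMulι J G)).presheaf.stalk ξ) := by
    by_contra h
    exact hk h hξU
  have hc' : Subsingleton ((cokernel (Dual3.idealMulι J G)).presheaf.stalk ξ) := by
    by_contra h
    exact hc h hξU
  have hinj := Groth.Agent.Helper26.StalkNbhd.injective_of_kernel_stalk (Dual3.idealMulι J G) ξ hk'
  have hsurj :=
    Groth.Agent.Helper26.StalkNbhd.surjective_of_cokernel_stalk (Dual3.idealMulι J G) ξ hc'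
  rw [ConcreteCategory.isIso_iff_bijective]
  exact ⟨hinj, hsurj⟩

theorem exists_G [IsNoetherian X] {Y : Scheme.{u}} (f : Y ⟶ X) [IsFinite f] [Surjective f]
    [IsAffine Y] (ξ : X) :
    ∃ G : X.Modules, Coh.IsCoh G ∧ CohB1.support G = closure ({ξ} : Set X) ∧
      (∀ a ∈ IsLocalRing.maximalIdeal (X.presheaf.stalk ξ), ∀ m : ↑(G.presheaf.stalk ξ),
        a • m = 0) ∧
      ∀ J : X.IdealSheafData, ξ ∉ (J.support : Set X) →
        ∃ (G' : X.Modules) (ι' : G' ⟶ (Dual3.idealMul J).obj G), Mono ι' ∧ Coh.IsQCoh G' ∧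
          IsIso ((TopCat.Presheaf.stalkFunctor _ ξ).map
            (ι' ≫ Dual3.idealMulι J G).mapPresheaf) ∧ P1 X G' := by
  obtain ⟨Z, i, hi1, hi2, hi3⟩ := Groth.Agent.Helper26.DevC.exists_integral ξ
  haveI := hi1
  haveI := hi2
  have hξ : i (genericPoint Z) = ξ := Groth.Agent.Helper26.DevE.map_genericPoint ξ i hi3
  subst hξ
  obtain ⟨F, hF, hsupp, hkill⟩ := Groth.Agent.Helper14.FinSupp.main0820 f Z i
  haveI : F.IsQuasicoherent := hF.1
  haveI : SheafOfModules.IsFiniteType (R := Y.ringCatSheaf) F := hF.2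
  haveI hGq : ((Coh.push f).obj F).IsQuasicoherent :=
    Groth.Agent.Helper13.QCohPush.isQuasicoherent_pushforward f F
  refine ⟨(Coh.push f).obj F, ⟨hGq, ?_⟩, ?_, hkill, ?_⟩
  · exact (Groth.Agent.Helper13.PushFinite.isFiniteType_pushforward_iff f F).1 inferInstance
  · rw [hsupp, hi3]
  · intro J hJ
    refine ⟨(Dual3.idealMul J).obj ((Coh.push f).obj F), 𝟙 _, inferInstance, ?_, ?_, ?_⟩
    · exact isQuasicoherent_idealMul J _
    · rw [Category.id_comp]
      exact isIso_stalk_idealMulι J _ _ hJ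
    · obtain ⟨e, -⟩ := idealMul_pushforward f F hF.1 J
      refine P1_of_iso ⟨e.symm⟩ ?_
      haveI : ((Dual3.idealMul (J.comap f)).obj F).IsQuasicoherent :=
        isQuasicoherent_idealMul (J.comap f) F
      haveI : Coh.IsQCoh ((Dual3.idealMul (J.comap f)).obj F) :=
        isQuasicoherent_idealMul (J.comap f) F
      exact HH_subsingleton_pushforward f _ 1 (Groth.Agent.S0007.result Y _ 1 one_pos)

end Groth.Agent.Helper14.Chev
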