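import Mathlib
import Groth.Agent.Lib.Helper14.Chev2

set_option autoImplicit false
set_option linter.style.haveILetI false
set_option linter.unusedSectionVars false
set_option linter.unusedVariables false
universe u
open CategoryTheory CategoryTheory.Limits AlgebraicGeometry Opposite TopologicalSpace

namespace Groth.Agent.Helper14.Chev

open Groth.Agent.Helper13 Groth.Agent.Helper13.ToAbExact Groth.Agent.Helper9.AffStrat
open Groth.Agent.Helper13.QCoh Groth.Agent.Helper13.FinType
open Groth.Agent.Helper14.IdealMul Groth.Agent.Helper14.CohLoc Groth.Agent.Helper14.RestrLoc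

variable {X : Scheme.{u}}

/-- the statement of the dévissage lemma S9522 for `X`. -/
def Dev (X : Scheme.{u}) : Prop :=
  ∀ (Z₀ : Set X) (hZ₀ : IsClosed Z₀) (hirr : IsIrreducible Z₀) (ξ : X) (hξ : ξ ∈ Z₀ ∧ closure {ξ} = Z₀)
    (P : X.Modules → Prop) (hP : ∀ M N : X.Modules, Nonempty (M ≅ N) → P M → P N)
    (h₀ : ∀ M : X.Modules, IsZero M → P M)
    (h₁ : ∀ S : ShortComplex X.Modules, S.ShortExact → Coh.IsCoh S.X₁ → Coh.IsCoh S.X₂ → Coh.IsCoh S.X₃ →
      P S.X₁ → P S.X₃ → P S.X₂)
    (h₂ : ∀ (F : X.Modules) (r : ℕ), Coh.IsCoh F → 1 ≤ r → P (∐ fun _ : Fin r => F) → P F)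
    (h₃ : ∀ (Z : Scheme.{u}) (i : Z ⟶ X), IsClosedImmersion i → IsIntegral Z →
      Set.range ⇑i ⊆ Z₀ → Set.range ⇑i ≠ Z₀ →
      ∀ (I : Z.Modules) (ι : I ⟶ Coh.structureModule Z), Mono ι → Coh.IsQCoh I → P ((Coh.push i).obj I))
    (h₄ : ∃ G : X.Modules, Coh.IsCoh G ∧ CohB1.support G = Z₀ ∧
      (∀ a ∈ IsLocalRing.maximalIdeal (X.presheaf.stalk ξ), ∀ m : ↑(G.presheaf.stalk ξ), a • m = 0) ∧
      ∀ J : X.IdealSheafData, ξ ∉ (J.support : Set X) →
        ∃ (G' : X.Modules) (ι' : G' ⟶ (Dual3.idealMul J).obj G), Mono ι' ∧ Coh.IsQCoh G' ∧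
          IsIso ((TopCat.Presheaf.stalkFunctor _ ξ).map (ι' ≫ Dual3.idealMulι J G).mapPresheaf) ∧ P G')
    (F : X.Modules) (hF : Coh.IsCoh F) (hsupp : CohB1.support F ⊆ Z₀), P F

/-- coherence of the direct image of a quasi-coherent ideal of a closed subscheme of a Noetherian
scheme. -/
lemma isCoh_push_ideal [IsNoetherian X] {Z : Scheme.{u}} (i : Z ⟶ X) [IsClosedImmersion i]
    (I : Z.Modules) (ι : I ⟶ Coh.structureModule Z) [Mono ι] (hI : Coh.IsQCoh I) :
    Coh.IsCoh ((Coh.push i).obj I) := by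
  haveI : I.IsQuasicoherent := hI
  haveI : IsLocallyNoetherian Z := LocallyOfFiniteType.isLocallyNoetherian i
  haveI : (Coh.structureModule Z).IsQuasicoherent :=
    (Groth.Agent.Helper13.CohRoof.isCoh_structureModule Z).1
  haveI : SheafOfModules.IsFiniteType (R := Z.ringCatSheaf) (Coh.structureModule Z) :=
    (Groth.Agent.Helper13.CohRoof.isCoh_structureModule Z).2
  haveI : SheafOfModules.IsFiniteType (R := Z.ringCatSheaf) I :=
    Groth.Agent.Helper28.CohSub.isFiniteType_of_mono ι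
  exact ⟨Groth.Agent.Helper13.QCohPush.isQuasicoherent_pushforward i I,
    (Groth.Agent.Helper13.PushFinite.isFiniteType_pushforward_iff i I).1 inferInstance⟩

theorem P1_of_isCoh [IsNoetherian X] {Y : Scheme.{u}} (f : Y ⟶ X) [IsFinite f] [Surjective f]
    [IsAffine Y] (dev : Dev X) (M : X.Modules) (hM : Coh.IsCoh M) : P1 X M := by
  refine Groth.Agent.Helper26.DevD.core (Set.univ : Set X) (P1 X)
    (fun M N e h => P1_of_iso e h) (fun M h => P1_of_isZero h)
    (fun S hS _ _ _ _ h1 h3 => P1_ext S hS h1 h3) ?_ isClosed_univ M hM (Set.subset_univ _)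
  intro ξ _ hA
  obtain ⟨Z, i, hi1, hi2, hi3⟩ := Groth.Agent.Helper26.DevC.exists_integral ξ
  haveI := hi1
  haveI := hi2
  refine ⟨Z, i, hi1, hi2, hi3, ?_⟩
  intro I ι hι hI _
  haveI := hι
  have hall := dev (closure ({ξ} : Set X)) isClosed_closure isIrreducible_singleton.closure ξ
    ⟨subset_closure rfl, rfl⟩ (P1 X) (fun M N e h => P1_of_iso e h) (fun M h => P1_of_isZero h)
    (fun S hS _ _ _ h1 h3 => P1_ext S hS h1 h3)
    (fun F r _ hr h => P1_of_pow F r hr h) ?_ (exists_G f ξ)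
  · refine hall _ (isCoh_push_ideal i I ι hI.1) ?_
    rw [← hi3]
    exact Groth.Agent.Helper26.DevE.support_push_subset i I
  · intro Z' i' hi'1 hi'2 hsub hne I' ι' hι' hI'
    haveI := hi'1
    haveI := hi'2
    haveI := hι'
    have hs : CohB1.support ((Coh.push i').obj I') ⊆ Set.range i' :=
      Groth.Agent.Helper26.DevE.support_push_subset i' I'
    refine hA _ (isCoh_push_ideal i' I' ι' hI') (hs.trans hsub) ?_
    intro hξs
    apply hne
    refine Set.Subset.antisymm hsub ?_
    exact closure_minimal (Set.singleton_subset_iff.2 (hs hξs))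
      i'.isClosedEmbedding.isClosed_range

/-- Chevalley's theorem for Noetherian target, assuming the dévissage lemma. -/
theorem isAffine_of_dev [IsNoetherian X] {Y : Scheme.{u}} (f : Y ⟶ X) [IsFinite f] [Surjective f]
    [IsAffine Y] (dev : Dev X) : IsAffine X := by
  apply Groth.Agent.S0009.result X
  intro I ι hι hI
  haveI := hι
  haveI : I.IsQuasicoherent := hI
  haveI : (Coh.structureModule X).IsQuasicoherent :=
    (Groth.Agent.Helper13.CohRoof.isCoh_structureModule X).1
  haveI : SheafOfModules.IsFiniteType (R := X.ringCatSheaf) (Coh.structureModule X) :=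
    (Groth.Agent.Helper13.CohRoof.isCoh_structureModule X).2
  haveI : SheafOfModules.IsFiniteType (R := X.ringCatSheaf) I :=
    Groth.Agent.Helper28.CohSub.isFiniteType_of_mono ι
  exact P1_of_isCoh f dev I ⟨hI, inferInstance⟩

end Groth.Agent.Helper14.Chev
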