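import Mathlib
import Groth.Prelude.Def_EGA43
import Groth.Prelude.Def_CAlg2
import Groth.Agent.Lib.Helper1.NU2

/-!
# Openness of integral extensions over integrally closed domains, and at unibranch points
-/

set_option autoImplicit false

universe u

open Polynomial PrimeSpectrum

namespace Groth.Agent.Helper14.UnibrOpen

/-- For a domain `S` integral over an integrally closed domain `R` (injectively), the image of a
basic open set of `Spec S` in `Spec R` is open. -/
theorem isOpen_image_basicOpen {R S : Type*} [CommRing R] [IsDomain R] [IsIntegrallyClosed R]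
    [CommRing S] [IsDomain S] [Algebra R S] [FaithfulSMul R S] [Algebra.IsIntegral R S] (c : S) :
    IsOpen (comap (algebraMap R S) '' (basicOpen c : Set (PrimeSpectrum S))) := by
  have hc : IsIntegral R c := Algebra.IsIntegral.isIntegral c
  have hW := Polynomial.isOpen_image_comap_of_monic (X : R[X]) (minpoly R c) (minpoly.monic hc)
  convert hW using 1
  ext p
  constructor
  · rintro ⟨Q, hQ, rfl⟩
    refine ⟨comap (aeval c : R[X] →ₐ[R] S).toRingHom Q, ⟨?_, ?_⟩, ?_⟩
    · rw [mem_zeroLocus, Set.singleton_subset_iff]
      change (aeval c : R[X] →ₐ[R] S) (minpoly R c) ∈ Q.asIdeal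
      rw [minpoly.aeval]
      exact zero_mem _
    · rw [mem_zeroLocus, Set.singleton_subset_iff]
      change ¬ (aeval c : R[X] →ₐ[R] S) X ∈ Q.asIdeal
      rw [aeval_X]
      exact hQ
    · rw [← comap_comp_apply]
      congr 1
      ext r
      simp
  · rintro ⟨P, ⟨hP1, hP2⟩, rfl⟩
    rw [mem_zeroLocus, Set.singleton_subset_iff] at hP1 hP2
    letI : Algebra R[X] S := (aeval c : R[X] →ₐ[R] S).toRingHom.toAlgebra
    haveI : IsScalarTower R R[X] S := IsScalarTower.of_algebraMap_eq fun r => by
      change _ = (aeval c : R[X] →ₐ[R] S) (C r)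
      rw [aeval_C]
    haveI : Algebra.IsIntegral R[X] S := Algebra.IsIntegral.tower_top (R := R)
    have hker : (⊥ : Ideal S).comap (algebraMap R[X] S) ≤ P.asIdeal := by
      rw [← RingHom.ker_eq_comap_bot]
      change RingHom.ker ((aeval c : R[X] →ₐ[R] S).toRingHom) ≤ _
      rw [minpoly.ker_eval hc, Ideal.span_singleton_le_iff_mem]
      exact hP1
    obtain ⟨Q, -, hQp, hQ⟩ := Ideal.exists_ideal_over_prime_of_isIntegral P.asIdeal (⊥ : Ideal S) hker
    refine ⟨⟨Q, hQp⟩, ?_, ?_⟩
    · intro hcQ
      apply hP2
      rw [← hQ]
      change (aeval c : R[X] →ₐ[R] S) X ∈ Q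
      rw [aeval_X]
      exact hcQ
    · apply PrimeSpectrum.ext
      change Q.comap (algebraMap R S) = P.asIdeal.comap C
      rw [← hQ, Ideal.comap_comap]
      congr 1
      ext r
      change _ = (aeval c : R[X] →ₐ[R] S) (C r)
      rw [aeval_C]


/-- An injective integral extension of an integrally closed domain by a domain induces an open map
on prime spectra. -/
theorem isOpenMap_comap {R S : Type*} [CommRing R] [IsDomain R] [IsIntegrallyClosed R]
    [CommRing S] [IsDomain S] [Algebra R S] [FaithfulSMul R S] [Algebra.IsIntegral R S] :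
    IsOpenMap (comap (algebraMap R S)) := by
  rw [isTopologicalBasis_basic_opens.isOpenMap_iff]
  rintro _ ⟨c, rfl⟩
  exact isOpen_image_basicOpen c

theorem comap_surjective_of_integral {R S : Type*} [CommRing R] [CommRing S] [Algebra R S]
    [FaithfulSMul R S] [Algebra.IsIntegral R S] :
    Function.Surjective (comap (algebraMap R S)) := by
  intro p
  obtain ⟨Q, -, hQp, hQ⟩ := Ideal.exists_ideal_over_prime_of_isIntegral p.asIdeal (⊥ : Ideal S)
    (by
      rw [← RingHom.ker_eq_comap_bot,
        (RingHom.injective_iff_ker_eq_bot _).mp (FaithfulSMul.algebraMap_injective R S)]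
      exact bot_le)
  exact ⟨⟨Q, hQp⟩, PrimeSpectrum.ext hQ⟩

/-- Abstract form of EGA IV 14.4.1.2 (integral case): in a commutative square of rings
`A → A' → C`, `A → B → C` with `A'` an integrally closed domain, `C` a domain integral over `A'`,
`A'` integral over `A`, `C` integral over `B`, if there is exactly one prime of `A'` over the image
`p` of `q ∈ Spec B`, then `Spec B → Spec A` is open at `q`. -/
theorem isOpenAt_comap_of_square {A B A' C : Type*} [CommRing A] [CommRing B] [CommRing A']
    [CommRing C] [Algebra A B] [Algebra A A'] [Algebra A' C] [Algebra B C] [Algebra A C]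
    [IsScalarTower A A' C] [IsScalarTower A B C]
    [IsDomain A'] [IsIntegrallyClosed A'] [IsDomain C] [FaithfulSMul A' C] [Algebra.IsIntegral A' C]
    [FaithfulSMul A A'] [Algebra.IsIntegral A A'] [FaithfulSMul B C] [Algebra.IsIntegral B C]
    (q : PrimeSpectrum B)
    (huniq : ∀ p₁ p₂ : PrimeSpectrum A', comap (algebraMap A A') p₁ = comap (algebraMap A B) q →
      comap (algebraMap A A') p₂ = comap (algebraMap A B) q → p₁ = p₂) :
    EGA43.IsOpenAt (comap (algebraMap A B)) q := by
  intro U hU
  obtain ⟨U', hU'U, hU'o, hqU'⟩ := mem_nhds_iff.mp hU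
  refine Filter.mem_of_superset ?_ (Set.image_mono hU'U)
  set UC : Set (PrimeSpectrum C) := comap (algebraMap B C) ⁻¹' U' with hUC
  have hUCo : IsOpen UC := hU'o.preimage (continuous_comap _)
  set W : Set (PrimeSpectrum A') := comap (algebraMap A' C) '' UC with hW
  have hWo : IsOpen W := isOpenMap_comap _ hUCo
  have hcl : IsClosed (comap (algebraMap A A') '' Wᶜ) :=
    PrimeSpectrum.isClosedMap_comap_of_isIntegral _ (algebraMap_isIntegral_iff.mpr inferInstance) _
      hWo.isClosed_compl
  have hsq : ∀ Q : PrimeSpectrum C, comap (algebraMap A A') (comap (algebraMap A' C) Q) =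
      comap (algebraMap A B) (comap (algebraMap B C) Q) := by
    intro Q
    rw [← comap_comp_apply, ← comap_comp_apply, ← IsScalarTower.algebraMap_eq,
      ← IsScalarTower.algebraMap_eq]
  have hsub : (comap (algebraMap A A') '' Wᶜ)ᶜ ⊆ comap (algebraMap A B) '' U' := by
    intro p₁ hp₁
    obtain ⟨p₁', rfl⟩ := comap_surjective_of_integral (R := A) (S := A') p₁
    have hp₁W : p₁' ∈ W := by
      by_contra h
      exact hp₁ ⟨p₁', h, rfl⟩
    obtain ⟨Q, hQ, rfl⟩ := hp₁W
    exact ⟨comap (algebraMap B C) Q, hQ, (hsq Q).symm⟩
  refine Filter.mem_of_superset (hcl.isOpen_compl.mem_nhds ?_) hsub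
  rintro ⟨p₂, hp₂, hp₂q⟩
  obtain ⟨Q, rfl⟩ := comap_surjective_of_integral (R := B) (S := C) q
  have := huniq p₂ (comap (algebraMap A' C) Q) hp₂q (hsq Q)
  apply hp₂
  rw [this]
  exact ⟨Q, hqU', rfl⟩


/-- EGA IV 14.4.1.2, integral case, with the unibranch hypothesis in the form "exactly one prime
of the integral closure over `p`". -/
theorem isOpenAt_comap_of_uniq {A B : Type u} {K : Type*} [CommRing A] [IsDomain A] [CommRing B]
    [IsDomain B] [Algebra A B] (hinj : Function.Injective (algebraMap A B))
    [Algebra.IsIntegral A B] [Field K] [Algebra A K] [IsFractionRing A K] (q : PrimeSpectrum B)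
    (huniq : ∀ p₁ p₂ : PrimeSpectrum (integralClosure A K),
      comap (algebraMap A (integralClosure A K)) p₁ = comap (algebraMap A B) q →
      comap (algebraMap A (integralClosure A K)) p₂ = comap (algebraMap A B) q → p₁ = p₂) :
    EGA43.IsOpenAt (comap (algebraMap A B)) q := by
  classical
  let L := FractionRing B
  have hBL : Function.Injective (algebraMap B L) := IsFractionRing.injective B L
  have hAL : Function.Injective (algebraMap A L) := by
    rw [IsScalarTower.algebraMap_eq A B L]
    exact hBL.comp hinj
  let iKL : K →+* L := IsFractionRing.lift (g := algebraMap A L) hAL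
  let _ : Algebra K L := iKL.toAlgebra
  have : IsScalarTower A K L := IsScalarTower.of_algebraMap_eq fun x => by
    change _ = iKL _
    exact (IsFractionRing.lift_algebraMap hAL x).symm
  let A' := integralClosure A K
  let C := integralClosure A L
  let f : A' →ₐ[A] C := (IsScalarTower.toAlgHom A K L).mapIntegralClosure
  let g : B →ₐ[A] C := (IsScalarTower.toAlgHom A B L).codRestrict C fun b =>
    (Algebra.IsIntegral.isIntegral (R := A) b).map (IsScalarTower.toAlgHom A B L)
  have hf : Function.Injective f := by
    intro x y hxy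
    apply Subtype.ext
    have h1 : ((f x : C) : L) = ((f y : C) : L) := by rw [hxy]
    exact (algebraMap K L).injective h1
  have hg : Function.Injective g := by
    intro x y hxy
    have h1 : ((g x : C) : L) = ((g y : C) : L) := by rw [hxy]
    exact hBL h1
  let _ : Algebra A' C := f.toRingHom.toAlgebra
  let _ : Algebra B C := g.toRingHom.toAlgebra
  have : IsScalarTower A A' C := IsScalarTower.of_algebraMap_eq fun x => (f.commutes x).symm
  have : IsScalarTower A B C := IsScalarTower.of_algebraMap_eq fun x => (g.commutes x).symm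
  have hfa : Function.Injective (algebraMap A' C) := hf
  have hga : Function.Injective (algebraMap B C) := hg
  have : Algebra.IsIntegral A C := inferInstance
  have : Algebra.IsIntegral A' C := Algebra.IsIntegral.tower_top (R := A)
  have : Algebra.IsIntegral B C := Algebra.IsIntegral.tower_top (R := A)
  have : IsIntegrallyClosed A' := integralClosure.isIntegrallyClosedOfFiniteExtension (R := A) K
  have : FaithfulSMul A' C := (faithfulSMul_iff_algebraMap_injective A' C).mpr hfa
  have : FaithfulSMul B C := (faithfulSMul_iff_algebraMap_injective B C).mpr hga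
  have hAA' : Function.Injective (algebraMap A A') := by
    intro x y hxy
    have h1 : ((algebraMap A A' x : A') : K) = ((algebraMap A A' y : A') : K) := by rw [hxy]
    exact IsFractionRing.injective A K h1
  have : FaithfulSMul A A' := (faithfulSMul_iff_algebraMap_injective A A').mpr hAA'
  exact isOpenAt_comap_of_square (A' := A') (C := C) q huniq

section Uniq

open IsLocalRing

variable {A : Type u} [CommRing A] [IsDomain A] (p : Ideal A) [p.IsPrime]
  (D : Type u) [CommRing D] [IsDomain D] [Algebra A D] [IsLocalization.AtPrime D p]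

local notation "A'" => integralClosure A (FractionRing A)
local notation "BD" => integralClosure D (FractionRing D)

/-- If the integral closure of `A_p` (`A` a domain, `D` a model of `A_p`) is local, there is exactly
one prime of the integral closure of `A` over `p`. -/
theorem uniq_of_isLocalRing (hloc : IsLocalRing BD)
    (p₁ p₂ : Ideal A') [p₁.IsPrime] [p₂.IsPrime]
    (h₁ : p₁.comap (algebraMap A A') = p) (h₂ : p₂.comap (algebraMap A A') = p) : p₁ = p₂ := by
  haveI : IsLocalRing D := IsLocalization.AtPrime.isLocalRing D p
  haveI : IsLocalRing BD := hloc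
  letI := (Groth.Agent.Helper1.NU.toB A p D).toAlgebra
  haveI : IsLocalization (Algebra.algebraMapSubmonoid A' p.primeCompl) BD :=
    Groth.Agent.Helper1.NU.isLocalization_toB A p D
  have key : ∀ (p' : Ideal A') [p'.IsPrime], p'.comap (algebraMap A A') = p →
      p' = (maximalIdeal BD).comap (algebraMap A' BD) := by
    intro p' hp' hp'p
    have hdisj : Disjoint ((Algebra.algebraMapSubmonoid A' p.primeCompl : Submonoid A') : Set A')
        (p' : Set A') := by
      rw [Set.disjoint_left]
      rintro _ ⟨s, hs, rfl⟩ hsp
      apply hs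
      rw [← hp'p]
      exact hsp
    have hprime : (p'.map (algebraMap A' BD)).IsPrime :=
      IsLocalization.isPrime_of_isPrime_disjoint _ BD p' hp' hdisj
    have hcomap : (p'.map (algebraMap A' BD)).comap (algebraMap A' BD) = p' :=
      IsLocalization.comap_map_of_isPrime_disjoint _ BD hp' hdisj
    have hmax : (p'.map (algebraMap A' BD)).IsMaximal := by
      apply Ideal.isMaximal_of_isIntegral_of_isMaximal_comap (R := D)
      have hc : ((p'.map (algebraMap A' BD)).comap (algebraMap D BD)).comap (algebraMap A D) = p := by
        rw [Ideal.comap_comap, ← Groth.Agent.Helper1.NU.toB_comp A p D, ← Ideal.comap_comap]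
        change ((p'.map (algebraMap A' BD)).comap (algebraMap A' BD)).comap _ = p
        rw [hcomap, hp'p]
      have : (p'.map (algebraMap A' BD)).comap (algebraMap D BD) = maximalIdeal D := by
        rw [← IsLocalization.map_under p.primeCompl D
          ((p'.map (algebraMap A' BD)).comap (algebraMap D BD)), Ideal.under_def, hc,
          IsLocalization.AtPrime.map_eq_maximalIdeal]
      rw [this]
      exact maximalIdeal.isMaximal D
    rw [← IsLocalRing.eq_maximalIdeal hmax, hcomap]
  rw [key p₁ h₁, key p₂ h₂]

end Uniq

section Uniq2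

variable {A : Type u} [CommRing A] [IsDomain A] (p : Ideal A) [p.IsPrime]

/-- If `A_p` is unibranch (`A` a domain), there is exactly one prime of the integral closure of `A`
over `p`. -/
theorem uniq_of_isUnibranch
    (h : CAlg2.IsUnibranch (Localization.AtPrime p))
    (p₁ p₂ : Ideal (integralClosure A (FractionRing A))) [p₁.IsPrime] [p₂.IsPrime]
    (h₁ : p₁.comap (algebraMap A _) = p) (h₂ : p₂.comap (algebraMap A _) = p) : p₁ = p₂ := by
  obtain ⟨hdom, hloc⟩ := h
  have hnil : nilradical (Localization.AtPrime p) = ⊥ := nilradical_eq_bot_iff.mpr inferInstance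
  have hbij : Function.Bijective (Ideal.Quotient.mkₐ A (nilradical (Localization.AtPrime p))) := by
    refine ⟨?_, Ideal.Quotient.mk_surjective⟩
    rw [← AlgHom.coe_toRingHom, RingHom.injective_iff_ker_eq_bot]
    change RingHom.ker (Ideal.Quotient.mk _) = ⊥
    rw [Ideal.mk_ker, hnil]
  let e : Localization.AtPrime p ≃ₐ[A] CAlg2.red (Localization.AtPrime p) :=
    AlgEquiv.ofBijective _ hbij
  haveI : IsLocalization.AtPrime (CAlg2.red (Localization.AtPrime p)) p :=
    IsLocalization.isLocalization_of_algEquiv p.primeCompl e
  exact uniq_of_isLocalRing p (CAlg2.red (Localization.AtPrime p)) hloc p₁ p₂ h₁ h₂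

end Uniq2

end Groth.Agent.Helper14.UnibrOpen
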