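import Mathlib
import Groth.Prelude.Def_EGA43
import Groth.Prelude.Def_CAlg2
import Groth.Agent.Lib.Helper14.UnibrOpen
import Groth.Agent.Lib.Helper4.UOpen1

/-!
# Openness at a quasi-finite point over a unibranch point (ring level), EGA IV 14.4.1.2
-/

set_option autoImplicit false

universe u

open Polynomial PrimeSpectrum EGA43

namespace Groth.Agent.Helper14.UnibrOpen

open Groth.Agent.Helper4.UOpen

theorem isOpenAt_comp {X Y Z : Type*} [TopologicalSpace X] [TopologicalSpace Y]
    [TopologicalSpace Z] (f : X → Y) (g : Y → Z) (x : X) (hf : IsOpenAt f x)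
    (hg : IsOpenAt g (f x)) : IsOpenAt (g ∘ f) x := by
  intro U hU
  have := hg _ (hf U hU)
  rwa [← Set.image_comp] at this

theorem isOpenAt_of_isOpenMap {X Y : Type*} [TopologicalSpace X] [TopologicalSpace Y]
    {f : X → Y} (hf : IsOpenMap f) (x : X) : IsOpenAt f x :=
  fun _ hU => hf.image_mem_nhds hU

/-- EGA IV 14.4.1.2 for domains: a finite type injective extension of domains, quasi-finite at `q`,
with exactly one prime of the normalization of `R` over `q ∩ R`, is open at `q`. -/
theorem isOpenAt_comap_of_quasiFiniteAt_dom {R S : Type u} {K : Type*} [CommRing R] [IsDomain R]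
    [CommRing S] [IsDomain S] [Algebra R S] (hinj : Function.Injective (algebraMap R S))
    [Algebra.FiniteType R S] [Field K] [Algebra R K] [IsFractionRing R K]
    (q : PrimeSpectrum S) [Algebra.QuasiFiniteAt R q.asIdeal]
    (huniq : ∀ p₁ p₂ : PrimeSpectrum (integralClosure R K),
      comap (algebraMap R (integralClosure R K)) p₁ = comap (algebraMap R S) q →
      comap (algebraMap R (integralClosure R K)) p₂ = comap (algebraMap R S) q → p₁ = p₂) :
    IsOpenAt (comap (algebraMap R S)) q := by
  obtain ⟨r, hr, hbij⟩ := Algebra.ZariskisMainProperty.of_finiteType (R := R) q.asIdeal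
  have hinj' : Function.Injective (algebraMap R (integralClosure R S)) := by
    intro x y hxy
    apply hinj
    have := congrArg (algebraMap (integralClosure R S) S) hxy
    rwa [← IsScalarTower.algebraMap_apply, ← IsScalarTower.algebraMap_apply] at this
  have hq' : comap (algebraMap R (integralClosure R S)) (comap (algebraMap (integralClosure R S) S) q)
      = comap (algebraMap R S) q := by
    rw [← comap_comp_apply, ← IsScalarTower.algebraMap_eq]
  have h1 : IsOpenAt (comap (algebraMap R (integralClosure R S)))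
      (comap (algebraMap (integralClosure R S) S) q) :=
    isOpenAt_comap_of_uniq hinj' (K := K) _ (by rw [hq']; exact huniq)
  have h2 : IsOpenAt (comap (algebraMap (integralClosure R S) S)) q := by
    have hrange := localization_away_comap_range (Localization.Away r.1) r.1
    obtain ⟨w, rfl⟩ : q ∈ Set.range (comap (algebraMap S (Localization.Away r.1))) := by
      rw [hrange]
      exact hr
    refine isOpenAt_of_square _ (comap (Localization.awayMap (integralClosure R S).val.toRingHom r))
      (comap (algebraMap S (Localization.Away r.1)))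
      (comap (algebraMap (integralClosure R S) (Localization.Away r)))
      (continuous_comap _) (localization_away_isOpenEmbedding (Localization.Away r) r).isOpenMap
      ?_ w (isOpenAt_of_isOpenMap (isHomeomorph_comap_of_bijective hbij).isOpenMap w)
    intro w
    rw [← comap_comp_apply, ← comap_comp_apply]
    congr 1
    ext x
    simp only [Localization.awayMap, IsLocalization.Away.map, RingHom.comp_apply,
      IsLocalization.map_eq]
    rfl
  have h3 := isOpenAt_comp _ _ q h2 h1
  convert h3 using 1
  ext1 x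
  simp only [Function.comp_apply]
  rw [← comap_comp_apply, ← IsScalarTower.algebraMap_eq]


theorem nil_le_comap (R A : Type*) [CommRing R] [CommRing A] [Algebra R A] :
    nilradical R ≤ (nilradical A).comap (algebraMap R A) := by
  intro x hx
  rw [Ideal.mem_comap, mem_nilradical]
  exact (mem_nilradical.mp hx).map _

/-- Openness at a point can be checked after passing to the reductions. -/
theorem isOpenAt_comap_of_red {R S : Type u} [CommRing R] [CommRing S] (φ : R →+* S)
    (φ₀ : R ⧸ nilradical R →+* S ⧸ nilradical S)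
    (hφ₀ : φ₀.comp (Ideal.Quotient.mk _) = (Ideal.Quotient.mk _).comp φ)
    (q₀ : PrimeSpectrum (S ⧸ nilradical S)) (h : IsOpenAt (comap φ₀) q₀) :
    IsOpenAt (comap φ) (comap (Ideal.Quotient.mk (nilradical S)) q₀) := by
  refine isOpenAt_of_square (comap φ) (comap φ₀) (comap (Ideal.Quotient.mk (nilradical S)))
    (comap (Ideal.Quotient.mk (nilradical R))) (continuous_comap _) ?_ ?_ q₀ h
  · refine (isHomeomorph_comap _ (fun x => ?_) ?_).isOpenMap
    · obtain ⟨y, rfl⟩ := Ideal.Quotient.mk_surjective x
      exact ⟨1, Nat.one_pos, y, by simp⟩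
    · rw [Ideal.mk_ker]
  · intro w
    rw [← comap_comp_apply, ← comap_comp_apply, hφ₀]

section Transfer

variable {R : Type u} [CommRing R]

/-- Transfer of the unibranch hypothesis to the reduction. -/
theorem uniq_of_isUnibranch_red (hR : (nilradical R).IsPrime)
    (p₀ : Ideal (R ⧸ nilradical R)) [p₀.IsPrime]
    (D : Type u) [CommRing D] [IsLocalRing D] [Algebra R D]
    [IsLocalization.AtPrime D (p₀.comap (Ideal.Quotient.mk (nilradical R)))]
    (hD : CAlg2.IsUnibranch D)
    (p₁ p₂ : Ideal (integralClosure (R ⧸ nilradical R) (FractionRing (R ⧸ nilradical R))))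
    [p₁.IsPrime] [p₂.IsPrime]
    (h₁ : p₁.comap (algebraMap (R ⧸ nilradical R) _) = p₀)
    (h₂ : p₂.comap (algebraMap (R ⧸ nilradical R) _) = p₀) : p₁ = p₂ := by
  haveI : IsDomain (R ⧸ nilradical R) := Ideal.Quotient.isDomain _
  obtain ⟨hdom, hloc⟩ := hD
  haveI : IsDomain (CAlg2.red D) := hdom
  letI : Algebra (R ⧸ nilradical R) (CAlg2.red D) :=
    Ideal.Quotient.algebraQuotientOfLEComap (nil_le_comap R D)
  set p := p₀.comap (Ideal.Quotient.mk (nilradical R)) with hp
  have hloc' : IsLocalization (p.primeCompl.map (Ideal.Quotient.mk (nilradical R)))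
      (CAlg2.red D) := by
    refine IsLocalization.of_surjective p.primeCompl D (Ideal.Quotient.mk (nilradical R))
      Ideal.Quotient.mk_surjective (Ideal.Quotient.mk (nilradical D)) Ideal.Quotient.mk_surjective
      ?_ ?_
    · rfl
    · rw [Ideal.mk_ker, Ideal.mk_ker]
      intro x hx
      obtain ⟨a, s, rfl⟩ := IsLocalization.exists_mk'_eq p.primeCompl x
      obtain ⟨n, hn⟩ := mem_nilradical.mp hx
      rw [← IsLocalization.mk'_pow, IsLocalization.mk'_eq_zero_iff] at hn
      obtain ⟨t, ht⟩ := hn
      rw [IsLocalization.mk'_mem_map_algebraMap_iff]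
      refine ⟨t, t.2, ?_⟩
      rw [mem_nilradical]
      refine ⟨n, ?_⟩
      have hn0 : n ≠ 0 := by
        rintro rfl
        simp only [pow_zero, mul_one] at ht
        exact t.2 (by rw [ht]; exact zero_mem _)
      obtain ⟨m, rfl⟩ := Nat.exists_eq_succ_of_ne_zero hn0
      rw [mul_pow, pow_succ (t : R), mul_assoc, ht, mul_zero]
  have hM : p.primeCompl.map (Ideal.Quotient.mk (nilradical R)) = p₀.primeCompl := by
    ext x
    constructor
    · rintro ⟨y, hy, rfl⟩
      exact hy
    · intro hx
      obtain ⟨y, rfl⟩ := Ideal.Quotient.mk_surjective x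
      exact ⟨y, hx, rfl⟩
  haveI : IsLocalization.AtPrime (CAlg2.red D) p₀ := by
    rw [hM] at hloc'
    exact hloc'
  exact uniq_of_isLocalRing p₀ (CAlg2.red D) hloc p₁ p₂ h₁ h₂

end Transfer


/-- EGA IV 14.4.1.2, ring form: a finite type ring map `R → S` with irreducible spectra and
nilpotent kernel, quasi-finite at `q`, with `R_p` unibranch (`p = q ∩ R`, `D` a model of `R_p`), is
open at `q`. -/
theorem isOpenAt_comap_of_quasiFiniteAt {R S : Type u} [CommRing R] [CommRing S] [Algebra R S]
    [Algebra.FiniteType R S] (hR : (nilradical R).IsPrime) (hS : (nilradical S).IsPrime)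
    (hker : RingHom.ker (algebraMap R S) ≤ nilradical R)
    (q : PrimeSpectrum S) [Algebra.QuasiFiniteAt R q.asIdeal]
    (D : Type u) [CommRing D] [IsLocalRing D] [Algebra R D]
    [IsLocalization.AtPrime D (q.asIdeal.comap (algebraMap R S))]
    (hD : CAlg2.IsUnibranch D) : IsOpenAt (comap (algebraMap R S)) q := by
  haveI : IsDomain (R ⧸ nilradical R) := Ideal.Quotient.isDomain _
  haveI : IsDomain (S ⧸ nilradical S) := Ideal.Quotient.isDomain _
  letI : Algebra (R ⧸ nilradical R) (S ⧸ nilradical S) :=
    Ideal.Quotient.algebraQuotientOfLEComap (nil_le_comap R S)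
  haveI : IsScalarTower R (R ⧸ nilradical R) (S ⧸ nilradical S) :=
    IsScalarTower.of_algebraMap_eq fun x => rfl
  have hinj : Function.Injective (algebraMap (R ⧸ nilradical R) (S ⧸ nilradical S)) := by
    rw [injective_iff_map_eq_zero]
    intro x hx
    obtain ⟨y, rfl⟩ := Ideal.Quotient.mk_surjective x
    change Ideal.Quotient.mk (nilradical S) (algebraMap R S y) = 0 at hx
    rw [Ideal.Quotient.eq_zero_iff_mem, mem_nilradical] at hx
    obtain ⟨n, hn⟩ := hx
    rw [Ideal.Quotient.eq_zero_iff_mem]
    have h1 : y ^ n ∈ nilradical R := hker (by rw [RingHom.mem_ker, map_pow, hn])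
    rw [mem_nilradical] at h1 ⊢
    obtain ⟨m, hm⟩ := h1
    exact ⟨n * m, by rw [pow_mul, hm]⟩
  haveI : Algebra.FiniteType R (S ⧸ nilradical S) :=
    Algebra.FiniteType.of_surjective (Ideal.Quotient.mkₐ R (nilradical S))
      Ideal.Quotient.mk_surjective
  haveI : Algebra.FiniteType (R ⧸ nilradical R) (S ⧸ nilradical S) :=
    Algebra.FiniteType.of_restrictScalars_finiteType R _ _
  obtain ⟨q₀, rfl⟩ : ∃ q₀, comap (Ideal.Quotient.mk (nilradical S)) q₀ = q :=
    (comap_quotientMk_bijective_of_le_nilradical le_rfl).2 q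
  haveI : Algebra.QuasiFiniteAt R q₀.asIdeal :=
    Algebra.QuasiFiniteAt.of_surjectiveOnStalks
      (comap (Ideal.Quotient.mk (nilradical S)) q₀).asIdeal (Ideal.Quotient.mkₐ R (nilradical S))
      (RingHom.surjectiveOnStalks_of_surjective Ideal.Quotient.mk_surjective) q₀.asIdeal rfl
  haveI : Algebra.QuasiFiniteAt (R ⧸ nilradical R) q₀.asIdeal :=
    Algebra.QuasiFinite.of_restrictScalars R (R ⧸ nilradical R) (Localization.AtPrime q₀.asIdeal)
  have hcomm : (algebraMap (R ⧸ nilradical R) (S ⧸ nilradical S)).comp (Ideal.Quotient.mk _) =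
      (Ideal.Quotient.mk _).comp (algebraMap R S) := rfl
  refine isOpenAt_comap_of_red (algebraMap R S) (algebraMap (R ⧸ nilradical R) (S ⧸ nilradical S))
    hcomm q₀ ?_
  have hp : (comap (algebraMap (R ⧸ nilradical R) (S ⧸ nilradical S)) q₀).asIdeal.comap
      (Ideal.Quotient.mk (nilradical R)) =
      (comap (Ideal.Quotient.mk (nilradical S)) q₀).asIdeal.comap (algebraMap R S) := by
    change Ideal.comap _ (Ideal.comap _ _) = Ideal.comap _ (Ideal.comap _ _)
    rw [Ideal.comap_comap, Ideal.comap_comap, hcomm]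
  haveI : IsLocalization.AtPrime D
      ((comap (algebraMap (R ⧸ nilradical R) (S ⧸ nilradical S)) q₀).asIdeal.comap
        (Ideal.Quotient.mk (nilradical R))) := by
    have hM : ((comap (algebraMap (R ⧸ nilradical R) (S ⧸ nilradical S)) q₀).asIdeal.comap
        (Ideal.Quotient.mk (nilradical R))).primeCompl =
        ((comap (Ideal.Quotient.mk (nilradical S)) q₀).asIdeal.comap (algebraMap R S)).primeCompl := by
      ext x
      simp only [Ideal.mem_primeCompl_iff]
      rw [hp]
    change IsLocalization _ D
    rw [hM]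
    infer_instance
  refine isOpenAt_comap_of_quasiFiniteAt_dom hinj (K := FractionRing (R ⧸ nilradical R)) q₀ ?_
  intro p₁ p₂ h₁ h₂
  apply PrimeSpectrum.ext
  exact uniq_of_isUnibranch_red hR
    (comap (algebraMap (R ⧸ nilradical R) (S ⧸ nilradical S)) q₀).asIdeal D hD p₁.asIdeal p₂.asIdeal
    (congrArg PrimeSpectrum.asIdeal h₁) (congrArg PrimeSpectrum.asIdeal h₂)

end Groth.Agent.Helper14.UnibrOpen
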