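import Mathlib
import Groth.Prelude.Def_EGA43
import Groth.Agent.Lib.Helper14.FibreBC
import Groth.Agent.Lib.Helper14.UnibrOpen2

/-!
# Universal openness at a point: composition and specialization within fibres
-/

set_option autoImplicit false

universe u

open CategoryTheory CategoryTheory.Limits AlgebraicGeometry EGA43

namespace Groth.Agent.Helper14.ChevComp

open Groth.Agent.Helper14.UnibrOpen

variable {X Y Z : Scheme.{u}}

/-- universal openness at a point is stable under composition -/
theorem isUnivOpenAt_comp (f : X ⟶ Y) (g : Y ⟶ Z) (x : X) (hf : IsUnivOpenAt f x)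
    (hg : IsUnivOpenAt g (f.base x)) : IsUnivOpenAt (f ≫ g) x := by
  intro T k x' hx'
  let i := pullbackRightPullbackFstIso g k f
  have hfst : i.hom ≫ pullback.fst (f ≫ g) k = pullback.fst f (pullback.fst g k) :=
    pullbackRightPullbackFstIso_hom_fst g k f
  have hsnd : i.hom ≫ pullback.snd (f ≫ g) k =
      pullback.snd f (pullback.fst g k) ≫ pullback.snd g k :=
    pullbackRightPullbackFstIso_hom_snd g k f
  set x'' := i.inv.base x' with hx''
  have hx'x'' : i.hom.base x'' = x' := by
    rw [hx'', ← Scheme.Hom.comp_apply, Iso.inv_hom_id]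
    rfl
  have h1 : (pullback.fst f (pullback.fst g k)).base x'' = x := by
    rw [← hfst, Scheme.Hom.comp_apply, hx'x'']
    exact hx'
  have hA := hf _ (pullback.fst g k) x'' h1
  have h2 : (pullback.fst g k).base ((pullback.snd f (pullback.fst g k)).base x'') = f.base x := by
    rw [← Scheme.Hom.comp_apply, ← pullback.condition, Scheme.Hom.comp_apply, h1]
  have hB := hg _ k _ h2
  have hC := isOpenAt_comp _ _ x'' hA hB
  have hD : IsOpenAt ((pullback.snd (f ≫ g) k).base ∘ i.hom.base) x'' := by
    refine Groth.Agent.Helper4.UOpen.isOpenAt_congr ?_ x'' hC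
    intro w
    change _ = (pullback.snd (f ≫ g) k).base (i.hom.base w)
    rw [← Scheme.Hom.comp_apply, hsnd, Scheme.Hom.comp_apply]
    rfl
  intro U hU
  have hU' : i.hom.base ⁻¹' U ∈ nhds x'' := by
    apply i.hom.continuous.continuousAt
    rw [hx'x'']
    exact hU
  have := hD _ hU'
  rw [Function.comp_apply, hx'x''] at this
  refine Filter.mem_of_superset this ?_
  rintro _ ⟨w, hw, rfl⟩
  exact ⟨i.hom.base w, hw, rfl⟩

/-- universal openness at `z` passes to specializations of `z` inside the fibre -/
theorem isUnivOpenAt_of_specializes (f : X ⟶ Y) (x z : X) (hzx : z ⤳ x)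
    (hfz : f.base z = f.base x) (hz : IsUnivOpenAt f z) : IsUnivOpenAt f x := by
  intro T k x' hx'
  have hsq : IsPullback (pullback.fst f k) (pullback.snd f k) f k := IsPullback.of_hasPullback f k
  obtain ⟨z', hz'x', hz'z, hz'snd⟩ := FibreBC.exists_generization_lift hsq x' z
    (by rw [hx']; exact hzx) (by rw [hx']; exact hfz)
  have h1 := hz T k z' hz'z
  intro U hU
  obtain ⟨O, hOU, hO, hxO⟩ := mem_nhds_iff.mp hU
  have hz'O : z' ∈ O := hz'x'.mem_open hO hxO
  have h2 := h1 O (hO.mem_nhds hz'O)
  rw [hz'snd] at h2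
  exact Filter.mem_of_superset h2 (Set.image_mono hOU)

end Groth.Agent.Helper14.ChevComp
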