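import Mathlib

/-!
# Ring-level preparation for Chevalley's criterion: factorisation through an affine space
-/

set_option autoImplicit false
universe u
open MvPolynomial PrimeSpectrum

namespace Groth.Agent.Helper14.ChevEq

variable {R B : Type u} [CommRing R] [CommRing B] [Algebra R B]

/-- the compatibility `B → B/q` after `aeval t` is `aeval (mk ∘ t)` after reducing coefficients -/
theorem mk_aeval {ι : Type u} (q : Ideal B) [q.IsPrime] (t : ι → B) (F : MvPolynomial ι R) :
    Ideal.Quotient.mk q (aeval t F) =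
      aeval (R := R ⧸ q.under R) (fun i => Ideal.Quotient.mk q (t i))
        (MvPolynomial.map (Ideal.Quotient.mk (q.under R)) F) := by
  induction F using MvPolynomial.induction_on with
  | C r =>
    simp only [aeval_C, map_C]
    rfl
  | add f g hf hg => simp only [map_add, hf, hg]
  | mul_X f i hf => simp only [map_mul, hf, aeval_X, map_X]

theorem comap_aeval_eq {ι : Type u} (q : Ideal B) [q.IsPrime] (t : ι → B)
    (ht : AlgebraicIndependent (R ⧸ q.under R) (fun i => Ideal.Quotient.mk q (t i))) :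
    q.comap (aeval t : MvPolynomial ι R →ₐ[R] B) = Ideal.map C (q.under R) := by
  ext F
  rw [Ideal.mem_comap, ← Ideal.Quotient.eq_zero_iff_mem, mk_aeval]
  have hker : Ideal.map (C (σ := ι)) (q.under R) =
      RingHom.ker (MvPolynomial.map (σ := ι) (Ideal.Quotient.mk (q.under R))) := by
    rw [MvPolynomial.ker_map, Ideal.mk_ker]
  rw [hker, RingHom.mem_ker]
  constructor
  · intro h
    exact (injective_iff_map_eq_zero _).mp ht _ h
  · intro h
    rw [h, map_zero]

theorem exists_transcendence_lift [Algebra.FiniteType R B] (q : Ideal B) [q.IsPrime] :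
    ∃ (ι : Type u) (_ : Finite ι) (t : ι → B),
      IsTranscendenceBasis (R ⧸ q.under R) (fun i => Ideal.Quotient.mk q (t i)) := by
  haveI : FaithfulSMul (R ⧸ q.under R) (B ⧸ q) :=
    (faithfulSMul_iff_algebraMap_injective _ _).mpr (Ideal.algebraMap_quotient_injective)
  obtain ⟨ι, x, hx⟩ := exists_isTranscendenceBasis' (R ⧸ q.under R) (A := B ⧸ q)
  haveI : Algebra.FiniteType R (B ⧸ q) := inferInstance
  haveI : Algebra.FiniteType (R ⧸ q.under R) (B ⧸ q) :=
    Algebra.FiniteType.of_restrictScalars_finiteType R _ _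
  have hfin : Finite ι := by
    have h1 := hx.cardinalMk_eq_trdeg
    have h2 : Algebra.trdeg (R ⧸ q.under R) (B ⧸ q) < Cardinal.aleph0 :=
      trdeg_lt_aleph0_of_finiteType
    rw [← h1] at h2
    exact Cardinal.mk_lt_aleph0_iff.mp h2
  refine ⟨ι, hfin, fun i => Function.surjInv Ideal.Quotient.mk_surjective (x i), ?_⟩
  have : (fun i => Ideal.Quotient.mk q (Function.surjInv Ideal.Quotient.mk_surjective (x i))) = x := by
    funext i
    exact Function.surjInv_eq _ _
  rw [this]
  exact hx

theorem eq_of_ge_of_comap_eq {ι : Type u} (q q' : Ideal B) [q.IsPrime] [q'.IsPrime] (hle : q ≤ q')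
    (t : ι → B)
    (ht : IsTranscendenceBasis (R ⧸ q.under R) (fun i => Ideal.Quotient.mk q (t i)))
    (h : q'.comap (aeval t : MvPolynomial ι R →ₐ[R] B) =
      q.comap (aeval t : MvPolynomial ι R →ₐ[R] B)) : q' = q := by
  by_contra hne
  have hlt : ¬ q' ≤ q := fun h' => hne (le_antisymm h' hle)
  obtain ⟨b, hbq', hbq⟩ := Set.not_subset.mp hlt
  set x : ι → B ⧸ q := fun i => Ideal.Quotient.mk q (t i) with hx
  haveI halg : Algebra.IsAlgebraic (Algebra.adjoin (R ⧸ q.under R) (Set.range x)) (B ⧸ q) :=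
    ht.isAlgebraic
  have hc0 : Ideal.Quotient.mk q b ≠ 0 := by
    rw [Ne, Ideal.Quotient.eq_zero_iff_mem]
    exact hbq
  have hcI : Ideal.Quotient.mk q b ∈ q'.map (Ideal.Quotient.mk q) := Ideal.mem_map_of_mem _ hbq'
  have h1 := Ideal.comap_ne_bot_of_algebraic_mem
    (R := Algebra.adjoin (R ⧸ q.under R) (Set.range x)) hc0 hcI
    (Algebra.IsAlgebraic.isAlgebraic _)
  obtain ⟨a, haI, ha0⟩ := (Submodule.ne_bot_iff _).mp h1
  have ha1 : (a : B ⧸ q) ∈ (aeval (R := R ⧸ q.under R) x).range := by
    rw [← Algebra.adjoin_range_eq_range_aeval]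
    exact a.2
  obtain ⟨G, hG⟩ := ha1
  obtain ⟨F, rfl⟩ := MvPolynomial.map_surjective (σ := ι) (Ideal.Quotient.mk (q.under R))
    Ideal.Quotient.mk_surjective G
  have h2 : Ideal.Quotient.mk q (aeval t F) = (a : B ⧸ q) := by
    rw [mk_aeval]
    exact hG
  have h3 : aeval t F ∈ q' := by
    have : Ideal.Quotient.mk q (aeval t F) ∈ q'.map (Ideal.Quotient.mk q) := by
      rw [h2]
      exact haI
    exact (Ideal.mem_quotient_iff_mem hle).mp this
  have h4 : F ∈ q.comap (aeval t : MvPolynomial ι R →ₐ[R] B) := by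
    rw [← h]
    exact h3
  have h5 : Ideal.Quotient.mk q (aeval t F) = 0 := Ideal.Quotient.eq_zero_iff_mem.mpr h4
  apply ha0
  apply Subtype.ext
  rw [← h2, h5]
  rfl

/-- a prime which is both minimal and maximal in its fibre is isolated in its fibre -/
theorem isOpen_singleton_fiber {A B : Type u} [CommRing A] [CommRing B] [Algebra A B]
    [Algebra.FiniteType A B] (q : PrimeSpectrum B)
    (hmin : ∀ q' : PrimeSpectrum B, q' ≤ q → comap (algebraMap A B) q' = comap (algebraMap A B) q →
      q' = q)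
    (hmax : ∀ q' : PrimeSpectrum B, q ≤ q' → comap (algebraMap A B) q' = comap (algebraMap A B) q →
      q' = q) :
    IsOpen (X := comap (algebraMap A B) ⁻¹' {comap (algebraMap A B) q}) {⟨q, rfl⟩} := by
  set p := comap (algebraMap A B) q with hp
  let e := PrimeSpectrum.preimageHomeomorphFiber A B p
  rw [← e.isOpen_image, Set.image_singleton]
  haveI : IsNoetherianRing (p.asIdeal.Fiber B) :=
    Algebra.FiniteType.isNoetherianRing p.asIdeal.ResidueField _
  haveI : IsJacobsonRing (p.asIdeal.Fiber B) :=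
    isJacobsonRing_of_finiteType (A := p.asIdeal.ResidueField)
  have key : IsClosed ({e ⟨q, rfl⟩} : Set (PrimeSpectrum (p.asIdeal.Fiber B))) ∧
      StableUnderGeneralization ({e ⟨q, rfl⟩} : Set (PrimeSpectrum (p.asIdeal.Fiber B))) := ?_
  · exact ((PrimeSpectrum.isOpen_singleton_tfae_of_isNoetherian_of_isJacobsonRing
      (e ⟨q, rfl⟩)).out 0 2).mpr key
  refine ⟨?_, ?_⟩
  · rw [← Set.image_singleton, e.isClosed_image]
    apply isClosed_of_closure_subset
    intro y hy
    have h1 : (⟨q, rfl⟩ : comap (algebraMap A B) ⁻¹' {p}) ⤳ y := specializes_iff_mem_closure.mpr hy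
    have h2 : q ⤳ y.1 := Topology.IsInducing.subtypeVal.specializes_iff.mpr h1
    have h3 : q ≤ y.1 := (PrimeSpectrum.le_iff_specializes _ _).mpr h2
    have h4 := hmax y.1 h3 y.2
    exact Set.mem_singleton_iff.mpr (Subtype.ext h4)
  · intro a b hb ha
    rw [Set.mem_singleton_iff] at ha
    subst ha
    have h1 : e.symm b ⤳ e.symm (e ⟨q, rfl⟩) := hb.map e.symm.continuous
    rw [e.symm_apply_apply] at h1
    have h2 : (e.symm b).1 ⤳ q := Topology.IsInducing.subtypeVal.specializes_iff.mpr h1
    have h3 : (e.symm b).1 ≤ q := (PrimeSpectrum.le_iff_specializes _ _).mpr h2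
    have h4 := hmin (e.symm b).1 h3 (e.symm b).2
    have h5 : e.symm b = ⟨q, rfl⟩ := Subtype.ext h4
    rw [Set.mem_singleton_iff, ← h5, e.apply_symm_apply]

/-- residue field finiteness gives algebraicity of the quotient domains -/
theorem isAlgebraic_quotient_of_finite {A : Type u} [CommRing A] [Algebra A B] (P : Ideal B)
    [P.IsPrime] (Q₁ : Ideal A) [Q₁.IsPrime] [P.LiesOver Q₁]
    (hfin : letI := Localization.AtPrime.algebraOfLiesOver Q₁ P
      Module.Finite Q₁.ResidueField P.ResidueField) :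
    Algebra.IsAlgebraic (A ⧸ Q₁) (B ⧸ P) := by
  letI := Localization.AtPrime.algebraOfLiesOver Q₁ P
  haveI : Module.Finite Q₁.ResidueField P.ResidueField := hfin
  let := ((algebraMap (B ⧸ P) P.ResidueField).comp (algebraMap (A ⧸ Q₁) (B ⧸ P))).toAlgebra
  have : IsScalarTower (A ⧸ Q₁) (B ⧸ P) P.ResidueField := .of_algebraMap_eq' rfl
  have : IsScalarTower (A ⧸ Q₁) Q₁.ResidueField P.ResidueField := by
    refine .of_algebraMap_eq fun x ↦ ?_
    obtain ⟨x, rfl⟩ := Ideal.Quotient.mk_surjective x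
    simp [RingHom.algebraMap_toAlgebra, ← IsScalarTower.algebraMap_apply]
  have : Algebra.IsAlgebraic Q₁.ResidueField P.ResidueField := Algebra.IsAlgebraic.of_finite _ _
  have h1 : Algebra.IsAlgebraic (A ⧸ Q₁) P.ResidueField := .trans _ Q₁.ResidueField _
  refine ⟨fun c => ?_⟩
  exact (isAlgebraic_algebraMap_iff (A := P.ResidueField)
    (Ideal.injective_algebraMap_quotient_residueField P)).mp (h1.isAlgebraic _)

theorem comap_aeval_eq_of_quasiFiniteAt {ι : Type u} [Finite ι] (P : Ideal B) [P.IsPrime]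
    (t : ι → B)
    (hqf : letI := (aeval t : MvPolynomial ι R →ₐ[R] B).toRingHom.toAlgebra
      Algebra.QuasiFiniteAt (MvPolynomial ι R) P)
    (htr : Cardinal.mk ι ≤ Algebra.trdeg (R ⧸ P.under R) (B ⧸ P)) :
    P.comap (aeval t : MvPolynomial ι R →ₐ[R] B) = Ideal.map C (P.under R) := by
  letI alg : Algebra (MvPolynomial ι R) B :=
    (aeval t : MvPolynomial ι R →ₐ[R] B).toRingHom.toAlgebra
  haveI : Algebra.QuasiFiniteAt (MvPolynomial ι R) P := hqf
  let Q₁ : Ideal (MvPolynomial ι R) := P.under (MvPolynomial ι R)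
  haveI : Q₁.IsPrime := inferInstanceAs (P.under (MvPolynomial ι R)).IsPrime
  haveI : P.LiesOver Q₁ := ⟨rfl⟩
  have hfin : letI := Localization.AtPrime.algebraOfLiesOver Q₁ P
      Module.Finite Q₁.ResidueField P.ResidueField := by
    letI := Localization.AtPrime.algebraOfLiesOver Q₁ P
    infer_instance
  haveI halg := isAlgebraic_quotient_of_finite P Q₁ hfin
  let x : ι → B ⧸ P := fun i => Ideal.Quotient.mk P (t i)
  have hA₁ : ∀ r : MvPolynomial ι R ⧸ Q₁, algebraMap _ (B ⧸ P) r ∈
      Algebra.adjoin (R ⧸ P.under R) (Set.range x) := by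
    intro r
    obtain ⟨F, rfl⟩ := Ideal.Quotient.mk_surjective r
    rw [Algebra.adjoin_range_eq_range_aeval, Ideal.Quotient.algebraMap_mk_of_liesOver]
    have h1 : algebraMap (MvPolynomial ι R) B F = aeval t F := rfl
    rw [h1, mk_aeval P t F]
    exact ⟨_, rfl⟩
  let f := RingHom.codRestrict (algebraMap (MvPolynomial ι R ⧸ Q₁) (B ⧸ P))
    (Algebra.adjoin (R ⧸ P.under R) (Set.range x)) hA₁
  have hf : Function.Injective f := by
    intro a b hab
    have := congrArg Subtype.val hab
    exact Ideal.algebraMap_quotient_injective this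
  haveI : Algebra.IsAlgebraic (Algebra.adjoin (R ⧸ P.under R) (Set.range x)) (B ⧸ P) :=
    Algebra.IsAlgebraic.ringHom_of_comp_eq f (RingHom.id (B ⧸ P)) hf Function.surjective_id
      (RingHom.ext fun r => rfl)
  haveI : FaithfulSMul (R ⧸ P.under R) (B ⧸ P) :=
    (faithfulSMul_iff_algebraMap_injective _ _).mpr (Ideal.algebraMap_quotient_injective)
  have hxb := Algebra.IsAlgebraic.isTranscendenceBasis_of_le_trdeg_of_finite (R ⧸ P.under R) x htr
  exact comap_aeval_eq P t hxb.1

end Groth.Agent.Helper14.ChevEq
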