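import Mathlib

/-!
# Normality of polynomial rings in any number of variables, and the integral closure of `A[σ]`
-/

set_option autoImplicit false

universe u

namespace Groth.Agent.Helper14.PolyNorm

open MvPolynomial

attribute [local instance] MvPolynomial.algebraMvPolynomial

/-- A polynomial ring (in any set of variables) over an integrally closed domain is integrally
closed. -/
theorem isIntegrallyClosed_mvPolynomial (σ : Type*) (R : Type*) [CommRing R] [IsDomain R]
    [IsIntegrallyClosed R] : IsIntegrallyClosed (MvPolynomial σ R) := by
  let K := FractionRing R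
  have : IsIntegrallyClosed (MvPolynomial σ K) := UniqueFactorizationMonoid.instIsIntegrallyClosed
  suffices IsIntegrallyClosedIn (MvPolynomial σ R) (MvPolynomial σ K) from
    .of_isIntegrallyClosed_of_isIntegrallyClosedIn _ (MvPolynomial σ K)
  refine isIntegrallyClosedIn_iff.mpr ⟨map_injective _ (IsFractionRing.injective _ _), ?_⟩
  intro p hp
  have hc := MvPolynomial.isIntegral_iff_isIntegral_coeff.mp hp
  have : p ∈ Set.range (MvPolynomial.map (algebraMap R K)) := by
    rw [mem_range_map_iff_coeffs_subset]
    intro c hc'
    obtain ⟨n, -, rfl⟩ := mem_coeffs_iff.mp hc'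
    exact IsIntegrallyClosed.isIntegral_iff.mp (hc n)
  exact this


section IntClosure

variable (A : Type u) [CommRing A] [IsDomain A] (σ : Type u)

local notation "K" => FractionRing A
local notation "A'" => integralClosure A (FractionRing A)
local notation "P" => MvPolynomial σ A
local notation "L" => FractionRing (MvPolynomial σ A)

/-- `Frac A → Frac A[σ]`. -/
@[instance_reducible]
noncomputable def algKL : Algebra K L := FractionRing.liftAlgebra A L

theorem towerKL :
    letI := algKL A σ
    IsScalarTower A K L := FractionRing.isScalarTower_liftAlgebra A L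

/-- The canonical map from the integral closure of `A` to that of `A[σ]`. -/
noncomputable def ι : A' →+* integralClosure P L :=
  letI := algKL A σ
  haveI := towerKL A σ
  ((algebraMap K L).comp (integralClosure A K).val.toRingHom).codRestrict
    (integralClosure P L)
    (fun x => by
      have hx : IsIntegral A (x : K) := x.2
      have h1 : IsIntegral A (algebraMap K L (x : K)) :=
        hx.map (IsScalarTower.toAlgHom A K L)
      exact h1.tower_top)

theorem ι_comp : (ι A σ).comp (algebraMap A A') =
    (algebraMap P (integralClosure P L)).comp (C (σ := σ)) := by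
  letI := algKL A σ
  haveI := towerKL A σ
  refine RingHom.ext fun a => Subtype.ext ?_
  show algebraMap K L (algebraMap A K a) = algebraMap P L (C a)
  rw [← IsScalarTower.algebraMap_apply A K L, ← MvPolynomial.algebraMap_eq,
    ← IsScalarTower.algebraMap_apply A P L]

/-- The integral closure of `A[σ]` is generated by the integral closure of `A` and the variables:
two ring maps out of it which agree on `A[σ]` and on the integral closure of `A` are equal. -/
theorem ringHom_ext_integralClosure {Ω : Type*} [CommRing Ω]
    (φ ψ : integralClosure P L →+* Ω)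
    (h₁ : φ.comp (algebraMap P (integralClosure P L)) = ψ.comp (algebraMap P (integralClosure P L)))
    (h₂ : φ.comp (ι A σ) = ψ.comp (ι A σ)) : φ = ψ := by
  letI := algKL A σ
  haveI := towerKL A σ
  haveI : IsIntegrallyClosed A' := integralClosure.isIntegrallyClosedOfFiniteExtension (R := A) K
  haveI : IsIntegrallyClosed (MvPolynomial σ A') := isIntegrallyClosed_mvPolynomial σ A'
  -- `K[σ]` as a localization of `A[σ]`, mapping injectively to `L`
  haveI : IsLocalization ((nonZeroDivisors A).map (C (σ := σ))) (MvPolynomial σ K) :=
    MvPolynomial.isLocalization (nonZeroDivisors A) K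
  have hinjP : Function.Injective (algebraMap P L) := IsFractionRing.injective P L
  have hunit : ∀ y : (nonZeroDivisors A).map (C (σ := σ)), IsUnit (algebraMap P L y) := by
    rintro ⟨_, a, ha, rfl⟩
    apply IsUnit.mk0
    intro h0
    have : (C a : P) = 0 := hinjP (by rw [h0, map_zero])
    rw [C_eq_zero] at this
    exact nonZeroDivisors.ne_zero ha this
  let ΨK : MvPolynomial σ K →+* L := IsLocalization.lift hunit
  have hΨK : Function.Injective ΨK := by
    rw [IsLocalization.lift_injective_iff]
    intro x y
    rw [hinjP.eq_iff, algebraMap_def, (map_injective _ (IsFractionRing.injective A K)).eq_iff]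
  have hΨK_alg : ∀ x : P, ΨK (MvPolynomial.map (algebraMap A K) x) = algebraMap P L x :=
    fun x => IsLocalization.lift_eq hunit x
  have hΨK_C : ΨK.comp (C (σ := σ)) = algebraMap K L := by
    apply IsLocalization.ringHom_ext (nonZeroDivisors A)
    refine RingHom.ext fun a => ?_
    show ΨK (C (algebraMap A K a)) = algebraMap K L (algebraMap A K a)
    rw [← map_C, hΨK_alg, ← IsScalarTower.algebraMap_apply A K L, ← MvPolynomial.algebraMap_eq,
      ← IsScalarTower.algebraMap_apply A P L]
  have hΨK_X : ∀ i, ΨK (X i) = algebraMap P L (X i) := by
    intro i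
    rw [← hΨK_alg, map_X]
  -- `A'[σ] → L`
  let ΨL : MvPolynomial σ A' →+* L := ΨK.comp (MvPolynomial.map (integralClosure A K).val.toRingHom)
  have hΨL : Function.Injective ΨL :=
    hΨK.comp (map_injective _ Subtype.val_injective)
  letI : Algebra (MvPolynomial σ A') L := ΨL.toAlgebra
  haveI : IsScalarTower P (MvPolynomial σ A') L := IsScalarTower.of_algebraMap_eq fun x => by
    show algebraMap P L x = ΨK (MvPolynomial.map _ (MvPolynomial.map (algebraMap A A') x))
    rw [MvPolynomial.map_map, ← hΨK_alg]
    rfl
  haveI : FaithfulSMul (MvPolynomial σ A') L := (faithfulSMul_iff_algebraMap_injective _ _).mpr hΨL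
  haveI : IsFractionRing (MvPolynomial σ A') L := by
    have h := IsFractionRing.of_field (MvPolynomial σ A') L (fun z => by
      obtain ⟨x, y, -, rfl⟩ := IsFractionRing.div_surjective (A := P) z
      exact ⟨algebraMap P _ x, algebraMap P _ y, by
        rw [← IsScalarTower.algebraMap_apply P (MvPolynomial σ A') L,
          ← IsScalarTower.algebraMap_apply P (MvPolynomial σ A') L]⟩)
    exact h
  -- the comparison map
  let Ψ : MvPolynomial σ A' →+* integralClosure P L :=
    eval₂Hom (ι A σ) (fun i => algebraMap P (integralClosure P L) (X i))
  have hΨval : ∀ y, ((Ψ y : integralClosure P L) : L) = ΨL y := by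
    intro y
    have : (integralClosure P L).val.toRingHom.comp Ψ = ΨL := by
      apply MvPolynomial.ringHom_ext
      · intro a
        show ((Ψ (C a) : integralClosure P L) : L) = ΨK (MvPolynomial.map _ (C a))
        rw [map_C]
        have := RingHom.congr_fun hΨK_C (a : K)
        simp only [RingHom.comp_apply] at this
        simp only [Ψ, eval₂Hom_C, AlgHom.toRingHom_eq_coe, RingHom.coe_coe, Subalgebra.coe_val]
        rw [this]
        rfl
      · intro i
        show ((Ψ (X i) : integralClosure P L) : L) = ΨK (MvPolynomial.map _ (X i))
        rw [map_X, hΨK_X]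
        simp only [Ψ, eval₂Hom_X']
        rfl
    exact RingHom.congr_fun this y
  have hsurj : Function.Surjective Ψ := by
    intro c
    have hc : IsIntegral P (c : L) := c.2
    have hc' : IsIntegral (MvPolynomial σ A') (c : L) := hc.tower_top
    obtain ⟨y, hy⟩ := IsIntegrallyClosed.isIntegral_iff.mp hc'
    refine ⟨y, Subtype.ext ?_⟩
    rw [hΨval]
    exact hy
  have hcomp : φ.comp Ψ = ψ.comp Ψ := by
    apply MvPolynomial.ringHom_ext
    · intro a
      simp only [RingHom.comp_apply, Ψ, eval₂Hom_C]
      exact RingHom.congr_fun h₂ a
    · intro i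
      simp only [RingHom.comp_apply, Ψ, eval₂Hom_X']
      exact RingHom.congr_fun h₁ (X i)
  refine RingHom.ext fun c => ?_
  obtain ⟨y, rfl⟩ := hsurj c
  exact RingHom.congr_fun hcomp y

end IntClosure

end Groth.Agent.Helper14.PolyNorm
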