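import Mathlib
import Groth.Prelude.Def_CAlg2
import Groth.Agent.Lib.Helper14.PolyNorm
import Groth.Agent.Lib.Helper1.NU3
import Groth.Agent.Lib.Helper1.UB4

/-!
# Geometric unibranchness of localizations of polynomial rings (EGA IV 14.4.1.1 / 6.15.?)
-/

set_option autoImplicit false

universe u

namespace Groth.Agent.Helper14.PolyGU

open MvPolynomial Groth.Agent.Helper1.NU Groth.Agent.Helper14.PolyNorm IsLocalRing

/-- Domain case: if `A_p` is geometrically unibranch, so is `A[σ]_Q` for every prime `Q` over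
`p`. -/
theorem isGeomUnibranch_dom (A : Type u) [CommRing A] [IsDomain A] (σ : Type u)
    (Q : Ideal (MvPolynomial σ A)) [Q.IsPrime]
    (D : Type u) [CommRing D] [IsDomain D] [IsLocalRing D] [Algebra A D]
    [IsLocalization.AtPrime D (Q.comap (C (σ := σ)))] (hD : CAlg2.IsGeomUnibranch D)
    (E : Type u) [CommRing E] [IsDomain E] [IsLocalRing E] [Algebra (MvPolynomial σ A) E]
    [IsLocalization.AtPrime E Q] : CAlg2.IsGeomUnibranch E := by
  rw [isGeomUnibranch_iff_of_isDomain]
  refine isLocalRing_and_PI_of_RI (D := E) (B := integralClosure E (FractionRing E)) ?_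
  intro Ω _ φ ψ hφψ hker
  letI := (toB (MvPolynomial σ A) Q E).toAlgebra
  haveI := isLocalization_toB (MvPolynomial σ A) Q E
  apply IsLocalization.ringHom_ext
    (Algebra.algebraMapSubmonoid (integralClosure (MvPolynomial σ A)
      (FractionRing (MvPolynomial σ A))) Q.primeCompl)
  show φ.comp (toB (MvPolynomial σ A) Q E) = ψ.comp (toB (MvPolynomial σ A) Q E)
  have h₁ : (φ.comp (toB (MvPolynomial σ A) Q E)).comp (algebraMap (MvPolynomial σ A) _) =
      (ψ.comp (toB (MvPolynomial σ A) Q E)).comp (algebraMap (MvPolynomial σ A) _) := by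
    rw [RingHom.comp_assoc, RingHom.comp_assoc, toB_comp, ← RingHom.comp_assoc,
      ← RingHom.comp_assoc, hφψ]
  refine ringHom_ext_integralClosure A σ _ _ h₁ ?_
  have hagree : ((φ.comp (toB (MvPolynomial σ A) Q E)).comp (ι A σ)).comp (algebraMap A _) =
      ((ψ.comp (toB (MvPolynomial σ A) Q E)).comp (ι A σ)).comp (algebraMap A _) := by
    rw [RingHom.comp_assoc, RingHom.comp_assoc _ (ι A σ), ι_comp, ← RingHom.comp_assoc,
      ← RingHom.comp_assoc, h₁]
  refine eq_of_isGeomUnibranch A (Q.comap (C (σ := σ))) D hD Ω _ _ hagree ?_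
  have key : (φ.comp (toB (MvPolynomial σ A) Q E)).comp (algebraMap (MvPolynomial σ A) _) =
      (φ.comp (algebraMap E _)).comp (algebraMap (MvPolynomial σ A) E) := by
    rw [RingHom.comp_assoc, toB_comp, ← RingHom.comp_assoc]
  rw [RingHom.comp_assoc, ι_comp, ← RingHom.comp_assoc, key, ← RingHom.comap_ker,
    ← RingHom.comap_ker, hker]
  have := IsLocalization.AtPrime.comap_maximalIdeal E Q
  rw [Ideal.under_def] at this
  rw [this]


/-- Localization commutes with passing to the reduction. -/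
theorem isLocalization_red {R Rb : Type*} [CommRing R] [CommRing Rb] [IsReduced Rb] (f : R →+* Rb)
    (hf : Function.Surjective f) (Pb : Ideal Rb) [Pb.IsPrime] (E : Type*) [CommRing E] [Algebra R E]
    [IsLocalization.AtPrime E (Pb.comap f)] [Algebra Rb (CAlg2.red E)]
    (hcomm : (algebraMap Rb (CAlg2.red E)).comp f =
      (Ideal.Quotient.mk (nilradical E)).comp (algebraMap R E)) :
    IsLocalization.AtPrime (CAlg2.red E) Pb := by
  set p := Pb.comap f with hp
  have hloc' : IsLocalization (p.primeCompl.map f) (CAlg2.red E) := by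
    refine IsLocalization.of_surjective p.primeCompl E f hf (Ideal.Quotient.mk (nilradical E))
      Ideal.Quotient.mk_surjective hcomm.symm ?_
    rw [Ideal.mk_ker]
    intro x hx
    obtain ⟨a, s, rfl⟩ := IsLocalization.exists_mk'_eq p.primeCompl x
    obtain ⟨n, hn⟩ := mem_nilradical.mp hx
    rw [← IsLocalization.mk'_pow, IsLocalization.mk'_eq_zero_iff] at hn
    obtain ⟨t, ht⟩ := hn
    rw [IsLocalization.mk'_mem_map_algebraMap_iff]
    refine ⟨t, t.2, ?_⟩
    rw [RingHom.mem_ker]
    have hn0 : n ≠ 0 := by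
      rintro rfl
      simp only [pow_zero, mul_one] at ht
      exact t.2 (by rw [ht]; exact zero_mem _)
    obtain ⟨m, rfl⟩ := Nat.exists_eq_succ_of_ne_zero hn0
    have h0 : ((t : R) * a) ^ (m + 1) = 0 := by
      rw [mul_pow, pow_succ (t : R), mul_assoc, ht, mul_zero]
    have h1 : (f ((t : R) * a)) ^ (m + 1) = 0 := by rw [← map_pow, h0, map_zero]
    exact pow_eq_zero_iff (Nat.succ_ne_zero m) |>.mp h1
  have hM : p.primeCompl.map f = Pb.primeCompl := by
    ext x
    constructor
    · rintro ⟨y, hy, rfl⟩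
      exact hy
    · intro hx
      obtain ⟨y, rfl⟩ := hf x
      exact ⟨y, hx, rfl⟩
  rw [hM] at hloc'
  exact hloc'

theorem isGeomUnibranch_red (D' : Type u) [CommRing D'] [IsLocalRing D']
    [IsLocalRing (CAlg2.red D')] (h : CAlg2.IsGeomUnibranch D') :
    CAlg2.IsGeomUnibranch (CAlg2.red D') := by
  obtain ⟨⟨hdom, hloc⟩, hPI⟩ := (Groth.Agent.Helper1.UB.isGeomUnibranch_iff D').mp h
  haveI := hdom
  rw [isGeomUnibranch_iff_of_isDomain]
  exact ⟨hloc, hPI⟩

theorem isGeomUnibranch_of_red (E' : Type u) [CommRing E'] [IsLocalRing E']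
    [IsDomain (CAlg2.red E')] [IsLocalRing (CAlg2.red E')]
    (h : CAlg2.IsGeomUnibranch (CAlg2.red E')) : CAlg2.IsGeomUnibranch E' := by
  rw [isGeomUnibranch_iff_of_isDomain] at h
  exact (Groth.Agent.Helper1.UB.isGeomUnibranch_iff E').mpr ⟨⟨inferInstance, h.1⟩, h.2⟩


theorem isLocalizationAtPrime_congr {R : Type*} [CommRing R] (D : Type*) [CommRing D] [Algebra R D]
    {P Q : Ideal R} [P.IsPrime] [Q.IsPrime] (h : P = Q) [IsLocalization.AtPrime D P] :
    IsLocalization.AtPrime D Q := by
  subst h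
  infer_instance

theorem nil_le_comap (R A : Type*) [CommRing R] [CommRing A] [Algebra R A] :
    nilradical R ≤ (nilradical A).comap (algebraMap R A) := by
  intro x hx
  rw [Ideal.mem_comap, mem_nilradical]
  exact (mem_nilradical.mp hx).map _

/-- **EGA IV 14.4.1.1**, ring form: let `R` be a ring with irreducible spectrum, `Q` a prime of
`R[σ]` lying over `p`; if `R_p` (model `D'`) is geometrically unibranch then so is `R[σ]_Q`
(model `E'`). -/
theorem isGeomUnibranch_poly (R : Type u) [CommRing R] (σ : Type u) (hR : (nilradical R).IsPrime)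
    (Q : Ideal (MvPolynomial σ R)) [Q.IsPrime]
    (D' : Type u) [CommRing D'] [IsLocalRing D'] [Algebra R D']
    [IsLocalization.AtPrime D' (Q.comap (C (σ := σ)))] (hD' : CAlg2.IsGeomUnibranch D')
    (E' : Type u) [CommRing E'] [IsLocalRing E'] [Algebra (MvPolynomial σ R) E']
    [IsLocalization.AtPrime E' Q] : CAlg2.IsGeomUnibranch E' := by
  haveI : IsDomain (R ⧸ nilradical R) := Ideal.Quotient.isDomain _
  let f : MvPolynomial σ R →+* MvPolynomial σ (R ⧸ nilradical R) :=
    MvPolynomial.map (Ideal.Quotient.mk (nilradical R))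
  have hf : Function.Surjective f := MvPolynomial.map_surjective _ Ideal.Quotient.mk_surjective
  have hkerQ : RingHom.ker f ≤ Q := by
    rw [MvPolynomial.ker_map, Ideal.mk_ker, Ideal.map_le_iff_le_comap]
    exact nilradical_le_prime _
  haveI hQ₀ : (Q.map f).IsPrime := Ideal.map_isPrime_of_surjective hf hkerQ
  have hcomapQ : (Q.map f).comap f = Q := by
    rw [Ideal.comap_map_of_surjective f hf, ← RingHom.ker_eq_comap_bot]
    exact sup_eq_left.mpr hkerQ
  -- the reduction of `E'` as an algebra over `R₀[σ]`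
  let g₀ : R ⧸ nilradical R →+* CAlg2.red E' :=
    Ideal.Quotient.lift (nilradical R)
      ((Ideal.Quotient.mk (nilradical E')).comp ((algebraMap (MvPolynomial σ R) E').comp C))
      (fun a ha => by
        rw [RingHom.comp_apply, Ideal.Quotient.eq_zero_iff_mem, mem_nilradical]
        exact (mem_nilradical.mp ha).map _)
  letI : Algebra (MvPolynomial σ (R ⧸ nilradical R)) (CAlg2.red E') :=
    (eval₂Hom g₀ (fun i => Ideal.Quotient.mk (nilradical E')
      (algebraMap (MvPolynomial σ R) E' (X i)))).toAlgebra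
  have hcommE : (algebraMap (MvPolynomial σ (R ⧸ nilradical R)) (CAlg2.red E')).comp f =
      (Ideal.Quotient.mk (nilradical E')).comp (algebraMap (MvPolynomial σ R) E') := by
    apply MvPolynomial.ringHom_ext
    · intro r
      show eval₂Hom g₀ _ (MvPolynomial.map _ (C r)) = _
      rw [map_C, eval₂Hom_C]
      rfl
    · intro i
      show eval₂Hom g₀ _ (MvPolynomial.map _ (X i)) = _
      rw [map_X, eval₂Hom_X']
      rfl
  haveI : IsLocalization.AtPrime E' ((Q.map f).comap f) :=
    isLocalizationAtPrime_congr E' hcomapQ.symm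
  haveI : IsLocalization.AtPrime (CAlg2.red E') (Q.map f) :=
    isLocalization_red f hf (Q.map f) E' hcommE
  -- the reduction of `D'` as an algebra over `R₀`
  letI : Algebra (R ⧸ nilradical R) (CAlg2.red D') :=
    Ideal.Quotient.algebraQuotientOfLEComap (nil_le_comap R D')
  have hcomapp : ((Q.map f).comap (C (σ := σ))).comap (Ideal.Quotient.mk (nilradical R)) =
      Q.comap (C (σ := σ)) := by
    rw [Ideal.comap_comap]
    have : (C (σ := σ)).comp (Ideal.Quotient.mk (nilradical R)) = f.comp (C (σ := σ)) := by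
      ext r
      simp [f]
    rw [this, ← Ideal.comap_comap, hcomapQ]
  haveI : IsLocalization.AtPrime D'
      (((Q.map f).comap (C (σ := σ))).comap (Ideal.Quotient.mk (nilradical R))) :=
    isLocalizationAtPrime_congr D' hcomapp.symm
  haveI : IsLocalization.AtPrime (CAlg2.red D') ((Q.map f).comap (C (σ := σ))) :=
    isLocalization_red (Ideal.Quotient.mk (nilradical R)) Ideal.Quotient.mk_surjective
      ((Q.map f).comap (C (σ := σ))) D' rfl
  haveI : IsLocalRing (CAlg2.red D') :=
    IsLocalization.AtPrime.isLocalRing (CAlg2.red D') ((Q.map f).comap (C (σ := σ)))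
  haveI : IsLocalRing (CAlg2.red E') :=
    IsLocalization.AtPrime.isLocalRing (CAlg2.red E') (Q.map f)
  haveI : IsDomain (CAlg2.red D') :=
    IsLocalization.isDomain_of_atPrime (CAlg2.red D') ((Q.map f).comap (C (σ := σ)))
  haveI : IsDomain (CAlg2.red E') :=
    IsLocalization.isDomain_of_atPrime (CAlg2.red E') (Q.map f)
  have hD₀ : CAlg2.IsGeomUnibranch (CAlg2.red D') := isGeomUnibranch_red D' hD'
  have hE₀ : CAlg2.IsGeomUnibranch (CAlg2.red E') :=
    isGeomUnibranch_dom (R ⧸ nilradical R) σ (Q.map f) (CAlg2.red D') hD₀ (CAlg2.red E')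
  exact isGeomUnibranch_of_red E' hE₀


/-- **EGA IV 14.4.1.1**, ring form without irreducibility hypothesis: `Q` a prime of `R[σ]` lying
over `p`; if `R_p` (model `D'`) is geometrically unibranch then so is `R[σ]_Q` (model `E'`). -/
theorem isGeomUnibranch_poly' (R : Type u) [CommRing R] (σ : Type u)
    (Q : Ideal (MvPolynomial σ R)) [Q.IsPrime]
    (D' : Type u) [CommRing D'] [IsLocalRing D'] [Algebra R D']
    [IsLocalization.AtPrime D' (Q.comap (C (σ := σ)))] (hD' : CAlg2.IsGeomUnibranch D')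
    (E' : Type u) [CommRing E'] [IsLocalRing E'] [Algebra (MvPolynomial σ R) E']
    [IsLocalization.AtPrime E' Q] : CAlg2.IsGeomUnibranch E' := by
  haveI hdomD : IsDomain (CAlg2.red D') := hD'.1.1
  haveI hnilD : (nilradical D').IsPrime := (Ideal.Quotient.isDomain_iff_prime _).mp hdomD
  set 𝔞 : Ideal R := (nilradical D').comap (algebraMap R D') with h𝔞
  haveI : 𝔞.IsPrime := Ideal.comap_isPrime _ _
  haveI : IsDomain (R ⧸ 𝔞) := Ideal.Quotient.isDomain _
  have h𝔞p : 𝔞 ≤ Q.comap (C (σ := σ)) := by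
    intro a ha
    have h1 : algebraMap R D' a ∈ maximalIdeal D' :=
      IsLocalRing.le_maximalIdeal hnilD.ne_top ha
    exact (IsLocalization.AtPrime.to_map_mem_maximal_iff D' (Q.comap (C (σ := σ))) a).mp h1
  let f : MvPolynomial σ R →+* MvPolynomial σ (R ⧸ 𝔞) := MvPolynomial.map (Ideal.Quotient.mk 𝔞)
  have hf : Function.Surjective f := MvPolynomial.map_surjective _ Ideal.Quotient.mk_surjective
  have hkerQ : RingHom.ker f ≤ Q := by
    rw [MvPolynomial.ker_map, Ideal.mk_ker, Ideal.map_le_iff_le_comap]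
    exact h𝔞p
  haveI hQ₀ : (Q.map f).IsPrime := Ideal.map_isPrime_of_surjective hf hkerQ
  have hcomapQ : (Q.map f).comap f = Q := by
    rw [Ideal.comap_map_of_surjective f hf, ← RingHom.ker_eq_comap_bot]
    exact sup_eq_left.mpr hkerQ
  -- the reduction of `E'` as an algebra over `R₀[σ]`
  have hnilE : ∀ a ∈ 𝔞, algebraMap (MvPolynomial σ R) E' (C a) ∈ nilradical E' := by
    intro a ha
    obtain ⟨n, hn⟩ := mem_nilradical.mp ha
    rw [← map_pow, IsLocalization.map_eq_zero_iff (Q.comap (C (σ := σ))).primeCompl] at hn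
    obtain ⟨t, ht⟩ := hn
    have htQ : (C (t : R) : MvPolynomial σ R) ∈ Q.primeCompl := t.2
    have hunit : IsUnit (algebraMap (MvPolynomial σ R) E' (C (t : R))) :=
      IsLocalization.map_units E' ⟨_, htQ⟩
    rw [mem_nilradical]
    refine ⟨n, ?_⟩
    have h0 : algebraMap (MvPolynomial σ R) E' (C (t : R)) *
        (algebraMap (MvPolynomial σ R) E' (C a)) ^ n = 0 := by
      rw [← map_pow, ← map_mul, ← map_pow, ← map_mul, ht, map_zero, map_zero]
    exact (hunit.mul_right_eq_zero).mp h0
  let g₀ : R ⧸ 𝔞 →+* CAlg2.red E' :=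
    Ideal.Quotient.lift 𝔞
      ((Ideal.Quotient.mk (nilradical E')).comp ((algebraMap (MvPolynomial σ R) E').comp C))
      (fun a ha => by
        rw [RingHom.comp_apply, Ideal.Quotient.eq_zero_iff_mem]
        exact hnilE a ha)
  letI : Algebra (MvPolynomial σ (R ⧸ 𝔞)) (CAlg2.red E') :=
    (eval₂Hom g₀ (fun i => Ideal.Quotient.mk (nilradical E')
      (algebraMap (MvPolynomial σ R) E' (X i)))).toAlgebra
  have hcommE : (algebraMap (MvPolynomial σ (R ⧸ 𝔞)) (CAlg2.red E')).comp f =
      (Ideal.Quotient.mk (nilradical E')).comp (algebraMap (MvPolynomial σ R) E') := by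
    apply MvPolynomial.ringHom_ext
    · intro r
      show eval₂Hom g₀ _ (MvPolynomial.map _ (C r)) = _
      rw [map_C, eval₂Hom_C]
      rfl
    · intro i
      show eval₂Hom g₀ _ (MvPolynomial.map _ (X i)) = _
      rw [map_X, eval₂Hom_X']
      rfl
  haveI : IsLocalization.AtPrime E' ((Q.map f).comap f) :=
    isLocalizationAtPrime_congr E' hcomapQ.symm
  haveI : IsLocalization.AtPrime (CAlg2.red E') (Q.map f) :=
    isLocalization_red f hf (Q.map f) E' hcommE
  -- the reduction of `D'` as an algebra over `R₀`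
  letI : Algebra (R ⧸ 𝔞) (CAlg2.red D') :=
    Ideal.Quotient.algebraQuotientOfLEComap (le_refl 𝔞)
  have hcomapp : ((Q.map f).comap (C (σ := σ))).comap (Ideal.Quotient.mk 𝔞) =
      Q.comap (C (σ := σ)) := by
    rw [Ideal.comap_comap]
    have : (C (σ := σ)).comp (Ideal.Quotient.mk 𝔞) = f.comp (C (σ := σ)) := by
      ext r
      simp [f]
    rw [this, ← Ideal.comap_comap, hcomapQ]
  haveI : IsLocalization.AtPrime D'
      (((Q.map f).comap (C (σ := σ))).comap (Ideal.Quotient.mk 𝔞)) :=
    isLocalizationAtPrime_congr D' hcomapp.symm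
  haveI : IsLocalization.AtPrime (CAlg2.red D') ((Q.map f).comap (C (σ := σ))) :=
    isLocalization_red (Ideal.Quotient.mk 𝔞) Ideal.Quotient.mk_surjective
      ((Q.map f).comap (C (σ := σ))) D' rfl
  haveI : IsLocalRing (CAlg2.red D') :=
    IsLocalization.AtPrime.isLocalRing (CAlg2.red D') ((Q.map f).comap (C (σ := σ)))
  haveI : IsLocalRing (CAlg2.red E') :=
    IsLocalization.AtPrime.isLocalRing (CAlg2.red E') (Q.map f)
  haveI : IsDomain (CAlg2.red E') :=
    IsLocalization.isDomain_of_atPrime (CAlg2.red E') (Q.map f)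
  have hD₀ : CAlg2.IsGeomUnibranch (CAlg2.red D') := isGeomUnibranch_red D' hD'
  have hE₀ : CAlg2.IsGeomUnibranch (CAlg2.red E') :=
    isGeomUnibranch_dom (R ⧸ 𝔞) σ (Q.map f) (CAlg2.red D') hD₀ (CAlg2.red E')
  exact isGeomUnibranch_of_red E' hE₀

end Groth.Agent.Helper14.PolyGU
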