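import Mathlib
import Groth.Prelude.Def_EGA43
import Groth.Prelude.Def_CAlg2
import Groth.Agent.Lib.Helper14.UnibrOpen2
import Groth.Agent.Lib.Helper14.ResFieldBridge

/-!
# Openness at a quasi-finite point over a unibranch point (scheme level), EGA IV 14.4.1.2
-/

set_option autoImplicit false

universe u

open PrimeSpectrum EGA43 AlgebraicGeometry CategoryTheory

namespace Groth.Agent.Helper14.UnibrOpen

open Groth.Agent.Helper4.UOpen

theorem isLocalizationAtPrime_congr {R : Type*} [CommRing R] (D : Type*) [CommRing D] [Algebra R D]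
    {P Q : Ideal R} [P.IsPrime] [Q.IsPrime] (h : P = Q) [IsLocalization.AtPrime D P] :
    IsLocalization.AtPrime D Q := by
  subst h
  infer_instance

/-- Ring form with an auxiliary prime `P ⊆ q` lying over the nilradical of `R`. -/
theorem isOpenAt_comap_of_quasiFiniteAt' {R S : Type u} [CommRing R] [CommRing S] [Algebra R S]
    [Algebra.FiniteType R S] (q : PrimeSpectrum S) [Algebra.QuasiFiniteAt R q.asIdeal]
    (P : Ideal S) [P.IsPrime] (hPq : P ≤ q.asIdeal) (hP' : P.comap (algebraMap R S) ≤ nilradical R)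
    (D : Type u) [CommRing D] [IsLocalRing D] [Algebra R D]
    [IsLocalization.AtPrime D (q.asIdeal.comap (algebraMap R S))]
    (hD : CAlg2.IsUnibranch D) : IsOpenAt (comap (algebraMap R S)) q := by
  have hP : P.comap (algebraMap R S) = nilradical R :=
    le_antisymm hP' (nilradical_le_prime _)
  have hR : (nilradical R).IsPrime := by
    rw [← hP]
    infer_instance
  haveI : IsDomain (S ⧸ P) := Ideal.Quotient.isDomain _
  have hS : (nilradical (S ⧸ P)).IsPrime := by
    rw [nilradical_eq_bot_iff.mpr inferInstance]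
    exact Ideal.isPrime_bot
  have hker : RingHom.ker (algebraMap R (S ⧸ P)) ≤ nilradical R := by
    intro x hx
    rw [← hP, Ideal.mem_comap, ← Ideal.Quotient.eq_zero_iff_mem]
    exact hx
  haveI : Algebra.FiniteType R (S ⧸ P) :=
    Algebra.FiniteType.of_surjective (Ideal.Quotient.mkₐ R P) Ideal.Quotient.mk_surjective
  obtain ⟨qb, rfl⟩ : q ∈ Set.range (comap (Ideal.Quotient.mk P)) := by
    rw [range_comap_of_surjective _ _ Ideal.Quotient.mk_surjective, Ideal.mk_ker]
    exact hPq
  haveI : Algebra.QuasiFiniteAt R qb.asIdeal :=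
    Algebra.QuasiFiniteAt.of_surjectiveOnStalks
      (comap (Ideal.Quotient.mk P) qb).asIdeal (Ideal.Quotient.mkₐ R P)
      (RingHom.surjectiveOnStalks_of_surjective Ideal.Quotient.mk_surjective) qb.asIdeal rfl
  have hp : (comap (Ideal.Quotient.mk P) qb).asIdeal.comap (algebraMap R S) =
      qb.asIdeal.comap (algebraMap R (S ⧸ P)) := by
    change Ideal.comap _ (Ideal.comap _ _) = _
    rw [Ideal.comap_comap]
    rfl
  haveI : IsLocalization.AtPrime D (qb.asIdeal.comap (algebraMap R (S ⧸ P))) :=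
    isLocalizationAtPrime_congr D hp
  have h := isOpenAt_comap_of_quasiFiniteAt hR hS hker qb D hD
  refine isOpenAt_of_square (comap (algebraMap R S)) (comap (algebraMap R (S ⧸ P)))
    (comap (Ideal.Quotient.mk P)) id (continuous_comap _) IsOpenMap.id ?_ qb h
  intro w
  rw [← comap_comp_apply]
  rfl


/-- **EGA IV 14.4.1.2** (general form): let `f : X ⟶ Y` be locally of finite type, `x` a point
isolated in its fibre such that `O_{Y, f x}` is unibranch, and `ξ` a generization of `x` such that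
the closure of `f ξ` is a neighbourhood of `f x`.  Then `f` is open at `x`. -/
theorem isOpenAt_of_isolated_of_unibranch {X Y : Scheme.{u}} (f : X ⟶ Y) [LocallyOfFiniteType f]
    (x ξ : X) (hξ : ξ ⤳ x) (hnb : closure {f.base ξ} ∈ nhds (f.base x))
    (hx : nhdsWithin x (f.base ⁻¹' {f.base x}) = pure x)
    (hy : CAlg2.IsUnibranch (Y.presheaf.stalk (f.base x))) : IsOpenAt f.base x := by
  obtain ⟨_, ⟨V, hV, rfl⟩, hxV, hVsub⟩ :=
    Y.isBasis_affineOpens.exists_subset_of_mem_open (mem_interior_iff_mem_nhds.mpr hnb)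
      isOpen_interior
  obtain ⟨_, ⟨W, hW, rfl⟩, hxW, hWV⟩ :=
    X.isBasis_affineOpens.exists_subset_of_mem_open (show x ∈ ((f ⁻¹ᵁ V : X.Opens) : Set X) from hxV)
      (f ⁻¹ᵁ V).isOpen
  have e : W ≤ f ⁻¹ᵁ V := hWV
  have hξW : ξ ∈ W := hξ.mem_open W.isOpen hxW
  let φ := f.appLE V W e
  letI : Algebra Γ(Y, V) Γ(X, W) := φ.hom.toAlgebra
  have halg : algebraMap Γ(Y, V) Γ(X, W) = φ.hom := rfl
  haveI : Algebra.FiniteType Γ(Y, V) Γ(X, W) := f.finiteType_appLE hV hW e
  have hsq : Spec.map φ ≫ hV.fromSpec = hW.fromSpec ≫ f := hV.SpecMap_appLE_fromSpec f hW e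
  have hcomm : ∀ w, f.base (hW.fromSpec.base w) = hV.fromSpec.base ((Spec.map φ).base w) := by
    intro w
    rw [← Scheme.Hom.comp_apply, ← Scheme.Hom.comp_apply, hsq]
  let q := hW.primeIdealOf ⟨x, hxW⟩
  have hq : hW.fromSpec.base q = x := hW.fromSpec_primeIdealOf ⟨x, hxW⟩
  let Pξ := hW.primeIdealOf ⟨ξ, hξW⟩
  have hPξ : hW.fromSpec.base Pξ = ξ := hW.fromSpec_primeIdealOf ⟨ξ, hξW⟩
  have hPq : Pξ.asIdeal ≤ q.asIdeal := by
    have : Pξ ≤ q := by
      rw [← ResFieldBridge.specializes_fromSpec_iff hW]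
      change hW.fromSpec.base Pξ ⤳ hW.fromSpec.base q
      rw [hPξ, hq]
      exact hξ
    exact this
  -- the prime of `f ξ` is the nilradical
  have hηV : f.base ξ ∈ V := e hξW
  have hcomapξ : Pξ.asIdeal.comap (algebraMap Γ(Y, V) Γ(X, W)) =
      (hV.primeIdealOf ⟨f.base ξ, hηV⟩).asIdeal := by
    have := IsAffineOpen.comap_primeIdealOf_appLE (f := f) V hV W hW e hξW
    exact congrArg PrimeSpectrum.asIdeal this
  have hnil : (hV.primeIdealOf ⟨f.base ξ, hηV⟩).asIdeal = nilradical Γ(Y, V) := by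
    apply le_antisymm
    · rw [nilradical_eq_sInf]
      refine le_sInf fun Q hQ => ?_
      have hQV : hV.fromSpec.base ⟨Q, hQ⟩ ∈ (V : Set Y) := by
        have := hV.range_fromSpec
        rw [← this]
        exact ⟨_, rfl⟩
      have h1 : f.base ξ ⤳ hV.fromSpec.base ⟨Q, hQ⟩ := by
        rw [specializes_iff_mem_closure]
        exact interior_subset (hVsub hQV)
      have h2 : hV.primeIdealOf ⟨f.base ξ, hηV⟩ ≤ ⟨Q, hQ⟩ := by
        rw [← ResFieldBridge.specializes_fromSpec_iff hV]
        change hV.fromSpec.base _ ⤳ _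
        rw [hV.fromSpec_primeIdealOf ⟨f.base ξ, hηV⟩]
        exact h1
      exact h2
    · exact nilradical_le_prime _
  have hP : Pξ.asIdeal.comap (algebraMap Γ(Y, V) Γ(X, W)) = nilradical Γ(Y, V) := by
    rw [hcomapξ, hnil]
  -- quasi-finiteness at `q`
  haveI : Algebra.QuasiFiniteAt Γ(Y, V) q.asIdeal := by
    apply Algebra.QuasiFiniteAt.of_isOpen_singleton_fiber q
    have h1 : ({x} : Set X) ∈ nhdsWithin x (f.base ⁻¹' {f.base x}) := by
      rw [hx]
      exact Filter.mem_pure.mpr rfl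
    obtain ⟨O, hO, hOsub⟩ := mem_nhdsWithin_iff_exists_mem_nhds_inter.mp h1
    obtain ⟨O', hO'O, hO'o, hxO'⟩ := mem_nhds_iff.mp hO
    have hopen : IsOpen (hW.fromSpec.base ⁻¹' O') := hO'o.preimage hW.fromSpec.continuous
    have key : ({⟨q, rfl⟩} : Set (comap (algebraMap Γ(Y, V) Γ(X, W)) ⁻¹'
        {comap (algebraMap Γ(Y, V) Γ(X, W)) q})) =
        Subtype.val ⁻¹' (hW.fromSpec.base ⁻¹' O') := ?_
    · rw [key]
      exact hopen.preimage continuous_subtype_val
    ext ⟨q', hq'⟩
    simp only [Set.mem_singleton_iff, Subtype.mk.injEq]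
    constructor
    · rintro rfl
      change hW.fromSpec.base q ∈ O'
      rw [hq]
      exact hxO'
    · intro (hq'O : hW.fromSpec.base q' ∈ O')
      apply hW.fromSpec.isOpenEmbedding.injective
      rw [hq]
      have h2 : hW.fromSpec.base q' ∈ O ∩ f.base ⁻¹' {f.base x} := by
        refine ⟨hO'O hq'O, ?_⟩
        rw [Set.mem_preimage, Set.mem_singleton_iff, hcomm, ← hq, hcomm]
        congr 1
      exact hOsub h2
  -- the stalk as a localization
  letI := Y.presheaf.algebra_section_stalk ⟨f.base x, hxV⟩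
  haveI := hV.isLocalization_stalk ⟨f.base x, hxV⟩
  have hcomapx : (hV.primeIdealOf ⟨f.base x, hxV⟩).asIdeal =
      q.asIdeal.comap (algebraMap Γ(Y, V) Γ(X, W)) := by
    have := IsAffineOpen.comap_primeIdealOf_appLE (f := f) V hV W hW e hxW
    exact (congrArg PrimeSpectrum.asIdeal this).symm
  haveI : IsLocalization.AtPrime (Y.presheaf.stalk (f.base x))
      (q.asIdeal.comap (algebraMap Γ(Y, V) Γ(X, W))) :=
    isLocalizationAtPrime_congr _ hcomapx
  have h2 : IsOpenAt (Spec.map φ).base q :=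
    isOpenAt_comap_of_quasiFiniteAt' q Pξ.asIdeal hPq hP.le (Y.presheaf.stalk (f.base x)) hy
  rw [← hq]
  exact isOpenAt_of_square f.base (Spec.map φ).base hW.fromSpec.base hV.fromSpec.base
    hW.fromSpec.continuous hV.fromSpec.isOpenEmbedding.isOpenMap hcomm q h2

end Groth.Agent.Helper14.UnibrOpen
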