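import Mathlib
import Groth.Prelude.Def_EGA43
import Groth.Prelude.Def_CAlg2
import Groth.Agent.Lib.Helper14.UnibrOpen3
import Groth.Agent.Lib.Helper14.PolyGU

/-!
# Universal openness at a quasi-finite point over a geometrically unibranch point
(EGA IV 14.4.1.2, geometric version): ring level
-/

set_option autoImplicit false

universe u

open PrimeSpectrum EGA43 TensorProduct MvPolynomial

namespace Groth.Agent.Helper14.ChevQF

open Groth.Agent.Helper14.UnibrOpen Groth.Agent.Helper14.PolyGU

/-- Ring form: after base change to a polynomial ring, `Spec (R[σ] ⊗ B) → Spec R[σ]` is open at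
every prime lying over a quasi-finite prime `q` of `B` whose image in `Spec R` is a geometrically
unibranch point, provided some prime `P ⊆ q` lies over the generic point of `Spec R`. -/
theorem isOpenAt_comap_baseChange_poly {R B : Type u} [CommRing R] [CommRing B] [Algebra R B]
    [Algebra.FiniteType R B] (q : Ideal B) [q.IsPrime] [Algebra.QuasiFiniteAt R q]
    (P : Ideal B) [P.IsPrime] (hPq : P ≤ q) (hP : P.comap (algebraMap R B) ≤ nilradical R)
    (D' : Type u) [CommRing D'] [IsLocalRing D'] [Algebra R D']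
    [IsLocalization.AtPrime D' (q.comap (algebraMap R B))] (hD' : CAlg2.IsGeomUnibranch D')
    (σ : Type u) (Z : PrimeSpectrum (MvPolynomial σ R ⊗[R] B))
    (hZ : Z.asIdeal.comap Algebra.TensorProduct.includeRight.toRingHom = q) :
    IsOpenAt (comap (algebraMap (MvPolynomial σ R) (MvPolynomial σ R ⊗[R] B))) Z := by
  haveI : Algebra.QuasiFiniteAt (MvPolynomial σ R) Z.asIdeal :=
    Algebra.QuasiFiniteAt.baseChange q Z.asIdeal hZ.symm
  -- the prime `P'`
  let Φ₁ : MvPolynomial σ R ⊗[R] B →ₐ[R] MvPolynomial σ R ⊗[R] (B ⧸ P) :=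
    Algebra.TensorProduct.map (AlgHom.id R _) (Ideal.Quotient.mkₐ R P)
  let e : MvPolynomial σ R ⊗[R] (B ⧸ P) ≃+* MvPolynomial σ (B ⧸ P) :=
    ((Algebra.TensorProduct.comm R _ _).toRingEquiv).trans
      (algebraTensorAlgEquiv R (B ⧸ P)).toRingEquiv
  haveI : IsDomain (B ⧸ P) := Ideal.Quotient.isDomain _
  haveI : IsDomain (MvPolynomial σ R ⊗[R] (B ⧸ P)) := e.toMulEquiv.isDomain _
  let P' : Ideal (MvPolynomial σ R ⊗[R] B) := RingHom.ker Φ₁.toRingHom
  haveI : P'.IsPrime := RingHom.ker_isPrime _
  have hP'eq : P' = P.map (Algebra.TensorProduct.includeRight :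
      B →ₐ[R] MvPolynomial σ R ⊗[R] B) := by
    have := Algebra.TensorProduct.lTensor_ker (A := MvPolynomial σ R) (Ideal.Quotient.mkₐ R P)
      (Ideal.Quotient.mkₐ_surjective R P)
    have hk : RingHom.ker (Ideal.Quotient.mkₐ R P) = P := Ideal.Quotient.mkₐ_ker R P
    rw [hk] at this
    exact this
  have hP'Z : P' ≤ Z.asIdeal := by
    rw [hP'eq, Ideal.map_le_iff_le_comap]
    intro b hb
    have : b ∈ Z.asIdeal.comap Algebra.TensorProduct.includeRight.toRingHom := by
      rw [hZ]
      exact hPq hb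
    exact this
  have hP'R : P'.comap (algebraMap (MvPolynomial σ R) (MvPolynomial σ R ⊗[R] B)) ≤
      nilradical (MvPolynomial σ R) := by
    intro f hf
    have hf' : Φ₁ (f ⊗ₜ[R] (1 : B)) = 0 := hf
    have h1 : MvPolynomial.map (algebraMap R (B ⧸ P)) f = 0 := by
      have := congrArg e hf'
      simpa [Φ₁, e] using this
    have h2 : f ∈ Ideal.map (C (σ := σ)) (RingHom.ker (algebraMap R (B ⧸ P))) := by
      rw [← MvPolynomial.ker_map]
      exact h1
    have h3 : RingHom.ker (algebraMap R (B ⧸ P)) ≤ nilradical R := by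
      intro r hr
      apply hP
      rw [Ideal.mem_comap, ← Ideal.Quotient.eq_zero_iff_mem]
      exact hr
    have h4 : Ideal.map (C (σ := σ)) (nilradical R) ≤ nilradical (MvPolynomial σ R) := by
      rw [Ideal.map_le_iff_le_comap]
      intro r hr
      rw [Ideal.mem_comap, mem_nilradical]
      exact (mem_nilradical.mp hr).map _
    exact h4 (Ideal.map_mono h3 h2)
  -- the local ring of `R[σ]`
  have hQC : (Z.asIdeal.comap (algebraMap (MvPolynomial σ R) (MvPolynomial σ R ⊗[R] B))).comap
      (C (σ := σ)) = q.comap (algebraMap R B) := by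
    rw [← hZ, Ideal.comap_comap, Ideal.comap_comap]
    congr 1
    ext r
    simp [Algebra.TensorProduct.algebraMap_apply, MvPolynomial.algebraMap_eq]
  haveI : IsLocalization.AtPrime D'
      ((Z.asIdeal.comap (algebraMap (MvPolynomial σ R) (MvPolynomial σ R ⊗[R] B))).comap
        (C (σ := σ))) :=
    PolyGU.isLocalizationAtPrime_congr D' hQC.symm
  have hE' := isGeomUnibranch_poly' R σ
    (Z.asIdeal.comap (algebraMap (MvPolynomial σ R) (MvPolynomial σ R ⊗[R] B))) D' hD'
    (Localization.AtPrime
      (Z.asIdeal.comap (algebraMap (MvPolynomial σ R) (MvPolynomial σ R ⊗[R] B))))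
  exact isOpenAt_comap_of_quasiFiniteAt' Z P' hP'Z hP'R _ hE'.1

end Groth.Agent.Helper14.ChevQF
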