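import Mathlib
import Groth.Prelude.Def_EGA43
import Groth.Prelude.Def_CAlg2
import Groth.Agent.Lib.Helper14.ChevQF
import Groth.Agent.Lib.Helper4.UOpen4

/-!
# Universal openness at a point from one affine chart and polynomial base changes
-/

set_option autoImplicit false

universe u

open TensorProduct CategoryTheory CategoryTheory.Limits AlgebraicGeometry EGA43

namespace Groth.Agent.Helper14.ChevQF

open Groth.Agent.Helper4.UOpen Groth.Agent.Helper4.UCAff

variable {X Y : Scheme.{u}} (f : X ⟶ Y)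

set_option maxHeartbeats 1600000 in
/-- Variant of EGA IV 14.3.3 (after helper4's `isUnivOpenAt_of_polynomial`): universal openness at
`x` can be tested on one pair of affine charts `W → V` around `x`, for the base changes to all
polynomial rings in finitely many variables over `Γ(Y, V)`. -/
theorem isUnivOpenAt_of_chart (x : X) (V : Y.Opens) (hV : IsAffineOpen V) (W : X.Opens)
    (hW : IsAffineOpen W) (e : W ≤ f ⁻¹ᵁ V) (hxW : x ∈ W)
    (H : letI : Algebra Γ(Y, V) Γ(X, W) := (f.appLE V W e).hom.toAlgebra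
      ∀ (σ : Type u) [Finite σ] (z : ↥(pullback (f₀ Γ(Y, V) Γ(X, W)) (gσ Γ(Y, V) σ))),
        hW.fromSpec.base ((pullback.fst (f₀ Γ(Y, V) Γ(X, W)) (gσ Γ(Y, V) σ)).base z) = x →
        IsOpenAt (pullback.snd (f₀ Γ(Y, V) Γ(X, W)) (gσ Γ(Y, V) σ)).base z) :
    IsUnivOpenAt f x := by
  intro Y' g x' hx'
  have hxV : f.base x ∈ V := e hxW
  have hcond : f.base x = g.base ((pullback.snd f g).base x') := by
    rw [← hx', ← Scheme.Hom.comp_apply, ← Scheme.Hom.comp_apply, pullback.condition]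
  obtain ⟨_, ⟨V', hV', rfl⟩, hyV', hV'V⟩ :=
    Y'.isBasis_affineOpens.exists_subset_of_mem_open
      (show (pullback.snd f g).base x' ∈ ((g ⁻¹ᵁ V : Y'.Opens) : Set Y') from by
        change g.base ((pullback.snd f g).base x') ∈ V
        rw [← hcond]
        exact hxV)
      (g ⁻¹ᵁ V).isOpen
  have eV' : V' ≤ g ⁻¹ᵁ V := hV'V
  let φ := f.appLE V W e
  let ψ' := g.appLE V V' eV'
  letI : Algebra Γ(Y, V) Γ(X, W) := φ.hom.toAlgebra
  letI : Algebra Γ(Y, V) Γ(Y', V') := ψ'.hom.toAlgebra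
  have e₁ : f₀ Γ(Y, V) Γ(X, W) ≫ hV.fromSpec = hW.fromSpec ≫ f :=
    hV.SpecMap_appLE_fromSpec f hW e
  have e₂ : g₀ Γ(Y, V) Γ(Y', V') ≫ hV.fromSpec = hV'.fromSpec ≫ g :=
    hV.SpecMap_appLE_fromSpec g hV' eV'
  let m := pullback.map (f₀ Γ(Y, V) Γ(X, W)) (g₀ Γ(Y, V) Γ(Y', V')) f g hW.fromSpec hV'.fromSpec
    hV.fromSpec e₁ e₂
  have hm_snd : m ≫ pullback.snd f g = pullback.snd _ _ ≫ hV'.fromSpec := pullback.lift_snd _ _ _
  have hm_fst : m ≫ pullback.fst f g = pullback.fst _ _ ≫ hW.fromSpec := pullback.lift_fst _ _ _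
  have hx'm : x' ∈ Set.range m.base := by
    rw [Scheme.Pullback.range_map]
    refine ⟨?_, ?_⟩
    · change (pullback.fst f g).base x' ∈ Set.range hW.fromSpec.base
      rw [hW.range_fromSpec, hx']
      exact hxW
    · change (pullback.snd f g).base x' ∈ Set.range hV'.fromSpec.base
      rw [hV'.range_fromSpec]
      exact hyV'
  obtain ⟨x'₀, rfl⟩ := hx'm
  refine isOpenAt_of_square (pullback.snd f g).base
    (pullback.snd (f₀ Γ(Y, V) Γ(X, W)) (g₀ Γ(Y, V) Γ(Y', V'))).base m.base hV'.fromSpec.base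
    m.continuous hV'.fromSpec.isOpenEmbedding.isOpenMap ?_ x'₀ ?_
  · intro w
    rw [← Scheme.Hom.comp_apply, ← Scheme.Hom.comp_apply, hm_snd]
  apply isOpenAt_snd_of_finset
  intro s
  set z := (πs Γ(Y, V) Γ(X, W) Γ(Y', V') s).base x'₀ with hz
  have hπ_fst : πs Γ(Y, V) Γ(X, W) Γ(Y', V') s ≫ pullback.fst (f₀ Γ(Y, V) Γ(X, W)) (gσ Γ(Y, V) s) =
      pullback.fst (f₀ Γ(Y, V) Γ(X, W)) (g₀ Γ(Y, V) Γ(Y', V')) := by
    rw [pullback.lift_fst, Category.comp_id]
  refine H s z ?_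
  rw [hz, ← Scheme.Hom.comp_apply, ← Scheme.Hom.comp_apply, ← Category.assoc, hπ_fst, ← hm_fst,
    Scheme.Hom.comp_apply]
  exact hx'

end Groth.Agent.Helper14.ChevQF
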