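import Mathlib
import Groth.Prelude.Def_EGA43
import Groth.Prelude.Def_CAlg2
import Groth.Agent.Lib.Helper14.ChevQF2

/-!
# Universal openness at a quasi-finite point over a geometrically unibranch point
(EGA IV 14.4.1.2, geometric version): scheme level
-/

set_option autoImplicit false

universe u

open TensorProduct CategoryTheory CategoryTheory.Limits AlgebraicGeometry EGA43 PrimeSpectrum

namespace Groth.Agent.Helper14.ChevQF

open Groth.Agent.Helper4.UOpen Groth.Agent.Helper4.UCAff Groth.Agent.Helper14.UnibrOpen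

set_option maxHeartbeats 1600000 in
/-- **EGA IV 14.4.1.2** (geometric form): let `f : X ⟶ Y` be locally of finite type, `x` a point
isolated in its fibre such that `O_{Y, f x}` is geometrically unibranch, and `ξ` a generization of
`x` such that the closure of `f ξ` is a neighbourhood of `f x`.  Then `f` is universally open at
`x`. -/
theorem isUnivOpenAt_of_isolated_of_geomUnibranch {X Y : Scheme.{u}} (f : X ⟶ Y)
    [LocallyOfFiniteType f]
    (x ξ : X) (hξ : ξ ⤳ x) (hnb : closure {f.base ξ} ∈ nhds (f.base x))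
    (hx : nhdsWithin x (f.base ⁻¹' {f.base x}) = pure x)
    (hy : CAlg2.IsGeomUnibranch (Y.presheaf.stalk (f.base x))) : IsUnivOpenAt f x := by
  obtain ⟨_, ⟨V, hV, rfl⟩, hxV, hVsub⟩ :=
    Y.isBasis_affineOpens.exists_subset_of_mem_open (mem_interior_iff_mem_nhds.mpr hnb)
      isOpen_interior
  obtain ⟨_, ⟨W, hW, rfl⟩, hxW, hWV⟩ :=
    X.isBasis_affineOpens.exists_subset_of_mem_open (show x ∈ ((f ⁻¹ᵁ V : X.Opens) : Set X) from hxV)
      (f ⁻¹ᵁ V).isOpen
  have e : W ≤ f ⁻¹ᵁ V := hWV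
  have hξW : ξ ∈ W := hξ.mem_open W.isOpen hxW
  refine isUnivOpenAt_of_chart f x V hV W hW e hxW ?_
  let φ := f.appLE V W e
  letI : Algebra Γ(Y, V) Γ(X, W) := φ.hom.toAlgebra
  have halg : algebraMap Γ(Y, V) Γ(X, W) = φ.hom := rfl
  haveI : Algebra.FiniteType Γ(Y, V) Γ(X, W) := f.finiteType_appLE hV hW e
  have hsq : Spec.map φ ≫ hV.fromSpec = hW.fromSpec ≫ f := hV.SpecMap_appLE_fromSpec f hW e
  have hcomm : ∀ w, f.base (hW.fromSpec.base w) = hV.fromSpec.base ((Spec.map φ).base w) := by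
    intro w
    rw [← Scheme.Hom.comp_apply, ← Scheme.Hom.comp_apply, hsq]
  let q := hW.primeIdealOf ⟨x, hxW⟩
  have hq : hW.fromSpec.base q = x := hW.fromSpec_primeIdealOf ⟨x, hxW⟩
  let Pξ := hW.primeIdealOf ⟨ξ, hξW⟩
  have hPξ : hW.fromSpec.base Pξ = ξ := hW.fromSpec_primeIdealOf ⟨ξ, hξW⟩
  have hPq : Pξ.asIdeal ≤ q.asIdeal := by
    have : Pξ ≤ q := by
      rw [← ResFieldBridge.specializes_fromSpec_iff hW]
      change hW.fromSpec.base Pξ ⤳ hW.fromSpec.base q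
      rw [hPξ, hq]
      exact hξ
    exact this
  have hηV : f.base ξ ∈ V := e hξW
  have hcomapξ : Pξ.asIdeal.comap (algebraMap Γ(Y, V) Γ(X, W)) =
      (hV.primeIdealOf ⟨f.base ξ, hηV⟩).asIdeal := by
    have := IsAffineOpen.comap_primeIdealOf_appLE (f := f) V hV W hW e hξW
    exact congrArg PrimeSpectrum.asIdeal this
  have hnil : (hV.primeIdealOf ⟨f.base ξ, hηV⟩).asIdeal ≤ nilradical Γ(Y, V) := by
    rw [nilradical_eq_sInf]
    refine le_sInf fun Q hQ => ?_
    have hQV : hV.fromSpec.base ⟨Q, hQ⟩ ∈ (V : Set Y) := by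
      have := hV.range_fromSpec
      rw [← this]
      exact ⟨_, rfl⟩
    have h1 : f.base ξ ⤳ hV.fromSpec.base ⟨Q, hQ⟩ := by
      rw [specializes_iff_mem_closure]
      exact interior_subset (hVsub hQV)
    have h2 : hV.primeIdealOf ⟨f.base ξ, hηV⟩ ≤ ⟨Q, hQ⟩ := by
      rw [← ResFieldBridge.specializes_fromSpec_iff hV]
      change hV.fromSpec.base _ ⤳ _
      rw [hV.fromSpec_primeIdealOf ⟨f.base ξ, hηV⟩]
      exact h1
    exact h2
  have hP : Pξ.asIdeal.comap (algebraMap Γ(Y, V) Γ(X, W)) ≤ nilradical Γ(Y, V) := by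
    rw [hcomapξ]
    exact hnil
  haveI : Algebra.QuasiFiniteAt Γ(Y, V) q.asIdeal := by
    apply Algebra.QuasiFiniteAt.of_isOpen_singleton_fiber q
    have h1 : ({x} : Set X) ∈ nhdsWithin x (f.base ⁻¹' {f.base x}) := by
      rw [hx]
      exact Filter.mem_pure.mpr rfl
    obtain ⟨O, hO, hOsub⟩ := mem_nhdsWithin_iff_exists_mem_nhds_inter.mp h1
    obtain ⟨O', hO'O, hO'o, hxO'⟩ := mem_nhds_iff.mp hO
    have hopen : IsOpen (hW.fromSpec.base ⁻¹' O') := hO'o.preimage hW.fromSpec.continuous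
    have key : ({⟨q, rfl⟩} : Set (comap (algebraMap Γ(Y, V) Γ(X, W)) ⁻¹'
        {comap (algebraMap Γ(Y, V) Γ(X, W)) q})) =
        Subtype.val ⁻¹' (hW.fromSpec.base ⁻¹' O') := ?_
    · rw [key]
      exact hopen.preimage continuous_subtype_val
    ext ⟨q', hq'⟩
    simp only [Set.mem_singleton_iff, Subtype.mk.injEq]
    constructor
    · rintro rfl
      change hW.fromSpec.base q ∈ O'
      rw [hq]
      exact hxO'
    · intro (hq'O : hW.fromSpec.base q' ∈ O')
      apply hW.fromSpec.isOpenEmbedding.injective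
      rw [hq]
      have h2 : hW.fromSpec.base q' ∈ O ∩ f.base ⁻¹' {f.base x} := by
        refine ⟨hO'O hq'O, ?_⟩
        rw [Set.mem_preimage, Set.mem_singleton_iff, hcomm, ← hq, hcomm]
        congr 1
      exact hOsub h2
  letI := Y.presheaf.algebra_section_stalk ⟨f.base x, hxV⟩
  haveI := hV.isLocalization_stalk ⟨f.base x, hxV⟩
  have hcomapx : (hV.primeIdealOf ⟨f.base x, hxV⟩).asIdeal =
      q.asIdeal.comap (algebraMap Γ(Y, V) Γ(X, W)) := by
    have := IsAffineOpen.comap_primeIdealOf_appLE (f := f) V hV W hW e hxW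
    exact (congrArg PrimeSpectrum.asIdeal this).symm
  haveI : IsLocalization.AtPrime (Y.presheaf.stalk (f.base x))
      (q.asIdeal.comap (algebraMap Γ(Y, V) Γ(X, W))) :=
    isLocalizationAtPrime_congr _ hcomapx
  intro σ _ z hz
  -- bridge to the tensor product
  let E := pullbackSymmetry (f₀ Γ(Y, V) Γ(X, W)) (gσ Γ(Y, V) σ) ≪≫
    pullbackSpecIso Γ(Y, V) (MvPolynomial σ Γ(Y, V)) Γ(X, W)
  have hsnd : pullback.snd (f₀ Γ(Y, V) Γ(X, W)) (gσ Γ(Y, V) σ) =
      E.hom ≫ Spec.map (CommRingCat.ofHom (algebraMap (MvPolynomial σ Γ(Y, V))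
        (MvPolynomial σ Γ(Y, V) ⊗[Γ(Y, V)] Γ(X, W)))) := by
    simp only [E, Iso.trans_hom, Category.assoc, pullbackSpecIso_hom_fst',
      pullbackSymmetry_hom_comp_fst]
  have hfst : pullback.fst (f₀ Γ(Y, V) Γ(X, W)) (gσ Γ(Y, V) σ) =
      E.hom ≫ Spec.map (CommRingCat.ofHom (RingHomClass.toRingHom
        (Algebra.TensorProduct.includeRight :
        Γ(X, W) →ₐ[Γ(Y, V)] MvPolynomial σ Γ(Y, V) ⊗[Γ(Y, V)] Γ(X, W)))) := by
    rw [show E.hom = (pullbackSymmetry (f₀ Γ(Y, V) Γ(X, W)) (gσ Γ(Y, V) σ)).hom ≫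
      (pullbackSpecIso Γ(Y, V) (MvPolynomial σ Γ(Y, V)) Γ(X, W)).hom from rfl, Category.assoc,
      pullbackSpecIso_hom_snd, pullbackSymmetry_hom_comp_snd]
  have hfstz : (pullback.fst (f₀ Γ(Y, V) Γ(X, W)) (gσ Γ(Y, V) σ)).base z = q := by
    apply hW.fromSpec.isOpenEmbedding.injective
    rw [hq]
    exact hz
  have hZ : (E.hom.base z : PrimeSpectrum (MvPolynomial σ Γ(Y, V) ⊗[Γ(Y, V)] Γ(X, W))).asIdeal.comap
      (Algebra.TensorProduct.includeRight :
        Γ(X, W) →ₐ[Γ(Y, V)] MvPolynomial σ Γ(Y, V) ⊗[Γ(Y, V)] Γ(X, W)).toRingHom = q.asIdeal := by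
    rw [← hfstz, hfst, Scheme.Hom.comp_apply]
    rfl
  have h := isOpenAt_comap_baseChange_poly q.asIdeal Pξ.asIdeal hPq hP
    (Y.presheaf.stalk (f.base x)) hy σ (E.hom.base z) hZ
  have h2 := isOpenAt_comp_of_isOpenMap _ E.hom.base E.hom.homeomorph.isOpenMap z h
  rw [hsnd]
  exact h2

end Groth.Agent.Helper14.ChevQF
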