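import Mathlib
import Groth.Prelude.Def_EGA43
import Groth.Prelude.Def_CAlg2
import Groth.Agent.Lib.Helper14.ChevEq
import Groth.Agent.Lib.Helper14.ChevComp
import Groth.Agent.Lib.Helper14.ChevQF3
import Groth.Agent.Lib.Helper4.UOpen5

/-!
# Chevalley's criterion, affine form: factorisation through an affine space
-/

set_option autoImplicit false
universe u
open MvPolynomial PrimeSpectrum AlgebraicGeometry CategoryTheory EGA43

namespace Groth.Agent.Helper14.ChevEq

open Groth.Agent.Helper4.UOpen Groth.Agent.Helper4.UCAff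

variable {R B : Type u} [CommRing R] [CommRing B] [Algebra R B]

theorem under_eq_comap_comap {ι : Type u} (t : ι → B) (I : Ideal B) :
    I.under R = (I.comap (aeval t : MvPolynomial ι R →ₐ[R] B)).comap (C (σ := ι)) := by
  ext r
  simp only [Ideal.under_def, Ideal.mem_comap]
  rw [show (aeval t : MvPolynomial ι R →ₐ[R] B) (C r) = algebraMap R B r from aeval_C _ _]

theorem exists_factorization [Algebra.FiniteType R B] (q P : Ideal B) [hq : q.IsPrime]
    [hP : P.IsPrime] (hPq : P ≤ q)
    (hmin : ∀ q' : Ideal B, q'.IsPrime → q' ≤ q → q'.under R = q.under R → q' = q)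
    (htr : Algebra.trdeg (R ⧸ P.under R) (B ⧸ P) = Algebra.trdeg (R ⧸ q.under R) (B ⧸ q)) :
    ∃ (ι : Type u) (_ : Finite ι) (t : ι → B),
      q.comap (aeval t : MvPolynomial ι R →ₐ[R] B) = Ideal.map C (q.under R) ∧
      P.comap (aeval t : MvPolynomial ι R →ₐ[R] B) = Ideal.map C (P.under R) ∧
      (letI := (aeval t : MvPolynomial ι R →ₐ[R] B).toRingHom.toAlgebra
       IsOpen (X := comap (algebraMap (MvPolynomial ι R) B) ⁻¹'
          {comap (algebraMap (MvPolynomial ι R) B) ⟨q, hq⟩}) {⟨⟨q, hq⟩, rfl⟩}) := by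
  obtain ⟨ι, hfin, t, ht⟩ := exists_transcendence_lift (R := R) q
  refine ⟨ι, hfin, t, comap_aeval_eq q t ht.1, ?_⟩
  letI alg : Algebra (MvPolynomial ι R) B :=
    (aeval t : MvPolynomial ι R →ₐ[R] B).toRingHom.toAlgebra
  haveI : IsScalarTower R (MvPolynomial ι R) B :=
    IsScalarTower.of_algebraMap_eq (fun r => (aeval_C t r).symm)
  haveI : Algebra.FiniteType (MvPolynomial ι R) B :=
    Algebra.FiniteType.of_restrictScalars_finiteType R (MvPolynomial ι R) B
  have hopen : IsOpen (X := comap (algebraMap (MvPolynomial ι R) B) ⁻¹'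
      {comap (algebraMap (MvPolynomial ι R) B) ⟨q, hq⟩}) {⟨⟨q, hq⟩, rfl⟩} := by
    apply isOpen_singleton_fiber
    · intro q' hle hco
      have h1 : q'.asIdeal.comap (aeval t : MvPolynomial ι R →ₐ[R] B) =
          q.comap (aeval t : MvPolynomial ι R →ₐ[R] B) := congrArg PrimeSpectrum.asIdeal hco
      have h2 : q'.asIdeal.under R = q.under R := by
        rw [under_eq_comap_comap t, under_eq_comap_comap t, h1]
      exact PrimeSpectrum.ext (hmin q'.asIdeal q'.isPrime hle h2)
    · intro q' hle hco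
      have h1 : q'.asIdeal.comap (aeval t : MvPolynomial ι R →ₐ[R] B) =
          q.comap (aeval t : MvPolynomial ι R →ₐ[R] B) := congrArg PrimeSpectrum.asIdeal hco
      haveI := q'.isPrime
      exact PrimeSpectrum.ext (eq_of_ge_of_comap_eq q q'.asIdeal hle t ht h1)
  refine ⟨?_, hopen⟩
  haveI hqf : Algebra.QuasiFiniteAt (MvPolynomial ι R) q :=
    Algebra.QuasiFiniteAt.of_isOpen_singleton_fiber ⟨q, hq⟩ hopen
  have hqfP : Algebra.QuasiFiniteAt (MvPolynomial ι R) P := Algebra.QuasiFiniteAt.of_le hPq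
  apply comap_aeval_eq_of_quasiFiniteAt P t hqfP
  rw [htr, ← ht.cardinalMk_eq_trdeg]

theorem universallyOpen_gσ (ι : Type u) [Finite ι] : UniversallyOpen (gσ R ι) := by
  haveI : Flat (gσ R ι) := by
    rw [HasRingHomProperty.Spec_iff (P := @Flat)]
    exact RingHom.flat_algebraMap_iff.mpr inferInstance
  haveI : LocallyOfFinitePresentation (gσ R ι) := by
    rw [HasRingHomProperty.Spec_iff (P := @LocallyOfFinitePresentation)]
    exact RingHom.finitePresentation_algebraMap.mpr inferInstance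
  infer_instance

set_option maxHeartbeats 1600000 in
theorem isUnivOpenAt_f₀ [Algebra.FiniteType R B] (q P : Ideal B) [hq : q.IsPrime]
    [hP : P.IsPrime] (hPq : P ≤ q) (hPnil : P.under R ≤ nilradical R)
    (hmin : ∀ q' : Ideal B, q'.IsPrime → q' ≤ q → q'.under R = q.under R → q' = q)
    (htr : Algebra.trdeg (R ⧸ P.under R) (B ⧸ P) = Algebra.trdeg (R ⧸ q.under R) (B ⧸ q))
    (D' : Type u) [CommRing D'] [IsLocalRing D'] [Algebra R D']
    [IsLocalization.AtPrime D' (q.under R)] (hD' : CAlg2.IsGeomUnibranch D') :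
    IsUnivOpenAt (f₀ R B) ⟨q, hq⟩ := by
  obtain ⟨ι, hfin, t, hqc, hPc, hopen⟩ := exists_factorization q P hPq hmin htr
  letI alg : Algebra (MvPolynomial ι R) B :=
    (aeval t : MvPolynomial ι R →ₐ[R] B).toRingHom.toAlgebra
  haveI : IsScalarTower R (MvPolynomial ι R) B :=
    IsScalarTower.of_algebraMap_eq (fun r => (aeval_C t r).symm)
  haveI : Algebra.FiniteType (MvPolynomial ι R) B :=
    Algebra.FiniteType.of_restrictScalars_finiteType R (MvPolynomial ι R) B
  have hfac : f₀ R B = f₀ (MvPolynomial ι R) B ≫ gσ R ι := by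
    rw [← Spec.map_comp, ← CommRingCat.ofHom_comp,
      ← IsScalarTower.algebraMap_eq R (MvPolynomial ι R) B]
  rw [hfac]
  haveI : LocallyOfFiniteType (f₀ (MvPolynomial ι R) B) := by
    rw [HasRingHomProperty.Spec_iff (P := @LocallyOfFiniteType)]
    exact RingHom.finiteType_algebraMap.mpr inferInstance
  apply ChevComp.isUnivOpenAt_comp
  · have hξ : (⟨P, hP⟩ : Spec (CommRingCat.of B)) ⤳ ⟨q, hq⟩ :=
      (PrimeSpectrum.le_iff_specializes (⟨P, hP⟩ : PrimeSpectrum B) ⟨q, hq⟩).mp hPq
    have hnb : closure {(f₀ (MvPolynomial ι R) B).base ⟨P, hP⟩} ∈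
        nhds ((f₀ (MvPolynomial ι R) B).base ⟨q, hq⟩) := by
      have : closure {(f₀ (MvPolynomial ι R) B).base ⟨P, hP⟩} = Set.univ := by
        rw [Set.eq_univ_iff_forall]
        intro z
        rw [← specializes_iff_mem_closure]
        refine (PrimeSpectrum.le_iff_specializes
          (comap (algebraMap (MvPolynomial ι R) B) ⟨P, hP⟩) z).mp ?_
        change P.comap (aeval t : MvPolynomial ι R →ₐ[R] B) ≤ z.asIdeal
        rw [hPc]
        refine le_trans (Ideal.map_mono hPnil) ?_
        rw [Ideal.map_le_iff_le_comap]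
        intro r hr
        have h1 : (C r : MvPolynomial ι R) ∈ nilradical (MvPolynomial ι R) :=
          (mem_nilradical.mp hr).map _
        exact nilradical_le_prime z.asIdeal h1
      rw [this]
      exact Filter.univ_mem
    have hx : nhdsWithin (⟨q, hq⟩ : Spec (CommRingCat.of B))
        ((f₀ (MvPolynomial ι R) B).base ⁻¹' {(f₀ (MvPolynomial ι R) B).base ⟨q, hq⟩}) =
        pure ⟨q, hq⟩ := by
      obtain ⟨O, hO, hOeq⟩ := isOpen_induced_iff.mp hopen
      apply le_antisymm
      · rw [Filter.le_pure_iff, mem_nhdsWithin]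
        refine ⟨O, hO, ?_, ?_⟩
        · have : (⟨⟨q, hq⟩, rfl⟩ : comap (algebraMap (MvPolynomial ι R) B) ⁻¹'
            {comap (algebraMap (MvPolynomial ι R) B) ⟨q, hq⟩}) ∈ Subtype.val ⁻¹' O := by
            rw [hOeq]
            rfl
          exact this
        · rintro z ⟨hzO, hzf⟩
          have : (⟨z, hzf⟩ : comap (algebraMap (MvPolynomial ι R) B) ⁻¹'
            {comap (algebraMap (MvPolynomial ι R) B) ⟨q, hq⟩}) ∈ Subtype.val ⁻¹' O := hzO
          rw [hOeq] at this
          exact congrArg Subtype.val (Set.mem_singleton_iff.mp this)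
      · exact pure_le_nhdsWithin rfl
    have hy : CAlg2.IsGeomUnibranch ((Spec (CommRingCat.of (MvPolynomial ι R))).presheaf.stalk
        ((f₀ (MvPolynomial ι R) B).base ⟨q, hq⟩)) := by
      letI : Algebra (MvPolynomial ι R) ((Spec (CommRingCat.of (MvPolynomial ι R))).presheaf.stalk
        ((f₀ (MvPolynomial ι R) B).base ⟨q, hq⟩)) :=
        StructureSheaf.stalkAlgebra (R := MvPolynomial ι R) _
      haveI : IsLocalization.AtPrime ((Spec (CommRingCat.of (MvPolynomial ι R))).presheaf.stalk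
          ((f₀ (MvPolynomial ι R) B).base ⟨q, hq⟩))
          (q.comap (aeval t : MvPolynomial ι R →ₐ[R] B)) :=
        StructureSheaf.IsLocalization.to_stalk (R := MvPolynomial ι R)
          ((f₀ (MvPolynomial ι R) B).base ⟨q, hq⟩)
      haveI : IsLocalization.AtPrime D'
          ((q.comap (aeval t : MvPolynomial ι R →ₐ[R] B)).comap (C (σ := ι))) :=
        PolyGU.isLocalizationAtPrime_congr D' (under_eq_comap_comap t q)
      exact PolyGU.isGeomUnibranch_poly' R ι (q.comap (aeval t : MvPolynomial ι R →ₐ[R] B)) D' hD' _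
    exact ChevQF.isUnivOpenAt_of_isolated_of_geomUnibranch (f₀ (MvPolynomial ι R) B) ⟨q, hq⟩ ⟨P, hP⟩
      hξ hnb hx hy
  · haveI := universallyOpen_gσ (R := R) ι
    exact isUnivOpenAt_of_universallyOpen _ _

end Groth.Agent.Helper14.ChevEq
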