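import Mathlib
import Groth.Prelude.Def_EGA43
import Groth.Prelude.Def_CAlg2
import Groth.Agent.Lib.Helper14.ChevEq2
import Groth.Agent.Lib.Helper14.ResFieldBridge

/-!
# Chevalley's criterion for universal openness at a point (EGA IV 14.4.1), scheme level
-/

set_option autoImplicit false
universe u
open MvPolynomial PrimeSpectrum AlgebraicGeometry CategoryTheory CategoryTheory.Limits EGA43

namespace Groth.Agent.Helper14.ChevMain

open Groth.Agent.Helper4.UOpen Groth.Agent.Helper4.UCAff Groth.Agent.Helper14.UnibrOpen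

set_option maxHeartbeats 1600000 in
/-- **EGA IV 14.4.1** at a maximal point of a fibre: let `f : X ⟶ Y` be locally of finite type,
`x` a maximal point of its fibre such that `O_{Y, f x}` is geometrically unibranch, and `ξ` a
generization of `x` such that the closure of `f ξ` is a neighbourhood of `f x` and the residue
field extensions at `ξ` and `x` have the same transcendence degree. Then `f` is universally open
at `x`. -/
theorem isUnivOpenAt_of_trdeg_eq {X Y : Scheme.{u}} (f : X ⟶ Y) [LocallyOfFiniteType f]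
    (x ξ : X) (hξ : ξ ⤳ x) (hnb : closure {f.base ξ} ∈ nhds (f.base x))
    (hmax : ∀ x' : X, x' ⤳ x → f.base x' = f.base x → x' = x)
    (htr : @Algebra.trdeg (Y.residueField (f.base ξ)) (X.residueField ξ) _ _
        (f.residueFieldMap ξ).hom.toAlgebra =
      @Algebra.trdeg (Y.residueField (f.base x)) (X.residueField x) _ _
        (f.residueFieldMap x).hom.toAlgebra)
    (hy : CAlg2.IsGeomUnibranch (Y.presheaf.stalk (f.base x))) : IsUnivOpenAt f x := by
  obtain ⟨_, ⟨V, hV, rfl⟩, hxV, hVsub⟩ :=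
    Y.isBasis_affineOpens.exists_subset_of_mem_open (mem_interior_iff_mem_nhds.mpr hnb)
      isOpen_interior
  obtain ⟨_, ⟨W, hW, rfl⟩, hxW, hWV⟩ :=
    X.isBasis_affineOpens.exists_subset_of_mem_open (show x ∈ ((f ⁻¹ᵁ V : X.Opens) : Set X) from hxV)
      (f ⁻¹ᵁ V).isOpen
  have e : W ≤ f ⁻¹ᵁ V := hWV
  have hξW : ξ ∈ W := hξ.mem_open W.isOpen hxW
  refine ChevQF.isUnivOpenAt_of_chart f x V hV W hW e hxW ?_
  let φ := f.appLE V W e
  letI : Algebra Γ(Y, V) Γ(X, W) := φ.hom.toAlgebra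
  have halg : algebraMap Γ(Y, V) Γ(X, W) = φ.hom := rfl
  haveI : Algebra.FiniteType Γ(Y, V) Γ(X, W) := f.finiteType_appLE hV hW e
  have hsq : Spec.map φ ≫ hV.fromSpec = hW.fromSpec ≫ f := hV.SpecMap_appLE_fromSpec f hW e
  have hcomm : ∀ w, f.base (hW.fromSpec.base w) = hV.fromSpec.base ((Spec.map φ).base w) := by
    intro w
    rw [← Scheme.Hom.comp_apply, ← Scheme.Hom.comp_apply, hsq]
  let q := hW.primeIdealOf ⟨x, hxW⟩
  have hq : hW.fromSpec.base q = x := hW.fromSpec_primeIdealOf ⟨x, hxW⟩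
  let Pξ := hW.primeIdealOf ⟨ξ, hξW⟩
  have hPξ : hW.fromSpec.base Pξ = ξ := hW.fromSpec_primeIdealOf ⟨ξ, hξW⟩
  have hPq : Pξ.asIdeal ≤ q.asIdeal := by
    have : Pξ ≤ q := by
      rw [← ResFieldBridge.specializes_fromSpec_iff hW]
      change hW.fromSpec.base Pξ ⤳ hW.fromSpec.base q
      rw [hPξ, hq]
      exact hξ
    exact this
  have hηV : f.base ξ ∈ V := e hξW
  have hcomapξ : Pξ.asIdeal.comap (algebraMap Γ(Y, V) Γ(X, W)) =
      (hV.primeIdealOf ⟨f.base ξ, hηV⟩).asIdeal := by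
    have := IsAffineOpen.comap_primeIdealOf_appLE (f := f) V hV W hW e hξW
    exact congrArg PrimeSpectrum.asIdeal this
  have hnil : (hV.primeIdealOf ⟨f.base ξ, hηV⟩).asIdeal ≤ nilradical Γ(Y, V) := by
    rw [nilradical_eq_sInf]
    refine le_sInf fun Q hQ => ?_
    have hQV : hV.fromSpec.base ⟨Q, hQ⟩ ∈ (V : Set Y) := by
      have := hV.range_fromSpec
      rw [← this]
      exact ⟨_, rfl⟩
    have h1 : f.base ξ ⤳ hV.fromSpec.base ⟨Q, hQ⟩ := by
      rw [specializes_iff_mem_closure]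
      exact interior_subset (hVsub hQV)
    have h2 : hV.primeIdealOf ⟨f.base ξ, hηV⟩ ≤ ⟨Q, hQ⟩ := by
      rw [← ResFieldBridge.specializes_fromSpec_iff hV]
      change hV.fromSpec.base _ ⤳ _
      rw [hV.fromSpec_primeIdealOf ⟨f.base ξ, hηV⟩]
      exact h1
    exact h2
  have hP : Pξ.asIdeal.under Γ(Y, V) ≤ nilradical Γ(Y, V) := by
    rw [Ideal.under_def, hcomapξ]
    exact hnil
  -- minimality of `q` in its fibre
  have hmin : ∀ q' : Ideal Γ(X, W), q'.IsPrime → q' ≤ q.asIdeal →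
      q'.under Γ(Y, V) = q.asIdeal.under Γ(Y, V) → q' = q.asIdeal := by
    intro q' hq' hle hun
    let z : PrimeSpectrum Γ(X, W) := ⟨q', hq'⟩
    have hzq : z ≤ q := hle
    have h1 : hW.fromSpec.base z ⤳ x := by
      rw [← hq]
      exact (ResFieldBridge.specializes_fromSpec_iff hW z q).mpr hzq
    have h2 : f.base (hW.fromSpec.base z) = f.base x := by
      rw [← hq, hcomm, hcomm]
      congr 1
      exact PrimeSpectrum.ext hun
    have h3 := hmax _ h1 h2
    have h4 : z = q := by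
      apply hW.fromSpec.isOpenEmbedding.injective
      rw [hq]
      exact h3
    exact congrArg PrimeSpectrum.asIdeal h4
  -- transcendence degrees
  have htr' : Algebra.trdeg (Γ(Y, V) ⧸ Pξ.asIdeal.under Γ(Y, V)) (Γ(X, W) ⧸ Pξ.asIdeal) =
      Algebra.trdeg (Γ(Y, V) ⧸ q.asIdeal.under Γ(Y, V)) (Γ(X, W) ⧸ q.asIdeal) := by
    rw [← ResFieldBridge.trdeg_residueField_eq f hW hV e ξ hξW halg
        (Pξ.asIdeal.under Γ(Y, V)) Pξ.asIdeal rfl,
      ← ResFieldBridge.trdeg_residueField_eq f hW hV e x hxW halg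
        (q.asIdeal.under Γ(Y, V)) q.asIdeal rfl]
    exact htr
  letI := Y.presheaf.algebra_section_stalk ⟨f.base x, hxV⟩
  haveI := hV.isLocalization_stalk ⟨f.base x, hxV⟩
  have hcomapx : (hV.primeIdealOf ⟨f.base x, hxV⟩).asIdeal = q.asIdeal.under Γ(Y, V) := by
    have := IsAffineOpen.comap_primeIdealOf_appLE (f := f) V hV W hW e hxW
    exact (congrArg PrimeSpectrum.asIdeal this).symm
  haveI : IsLocalization.AtPrime (Y.presheaf.stalk (f.base x)) (q.asIdeal.under Γ(Y, V)) :=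
    isLocalizationAtPrime_congr _ hcomapx
  have hmain := ChevEq.isUnivOpenAt_f₀ (R := Γ(Y, V)) (B := Γ(X, W)) q.asIdeal Pξ.asIdeal hPq hP
    hmin htr' (Y.presheaf.stalk (f.base x)) hy
  intro σ _ z hz
  have hfstz : (pullback.fst (f₀ Γ(Y, V) Γ(X, W)) (gσ Γ(Y, V) σ)).base z = q := by
    apply hW.fromSpec.isOpenEmbedding.injective
    rw [hq]
    exact hz
  exact hmain _ (gσ Γ(Y, V) σ) z hfstz

end Groth.Agent.Helper14.ChevMain
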