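import Mathlib
import Groth.Prelude.Def_CAlg2
import Groth.Agent.Lib.Helper14.ResFieldBridge

/-!
# On a locally Noetherian scheme, the unique irreducible component through a point whose local
ring has irreducible spectrum is a neighbourhood of this point
-/

set_option autoImplicit false

universe u

open AlgebraicGeometry CategoryTheory PrimeSpectrum

namespace Groth.Agent.Helper14.ChevNB

theorem closure_mem_nhds_of_unique_component {Y : Scheme.{u}} [IsLocallyNoetherian Y] (y η : Y)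
    (hy : IsDomain (CAlg2.red (Y.presheaf.stalk y)))
    (hη : closure {η} ∈ irreducibleComponents Y) (hηy : η ⤳ y) : closure {η} ∈ nhds y := by
  classical
  obtain ⟨_, ⟨V, hV, rfl⟩, hyV, -⟩ :=
    Y.isBasis_affineOpens.exists_subset_of_mem_open (Set.mem_univ y) isOpen_univ
  haveI : IsNoetherianRing Γ(Y, V) := IsLocallyNoetherian.component_noetherian ⟨V, hV⟩
  have hηV : η ∈ V := hηy.mem_open V.isOpen hyV
  let p := hV.primeIdealOf ⟨y, hyV⟩
  let ηR := hV.primeIdealOf ⟨η, hηV⟩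
  have hp : hV.fromSpec.base p = y := hV.fromSpec_primeIdealOf ⟨y, hyV⟩
  have hηR : hV.fromSpec.base ηR = η := hV.fromSpec_primeIdealOf ⟨η, hηV⟩
  letI := Y.presheaf.algebra_section_stalk ⟨y, hyV⟩
  haveI := hV.isLocalization_stalk ⟨y, hyV⟩
  have hnilD : (nilradical (Y.presheaf.stalk y)).IsPrime :=
    (Ideal.Quotient.isDomain_iff_prime _).mp hy
  set 𝔞 : Ideal Γ(Y, V) :=
    (nilradical (Y.presheaf.stalk y)).comap (algebraMap Γ(Y, V) (Y.presheaf.stalk y)) with h𝔞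
  haveI : 𝔞.IsPrime := Ideal.comap_isPrime _ _
  -- minimal primes below `p` equal `𝔞`
  have hA : ∀ 𝔭' ∈ minimalPrimes Γ(Y, V), 𝔭' ≤ p.asIdeal → 𝔭' = 𝔞 := by
    intro 𝔭' h𝔭' hle
    have hprime : 𝔭'.IsPrime := h𝔭'.1.1
    have h1 : 𝔞 ≤ 𝔭' := by
      intro a ha
      obtain ⟨n, hn⟩ := mem_nilradical.mp ha
      rw [← map_pow, IsLocalization.map_eq_zero_iff p.asIdeal.primeCompl] at hn
      obtain ⟨t, ht⟩ := hn
      have ht' : (t : Γ(Y, V)) ∉ 𝔭' := fun h => t.2 (hle h)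
      have : (t : Γ(Y, V)) * a ^ n ∈ 𝔭' := by rw [ht]; exact zero_mem _
      exact hprime.mem_of_pow_mem n ((hprime.mem_or_mem this).resolve_left ht')
    exact le_antisymm (h𝔭'.2 ⟨inferInstance, bot_le⟩ h1) h1
  -- the prime of `η` is minimal
  have hB : ηR.asIdeal ∈ minimalPrimes Γ(Y, V) := by
    refine ⟨⟨ηR.2, bot_le⟩, ?_⟩
    rintro J ⟨hJ, -⟩ hJle
    let ζ := hV.fromSpec.base ⟨J, hJ⟩
    have h1 : ζ ⤳ η := by
      rw [← hηR]
      exact (ResFieldBridge.specializes_fromSpec_iff hV _ _).mpr hJle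
    have h2 : closure {η} ⊆ closure {ζ} :=
      closure_minimal (Set.singleton_subset_iff.mpr (specializes_iff_mem_closure.mp h1))
        isClosed_closure
    have h3 : closure {ζ} ⊆ closure {η} := hη.2 isIrreducible_singleton.closure h2
    have h4 : η ⤳ ζ := specializes_iff_mem_closure.mpr (h3 (subset_closure rfl))
    rw [← hηR] at h4
    exact (ResFieldBridge.specializes_fromSpec_iff hV _ _).mp h4
  have hC : ηR.asIdeal = 𝔞 := by
    apply hA _ hB
    have : ηR ≤ p := by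
      rw [← ResFieldBridge.specializes_fromSpec_iff hV, hηR, hp]
      exact hηy
    exact this
  -- the open neighbourhood
  have hfin : (minimalPrimes Γ(Y, V) \ {𝔞}).Finite :=
    (minimalPrimes.finite_of_isNoetherianRing Γ(Y, V)).subset Set.diff_subset
  let O : Set (PrimeSpectrum Γ(Y, V)) := ⋂ 𝔭' ∈ (minimalPrimes Γ(Y, V) \ {𝔞}), (zeroLocus (𝔭' : Set Γ(Y, V)))ᶜ
  have hOopen : IsOpen O :=
    hfin.isOpen_biInter fun 𝔭' _ => (isClosed_zeroLocus _).isOpen_compl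
  have hpO : p ∈ O := by
    simp only [O, Set.mem_iInter]
    intro 𝔭' h𝔭' hp𝔭'
    have : 𝔭' ≤ p.asIdeal := hp𝔭'
    exact h𝔭'.2 (hA 𝔭' h𝔭'.1 this)
  have hOsub : ∀ Q ∈ O, 𝔞 ≤ Q.asIdeal := by
    intro Q hQ
    obtain ⟨𝔭'', h𝔭'', hle⟩ := Ideal.exists_minimalPrimes_le (bot_le : (⊥ : Ideal Γ(Y, V)) ≤ Q.asIdeal)
    by_cases h : 𝔭'' = 𝔞
    · rw [← h]; exact hle
    · exfalso
      simp only [O, Set.mem_iInter] at hQ
      exact hQ 𝔭'' ⟨h𝔭'', h⟩ hle
  have hopen : IsOpen (hV.fromSpec.base '' O) := hV.fromSpec.isOpenEmbedding.isOpenMap _ hOopen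
  refine Filter.mem_of_superset (hopen.mem_nhds ⟨p, hpO, hp⟩) ?_
  rintro _ ⟨Q, hQ, rfl⟩
  rw [← specializes_iff_mem_closure, ← hηR]
  refine (ResFieldBridge.specializes_fromSpec_iff hV _ _).mpr ?_
  change ηR.asIdeal ≤ Q.asIdeal
  rw [hC]
  exact hOsub Q hQ

end Groth.Agent.Helper14.ChevNB
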