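import Mathlib
import Groth.Prelude.Def_EGA43
import Groth.Prelude.Def_CAlg2
import Groth.Agent.Lib.Helper14.ChevMain
import Groth.Agent.Lib.Helper14.FibreClosure
import Groth.Agent.Lib.Helper14.ClosedFibreDim
import Groth.Agent.Lib.Helper14.ChevNB

/-!
# Chevalley's criterion for equidimensional morphisms (EGA IV 14.4.4)
-/

set_option autoImplicit false
universe u
open AlgebraicGeometry CategoryTheory CategoryTheory.Limits EGA43

namespace Groth.Agent.Helper14.ChevEquidim

open Groth.Agent.Helper4.UOpen

/-- the closure of a point in its fibre has dimension the transcendence degree of the residue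
field extension -/
theorem topDim_closure_asFiber {X Y : Scheme.{u}} (f : X ⟶ Y) [LocallyOfFiniteType f] (ξ : X)
    (nξ : ℕ)
    (hnξ : @Algebra.trdeg (Y.residueField (f.base ξ)) (X.residueField ξ) _ _
      (f.residueFieldMap ξ).hom.toAlgebra = nξ) :
    topologicalKrullDim ↥(closure ({f.asFiber ξ} : Set ↥(f.fiber (f.base ξ)))) =
      (nξ : WithBot ℕ∞) := by
  rw [← FibreClosure.topDim_closure_inter_fibre f ξ nξ hnξ, ClosedFibreDim.closure_inter_fibre_eq,
    SectionComp.topDim_image _ (f.fiberι (f.base ξ)).isEmbedding]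

/-- a maximal point of a fibre all of whose irreducible components have dimension `e` has residue
transcendence degree `e` -/
theorem trdeg_eq_of_equidim_fibre {X Y : Scheme.{u}} (f : X ⟶ Y) [LocallyOfFiniteType f] (w : X)
    (hmax : ∀ w' : X, w' ⤳ w → f.base w' = f.base w → w' = w) (e : ℕ)
    (hcomp : ∀ Z ∈ irreducibleComponents (↥(f.fiber (f.base w)) : Type u),
      topologicalKrullDim (↥Z : Type u) = e) :
    @Algebra.trdeg (Y.residueField (f.base w)) (X.residueField w) _ _
      (f.residueFieldMap w).hom.toAlgebra = e := by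
  obtain ⟨n, hn⟩ := ResFieldBridge.exists_nat_trdeg_residueField f w
  have h1 := topDim_closure_asFiber f w n hn
  have h2 : closure ({f.asFiber w} : Set ↥(f.fiber (f.base w))) ∈
      irreducibleComponents (↥(f.fiber (f.base w)) : Type u) := by
    apply FibreClosure.closure_mem_irreducibleComponents_of_maximal
    intro ξ' hξ'
    have h3 : (f.fiberι (f.base w)).base ξ' ⤳ (f.fiberι (f.base w)).base (f.asFiber w) :=
      hξ'.map (f.fiberι (f.base w)).continuous
    rw [f.fiberι_asFiber w] at h3
    have h4 : f.base ((f.fiberι (f.base w)).base ξ') = f.base w := by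
      have : (f.fiberι (f.base w)).base ξ' ∈ Set.range (f.fiberι (f.base w)).base := ⟨ξ', rfl⟩
      rw [Scheme.Hom.range_fiberι] at this
      exact this
    have h5 := hmax _ h3 h4
    apply (f.fiberι (f.base w)).isEmbedding.injective
    rw [h5, f.fiberι_asFiber w]
  have h6 := hcomp _ h2
  rw [h1] at h6
  have h7 : n = e := by
    have : ((n : ℕ∞) : WithBot ℕ∞) = ((e : ℕ∞) : WithBot ℕ∞) := h6
    exact_mod_cast this
  rw [hn, h7]

/-- universal openness at a point can be checked on an open neighbourhood in the source -/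
theorem isUnivOpenAt_of_comp_openImmersion {U X Y : Scheme.{u}} (j : U ⟶ X) [IsOpenImmersion j]
    (f : X ⟶ Y) (u : U) (h : IsUnivOpenAt (j ≫ f) u) : IsUnivOpenAt f (j.base u) := by
  intro T k x' hx'
  let m := pullback.map (j ≫ f) k f k j (𝟙 T) (𝟙 Y) (by simp) (by simp)
  have hm_snd : m ≫ pullback.snd f k = pullback.snd (j ≫ f) k := by
    rw [pullback.lift_snd, Category.comp_id]
  have hm_fst : m ≫ pullback.fst f k = pullback.fst (j ≫ f) k ≫ j := pullback.lift_fst _ _ _
  have hx'm : x' ∈ Set.range m.base := by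
    rw [Scheme.Pullback.range_map]
    refine ⟨?_, ?_⟩
    · change (pullback.fst f k).base x' ∈ Set.range j.base
      rw [hx']
      exact ⟨u, rfl⟩
    · change (pullback.snd f k).base x' ∈ Set.range (𝟙 T : T ⟶ T).base
      exact ⟨_, rfl⟩
  obtain ⟨x'', rfl⟩ := hx'm
  have hu : (pullback.fst (j ≫ f) k).base x'' = u := by
    apply j.isOpenEmbedding.injective
    rw [← Scheme.Hom.comp_apply, ← hm_fst, Scheme.Hom.comp_apply]
    exact hx'
  have h1 := h T k x'' hu
  refine isOpenAt_of_square (pullback.snd f k).base (pullback.snd (j ≫ f) k).base m.base id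
    m.continuous IsOpenMap.id ?_ x'' h1
  intro w
  rw [← Scheme.Hom.comp_apply, hm_snd]
  rfl

end Groth.Agent.Helper14.ChevEquidim
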