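import Mathlib
import Groth.Prelude.Def_CAlg2
import Groth.Agent.Lib.Helper14.ResFieldBridge

/-!
# On a scheme with finitely many irreducible components, the unique irreducible component through
a point whose local ring has irreducible spectrum is a neighbourhood of this point
-/

set_option autoImplicit false

universe u

open AlgebraicGeometry CategoryTheory PrimeSpectrum

namespace Groth.Agent.Helper14.ChevNBFin

/-- two maximal points specialising to a point whose reduced local ring is a domain are equal -/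
theorem eq_of_maximal_of_specializes {Y : Scheme.{u}} (y η η' : Y)
    (hy : IsDomain (CAlg2.red (Y.presheaf.stalk y)))
    (hη : ∀ ζ : Y, ζ ⤳ η → ζ = η) (hη' : ∀ ζ : Y, ζ ⤳ η' → ζ = η')
    (hηy : η ⤳ y) (hη'y : η' ⤳ y) : η = η' := by
  classical
  obtain ⟨_, ⟨V, hV, rfl⟩, hyV, -⟩ :=
    Y.isBasis_affineOpens.exists_subset_of_mem_open (Set.mem_univ y) isOpen_univ
  let p := hV.primeIdealOf ⟨y, hyV⟩
  have hp : hV.fromSpec.base p = y := hV.fromSpec_primeIdealOf ⟨y, hyV⟩
  letI := Y.presheaf.algebra_section_stalk ⟨y, hyV⟩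
  haveI := hV.isLocalization_stalk ⟨y, hyV⟩
  have hnilD : (nilradical (Y.presheaf.stalk y)).IsPrime :=
    (Ideal.Quotient.isDomain_iff_prime _).mp hy
  set 𝔞 : Ideal Γ(Y, V) :=
    (nilradical (Y.presheaf.stalk y)).comap (algebraMap Γ(Y, V) (Y.presheaf.stalk y)) with h𝔞
  haveI : 𝔞.IsPrime := Ideal.comap_isPrime _ _
  -- minimal primes below `p` equal `𝔞`
  have hA : ∀ 𝔭' ∈ minimalPrimes Γ(Y, V), 𝔭' ≤ p.asIdeal → 𝔭' = 𝔞 := by
    intro 𝔭' h𝔭' hle
    have hprime : 𝔭'.IsPrime := h𝔭'.1.1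
    have h1 : 𝔞 ≤ 𝔭' := by
      intro a ha
      obtain ⟨n, hn⟩ := mem_nilradical.mp ha
      rw [← map_pow, IsLocalization.map_eq_zero_iff p.asIdeal.primeCompl] at hn
      obtain ⟨t, ht⟩ := hn
      have ht' : (t : Γ(Y, V)) ∉ 𝔭' := fun h => t.2 (hle h)
      have : (t : Γ(Y, V)) * a ^ n ∈ 𝔭' := by rw [ht]; exact zero_mem _
      exact hprime.mem_of_pow_mem n ((hprime.mem_or_mem this).resolve_left ht')
    exact le_antisymm (h𝔭'.2 ⟨inferInstance, bot_le⟩ h1) h1
  have key : ∀ ζ : Y, (∀ ζ' : Y, ζ' ⤳ ζ → ζ' = ζ) → ∀ (hζy : ζ ⤳ y),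
      (hV.primeIdealOf ⟨ζ, hζy.mem_open V.isOpen hyV⟩).asIdeal = 𝔞 := by
    intro ζ hζ hζy
    have hζV : ζ ∈ V := hζy.mem_open V.isOpen hyV
    set ζR := hV.primeIdealOf ⟨ζ, hζV⟩ with hζRdef
    have hζR : hV.fromSpec.base ζR = ζ := hV.fromSpec_primeIdealOf ⟨ζ, hζV⟩
    have hB : ζR.asIdeal ∈ minimalPrimes Γ(Y, V) := by
      refine ⟨⟨ζR.2, bot_le⟩, ?_⟩
      rintro J ⟨hJ, -⟩ hJle
      let ζ₂ := hV.fromSpec.base ⟨J, hJ⟩
      have h1 : ζ₂ ⤳ ζ := by
        rw [← hζR]
        exact (ResFieldBridge.specializes_fromSpec_iff hV _ _).mpr hJle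
      have h2 : ζ₂ = ζ := hζ _ h1
      have h4 : ζ ⤳ ζ₂ := by rw [h2]
      rw [← hζR] at h4
      exact (ResFieldBridge.specializes_fromSpec_iff hV _ _).mp h4
    apply hA _ hB
    have : ζR ≤ p := by
      rw [← ResFieldBridge.specializes_fromSpec_iff hV, hζR, hp]
      exact hζy
    exact this
  have h1 := key η hη hηy
  have h2 := key η' hη' hη'y
  have h3 : hV.primeIdealOf ⟨η, hηy.mem_open V.isOpen hyV⟩ =
      hV.primeIdealOf ⟨η', hη'y.mem_open V.isOpen hyV⟩ := PrimeSpectrum.ext (h1.trans h2.symm)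
  have h4 := congrArg hV.fromSpec.base h3
  rwa [hV.fromSpec_primeIdealOf, hV.fromSpec_primeIdealOf] at h4

theorem closure_mem_nhds_of_finite {Y : Scheme.{u}}
    (hfin : (irreducibleComponents (Y : Type u)).Finite) (y η : Y)
    (hy : IsDomain (CAlg2.red (Y.presheaf.stalk y)))
    (hη : closure {η} ∈ irreducibleComponents (Y : Type u)) (hηy : η ⤳ y) :
    closure {η} ∈ nhds y := by
  classical
  have hηmax : ∀ ζ : Y, ζ ⤳ η → ζ = η := by
    intro ζ hζ
    have h2 : closure {η} ⊆ closure {ζ} :=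
      closure_minimal (Set.singleton_subset_iff.mpr (specializes_iff_mem_closure.mp hζ))
        isClosed_closure
    have h3 : closure {ζ} ⊆ closure {η} := hη.2 isIrreducible_singleton.closure h2
    have h4 : η ⤳ ζ := specializes_iff_mem_closure.mpr (h3 (subset_closure rfl))
    exact (hζ.antisymm h4).eq
  have huniq : ∀ W ∈ irreducibleComponents (Y : Type u), y ∈ W → W = closure {η} := by
    intro W hW hyW
    have hWcl : IsClosed W := isClosed_of_mem_irreducibleComponents _ hW
    obtain ⟨η', hη'⟩ := QuasiSober.sober hW.1 hWcl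
    have hη'max : ∀ ζ : Y, ζ ⤳ η' → ζ = η' := by
      intro ζ hζ
      have h2 : closure {η'} ⊆ closure {ζ} :=
        closure_minimal (Set.singleton_subset_iff.mpr (specializes_iff_mem_closure.mp hζ))
          isClosed_closure
      have h3 : closure {ζ} ⊆ closure {η'} := by
        rw [hη'.def]
        apply hW.2 isIrreducible_singleton.closure
        rw [← hη'.def]; exact h2
      have h4 : η' ⤳ ζ := specializes_iff_mem_closure.mpr (h3 (subset_closure rfl))
      exact (hζ.antisymm h4).eq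
    have hη'y : η' ⤳ y := by
      rw [specializes_iff_mem_closure, hη'.def]; exact hyW
    have := eq_of_maximal_of_specializes y η η' hy hηmax hη'max hηy hη'y
    rw [this, hη'.def]
  let C : Set Y := ⋃₀ (irreducibleComponents (Y : Type u) \ {closure {η}})
  have hCcl : IsClosed C := by
    rw [show C = ⋃ W ∈ (irreducibleComponents (Y : Type u) \ {closure {η}}), W from Set.sUnion_eq_biUnion]
    apply Set.Finite.isClosed_biUnion (hfin.subset Set.diff_subset)
    intro W hW
    exact isClosed_of_mem_irreducibleComponents _ hW.1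
  have hyC : y ∉ C := by
    rintro ⟨W, ⟨hW, hne⟩, hyW⟩
    exact hne (huniq W hW hyW)
  refine Filter.mem_of_superset (hCcl.isOpen_compl.mem_nhds hyC) ?_
  intro q hq
  obtain ⟨W, hW, hqW⟩ := exists_mem_irreducibleComponents_subset_of_isIrreducible
    ({q} : Set Y) isIrreducible_singleton
  by_cases h : W = closure {η}
  · rw [← h]; exact hqW rfl
  · exact absurd ⟨W, ⟨hW, h⟩, hqW rfl⟩ hq

end Groth.Agent.Helper14.ChevNBFin
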