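import Mathlib
import Groth.Prelude.Def_EGA43
import Groth.Prelude.Def_CAlg2
import Groth.Agent.Lib.Helper14.ChevEquidim
import Groth.Agent.Lib.Helper14.OpenGenericLift
import Groth.Agent.Lib.Helper14.MaxPoints

/-!
# Over a geometrically unibranch point of a locally Noetherian base, openness at a maximal point
of the fibre implies universal openness (EGA IV 14.4.1 c) ⇒ a))
-/

set_option autoImplicit false
universe u
open AlgebraicGeometry CategoryTheory CategoryTheory.Limits EGA43

namespace Groth.Agent.Helper14.ChevOpen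

variable {X Y : Scheme.{u}} [IsLocallyNoetherian Y] (f : X ⟶ Y) [LocallyOfFiniteType f]

theorem isUnivOpenAt_of_isOpenAt_of_maximal (x : X)
    (hmax : ∀ x' : X, f.base x' = f.base x → x' ⤳ x → x' = x)
    (hy : CAlg2.IsGeomUnibranch (Y.presheaf.stalk (f.base x))) (ho : IsOpenAt f.base x) :
    IsUnivOpenAt f x := by
  obtain ⟨η, hηmax, hηy⟩ := MaxPoints.exists_maximal_specializes (f.base x)
  obtain ⟨ξ, n, hξmax, hξx, hfξ, hnξ, hnx⟩ :=
    OpenGenericLift.exists_maximal_of_isOpenAt f x hmax ho η hηy hηmax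
  have hcomp : closure ({η} : Set Y) ∈ irreducibleComponents (Y : Type u) :=
    FibreClosure.closure_mem_irreducibleComponents_of_maximal η hηmax
  have hnb : closure {f.base ξ} ∈ nhds (f.base x) := by
    rw [hfξ]
    exact ChevNB.closure_mem_nhds_of_unique_component (f.base x) η hy.1.1 hcomp hηy
  exact ChevMain.isUnivOpenAt_of_trdeg_eq f x ξ hξx hnb (fun x' h1 h2 => hmax x' h2 h1)
    (hnξ.trans hnx.symm) hy

/-- pointwise version at arbitrary points: openness at all generizations in the fibre -/
theorem isUnivOpenAt_of_isOpenAt (x : X)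
    (hy : CAlg2.IsGeomUnibranch (Y.presheaf.stalk (f.base x)))
    (ho : ∀ z : X, z ⤳ x → f.base z = f.base x → IsOpenAt f.base z) :
    IsUnivOpenAt f x := by
  obtain ⟨z, n, hzx, hfz, hzmax, hn, hfd⟩ := EquidimAt.exists_maximal_trdeg_eq_fibreDimAt f x
  refine ChevComp.isUnivOpenAt_of_specializes f x z hzx hfz ?_
  apply isUnivOpenAt_of_isOpenAt_of_maximal f z hzmax
  · rw [hfz]
    exact hy
  · exact ho z hzx hfz

end Groth.Agent.Helper14.ChevOpen
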