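import Mathlib
import Groth.Prelude.Def_EGA43
import Groth.Prelude.Def_CAlg2
import Groth.Agent.Lib.Helper14.ChevOpen

/-!
# Universal openness at a point implies openness at the point; criterion b) ⇒ a) of EGA IV 14.4.1
-/

set_option autoImplicit false
universe u
open AlgebraicGeometry CategoryTheory CategoryTheory.Limits EGA43 TopologicalSpace

namespace Groth.Agent.Helper14.ChevOpen

open Groth.Agent.Helper4.UOpen

theorem isOpenAt_of_isUnivOpenAt {X Y : Scheme.{u}} (f : X ⟶ Y) (x : X) (h : IsUnivOpenAt f x) :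
    IsOpenAt f.base x := by
  haveI : IsIso (pullback.fst f (𝟙 Y)) := inferInstance
  set x' := (inv (pullback.fst f (𝟙 Y))).base x with hx'
  have h1 : (pullback.fst f (𝟙 Y)).base x' = x := by
    rw [hx', ← Scheme.Hom.comp_apply, IsIso.inv_hom_id]
    rfl
  have h2 := h Y (𝟙 Y) x' h1
  have h3 : IsOpenAt f.base ((pullback.fst f (𝟙 Y)).base x') := by
    refine isOpenAt_of_square f.base (pullback.snd f (𝟙 Y)).base (pullback.fst f (𝟙 Y)).base id
      (pullback.fst f (𝟙 Y)).continuous IsOpenMap.id ?_ x' h2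
    intro w
    rw [← Scheme.Hom.comp_apply, pullback.condition, Category.comp_id]
    rfl
  rwa [h1] at h3

/-- EGA IV 14.4.1 b) ⇒ a) -/
theorem isUnivOpenAt_of_component {X Y : Scheme.{u}} [IsLocallyNoetherian Y] (f : X ⟶ Y)
    [LocallyOfFiniteType f] (x : X)
    (hmax : ∀ x' : X, f.base x' = f.base x → x' ⤳ x → x' = x)
    (hy : CAlg2.IsGeomUnibranch (Y.presheaf.stalk (f.base x)))
    (Z : Set X) (hZ : Z ∈ irreducibleComponents (X : Type u)) (hx : x ∈ Z)
    (η : Y) (hηmax : ∀ η' : Y, η' ⤳ η → η' = η) (hηy : η ⤳ f.base x)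
    (hdom : closure (f.base '' Z) = closure {η})
    (hdim : FlatMor.localDim ↥(Z ∩ f.base ⁻¹' {f.base x}) ⟨x, ⟨hx, rfl⟩⟩ =
      topologicalKrullDim ↥(Z ∩ f.base ⁻¹' {η})) : IsUnivOpenAt f x := by
  have hZcl : IsClosed Z := isClosed_of_mem_irreducibleComponents _ hZ
  obtain ⟨ξ, hξ⟩ := QuasiSober.sober hZ.1 hZcl
  have hξx : ξ ⤳ x := by
    rw [specializes_iff_mem_closure, hξ.def]
    exact hx
  have hcl : closure {f.base ξ} = closure {η} := by
    rw [← hdom, ← hξ.def]
    have h1 := closure_image_closure (s := ({ξ} : Set X)) f.continuous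
    rw [Set.image_singleton] at h1
    exact h1.symm
  have hfξ : f.base ξ = η := by
    have h1 : f.base ξ ⤳ η := by
      rw [specializes_iff_mem_closure, hcl]
      exact subset_closure rfl
    exact hηmax _ h1
  have hcomp : closure ({η} : Set Y) ∈ irreducibleComponents (Y : Type u) :=
    FibreClosure.closure_mem_irreducibleComponents_of_maximal η hηmax
  have hnb : closure {f.base ξ} ∈ nhds (f.base x) := by
    rw [hfξ]
    exact ChevNB.closure_mem_nhds_of_unique_component (f.base x) η hy.1.1 hcomp hηy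
  obtain ⟨nξ, hnξ⟩ := ResFieldBridge.exists_nat_trdeg_residueField f ξ
  have h1 := FibreClosure.topDim_closure_inter_fibre f ξ nξ hnξ
  rw [hξ.def, hfξ] at h1
  let T : Closeds X := ⟨Z, hZcl⟩
  have hxT : x ∈ (T : Set X) ∩ f.base ⁻¹' {f.base x} := ⟨hx, rfl⟩
  obtain ⟨z, n, hzT, hzx, hfz, -, hn, hld⟩ :=
    ClosedFibreDim.exists_maximal_trdeg_eq_localDim f T x hxT
  have hzeq := hmax z hfz hzx
  subst hzeq
  have h2 : (n : WithBot ℕ∞) = (nξ : WithBot ℕ∞) := by
    rw [← hld, ← h1]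
    exact hdim
  have h3 : n = nξ := by
    have : ((n : ℕ∞) : WithBot ℕ∞) = ((nξ : ℕ∞) : WithBot ℕ∞) := h2
    exact_mod_cast this
  refine ChevMain.isUnivOpenAt_of_trdeg_eq f z ξ hξx hnb (fun x' h1 h2 => hmax x' h2 h1) ?_ hy
  rw [hnξ, hn, h3]

end Groth.Agent.Helper14.ChevOpen
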