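import Mathlib
import Groth.Prelude.Def_EGA43
import Groth.Prelude.Def_CAlg2
import Groth.Agent.Lib.Helper14.ChevOpen2
import Groth.Agent.Lib.Helper14.UOpenAtDim
import Groth.Agent.Lib.Helper14.RestrictedChevalley

/-!
# Auxiliary lemmas for the fibrewise forms of Chevalley's criterion (EGA IV 14.4.2 ff.)
-/

set_option autoImplicit false
universe u
open AlgebraicGeometry CategoryTheory CategoryTheory.Limits EGA43 TopologicalSpace

namespace Groth.Agent.Helper14.ChevOpen

variable {X Y : Scheme.{u}} (f : X ⟶ Y) [LocallyOfFiniteType f]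

/-- local dimension of `Z ∩ X_y` at a maximal point of the fibre -/
theorem localDim_inter_of_maximal (Z : Set X) (hZcl : IsClosed Z) (z : X) (hz : z ∈ Z)
    (hmax : ∀ x' : X, f.base x' = f.base z → x' ⤳ z → x' = z) (n : ℕ)
    (hn : @Algebra.trdeg (Y.residueField (f.base z)) (X.residueField z) _ _
      (f.residueFieldMap z).hom.toAlgebra = n) :
    FlatMor.localDim ↥(Z ∩ f.base ⁻¹' {f.base z}) ⟨z, ⟨hz, rfl⟩⟩ = (n : WithBot ℕ∞) := by
  let T : Closeds X := ⟨Z, hZcl⟩
  have hzT : z ∈ (T : Set X) ∩ f.base ⁻¹' {f.base z} := ⟨hz, rfl⟩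
  obtain ⟨z₁, n₁, -, hz₁z, hfz₁, -, hn₁, hld⟩ :=
    ClosedFibreDim.exists_maximal_trdeg_eq_localDim f T z hzT
  have := hmax z₁ hfz₁ hz₁z
  subst this
  have h1 : n₁ = n := by
    have := hn₁.symm.trans hn
    exact_mod_cast this
  rw [← h1]
  exact hld

/-- local dimension of `Z ∩ X_y` at `x` when `Z` contains a generization of `x` in the fibre of
maximal transcendence degree -/
theorem localDim_inter_of_specializes (Z : Set X) (hZcl : IsClosed Z) (x z : X) (hz : z ∈ Z)
    (hx : x ∈ Z) (hzx : z ⤳ x) (n : ℕ)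
    (hn : @Algebra.trdeg (Y.residueField (f.base z)) (X.residueField z) _ _
      (f.residueFieldMap z).hom.toAlgebra = n)
    (hfd : FlatMor.fibreDimAt f x = (n : WithBot ℕ∞)) :
    FlatMor.localDim ↥(Z ∩ f.base ⁻¹' {f.base x}) ⟨x, ⟨hx, rfl⟩⟩ = (n : WithBot ℕ∞) := by
  let T : Closeds X := ⟨Z, hZcl⟩
  have hxT : x ∈ (T : Set X) ∩ f.base ⁻¹' {f.base x} := ⟨hx, rfl⟩
  apply le_antisymm
  · obtain ⟨z₁, n₁, -, hz₁x, hfz₁, -, hn₁, hld⟩ :=
      ClosedFibreDim.exists_maximal_trdeg_eq_localDim f T x hxT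
    have h1 := EquidimAt.trdeg_le_fibreDimAt f x z₁ hz₁x n₁ hn₁
    rw [hfd] at h1
    exact hld.le.trans h1
  · exact ClosedFibreDim.trdeg_le_localDim f T x hxT z hz hzx n hn

/-- from a lower bound on the dimension of `U ∩ X_η` to a point of large transcendence degree -/
theorem exists_trdeg_ge_of_le_dim (U : X.Opens) (η : Y) (d : ℕ)
    (h : (d : WithBot ℕ∞) ≤ topologicalKrullDim ↥((U : Set X) ∩ f.base ⁻¹' {η})) :
    ∃ (ξ : X) (m : ℕ), ξ ∈ U ∧ f.base ξ = η ∧
      @Algebra.trdeg (Y.residueField (f.base ξ)) (X.residueField ξ) _ _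
        (f.residueFieldMap ξ).hom.toAlgebra = m ∧ d ≤ m := by
  by_contra hcon
  push_neg at hcon
  have key : ∀ z : X, z ∈ U → f.base z = η → ∀ m : ℕ,
      @Algebra.trdeg (Y.residueField (f.base z)) (X.residueField z) _ _
        (f.residueFieldMap z).hom.toAlgebra = m → m < d := fun z hz hfz m hm => hcon z m hz hfz hm
  cases d with
  | zero =>
    have h1 : topologicalKrullDim ↥((U : Set X) ∩ f.base ⁻¹' {η}) ≤ ⊥ := by
      apply UOpenAtDim.dim_open_le_of_forall_trdeg f U η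
      intro z hz hfz m hm
      exact absurd (key z hz hfz m hm) (Nat.not_lt_zero _)
    have h2 := h.trans h1
    simp at h2
  | succ d' =>
    have h1 : topologicalKrullDim ↥((U : Set X) ∩ f.base ⁻¹' {η}) ≤ (d' : WithBot ℕ∞) := by
      apply UOpenAtDim.dim_open_le_of_forall_trdeg f U η
      intro z hz hfz m hm
      have := key z hz hfz m hm
      exact_mod_cast Nat.lt_succ_iff.mp this
    have h2 := h.trans h1
    have h3 : ((d' + 1 : ℕ) : WithBot ℕ∞) ≤ (d' : WithBot ℕ∞) := h2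
    have h4 : d' + 1 ≤ d' := by exact_mod_cast h3
    omega


end Groth.Agent.Helper14.ChevOpen
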