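import Mathlib
import Groth.Prelude.Def_EGA43
import Groth.Prelude.Def_CAlg2
import Groth.Agent.Lib.Helper14.ChevOpen3
import Groth.Agent.Lib.Helper14.QuasiSection
import Groth.Agent.Lib.Helper14.EquidimAtMk
import Groth.Agent.Lib.Helper14.FibreMax
import Groth.Agent.Lib.Helper14.FibreGeneric

/-!
# Quasi-sections and universal openness (EGA IV 14.5.9)
-/

set_option autoImplicit false
universe u
open AlgebraicGeometry CategoryTheory CategoryTheory.Limits EGA43 TopologicalSpace

namespace Groth.Agent.Helper14.ChevQS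

variable {X Y : Scheme.{u}} [IrreducibleSpace Y] [IsLocallyNoetherian Y] (f : X ⟶ Y)
  [LocallyOfFiniteType f]

set_option maxHeartbeats 800000 in
/-- a quasi-section through a point `x` closed in its fibre, lying on an irreducible component `Z`
of `X` dominating `Y` whose fibre at `x` has the dimension of its generic fibre -/
theorem exists_quasiSection_of_component (x : X)
    (hcl : ∀ x' : X, f.base x' = f.base x → x ⤳ x' → x' = x)
    (Z : Set X) (hZ : Z ∈ irreducibleComponents (X : Type u)) (hx : x ∈ Z)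
    (hdom : Dense (f.base '' Z)) (e : ℕ)
    (hdimx : FlatMor.localDim ↥(Z ∩ f.base ⁻¹' {f.base x}) ⟨x, ⟨hx, rfl⟩⟩ = (e : WithBot ℕ∞))
    (hdimη : topologicalKrullDim ↥(Z ∩ f.base ⁻¹' {genericPoint Y}) = (e : WithBot ℕ∞)) :
    ∃ (T : Scheme.{u}) (i : T ⟶ X), IsImmersion i ∧ IrreducibleSpace ↥T ∧ IsReduced T ∧
      x ∈ Set.range i.base ∧ LocallyOfFiniteType (i ≫ f) ∧ LocallyQuasiFinite (i ≫ f) ∧
      QuasiCompact (i ≫ f) ∧ IsDominant (i ≫ f) := by
  have hZcl : IsClosed Z := isClosed_of_mem_irreducibleComponents _ hZ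
  let T₀ : Closeds X := ⟨Z, hZcl⟩
  have hrange : Set.range (Scheme.IdealSheafData.vanishingIdeal T₀).subschemeι.base = Z :=
    ClosedFibreDim.range_subschemeι_vanishingIdeal T₀
  set W := (Scheme.IdealSheafData.vanishingIdeal T₀).subscheme with hW
  set ι : W ⟶ X := (Scheme.IdealSheafData.vanishingIdeal T₀).subschemeι with hι
  have hemb : Topology.IsEmbedding ι.base := ι.isEmbedding
  haveI : IrreducibleSpace W := by
    rw [irreducibleSpace_def]
    apply SectionComp.isIrreducible_of_image _ hemb.isInducing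
    rw [Set.top_eq_univ, Set.image_univ, hrange]
    exact hZ.1
  obtain ⟨x₀, hx₀⟩ : x ∈ Set.range ι.base := by rw [hrange]; exact hx
  set g := ι ≫ f with hg
  -- the generic point
  have hgdom : DenseRange g.base := by
    rw [DenseRange]
    have : Set.range g.base = f.base '' Z := by
      rw [← hrange]
      ext y
      constructor
      · rintro ⟨w, rfl⟩
        exact ⟨ι.base w, ⟨w, rfl⟩, rfl⟩
      · rintro ⟨_, ⟨w, rfl⟩, rfl⟩
        exact ⟨w, rfl⟩
    rw [this]
    exact hdom
  have hgξ : g.base (genericPoint W) = genericPoint Y := FibreGeneric.map_genericPoint g hgdom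
  have hιξ : closure {ι.base (genericPoint W)} = Z := by
    have h1 := closure_image_closure (s := ({genericPoint W} : Set W)) ι.continuous
    rw [Set.image_singleton, (genericPoint_spec W).def, Set.image_univ, hrange,
      hZcl.closure_eq] at h1
    exact h1.symm
  -- transcendence degree at the generic point
  obtain ⟨E, hE⟩ := ResFieldBridge.exists_nat_trdeg_residueField g (genericPoint W)
  have hE' : @Algebra.trdeg (Y.residueField (f.base (ι.base (genericPoint W))))
      (X.residueField (ι.base (genericPoint W))) _ _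
      (f.residueFieldMap (ι.base (genericPoint W))).hom.toAlgebra = E := by
    rw [← ClosedFibreDim.trdeg_subschemeι f _ (genericPoint W)]
    exact hE
  have hEe : E = e := by
    have h1 := FibreClosure.topDim_closure_inter_fibre f (ι.base (genericPoint W)) E hE'
    rw [hιξ] at h1
    have h2 : f.base (ι.base (genericPoint W)) = genericPoint Y := hgξ
    rw [h2, hdimη] at h1
    have : ((e : ℕ∞) : WithBot ℕ∞) = ((E : ℕ∞) : WithBot ℕ∞) := h1
    exact_mod_cast this.symm
  -- fibre dimension at `x₀`
  have hfd : FlatMor.fibreDimAt g x₀ = (e : WithBot ℕ∞) := by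
    have hmem : ι.base x₀ ∈ (T₀ : Set X) ∩ f.base ⁻¹' {f.base x} := by
      rw [hx₀]
      exact ⟨hx, rfl⟩
    have h1 := ClosedFibreDim.localDim_inter_fibre_eq f T₀ x₀ (f.base x) hmem
    rw [← h1, ← hdimx]
    congr 1
    exact Subtype.ext hx₀
  -- the open set where the fibre dimension is at most `e`
  have hclosed := OpenGenericLift.isClosed_le_fibreDimAt g (e + 1)
  let U : W.Opens := ⟨{w | ((e + 1 : ℕ) : WithBot ℕ∞) ≤ FlatMor.fibreDimAt g w}ᶜ, hclosed.isOpen_compl⟩
  have hx₀U : x₀ ∈ U := by
    change ¬ ((e + 1 : ℕ) : WithBot ℕ∞) ≤ FlatMor.fibreDimAt g x₀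
    rw [hfd]
    intro h
    have : e + 1 ≤ e := by exact_mod_cast h
    omega
  have hEq : IsEquidimAt g x₀ := by
    refine EquidimAt.of_spec g x₀ e U hx₀U ?_ ?_
    · intro ξ _ hξmax
      have hξ : ξ = genericPoint W := FibreClosure.eq_genericPoint_of_maximal ξ hξmax
      rw [hξ, hgξ]
      exact ⟨fun η' hη' => (hη'.antisymm (genericPoint_specializes _)).eq,
        genericPoint_specializes _⟩
    · intro z hzU hzmax
      obtain ⟨m, hm⟩ := ResFieldBridge.exists_nat_trdeg_residueField g z
      have h1 := FibreMax.fibreDimAt_eq_of_maximal g z hzmax m hm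
      have h2 : ¬ ((e + 1 : ℕ) : WithBot ℕ∞) ≤ FlatMor.fibreDimAt g z := hzU
      rw [h1] at h2
      have h3 : m ≤ e := by
        by_contra hcon
        apply h2
        have : e + 1 ≤ m := by omega
        exact_mod_cast this
      obtain ⟨x₁, -, hx₁z, hfx₁, n₁, hn₁, hle⟩ :=
        RestrictedChevalley.rc g z (genericPoint W) (genericPoint_specializes z) E hE
      have := hzmax x₁ hfx₁ hx₁z
      subst this
      have h4 : n₁ = m := by
        have := hn₁.symm.trans hm
        exact_mod_cast this
      have h5 : m = e := by omega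
      rw [hm, h5]
  have hclg : ∀ x' : W, g.base x' = g.base x₀ → x₀ ⤳ x' → x' = x₀ := by
    intro x' hgx' hx'
    have h1 : ι.base x₀ ⤳ ι.base x' := hx'.map ι.continuous
    rw [hx₀] at h1
    have h2 : f.base (ι.base x') = f.base x := by
      have : f.base (ι.base x') = f.base (ι.base x₀) := hgx'
      rw [this, hx₀]
    have h3 := hcl _ h2 h1
    apply hemb.injective
    rw [h3, hx₀]
  obtain ⟨T, i, hi, hirr, hred, hxT, h1, h2, h3, h4⟩ :=
    QuasiSection.exists_quasiSection e W g x₀ hEq hclg hfd
  have hassoc : (i ≫ ι) ≫ f = i ≫ g := Category.assoc _ _ _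
  refine ⟨T, i ≫ ι, inferInstance, hirr, hred, ?_, ?_, ?_, ?_, ?_⟩
  · obtain ⟨t, ht⟩ := hxT
    exact ⟨t, by rw [Scheme.Hom.comp_apply, ht, hx₀]⟩
  · rw [hassoc]; exact h1
  · rw [hassoc]; exact h2
  · rw [hassoc]; exact h3
  · rw [hassoc]; exact h4

end Groth.Agent.Helper14.ChevQS
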