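import Mathlib
import Groth.Prelude.Def_EGA43
import Groth.Prelude.Def_CAlg2
import Groth.Agent.Lib.Helper14.ChevQS

/-!
# Quasi-sections and openness at the points of a fibre (EGA IV 14.5.9 d) ⇒ b))
-/

set_option autoImplicit false
universe u
open AlgebraicGeometry CategoryTheory CategoryTheory.Limits EGA43 TopologicalSpace

namespace Groth.Agent.Helper14.ChevQS

open Groth.Agent.Helper4.UOpen

/-- a dominant quasi-finite quasi-section through `x` over a geometrically unibranch point forces
`f` to be open at `x` -/
theorem isOpenAt_of_quasiSection {X Y T : Scheme.{u}} [IrreducibleSpace Y] (f : X ⟶ Y) (i : T ⟶ X)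
    [IrreducibleSpace T] [LocallyOfFiniteType (i ≫ f)] [LocallyQuasiFinite (i ≫ f)]
    [IsDominant (i ≫ f)] (t : T)
    (hy : CAlg2.IsGeomUnibranch (Y.presheaf.stalk (f.base (i.base t)))) :
    IsOpenAt f.base (i.base t) := by
  set g := i ≫ f with hg
  have hgξ : g.base (genericPoint T) = genericPoint Y :=
    FibreGeneric.map_genericPoint g g.denseRange
  have hnb : closure {g.base (genericPoint T)} ∈ nhds (g.base t) := by
    rw [hgξ, (genericPoint_spec Y).def]
    exact Filter.univ_mem
  have hx : nhdsWithin t (g.base ⁻¹' {g.base t}) = pure t :=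
    isDiscrete_iff_nhdsWithin.mp (g.isDiscrete_preimage_singleton (g.base t)) t rfl
  have hU := ChevQF.isUnivOpenAt_of_isolated_of_geomUnibranch g t (genericPoint T)
    (genericPoint_specializes t) hnb hx hy
  have hO := ChevOpen.isOpenAt_of_isUnivOpenAt g t hU
  refine isOpenAt_of_square f.base g.base i.base id i.continuous IsOpenMap.id ?_ t hO
  intro w
  rfl

/-- points closed in the fibre are dense enough: openness at the closed points of a fibre implies
openness at all points of the fibre -/
theorem isOpenAt_of_closedPoints {X Y : Scheme.{u}} (f : X ⟶ Y) [LocallyOfFiniteType f] (y : Y)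
    (h : ∀ x : X, f.base x = y → (∀ x' : X, f.base x' = y → x ⤳ x' → x' = x) →
      IsOpenAt f.base x) (x : X) (hx : f.base x = y) : IsOpenAt f.base x := by
  subst hx
  haveI : LocallyOfFiniteType (f.fiberToSpecResidueField (f.base x)) :=
    MorphismProperty.pullback_snd _ _ inferInstance
  haveI : JacobsonSpace ↥(f.fiber (f.base x)) :=
    LocallyOfFiniteType.jacobsonSpace (f.fiberToSpecResidueField (f.base x))
  intro U hU
  obtain ⟨O, hOU, hO, hxO⟩ := mem_nhds_iff.mp hU
  set F := f.fiber (f.base x)
  set φ := f.fiberι (f.base x)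
  have hφ : Topology.IsEmbedding φ.base := φ.isEmbedding
  let S : Set F := φ.base ⁻¹' O ∩ closure {f.asFiber x}
  have hSne : S.Nonempty := ⟨f.asFiber x, by
    refine ⟨?_, subset_closure rfl⟩
    change φ.base (f.asFiber x) ∈ O
    rw [f.fiberι_asFiber]
    exact hxO⟩
  have hSlc : IsLocallyClosed S :=
    (hO.preimage φ.continuous).isLocallyClosed.inter isClosed_closure.isLocallyClosed
  obtain ⟨c, ⟨hcO, hccl⟩, hcclosed⟩ := nonempty_inter_closedPoints hSne hSlc
  have hcF : f.base (φ.base c) = f.base x := by
    have : φ.base c ∈ Set.range φ.base := ⟨c, rfl⟩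
    rw [Scheme.Hom.range_fiberι] at this
    exact this
  have hxc : x ⤳ φ.base c := by
    have h1 : f.asFiber x ⤳ c := specializes_iff_mem_closure.mpr hccl
    have h2 := h1.map φ.continuous
    rwa [f.fiberι_asFiber] at h2
  have hcmax : ∀ x' : X, f.base x' = f.base x → φ.base c ⤳ x' → x' = φ.base c := by
    intro x' hfx' hx'
    have hmem : x' ∈ Set.range φ.base := by
      rw [Scheme.Hom.range_fiberι]
      exact hfx'
    obtain ⟨c', rfl⟩ := hmem
    have h1 : c ⤳ c' := hφ.isInducing.specializes_iff.mp hx'
    have h2 : c' ∈ ({c} : Set F) := by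
      have hcl : IsClosed ({c} : Set F) := hcclosed
      exact h1.mem_closed hcl rfl
    rw [Set.mem_singleton_iff.mp h2]
  have h1 := h (φ.base c) hcF hcmax
  have h2 := h1 O (hO.mem_nhds hcO)
  rw [hcF] at h2
  exact Filter.mem_of_superset h2 (Set.image_mono hOU)

end Groth.Agent.Helper14.ChevQS
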