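import Mathlib
import Groth.Prelude.Def_CAlgX
import Groth.Agent.Lib.Helper26.H1QR1

/-!
# `J ∩ I² = I J` when `I / J` is generated by an `H_1`-regular sequence (helper14)
-/

set_option autoImplicit false
set_option linter.unusedSectionVars false
set_option linter.unusedVariables false

universe u

namespace Groth.Agent.Helper14.CnH1

open Groth.Agent.Helper26.H1QR

variable {A B : Type u} [CommRing A] [CommRing B] (π : A →+* B) (hπ : Function.Surjective π)
  {c : ℕ} (f : Fin c → B) (hf : CAlgX.IsH1Regular f)

include hπ hf in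
theorem inf_sq_le_mul :
    RingHom.ker π ⊓ ((Ideal.span (Set.range f)).comap π) ^ 2 ≤
      (Ideal.span (Set.range f)).comap π * RingHom.ker π := by
  classical
  set J := RingHom.ker π with hJ
  set K := Ideal.span (Set.range f) with hK
  set I := K.comap π with hI
  have hJI : J ≤ I := by
    intro y hy
    change π y ∈ K
    rw [(RingHom.mem_ker).1 hy]
    exact K.zero_mem
  -- lifts of the generators
  choose g hg using fun i => hπ (f i)
  have hgI : ∀ i, g i ∈ I := fun i => by
    change π (g i) ∈ K
    rw [hg]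
    exact Ideal.subset_span ⟨i, rfl⟩
  -- Step 1: every element of `I` is a combination of the `g i` modulo `J`
  have step1 : ∀ y ∈ I, ∃ (w : A) (a : Fin c → A), w ∈ J ∧ y = w + ∑ i, a i * g i := by
    intro y hy
    have hy' : π y ∈ Ideal.span (Set.range f) := hy
    obtain ⟨b, hb⟩ := (Ideal.mem_span_range_iff_exists_fun).1 hy'
    choose a ha using fun i => hπ (b i)
    refine ⟨y - ∑ i, a i * g i, a, ?_, by ring⟩
    rw [hJ, RingHom.mem_ker, map_sub, map_sum, ← hb, sub_eq_zero]
    refine Finset.sum_congr rfl fun i _ => ?_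
    rw [map_mul, ha, hg]
  -- Step 2: elements of `I²`
  have step2 : ∀ x ∈ I ^ 2, ∃ (u : A) (h : Fin c → A), u ∈ I * J ∧ (∀ i, h i ∈ I) ∧
      x = u + ∑ i, h i * g i := by
    intro x hx
    rw [pow_two] at hx
    refine Submodule.mul_induction_on hx ?_ ?_
    · intro y hy z hz
      obtain ⟨w, a, hw, rfl⟩ := step1 z hz
      refine ⟨y * w, fun i => y * a i, Ideal.mul_mem_mul hy hw, fun i => I.mul_mem_right _ hy, ?_⟩
      rw [mul_add, Finset.mul_sum]
      congr 1
      refine Finset.sum_congr rfl fun i _ => ?_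
      ring
    · rintro x y ⟨u, h, hu, hh, rfl⟩ ⟨u', h', hu', hh', rfl⟩
      refine ⟨u + u', fun i => h i + h' i, (I * J).add_mem hu hu',
        fun i => I.add_mem (hh i) (hh' i), ?_⟩
      simp only [add_mul, Finset.sum_add_distrib]
      ring
  rintro x ⟨hxJ, hxI⟩
  obtain ⟨u, h, hu, hh, rfl⟩ := step2 x hxI
  refine (I * J).add_mem hu ?_
  have huJ : u ∈ J := (Ideal.mul_le_right : I * J ≤ J) hu
  -- the relation in `B`
  have hrel : ∑ i, π (h i) * f i = 0 := by
    have h1 : π (u + ∑ i, h i * g i) = 0 := hxJ
    rw [map_add, (RingHom.mem_ker).1 huJ, zero_add, map_sum] at h1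
    rw [← h1]
    refine Finset.sum_congr rfl fun i _ => ?_
    rw [map_mul, hg]
  obtain ⟨t, ht0, htanti, hta⟩ := h1_of_isH1Regular hf (fun i => π (h i)) hrel
  -- antisymmetric lift
  let σ : B → A := Function.surjInv hπ
  have hσ : ∀ b, π (σ b) = b := Function.surjInv_eq hπ
  let T : Fin c → Fin c → A := fun i l =>
    if i < l then σ (t i l) else if l < i then - σ (t l i) else 0
  have hT0 : ∀ i, T i i = 0 := fun i => by simp [T]
  have hTanti : ∀ i l, T i l = - T l i := by
    intro i l
    rcases lt_trichotomy i l with hil | hil | hil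
    · have h1 : ¬ l < i := not_lt.2 hil.le
      simp [T, hil, h1]
    · subst hil
      simp [T]
    · have h1 : ¬ i < l := not_lt.2 hil.le
      simp [T, hil, h1]
  have hπT : ∀ i l, π (T i l) = t i l := by
    intro i l
    rcases lt_trichotomy i l with hil | hil | hil
    · simp [T, hil, hσ]
    · subst hil
      simp [T, ht0]
    · have h1 : ¬ i < l := not_lt.2 hil.le
      simp only [T, h1, if_false, hil, if_true, map_neg, hσ]
      exact (htanti i l).symm
  -- the error terms
  have he : ∀ i, h i - ∑ l, T i l * g l ∈ J := by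
    intro i
    rw [hJ, RingHom.mem_ker, map_sub, map_sum, sub_eq_zero]
    have := hta i
    simp only at this
    rw [this]
    refine Finset.sum_congr rfl fun l _ => ?_
    rw [map_mul, hπT, hg]
  have hzero : ∑ i, ∑ l, T i l * g l * g i = 0 := by
    apply alt_sum_zero (fun i l => T i l * g l * g i)
    · intro i
      rw [hT0, zero_mul, zero_mul]
    · intro i l
      rw [hTanti i l]
      ring
  have hsum : ∑ i, h i * g i = ∑ i, (h i - ∑ l, T i l * g l) * g i := by
    have h2 : ∑ i, (h i - ∑ l, T i l * g l) * g i =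
        ∑ i, h i * g i - ∑ i, ∑ l, T i l * g l * g i := by
      rw [← Finset.sum_sub_distrib]
      refine Finset.sum_congr rfl fun i _ => ?_
      rw [sub_mul, Finset.sum_mul]
    rw [h2, hzero, sub_zero]
  rw [hsum]
  refine (I * J).sum_mem fun i _ => ?_
  exact Ideal.mul_mem_mul_rev (hgI i) (he i)

end Groth.Agent.Helper14.CnH1
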