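import Mathlib
import Groth.Prelude.Def_RegImm
import Groth.Agent.Lib.Helper28.RegBC4
import Groth.Agent.Lib.Helper28.RegImmReg

/-!
# Local data of regular immersions and their flat base change (helper14; after helper28's `RegBC4`)
-/

set_option autoImplicit false
universe u
open CategoryTheory CategoryTheory.Limits AlgebraicGeometry TopologicalSpace
open RingTheory.Sequence

namespace Groth.Agent.Helper14.RegImmLim

open Groth.Agent.Helper28 Groth.Agent.Helper28.RegBC

/-- base change of a closed immersion over an affine open: closed immersion over any affine open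
inside the preimage, and the kernel is the extended ideal. -/
theorem ker_base_change {Y X X' Y' : Scheme.{u}} (i : Y ⟶ X) (g : X' ⟶ X) (i' : Y' ⟶ X')
    (g' : Y' ⟶ Y) (hsq : IsPullback g' i' i g) (U : X.Opens) (hU : IsAffineOpen U)
    [hcl : IsClosedImmersion (i ∣_ U)] (U' : X'.Opens) (hU' : IsAffineOpen U')
    (hle : U' ≤ g ⁻¹ᵁ U) :
    IsClosedImmersion (i' ∣_ U') ∧
      RingHom.ker (i'.app U').hom = (RingHom.ker (i.app U).hom).map (g.appLE U U' hle).hom := by
  have hcond : ∀ p : Y', i (g' p) = g (i' p) := by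
    intro p
    have := congrArg (fun t : Y' ⟶ X => t p) hsq.w
    simpa using this
  have hUX : IsAffineOpen (i ⁻¹ᵁ U) := RegImmStalk.isAffineOpen_preimage i U hU
  have hsurj : Function.Surjective (i.app U).hom := RegImmStalk.app_surjective i U hU
  have hUY : i' ⁻¹ᵁ U' = g' ⁻¹ᵁ (i ⁻¹ᵁ U) ⊓ i' ⁻¹ᵁ U' := by
    symm
    apply inf_eq_right.2
    intro p hp
    change i (g' p) ∈ U
    rw [hcond]
    exact hle hp
  have hiso := isIso_pushoutSection_of_isAffineOpen hsq hle (le_refl (i ⁻¹ᵁ U)) hUY hU hU' hUX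
  have hpo := (isIso_pushoutSection_iff hsq hle (le_refl (i ⁻¹ᵁ U)) hUY).1 hiso
  have hker' := IdealComapOld.ker_inl_of_isPushout _ _ _ _ hpo.flip (by
    rw [← Scheme.Hom.app_eq_appLE]; exact hsurj)
  rw [← Scheme.Hom.app_eq_appLE, ← Scheme.Hom.app_eq_appLE] at hker'
  have hcl' : IsClosedImmersion (i' ∣_ U') := by
    have hpb := Scheme.Hom.isPullback_resLE hsq hle (le_refl (i ⁻¹ᵁ U)) hUY
    have h1 : IsClosedImmersion (i.resLE U (i ⁻¹ᵁ U) le_rfl) := by
      rw [Scheme.Hom.resLE_eq_morphismRestrict]; infer_instance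
    have h2 := MorphismProperty.of_isPullback hpb h1
    rwa [Scheme.Hom.resLE_eq_morphismRestrict] at h2
  exact ⟨hcl', hker'⟩

/-- local data of a regular immersion over an affine open `U`: closed immersion over `U`, and the
kernel is generated by a weakly regular sequence. -/
def Good {Y X : Scheme.{u}} (i : Y ⟶ X) (U : X.Opens) : Prop :=
  IsAffineOpen U ∧ IsClosedImmersion (i ∣_ U) ∧
    ∃ rs : List Γ(X, U), IsWeaklyRegular Γ(X, U) rs ∧ RingHom.ker (i.app U).hom = Ideal.ofList rs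

theorem ker_ne_top {Y X : Scheme.{u}} (i : Y ⟶ X) (U : X.Opens) (y : Y) (hy : i y ∈ U) :
    RingHom.ker (i.app U).hom ≠ ⊤ := by
  intro htop
  have h1 : (1 : Γ(X, U)) ∈ RingHom.ker (i.app U).hom := htop ▸ Submodule.mem_top
  rw [RingHom.mem_ker, map_one] at h1
  have h2 : Y.basicOpen (1 : Γ(Y, i ⁻¹ᵁ U)) = Y.basicOpen (0 : Γ(Y, i ⁻¹ᵁ U)) := by
    rw [h1]
  rw [Scheme.basicOpen_zero, Scheme.basicOpen_one] at h2
  have h3 : y ∈ i ⁻¹ᵁ U := hy
  rw [h2] at h3
  exact h3.elim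

theorem regAt_of_good {Y X : Scheme.{u}} (i : Y ⟶ X) (U : X.Opens) (h : Good i U) (y : Y)
    (hy : i y ∈ U) : RegImm.IsRegularImmersionAt RegImm.Kind.regular i y := by
  obtain ⟨hU, hcl, rs, hrs, hker⟩ := h
  refine ⟨⟨U, hU⟩, hy, hcl, rs, ?_, hker⟩
  change IsRegular Γ(X, U) rs
  refine ⟨hrs, ?_⟩
  intro htop
  apply ker_ne_top i U y hy
  rw [hker]
  have : Ideal.ofList rs • (⊤ : Submodule Γ(X, U) Γ(X, U)) = Ideal.ofList rs := by
    rw [smul_eq_mul, Ideal.mul_top]
  rw [← this, ← htop]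

theorem exists_good_of_regAt {Y X : Scheme.{u}} (i : Y ⟶ X) (y : Y)
    (h : RegImm.IsRegularImmersionAt RegImm.Kind.regular i y) :
    ∃ U : X.Opens, Good i U ∧ i y ∈ U := by
  obtain ⟨⟨U, hU⟩, hy, hcl, rs, hrs, hker⟩ := h
  have hrs' : IsRegular Γ(X, U) rs := hrs
  exact ⟨U, ⟨hU, hcl, rs, hrs'.toIsWeaklyRegular, hker⟩, hy⟩

/-- flat base change of good data, to any affine open inside the preimage -/
theorem good_base_change {Y X X' Y' : Scheme.{u}} (i : Y ⟶ X) (g : X' ⟶ X) [Flat g]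
    (i' : Y' ⟶ X') (g' : Y' ⟶ Y) (hsq : IsPullback g' i' i g) (U : X.Opens) (h : Good i U)
    (U' : X'.Opens) (hU' : IsAffineOpen U') (hle : U' ≤ g ⁻¹ᵁ U) : Good i' U' := by
  obtain ⟨hU, hcl, rs, hrs, hker⟩ := h
  haveI := hcl
  obtain ⟨hcl', hker'⟩ := ker_base_change i g i' g' hsq U hU U' hU' hle
  letI : Algebra Γ(X, U) Γ(X', U') := (g.appLE U U' hle).hom.toAlgebra
  haveI : Module.Flat Γ(X, U) Γ(X', U') := g.flat_appLE hU hU' hle
  refine ⟨hU', hcl', rs.map (g.appLE U U' hle).hom, IsWeaklyRegular.of_flat hrs, ?_⟩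
  rw [hker', hker, Ideal.map_ofList]

/-- good data restrict to smaller affine opens -/
theorem good_of_le {Y X : Scheme.{u}} (i : Y ⟶ X) (U : X.Opens) (h : Good i U)
    (U' : X.Opens) (hU' : IsAffineOpen U') (hle : U' ≤ U) : Good i U' :=
  good_base_change i (𝟙 X) i (𝟙 Y) (IsPullback.of_horiz_isIso ⟨by simp⟩) U h U' hU' hle

end Groth.Agent.Helper14.RegImmLim
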