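import Mathlib
import Groth.Agent.Lib.Helper18.NrmSeq
import Groth.Agent.Lib.Helper14.CnH1A
import Groth.Agent.Lib.Helper28.KindMono
import Groth.Agent.Lib.Helper28.RegBC4
import Groth.Agent.Lib.Helper14.RegImmLimA

/-!
# Injectivity of `j^* C_{Y/X} → C_{Y'/X}` for an `H_1`-regular immersion `j : Y' → Y` (helper14)
-/

set_option autoImplicit false
set_option linter.style.haveILetI false
set_option linter.unusedSectionVars false
set_option linter.unusedVariables false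
set_option maxRecDepth 8000
universe u
open CategoryTheory CategoryTheory.Limits AlgebraicGeometry TopologicalSpace Opposite TensorProduct

namespace Groth.Agent.Helper14.CnH1

open OmegaSh Groth.Agent.Helper18.DerLib Groth.Agent.Helper18.OmegaSec
  Groth.Agent.Helper18.Rec Groth.Agent.Helper18.ConormalImm
  Groth.Agent.Helper13.EffCartier Groth.Agent.Helper13.Pullback Groth.Agent.Helper18.CnSeq
  Groth.Agent.Helper18.NrmSeq

variable {Y' Y X : Scheme.{u}} (f : Y ⟶ X) [IsImmersion f] [QuasiCompact f]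
    (j : Y' ⟶ Y) [IsImmersion j] [QuasiCompact j]
    (φ₁ : (Scheme.Modules.pullback j).obj (Omega.conormal f) ⟶ Omega.conormal (j ≫ f))
    (hφ₁ : OmegaSh.IsConormalMap (j ≫ f) f (𝟙 X) j φ₁)

section Chart

variable {V : X.Opens} (hV : IsAffineOpen V) (hVf : V ≤ f.coborderRange)
  (hVjf : V ≤ (j ≫ f).coborderRange) (hUj : f ⁻¹ᵁ V ≤ j.coborderRange)

include hφ₁ hV hVf hVjf hUj in
set_option maxHeartbeats 1600000 in
theorem injective_phi1_app
    (hH : RingHom.ker (f.app V).hom ⊓ (RingHom.ker ((j ≫ f).app V).hom) ^ 2 ≤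
      RingHom.ker ((j ≫ f).app V).hom * RingHom.ker (f.app V).hom) :
    Function.Injective (φ₁.app (j ⁻¹ᵁ (f ⁻¹ᵁ V))) := by
  have hU : IsAffineOpen (f ⁻¹ᵁ V) := isAffineOpen_preimage f hV hVf
  have hT : IsAffineOpen (j ⁻¹ᵁ (f ⁻¹ᵁ V)) := isAffineOpen_preimage j hU hUj
  letI algBC : Algebra Γ(Y, f ⁻¹ᵁ V) Γ(Y', j ⁻¹ᵁ (f ⁻¹ᵁ V)) :=
    (j.appLE (f ⁻¹ᵁ V) (j ⁻¹ᵁ (f ⁻¹ᵁ V)) le_rfl).hom.toAlgebra
  have halgBC : ∀ b : Γ(Y, f ⁻¹ᵁ V),
      algebraMap Γ(Y, f ⁻¹ᵁ V) Γ(Y', j ⁻¹ᵁ (f ⁻¹ᵁ V)) b = j.app (f ⁻¹ᵁ V) b := fun b => by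
    change j.appLE (f ⁻¹ᵁ V) (j ⁻¹ᵁ (f ⁻¹ᵁ V)) le_rfl b = _
    rw [Scheme.Hom.appLE_eq_app]
  have hBC : Function.Surjective (algebraMap Γ(Y, f ⁻¹ᵁ V) Γ(Y', j ⁻¹ᵁ (f ⁻¹ᵁ V))) := by
    intro c
    obtain ⟨b, hb⟩ := app_surjective j hU hUj c
    exact ⟨b, (halgBC b).trans hb⟩
  haveI qcf : (Omega.conormal f).IsQuasicoherent := inferInstance
  rw [← AddMonoidHom.coe_coe, injective_iff_map_eq_zero]
  intro n hn
  -- `n` is the pullback of a section `m` of the conormal sheaf of `f`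
  let α := sectionsPullbackEquiv j (Omega.conormal f) hT hU le_rfl
  obtain ⟨m, hm⟩ := TensorProduct.mk_surjective Γ(Y, f ⁻¹ᵁ V) Γ(Omega.conormal f, f ⁻¹ᵁ V)
    Γ(Y', j ⁻¹ᵁ (f ⁻¹ᵁ V)) hBC (α n)
  have hn_eq : n = pullSect j (Omega.conormal f) (f ⁻¹ᵁ V) m := by
    apply α.injective
    rw [← hm]
    have h1 := sectionsPullbackEquiv_pullRes j (Omega.conormal f) hT hU le_rfl m
    rw [pullRes_refl] at h1
    exact h1.symm
  obtain ⟨t, rfl⟩ := exists_conormalSect_eq f hV hVf m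
  obtain ⟨s, hs⟩ := exists_lift_f f j V t
  have h1 : conormalSect (j ≫ f) V s = 0 := by
    rw [← phi1_spec f j φ₁ hφ₁ V t s hs, ← hn_eq]
    exact hn
  have h2 : ιlin (j ≫ f) V s ∈ (RingHom.ker ((j ≫ f).app V).hom) ^ 2 :=
    ιlin_mem_sq (j ≫ f) hV hVjf s h1
  have h3 : ιlin f V t ∈ RingHom.ker (f.app V).hom :=
    Groth.Agent.Helper18.RecCS.app_idealSect f V t
  have h4 : ιlin f V t = ιlin (j ≫ f) V s := hs.symm
  have h5 : ιlin f V t ∈ RingHom.ker ((j ≫ f).app V).hom * RingHom.ker (f.app V).hom :=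
    hH ⟨h3, h4 ▸ h2⟩
  -- `t ∈ I • ⊤`
  have ht_mem : t ∈ (RingHom.ker ((j ≫ f).app V).hom) •
      (⊤ : Submodule Γ(X, V) Γ(ClSub.idealMod f.ker, V)) := by
    have h7 : ιlin f V t ∈ Submodule.map (ιlin f V)
        (RingHom.ker ((j ≫ f).app V).hom • ⊤) := by
      rw [Submodule.map_smul'', map_ιlin_top f hV]
      exact h5
    obtain ⟨s₁, hs₁, hs₁'⟩ := h7
    rw [← ιlin_injective f V hs₁']
    exact hs₁
  rw [hn_eq]
  refine Submodule.smul_induction_on ht_mem ?_ ?_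
  · intro a ha t' _
    have ha0 : j.app (f ⁻¹ᵁ V) (f.app V a) = 0 := ha
    have e1 : conormalSect f V (a • t') = f.app V a • conormalSect f V t' :=
      pullSect_smul f (ClSub.idealMod f.ker) V a t'
    rw [e1, pullSect_smul j (Omega.conormal f) (f ⁻¹ᵁ V) (f.app V a) (conormalSect f V t'), ha0,
      zero_smul]
  · intro x y hx hy
    rw [map_add, map_add, hx, hy, add_zero]

end Chart

end Groth.Agent.Helper14.CnH1
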