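import Mathlib
import Groth.Agent.Lib.Helper14.CnH1B

/-!
# The conormal sequence of `Y' → Y → X` is left exact when `Y' → Y` is `H_1`-regular (helper14)
-/

set_option autoImplicit false
set_option linter.style.haveILetI false
set_option linter.unusedSectionVars false
set_option linter.unusedVariables false
set_option maxRecDepth 8000
universe u
open CategoryTheory CategoryTheory.Limits AlgebraicGeometry TopologicalSpace Opposite TensorProduct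

namespace Groth.Agent.Helper14.CnH1

open OmegaSh Groth.Agent.Helper18.DerLib Groth.Agent.Helper18.OmegaSec
  Groth.Agent.Helper18.Rec Groth.Agent.Helper18.ConormalImm
  Groth.Agent.Helper13.EffCartier Groth.Agent.Helper13.Pullback Groth.Agent.Helper18.CnSeq
  Groth.Agent.Helper18.NrmSeq

variable {Y' Y X : Scheme.{u}} (f : Y ⟶ X) [IsImmersion f] [QuasiCompact f]
    (j : Y' ⟶ Y) [IsImmersion j] [QuasiCompact j]
    (φ₁ : (Scheme.Modules.pullback j).obj (Omega.conormal f) ⟶ Omega.conormal (j ≫ f))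
    (hφ₁ : OmegaSh.IsConormalMap (j ≫ f) f (𝟙 X) j φ₁)
    (φ₂ : (Scheme.Modules.pullback (𝟙 Y')).obj (Omega.conormal (j ≫ f)) ⟶ Omega.conormal j)
    (hφ₂ : OmegaSh.IsConormalMap j (j ≫ f) f (𝟙 Y') φ₂)

theorem range_get_eq {R : Type u} [CommRing R] (l : List R) :
    Ideal.span (Set.range l.get) = Ideal.ofList l := by
  unfold Ideal.ofList
  congr 1
  ext x
  simp only [Set.mem_range, Set.mem_setOf_eq]
  exact (List.mem_iff_get).symm

omit [QuasiCompact f] [QuasiCompact j] in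
set_option maxHeartbeats 1600000 in
theorem exists_chart_h1 (hj : ∀ y', RegImm.IsRegularImmersionAt .h1 j y') (y' : Y') :
    ∃ V : X.Opens, IsAffineOpen V ∧ V ≤ f.coborderRange ∧ V ≤ (j ≫ f).coborderRange ∧
      f ⁻¹ᵁ V ≤ j.coborderRange ∧ y' ∈ j ⁻¹ᵁ (f ⁻¹ᵁ V) ∧
      RingHom.ker (f.app V).hom ⊓ (RingHom.ker ((j ≫ f).app V).hom) ^ 2 ≤
        RingHom.ker ((j ≫ f).app V).hom * RingHom.ker (f.app V).hom := by
  obtain ⟨⟨U, hUaff⟩, hzU, hclU, rs, hrs, hker⟩ := hj y'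
  have hrs1 : CAlgX.IsH1Regular rs.get := hrs
  obtain ⟨W₁, hW₁⟩ : ∃ W : X.Opens, f ⁻¹ᵁ W = j.coborderRange := by
    obtain ⟨s, hs, hs'⟩ := f.isEmbedding.isInducing.isOpen_iff.1 j.coborderRange.2
    exact ⟨⟨s, hs⟩, Opens.ext hs'⟩
  obtain ⟨W₂, hW₂⟩ : ∃ W : X.Opens, f ⁻¹ᵁ W = U := by
    obtain ⟨s, hs, hs'⟩ := f.isEmbedding.isInducing.isOpen_iff.1 U.2
    exact ⟨⟨s, hs⟩, Opens.ext hs'⟩
  have hx : f (j y') ∈ f.coborderRange ⊓ (j ≫ f).coborderRange ⊓ W₁ ⊓ W₂ := by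
    refine ⟨⟨⟨subset_coborder (Set.mem_range_self (j y')), ?_⟩, ?_⟩, ?_⟩
    · exact subset_coborder (Set.mem_range_self (f := (j ≫ f)) y')
    · have : j y' ∈ f ⁻¹ᵁ W₁ := by
        rw [hW₁]
        exact subset_coborder (Set.mem_range_self y')
      exact this
    · have : j y' ∈ f ⁻¹ᵁ W₂ := by
        rw [hW₂]
        exact hzU
      exact this
  obtain ⟨_, ⟨V, hV, rfl⟩, hxV, hVle⟩ :=
    X.isBasis_affineOpens.exists_subset_of_mem_open hx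
      (f.coborderRange ⊓ (j ≫ f).coborderRange ⊓ W₁ ⊓ W₂).2
  have hVf : V ≤ f.coborderRange := fun x hx => (hVle hx).1.1.1
  have hVjf : V ≤ (j ≫ f).coborderRange := fun x hx => (hVle hx).1.1.2
  have hUj : f ⁻¹ᵁ V ≤ j.coborderRange := by
    rw [← hW₁]
    intro y hy
    exact (hVle hy).1.2
  have hle : f ⁻¹ᵁ V ≤ U := by
    rw [← hW₂]
    intro y hy
    exact (hVle hy).2
  have hU' : IsAffineOpen (f ⁻¹ᵁ V) := isAffineOpen_preimage f hV hVf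
  haveI := hclU
  obtain ⟨-, hker'⟩ := Groth.Agent.Helper14.RegImmLim.ker_base_change j (𝟙 Y) j (𝟙 Y')
    (IsPullback.of_horiz_isIso ⟨by simp⟩) U hUaff (f ⁻¹ᵁ V) hU' hle
  letI alg : Algebra Γ(Y, U) Γ(Y, f ⁻¹ᵁ V) := ((𝟙 Y : Y ⟶ Y).appLE U (f ⁻¹ᵁ V) hle).hom.toAlgebra
  haveI : Module.Flat Γ(Y, U) Γ(Y, f ⁻¹ᵁ V) := (𝟙 Y : Y ⟶ Y).flat_appLE hUaff hU' hle
  have hrs' : CAlgX.IsH1Regular (rs.map (algebraMap Γ(Y, U) Γ(Y, f ⁻¹ᵁ V))).get :=
    Groth.Agent.Helper28.RegBC.transport_get (algebraMap Γ(Y, U) Γ(Y, f ⁻¹ᵁ V)) rs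
      (fun c f => CAlgX.IsH1Regular f) (Groth.Agent.Helper28.RegBC.h1_of_flat _ hrs1)
  have hk : RingHom.ker (j.app (f ⁻¹ᵁ V)).hom =
      Ideal.ofList (rs.map (algebraMap Γ(Y, U) Γ(Y, f ⁻¹ᵁ V))) := by
    rw [hker', hker, Ideal.map_ofList]
    rfl
  have hπ : Function.Surjective (f.app V).hom := app_surjective f hV hVf
  have key := inf_sq_le_mul (f.app V).hom hπ
    (rs.map (algebraMap Γ(Y, U) Γ(Y, f ⁻¹ᵁ V))).get hrs'
  have hcomap : (Ideal.span (Set.range (rs.map (algebraMap Γ(Y, U) Γ(Y, f ⁻¹ᵁ V))).get)).comap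
      (f.app V).hom = RingHom.ker ((j ≫ f).app V).hom := by
    rw [range_get_eq, ← hk]
    ext a
    rw [Ideal.mem_comap, RingHom.mem_ker, RingHom.mem_ker]
    rfl
  rw [hcomap] at key
  exact ⟨V, hV, hVf, hVjf, hUj, hxV, key⟩

include hφ₁ in
theorem mono_phi1 (hj : ∀ y', RegImm.IsRegularImmersionAt .h1 j y') : Mono φ₁ := by
  haveI q1 : ((Scheme.Modules.pullback j).obj (Omega.conormal f)).IsQuasicoherent :=
    isQuasicoherent_pullback j (Omega.conormal f)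
  let 𝒰 : Set Y'.Opens := {T | ∃ V : X.Opens, IsAffineOpen V ∧ V ≤ f.coborderRange ∧
    V ≤ (j ≫ f).coborderRange ∧ f ⁻¹ᵁ V ≤ j.coborderRange ∧
    (RingHom.ker (f.app V).hom ⊓ (RingHom.ker ((j ≫ f).app V).hom) ^ 2 ≤
        RingHom.ker ((j ≫ f).app V).hom * RingHom.ker (f.app V).hom) ∧ T = j ⁻¹ᵁ (f ⁻¹ᵁ V)}
  have hA : ∀ T ∈ 𝒰, IsAffineOpen T := by
    rintro T ⟨V, hV, hVf, -, hUj, -, rfl⟩
    exact isAffineOpen_preimage j (isAffineOpen_preimage f hV hVf) hUj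
  have hcov : ∀ z : Y', ∃ T ∈ 𝒰, z ∈ T := by
    intro z
    obtain ⟨V, hV, hVf, hVjf, hUj, hz, hH⟩ := exists_chart_h1 f j hj z
    exact ⟨j ⁻¹ᵁ (f ⁻¹ᵁ V), ⟨V, hV, hVf, hVjf, hUj, hH, rfl⟩, hz⟩
  apply Groth.Agent.Helper18.QCBasic.mono_of_cover φ₁ 𝒰 hA hcov
  rintro T ⟨V, hV, hVf, hVjf, hUj, hH, rfl⟩
  exact injective_phi1_app f j φ₁ hφ₁ hV hVf hVjf hUj hH

include hφ₁ hφ₂ in
/-- **Short exactness of the conormal sequence** for an `H_1`-regular immersion `j`. -/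
theorem shortExact_of_h1 (hj : ∀ y', RegImm.IsRegularImmersionAt .h1 j y') :
    ∃ w : φ₁ ≫ ((Scheme.Modules.pullbackId Y').inv.app (Omega.conormal (j ≫ f)) ≫ φ₂) = 0,
      (ShortComplex.mk φ₁
        ((Scheme.Modules.pullbackId Y').inv.app (Omega.conormal (j ≫ f)) ≫ φ₂) w).ShortExact := by
  have w : φ₁ ≫ ((Scheme.Modules.pullbackId Y').inv.app (Omega.conormal (j ≫ f)) ≫ φ₂) = 0 :=
    phi1_phi2 f j φ₁ hφ₁ φ₂ hφ₂
  obtain ⟨hepi, him⟩ := nrm_seq f j φ₁ hφ₁ φ₂ hφ₂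
  have hex : (ShortComplex.mk φ₁
      ((Scheme.Modules.pullbackId Y').inv.app (Omega.conormal (j ≫ f)) ≫ φ₂) w).Exact :=
    (ShortComplex.exact_iff_image_eq_kernel _).2 him
  haveI := mono_phi1 f j φ₁ hφ₁ hj
  haveI := hepi
  haveI : Epi ((Scheme.Modules.pullbackId Y').inv.app (Omega.conormal (j ≫ f)) ≫ φ₂) :=
    epi_comp _ _
  exact ⟨w, { exact := hex, mono_f := inferInstance, epi_g := inferInstance }⟩

end Groth.Agent.Helper14.CnH1
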