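import Mathlib
import Groth.Agent.Lib.Helper14.CnH1C
import Groth.Agent.Lib.Helper13.LocFree3

/-!
# The conormal sheaf of an `H_1`-regular immersion is finite locally free (helper14)
-/

set_option autoImplicit false
set_option linter.style.haveILetI false
set_option linter.unusedSectionVars false
set_option linter.unusedVariables false
set_option maxRecDepth 8000
universe u
open CategoryTheory CategoryTheory.Limits AlgebraicGeometry TopologicalSpace Opposite TensorProduct

namespace Groth.Agent.Helper14.CnH1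

open OmegaSh Groth.Agent.Helper18.DerLib Groth.Agent.Helper18.OmegaSec
  Groth.Agent.Helper18.Rec Groth.Agent.Helper18.ConormalImm
  Groth.Agent.Helper13.EffCartier Groth.Agent.Helper13.Pullback Groth.Agent.Helper18.CnSeq
  Groth.Agent.Helper18.NrmSeq Groth.Agent.Helper26.H1QR

/-- degree one quasi-regularity of an `H_1`-regular sequence. -/
theorem coeff_mem_of_sum_mem_sq {R : Type u} [CommRing R] {c : ℕ} {f : Fin c → R}
    (hf : CAlgX.IsH1Regular f) (a : Fin c → R)
    (h : ∑ i, a i * f i ∈ (Ideal.span (Set.range f)) ^ 2) (i : Fin c) :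
    a i ∈ Ideal.span (Set.range f) := by
  classical
  set K := Ideal.span (Set.range f) with hK
  have step : ∀ x ∈ K ^ 2, ∃ h : Fin c → R, (∀ i, h i ∈ K) ∧ x = ∑ i, h i * f i := by
    intro x hx
    rw [pow_two] at hx
    refine Submodule.mul_induction_on hx ?_ ?_
    · intro y hy z hz
      obtain ⟨b, hb⟩ := (Ideal.mem_span_range_iff_exists_fun).1 hz
      refine ⟨fun i => y * b i, fun i => K.mul_mem_right _ hy, ?_⟩
      rw [← hb, Finset.mul_sum]
      refine Finset.sum_congr rfl fun i _ => ?_
      ring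
    · rintro x y ⟨h, hh, rfl⟩ ⟨h', hh', rfl⟩
      refine ⟨fun i => h i + h' i, fun i => K.add_mem (hh i) (hh' i), ?_⟩
      simp only [add_mul, Finset.sum_add_distrib]
  obtain ⟨g, hg, hsum⟩ := step _ h
  have hrel : ∑ i, (a i - g i) * f i = 0 := by
    simp only [sub_mul, Finset.sum_sub_distrib]
    rw [hsum, sub_self]
  obtain ⟨t, -, -, hts⟩ := h1_of_isH1Regular hf (fun i => a i - g i) hrel
  have h1 : a i = g i + ∑ l, t i l * f l := by
    have := hts i
    simp only at this
    rw [← this]
    ring
  rw [h1]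
  exact K.add_mem (hg i)
    (Ideal.sum_mem _ fun l _ => Ideal.mul_mem_left _ _ (Ideal.subset_span ⟨l, rfl⟩))

variable {P Q : Scheme.{u}} (k : P ⟶ Q) [IsImmersion k] [QuasiCompact k]

set_option maxHeartbeats 1600000 in
/-- on a chart where the ideal is generated by an `H_1`-regular sequence, the conormal sections are
free on the classes of the generators. -/
theorem free_conormal_chart {V : Q.Opens} (hV : IsAffineOpen V) (hle : V ≤ k.coborderRange)
    {c : ℕ} (r : Fin c → Γ(Q, V)) (hr : CAlgX.IsH1Regular r)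
    (hker : RingHom.ker (k.app V).hom = Ideal.span (Set.range r)) :
    Module.Finite Γ(P, k ⁻¹ᵁ V) Γ(Omega.conormal k, k ⁻¹ᵁ V) ∧
      Module.Free Γ(P, k ⁻¹ᵁ V) Γ(Omega.conormal k, k ⁻¹ᵁ V) := by
  classical
  have hsurj := app_surjective k hV hle
  have hsm : ∀ (a : Γ(Q, V)) (t : Γ(ClSub.idealMod k.ker, V)),
      conormalSect k V (a • t) = (k.app V).hom a • conormalSect k V t :=
    fun a t => OmegaSh.pullSect_smul k _ V a t
  have hrmem : ∀ i, r i ∈ Submodule.map (ιlin k V) ⊤ := fun i => by
    rw [map_ιlin_top k hV, hker]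
    exact Ideal.subset_span ⟨i, rfl⟩
  choose s hs0 hs using hrmem
  let Φ : (Fin c → Γ(P, k ⁻¹ᵁ V)) →ₗ[Γ(P, k ⁻¹ᵁ V)] Γ(Omega.conormal k, k ⁻¹ᵁ V) :=
    Fintype.linearCombination Γ(P, k ⁻¹ᵁ V) (fun i => conormalSect k V (s i))
  have hΦ : ∀ b, Φ b = ∑ i, b i • conormalSect k V (s i) := fun b =>
    Fintype.linearCombination_apply _ _ _
  have hcomb : ∀ a : Fin c → Γ(Q, V),
      conormalSect k V (∑ i, a i • s i) = Φ (fun i => (k.app V).hom (a i)) := by
    intro a
    rw [hΦ, map_sum]
    refine Finset.sum_congr rfl fun i _ => ?_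
    rw [hsm]
  have hbij : Function.Bijective Φ := by
    constructor
    · rw [injective_iff_map_eq_zero]
      intro b hb
      choose a ha using fun i => hsurj (b i)
      have hb' : b = fun i => (k.app V).hom (a i) := funext fun i => (ha i).symm
      rw [hb', ← hcomb] at hb
      have h1 := ιlin_mem_sq k hV hle _ hb
      rw [map_sum, hker] at h1
      have h2 : ∑ i, a i * r i ∈ Ideal.span (Set.range r) ^ 2 := by
        refine mem_of_eq' _ ?_ h1
        refine Finset.sum_congr rfl fun i _ => ?_
        rw [map_smul, smul_eq_mul, hs]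
      funext i
      have h3 := coeff_mem_of_sum_mem_sq hr a h2 i
      rw [← hker] at h3
      rw [hb']
      exact h3
    · intro m
      obtain ⟨t, rfl⟩ := exists_conormalSect_eq k hV hle m
      have ht : ιlin k V t ∈ RingHom.ker (k.app V).hom := by
        rw [← map_ιlin_top k hV]
        exact ⟨t, trivial, rfl⟩
      rw [hker] at ht
      obtain ⟨a, ha⟩ := (Ideal.mem_span_range_iff_exists_fun).1 ht
      refine ⟨fun i => (k.app V).hom (a i), ?_⟩
      rw [← hcomb]
      congr 1
      apply ιlin_injective k V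
      rw [← ha, map_sum]
      refine Finset.sum_congr rfl fun i _ => ?_
      rw [map_smul, smul_eq_mul, hs]
  let e := LinearEquiv.ofBijective Φ hbij
  exact ⟨Module.Finite.equiv e, Module.Free.of_equiv e⟩

end Groth.Agent.Helper14.CnH1
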