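import Mathlib
import Groth.Agent.Lib.Helper14.CnH1D

/-!
# The conormal sheaf of an `H_1`-regular immersion is finite locally free, global form (helper14)
-/

set_option autoImplicit false
set_option linter.style.haveILetI false
set_option linter.unusedSectionVars false
set_option linter.unusedVariables false
set_option maxRecDepth 8000
universe u
open CategoryTheory CategoryTheory.Limits AlgebraicGeometry TopologicalSpace Opposite TensorProduct

namespace Groth.Agent.Helper14.CnH1

open OmegaSh Groth.Agent.Helper18.DerLib Groth.Agent.Helper18.OmegaSec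
  Groth.Agent.Helper18.Rec Groth.Agent.Helper18.ConormalImm
  Groth.Agent.Helper13.EffCartier Groth.Agent.Helper13.Pullback Groth.Agent.Helper18.CnSeq
  Groth.Agent.Helper18.NrmSeq Groth.Agent.Helper26.H1QR

variable {P Q : Scheme.{u}} (k : P ⟶ Q) [IsImmersion k]

open scoped Set.Notation in
theorem le_coborderRange_of_isClosedImmersion_restrict (U : Q.Opens)
    [IsClosedImmersion (k ∣_ U)] : U ≤ k.coborderRange := by
  have hcl : IsClosed (Set.range (k ∣_ U)) := (k ∣_ U).isClosedEmbedding.isClosed_range
  have hrange : Set.range (k ∣_ U) = ((U : Set Q) ↓∩ Set.range k) := by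
    ext y
    constructor
    · rintro ⟨x, rfl⟩
      change ((k ∣_ U) x).1 ∈ Set.range k
      rw [morphismRestrict_base_coe]
      exact ⟨x.1, rfl⟩
    · rintro ⟨x, hx⟩
      have hxU : x ∈ k ⁻¹ᵁ U := by
        change k x ∈ U
        rw [hx]
        exact y.2
      refine ⟨⟨x, hxU⟩, ?_⟩
      apply Subtype.ext
      rw [morphismRestrict_base_coe]
      exact hx
  rw [hrange] at hcl
  have hcl2 : IsClosed ((U : Set Q) ↓∩ Set.range k) := hcl
  rw [isClosed_preimage_val] at hcl2
  intro x hxU
  change x ∈ coborder (Set.range k)
  rw [coborder_eq_union_closure_compl]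
  by_cases hx : x ∈ closure (Set.range k)
  · left
    apply hcl2
    exact ⟨hxU, U.2.inter_closure ⟨hxU, hx⟩⟩
  · right
    exact hx

variable [QuasiCompact k]

theorem isQuasicoherent_conormal : (Omega.conormal k).IsQuasicoherent := by
  haveI qc : (ClSub.idealMod k.ker).IsQuasicoherent :=
    (SheafOfModules.isQuasicoherent Q.ringCatSheaf).prop_of_iso (idealModIso k.ker).symm
      inferInstance
  exact isQuasicoherent_pullback k (ClSub.idealMod k.ker)

/-- **The conormal sheaf of an `H_1`-regular immersion is finite locally free.** -/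
theorem isFinLocFree_conormal_of_h1 (hk : ∀ z, RegImm.IsRegularImmersionAt .h1 k z) :
    FlatMod.IsFinLocFree (Omega.conormal k) := by
  haveI := isQuasicoherent_conormal k
  apply Groth.Agent.Helper13.LocFree.isFinLocFree_of_projective_sections
  intro z
  obtain ⟨⟨U, hUaff⟩, hzU, hclU, rs, hrs, hker⟩ := hk z
  have hrs1 : CAlgX.IsH1Regular rs.get := hrs
  haveI := hclU
  have hle : U ≤ k.coborderRange := le_coborderRange_of_isClosedImmersion_restrict k U
  have hker' : RingHom.ker (k.app U).hom = Ideal.span (Set.range rs.get) := by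
    rw [range_get_eq]
    exact hker
  obtain ⟨hfin, hfree⟩ := free_conormal_chart k hUaff hle rs.get hrs1 hker'
  refine ⟨k ⁻¹ᵁ U, isAffineOpen_preimage k hUaff hle, hzU, hfin, ?_⟩
  haveI := hfree
  exact Module.Projective.of_free

end Groth.Agent.Helper14.CnH1
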