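import Groth.Agent.Lib.Helper14.LimModE
import Mathlib

/-!
# The filtered system of rings of sections over the preimages of an affine open (helper14)

Section-level version (rings `Γ(D j, preimage of U)` rather than global sections of open
subschemes) of the colimit statement `isColimitChartCocone`.
-/

set_option autoImplicit false
universe u
open CategoryTheory CategoryTheory.Limits AlgebraicGeometry Opposite TopologicalSpace

namespace Groth.Agent.Helper14.HomLim

open Groth.Agent.Helper14.LimMod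

variable {I : Type u} [SmallCategory I] (D : I ⥤ Scheme.{u}) (c : Cone D) (hc : IsLimit c)
  (i : I) (U : (D.obj i).Opens)

theorem appLE_congr_hom' {P Q : Scheme.{u}} {q q' : P ⟶ Q} (h : q = q') {U : Q.Opens}
    {V : P.Opens} (e : V ≤ q ⁻¹ᵁ U) (e' : V ≤ q' ⁻¹ᵁ U) : q.appLE U V e = q'.appLE U V e' := by
  subst h; rfl

theorem le_tr {k l : Over i} (u : l ⟶ k) :
    preU D i U l ≤ D.map u.left ⁻¹ᵁ preU D i U k := by
  change D.map l.hom ⁻¹ᵁ U ≤ D.map u.left ⁻¹ᵁ (D.map k.hom ⁻¹ᵁ U)
  rw [← Scheme.Hom.comp_preimage, ← D.map_comp, Over.w u]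

theorem le_pt (k : Over i) :
    preUpt D c i U ≤ c.π.app k.left ⁻¹ᵁ preU D i U k := by
  change c.π.app i ⁻¹ᵁ U ≤ c.π.app k.left ⁻¹ᵁ (D.map k.hom ⁻¹ᵁ U)
  rw [← Scheme.Hom.comp_preimage, c.w]

/-- transition maps of the rings of sections -/
noncomputable def rTr {k l : Over i} (u : l ⟶ k) :
    Γ(D.obj k.left, preU D i U k) ⟶ Γ(D.obj l.left, preU D i U l) :=
  (D.map u.left).appLE _ _ (le_tr D i U u)

/-- the maps to the sections on the limit -/
noncomputable def rPt (k : Over i) :
    Γ(D.obj k.left, preU D i U k) ⟶ Γ(c.pt, preUpt D c i U) :=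
  (c.π.app k.left).appLE _ _ (le_pt D c i U k)

theorem rTr_comp_rPt {k l : Over i} (u : l ⟶ k) :
    rTr D i U u ≫ rPt D c i U l = rPt D c i U k := by
  unfold rTr rPt
  rw [Scheme.Hom.appLE_comp_appLE]
  exact appLE_congr_hom' (c.w u.left) _ _

section Colim

variable [IsCofiltered I] [∀ {i j : I} (f : i ⟶ j), IsAffineHom (D.map f)] {U}
  (hU : IsAffineOpen U)

theorem topIso_hom_inv {Y : Scheme.{u}} (V : Y.Opens) (y : Γ(Y, V)) :
    V.topIso.hom.hom (V.topIso.inv.hom y) = y := by
  rw [← CommRingCat.comp_apply, Iso.inv_hom_id]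
  rfl

theorem topIso_inv_hom {Y : Scheme.{u}} (V : Y.Opens) (y : Γ(V.toScheme, ⊤)) :
    V.topIso.inv.hom (V.topIso.hom.hom y) = y := by
  rw [← CommRingCat.comp_apply, Iso.hom_inv_id]
  rfl

theorem resLE_appTop_apply {Y Z : Scheme.{u}} (f : Y ⟶ Z) (U' : Z.Opens) (V' : Y.Opens)
    (e : V' ≤ f ⁻¹ᵁ U') (x : Γ(U'.toScheme, ⊤)) :
    V'.topIso.hom.hom ((f.resLE U' V' e).appTop.hom x) =
      (f.appLE U' V' e).hom (U'.topIso.hom.hom x) := by
  have h1 : (f.resLE U' V' e).appTop = U'.topIso.hom ≫ f.appLE U' V' e ≫ V'.topIso.inv :=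
    Scheme.Hom.resLE_app_top f e
  rw [h1]
  exact topIso_hom_inv V' _

theorem appTop_opensCone_apply (k : Over i) (x : Γ((preU D i U k).toScheme, ⊤)) :
    (preUpt D c i U).topIso.hom.hom (((opensCone D c i U).π.app k).appTop.hom x) =
      (rPt D c i U k).hom ((preU D i U k).topIso.hom.hom x) :=
  resLE_appTop_apply (c.π.app k.left) (preU D i U k) (preUpt D c i U) (le_pt D c i U k) x

theorem appTop_opensDiagram_apply {k l : Over i} (u : l ⟶ k)
    (x : Γ((preU D i U k).toScheme, ⊤)) :
    (preU D i U l).topIso.hom.hom (((opensDiagram D i U).map u).appTop.hom x) =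
      (rTr D i U u).hom ((preU D i U k).topIso.hom.hom x) :=
  resLE_appTop_apply (D.map u.left) (preU D i U k) (preU D i U l) (le_tr D i U u) x

include hc hU in
theorem rPt_surj (b : Γ(c.pt, preUpt D c i U)) :
    ∃ (k : Over i) (t : Γ(D.obj k.left, preU D i U k)), (rPt D c i U k).hom t = b := by
  have ht := isColimitChartCocone D c hc i hU
  obtain ⟨k, x, hx⟩ := Types.jointly_surjective_of_isColimit
    (isColimitOfPreserves (forget CommRingCat) ht) ((preUpt D c i U).topIso.inv.hom b)
  let x' : Γ((preU D i U k.unop).toScheme, ⊤) := x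
  refine ⟨k.unop, (preU D i U k.unop).topIso.hom.hom x', ?_⟩
  have hx' : ((opensCone D c i U).π.app k.unop).appTop.hom x' =
      (preUpt D c i U).topIso.inv.hom b := hx
  rw [← appTop_opensCone_apply, hx']
  exact topIso_hom_inv _ b

include hc hU in
theorem rPt_ker (k : Over i) (t : Γ(D.obj k.left, preU D i U k))
    (h0 : (rPt D c i U k).hom t = 0) :
    ∃ (l : Over i) (u : l ⟶ k), (rTr D i U u).hom t = 0 := by
  have ht := isColimitChartCocone D c hc i hU
  let x : Γ((preU D i U k).toScheme, ⊤) := (preU D i U k).topIso.inv.hom t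
  have hxt : (preU D i U k).topIso.hom.hom x = t := topIso_hom_inv _ t
  have hx0 : ((opensCone D c i U).π.app k).appTop.hom x =
      ((opensCone D c i U).π.app k).appTop.hom 0 := by
    rw [map_zero]
    have h1 := appTop_opensCone_apply D c i (U := U) k x
    rw [hxt, h0] at h1
    have h2 := congrArg (preUpt D c i U).topIso.inv.hom h1
    rw [topIso_inv_hom, map_zero] at h2
    exact h2
  obtain ⟨l, u, hu⟩ := (Types.FilteredColimit.isColimit_eq_iff'
    (isColimitOfPreserves (forget CommRingCat) ht) (i := op k)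
    (x : (chartRing D i U ⋙ forget CommRingCat).obj (op k))
    ((0 : Γ((preU D i U k).toScheme, ⊤)) : (chartRing D i U ⋙ forget CommRingCat).obj (op k))).mp
      hx0
  refine ⟨l.unop, u.unop, ?_⟩
  have hu' : ((opensDiagram D i U).map u.unop).appTop.hom x =
      ((opensDiagram D i U).map u.unop).appTop.hom 0 := hu
  have hu'' : ((opensDiagram D i U).map u.unop).appTop.hom x =
      (0 : Γ((preU D i U l.unop).toScheme, ⊤)) :=
    hu'.trans (map_zero ((opensDiagram D i U).map u.unop).appTop.hom)
  have h3 := appTop_opensDiagram_apply D i (U := U) u.unop x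
  have h4 : (preU D i U l.unop).topIso.hom.hom (((opensDiagram D i U).map u.unop).appTop.hom x) =
      0 := (congrArg (preU D i U l.unop).topIso.hom.hom hu'').trans
        (map_zero (preU D i U l.unop).topIso.hom.hom)
  have h5 : (rTr D i U u.unop).hom ((preU D i U k).topIso.hom.hom x) = 0 := h3.symm.trans h4
  rw [hxt] at h5
  exact h5

end Colim

end Groth.Agent.Helper14.HomLim
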