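import Mathlib

/-!
# Tensor products and filtered systems of algebras (helper14)

Categorical variant of helper29's `ColimTensor`: a family `G i` of `A₀`-algebras indexed by the
objects of a filtered category, with transition maps `F u` for morphisms `u` (no functoriality
needed), compatible maps `g i : G i → A` which are jointly surjective and whose kernels die in the
system.  Then `M ⊗ -` preserves the "every element lifts" and "kernels die" properties.
-/

namespace Groth.Agent.Helper14.LimMod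

universe u v w v'

set_option linter.unusedSectionVars false

open TensorProduct CategoryTheory

lemma lTensor_rTensor_comm' {R : Type*} [CommRing R] {M₁ M₂ N₁ N₂ : Type*}
    [AddCommGroup M₁] [AddCommGroup M₂] [AddCommGroup N₁] [AddCommGroup N₂]
    [Module R M₁] [Module R M₂] [Module R N₁] [Module R N₂]
    (φ : N₁ →ₗ[R] N₂) (ψ : M₁ →ₗ[R] M₂) (ζ : M₁ ⊗[R] N₁) :
    LinearMap.lTensor M₂ φ (LinearMap.rTensor N₁ ψ ζ) =
      LinearMap.rTensor N₂ ψ (LinearMap.lTensor M₁ φ ζ) := by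
  rw [← LinearMap.comp_apply, LinearMap.lTensor_comp_rTensor, ← LinearMap.rTensor_comp_lTensor,
    LinearMap.comp_apply]

section System

variable {J : Type w} [Category.{v} J] [IsFiltered J]
    {A₀ : Type u} [CommRing A₀] {G : J → Type u} [∀ i, CommRing (G i)] [∀ i, Algebra A₀ (G i)]
    (F : ∀ {i j : J}, (i ⟶ j) → (G i →ₐ[A₀] G j)) {A : Type u} [CommRing A] [Algebra A₀ A]
    (g : ∀ i, G i →ₐ[A₀] A)

/-- Admissible transition maps: those compatible with the maps to the colimit. -/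
def Adm (i j : J) (θ : G i →ₐ[A₀] G j) : Prop := (g j).comp θ = g i

variable {g}

lemma Adm.refl (i : J) : Adm g i i (AlgHom.id A₀ (G i)) := AlgHom.comp_id _

lemma Adm.comp {i j k : J} {θ : G i →ₐ[A₀] G j} {θ' : G j →ₐ[A₀] G k}
    (h : Adm g i j θ) (h' : Adm g j k θ') : Adm g i k (θ'.comp θ) := by
  unfold Adm at *
  rw [← AlgHom.comp_assoc, h', h]

lemma Adm.apply {i j : J} {θ : G i →ₐ[A₀] G j} (h : Adm g i j θ) (x : G i) :
    g j (θ x) = g i x := by
  unfold Adm at h
  rw [← h]; rfl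

lemma Adm.toLinearMap {i j : J} {θ : G i →ₐ[A₀] G j} (h : Adm g i j θ) :
    (g j).toLinearMap ∘ₗ θ.toLinearMap = (g i).toLinearMap := by
  unfold Adm at h
  rw [← AlgHom.comp_toLinearMap, h]

variable (hg : ∀ {i j : J} (u : i ⟶ j), (g j).comp (F u) = g i)
    (hsurj : ∀ a : A, ∃ i, ∃ x : G i, g i x = a)
    (hker : ∀ i (x : G i), g i x = 0 → ∃ j, ∃ u : i ⟶ j, F u x = 0)

include hg in
lemma Adm.of_f {i j : J} (u : i ⟶ j) : Adm g i j (F u) := hg u

include hg hker in
lemma kill_finset (i : J) (Y : Finset (G i)) (hY : ∀ y ∈ Y, g i y = 0) :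
    ∃ (j : J) (θ : G i →ₐ[A₀] G j), Adm g i j θ ∧ ∀ y ∈ Y, θ y = 0 := by
  classical
  induction Y using Finset.induction_on with
  | empty => exact ⟨i, AlgHom.id A₀ (G i), Adm.refl i, by simp⟩
  | insert y Y hy ih =>
    obtain ⟨j, θ, hθ, hθY⟩ := ih (fun y' hy' => hY y' (Finset.mem_insert_of_mem hy'))
    have h0 : g j (θ y) = 0 := by
      rw [hθ.apply]; exact hY y (Finset.mem_insert_self _ _)
    obtain ⟨j', u, hx⟩ := hker j _ h0
    refine ⟨j', (F u).comp θ, hθ.comp (Adm.of_f F hg u), ?_⟩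
    intro y' hy'
    rcases Finset.mem_insert.mp hy' with rfl | h
    · exact hx
    · change F u (θ y') = 0
      rw [hθY y' h, map_zero]

variable (M : Type v') [AddCommGroup M] [Module A₀ M]

include hg hsurj in
lemma lift_tensor (i₀ : J) (ξ : M ⊗[A₀] A) :
    ∃ (j : J) (_ : i₀ ⟶ j) (ξ' : M ⊗[A₀] G j), LinearMap.lTensor M (g j).toLinearMap ξ' = ξ := by
  induction ξ using TensorProduct.induction_on with
  | zero => exact ⟨i₀, 𝟙 _, 0, map_zero _⟩
  | tmul m a =>
    obtain ⟨i, x, hx⟩ := hsurj a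
    refine ⟨IsFiltered.max i i₀, IsFiltered.rightToMax i i₀,
      m ⊗ₜ F (IsFiltered.leftToMax i i₀) x, ?_⟩
    rw [LinearMap.lTensor_tmul, AlgHom.toLinearMap_apply, (Adm.of_f F hg _).apply, hx]
  | add ξ₁ ξ₂ h₁ h₂ =>
    obtain ⟨j₁, u₁, ξ₁', h₁'⟩ := h₁
    obtain ⟨j₂, _, ξ₂', h₂'⟩ := h₂
    refine ⟨IsFiltered.max j₁ j₂, u₁ ≫ IsFiltered.leftToMax j₁ j₂,
      LinearMap.lTensor M (F (IsFiltered.leftToMax j₁ j₂)).toLinearMap ξ₁' +
      LinearMap.lTensor M (F (IsFiltered.rightToMax j₁ j₂)).toLinearMap ξ₂', ?_⟩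
    rw [map_add, ← LinearMap.comp_apply, ← LinearMap.comp_apply, ← LinearMap.lTensor_comp,
      ← LinearMap.lTensor_comp, (Adm.of_f F hg _).toLinearMap,
      (Adm.of_f F hg _).toLinearMap, h₁', h₂']

/-- Free case of the key lemma. -/
lemma kill_free_aux (X : Type v') [DecidableEq X] {N N' : Type u} [AddCommGroup N] [Module A₀ N]
    [AddCommGroup N'] [Module A₀ N'] (φ : N →ₗ[A₀] N') (z : (X →₀ A₀) ⊗[A₀] N) :
    TensorProduct.finsuppScalarLeft A₀ N' X (LinearMap.lTensor (X →₀ A₀) φ z) =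
      Finsupp.mapRange.linearMap φ (TensorProduct.finsuppScalarLeft A₀ N X z) := by
  induction z using TensorProduct.induction_on with
  | zero => simp
  | tmul p n =>
    ext x
    simp
  | add z₁ z₂ h₁ h₂ => simp only [map_add, h₁, h₂]

include hg hker in
lemma kill_free (X : Type v') (i : J) (z : (X →₀ A₀) ⊗[A₀] G i)
    (hz : LinearMap.lTensor (X →₀ A₀) (g i).toLinearMap z = 0) :
    ∃ (j : J) (θ : G i →ₐ[A₀] G j), Adm g i j θ ∧
      LinearMap.lTensor (X →₀ A₀) θ.toLinearMap z = 0 := by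
  classical
  set w : X →₀ G i := TensorProduct.finsuppScalarLeft A₀ (G i) X z with hw
  have hw0 : Finsupp.mapRange.linearMap (g i).toLinearMap w = 0 := by
    rw [hw, ← kill_free_aux, hz, map_zero]
  have hval : ∀ y ∈ w.support.image w, g i y = 0 := by
    intro y hy
    obtain ⟨x, _, rfl⟩ := Finset.mem_image.mp hy
    have := DFunLike.congr_fun hw0 x
    simpa using this
  obtain ⟨j, θ, hθ, hkill⟩ := kill_finset F hg hker i _ hval
  refine ⟨j, θ, hθ, ?_⟩
  apply (TensorProduct.finsuppScalarLeft A₀ (G j) X).injective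
  rw [kill_free_aux, map_zero]
  ext x
  by_cases hx : x ∈ w.support
  · simpa using hkill (w x) (Finset.mem_image_of_mem _ hx)
  · have : w x = 0 := Finsupp.notMem_support_iff.mp hx
    simp [← hw, this]

include hg hsurj hker in
/-- **Key lemma**: an element of `M ⊗ G i` dying in `M ⊗ A` dies at a later stage. -/
theorem kill_tensor (i : J) (z : M ⊗[A₀] G i)
    (hz : LinearMap.lTensor M (g i).toLinearMap z = 0) :
    ∃ (j : J) (θ : G i →ₐ[A₀] G j), Adm g i j θ ∧
      LinearMap.lTensor M θ.toLinearMap z = 0 := by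
  classical
  let π : (M →₀ A₀) →ₗ[A₀] M := Finsupp.linearCombination A₀ id
  have hπ : Function.Surjective π := Finsupp.linearCombination_id_surjective A₀ M
  have hex : Function.Exact (LinearMap.ker π).subtype π := LinearMap.exact_subtype_ker_map π
  obtain ⟨ζ, rfl⟩ := LinearMap.rTensor_surjective (G i) hπ z
  have h1 : LinearMap.rTensor A π (LinearMap.lTensor (M →₀ A₀) (g i).toLinearMap ζ) = 0 := by
    rw [← LinearMap.comp_apply, LinearMap.rTensor_comp_lTensor, ← LinearMap.lTensor_comp_rTensor,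
      LinearMap.comp_apply]
    exact hz
  obtain ⟨ξ, hξ⟩ := (rTensor_exact (M := ↥(LinearMap.ker π)) (N := M →₀ A₀) (P := M)
    (R := A₀) A hex hπ _).mp h1
  obtain ⟨i₁, u₁, ξ', hξ'⟩ := lift_tensor F hg hsurj (LinearMap.ker π) i ξ
  set θ₁ := F u₁ with hθ₁
  have hadm₁ : Adm g i i₁ θ₁ := Adm.of_f F hg u₁
  set δ := LinearMap.lTensor (M →₀ A₀) θ₁.toLinearMap ζ -
    LinearMap.rTensor (G i₁) (LinearMap.ker π).subtype ξ' with hδdef
  have hδ : LinearMap.lTensor (M →₀ A₀) (g i₁).toLinearMap δ = 0 := by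
    rw [hδdef, map_sub, ← LinearMap.comp_apply, ← LinearMap.lTensor_comp, hadm₁.toLinearMap,
      ← LinearMap.comp_apply, LinearMap.lTensor_comp_rTensor, ← LinearMap.rTensor_comp_lTensor,
      LinearMap.comp_apply, hξ', hξ, sub_self]
  obtain ⟨j, θ₂, hadm₂, hkill⟩ := kill_free F hg hker M i₁ δ hδ
  refine ⟨j, θ₂.comp θ₁, hadm₁.comp hadm₂, ?_⟩
  have e1 : LinearMap.lTensor (M →₀ A₀) θ₂.toLinearMap
      (LinearMap.lTensor (M →₀ A₀) θ₁.toLinearMap ζ) =
      LinearMap.lTensor (M →₀ A₀) θ₂.toLinearMap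
        (LinearMap.rTensor (G i₁) (LinearMap.ker π).subtype ξ') := by
    have := hkill
    rw [hδdef, map_sub, sub_eq_zero] at this
    exact this
  have hπK : π ∘ₗ (LinearMap.ker π).subtype = 0 := by
    ext x
    simp
  rw [lTensor_rTensor_comm', AlgHom.comp_toLinearMap, LinearMap.lTensor_comp, LinearMap.comp_apply,
    e1, ← lTensor_rTensor_comm', ← LinearMap.comp_apply (LinearMap.rTensor (G i₁) π),
    ← LinearMap.rTensor_comp, hπK, LinearMap.rTensor_zero, LinearMap.zero_apply, map_zero]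

include hg hsurj hker in
theorem kill_tensor_finset (i : J) (Z : Finset (M ⊗[A₀] G i))
    (hZ : ∀ z ∈ Z, LinearMap.lTensor M (g i).toLinearMap z = 0) :
    ∃ (j : J) (θ : G i →ₐ[A₀] G j), Adm g i j θ ∧
      ∀ z ∈ Z, LinearMap.lTensor M θ.toLinearMap z = 0 := by
  classical
  induction Z using Finset.induction_on with
  | empty => exact ⟨i, AlgHom.id A₀ (G i), Adm.refl i, by simp⟩
  | insert z Z hz ih =>
    obtain ⟨j, θ, hθ, hθZ⟩ := ih (fun z' hz' => hZ z' (Finset.mem_insert_of_mem hz'))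
    have h0 : LinearMap.lTensor M (g j).toLinearMap (LinearMap.lTensor M θ.toLinearMap z) = 0 := by
      rw [← LinearMap.comp_apply, ← LinearMap.lTensor_comp, hθ.toLinearMap]
      exact hZ z (Finset.mem_insert_self _ _)
    obtain ⟨j', θ', hθ', hx⟩ := kill_tensor F hg hsurj hker M j _ h0
    refine ⟨j', θ'.comp θ, hθ.comp hθ', ?_⟩
    intro z' hz'
    rw [AlgHom.comp_toLinearMap, LinearMap.lTensor_comp, LinearMap.comp_apply]
    rcases Finset.mem_insert.mp hz' with rfl | h
    · exact hx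
    · rw [hθZ z' h, map_zero]

end System

end Groth.Agent.Helper14.LimMod
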