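import Groth.Agent.Lib.Helper14.HomLimD
import Groth.Agent.Lib.Helper14.HomLimE
import Groth.Agent.Lib.Helper14.LimModC
import Mathlib

/-!
# Sections of pulled back modules in a cofiltered system: kernels die at a stage (helper14)
-/

set_option autoImplicit false
set_option maxRecDepth 8000
universe u
open CategoryTheory CategoryTheory.Limits AlgebraicGeometry Opposite TopologicalSpace TensorProduct
open OmegaSh Groth.Agent.Helper18.PbCompat Groth.Agent.Helper18.Rec Groth.Agent.Helper13.Pullback

namespace Groth.Agent.Helper14.HomLim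

open Groth.Agent.Helper14.LimMod

section Alg

variable {J : Type u} [SmallCategory J] [IsFiltered J]
    {A₀ : Type u} [CommRing A₀] {G : J → Type u} [∀ i, CommRing (G i)] [∀ i, Algebra A₀ (G i)]
    (F : ∀ {i j : J}, (i ⟶ j) → (G i →ₐ[A₀] G j)) {A : Type u} [CommRing A] [Algebra A₀ A]
    (g : ∀ i, G i →ₐ[A₀] A)
    (hg : ∀ {i j : J} (u : i ⟶ j), (g j).comp (F u) = g i)
    (hsurj : ∀ a : A, ∃ i, ∃ x : G i, g i x = a)
    (hker : ∀ i (x : G i), g i x = 0 → ∃ j, ∃ u : i ⟶ j, F u x = 0)

include hg hsurj hker in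
/-- if `1 ⊗ x` dies in `A ⊗ M` it dies in some `G l ⊗ M`. -/
theorem exists_one_tmul_eq_zero {M : Type u} [AddCommGroup M] [Module A₀ M] (x : M)
    (h0 : (1 : A) ⊗ₜ[A₀] x = 0) : ∃ l : J, (1 : G l) ⊗ₜ[A₀] x = 0 := by
  obtain ⟨i⟩ := IsFiltered.nonempty (C := J)
  have hz : LinearMap.lTensor M (g i).toLinearMap (x ⊗ₜ[A₀] (1 : G i)) = 0 := by
    rw [LinearMap.lTensor_tmul, AlgHom.toLinearMap_apply, map_one]
    have := congrArg (TensorProduct.comm A₀ A M) h0
    rw [TensorProduct.comm_tmul, map_zero] at this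
    exact this
  obtain ⟨l, θ, -, hθ⟩ := kill_tensor F hg hsurj hker M i _ hz
  refine ⟨l, ?_⟩
  rw [LinearMap.lTensor_tmul, AlgHom.toLinearMap_apply, map_one] at hθ
  have := congrArg (TensorProduct.comm A₀ M (G l)) hθ
  rw [TensorProduct.comm_tmul, map_zero] at this
  exact this

end Alg

variable {I : Type u} [SmallCategory I] [IsCofiltered I] (D : I ⥤ Scheme.{u}) (c : Cone D)
  (hc : IsLimit c) [∀ {i j : I} (f : i ⟶ j), IsAffineHom (D.map f)]
  (j : I) {U : (D.obj j).Opens} (hU : IsAffineOpen U)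

/-- the algebra structure of the sections at a stage -/
@[reducible] noncomputable def stAlg (l : Over j) :
    Algebra Γ(D.obj j, U) Γ(D.obj l.left, preU D j U l) :=
  ((D.map l.hom).appLE U (preU D j U l) le_rfl).hom.toAlgebra

/-- the algebra structure of the sections on the limit -/
@[reducible] noncomputable def ptAlg : Algebra Γ(D.obj j, U) Γ(c.pt, preUpt D c j U) :=
  ((c.π.app j).appLE U (preUpt D c j U) le_rfl).hom.toAlgebra

attribute [local instance] stAlg ptAlg

/-- transition maps as algebra homomorphisms -/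
noncomputable def rTrAlg {k l : Over j} (u : l ⟶ k) :
    Γ(D.obj k.left, preU D j U k) →ₐ[Γ(D.obj j, U)] Γ(D.obj l.left, preU D j U l) :=
  { (rTr D j U u).hom with
    commutes' := fun r => by
      change ((D.map k.hom).appLE U (preU D j U k) le_rfl ≫ rTr D j U u).hom r =
        ((D.map l.hom).appLE U (preU D j U l) le_rfl).hom r
      unfold rTr
      rw [Scheme.Hom.appLE_comp_appLE]
      have h1 : D.map u.left ≫ D.map k.hom = D.map l.hom := by rw [← D.map_comp, Over.w]
      rw [appLE_congr_hom' h1 _ le_rfl] }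

/-- maps to the limit as algebra homomorphisms -/
noncomputable def rPtAlg (k : Over j) :
    Γ(D.obj k.left, preU D j U k) →ₐ[Γ(D.obj j, U)] Γ(c.pt, preUpt D c j U) :=
  { (rPt D c j U k).hom with
    commutes' := fun r => by
      change ((D.map k.hom).appLE U (preU D j U k) le_rfl ≫ rPt D c j U k).hom r =
        ((c.π.app j).appLE U (preUpt D c j U) le_rfl).hom r
      unfold rPt
      rw [Scheme.Hom.appLE_comp_appLE]
      rw [appLE_congr_hom' (c.w k.hom) _ le_rfl] }

include hc hU in
/-- **Kernels die at a stage**: a section of a quasi-coherent module over an affine open whose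
pullback to the limit vanishes already vanishes after pullback to some stage. -/
theorem exists_pullSect_eq_zero (K : (D.obj j).Modules) [K.IsQuasicoherent] (x : Γ(K, U))
    (h0 : pullSect (c.π.app j) K U x = 0) :
    ∃ l : Over j, pullSect (D.map l.hom) K U x = 0 := by
  have hUpt : IsAffineOpen (preUpt D c j U) := isAffineOpen_preUpt D c hc j hU
  have h1 : (1 : Γ(c.pt, preUpt D c j U)) ⊗ₜ[Γ(D.obj j, U)] x = 0 := by
    rw [← sectionsPullbackEquiv_pullRes (c.π.app j) K hUpt hU le_rfl x, pullRes_refl, h0, map_zero]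
  obtain ⟨l, hl⟩ := exists_one_tmul_eq_zero (J := (Over j)ᵒᵖ) (A₀ := Γ(D.obj j, U))
    (G := fun l => Γ(D.obj l.unop.left, preU D j U l.unop))
    (fun u => rTrAlg D j u.unop) (fun l => rPtAlg D c j l.unop)
    (fun {k l} u => by
      ext r
      exact congr($(rTr_comp_rPt D c j U u.unop).hom r))
    (fun a => by
      obtain ⟨k, t, ht⟩ := rPt_surj D c hc j hU a
      exact ⟨op k, t, ht⟩)
    (fun k t ht => by
      obtain ⟨l, u, hu⟩ := rPt_ker D c hc j hU k.unop t ht
      exact ⟨op l, u.op, hu⟩) x h1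
  refine ⟨l.unop, ?_⟩
  have hUl : IsAffineOpen (preU D j U l.unop) := isAffineOpen_preU D j hU l.unop
  have h2 := sectionsPullbackEquiv_pullRes (D.map l.unop.hom) K hUl hU le_rfl x
  rw [hl, pullRes_refl] at h2
  exact (LinearEquiv.map_eq_zero_iff _).mp h2

end Groth.Agent.Helper14.HomLim
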