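import Mathlib

/-!
# Modules on cofiltered limits of schemes: formal preliminaries (helper14)

* `map_eq_iff_of_iso`: equality of images of two morphisms transfers along a natural isomorphism.
* `hom_ext_of_cover`: morphisms of `𝒪`-modules agreeing on an open cover are equal.
-/

open CategoryTheory AlgebraicGeometry Limits Opposite TopologicalSpace

universe u

namespace Groth.Agent.Helper14.LimMod

section Cat

variable {C D : Type*} [Category C] [Category D]

lemma map_eq_iff_of_iso {F G : C ⥤ D} (e : F ≅ G) {x y : C} (a b : x ⟶ y) :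
    F.map a = F.map b ↔ G.map a = G.map b := by
  constructor
  · intro h
    rw [← NatIso.naturality_1 e a, ← NatIso.naturality_1 e b, h]
  · intro h
    rw [← NatIso.naturality_2 e a, ← NatIso.naturality_2 e b, h]

lemma map_eq_of_map_eq_comp {E : Type*} [Category E] {F : C ⥤ E} {G : C ⥤ D} {H : D ⥤ E}
    (e : F ≅ G ⋙ H) {x y : C} (a b : x ⟶ y) (h : G.map a = G.map b) : F.map a = F.map b := by
  rw [map_eq_iff_of_iso e]
  simp only [Functor.comp_map, h]

end Cat

section Cover

variable {X : Scheme.{u}} {M N : X.Modules}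

lemma restrictFunctor_map_app {Y : Scheme.{u}} (a : Y ⟶ X) [IsOpenImmersion a] (α : M ⟶ N)
    (U : Y.Opens) :
    ((Scheme.Modules.restrictFunctor a).map α).app U = α.app (a ''ᵁ U) := rfl

/-- Morphisms of modules that agree on an open cover are equal. -/
lemma hom_ext_of_cover (α β : M ⟶ N) {ι : Type*} {Y : ι → Scheme.{u}} (a : ∀ i, Y i ⟶ X)
    [∀ i, IsOpenImmersion (a i)] (hcov : ∀ x : X, ∃ i, x ∈ (a i).opensRange)
    (h : ∀ i, (Scheme.Modules.restrictFunctor (a i)).map α =
      (Scheme.Modules.restrictFunctor (a i)).map β) : α = β := by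
  apply Scheme.Modules.hom_ext
  intro W
  ext s
  apply N.isSheaf.section_ext
  intro x hx
  obtain ⟨i, hi⟩ := hcov x
  refine ⟨W ⊓ (a i).opensRange, inf_le_left, ⟨hx, hi⟩, ?_⟩
  have hnatα := congr($(α.mapPresheaf.naturality (homOfLE (inf_le_left :
    W ⊓ (a i).opensRange ≤ W)).op) s)
  have hnatβ := congr($(β.mapPresheaf.naturality (homOfLE (inf_le_left :
    W ⊓ (a i).opensRange ≤ W)).op) s)
  simp only [Scheme.Modules.mapPresheaf_app, ConcreteCategory.comp_apply] at hnatα hnatβ
  erw [← hnatα, ← hnatβ]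
  have key : ∀ W' : X.Opens, W' ≤ (a i).opensRange → α.app W' = β.app W' := by
    intro W' hW'
    obtain ⟨U, rfl⟩ : ∃ U : (Y i).Opens, W' = a i ''ᵁ U := by
      refine ⟨a i ⁻¹ᵁ W', ?_⟩
      rw [Scheme.Hom.image_preimage_eq_opensRange_inf]
      exact (inf_eq_right.mpr hW').symm
    exact congr(($(h i)).app U)
  rw [key _ inf_le_right]

end Cover

end Groth.Agent.Helper14.LimMod
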