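import Mathlib
import Groth.Agent.Lib.Helper13.PullbackLocal
import Groth.Agent.Lib.Helper14.LimModA

/-!
# Modules on cofiltered limits of schemes: the affine dictionary for morphisms (helper14)

For `f : X ⟶ Y`, affine charts `a : Spec B ⟶ X`, `b : Spec A ⟶ Y` and `φ : A ⟶ B` with
`a ≫ f = Spec.map φ ≫ b`, we build a natural transformation
`chartFunctor b φ ⟶ pullback f ⋙ restrictFunctor a`, where
`chartFunctor b φ = restrictFunctor b ⋙ Γ ⋙ extendScalars φ ⋙ tilde`, which is an isomorphism on
quasi-coherent modules.
-/

open CategoryTheory AlgebraicGeometry Limits Opposite TopologicalSpace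

universe u

namespace Groth.Agent.Helper14.LimMod

open Groth.Agent.Helper13.Pullback

variable {X Y : Scheme.{u}} (f : X ⟶ Y) {A B : CommRingCat.{u}} (a : Spec B ⟶ X) (b : Spec A ⟶ Y)
  [IsOpenImmersion a] [IsOpenImmersion b] (φ : A ⟶ B) (h : a ≫ f = Spec.map φ ≫ b)

/-- Sections over the affine chart `b`, as a functor to `A`-modules. -/
noncomputable def secFunctor : Y.Modules ⥤ ModuleCat.{u} A :=
  Scheme.Modules.restrictFunctor b ⋙ moduleSpecΓFunctor

/-- The algebraic model of `pullback f ⋙ restrictFunctor a` on quasi-coherent modules. -/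
noncomputable def chartFunctor : Y.Modules ⥤ (Spec B).Modules :=
  secFunctor b ⋙ ModuleCat.extendScalars.{u, u, u} φ.hom ⋙ tilde.functor B

/-- The comparison from the algebraic model to the restricted pullback. -/
noncomputable def chartTrans :
    chartFunctor b φ ⟶ Scheme.Modules.pullback f ⋙ Scheme.Modules.restrictFunctor a :=
  Functor.whiskerLeft (secFunctor b) (tildePullbackIso φ).inv ≫
    Functor.whiskerLeft (Scheme.Modules.restrictFunctor b)
      (Functor.whiskerRight (Scheme.Modules.fromTildeΓNatTrans (R := A))
        (Scheme.Modules.pullback (Spec.map φ))) ≫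
    (pullbackRestrictIso f a b (Spec.map φ) h).inv

instance isIso_chartTrans_app (G : Y.Modules) [G.IsQuasicoherent] :
    IsIso ((chartTrans f a b φ h).app G) := by
  haveI : IsIso ((Scheme.Modules.fromTildeΓNatTrans (R := A)).app
      ((Scheme.Modules.restrictFunctor b).obj G)) :=
    inferInstanceAs (IsIso ((Scheme.Modules.restrictFunctor b).obj G).fromTildeΓ)
  simp only [chartTrans, NatTrans.comp_app, Functor.whiskerLeft_app, Functor.whiskerRight_app]
  haveI h1 : IsIso ((tildePullbackIso φ).inv.app ((secFunctor b).obj G)) := inferInstance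
  haveI h2 : IsIso ((Scheme.Modules.pullback (Spec.map φ)).map
      ((Scheme.Modules.fromTildeΓNatTrans (R := A)).app
        ((Scheme.Modules.restrictFunctor b).obj G))) := inferInstance
  haveI h3 : IsIso ((pullbackRestrictIso f a b (Spec.map φ) h).inv.app G) := inferInstance
  exact @IsIso.comp_isIso _ _ _ _ _ _ _ h1 (@IsIso.comp_isIso _ _ _ _ _ _ _ h2 h3)

variable {F G : Y.Modules} [F.IsQuasicoherent] [G.IsQuasicoherent]

lemma restrict_pullback_map_eq (δ : F ⟶ G) :
    (Scheme.Modules.restrictFunctor a).map ((Scheme.Modules.pullback f).map δ) =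
      inv ((chartTrans f a b φ h).app F) ≫ (chartFunctor b φ).map δ ≫
        (chartTrans f a b φ h).app G := by
  rw [IsIso.eq_inv_comp]
  exact ((chartTrans f a b φ h).naturality δ).symm

lemma chartFunctor_map_eq_iff (δ₁ δ₂ : F ⟶ G) :
    (chartFunctor b φ).map δ₁ = (chartFunctor b φ).map δ₂ ↔
      (ModuleCat.extendScalars.{u, u, u} φ.hom).map ((secFunctor b).map δ₁) =
        (ModuleCat.extendScalars.{u, u, u} φ.hom).map ((secFunctor b).map δ₂) := by
  constructor
  · intro h'
    exact (tilde.functor B).map_injective h'
  · intro h'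
    simp only [chartFunctor, Functor.comp_map, h']

include h in
/-- Equality of restricted pullbacks of two morphisms, in terms of the algebraic model. -/
lemma restrict_pullback_map_eq_iff (δ₁ δ₂ : F ⟶ G) :
    (Scheme.Modules.restrictFunctor a).map ((Scheme.Modules.pullback f).map δ₁) =
      (Scheme.Modules.restrictFunctor a).map ((Scheme.Modules.pullback f).map δ₂) ↔
    (ModuleCat.extendScalars.{u, u, u} φ.hom).map ((secFunctor b).map δ₁) =
        (ModuleCat.extendScalars.{u, u, u} φ.hom).map ((secFunctor b).map δ₂) := by
  rw [← chartFunctor_map_eq_iff, restrict_pullback_map_eq f a b φ h,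
    restrict_pullback_map_eq f a b φ h]
  constructor
  · intro h'
    have := (cancel_epi _).1 h'
    exact (cancel_mono _).1 this
  · intro h'
    rw [h']

include h in
/-- The restricted pullback of `δ` is an isomorphism iff the algebraic model is. -/
lemma isIso_restrict_pullback_map_iff (δ : F ⟶ G) :
    IsIso ((Scheme.Modules.restrictFunctor a).map ((Scheme.Modules.pullback f).map δ)) ↔
      IsIso ((ModuleCat.extendScalars.{u, u, u} φ.hom).map ((secFunctor b).map δ)) := by
  have hnat := (chartTrans f a b φ h).naturality δ
  constructor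
  · intro h'
    haveI : IsIso ((chartFunctor b φ).map δ) := by
      have h1 : (chartFunctor b φ).map δ = (chartTrans f a b φ h).app F ≫
          (Scheme.Modules.pullback f ⋙ Scheme.Modules.restrictFunctor a).map δ ≫
            inv ((chartTrans f a b φ h).app G) := by
        rw [← Category.assoc, ← hnat, Category.assoc, IsIso.hom_inv_id, Category.comp_id]
      rw [h1]
      haveI : IsIso ((Scheme.Modules.pullback f ⋙ Scheme.Modules.restrictFunctor a).map δ) := h'
      infer_instance
    have h2 : IsIso ((tilde.functor B).map ((ModuleCat.extendScalars.{u, u, u} φ.hom).map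
        ((secFunctor b).map δ))) := this
    exact isIso_of_fully_faithful (tilde.functor B) _
  · intro h'
    haveI : IsIso ((chartFunctor b φ).map δ) := by
      simp only [chartFunctor, Functor.comp_map]
      infer_instance
    rw [restrict_pullback_map_eq f a b φ h]
    infer_instance

end Groth.Agent.Helper14.LimMod
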