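import Mathlib
import Groth.Agent.Lib.Helper14.LimModC
import Groth.Agent.Lib.Helper14.LimModA

/-!
# Extension of scalars along a filtered colimit of rings (helper14)

* `extendScalars_map_eq_iff`: equality of `(extendScalars f).map g₁` and `(extendScalars f).map g₂`
  in terms of ordinary tensor products.
* `exists_stage_extendScalars_map_eq`: if `R : J ⥤ CommRingCat` is a filtered diagram with colimit
  `t`, `M` a finite `R j₀`-module and `g₁ g₂ : M ⟶ N` become equal after extension of scalars to
  the colimit, then they become equal after extension of scalars to some stage.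
-/

open CategoryTheory Limits TensorProduct

universe u

namespace Groth.Agent.Helper14.LimMod

section Single

variable {R S : Type u} [CommRing R] [CommRing S] (f : R →+* S)

/-- `S` with its `R`-module structure from `restrictScalars` is `S` with the module structure
from `f.toAlgebra`. -/
noncomputable def selfEquiv :
    letI := f.toAlgebra
    ((ModuleCat.restrictScalars f).obj (ModuleCat.of S S)) ≃ₗ[R] S :=
  letI := f.toAlgebra
  { toFun := fun x => x
    invFun := fun x => x
    map_add' := fun _ _ => rfl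
    map_smul' := fun a x => by
      change f a * (show S from x) = a • (show S from x)
      rw [Algebra.smul_def]
      rfl
    left_inv := fun _ => rfl
    right_inv := fun _ => rfl }

/-- `(extendScalars f).obj N` is `N ⊗[R] S`. -/
noncomputable def tmulEquiv (N : ModuleCat.{u} R) :
    letI := f.toAlgebra
    ((ModuleCat.extendScalars.{u, u, u} f).obj N) ≃+ N ⊗[R] S :=
  letI := f.toAlgebra
  ((TensorProduct.congr (selfEquiv f) (LinearEquiv.refl R N)).trans
    (TensorProduct.comm R S N)).toAddEquiv

open ChangeOfRings in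
lemma tmulEquiv_tmul (N : ModuleCat.{u} R) (s : S) (n : N) :
    letI := f.toAlgebra
    tmulEquiv f N (s ⊗ₜ[R,f] n) = n ⊗ₜ[R] s := rfl

/-- The `R`-linear map `m ↦ g m ⊗ 1` from `M` to `N ⊗[R] S`. -/
noncomputable def stageMap {M N : ModuleCat.{u} R} (g : M ⟶ N) :
    letI := f.toAlgebra
    M →ₗ[R] N ⊗[R] S :=
  letI := f.toAlgebra
  (TensorProduct.mk R N S).flip 1 ∘ₗ g.hom

lemma stageMap_apply {M N : ModuleCat.{u} R} (g : M ⟶ N) (m : M) :
    letI := f.toAlgebra
    stageMap f g m = g.hom m ⊗ₜ[R] (1 : S) := rfl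

open ChangeOfRings in
lemma extendScalars_map_eq_iff {M N : ModuleCat.{u} R} (g₁ g₂ : M ⟶ N) :
    (ModuleCat.extendScalars.{u, u, u} f).map g₁ = (ModuleCat.extendScalars.{u, u, u} f).map g₂ ↔
      stageMap f g₁ = stageMap f g₂ := by
  letI := f.toAlgebra
  constructor
  · intro h
    ext m
    have := congr(tmulEquiv f N (($h).hom ((1 : S) ⊗ₜ[R,f] m)))
    exact this
  · intro h
    apply ModuleCat.ExtendScalars.hom_ext
    intro m
    apply (tmulEquiv f N).injective
    exact congr($h m)

end Single

section Colimit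

variable {J : Type u} [SmallCategory J] [IsFiltered J] (R : J ⥤ CommRingCat.{u}) (t : Cocone R)
  (ht : IsColimit t) (j₀ : J)

/-- The algebra structure on a stage over `R j₀`. -/
@[reducible] noncomputable def stageAlgebra (j : Under j₀) : Algebra (R.obj j₀) (R.obj j.right) :=
  (R.map j.hom).hom.toAlgebra

/-- The algebra structure on the colimit over `R j₀`. -/
@[reducible] noncomputable def ptAlgebra : Algebra (R.obj j₀) t.pt :=
  (t.ι.app j₀).hom.toAlgebra

attribute [local instance] stageAlgebra ptAlgebra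

/-- transition maps as algebra homomorphisms. -/
noncomputable def stageHom {j k : Under j₀} (u : j ⟶ k) :
    R.obj j.right →ₐ[R.obj j₀] R.obj k.right :=
  { (R.map u.right).hom with
    commutes' := fun r => by
      change (R.map u.right).hom ((R.map j.hom).hom r) = (R.map k.hom).hom r
      rw [← Under.w u, R.map_comp]
      rfl }

/-- the maps to the colimit as algebra homomorphisms. -/
noncomputable def ptHom (j : Under j₀) : R.obj j.right →ₐ[R.obj j₀] t.pt :=
  { (t.ι.app j.right).hom with
    commutes' := fun r => by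
      change (t.ι.app j.right).hom ((R.map j.hom).hom r) = (t.ι.app j₀).hom r
      rw [← t.w j.hom]
      rfl }

lemma ptHom_comp_stageHom {j k : Under j₀} (u : j ⟶ k) :
    (ptHom R t j₀ k).comp (stageHom R j₀ u) = ptHom R t j₀ j := by
  ext x
  change (t.ι.app k.right).hom ((R.map u.right).hom x) = (t.ι.app j.right).hom x
  rw [← t.w u.right]
  rfl

include ht in
lemma ptHom_surj (a : t.pt) : ∃ (j : Under j₀) (x : R.obj j.right), ptHom R t j₀ j x = a := by
  obtain ⟨k, x, hx⟩ := Types.jointly_surjective_of_isColimit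
    (isColimitOfPreserves (forget CommRingCat) ht) a
  refine ⟨Under.mk (IsFiltered.leftToMax j₀ k), (R.map (IsFiltered.rightToMax j₀ k)).hom x, ?_⟩
  have hx' : (t.ι.app k).hom x = a := hx
  change (t.ι.app (IsFiltered.max j₀ k)).hom ((R.map (IsFiltered.rightToMax j₀ k)).hom x) = a
  rw [← hx', ← t.w (IsFiltered.rightToMax j₀ k)]
  rfl

include ht in
lemma ptHom_ker (j : Under j₀) (x : R.obj j.right) (hx : ptHom R t j₀ j x = 0) :
    ∃ (k : Under j₀) (u : j ⟶ k), stageHom R j₀ u x = 0 := by
  obtain ⟨k, u, hu⟩ := (Types.FilteredColimit.isColimit_eq_iff'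
    (isColimitOfPreserves (forget CommRingCat) ht) x (0 : R.obj j.right)).mp (by
      change (t.ι.app j.right).hom x = (t.ι.app j.right).hom 0
      rw [map_zero]
      exact hx)
  refine ⟨Under.mk (j.hom ≫ u), Under.homMk u rfl, ?_⟩
  change (R.map u).hom x = 0
  have : (R.map u).hom x = (R.map u).hom 0 := hu
  rw [this, map_zero]

include ht in
/-- If two maps from a finite module become equal after extension of scalars to a filtered
colimit of rings, they become equal after extension of scalars to some stage. -/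
theorem exists_stage_extendScalars_map_eq {M N : ModuleCat.{u} (R.obj j₀)}
    [Module.Finite (R.obj j₀) M] (g₁ g₂ : M ⟶ N)
    (h : (ModuleCat.extendScalars.{u, u, u} (t.ι.app j₀).hom).map g₁ =
      (ModuleCat.extendScalars.{u, u, u} (t.ι.app j₀).hom).map g₂) :
    ∃ (j : J) (u : j₀ ⟶ j), (ModuleCat.extendScalars.{u, u, u} (R.map u).hom).map g₁ =
      (ModuleCat.extendScalars.{u, u, u} (R.map u).hom).map g₂ := by
  classical
  rw [extendScalars_map_eq_iff] at h
  obtain ⟨s, hs⟩ := (Module.Finite.fg_top : (⊤ : Submodule (R.obj j₀) M).FG)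
  let i₀ : Under j₀ := Under.mk (𝟙 j₀)
  let Z : Finset (N ⊗[R.obj j₀] R.obj i₀.right) :=
    s.image (fun m => (g₁.hom m - g₂.hom m) ⊗ₜ[R.obj j₀] (1 : R.obj i₀.right))
  have hZ : ∀ z ∈ Z, LinearMap.lTensor N (ptHom R t j₀ i₀).toLinearMap z = 0 := by
    intro z hz
    obtain ⟨m, -, rfl⟩ := Finset.mem_image.mp hz
    rw [LinearMap.lTensor_tmul, AlgHom.toLinearMap_apply, map_one, sub_tmul, sub_eq_zero]
    exact congr($h m)
  obtain ⟨j, θ, -, hθ⟩ := kill_tensor_finset (fun u => stageHom R j₀ u)
    (fun u => ptHom_comp_stageHom R t j₀ u) (ptHom_surj R t ht j₀) (ptHom_ker R t ht j₀) N i₀ Z hZ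
  refine ⟨j.right, j.hom, ?_⟩
  rw [extendScalars_map_eq_iff]
  apply LinearMap.ext_on hs
  intro m hm
  have := hθ _ (Finset.mem_image_of_mem _ hm)
  rw [LinearMap.lTensor_tmul, AlgHom.toLinearMap_apply, map_one, sub_tmul, sub_eq_zero] at this
  exact this

include ht in
/-- Variant of `exists_stage_extendScalars_map_eq` which is stable under passing to later stages. -/
theorem exists_stage_extendScalars_map_eq' {M N : ModuleCat.{u} (R.obj j₀)}
    [Module.Finite (R.obj j₀) M] (g₁ g₂ : M ⟶ N)
    (h : (ModuleCat.extendScalars.{u, u, u} (t.ι.app j₀).hom).map g₁ =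
      (ModuleCat.extendScalars.{u, u, u} (t.ι.app j₀).hom).map g₂) :
    ∃ (j : J) (u : j₀ ⟶ j), ∀ (j' : J) (v : j ⟶ j'),
      (ModuleCat.extendScalars.{u, u, u} (R.map (u ≫ v)).hom).map g₁ =
        (ModuleCat.extendScalars.{u, u, u} (R.map (u ≫ v)).hom).map g₂ := by
  obtain ⟨j, u, hu⟩ := exists_stage_extendScalars_map_eq R t ht j₀ g₁ g₂ h
  refine ⟨j, u, fun j' v => ?_⟩
  have e : (R.map (u ≫ v)).hom = (R.map v).hom.comp (R.map u).hom := by
    rw [R.map_comp]
    rfl
  rw [e]
  exact map_eq_of_map_eq_comp (ModuleCat.extendScalarsComp (R.map u).hom (R.map v).hom) g₁ g₂ hu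

end Colimit

end Groth.Agent.Helper14.LimMod
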