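import Mathlib

/-!
# Affine charts on a cofiltered system of schemes with affine transition maps (helper14)

For `D : I ⥤ Scheme` with affine transition maps, a limit cone `c`, an index `i₀` and an affine open
`V ⊆ D i₀`, we package the rings of sections over the preimages of `V`, as a filtered diagram of
rings with its colimit, together with the charts `Spec Γ ⟶ D j`.
-/

open CategoryTheory AlgebraicGeometry Limits Opposite TopologicalSpace

universe u

namespace Groth.Agent.Helper14.LimMod

variable {I : Type u} [SmallCategory I] (D : I ⥤ Scheme.{u}) (c : Cone D) (hc : IsLimit c)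
  (i₀ : I) (V : (D.obj i₀).Opens)

/-- The filtered diagram of rings `j ↦ Γ(D j, preimage of V)`. -/
noncomputable def chartRing : (Over i₀)ᵒᵖ ⥤ CommRingCat.{u} :=
  (opensDiagram D i₀ V).op ⋙ Scheme.Γ

/-- The cocone over `chartRing` given by the sections over the preimage of `V` in the limit. -/
noncomputable def chartCocone : Cocone (chartRing D i₀ V) :=
  Scheme.Γ.mapCocone (opensCone D c i₀ V).op

section

variable [IsCofiltered I] [∀ {i j : I} (f : i ⟶ j), IsAffineHom (D.map f)]
  {V} (hV : IsAffineOpen V)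

include hV in
lemma isAffine_opensDiagram_obj (j : Over i₀) : IsAffine ((opensDiagram D i₀ V).obj j) :=
  hV.preimage (D.map j.hom)

include hV hc in
lemma isAffine_opensCone_pt : IsAffine (opensCone D c i₀ V).pt := by
  haveI := isAffineHom_π_app D c hc i₀
  exact hV.preimage (c.π.app i₀)

include hV in
/-- `chartCocone` is a colimit cocone. -/
noncomputable def isColimitChartCocone : IsColimit (chartCocone D c i₀ V) := by
  haveI : ∀ j, IsAffine (((opensDiagram D i₀ V).op).obj j).unop := fun j =>
    isAffine_opensDiagram_obj D i₀ hV j.unop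
  exact isColimitOfPreserves Scheme.Γ (isLimitOpensCone D c hc i₀ V).op

end

section Charts

variable [IsCofiltered I] [∀ {i j : I} (f : i ⟶ j), IsAffineHom (D.map f)]

/-- The preimage of `V` in `D j`. -/
abbrev preU (j : Over i₀) : (D.obj j.left).Opens := D.map j.hom ⁻¹ᵁ V

/-- The preimage of `V` in the limit. -/
abbrev preUpt : c.pt.Opens := c.π.app i₀ ⁻¹ᵁ V

/-- Transition maps between the preimages of `V`. -/
noncomputable def tr {j k : Over i₀} (u : j ⟶ k) :
    (preU D i₀ V j).toScheme ⟶ (preU D i₀ V k).toScheme :=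
  (opensDiagram D i₀ V).map u

/-- Projections from the preimage of `V` in the limit. -/
noncomputable def trPt (j : Over i₀) :
    (preUpt D c i₀ V).toScheme ⟶ (preU D i₀ V j).toScheme :=
  (opensCone D c i₀ V).π.app j

lemma tr_comp_ι {j k : Over i₀} (u : j ⟶ k) :
    tr D i₀ V u ≫ (preU D i₀ V k).ι = (preU D i₀ V j).ι ≫ D.map u.left := by
  simp only [tr, opensDiagram_map, Scheme.Hom.resLE_comp_ι]

lemma trPt_comp_ι (j : Over i₀) :
    trPt D c i₀ V j ≫ (preU D i₀ V j).ι = (preUpt D c i₀ V).ι ≫ c.π.app j.left := by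
  simp only [trPt, opensCone_π_app, Scheme.Hom.resLE_comp_ι]

variable {V} (hV : IsAffineOpen V)

include hV in
lemma isAffineOpen_preU (j : Over i₀) : IsAffineOpen (preU D i₀ V j) :=
  hV.preimage (D.map j.hom)

include hV hc in
lemma isAffineOpen_preUpt : IsAffineOpen (preUpt D c i₀ V) := by
  haveI := isAffineHom_π_app D c hc i₀
  exact hV.preimage (c.π.app i₀)

/-- The chart `Spec Γ(D j, preimage of V) ⟶ D j`. -/
noncomputable def chart (j : Over i₀) :
    Spec Γ((preU D i₀ V j).toScheme, ⊤) ⟶ D.obj j.left :=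
  haveI : IsAffine (preU D i₀ V j).toScheme := isAffineOpen_preU D i₀ hV j
  (preU D i₀ V j).toScheme.isoSpec.inv ≫ (preU D i₀ V j).ι

instance (j : Over i₀) : IsOpenImmersion (chart D i₀ hV j) := by
  haveI : IsAffine (preU D i₀ V j).toScheme := isAffineOpen_preU D i₀ hV j
  unfold chart
  infer_instance

lemma opensRange_chart (j : Over i₀) :
    (chart D i₀ hV j).opensRange = preU D i₀ V j := by
  haveI : IsAffine (preU D i₀ V j).toScheme := isAffineOpen_preU D i₀ hV j
  unfold chart
  rw [Scheme.Hom.opensRange_comp_of_isIso, Scheme.Opens.opensRange_ι]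

/-- The chart on the limit. -/
noncomputable def chartPt :
    Spec Γ((preUpt D c i₀ V).toScheme, ⊤) ⟶ c.pt :=
  haveI : IsAffine (preUpt D c i₀ V).toScheme := isAffineOpen_preUpt D c hc i₀ hV
  (preUpt D c i₀ V).toScheme.isoSpec.inv ≫ (preUpt D c i₀ V).ι

instance : IsOpenImmersion (chartPt D c hc i₀ hV) := by
  haveI : IsAffine (preUpt D c i₀ V).toScheme := isAffineOpen_preUpt D c hc i₀ hV
  unfold chartPt
  infer_instance

lemma opensRange_chartPt :
    (chartPt D c hc i₀ hV).opensRange = preUpt D c i₀ V := by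
  haveI : IsAffine (preUpt D c i₀ V).toScheme := isAffineOpen_preUpt D c hc i₀ hV
  unfold chartPt
  rw [Scheme.Hom.opensRange_comp_of_isIso, Scheme.Opens.opensRange_ι]

lemma chart_comp_map {j k : Over i₀} (u : j ⟶ k) :
    chart D i₀ hV j ≫ D.map u.left =
      Spec.map (tr D i₀ V u).appTop ≫ chart D i₀ hV k := by
  haveI : IsAffine (preU D i₀ V j).toScheme := isAffineOpen_preU D i₀ hV j
  haveI : IsAffine (preU D i₀ V k).toScheme := isAffineOpen_preU D i₀ hV k
  have h1 := Scheme.isoSpec_inv_naturality (tr D i₀ V u)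
  unfold chart
  rw [Category.assoc, ← tr_comp_ι]
  exact ((reassoc_of% h1) _).symm

lemma chartPt_comp_π (j : Over i₀) :
    chartPt D c hc i₀ hV ≫ c.π.app j.left =
      Spec.map (trPt D c i₀ V j).appTop ≫ chart D i₀ hV j := by
  haveI : IsAffine (preU D i₀ V j).toScheme := isAffineOpen_preU D i₀ hV j
  haveI : IsAffine (preUpt D c i₀ V).toScheme := isAffineOpen_preUpt D c hc i₀ hV
  have h1 := Scheme.isoSpec_inv_naturality (trPt D c i₀ V j)
  unfold chartPt chart
  rw [Category.assoc, ← trPt_comp_ι]
  exact ((reassoc_of% h1) _).symm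

end Charts

end Groth.Agent.Helper14.LimMod
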