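import Mathlib
import Groth.Agent.Lib.Helper13.FinAffine2
import Groth.Agent.Lib.Helper13.FinTypeRestrict
import Groth.Agent.Lib.Helper14.LimModB
import Groth.Agent.Lib.Helper14.LimModD
import Groth.Agent.Lib.Helper14.LimModE

/-!
# Equality of pulled back morphisms on a cofiltered limit of schemes (helper14)
-/

open CategoryTheory AlgebraicGeometry Limits Opposite TopologicalSpace

universe u

namespace Groth.Agent.Helper14.LimMod

/-- Global sections of a quasi-coherent module of finite type on `Spec A` form a finite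
`A`-module. -/
lemma finite_moduleSpecΓ {A : CommRingCat.{u}} (P : (Spec A).Modules) [P.IsQuasicoherent]
    [SheafOfModules.IsFiniteType (R := (Spec A).ringCatSheaf) P] :
    Module.Finite A (moduleSpecΓFunctor.obj P) := by
  haveI h1 : Module.Finite Γ(Spec A, ⊤) Γ(P, ⊤) :=
    Groth.Agent.Helper13.FinType.finite_sections_of_isFiniteType P (isAffineOpen_top (Spec A))
  haveI h2 : Module.Finite A Γ(Spec A, ⊤) := by
    refine Module.Finite.of_surjective (Algebra.linearMap A Γ(Spec A, ⊤)) ?_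
    intro x
    refine ⟨(Scheme.ΓSpecIso A).hom x, ?_⟩
    change (Scheme.ΓSpecIso A).inv.hom ((Scheme.ΓSpecIso A).hom.hom x) = x
    rw [← CommRingCat.comp_apply, Iso.hom_inv_id]
    rfl
  have h3 : Module.Finite A Γ(P, ⊤) := Module.Finite.trans Γ(Spec A, ⊤) Γ(P, ⊤)
  exact h3

section

variable {I : Type u} [SmallCategory I] [IsCofiltered I] (D : I ⥤ Scheme.{u}) (c : Cone D)
  (hc : IsLimit c) [∀ {i j : I} (f : i ⟶ j), IsAffineHom (D.map f)] (i₀ : I)
  {V : (D.obj i₀).Opens} (hV : IsAffineOpen V)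

/-- The terminal object of `Over i₀`. -/
abbrev j0 : Over i₀ := Over.mk (𝟙 i₀)

/-- The map to the terminal object of `Over i₀`. -/
abbrev toJ0 (j : Over i₀) : j ⟶ j0 i₀ := Over.homMk j.hom

/-- The base chart `Spec Γ(V) ⟶ D i₀`. -/
noncomputable def baseChart : Spec Γ((preU D i₀ V (j0 i₀)).toScheme, ⊤) ⟶ D.obj i₀ :=
  chart D i₀ hV (j0 i₀)

instance : IsOpenImmersion (baseChart D i₀ hV) := by
  unfold baseChart
  infer_instance

lemma chart_comp_hom (j : Over i₀) :
    chart D i₀ hV j ≫ D.map j.hom =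
      Spec.map (tr D i₀ V (toJ0 i₀ j)).appTop ≫ baseChart D i₀ hV :=
  chart_comp_map D i₀ hV (toJ0 i₀ j)

lemma chartPt_comp_π₀ :
    chartPt D c hc i₀ hV ≫ c.π.app i₀ =
      Spec.map (trPt D c i₀ V (j0 i₀)).appTop ≫ baseChart D i₀ hV :=
  chartPt_comp_π D c hc i₀ hV (j0 i₀)

variable {F₀ G₀ : (D.obj i₀).Modules} [F₀.IsQuasicoherent] [G₀.IsQuasicoherent]
  [SheafOfModules.IsFiniteType (R := (D.obj i₀).ringCatSheaf) F₀] (φ₀ ψ₀ : F₀ ⟶ G₀)

include hc in
theorem exists_stage_chart_eq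
    (h : (Scheme.Modules.pullback (c.π.app i₀)).map φ₀ =
      (Scheme.Modules.pullback (c.π.app i₀)).map ψ₀) :
    ∃ j : Over i₀, ∀ (k : Over i₀) (_ : k ⟶ j),
      (Scheme.Modules.restrictFunctor (chart D i₀ hV k)).map
          ((Scheme.Modules.pullback (D.map k.hom)).map φ₀) =
        (Scheme.Modules.restrictFunctor (chart D i₀ hV k)).map
          ((Scheme.Modules.pullback (D.map k.hom)).map ψ₀) := by
  have h1 := congr((Scheme.Modules.restrictFunctor (chartPt D c hc i₀ hV)).map $h)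
  rw [restrict_pullback_map_eq_iff (c.π.app i₀) (chartPt D c hc i₀ hV) (baseChart D i₀ hV)
    (trPt D c i₀ V (j0 i₀)).appTop (chartPt_comp_π₀ D c hc i₀ hV)] at h1
  haveI : SheafOfModules.IsFiniteType (R := (Spec _).ringCatSheaf)
      (F₀.restrict (baseChart D i₀ hV)) :=
    Groth.Agent.Helper13.FinType.isFiniteType_restrict (baseChart D i₀ hV) F₀
  have hfin : Module.Finite _ ((secFunctor (baseChart D i₀ hV)).obj F₀) :=
    finite_moduleSpecΓ (F₀.restrict (baseChart D i₀ hV))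
  obtain ⟨j', u, hu⟩ := @exists_stage_extendScalars_map_eq' _ _ _ (chartRing D i₀ V)
    (chartCocone D c i₀ V) (isColimitChartCocone D c hc i₀ hV) (op (j0 i₀))
    ((secFunctor (baseChart D i₀ hV)).obj F₀) ((secFunctor (baseChart D i₀ hV)).obj G₀) hfin
    ((secFunctor (baseChart D i₀ hV)).map φ₀) ((secFunctor (baseChart D i₀ hV)).map ψ₀) h1
  refine ⟨j'.unop, fun k v => ?_⟩
  rw [restrict_pullback_map_eq_iff (D.map k.hom) (chart D i₀ hV k) (baseChart D i₀ hV)
    (tr D i₀ V (toJ0 i₀ k)).appTop (chart_comp_hom D i₀ hV k)]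
  have h2 := hu (op k) v.op
  have h3 : u ≫ v.op = (toJ0 i₀ k).op := by
    apply Quiver.Hom.unop_inj
    apply Over.OverMorphism.ext
    have := Over.w (u ≫ v.op).unop
    simpa using this
  rw [h3] at h2
  exact h2

end

section Main

variable {I : Type u} [SmallCategory I] [IsCofiltered I] (D : I ⥤ Scheme.{u}) (c : Cone D)
  (hc : IsLimit c) [∀ {i j : I} (f : i ⟶ j), IsAffineHom (D.map f)] (i₀ : I)
  {F₀ G₀ : (D.obj i₀).Modules}

omit [IsCofiltered I] [∀ {i j : I} (f : i ⟶ j), IsAffineHom (D.map f)] in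
/-- The easy direction: equality at a stage implies equality on the limit. -/
lemma pullback_map_eq_of_stage (φ₀ ψ₀ : F₀ ⟶ G₀) {j : I} (φ : j ⟶ i₀)
    (h : (Scheme.Modules.pullback (D.map φ)).map φ₀ = (Scheme.Modules.pullback (D.map φ)).map ψ₀) :
    (Scheme.Modules.pullback (c.π.app i₀)).map φ₀ =
      (Scheme.Modules.pullback (c.π.app i₀)).map ψ₀ :=
  map_eq_of_map_eq_comp (Scheme.Modules.pullbackComp (c.π.app j) (D.map φ) ≪≫
    Scheme.Modules.pullbackCongr (c.w φ)).symm φ₀ ψ₀ h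

variable [CompactSpace (D.obj i₀)] [F₀.IsQuasicoherent] [G₀.IsQuasicoherent]
  [SheafOfModules.IsFiniteType (R := (D.obj i₀).ringCatSheaf) F₀]

include hc in
/-- Two morphisms from a quasi-coherent module of finite type which become equal on the limit
become equal at some stage. -/
theorem exists_stage_pullback_map_eq (φ₀ ψ₀ : F₀ ⟶ G₀)
    (h : (Scheme.Modules.pullback (c.π.app i₀)).map φ₀ =
      (Scheme.Modules.pullback (c.π.app i₀)).map ψ₀) :
    ∃ (j : I) (φ : j ⟶ i₀), (Scheme.Modules.pullback (D.map φ)).map φ₀ =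
      (Scheme.Modules.pullback (D.map φ)).map ψ₀ := by
  classical
  have hex : ∀ x : D.obj i₀, ∃ V : (D.obj i₀).Opens, IsAffineOpen V ∧ x ∈ V := by
    intro x
    obtain ⟨_, ⟨V, hV, rfl⟩, hxV, -⟩ :=
      (D.obj i₀).isBasis_affineOpens.exists_subset_of_mem_open (Set.mem_univ x) isOpen_univ
    exact ⟨V, hV, hxV⟩
  choose V hV hxV using hex
  obtain ⟨t, ht⟩ := CompactSpace.elim_nhds_subcover (fun x => (V x : Set (D.obj i₀)))
    (fun x => (V x).2.mem_nhds (hxV x))
  choose jx hjx using fun x => exists_stage_chart_eq D c hc i₀ (hV x) φ₀ ψ₀ h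
  obtain ⟨k, hk⟩ := IsCofiltered.inf_objs_exists (t.image jx)
  refine ⟨k.left, k.hom, ?_⟩
  refine hom_ext_of_cover _ _ (ι := t) (fun x => chart D i₀ (hV x.1) k) ?_ ?_
  · intro y
    have hy : (D.map k.hom).base y ∈ ⋃ x ∈ t, (V x : Set (D.obj i₀)) := by
      rw [ht]; exact Set.mem_univ _
    obtain ⟨x, hx, hyx⟩ := Set.mem_iUnion₂.mp hy
    refine ⟨⟨x, hx⟩, ?_⟩
    rw [opensRange_chart]
    exact hyx
  · intro x
    obtain ⟨v⟩ := hk (Finset.mem_image_of_mem jx x.2)
    exact hjx x.1 k v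

end Main

end Groth.Agent.Helper14.LimMod
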