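import Mathlib
import Groth.Agent.Lib.Helper13.QCohKer
import Groth.Agent.Lib.Helper13.RestrictLim
import Groth.Agent.Lib.Helper13.FinAffine2
import Groth.Agent.Lib.Helper13.FinPresAffine
import Groth.Agent.Lib.Helper13.PullbackSections
import Groth.Agent.Lib.Helper14.LimModF

/-!
# Kernels of epimorphisms onto finitely presented modules, and an abstract isomorphism criterion
(helper14)
-/

open CategoryTheory AlgebraicGeometry Limits Opposite TopologicalSpace

universe u

namespace Groth.Agent.Helper14.LimMod

section Abstract

variable {C C' : Type*} [Category C] [Category C'] [Abelian C] [Abelian C'] (L : C ⥤ C')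
  [L.Additive] [PreservesFiniteColimits L]

/-- For a right exact functor `L` and an epimorphism `f`, `L f` is an isomorphism iff `L` kills
the inclusion of the kernel of `f`. -/
lemma isIso_map_iff_map_kernel_ι_eq_zero {F G : C} (f : F ⟶ G) [Epi f] :
    IsIso (L.map f) ↔ L.map (kernel.ι f) = 0 := by
  constructor
  · intro h
    have h1 : L.map (kernel.ι f) ≫ L.map f = 0 := by
      rw [← L.map_comp, kernel.condition, L.map_zero]
    exact (cancel_mono (L.map f)).1 (by rw [h1, zero_comp])
  · intro h
    have hcok := Abelian.epiIsCokernelOfKernel (f := f) _ (kernelIsKernel f)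
    have h2 := CokernelCofork.mapIsColimit _ hcok L
    exact CokernelCofork.IsColimit.isIso_π _ h2 h

end Abstract

section Kernel

open Groth.Agent.Helper13.QCohLocal Groth.Agent.Helper13.Pullback

variable {X : Scheme.{u}} {F G : X.Modules} [F.IsQuasicoherent] [G.IsQuasicoherent]
  [SheafOfModules.IsFiniteType (R := X.ringCatSheaf) F]
  [SheafOfModules.IsFinitePresentation (R := X.ringCatSheaf) G]

instance {A : CommRingCat.{u}} : (moduleSpecΓFunctor (R := A)).IsRightAdjoint :=
  (tilde.adjunction (R := A)).isRightAdjoint

/-- An epimorphism of quasi-coherent modules induces a surjection on sections over an affine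
chart. -/
lemma epi_secFunctor_map {A : CommRingCat.{u}} (b : Spec A ⟶ X) [IsOpenImmersion b]
    {F G : X.Modules} [F.IsQuasicoherent] [G.IsQuasicoherent] (f : F ⟶ G) [Epi f] :
    Epi ((secFunctor b).map f) := by
  let f' := (Scheme.Modules.restrictFunctor b).map f
  haveI : Epi f' := inferInstanceAs (Epi ((Scheme.Modules.restrictFunctor b).map f))
  let ε := Scheme.Modules.fromTildeΓNatTrans (R := A)
  haveI hP : IsIso (ε.app ((Scheme.Modules.restrictFunctor b).obj F)) :=
    inferInstanceAs (IsIso ((Scheme.Modules.restrictFunctor b).obj F).fromTildeΓ)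
  haveI hQ : IsIso (ε.app ((Scheme.Modules.restrictFunctor b).obj G)) :=
    inferInstanceAs (IsIso ((Scheme.Modules.restrictFunctor b).obj G).fromTildeΓ)
  have hnat := ε.naturality f'
  have h1 : (moduleSpecΓFunctor ⋙ tilde.functor A).map f' =
      (ε.app ((Scheme.Modules.restrictFunctor b).obj F) ≫ (𝟭 _).map f') ≫
        inv (ε.app ((Scheme.Modules.restrictFunctor b).obj G)) :=
    (IsIso.eq_comp_inv _).2 hnat
  haveI : Epi ((moduleSpecΓFunctor ⋙ tilde.functor A).map f') := by
    rw [h1]
    haveI : Epi ((𝟭 (Spec A).Modules).map f') := inferInstanceAs (Epi f')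
    infer_instance
  have h2 : Epi ((tilde.functor A).map (moduleSpecΓFunctor.map f')) := this
  exact (tilde.functor A).epi_of_epi_map h2

instance {A : CommRingCat.{u}} (b : Spec A ⟶ X) [IsOpenImmersion b] :
    PreservesLimits (secFunctor b) := by
  unfold secFunctor
  haveI h1 : PreservesLimits (Scheme.Modules.restrictFunctor b) := inferInstance
  haveI h2 : PreservesLimits (moduleSpecΓFunctor (R := A)) :=
    (tilde.adjunction (R := A)).rightAdjoint_preservesLimits
  exact comp_preservesLimits _ _

instance {A : CommRingCat.{u}} (b : Spec A ⟶ X) [IsOpenImmersion b] :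
    (secFunctor b).PreservesZeroMorphisms := by
  unfold secFunctor
  haveI h1 : (Scheme.Modules.restrictFunctor b).PreservesZeroMorphisms := inferInstance
  haveI h2 : (moduleSpecΓFunctor (R := A)).PreservesZeroMorphisms := inferInstance
  infer_instance

/-- The kernel of an epimorphism from a quasi-coherent module of finite type onto a quasi-coherent
module of finite presentation is of finite type. -/
theorem isFiniteType_kernel_of_epi (f : F ⟶ G) [Epi f] :
    SheafOfModules.IsFiniteType (R := X.ringCatSheaf) (kernel f : X.Modules) := by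
  haveI : (kernel f : X.Modules).IsQuasicoherent := isQuasicoherent_kernel f
  apply Groth.Agent.Helper13.FinType.isFiniteType_of_finite_sections
  intro x
  obtain ⟨_, ⟨U, hU, rfl⟩, hxU, -⟩ :=
    X.isBasis_affineOpens.exists_subset_of_mem_open (Set.mem_univ x) isOpen_univ
  refine ⟨U, hxU, hU, ?_⟩
  let b := hU.fromSpec
  let g := (secFunctor b).map f
  haveI hepi : Epi g := epi_secFunctor_map b f
  have hsurj : Function.Surjective g.hom := (ModuleCat.epi_iff_surjective g).1 hepi
  haveI hfin : Module.Finite Γ(X, U) ((secFunctor b).obj F) := by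
    haveI : Module.Finite Γ(X, U) Γ(F, U) :=
      Groth.Agent.Helper13.FinType.finite_sections_of_isFiniteType F hU
    exact Module.Finite.equiv (sectionsEquiv F hU)
  haveI hfp : Module.FinitePresentation Γ(X, U) ((secFunctor b).obj G) := by
    haveI : Module.FinitePresentation Γ(X, U) Γ(G, U) :=
      Groth.Agent.Helper13.LocFree.finitePresentation_sections_of_isFinitePresentation G hU
    exact Module.FinitePresentation.of_equiv (sectionsEquiv G hU)
  have hker : (LinearMap.ker g.hom).FG := Module.FinitePresentation.fg_ker g.hom hsurj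
  haveI : Module.Finite Γ(X, U) (LinearMap.ker g.hom) := Module.Finite.of_fg hker
  have e1 : (secFunctor b).obj (kernel f) ≅ kernel g := PreservesKernel.iso (secFunctor b) f
  have e2 : kernel g ≅ ModuleCat.of Γ(X, U) (LinearMap.ker g.hom) := ModuleCat.kernelIsoKer g
  haveI : Module.Finite Γ(X, U) ((secFunctor b).obj (kernel f)) :=
    Module.Finite.equiv (e1 ≪≫ e2).toLinearEquiv.symm
  have h3 : Module.Finite Γ(X, U) Γ((kernel f : X.Modules).restrict hU.fromSpec, ⊤) := this
  exact Module.Finite.equiv (sectionsEquiv (kernel f) hU).symm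

end Kernel

end Groth.Agent.Helper14.LimMod
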