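import Mathlib
import Groth.Agent.Lib.Helper14.LimModG

/-!
# Monomorphisms of quasi-coherent modules on charts, and flat pullback (helper14)
-/

open CategoryTheory AlgebraicGeometry Limits Opposite TopologicalSpace TensorProduct

universe u

namespace Groth.Agent.Helper14.LimMod

open Groth.Agent.Helper13.QCohLocal Groth.Agent.Helper13.Pullback

section Zero

variable {X : Scheme.{u}}

/-- A quasi-coherent module on `Spec A` with zero global sections is zero. -/
lemma isZero_of_isZero_moduleSpecΓ {A : CommRingCat.{u}} (P : (Spec A).Modules)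
    [P.IsQuasicoherent] (h : IsZero (moduleSpecΓFunctor.obj P)) : IsZero P := by
  have h1 : IsZero ((tilde.functor A).obj (moduleSpecΓFunctor.obj P)) :=
    (tilde.functor A).map_isZero h
  exact h1.of_iso (asIso P.fromTildeΓ).symm

/-- A module which restricts to zero on an open cover is zero. -/
lemma isZero_of_cover (K : X.Modules) {ι : Type*} {Y : ι → Scheme.{u}} (a : ∀ i, Y i ⟶ X)
    [∀ i, IsOpenImmersion (a i)] (hcov : ∀ x : X, ∃ i, x ∈ (a i).opensRange)
    (h : ∀ i, IsZero (K.restrict (a i))) : IsZero K := by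
  rw [IsZero.iff_id_eq_zero]
  apply hom_ext_of_cover _ _ a hcov
  intro i
  exact (h i).eq_of_src _ _

/-- Monomorphisms of quasi-coherent modules can be detected on sections over affine charts. -/
lemma mono_of_forall_chart {M N : X.Modules} [M.IsQuasicoherent] [N.IsQuasicoherent] (α : M ⟶ N)
    {ι : Type*} {A : ι → CommRingCat.{u}} (b : ∀ i, Spec (A i) ⟶ X) [∀ i, IsOpenImmersion (b i)]
    (hcov : ∀ x : X, ∃ i, x ∈ (b i).opensRange)
    (h : ∀ i, Mono ((secFunctor (b i)).map α)) : Mono α := by
  haveI : (kernel α : X.Modules).IsQuasicoherent := isQuasicoherent_kernel α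
  apply Preadditive.mono_of_isZero_kernel
  apply isZero_of_cover _ b hcov
  intro i
  apply isZero_of_isZero_moduleSpecΓ
  haveI := h i
  have e : (secFunctor (b i)).obj (kernel α) ≅ kernel ((secFunctor (b i)).map α) :=
    PreservesKernel.iso (secFunctor (b i)) α
  exact (isZero_kernel_of_mono _).of_iso e

lemma mono_secFunctor_map {M N : X.Modules} (α : M ⟶ N) [Mono α] {A : CommRingCat.{u}}
    (b : Spec A ⟶ X) [IsOpenImmersion b] : Mono ((secFunctor b).map α) :=
  inferInstance

end Zero

section Theta

variable {X Y : Scheme.{u}} (f : X ⟶ Y) {A B : CommRingCat.{u}} (a : Spec B ⟶ X) (b : Spec A ⟶ Y)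
  [IsOpenImmersion a] [IsOpenImmersion b] (φ : A ⟶ B) (h : a ≫ f = Spec.map φ ≫ b)

/-- The comparison `B ⊗ Γ(G|_b) ⟶ Γ((f^* G)|_a)`, natural in `G`. -/
noncomputable def secTrans :
    secFunctor b ⋙ ModuleCat.extendScalars.{u, u, u} φ.hom ⟶
      Scheme.Modules.pullback f ⋙ secFunctor a :=
  Functor.whiskerLeft (secFunctor b ⋙ ModuleCat.extendScalars.{u, u, u} φ.hom)
      (tilde.toTildeΓNatIso (R := B)).hom ≫
    Functor.whiskerRight (chartTrans f a b φ h) moduleSpecΓFunctor

instance isIso_secTrans_app (G : Y.Modules) [G.IsQuasicoherent] :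
    IsIso ((secTrans f a b φ h).app G) := by
  simp only [secTrans, NatTrans.comp_app, Functor.whiskerLeft_app, Functor.whiskerRight_app]
  haveI h1 : IsIso ((tilde.toTildeΓNatIso (R := B)).hom.app
      ((secFunctor b ⋙ ModuleCat.extendScalars.{u, u, u} φ.hom).obj G)) := inferInstance
  haveI h2 : IsIso (moduleSpecΓFunctor.map ((chartTrans f a b φ h).app G)) := inferInstance
  exact @IsIso.comp_isIso _ _ _ _ _ _ _ h1 h2

include h in
lemma mono_secFunctor_pullback_map_iff {F G : Y.Modules} [F.IsQuasicoherent]
    [G.IsQuasicoherent] (δ : F ⟶ G) :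
    Mono ((secFunctor a).map ((Scheme.Modules.pullback f).map δ)) ↔
      Mono ((ModuleCat.extendScalars.{u, u, u} φ.hom).map ((secFunctor b).map δ)) := by
  have hnat := (secTrans f a b φ h).naturality δ
  simp only [Functor.comp_map] at hnat
  have e : Arrow.mk ((ModuleCat.extendScalars.{u, u, u} φ.hom).map ((secFunctor b).map δ)) ≅
      Arrow.mk ((secFunctor a).map ((Scheme.Modules.pullback f).map δ)) :=
    Arrow.isoMk (asIso ((secTrans f a b φ h).app F)) (asIso ((secTrans f a b φ h).app G))
      hnat.symm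
  exact ((MorphismProperty.monomorphisms _).arrow_mk_iso_iff e).symm

end Theta

section Flat

variable {R S : Type u} [CommRing R] [CommRing S] (f : R →+* S)

open ChangeOfRings in
lemma tmulEquiv_map {M N : ModuleCat.{u} R} (g : M ⟶ N)
    (x : (ModuleCat.extendScalars.{u, u, u} f).obj M) :
    letI := f.toAlgebra
    tmulEquiv f N (((ModuleCat.extendScalars.{u, u, u} f).map g).hom x) =
      LinearMap.rTensor S g.hom (tmulEquiv f M x) := by
  letI := f.toAlgebra
  let L : ((ModuleCat.restrictScalars f).obj (ModuleCat.of S S)) ⊗[R] M →+ N ⊗[R] S :=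
    (tmulEquiv f N).toAddMonoidHom.comp
      ((ModuleCat.extendScalars.{u, u, u} f).map g).hom.toAddMonoidHom
  let Rr : ((ModuleCat.restrictScalars f).obj (ModuleCat.of S S)) ⊗[R] M →+ N ⊗[R] S :=
    (LinearMap.rTensor S g.hom).toAddMonoidHom.comp (tmulEquiv f M).toAddMonoidHom
  have hLR : ∀ z, L z = Rr z := by
    intro z
    induction z using TensorProduct.induction_on with
    | zero => rw [map_zero, map_zero]
    | tmul s m => rfl
    | add x y hx hy => rw [map_add, map_add, hx, hy]
  exact hLR x

/-- Extension of scalars along a flat ring homomorphism preserves monomorphisms. -/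
lemma mono_extendScalars_map_of_flat (hf : f.Flat) {M N : ModuleCat.{u} R} (g : M ⟶ N) [Mono g] :
    Mono ((ModuleCat.extendScalars.{u, u, u} f).map g) := by
  letI := f.toAlgebra
  haveI : Module.Flat R S := hf
  rw [ModuleCat.mono_iff_injective]
  have hg : Function.Injective g.hom := (ModuleCat.mono_iff_injective g).1 inferInstance
  have hinj : Function.Injective (LinearMap.rTensor S g.hom) :=
    Module.Flat.rTensor_preserves_injective_linearMap g.hom hg
  intro x y hxy
  apply (tmulEquiv f M).injective
  apply hinj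
  rw [← tmulEquiv_map, ← tmulEquiv_map, hxy]

end Flat

section FlatPullback

variable {X Y : Scheme.{u}} (f : X ⟶ Y)

/-- `f` admits an atlas of affine charts over which it is given by flat ring maps. -/
def HasFlatAtlas : Prop :=
  ∀ x : X, ∃ (A B : CommRingCat.{u}) (a : Spec B ⟶ X) (b : Spec A ⟶ Y) (_ : IsOpenImmersion a)
    (_ : IsOpenImmersion b) (φ : A ⟶ B), a ≫ f = Spec.map φ ≫ b ∧ φ.hom.Flat ∧ x ∈ a.opensRange

/-- Pullback along a morphism with a flat atlas preserves monomorphisms of quasi-coherent
modules. -/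
theorem mono_pullback_map_of_hasFlatAtlas (hf : HasFlatAtlas f) {F G : Y.Modules}
    [F.IsQuasicoherent] [G.IsQuasicoherent] (δ : F ⟶ G) [Mono δ] :
    Mono ((Scheme.Modules.pullback f).map δ) := by
  choose A B a b ha hb φ hcomm hflat hx using hf
  haveI : ∀ x, IsOpenImmersion (a x) := ha
  haveI : ∀ x, IsOpenImmersion (b x) := hb
  apply mono_of_forall_chart _ a (fun x => ⟨x, hx x⟩)
  intro x
  rw [mono_secFunctor_pullback_map_iff f (a x) (b x) (φ x) (hcomm x)]
  haveI : Mono ((secFunctor (b x)).map δ) := mono_secFunctor_map δ (b x)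
  exact mono_extendScalars_map_of_flat _ (hflat x) _

end FlatPullback

end Groth.Agent.Helper14.LimMod
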