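import Mathlib
import Groth.Agent.Lib.Helper14.LimModL
import Groth.Agent.Lib.Helper14.LimModF

/-!
# Flatness of the projections of a cofiltered limit with flat affine transition maps (helper14)
-/

open CategoryTheory AlgebraicGeometry Limits Opposite TopologicalSpace TensorProduct

universe u v w

namespace Groth.Agent.Helper14.LimMod

section AbstractFlat

variable {J : Type w} [Category.{v} J] [IsFiltered J]
    {A₀ : Type u} [CommRing A₀] {G : J → Type u} [∀ i, CommRing (G i)] [∀ i, Algebra A₀ (G i)]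
    (F : ∀ {i j : J}, (i ⟶ j) → (G i →ₐ[A₀] G j)) {A : Type u} [CommRing A] [Algebra A₀ A]
    {g : ∀ i, G i →ₐ[A₀] A}
    (hg : ∀ {i j : J} (u : i ⟶ j), (g j).comp (F u) = g i)
    (hsurj : ∀ a : A, ∃ i, ∃ x : G i, g i x = a)
    (hker : ∀ i (x : G i), g i x = 0 → ∃ j, ∃ u : i ⟶ j, F u x = 0)

include hg hsurj hker in
/-- A filtered colimit of flat algebras is flat. -/
theorem flat_of_system (hflat : ∀ i, Module.Flat A₀ (G i)) : Module.Flat A₀ A := by
  rw [Module.Flat.iff_rTensor_preserves_injective_linearMap]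
  intro N N' _ _ _ _ f hf
  rw [injective_iff_map_eq_zero]
  intro z hz
  obtain ⟨j, -, zj, rfl⟩ := lift_tensor F hg hsurj N (IsFiltered.nonempty (C := J)).some z
  have h0 : LinearMap.lTensor N' (g j).toLinearMap (LinearMap.rTensor (G j) f zj) = 0 := by
    rw [lTensor_rTensor_comm']; exact hz
  obtain ⟨k, θ, hθ, hkill⟩ := kill_tensor F hg hsurj hker N' j _ h0
  have h1 : LinearMap.rTensor (G k) f (LinearMap.lTensor N θ.toLinearMap zj) = 0 := by
    rw [← lTensor_rTensor_comm']; exact hkill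
  have h2 : LinearMap.lTensor N θ.toLinearMap zj = 0 :=
    (injective_iff_map_eq_zero _).1
      (Module.Flat.rTensor_preserves_injective_linearMap f hf) _ h1
  rw [← hθ.toLinearMap, LinearMap.lTensor_comp, LinearMap.comp_apply, h2, map_zero]

end AbstractFlat

section ColimitFlat

variable {J : Type u} [SmallCategory J] [IsFiltered J] (R : J ⥤ CommRingCat.{u}) (t : Cocone R)
  (ht : IsColimit t) (j₀ : J)

attribute [local instance] stageAlgebra ptAlgebra

include ht in
/-- If all transition maps out of `j₀` are flat, so is the map to the colimit. -/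
theorem flat_ι_of_flat_map (h : ∀ j : Under j₀, (R.map j.hom).hom.Flat) :
    (t.ι.app j₀).hom.Flat := by
  have : Module.Flat (R.obj j₀) t.pt :=
    flat_of_system (fun u => stageHom R j₀ u)
      (fun u => ptHom_comp_stageHom R t j₀ u) (ptHom_surj R t ht j₀) (ptHom_ker R t ht j₀)
      (fun j => h j)
  exact this

end ColimitFlat

section SchemeFlat

/-- A flat morphism of schemes has a flat atlas. -/
lemma hasFlatAtlas_of_flat {X Y : Scheme.{u}} (f : X ⟶ Y) [Flat f] : HasFlatAtlas f := by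
  intro x
  obtain ⟨_, ⟨U, hU, rfl⟩, hxU, -⟩ :=
    Y.isBasis_affineOpens.exists_subset_of_mem_open (Set.mem_univ (f x)) isOpen_univ
  obtain ⟨_, ⟨V, hV, rfl⟩, hxV, hVU⟩ :=
    X.isBasis_affineOpens.exists_subset_of_mem_open (show x ∈ ((f ⁻¹ᵁ U : X.Opens) : Set X)
      from hxU) (f ⁻¹ᵁ U).2
  refine ⟨Γ(Y, U), Γ(X, V), hV.fromSpec, hU.fromSpec, inferInstance, inferInstance,
    f.appLE U V hVU, ?_, ?_, ?_⟩
  · exact (IsAffineOpen.SpecMap_appLE_fromSpec f hU hV hVU).symm
  · exact HasRingHomProperty.appLE (P := @Flat) f inferInstance ⟨U, hU⟩ ⟨V, hV⟩ hVU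
  · rw [hV.opensRange_fromSpec]; exact hxV

variable {I : Type u} [SmallCategory I] [IsCofiltered I] (D : I ⥤ Scheme.{u}) (c : Cone D)
  (hc : IsLimit c) [∀ {i j : I} (f : i ⟶ j), IsAffineHom (D.map f)] (i₀ : I)

include hc in
/-- The projection from a cofiltered limit with flat affine transition maps has a flat atlas. -/
lemma hasFlatAtlas_π (hfl : ∀ (i j : I) (φ : i ⟶ j), Flat (D.map φ)) :
    HasFlatAtlas (c.π.app i₀) := by
  intro x
  obtain ⟨_, ⟨V, hV, rfl⟩, hxV, -⟩ :=
    (D.obj i₀).isBasis_affineOpens.exists_subset_of_mem_open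
      (Set.mem_univ (c.π.app i₀ x)) isOpen_univ
  refine ⟨_, _, chartPt D c hc i₀ hV, baseChart D i₀ hV, inferInstance, inferInstance,
    (trPt D c i₀ V (j0 i₀)).appTop, chartPt_comp_π₀ D c hc i₀ hV, ?_, ?_⟩
  · refine flat_ι_of_flat_map (chartRing D i₀ V) (chartCocone D c i₀ V)
      (isColimitChartCocone D c hc i₀ hV) (op (j0 i₀)) ?_
    intro j
    haveI : IsAffine (preU D i₀ V (j0 i₀)).toScheme := isAffineOpen_preU D i₀ hV _
    haveI : IsAffine (preU D i₀ V j.right.unop).toScheme := isAffineOpen_preU D i₀ hV _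
    haveI : Flat (D.map j.hom.unop.left) := hfl _ _ _
    have : Flat (tr D i₀ V j.hom.unop) := by
      unfold tr
      rw [opensDiagram_map]
      infer_instance
    exact Scheme.Hom.flat_appTop (tr D i₀ V j.hom.unop)
  · rw [opensRange_chartPt]; exact hxV

end SchemeFlat

end Groth.Agent.Helper14.LimMod
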