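import Mathlib
import Groth.Agent.Lib.Helper14.HomLimF
import Groth.Agent.Lib.Helper14.LimModM

/-!
# Weakly regular sequences: flat descent, local criterion, filtered colimits (helper14)
-/

set_option autoImplicit false
universe u
open CategoryTheory TensorProduct RingTheory.Sequence

namespace Groth.Agent.Helper14.RegLim

open Groth.Agent.Helper14.HomLim Groth.Agent.Helper14.LimMod

section Basic

variable {R : Type*} [CommRing R]

/-- ring form ↔ module form -/
theorem isWeaklyRegular_algebra_iff (C : Type*) [CommRing C] [Algebra R C] (rs : List R) :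
    IsWeaklyRegular C (rs.map (algebraMap R C)) ↔ IsWeaklyRegular (C ⊗[R] R) rs := by
  rw [isWeaklyRegular_map_algebraMap_iff]
  exact ((TensorProduct.rid R C).isWeaklyRegular_congr rs).symm

theorem isSMulRegular_of_faithfullyFlat_tensor (C : Type*) [AddCommGroup C] [Module R C]
    [Module.FaithfullyFlat R C] {M : Type*} [AddCommGroup M] [Module R M] (r : R)
    (h : IsSMulRegular (C ⊗[R] M) r) : IsSMulRegular M r := by
  have h1 : Function.Injective (LinearMap.lTensor C (DistribSMul.toLinearMap R M r)) := by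
    have h2 := congrArg DFunLike.coe (LinearMap.lTensor_smul_action C M r)
    rw [h2]
    exact h
  exact (Module.FaithfullyFlat.lTensor_injective_iff_injective R C _).mp h1

/-- faithfully flat descent of weakly regular sequences -/
theorem isWeaklyRegular_of_faithfullyFlat_tensor (C : Type*) [AddCommGroup C] [Module R C]
    [Module.FaithfullyFlat R C] {M : Type*} [AddCommGroup M] [Module R M] (rs : List R)
    (h : IsWeaklyRegular (C ⊗[R] M) rs) : IsWeaklyRegular M rs := by
  induction rs generalizing M with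
  | nil => exact IsWeaklyRegular.nil R M
  | cons r rs ih =>
    rw [isWeaklyRegular_cons_iff] at h ⊢
    refine ⟨isSMulRegular_of_faithfullyFlat_tensor C r h.1, ih ?_⟩
    exact ((QuotSMulTop.tensorQuotSMulTopEquivQuotSMulTop r C M).isWeaklyRegular_congr rs).mpr h.2

/-- faithfully flat descent of weakly regular sequences, ring form -/
theorem isWeaklyRegular_of_faithfullyFlat (C : Type*) [CommRing C] [Algebra R C]
    [Module.FaithfullyFlat R C] (rs : List R)
    (h : IsWeaklyRegular C (rs.map (algebraMap R C))) : IsWeaklyRegular R rs := by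
  rw [isWeaklyRegular_algebra_iff] at h
  exact isWeaklyRegular_of_faithfullyFlat_tensor C rs h

end Basic

section Local

variable {R : Type*} [CommRing R]
  (Rₚ : ∀ (P : Ideal R) [P.IsMaximal], Type*)
  [∀ (P : Ideal R) [P.IsMaximal], CommRing (Rₚ P)]
  [∀ (P : Ideal R) [P.IsMaximal], Algebra R (Rₚ P)]
  [∀ (P : Ideal R) [P.IsMaximal], IsLocalization.AtPrime (Rₚ P) P]

theorem isSMulRegular_of_localization_maximal {M : Type*} [AddCommGroup M] [Module R M] (r : R)
    (h : ∀ (P : Ideal R) [P.IsMaximal], IsSMulRegular (Rₚ P ⊗[R] M) r) : IsSMulRegular M r := by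
  rw [isSMulRegular_iff_right_eq_zero_of_smul]
  intro m hm
  haveI : ∀ (P : Ideal R) [P.IsMaximal],
      IsLocalizedModule P.primeCompl (TensorProduct.mk R (Rₚ P) M 1) := fun P _ =>
    (isLocalizedModule_iff_isBaseChange P.primeCompl (Rₚ P) _).mpr
      (TensorProduct.isBaseChange R M (Rₚ P))
  refine Module.eq_zero_of_localization_maximal (fun P _ => Rₚ P ⊗[R] M)
    (fun P _ => TensorProduct.mk R (Rₚ P) M 1) m ?_
  intro P hP
  apply (h P).right_eq_zero_of_smul
  rw [TensorProduct.mk_apply, ← TensorProduct.tmul_smul, hm, tmul_zero]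

/-- weak regularity is local at the maximal ideals (module form) -/
theorem isWeaklyRegular_of_localization_maximal_tensor {M : Type*} [AddCommGroup M] [Module R M]
    (rs : List R)
    (h : ∀ (P : Ideal R) [P.IsMaximal], IsWeaklyRegular (Rₚ P ⊗[R] M) rs) :
    IsWeaklyRegular M rs := by
  induction rs generalizing M with
  | nil => exact IsWeaklyRegular.nil R M
  | cons r rs ih =>
    rw [isWeaklyRegular_cons_iff]
    refine ⟨isSMulRegular_of_localization_maximal Rₚ r fun P _ => ?_, ih fun P _ => ?_⟩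
    · exact ((isWeaklyRegular_cons_iff _ r rs).mp (h P)).1
    · exact ((QuotSMulTop.tensorQuotSMulTopEquivQuotSMulTop r (Rₚ P) M).isWeaklyRegular_congr
        rs).mpr ((isWeaklyRegular_cons_iff _ r rs).mp (h P)).2

/-- weak regularity is local at the maximal ideals (ring form) -/
theorem isWeaklyRegular_of_localization_maximal (rs : List R)
    (h : ∀ (P : Ideal R) [P.IsMaximal],
      IsWeaklyRegular (Rₚ P) (rs.map (algebraMap R (Rₚ P)))) :
    IsWeaklyRegular R rs := by
  refine isWeaklyRegular_of_localization_maximal_tensor Rₚ rs fun P _ => ?_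
  exact (isWeaklyRegular_algebra_iff (Rₚ P) rs).mp (h P)

end Local

section Alg

variable {J : Type u} [SmallCategory J] [IsFiltered J]
    {A₀ : Type u} [CommRing A₀] {G : J → Type u} [∀ i, CommRing (G i)] [∀ i, Algebra A₀ (G i)]
    (F : ∀ {i j : J}, (i ⟶ j) → (G i →ₐ[A₀] G j)) {A : Type u} [CommRing A] [Algebra A₀ A]
    (g : ∀ i, G i →ₐ[A₀] A)
    (hg : ∀ {i j : J} (u : i ⟶ j), (g j).comp (F u) = g i)
    (hsurj : ∀ a : A, ∃ i, ∃ x : G i, g i x = a)
    (hker : ∀ i (x : G i), g i x = 0 → ∃ j, ∃ u : i ⟶ j, F u x = 0)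
    (hflat : ∀ i, Module.Flat A₀ (G i))

/-- for a flat module `C`, the kernel of `r` on `C ⊗ M` vanishes as soon as `1 ⊗ k = 0` for the
elements `k` of the kernel of `r` on `M`. -/
theorem isSMulRegular_tensor_of_kill {R : Type*} [CommRing R] (C : Type*) [CommRing C]
    [Algebra R C] [Module.Flat R C] {M : Type*} [AddCommGroup M] [Module R M] (r : R)
    (h : ∀ k : M, r • k = 0 → (1 : C) ⊗ₜ[R] k = 0) : IsSMulRegular (C ⊗[R] M) r := by
  suffices key : ∀ x : C ⊗[R] M, r • x = 0 → x = 0 by
    intro x y hxy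
    exact sub_eq_zero.mp (key _ (by rw [smul_sub]; exact sub_eq_zero.mpr hxy))
  intro x hx
  let φ : M →ₗ[R] M := DistribSMul.toLinearMap R M r
  have hex : Function.Exact (LinearMap.ker φ).subtype φ := LinearMap.exact_subtype_ker_map φ
  have hex' := Module.Flat.lTensor_exact C hex
  have hx' : LinearMap.lTensor C φ x = 0 := by
    have h2 := congrArg DFunLike.coe (LinearMap.lTensor_smul_action C M r)
    have h3 := congrFun h2 x
    exact h3.trans hx
  obtain ⟨y, rfl⟩ := (hex' x).mp hx'
  clear hx hx'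
  induction y with
  | zero => simp
  | tmul c k =>
    rw [LinearMap.lTensor_tmul, Submodule.subtype_apply]
    have hk : r • (k : M) = 0 := k.2
    have := h k hk
    calc c ⊗ₜ[R] (k : M) = c • ((1 : C) ⊗ₜ[R] (k : M)) := by
          rw [TensorProduct.smul_tmul', smul_eq_mul, mul_one]
      _ = 0 := by rw [this, smul_zero]
  | add y z hy hz => rw [map_add, hy, hz, add_zero]

include hg hsurj hker hflat in
theorem exists_stage_isSMulRegular [IsNoetherianRing A₀] {M : Type u} [AddCommGroup M]
    [Module A₀ M] [Module.Finite A₀ M] (r : A₀) (h : IsSMulRegular (A ⊗[A₀] M) r) :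
    ∃ l : J, ∀ (l' : J) (_ : l ⟶ l'), IsSMulRegular (G l' ⊗[A₀] M) r := by
  classical
  let φ : M →ₗ[A₀] M := DistribSMul.toLinearMap A₀ M r
  obtain ⟨T, hT⟩ := (IsNoetherian.noetherian (LinearMap.ker φ) : (LinearMap.ker φ).FG)
  have hdie : ∀ k ∈ T, ∃ l : J, (1 : G l) ⊗ₜ[A₀] k = 0 := by
    intro k hk
    have hkK : k ∈ LinearMap.ker φ := hT ▸ Submodule.subset_span hk
    have hk0 : r • k = 0 := hkK
    apply exists_one_tmul_eq_zero F g hg hsurj hker k
    apply h.right_eq_zero_of_smul
    rw [← TensorProduct.tmul_smul, hk0, tmul_zero]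
  haveI : Nonempty J := IsFiltered.nonempty
  choose! l hl using hdie
  obtain ⟨l₀, hl₀⟩ := IsFiltered.sup_objs_exists (T.image l)
  refine ⟨l₀, fun l' u => ?_⟩
  haveI := hflat l'
  apply isSMulRegular_tensor_of_kill
  have hle : LinearMap.ker φ ≤ LinearMap.ker (TensorProduct.mk A₀ (G l') M 1) := by
    rw [← hT, Submodule.span_le]
    intro k hk
    obtain ⟨v⟩ := hl₀ (Finset.mem_image_of_mem l hk)
    change (1 : G l') ⊗ₜ[A₀] k = 0
    have := congrArg (LinearMap.rTensor M (F (v ≫ u)).toLinearMap) (hl k hk)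
    rw [LinearMap.rTensor_tmul, AlgHom.toLinearMap_apply, map_one, map_zero] at this
    exact this
  intro k hk
  exact hle (show k ∈ LinearMap.ker φ from hk)

include hg hsurj hker hflat in
/-- weak regularity on the colimit descends to all late stages (module form). -/
theorem exists_stage_isWeaklyRegular_tensor [IsNoetherianRing A₀] {M : Type u} [AddCommGroup M]
    [Module A₀ M] [Module.Finite A₀ M] (rs : List A₀) (h : IsWeaklyRegular (A ⊗[A₀] M) rs) :
    ∃ l : J, ∀ (l' : J) (_ : l ⟶ l'), IsWeaklyRegular (G l' ⊗[A₀] M) rs := by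
  induction rs generalizing M with
  | nil =>
    obtain ⟨i⟩ := IsFiltered.nonempty (C := J)
    exact ⟨i, fun l' _ => IsWeaklyRegular.nil A₀ _⟩
  | cons r rs ih =>
    rw [isWeaklyRegular_cons_iff] at h
    obtain ⟨l₁, h₁⟩ := exists_stage_isSMulRegular F g hg hsurj hker hflat r h.1
    obtain ⟨l₂, h₂⟩ := ih (M := QuotSMulTop r M)
      (((QuotSMulTop.tensorQuotSMulTopEquivQuotSMulTop r A M).isWeaklyRegular_congr rs).mpr h.2)
    refine ⟨IsFiltered.max l₁ l₂, fun l' u => ?_⟩
    rw [isWeaklyRegular_cons_iff]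
    refine ⟨h₁ l' (IsFiltered.leftToMax l₁ l₂ ≫ u), ?_⟩
    exact ((QuotSMulTop.tensorQuotSMulTopEquivQuotSMulTop r (G l') M).isWeaklyRegular_congr
      rs).mp (h₂ l' (IsFiltered.rightToMax l₁ l₂ ≫ u))

include hg hsurj hker hflat in
/-- weak regularity on the colimit descends to all late stages (ring form). -/
theorem exists_stage_isWeaklyRegular [IsNoetherianRing A₀] (rs : List A₀)
    (h : IsWeaklyRegular A (rs.map (algebraMap A₀ A))) :
    ∃ l : J, ∀ (l' : J) (_ : l ⟶ l'), IsWeaklyRegular (G l') (rs.map (algebraMap A₀ (G l'))) := by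
  rw [isWeaklyRegular_algebra_iff] at h
  obtain ⟨l, hl⟩ := exists_stage_isWeaklyRegular_tensor F g hg hsurj hker hflat rs h
  exact ⟨l, fun l' u => (isWeaklyRegular_algebra_iff (G l') rs).mpr (hl l' u)⟩

end Alg

end Groth.Agent.Helper14.RegLim
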