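import Mathlib
import Groth.Agent.Lib.Helper6.SchDense

/-!
# Schematic density and flat ring maps (helper14)

Ring-theoretic criterion for schematic density of a finite union of basic opens of an affine open,
and its behaviour under flat ring maps.
-/

set_option autoImplicit false
universe u
open CategoryTheory CategoryTheory.Limits AlgebraicGeometry Opposite TopologicalSpace TensorProduct

namespace Groth.Agent.Helper14.SDLim

/-- uniform exponent for a finite family of annihilating powers -/
theorem exists_uniform_pow {ι B : Type*} [CommRing B] (s : Finset ι) (g : ι → B) (b : B)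
    (hb : ∀ i ∈ s, ∃ n : ℕ, g i ^ n * b = 0) : ∃ N : ℕ, ∀ i ∈ s, g i ^ N * b = 0 := by
  classical
  induction s using Finset.induction_on with
  | empty => exact ⟨0, by simp⟩
  | insert f s hf ih =>
    obtain ⟨N, hN⟩ := ih (fun g hg => hb g (Finset.mem_insert_of_mem hg))
    obtain ⟨n, hn⟩ := hb f (Finset.mem_insert_self f s)
    refine ⟨max N n, fun i hi => ?_⟩
    rcases Finset.mem_insert.mp hi with rfl | hi
    · rw [← Nat.sub_add_cancel (le_max_right N n), pow_add, mul_assoc, hn, mul_zero]
    · rw [← Nat.sub_add_cancel (le_max_left N n), pow_add, mul_assoc, hN i hi, mul_zero]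

/-- The key flatness lemma: if `A → B` is flat and every element of `A` killed by powers of
all members of the finite family `s` dies in `B`, then `0` is the only element of `B` killed by
powers of the images of the members of `s`. -/
theorem eq_zero_of_flat {A B : Type u} [CommRing A] [CommRing B] [Algebra A B] [Module.Flat A B]
    (s : Finset A) (hK : ∀ a : A, (∀ f ∈ s, ∃ n : ℕ, f ^ n * a = 0) → algebraMap A B a = 0)
    (b : B) (hb : ∀ f ∈ s, ∃ n : ℕ, algebraMap A B f ^ n * b = 0) : b = 0 := by
  classical
  obtain ⟨N, hN⟩ := exists_uniform_pow s (fun f => algebraMap A B f) b hb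
  let ψ : A →ₗ[A] (s → A) := LinearMap.pi (fun f => (f.1 ^ N) • LinearMap.id)
  have hψ : ∀ (a : A) (f : s), ψ a f = f.1 ^ N * a := fun a f => rfl
  have hex := Module.Flat.lTensor_exact B (LinearMap.exact_subtype_ker_map ψ)
  have h0 : LinearMap.lTensor B ψ (b ⊗ₜ[A] (1 : A)) = 0 := by
    rw [LinearMap.lTensor_tmul]
    have h1 : ψ 1 = ∑ f : s, (f.1 ^ N) • (Pi.single f (1 : A) : s → A) := by
      ext g
      rw [hψ, mul_one, Finset.sum_apply]
      simp [Pi.single_apply]
    rw [h1, TensorProduct.tmul_sum]
    refine Finset.sum_eq_zero (fun f _ => ?_)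
    rw [TensorProduct.tmul_smul, TensorProduct.smul_tmul', Algebra.smul_def, map_pow,
      hN f.1 f.2, TensorProduct.zero_tmul]
  obtain ⟨y, hy⟩ := (hex _).mp h0
  have hrid : ∀ y : B ⊗[A] (LinearMap.ker ψ),
      TensorProduct.rid A B (LinearMap.lTensor B (LinearMap.ker ψ).subtype y) = 0 := by
    intro y
    induction y using TensorProduct.induction_on with
    | zero => simp
    | tmul b' k =>
      rw [LinearMap.lTensor_tmul, TensorProduct.rid_tmul, Submodule.subtype_apply,
        Algebra.smul_def]
      have hk : algebraMap A B k.1 = 0 := by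
        apply hK
        intro f hf
        refine ⟨N, ?_⟩
        have := congrFun (LinearMap.mem_ker.mp k.2) ⟨f, hf⟩
        rw [hψ] at this
        exact this
      rw [hk, zero_mul]
    | add x y hx hy => rw [map_add, map_add, hx, hy, add_zero]
  have := hrid y
  rw [hy, TensorProduct.rid_tmul, one_smul] at this
  exact this

/-- the ring condition relative to a ring map: the only element of `B` killed by powers of the
images of all members of `s` is `0`. -/
def RelCond {A B : Type*} [CommRing A] [CommRing B] (φ : A →+* B) (s : Finset A) : Prop :=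
  ∀ b : B, (∀ f ∈ s, ∃ n : ℕ, φ f ^ n * b = 0) → b = 0

/-- the ring condition -/
abbrev RingCond {A : Type*} [CommRing A] (s : Finset A) : Prop := RelCond (RingHom.id A) s

theorem relCond_of_flat {A B : Type u} [CommRing A] [CommRing B] (φ : A →+* B) (hφ : φ.Flat)
    (s : Finset A) (hK : ∀ a : A, (∀ f ∈ s, ∃ n : ℕ, f ^ n * a = 0) → φ a = 0) :
    RelCond φ s := by
  letI := φ.toAlgebra
  haveI : Module.Flat A B := hφ
  intro b hb
  exact eq_zero_of_flat s hK b hb

theorem relCond_comp_of_flat {A B C : Type u} [CommRing A] [CommRing B] [CommRing C]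
    (φ : A →+* B) (ψ : B →+* C) (hψ : ψ.Flat) (s : Finset A) (h : RelCond φ s) :
    RelCond (ψ.comp φ) s := by
  classical
  have h1 : RelCond ψ (s.image φ) := by
    apply relCond_of_flat ψ hψ
    intro b hb
    rw [h b (fun f hf => hb (φ f) (Finset.mem_image_of_mem φ hf)), map_zero]
  intro c hc
  apply h1 c
  intro f' hf'
  obtain ⟨f, hf, rfl⟩ := Finset.mem_image.mp hf'
  exact hc f hf

end Groth.Agent.Helper14.SDLim
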