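import Mathlib
import Groth.Agent.Lib.Helper6.SchDense
import Groth.Agent.Lib.Helper14.SDLimA

/-!
# Schematic density of quasi-compact opens: ring criterion on affine opens (helper14)
-/

set_option autoImplicit false
universe u
open CategoryTheory CategoryTheory.Limits AlgebraicGeometry Opposite TopologicalSpace

namespace Groth.Agent.Helper14.SDLim

open Groth.Agent.Helper6

/-- a section killed by a power of `f` vanishes on `D(f)` (germ version) -/
theorem germ_eq_zero_of_pow_mul {X : Scheme.{u}} {W : X.Opens} (f a : Γ(X, W)) (n : ℕ)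
    (hn : f ^ n * a = 0) (x : X) (hxW : x ∈ W) (hxf : x ∈ X.basicOpen f) :
    X.presheaf.germ W x hxW a = 0 := by
  have hu : IsUnit (X.presheaf.germ W x hxW f) := (Scheme.mem_basicOpen X f x hxW).mp hxf
  have := congrArg (X.presheaf.germ W x hxW) hn
  rw [map_mul, map_pow, map_zero] at this
  exact (hu.pow n).mul_right_eq_zero.mp this

/-- injectivity of restriction gives the relative ring condition. -/
theorem relCond_of_resInj {Y Z : Scheme.{u}} (p : Y ⟶ Z) {W : Z.Opens} (s : Finset Γ(Z, W))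
    (U₀ : Z.Opens) (hcov : ∀ z ∈ W ⊓ U₀, ∃ f ∈ s, z ∈ Z.basicOpen f)
    (h : ResInj (p ⁻¹ᵁ U₀) (p ⁻¹ᵁ W)) : RelCond (p.app W).hom s := by
  intro a ha
  rw [resInj_iff] at h
  apply h
  apply TopCat.Presheaf.section_ext Y.sheaf (p ⁻¹ᵁ W ⊓ p ⁻¹ᵁ U₀)
  intro x hx
  obtain ⟨f, hf, hxf⟩ := hcov (p x) hx
  obtain ⟨n, hn⟩ := ha f hf
  have hxW : x ∈ p ⁻¹ᵁ W := hx.1
  have hxf' : x ∈ Y.basicOpen ((p.app W).hom f) := by
    have : x ∈ p ⁻¹ᵁ Z.basicOpen f := hxf
    rw [Scheme.preimage_basicOpen] at this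
    exact this
  have h1 := germ_eq_zero_of_pow_mul ((p.app W).hom f) a n hn x hxW hxf'
  refine Eq.trans ?_ (map_zero (Y.presheaf.germ (p ⁻¹ᵁ W ⊓ p ⁻¹ᵁ U₀) x hx).hom).symm
  exact (TopCat.Presheaf.germ_res_apply Y.presheaf _ x hx a).trans h1

/-- the ring condition gives injectivity of restriction for all opens inside the affine open. -/
theorem resInj_of_ringCond {X : Scheme.{u}} {W : X.Opens} (hW : IsAffineOpen W)
    (s : Finset Γ(X, W)) (U : X.Opens) (hsU : ∀ f ∈ s, X.basicOpen f ≤ U)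
    (hR : RingCond s) (V : X.Opens) (hVW : V ≤ W) : ResInj U V := by
  rw [resInj_iff]
  intro a ha
  apply TopCat.Presheaf.section_ext X.sheaf V
  intro x hx
  obtain ⟨h, hhV, hxh⟩ := hW.exists_basicOpen_le ⟨x, hx⟩ (hVW hx)
  suffices h0 : X.presheaf.map (homOfLE hhV).op a = 0 by
    have := congrArg (X.presheaf.germ (X.basicOpen h) x hxh) h0
    rw [TopCat.Presheaf.germ_res_apply, map_zero] at this
    refine Eq.trans ?_ (map_zero (X.presheaf.germ V x hx).hom).symm
    exact this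
  haveI := hW.isLocalization_basicOpen h
  obtain ⟨⟨a₀, ⟨_, m, rfl⟩⟩, hm⟩ := IsLocalization.surj (Submonoid.powers h)
    (X.presheaf.map (homOfLE hhV).op a)
  have halg : ∀ t : Γ(X, W), algebraMap Γ(X, W) Γ(X, X.basicOpen h) t =
      X.presheaf.map (homOfLE (X.basicOpen_le h)).op t := fun t => rfl
  -- `a₀` vanishes on `D(h * f)` for `f ∈ s`
  have hkill : ∀ f ∈ s, ∃ n : ℕ, (h * f) ^ n * a₀ = 0 := by
    intro f hf
    apply exists_pow_mul_eq_zero_of_res_basicOpen_eq_zero_of_isAffineOpen X hW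
    have hle : X.basicOpen (h * f) ≤ X.basicOpen h := by
      rw [Scheme.basicOpen_mul]; exact inf_le_left
    have hle2 : X.basicOpen (h * f) ≤ V ⊓ U := by
      rw [Scheme.basicOpen_mul]; exact inf_le_inf hhV (hsU f hf)
    change X.presheaf.map (homOfLE (X.basicOpen_le (h * f))).op a₀ = 0
    have e1 : X.presheaf.map (homOfLE (X.basicOpen_le (h * f))).op a₀ =
        X.presheaf.map (homOfLE hle).op (X.presheaf.map (homOfLE (X.basicOpen_le h)).op a₀) :=
      (res_res _ _ a₀).symm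
    rw [e1, ← halg, ← hm, map_mul]
    have e2 : X.presheaf.map (homOfLE hle).op (X.presheaf.map (homOfLE hhV).op a) = 0 := by
      rw [res_res]
      have := res_res (inf_le_left : V ⊓ U ≤ V) hle2 a
      rw [ha, res_zero] at this
      exact this.symm
    rw [e2, zero_mul]
  obtain ⟨N, hN⟩ := exists_uniform_pow s (fun f => h * f) a₀ hkill
  have h1 : h ^ N * a₀ = 0 := by
    apply hR
    intro f hf
    refine ⟨N, ?_⟩
    have := hN f hf
    rw [mul_pow] at this
    rw [RingHom.id_apply, ← this]; ring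
  have h2 : algebraMap Γ(X, W) Γ(X, X.basicOpen h) a₀ = 0 := by
    have h3 := congrArg (algebraMap Γ(X, W) Γ(X, X.basicOpen h)) h1
    rw [map_mul, map_pow, map_zero] at h3
    have hu : IsUnit (algebraMap Γ(X, W) Γ(X, X.basicOpen h) h) :=
      IsLocalization.Away.algebraMap_isUnit h
    exact (hu.pow N).mul_right_eq_zero.mp h3
  rw [h2] at hm
  have hu : IsUnit (algebraMap Γ(X, W) Γ(X, X.basicOpen h) (h ^ m)) := by
    rw [map_pow]; exact (IsLocalization.Away.algebraMap_isUnit h).pow m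
  exact hu.mul_left_eq_zero.mp hm

/-- a compact open inside an affine open is a finite union of basic opens. -/
theorem exists_finset_basicOpen {X : Scheme.{u}} {W : X.Opens} (hW : IsAffineOpen W)
    (T : X.Opens) (hT : IsCompact (T : Set X)) (hTW : T ≤ W) :
    ∃ s : Finset Γ(X, W), (∀ f ∈ s, X.basicOpen f ≤ T) ∧
      ∀ x ∈ T, ∃ f ∈ s, x ∈ X.basicOpen f := by
  classical
  have hex : ∀ x : T, ∃ f : Γ(X, W), X.basicOpen f ≤ T ∧ (x : X) ∈ X.basicOpen f :=
    fun x => hW.exists_basicOpen_le x (hTW x.2)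
  choose f hfT hxf using hex
  obtain ⟨t, ht⟩ := hT.elim_finite_subcover (fun x : T => (X.basicOpen (f x) : Set X))
    (fun x => (X.basicOpen (f x)).2) (fun x hx => Set.mem_iUnion.mpr ⟨⟨x, hx⟩, hxf ⟨x, hx⟩⟩)
  refine ⟨t.image f, ?_, ?_⟩
  · intro g hg
    obtain ⟨x, -, rfl⟩ := Finset.mem_image.mp hg
    exact hfT x
  · intro x hx
    obtain ⟨y, hy⟩ := Set.mem_iUnion.mp (ht hx)
    obtain ⟨hyt, hxy⟩ := Set.mem_iUnion.mp hy
    exact ⟨f y, Finset.mem_image_of_mem f hyt, hxy⟩

end Groth.Agent.Helper14.SDLim
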