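import Mathlib
import Groth.Agent.Lib.Helper14.SDLimB
import Groth.Agent.Lib.Helper14.HomLimF
import Groth.Agent.Lib.Helper14.LimModM

/-!
# Schematic density in a cofiltered limit with flat affine transition maps (helper14)
-/

set_option autoImplicit false
universe u
open CategoryTheory CategoryTheory.Limits AlgebraicGeometry Opposite TopologicalSpace

namespace Groth.Agent.Helper14.SDLim

open Groth.Agent.Helper6 Groth.Agent.Helper14.LimMod Groth.Agent.Helper14.HomLim

/-- geometric form: relative ring condition ⇒ injectivity of restrictions inside the preimage. -/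
theorem resInj_of_relCond {Y Z : Scheme.{u}} (p : Y ⟶ Z) {W : Z.Opens}
    (hW' : IsAffineOpen (p ⁻¹ᵁ W)) (s : Finset Γ(Z, W)) (U₀ : Z.Opens)
    (hsU : ∀ f ∈ s, Z.basicOpen f ≤ U₀) (hR : RelCond (p.app W).hom s)
    (V : Y.Opens) (hV : V ≤ p ⁻¹ᵁ W) : ResInj (p ⁻¹ᵁ U₀) V := by
  classical
  refine resInj_of_ringCond hW' (s.image (p.app W).hom) (p ⁻¹ᵁ U₀) ?_ ?_ V hV
  · intro f' hf'
    obtain ⟨f, hf, rfl⟩ := Finset.mem_image.mp hf'
    rw [← Scheme.preimage_basicOpen]
    exact Scheme.Hom.preimage_mono p (hsU f hf)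
  · intro b hb
    apply hR b
    intro f hf
    exact hb _ (Finset.mem_image_of_mem _ hf)

section Alg

variable {J : Type u} [SmallCategory J] [IsFiltered J]
    {A₀ : Type u} [CommRing A₀] {G : J → Type u} [∀ i, CommRing (G i)] [∀ i, Algebra A₀ (G i)]
    (F : ∀ {i j : J}, (i ⟶ j) → (G i →ₐ[A₀] G j)) {A : Type u} [CommRing A] [Algebra A₀ A]
    (g : ∀ i, G i →ₐ[A₀] A)
    (hg : ∀ {i j : J} (u : i ⟶ j), (g j).comp (F u) = g i)
    (hsurj : ∀ a : A, ∃ i, ∃ x : G i, g i x = a)
    (hker : ∀ i (x : G i), g i x = 0 → ∃ j, ∃ u : i ⟶ j, F u x = 0)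
    (hflat : ∀ i, Module.Flat A₀ (G i))

include hg hsurj hker hflat in
/-- the ring condition passes to the colimit. -/
theorem relCond_pt (s : Finset A₀) (h : RingCond s) : RelCond (algebraMap A₀ A) s := by
  have : Module.Flat A₀ A := flat_of_system F hg hsurj hker hflat
  intro b hb
  refine eq_zero_of_flat s (fun a ha => ?_) b hb
  rw [h a ha, map_zero]

/-- the ideal of elements killed by powers of all members of `s` -/
def killIdeal {R : Type*} [CommRing R] (s : Finset R) : Ideal R where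
  carrier := {a | ∀ f ∈ s, ∃ n : ℕ, f ^ n * a = 0}
  add_mem' := by
    intro a b ha hb f hf
    obtain ⟨n, hn⟩ := ha f hf
    obtain ⟨m, hm⟩ := hb f hf
    refine ⟨n + m, ?_⟩
    have e : f ^ (n + m) * (a + b) = f ^ m * (f ^ n * a) + f ^ n * (f ^ m * b) := by ring
    rw [e, hn, hm, mul_zero, mul_zero, add_zero]
  zero_mem' := fun f _ => ⟨0, by simp⟩
  smul_mem' := by
    intro c a ha f hf
    obtain ⟨n, hn⟩ := ha f hf
    refine ⟨n, ?_⟩
    rw [smul_eq_mul, mul_left_comm, hn, mul_zero]

include hg hker hflat in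
/-- the ring condition descends from the colimit to all late stages. -/
theorem exists_stage_relCond [IsNoetherianRing A₀] (s : Finset A₀)
    (h : RelCond (algebraMap A₀ A) s) :
    ∃ l : J, ∀ (l' : J) (_ : l ⟶ l'), RelCond (algebraMap A₀ (G l')) s := by
  classical
  obtain ⟨T, hT⟩ := (IsNoetherian.noetherian (killIdeal s) : (killIdeal s).FG)
  -- each generator dies at a stage
  have hdie : ∀ a ∈ T, ∃ l : J, algebraMap A₀ (G l) a = 0 := by
    intro a ha
    have haK : a ∈ killIdeal s := hT ▸ Ideal.subset_span ha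
    have h0 : algebraMap A₀ A a = 0 := by
      apply h
      intro f hf
      obtain ⟨n, hn⟩ := haK f hf
      exact ⟨n, by rw [← map_pow, ← map_mul, hn, map_zero]⟩
    obtain ⟨i⟩ := IsFiltered.nonempty (C := J)
    have h1 : g i (algebraMap A₀ (G i) a) = 0 := by rw [AlgHom.commutes]; exact h0
    obtain ⟨j, u, hu⟩ := hker i _ h1
    exact ⟨j, by rw [← hu, AlgHom.commutes]⟩
  haveI : Nonempty J := IsFiltered.nonempty
  choose! l hl using hdie
  obtain ⟨l₀, hl₀⟩ := IsFiltered.sup_objs_exists (T.image l)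
  refine ⟨l₀, fun l' u => ?_⟩
  have hKdie : ∀ a ∈ killIdeal s, algebraMap A₀ (G l') a = 0 := by
    have hle : killIdeal s ≤ RingHom.ker (algebraMap A₀ (G l')) := by
      rw [← hT, Ideal.span_le]
      intro a ha
      obtain ⟨v⟩ := hl₀ (Finset.mem_image_of_mem l ha)
      change algebraMap A₀ (G l') a = 0
      rw [← (F (v ≫ u)).commutes a, hl a ha, map_zero]
    exact fun a ha => hle ha
  intro b hb
  exact eq_zero_of_flat s (fun a ha => hKdie a ha) b hb

end Alg

variable {I : Type u} [SmallCategory I] [IsCofiltered I] (D : I ⥤ Scheme.{u}) (c : Cone D)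
  (hc : IsLimit c) [∀ {i j : I} (f : i ⟶ j), IsAffineHom (D.map f)]
  (hfl : ∀ {i j : I} (f : i ⟶ j), Flat (D.map f))
  (j : I) {U : (D.obj j).Opens} (hU : IsAffineOpen U)

attribute [local instance] stAlg ptAlg

include hU hfl in
theorem flat_stAlg (l : Over j) : Module.Flat Γ(D.obj j, U) Γ(D.obj l.left, preU D j U l) := by
  haveI := hfl l.hom
  exact HasRingHomProperty.appLE (P := @Flat) (D.map l.hom) inferInstance ⟨U, hU⟩
    ⟨preU D j U l, isAffineOpen_preU D j hU l⟩ le_rfl

include hc hU hfl in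
/-- the ring condition on an affine open of a stage passes to the limit. -/
theorem relCond_limit (s : Finset Γ(D.obj j, U)) (h : RingCond s) :
    RelCond ((c.π.app j).app U).hom s := by
  have := relCond_pt (J := (Over j)ᵒᵖ) (A₀ := Γ(D.obj j, U))
    (G := fun l => Γ(D.obj l.unop.left, preU D j U l.unop))
    (A := Γ(c.pt, preUpt D c j U))
    (fun u => rTrAlg D j u.unop) (fun l => rPtAlg D c j l.unop)
    (fun {k l} u => by
      ext r
      exact congr($(rTr_comp_rPt D c j U u.unop).hom r))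
    (fun a => by
      obtain ⟨k, t, ht⟩ := rPt_surj D c hc j hU a
      exact ⟨op k, t, ht⟩)
    (fun k t ht => by
      obtain ⟨l, u, hu⟩ := rPt_ker D c hc j hU k.unop t ht
      exact ⟨op l, u.op, hu⟩)
    (fun l => flat_stAlg D hfl j hU l.unop) s h
  have e : algebraMap Γ(D.obj j, U) Γ(c.pt, preUpt D c j U) = ((c.π.app j).app U).hom := by
    change ((c.π.app j).appLE U (preUpt D c j U) le_rfl).hom = _
    rw [Scheme.Hom.appLE_eq_app]
  rw [← e]
  exact this

include hc hU hfl in
/-- the ring condition on the limit descends to all late stages. -/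
theorem exists_stage_relCond_limit [IsNoetherianRing Γ(D.obj j, U)] (s : Finset Γ(D.obj j, U))
    (h : RelCond ((c.π.app j).app U).hom s) :
    ∃ l : Over j, ∀ (l' : Over j) (_ : l' ⟶ l), RelCond ((D.map l'.hom).app U).hom s := by
  have e : algebraMap Γ(D.obj j, U) Γ(c.pt, preUpt D c j U) = ((c.π.app j).app U).hom := by
    change ((c.π.app j).appLE U (preUpt D c j U) le_rfl).hom = _
    rw [Scheme.Hom.appLE_eq_app]
  rw [← e] at h
  obtain ⟨l, hl⟩ := exists_stage_relCond (J := (Over j)ᵒᵖ) (A₀ := Γ(D.obj j, U))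
    (G := fun l => Γ(D.obj l.unop.left, preU D j U l.unop))
    (A := Γ(c.pt, preUpt D c j U))
    (fun u => rTrAlg D j u.unop) (fun l => rPtAlg D c j l.unop)
    (fun {k l} u => by
      ext r
      exact congr($(rTr_comp_rPt D c j U u.unop).hom r))
    (fun k t ht => by
      obtain ⟨l, u, hu⟩ := rPt_ker D c hc j hU k.unop t ht
      exact ⟨op l, u.op, hu⟩)
    (fun l => flat_stAlg D hfl j hU l.unop) s h
  refine ⟨l.unop, fun l' u => ?_⟩
  have e' : algebraMap Γ(D.obj j, U) Γ(D.obj l'.left, preU D j U l') =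
      ((D.map l'.hom).app U).hom := by
    change ((D.map l'.hom).appLE U (preU D j U l') le_rfl).hom = _
    rw [Scheme.Hom.appLE_eq_app]
  rw [← e']
  exact hl (op l') u.op

end Groth.Agent.Helper14.SDLim
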