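import Mathlib
import Groth.Agent.Lib.Helper14.RegLimA
import Groth.Agent.Lib.Helper14.SDLimC

/-!
# Weakly regular sequences of sections: stalkwise criterion, flat pullback/descent, limits (helper14)
-/

set_option autoImplicit false
universe u
open CategoryTheory CategoryTheory.Limits AlgebraicGeometry Opposite TopologicalSpace
open RingTheory.Sequence

namespace Groth.Agent.Helper14.RegLim

open Groth.Agent.Helper14.HomLim Groth.Agent.Helper14.LimMod Groth.Agent.Helper14.SDLim

section Stalk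

variable {X : Scheme.{u}}

/-- from an affine open to the stalks -/
theorem isWeaklyRegular_stalk_of_affine {U : X.Opens} (hU : IsAffineOpen U) (x : X) (hx : x ∈ U)
    (rs : List Γ(X, U)) (h : IsWeaklyRegular Γ(X, U) rs) :
    IsWeaklyRegular (X.presheaf.stalk x) (rs.map (X.presheaf.germ U x hx).hom) := by
  letI := X.presheaf.algebra_section_stalk ⟨x, hx⟩
  haveI := hU.isLocalization_stalk ⟨x, hx⟩
  exact IsWeaklyRegular.of_isLocalization (X.presheaf.stalk x)
    (hU.primeIdealOf ⟨x, hx⟩).asIdeal.primeCompl h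

/-- from the stalks to an affine open -/
theorem isWeaklyRegular_affine_of_stalk {U : X.Opens} (hU : IsAffineOpen U) (rs : List Γ(X, U))
    (h : ∀ (x : X) (hx : x ∈ U),
      IsWeaklyRegular (X.presheaf.stalk x) (rs.map (X.presheaf.germ U x hx).hom)) :
    IsWeaklyRegular Γ(X, U) rs := by
  let (x : _) : Algebra Γ(X, U) (X.presheaf.stalk (hU.fromSpec x)) :=
    TopCat.Presheaf.algebra_section_stalk X.presheaf _
  have (P : Ideal Γ(X, U)) [hP : P.IsPrime] : IsLocalization.AtPrime _ P :=
      hU.isLocalization_stalk' ⟨P, hP⟩ (hU.isoSpec.inv _).2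
  refine isWeaklyRegular_of_localization_maximal
    (fun P hP ↦ X.presheaf.stalk (hU.fromSpec ⟨P, hP.isPrime⟩)) rs ?_
  intro P hP
  exact h _ _

/-- germ of the image of a global section -/
theorem germ_appTop {X Y : Scheme.{u}} (f : X ⟶ Y) (x : X) (g : Γ(Y, ⊤)) :
    (X.presheaf.germ ⊤ x trivial).hom (f.appTop.hom g) =
      (f.stalkMap x).hom ((Y.presheaf.germ ⊤ (f x) trivial).hom g) := by
  exact (Scheme.Hom.germ_stalkMap_apply f ⊤ x trivial g).symm

/-- flat pullback of weak regularity, on stalks -/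
theorem isWeaklyRegular_stalk_of_flat {X Y : Scheme.{u}} (f : X ⟶ Y) [Flat f] (x : X)
    (fs : List Γ(Y, ⊤))
    (h : IsWeaklyRegular (Y.presheaf.stalk (f x))
      (fs.map (Y.presheaf.germ ⊤ (f x) trivial).hom)) :
    IsWeaklyRegular (X.presheaf.stalk x)
      ((fs.map f.appTop.hom).map (X.presheaf.germ ⊤ x trivial).hom) := by
  algebraize [(f.stalkMap x).hom]
  haveI : Module.Flat (Y.presheaf.stalk (f x)) (X.presheaf.stalk x) := Flat.stalkMap f x
  have h1 := IsWeaklyRegular.of_flat (S := X.presheaf.stalk x) h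
  rw [List.map_map] at h1 ⊢
  have e : (X.presheaf.germ ⊤ x trivial).hom ∘ f.appTop.hom =
      (algebraMap (Y.presheaf.stalk (f x)) (X.presheaf.stalk x)) ∘
        (Y.presheaf.germ ⊤ (f x) trivial).hom := by
    funext g
    exact germ_appTop f x g
  rw [e]
  exact h1

/-- faithfully flat descent of weak regularity, on stalks -/
theorem isWeaklyRegular_stalk_of_flat_descent {X Y : Scheme.{u}} (f : X ⟶ Y) [Flat f] (x : X)
    (fs : List Γ(Y, ⊤))
    (h : IsWeaklyRegular (X.presheaf.stalk x)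
      ((fs.map f.appTop.hom).map (X.presheaf.germ ⊤ x trivial).hom)) :
    IsWeaklyRegular (Y.presheaf.stalk (f x))
      (fs.map (Y.presheaf.germ ⊤ (f x) trivial).hom) := by
  algebraize [(f.stalkMap x).hom]
  haveI : Module.FaithfullyFlat (Y.presheaf.stalk (f x)) (X.presheaf.stalk x) :=
    @Module.FaithfullyFlat.of_flat_of_isLocalHom _ _ _ _ _ _ _
      (Flat.stalkMap f x) (f.toLRSHom.prop x)
  apply isWeaklyRegular_of_faithfullyFlat (X.presheaf.stalk x)
  rw [List.map_map] at h ⊢
  have e : (X.presheaf.germ ⊤ x trivial).hom ∘ f.appTop.hom =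
      (algebraMap (Y.presheaf.stalk (f x)) (X.presheaf.stalk x)) ∘
        (Y.presheaf.germ ⊤ (f x) trivial).hom := by
    funext g
    exact germ_appTop f x g
  rw [← e]
  exact h

/-- weak regularity of global sections on all affine opens -/
def AffReg (X : Scheme.{u}) (fs : List Γ(X, ⊤)) : Prop :=
  ∀ U : X.affineOpens, IsWeaklyRegular Γ(X, U.1)
    (fs.map (X.presheaf.map (homOfLE (le_top : U.1 ≤ ⊤)).op).hom)

/-- weak regularity of global sections on all stalks -/
def StalkReg (X : Scheme.{u}) (fs : List Γ(X, ⊤)) : Prop :=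
  ∀ x : X, IsWeaklyRegular (X.presheaf.stalk x) (fs.map (X.presheaf.germ ⊤ x trivial).hom)

theorem map_res_map_germ (fs : List Γ(X, ⊤)) (U : X.Opens) (x : X) (hx : x ∈ U) :
    (fs.map (X.presheaf.map (homOfLE (le_top : U ≤ ⊤)).op).hom).map (X.presheaf.germ U x hx).hom
      = fs.map (X.presheaf.germ ⊤ x trivial).hom := by
  rw [List.map_map]
  congr 1
  funext g
  exact TopCat.Presheaf.germ_res_apply X.presheaf (homOfLE (le_top : U ≤ ⊤)) x hx g

theorem stalkReg_of_local (fs : List Γ(X, ⊤))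
    (h : ∀ x : X, ∃ U : X.Opens, IsAffineOpen U ∧ x ∈ U ∧ IsWeaklyRegular Γ(X, U)
      (fs.map (X.presheaf.map (homOfLE (le_top : U ≤ ⊤)).op).hom)) : StalkReg X fs := by
  intro x
  obtain ⟨U, hU, hx, hreg⟩ := h x
  have := isWeaklyRegular_stalk_of_affine hU x hx _ hreg
  rwa [map_res_map_germ] at this

theorem affReg_iff_stalkReg (fs : List Γ(X, ⊤)) : AffReg X fs ↔ StalkReg X fs := by
  constructor
  · intro h
    apply stalkReg_of_local
    intro x
    obtain ⟨_, ⟨U, hU, rfl⟩, hxU, -⟩ :=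
      X.isBasis_affineOpens.exists_subset_of_mem_open (Set.mem_univ x) isOpen_univ
    exact ⟨U, hU, hxU, h ⟨U, hU⟩⟩
  · intro h U
    apply isWeaklyRegular_affine_of_stalk U.2
    intro x hx
    rw [map_res_map_germ]
    exact h x

theorem stalkReg_of_flat {X Y : Scheme.{u}} (f : X ⟶ Y) [Flat f] (fs : List Γ(Y, ⊤))
    (h : StalkReg Y fs) : StalkReg X (fs.map f.appTop.hom) :=
  fun x => isWeaklyRegular_stalk_of_flat f x fs (h (f x))

theorem stalkReg_of_flat_of_surjective {X Y : Scheme.{u}} (f : X ⟶ Y) [Flat f] [Surjective f]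
    (fs : List Γ(Y, ⊤)) (h : StalkReg X (fs.map f.appTop.hom)) : StalkReg Y fs := by
  intro y
  obtain ⟨x, rfl⟩ := f.surjective y
  exact isWeaklyRegular_stalk_of_flat_descent f x fs (h x)

end Stalk

section Limit

variable {I : Type u} [SmallCategory I] [IsCofiltered I] (D : I ⥤ Scheme.{u}) (c : Cone D)
  (hc : IsLimit c) [∀ {i j : I} (f : i ⟶ j), IsAffineHom (D.map f)]
  (hfl : ∀ {i j : I} (f : i ⟶ j), Flat (D.map f))
  (j : I) {U : (D.obj j).Opens} (hU : IsAffineOpen U)

attribute [local instance] stAlg ptAlg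

include hc hU hfl in
/-- weak regularity on the limit descends to all late stages. -/
theorem exists_stage_isWeaklyRegular_limit [IsNoetherianRing Γ(D.obj j, U)]
    (rs : List Γ(D.obj j, U))
    (h : IsWeaklyRegular Γ(c.pt, preUpt D c j U)
      (rs.map ((c.π.app j).app U).hom : List Γ(c.pt, preUpt D c j U))) :
    ∃ l : Over j, ∀ (l' : Over j) (_ : l' ⟶ l),
      IsWeaklyRegular Γ(D.obj l'.left, preU D j U l') (rs.map ((D.map l'.hom).app U).hom) := by
  have e : algebraMap Γ(D.obj j, U) Γ(c.pt, preUpt D c j U) = ((c.π.app j).app U).hom := by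
    change ((c.π.app j).appLE U (preUpt D c j U) le_rfl).hom = _
    rw [Scheme.Hom.appLE_eq_app]
  rw [← e] at h
  obtain ⟨l, hl⟩ := exists_stage_isWeaklyRegular (J := (Over j)ᵒᵖ) (A₀ := Γ(D.obj j, U))
    (G := fun l => Γ(D.obj l.unop.left, preU D j U l.unop))
    (A := Γ(c.pt, preUpt D c j U))
    (fun u => rTrAlg D j u.unop) (fun l => rPtAlg D c j l.unop)
    (fun {k l} u => by
      ext r
      exact congr($(rTr_comp_rPt D c j U u.unop).hom r))
    (fun a => by
      obtain ⟨k, t, ht⟩ := rPt_surj D c hc j hU a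
      exact ⟨op k, t, ht⟩)
    (fun k t ht => by
      obtain ⟨l, u, hu⟩ := rPt_ker D c hc j hU k.unop t ht
      exact ⟨op l, u.op, hu⟩)
    (fun l => flat_stAlg D hfl j hU l.unop) rs h
  refine ⟨l.unop, fun l' u => ?_⟩
  have e' : algebraMap Γ(D.obj j, U) Γ(D.obj l'.left, preU D j U l') =
      ((D.map l'.hom).app U).hom := by
    change ((D.map l'.hom).appLE U (preU D j U l') le_rfl).hom = _
    rw [Scheme.Hom.appLE_eq_app]
  rw [← e']
  exact hl (op l') u.op

end Limit

end Groth.Agent.Helper14.RegLim
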