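import Mathlib
import Groth.Agent.Lib.Helper14.RegLimB
import Groth.Agent.Lib.Helper14.RegImmLimA

/-!
# Extended ideals in filtered colimits of algebras; faithful flatness on sections (helper14)
-/

set_option autoImplicit false
universe u
open CategoryTheory CategoryTheory.Limits AlgebraicGeometry TopologicalSpace
open RingTheory.Sequence

namespace Groth.Agent.Helper14.RegImmLim

section Alg

variable {J : Type u} [SmallCategory J] [IsFiltered J]
    {A₀ : Type u} [CommRing A₀] {G : J → Type u} [∀ i, CommRing (G i)] [∀ i, Algebra A₀ (G i)]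
    (F : ∀ {i j : J}, (i ⟶ j) → (G i →ₐ[A₀] G j)) {A : Type u} [CommRing A] [Algebra A₀ A]
    (g : ∀ i, G i →ₐ[A₀] A)
    (hg : ∀ {i j : J} (u : i ⟶ j), (g j).comp (F u) = g i)
    (hsurj : ∀ a : A, ∃ i, ∃ x : G i, g i x = a)
    (hker : ∀ i (x : G i), g i x = 0 → ∃ j, ∃ u : i ⟶ j, F u x = 0)

omit [IsFiltered J] in
theorem F_mem_map (I₂ : Ideal A₀) {i j : J} (u : i ⟶ j) (y : G i)
    (hy : y ∈ I₂.map (algebraMap A₀ (G i))) : F u y ∈ I₂.map (algebraMap A₀ (G j)) := by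
  have h1 := Ideal.mem_map_of_mem (F u : G i →+* G j) hy
  rw [Ideal.map_map] at h1
  have e : ((F u : G i →+* G j).comp (algebraMap A₀ (G i))) = algebraMap A₀ (G j) := by
    ext r
    simp
  rw [e] at h1
  exact h1

include hg hsurj in
theorem exists_lift_mem_map (I₂ : Ideal A₀) (a : A) (ha : a ∈ I₂.map (algebraMap A₀ A)) :
    ∃ (l : J) (y : G l), g l y = a ∧ y ∈ I₂.map (algebraMap A₀ (G l)) := by
  have hgu : ∀ {i j : J} (u : i ⟶ j) (y : G i), g j (F u y) = g i y := fun u y => by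
    have := congrArg (fun φ => φ y) (hg u)
    exact this
  unfold Ideal.map at ha
  induction ha using Submodule.span_induction with
  | mem a ha =>
    obtain ⟨s, hs, rfl⟩ := ha
    obtain ⟨l⟩ := IsFiltered.nonempty (C := J)
    exact ⟨l, algebraMap A₀ (G l) s, by simp, Ideal.mem_map_of_mem _ hs⟩
  | zero =>
    obtain ⟨l⟩ := IsFiltered.nonempty (C := J)
    exact ⟨l, 0, by simp, Submodule.zero_mem _⟩
  | add a b _ _ iha ihb =>
    obtain ⟨l₁, y₁, h₁, m₁⟩ := iha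
    obtain ⟨l₂, y₂, h₂, m₂⟩ := ihb
    refine ⟨IsFiltered.max l₁ l₂, F (IsFiltered.leftToMax l₁ l₂) y₁ +
      F (IsFiltered.rightToMax l₁ l₂) y₂, ?_, ?_⟩
    · rw [map_add, hgu, hgu, h₁, h₂]
    · exact Ideal.add_mem _ (F_mem_map F I₂ _ _ m₁) (F_mem_map F I₂ _ _ m₂)
  | smul b a _ iha =>
    obtain ⟨l₁, y₁, h₁, m₁⟩ := iha
    obtain ⟨l₀, b₀, hb₀⟩ := hsurj b
    refine ⟨IsFiltered.max l₀ l₁, F (IsFiltered.leftToMax l₀ l₁) b₀ *
      F (IsFiltered.rightToMax l₀ l₁) y₁, ?_, ?_⟩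
    · rw [map_mul, hgu, hgu, h₁, hb₀, smul_eq_mul]
    · exact Ideal.mul_mem_left _ _ (F_mem_map F I₂ _ _ m₁)

include hg hsurj hker in
theorem exists_stage_mem_map (I₂ : Ideal A₀) (t : A₀)
    (ht : algebraMap A₀ A t ∈ I₂.map (algebraMap A₀ A)) :
    ∃ l : J, ∀ (l' : J) (_ : l ⟶ l'), algebraMap A₀ (G l') t ∈ I₂.map (algebraMap A₀ (G l')) := by
  obtain ⟨l, y, hy, my⟩ := exists_lift_mem_map F g hg hsurj I₂ _ ht
  have h0 : g l (algebraMap A₀ (G l) t - y) = 0 := by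
    rw [map_sub, hy, AlgHom.commutes, sub_self]
  obtain ⟨l'', u, hu⟩ := hker l _ h0
  refine ⟨l'', fun l' v => ?_⟩
  have h1 : algebraMap A₀ (G l'') t = F u y := by
    rw [map_sub, AlgHom.commutes, sub_eq_zero] at hu
    exact hu
  have h2 : algebraMap A₀ (G l') t = F v (F u y) := by
    rw [← h1, AlgHom.commutes]
  rw [h2]
  exact F_mem_map F I₂ _ _ (F_mem_map F I₂ _ _ my)

include hg hsurj hker in
theorem exists_stage_map_le (I₁ I₂ : Ideal A₀) (hfg : I₁.FG)
    (h : I₁.map (algebraMap A₀ A) ≤ I₂.map (algebraMap A₀ A)) :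
    ∃ l : J, ∀ (l' : J) (_ : l ⟶ l'),
      I₁.map (algebraMap A₀ (G l')) ≤ I₂.map (algebraMap A₀ (G l')) := by
  classical
  obtain ⟨T, hT⟩ := hfg
  have key : ∀ t ∈ T, ∃ l : J, ∀ (l' : J) (_ : l ⟶ l'),
      algebraMap A₀ (G l') t ∈ I₂.map (algebraMap A₀ (G l')) := by
    intro t ht
    apply exists_stage_mem_map F g hg hsurj hker I₂ t
    apply h
    apply Ideal.mem_map_of_mem
    rw [← hT]
    exact Ideal.subset_span ht
  haveI : Nonempty J := IsFiltered.nonempty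
  choose! l hl using key
  obtain ⟨l₀, hl₀⟩ := IsFiltered.sup_objs_exists (T.image l)
  refine ⟨l₀, fun l' u => ?_⟩
  rw [← hT, Ideal.map_span, Ideal.span_le]
  rintro _ ⟨t, ht, rfl⟩
  obtain ⟨v⟩ := hl₀ (Finset.mem_image_of_mem l ht)
  exact hl t ht l' (v ≫ u)

include hg hsurj hker in
theorem exists_stage_map_eq (I₁ I₂ : Ideal A₀) (hfg₁ : I₁.FG) (hfg₂ : I₂.FG)
    (h : I₁.map (algebraMap A₀ A) = I₂.map (algebraMap A₀ A)) :
    ∃ l : J, ∀ (l' : J) (_ : l ⟶ l'),
      I₁.map (algebraMap A₀ (G l')) = I₂.map (algebraMap A₀ (G l')) := by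
  obtain ⟨l₁, h₁⟩ := exists_stage_map_le F g hg hsurj hker I₁ I₂ hfg₁ h.le
  obtain ⟨l₂, h₂⟩ := exists_stage_map_le F g hg hsurj hker I₂ I₁ hfg₂ h.ge
  refine ⟨IsFiltered.max l₁ l₂, fun l' u => le_antisymm ?_ ?_⟩
  · exact h₁ l' (IsFiltered.leftToMax l₁ l₂ ≫ u)
  · exact h₂ l' (IsFiltered.rightToMax l₁ l₂ ≫ u)

end Alg


section FF

/-- a flat surjective morphism is faithfully flat on sections over an affine open and its
(affine) preimage. -/
theorem faithfullyFlat_appLE {X Y : Scheme.{u}} (f : X ⟶ Y) [Flat f] [hs : Surjective f]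
    {U : Y.Opens} (hU : IsAffineOpen U) {V : X.Opens} (hV : IsAffineOpen V)
    (hVU : V = f ⁻¹ᵁ U) : (f.appLE U V hVU.le).hom.FaithfullyFlat := by
  rw [RingHom.FaithfullyFlat.iff_flat_and_comap_surjective]
  refine ⟨f.flat_appLE hU hV hVU.le, fun p => ?_⟩
  have hpU : hU.fromSpec p ∈ U := by
    have : hU.fromSpec p ∈ Set.range hU.fromSpec := ⟨p, rfl⟩
    rw [hU.range_fromSpec] at this
    exact this
  obtain ⟨x, hx⟩ := hs.surj (hU.fromSpec p)
  have hxV : x ∈ V := by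
    rw [hVU]
    change f x ∈ U
    rw [hx]
    exact hpU
  refine ⟨hV.primeIdealOf ⟨x, hxV⟩, ?_⟩
  have h1 := IsAffineOpen.comap_primeIdealOf_appLE U hU V hV hVU.le hxV
  refine h1.trans ?_
  apply hU.fromSpec.isOpenEmbedding.injective
  rw [hU.fromSpec_primeIdealOf]
  exact hx

end FF


section Lift

open Groth.Agent.Helper14.HomLim Groth.Agent.Helper14.LimMod

variable {I : Type u} [SmallCategory I] [IsCofiltered I] (D : I ⥤ Scheme.{u}) (c : Cone D)
  (hc : IsLimit c) [∀ {i j : I} (f : i ⟶ j), IsAffineHom (D.map f)]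
  (j : I) {U : (D.obj j).Opens} (hU : IsAffineOpen U)

theorem rPt_rTr_apply {k l : Over j} (u : l ⟶ k) (t : Γ(D.obj k.left, preU D j U k)) :
    (rPt D c j U l).hom ((rTr D j U u).hom t) = (rPt D c j U k).hom t :=
  congr($(rTr_comp_rPt D c j U u).hom t)

include hc hU in
/-- finitely many sections over the preimage of an affine open come from a common stage. -/
theorem exists_lift_list (rs' : List Γ(c.pt, preUpt D c j U)) :
    ∃ (l : Over j) (rs : List Γ(D.obj l.left, preU D j U l)),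
      rs.map (rPt D c j U l).hom = rs' := by
  induction rs' with
  | nil => exact ⟨Over.mk (𝟙 j), [], rfl⟩
  | cons a rs' ih =>
    obtain ⟨l₁, rs₁, h₁⟩ := ih
    obtain ⟨l₂, t, ht⟩ := rPt_surj D c hc j hU a
    refine ⟨IsCofiltered.min l₁ l₂, (rTr D j U (IsCofiltered.minToRight l₁ l₂)).hom t ::
      rs₁.map (rTr D j U (IsCofiltered.minToLeft l₁ l₂)).hom, ?_⟩
    rw [List.map_cons, rPt_rTr_apply, ht, List.map_map]
    congr 1
    rw [← h₁]
    apply List.map_congr_left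
    intro x _
    exact rPt_rTr_apply D c j _ x

end Lift

end Groth.Agent.Helper14.RegImmLim
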