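import Mathlib
import Groth.Agent.Lib.Helper14.RegImmLimB
import Groth.Agent.Lib.Helper7.LimFlat
import Groth.Agent.S4758

/-!
# Regular-immersion data on a limit descends to a stage: affine-local core (helper14)
-/

set_option autoImplicit false
universe u
open CategoryTheory CategoryTheory.Limits AlgebraicGeometry TopologicalSpace Opposite
open RingTheory.Sequence

namespace Groth.Agent.Helper14.RegImmLim

open Groth.Agent.Helper14.HomLim Groth.Agent.Helper14.LimMod Groth.Agent.Helper14.SDLim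
  Groth.Agent.Helper14.RegLim

section Core

variable {I : Type u} [SmallCategory I] [IsCofiltered I] (D : I ⥤ Scheme.{u}) (c : Cone D)
  (hc : IsLimit c) [∀ {i j : I} (f : i ⟶ j), IsAffineHom (D.map f)]
  (hfl : ∀ {i j : I} (f : i ⟶ j), Flat (D.map f))
  (j : I) {U : (D.obj j).Opens} (hU : IsAffineOpen U)

attribute [local instance] stAlg ptAlg

include hc hU in
/-- equality of extended f.g. ideals on the limit descends to all late stages. -/
theorem exists_stage_map_eq_limit (I₁ I₂ : Ideal Γ(D.obj j, U)) (h₁ : I₁.FG) (h₂ : I₂.FG)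
    (h : I₁.map ((c.π.app j).appLE U (preUpt D c j U) le_rfl).hom =
      I₂.map ((c.π.app j).appLE U (preUpt D c j U) le_rfl).hom) :
    ∃ l : Over j, ∀ (l' : Over j) (_ : l' ⟶ l),
      I₁.map ((D.map l'.hom).appLE U (preU D j U l') le_rfl).hom =
        I₂.map ((D.map l'.hom).appLE U (preU D j U l') le_rfl).hom := by
  obtain ⟨l, hl⟩ := exists_stage_map_eq (J := (Over j)ᵒᵖ) (A₀ := Γ(D.obj j, U))
    (G := fun l => Γ(D.obj l.unop.left, preU D j U l.unop))
    (A := Γ(c.pt, preUpt D c j U))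
    (fun u => rTrAlg D j u.unop) (fun l => rPtAlg D c j l.unop)
    (fun {k l} u => by
      ext r
      exact congr($(rTr_comp_rPt D c j U u.unop).hom r))
    (fun a => by
      obtain ⟨k, t, ht⟩ := rPt_surj D c hc j hU a
      exact ⟨op k, t, ht⟩)
    (fun k t ht => by
      obtain ⟨l, u, hu⟩ := rPt_ker D c hc j hU k.unop t ht
      exact ⟨op l, u.op, hu⟩) I₁ I₂ h₁ h₂ h
  exact ⟨l.unop, fun l' u => hl (op l') u.op⟩

variable {T : Scheme.{u}} (g : T ⟶ D.obj j)
  (Y : Over j → Scheme.{u}) (il : ∀ l : Over j, Y l ⟶ D.obj l.left) (pl : ∀ l : Over j, Y l ⟶ T)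
  (hl : ∀ l : Over j, IsPullback (pl l) (il l) g (D.map l.hom))
  {Y' : Scheme.{u}} (i' : Y' ⟶ c.pt) (p' : Y' ⟶ T) (h' : IsPullback p' i' g (c.π.app j))

include hc hU hfl hl h' in
/-- Noetherian case of the core lemma. -/
theorem exists_stage_good_noeth [IsClosedImmersion (g ∣_ U)] [IsNoetherianRing Γ(D.obj j, U)]
    (rs : List Γ(D.obj j, U))
    (hreg : IsWeaklyRegular Γ(c.pt, preUpt D c j U)
      (rs.map ((c.π.app j).app U).hom : List Γ(c.pt, preUpt D c j U)))
    (hker : RingHom.ker (i'.app (preUpt D c j U)).hom =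
      Ideal.ofList (rs.map ((c.π.app j).app U).hom : List Γ(c.pt, preUpt D c j U))) :
    ∃ l : Over j, Good (il l) (preU D j U l) := by
  obtain ⟨l₁, h₁⟩ := exists_stage_isWeaklyRegular_limit D c hc hfl j hU rs hreg
  have hUpt : IsAffineOpen (preUpt D c j U) := isAffineOpen_preUpt D c hc j hU
  obtain ⟨-, hk'⟩ := ker_base_change g (c.π.app j) i' p' h' U hU (preUpt D c j U) hUpt le_rfl
  have e : ((c.π.app j).app U) = (c.π.app j).appLE U (preUpt D c j U) le_rfl :=
    Scheme.Hom.app_eq_appLE _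
  have hI : (RingHom.ker (g.app U).hom).map ((c.π.app j).appLE U (preUpt D c j U) le_rfl).hom =
      (Ideal.ofList rs).map ((c.π.app j).appLE U (preUpt D c j U) le_rfl).hom := by
    rw [← hk', hker, Ideal.map_ofList, e]
    rfl
  obtain ⟨l₂, h₂⟩ := exists_stage_map_eq_limit D c hc j hU _ _
    (IsNoetherian.noetherian _) (IsNoetherian.noetherian _) hI
  let l := IsCofiltered.min l₁ l₂
  refine ⟨l, ?_⟩
  have hUl : IsAffineOpen (preU D j U l) := isAffineOpen_preU D j hU l
  obtain ⟨hcl, hk⟩ := ker_base_change g (D.map l.hom) (il l) (pl l) (hl l) U hU (preU D j U l)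
    hUl le_rfl
  refine ⟨hUl, hcl, rs.map ((D.map l.hom).app U).hom, h₁ l (IsCofiltered.minToLeft l₁ l₂), ?_⟩
  rw [hk, h₂ l (IsCofiltered.minToRight l₁ l₂), Ideal.map_ofList, Scheme.Hom.app_eq_appLE]


include hc hU hfl hl h' in
/-- surjective-transition case of the core lemma. -/
theorem exists_stage_good_surj [IsClosedImmersion (g ∣_ U)]
    (hS : ∀ (l : I) (φ : l ⟶ j), Surjective (D.map φ))
    (rs : List Γ(D.obj j, U))
    (hreg : IsWeaklyRegular Γ(c.pt, preUpt D c j U)
      (rs.map ((c.π.app j).app U).hom : List Γ(c.pt, preUpt D c j U)))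
    (hker : RingHom.ker (i'.app (preUpt D c j U)).hom =
      Ideal.ofList (rs.map ((c.π.app j).app U).hom : List Γ(c.pt, preUpt D c j U))) :
    ∃ l : Over j, Good (il l) (preU D j U l) := by
  haveI : ∀ (i j : I) (f : i ⟶ j), IsAffineHom (D.map f) := fun _ _ f => inferInstance
  haveI : Flat (c.π.app j) := Groth.Agent.Helper7.LimBC.flat_π D c hc j (fun j' φ' => hfl φ')
  haveI : Surjective (c.π.app j) := (Groth.Agent.S4758.result D c hc j).mpr (fun l φ => hS l φ)
  have hUpt : IsAffineOpen (preUpt D c j U) := isAffineOpen_preUpt D c hc j hU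
  have hff := faithfullyFlat_appLE (c.π.app j) hU hUpt rfl
  haveI : Module.FaithfullyFlat Γ(D.obj j, U) Γ(c.pt, preUpt D c j U) := hff
  obtain ⟨-, hk'⟩ := ker_base_change g (c.π.app j) i' p' h' U hU (preUpt D c j U) hUpt le_rfl
  have e : ((c.π.app j).app U) = (c.π.app j).appLE U (preUpt D c j U) le_rfl :=
    Scheme.Hom.app_eq_appLE _
  have hI : (RingHom.ker (g.app U).hom).map (algebraMap Γ(D.obj j, U) Γ(c.pt, preUpt D c j U)) =
      (Ideal.ofList rs).map (algebraMap Γ(D.obj j, U) Γ(c.pt, preUpt D c j U)) := by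
    change (RingHom.ker (g.app U).hom).map ((c.π.app j).appLE U (preUpt D c j U) le_rfl).hom =
      (Ideal.ofList rs).map ((c.π.app j).appLE U (preUpt D c j U) le_rfl).hom
    rw [← hk', hker, Ideal.map_ofList, e]
    rfl
  have hI' : RingHom.ker (g.app U).hom = Ideal.ofList rs :=
    Ideal.map_injective_of_faithfullyFlat (B := Γ(c.pt, preUpt D c j U)) hI
  have hreg' : IsWeaklyRegular Γ(D.obj j, U) rs := by
    apply isWeaklyRegular_of_faithfullyFlat Γ(c.pt, preUpt D c j U) rs
    rw [e] at hreg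
    exact hreg
  have hgood : Good g U := ⟨hU, inferInstance, rs, hreg', hI'⟩
  refine ⟨Over.mk (𝟙 j), ?_⟩
  haveI := hfl (Over.mk (𝟙 j)).hom
  exact good_base_change g (D.map (Over.mk (𝟙 j)).hom) (il _) (pl _) (hl _) U hgood _
    (isAffineOpen_preU D j hU _) le_rfl


include hc hU hfl hl h' in
/-- **Core lemma**: regular-immersion data over the preimage (in the limit) of an affine open of
a stage, with the generators coming from that stage, descends to a later stage. -/
theorem exists_stage_good [IsClosedImmersion (g ∣_ U)]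
    (hcase : IsNoetherianRing Γ(D.obj j, U) ∨ ∀ (l : I) (φ : l ⟶ j), Surjective (D.map φ))
    (P : c.pt.Opens) (hP : P = c.π.app j ⁻¹ᵁ U) (rs : List Γ(D.obj j, U))
    (hreg : IsWeaklyRegular Γ(c.pt, P)
      (rs.map ((c.π.app j).appLE U P hP.le).hom : List Γ(c.pt, P)))
    (hker : RingHom.ker (i'.app P).hom =
      Ideal.ofList (rs.map ((c.π.app j).appLE U P hP.le).hom : List Γ(c.pt, P))) :
    ∃ l : Over j, Good (il l) (preU D j U l) := by
  subst hP
  rw [← Scheme.Hom.app_eq_appLE] at hreg hker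
  rcases hcase with hN | hS
  · exact exists_stage_good_noeth D c hc hfl j hU g Y il pl hl i' p' h' rs hreg hker
  · exact exists_stage_good_surj D c hc hfl j hU g Y il pl hl i' p' h' hS rs hreg hker

end Core

end Groth.Agent.Helper14.RegImmLim
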