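import Mathlib
import Groth.Agent.Lib.Helper14.RegImmLimC
import Groth.Agent.Lib.Helper7.LimOpen2

/-!
# Regular immersions and limits: pointwise descent to a stage (helper14)
-/

set_option autoImplicit false
universe u
open CategoryTheory CategoryTheory.Limits AlgebraicGeometry TopologicalSpace Opposite
open RingTheory.Sequence

namespace Groth.Agent.Helper14.RegImmLim

open Groth.Agent.Helper14.HomLim Groth.Agent.Helper14.LimMod Groth.Agent.Helper14.SDLim
  Groth.Agent.Helper14.RegLim Groth.Agent.Helper7.LimBC Groth.Agent.Helper28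

section Pointwise

variable {I : Type u} [SmallCategory I] [IsCofiltered I] (D : I ⥤ Scheme.{u}) (c : Cone D)
  (hc : IsLimit c) [∀ {i j : I} (f : i ⟶ j), IsAffineHom (D.map f)]
  (hfl : ∀ {i j : I} (f : i ⟶ j), Flat (D.map f))
  (i₀ : I)

include hc in
/-- Step 1: good data near `x` on the limit can be rearranged to live over the preimage of an
affine open of a stage (inside the preimage of `W₀`), with generators coming from that stage. -/
theorem exists_stage_data {Y' : Scheme.{u}} (i' : Y' ⟶ c.pt) (x : c.pt) (U : c.pt.Opens)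
    (hgood : Good i' U) (hxU : x ∈ U) (W₀ : (D.obj i₀).Opens) (hW₀ : IsAffineOpen W₀)
    (hxW₀ : c.π.app i₀ x ∈ W₀) :
    ∃ (k : Over i₀) (Uk : (D.obj k.left).Opens) (_ : IsAffineOpen Uk)
      (_ : Uk ≤ D.map k.hom ⁻¹ᵁ W₀) (P : c.pt.Opens) (hP : P = c.π.app k.left ⁻¹ᵁ Uk)
      (_ : x ∈ P) (rs : List Γ(D.obj k.left, Uk)),
      IsWeaklyRegular Γ(c.pt, P)
        (rs.map ((c.π.app k.left).appLE Uk P hP.le).hom : List Γ(c.pt, P)) ∧
      RingHom.ker (i'.app P).hom =
        Ideal.ofList (rs.map ((c.π.app k.left).appLE Uk P hP.le).hom : List Γ(c.pt, P)) := by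
  have hWpt : IsAffineOpen (preUpt D c i₀ W₀) := isAffineOpen_preUpt D c hc i₀ hW₀
  obtain ⟨f, g, hfg, hxf⟩ := exists_basicOpen_le_affine_inter hWpt hgood.1 x ⟨hxW₀, hxU⟩
  obtain ⟨k₁, fk, hfk⟩ := rPt_surj D c hc i₀ hW₀ f
  have hUk₁ : IsAffineOpen ((D.obj k₁.left).basicOpen fk) :=
    (isAffineOpen_preU D i₀ hW₀ k₁).basicOpen fk
  have hUk₁le : (D.obj k₁.left).basicOpen fk ≤ preU D i₀ W₀ k₁ := (D.obj k₁.left).basicOpen_le fk
  have hPeq : preUpt D c k₁.left ((D.obj k₁.left).basicOpen fk) = c.pt.basicOpen f := by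
    rw [← hfk]
    unfold rPt
    have := Scheme.basicOpen_appLE (c.π.app k₁.left) (preUpt D c i₀ W₀) (preU D i₀ W₀ k₁)
      (le_pt D c i₀ W₀ k₁) fk
    refine Eq.trans ?_ this.symm
    symm
    apply inf_eq_right.2
    intro y hy
    have h1 : c.π.app k₁.left y ∈ preU D i₀ W₀ k₁ := hUk₁le hy
    have h2 : D.map k₁.hom (c.π.app k₁.left y) ∈ W₀ := h1
    rw [← Scheme.Hom.comp_apply, c.w] at h2
    exact h2
  have hPaff : IsAffineOpen (preUpt D c k₁.left ((D.obj k₁.left).basicOpen fk)) :=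
    isAffineOpen_preUpt D c hc k₁.left hUk₁
  have hPU : preUpt D c k₁.left ((D.obj k₁.left).basicOpen fk) ≤ U := by
    rw [hPeq, hfg]
    exact c.pt.basicOpen_le g
  have hxP : x ∈ preUpt D c k₁.left ((D.obj k₁.left).basicOpen fk) := by
    rw [hPeq]; exact hxf
  obtain ⟨-, -, rs', hrs', hker'⟩ := good_of_le i' U hgood _ hPaff hPU
  obtain ⟨l, rs, hrs⟩ := exists_lift_list D c hc k₁.left hUk₁ rs'
  have hP : preUpt D c k₁.left ((D.obj k₁.left).basicOpen fk) =
      c.π.app l.left ⁻¹ᵁ (preU D k₁.left ((D.obj k₁.left).basicOpen fk) l) := by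
    change c.π.app k₁.left ⁻¹ᵁ _ = c.π.app l.left ⁻¹ᵁ (D.map l.hom ⁻¹ᵁ _)
    rw [← Scheme.Hom.comp_preimage, c.w]
  refine ⟨Over.mk (l.hom ≫ k₁.hom), preU D k₁.left ((D.obj k₁.left).basicOpen fk) l,
    isAffineOpen_preU D k₁.left hUk₁ l, ?_,
    preUpt D c k₁.left ((D.obj k₁.left).basicOpen fk), hP, hxP, rs, ?_, ?_⟩
  · change D.map l.hom ⁻¹ᵁ _ ≤ D.map (l.hom ≫ k₁.hom) ⁻¹ᵁ W₀
    rw [D.map_comp, Scheme.Hom.comp_preimage]
    exact Scheme.Hom.preimage_mono _ hUk₁le
  · have := hrs ▸ hrs'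
    exact this
  · rw [hker', ← hrs]
    rfl


variable {X₀ : Scheme.{u}} (j₀ : X₀ ⟶ D.obj i₀) [IsImmersion j₀]

include hc hfl in
/-- **Pointwise descent**: if the base change of `j₀` to the limit is a regular immersion at `z`,
then some stage is a regular immersion at the image of `z`. -/
theorem exists_stage_regAt
    (hcase : (∀ i : I, IsLocallyNoetherian (D.obj i)) ∨
      (∀ (i j : I) (f : i ⟶ j), Surjective (D.map f)))
    (z : ↥(pullback (c.π.app i₀) j₀))
    (hz : RegImm.IsRegularImmersionAt .regular (pullback.fst (c.π.app i₀) j₀) z) :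
    ∃ l : Over i₀, RegImm.IsRegularImmersionAt .regular (pullback.fst (D.map l.hom) j₀)
      ((pbCone D c i₀ j₀).π.app l z) := by
  obtain ⟨U, hgood, hxU⟩ := exists_good_of_regAt _ z hz
  -- the affine open `W₀` of the base stage
  have hs₀ : c.π.app i₀ (pullback.fst (c.π.app i₀) j₀ z) =
      j₀ (pullback.snd (c.π.app i₀) j₀ z) := by
    rw [← Scheme.Hom.comp_apply, ← Scheme.Hom.comp_apply, pullback.condition]
  have hcob : c.π.app i₀ (pullback.fst (c.π.app i₀) j₀ z) ∈ j₀.coborderRange := by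
    rw [hs₀]
    exact subset_coborder ⟨_, rfl⟩
  obtain ⟨_, ⟨W₀, hW₀, rfl⟩, hxW₀, hW₀le⟩ :=
    (D.obj i₀).isBasis_affineOpens.exists_subset_of_mem_open hcob j₀.coborderRange.isOpen
  haveI hcl₀ : IsClosedImmersion (j₀ ∣_ W₀) :=
    RegImmReg.isClosedImmersion_restrict_of_le j₀ W₀ hW₀le
  obtain ⟨k, Uk, hUk, hUkle, P, hP, hxP, rs, hreg, hker⟩ :=
    exists_stage_data D c hc i₀ (pullback.fst (c.π.app i₀) j₀) _ U hgood hxU W₀ hW₀ hxW₀
  -- closed immersion over `Uk` at stage `k`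
  have sq₀ : IsPullback (pullback.snd (D.map k.hom) j₀) (pullback.fst (D.map k.hom) j₀) j₀
      (D.map k.hom) := (IsPullback.of_hasPullback _ _).flip
  obtain ⟨hclk, -⟩ := ker_base_change j₀ (D.map k.hom) (pullback.fst (D.map k.hom) j₀)
    (pullback.snd (D.map k.hom) j₀) sq₀ W₀ hW₀ Uk hUk hUkle
  haveI := hclk
  have hcase' : IsNoetherianRing Γ(D.obj k.left, Uk) ∨
      ∀ (l : I) (φ : l ⟶ k.left), Surjective (D.map φ) := by
    rcases hcase with hN | hS
    · left
      haveI := hN k.left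
      exact IsLocallyNoetherian.component_noetherian ⟨Uk, hUk⟩
    · right
      exact fun l φ => hS _ _ φ
  obtain ⟨m, hm⟩ := exists_stage_good D c hc hfl k.left hUk (pullback.fst (D.map k.hom) j₀)
    (fun m => pullback (D.map (m.hom ≫ k.hom)) j₀)
    (fun m => pullback.fst (D.map (m.hom ≫ k.hom)) j₀)
    (fun m => (pbDiagram D i₀ j₀).map (Over.homMk m.hom : Over.mk (m.hom ≫ k.hom) ⟶ k))
    (fun m => isPullback_pbDiagram_map D i₀ j₀
      (Over.homMk m.hom : Over.mk (m.hom ≫ k.hom) ⟶ k))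
    (pullback.fst (c.π.app i₀) j₀) ((pbCone D c i₀ j₀).π.app k)
    (isPullback_pbCone_π D c i₀ j₀ k) hcase' P hP rs hreg hker
  refine ⟨Over.mk (m.hom ≫ k.hom), ?_⟩
  apply regAt_of_good _ _ hm
  have hw := (isPullback_pbCone_π D c i₀ j₀ (Over.mk (m.hom ≫ k.hom))).w
  have hw' : pullback.fst (D.map (m.hom ≫ k.hom)) j₀
      ((pbCone D c i₀ j₀).π.app (Over.mk (m.hom ≫ k.hom)) z) =
      c.π.app m.left (pullback.fst (c.π.app i₀) j₀ z) := by
    have := congrArg (fun t : _ ⟶ D.obj m.left => t z) hw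
    exact this
  refine hw' ▸ ?_
  change D.map m.hom (c.π.app m.left (pullback.fst (c.π.app i₀) j₀ z)) ∈ Uk
  rw [← Scheme.Hom.comp_apply, c.w]
  rw [hP] at hxP
  exact hxP

end Pointwise

end Groth.Agent.Helper14.RegImmLim
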