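import Mathlib
import Groth.Prelude.Def_RegImm
import Groth.Agent.Lib.Helper2.RegNbhd4
import Groth.Agent.Lib.Helper26.TransReg1

/-!
# Transversally regular sequences: transport, base change, localization (helper14)
-/

set_option autoImplicit false
set_option linter.style.haveILetI false
set_option linter.unusedSectionVars false
set_option linter.unusedVariables false

universe u

open TensorProduct RingTheory.Sequence Function CategoryTheory

namespace Groth.Agent.Helper14.TRLim

variable {A B : Type u} [CommRing A] [CommRing B] [Algebra A B]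

theorem take_map_ofList {B' : Type u} [CommRing B'] (φ : B →+* B') (rs : List B) (j : ℕ) :
    Ideal.ofList ((rs.map φ).take j) = (Ideal.ofList (rs.take j)).map φ := by
  rw [← List.map_take, Ideal.map_ofList]

/-- transport along an algebra isomorphism -/
theorem of_algEquiv {B' : Type u} [CommRing B'] [Algebra A B'] (e : B ≃ₐ[A] B') (rs : List B)
    (h : RegImm.IsTransRegularSeq A B rs) : RegImm.IsTransRegularSeq A B' (rs.map e) := by
  obtain ⟨hwr, hfl⟩ := h
  refine ⟨?_, fun j hj => ?_⟩
  · letI : Algebra B B' := (e : B →+* B').toAlgebra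
    haveI : Module.Flat B B' := RingHom.Flat.of_bijective (f := (e : B →+* B')) e.bijective
    exact hwr.of_flat (S := B')
  · rw [List.length_map] at hj
    haveI := hfl j hj
    have hI : Ideal.ofList ((rs.map e).take j) =
        (Ideal.ofList (rs.take j)).map (e : B →+* B') := take_map_ofList (e : B →+* B') rs j
    exact Module.Flat.of_linearEquiv (Ideal.quotientEquivAlg _ _ e hI).symm.toLinearEquiv

/-- base change -/
theorem baseChange (rs : List B) (h : RegImm.IsTransRegularSeq A B rs)
    (A' : Type u) [CommRing A'] [Algebra A A'] :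
    RegImm.IsTransRegularSeq A' (A' ⊗[A] B)
      (rs.map (Algebra.TensorProduct.includeRight : B →ₐ[A] A' ⊗[A] B)) := by
  refine ⟨?_, fun j hj => ?_⟩
  · have hT := (CommRingCat.isPushout_tensorProduct A A' B).flip
    exact Groth.Agent.Helper2.RegNbhd.wrSeq_of_isPushout (A := A) (B := B) (A' := A') _ _ hT rs h
  · rw [List.length_map] at hj
    haveI := h.2 j hj
    have hI : Ideal.ofList ((rs.map (Algebra.TensorProduct.includeRight :
        B →ₐ[A] A' ⊗[A] B)).take j) = (Ideal.ofList (rs.take j)).map
          (Algebra.TensorProduct.includeRight : B →ₐ[A] A' ⊗[A] B) :=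
      take_map_ofList (Algebra.TensorProduct.includeRight : B →ₐ[A] A' ⊗[A] B).toRingHom rs j
    let ψ := Algebra.TensorProduct.tensorQuotientEquiv (R := A) A' B A' (Ideal.ofList (rs.take j))
    exact Module.Flat.of_linearEquiv
      ((Ideal.quotientEquivAlgOfEq A' hI).trans ψ.symm).toLinearEquiv

end Groth.Agent.Helper14.TRLim
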