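import Mathlib

set_option autoImplicit false
universe u

namespace Groth.Agent.Helper14

open Submodule

section QuotDescend

variable {R : Type u} [CommRing R] (I : Ideal R) {n : ℕ} {ι : Type*} [Fintype ι]
  (w : ι → (Fin n → R))

/-- coordinatewise reduction `R^n → (R/I)^n`. -/
noncomputable def redPi (n : ℕ) : (Fin n → R) →ₗ[R] (Fin n → R ⧸ I) :=
  (Algebra.linearMap R (R ⧸ I)).compLeft (Fin n)

theorem redPi_apply (u : Fin n → R) (i : Fin n) : redPi I n u i = Ideal.Quotient.mk I (u i) := rfl

theorem redPi_surjective : Function.Surjective (redPi I n) := by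
  intro v
  choose u hu using fun i => Ideal.Quotient.mk_surjective (v i)
  exact ⟨u, funext hu⟩

theorem mem_smul_top_of_redPi_eq_zero (y : Fin n → R) (hy : redPi I n y = 0) :
    y ∈ (I • ⊤ : Submodule R (Fin n → R)) := by
  have hy' : ∀ i, y i ∈ I := fun i => by
    have := congrFun hy i
    rwa [redPi_apply, Pi.zero_apply, Ideal.Quotient.eq_zero_iff_mem] at this
  have : y = ∑ i, y i • (Pi.single i (1 : R) : Fin n → R) := by
    ext j
    simp [Finset.sum_apply, Pi.single_apply]
  rw [this]
  exact Submodule.sum_mem _ fun i _ => Submodule.smul_mem_smul (hy' i) trivial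

/-- The natural `R`-linear map `R^n/⟨w⟩ / I → (R/I)^n/⟨w̄⟩`. -/
noncomputable def quotRedMap :
    (((Fin n → R) ⧸ span R (Set.range w)) ⧸
      (I • ⊤ : Submodule R ((Fin n → R) ⧸ span R (Set.range w)))) →ₗ[R]
    ((Fin n → R ⧸ I) ⧸ span (R ⧸ I) (Set.range fun j => redPi I n (w j))) :=
  (I • ⊤ : Submodule R ((Fin n → R) ⧸ span R (Set.range w))).liftQ
    ((span R (Set.range w)).liftQ
      (((span (R ⧸ I) (Set.range fun j => redPi I n (w j))).mkQ.restrictScalars R) ∘ₗ redPi I n)
      (by
        rw [Submodule.span_le]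
        rintro _ ⟨j, rfl⟩
        simp only [SetLike.mem_coe, LinearMap.mem_ker, LinearMap.coe_comp, Function.comp_apply,
          LinearMap.coe_restrictScalars, Submodule.mkQ_apply, Submodule.Quotient.mk_eq_zero]
        exact Submodule.subset_span ⟨j, rfl⟩))
    (by
      rw [Submodule.smul_le]
      intro r hr m _
      rw [LinearMap.mem_ker, map_smul, ← algebraMap_smul (R ⧸ I) r]
      have : algebraMap R (R ⧸ I) r = 0 := Ideal.Quotient.eq_zero_iff_mem.mpr hr
      rw [this, zero_smul])

omit [Fintype ι] in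
theorem quotRedMap_mk (u : Fin n → R) :
    quotRedMap I w (Submodule.Quotient.mk (Submodule.Quotient.mk u)) =
      Submodule.Quotient.mk (redPi I n u) := rfl

theorem quotRedMap_bijective : Function.Bijective (quotRedMap I w) := by
  constructor
  · rw [← LinearMap.ker_eq_bot, LinearMap.ker_eq_bot']
    intro x hx
    obtain ⟨x, rfl⟩ := Submodule.Quotient.mk_surjective _ x
    obtain ⟨u, rfl⟩ := Submodule.Quotient.mk_surjective _ x
    rw [quotRedMap_mk, Submodule.Quotient.mk_eq_zero,
      Submodule.mem_span_range_iff_exists_fun] at hx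
    obtain ⟨c, hc⟩ := hx
    choose a ha using fun j => Ideal.Quotient.mk_surjective (c j)
    have hy : redPi I n (u - ∑ j, a j • w j) = 0 := by
      rw [map_sub, map_sum, ← hc, sub_eq_zero]
      refine (Finset.sum_congr rfl fun j _ => ?_).symm
      rw [map_smul, ← ha j]
      rfl
    have hmem := mem_smul_top_of_redPi_eq_zero I _ hy
    rw [Submodule.Quotient.mk_eq_zero]
    have hu : (Submodule.Quotient.mk u : (Fin n → R) ⧸ span R (Set.range w)) =
        Submodule.Quotient.mk (u - ∑ j, a j • w j) := by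
      rw [Submodule.Quotient.eq]
      simp only [sub_sub_cancel]
      exact Submodule.sum_mem _ fun j _ => Submodule.smul_mem _ _ (Submodule.subset_span ⟨j, rfl⟩)
    rw [hu]
    have h2 : (Submodule.map (span R (Set.range w)).mkQ (I • ⊤ : Submodule R (Fin n → R))) ≤
        (I • ⊤ : Submodule R ((Fin n → R) ⧸ span R (Set.range w))) := by
      rw [Submodule.map_smul'']
      exact Submodule.smul_mono le_rfl le_top
    exact h2 ⟨_, hmem, rfl⟩
  · intro y
    obtain ⟨v, rfl⟩ := Submodule.Quotient.mk_surjective _ y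
    obtain ⟨u, rfl⟩ := redPi_surjective I v
    exact ⟨_, quotRedMap_mk I w u⟩

/-- The `R/I`-linear equivalence `(R^n/⟨w⟩)/I ≃ (R/I)^n/⟨w̄⟩`. -/
noncomputable def quotRedEquiv :
    (((Fin n → R) ⧸ span R (Set.range w)) ⧸
      (I • ⊤ : Submodule R ((Fin n → R) ⧸ span R (Set.range w)))) ≃ₗ[R ⧸ I]
    ((Fin n → R ⧸ I) ⧸ span (R ⧸ I) (Set.range fun j => redPi I n (w j))) :=
  LinearEquiv.ofBijective
    (LinearMap.extendScalarsOfSurjective Ideal.Quotient.mk_surjective (quotRedMap I w))
    (quotRedMap_bijective I w)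

end QuotDescend


section LocDescend

variable {A : Type u} [CommRing A] (S : Submonoid A) (R' : Type u) [CommRing R'] [Algebra A R']
  [IsLocalization S R'] (n : ℕ)

/-- coordinatewise localization `A^n → (S⁻¹A)^n`. -/
noncomputable def locPi : (Fin n → A) →ₗ[A] (Fin n → R') :=
  LinearMap.pi fun i => (Algebra.linearMap A R') ∘ₗ LinearMap.proj i

instance : IsLocalizedModule S (locPi R' n) := by
  unfold locPi
  infer_instance

include S in
theorem exists_span_locPi_eq {K' : Submodule R' (Fin n → R')} (hK : K'.FG) :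
    ∃ (t : Finset (Fin n → R')) (w : t → (Fin n → A)),
      span R' (locPi R' n '' Set.range w) = K' := by
  classical
  obtain ⟨t, ht⟩ := hK
  choose x hx using fun v : t => IsLocalizedModule.surj S (locPi (A := A) R' n) v.1
  refine ⟨t, fun v => (x v).1, ?_⟩
  rw [← ht]
  apply le_antisymm
  · rw [Submodule.span_le]
    rintro _ ⟨_, ⟨v, rfl⟩, rfl⟩
    rw [← hx v]
    have : ((x v).2 • v.1 : Fin n → R') = algebraMap A R' ((x v).2 : A) • v.1 := by
      rw [algebraMap_smul]; rfl
    rw [this]
    exact Submodule.smul_mem _ _ (Submodule.subset_span v.2)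
  · rw [Submodule.span_le]
    intro v hv
    have h1 : locPi (A := A) R' n (x ⟨v, hv⟩).1 ∈
        span R' (locPi (A := A) R' n '' Set.range fun v => (x v).1) :=
      Submodule.subset_span ⟨_, ⟨⟨v, hv⟩, rfl⟩, rfl⟩
    have h2 := Submodule.smul_mem _ (IsLocalization.mk' R' (1 : A) (x ⟨v, hv⟩).2) h1
    rw [← hx ⟨v, hv⟩] at h2
    have h3 : ((x ⟨v, hv⟩).2 • v : Fin n → R') = algebraMap A R' ((x ⟨v, hv⟩).2 : A) • v := by
      rw [algebraMap_smul]; rfl
    rw [h3, smul_smul, IsLocalization.mk'_spec, map_one, one_smul] at h2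
    exact h2

end LocDescend

theorem fp_descend (R : Type u) [CommRing R] (I : Ideal R) (S : Submonoid R) (M' : Type u)
    [AddCommGroup M'] [Module (Localization (S.map (Ideal.Quotient.mk I))) M']
    [Module.FinitePresentation (Localization (S.map (Ideal.Quotient.mk I))) M'] :
    ∃ (M : Type u) (_ : AddCommGroup M) (_ : Module R M), Module.FinitePresentation R M ∧
      Nonempty (LocalizedModule (S.map (Ideal.Quotient.mk I)) (M ⧸ (I • ⊤ : Submodule R M))
        ≃ₗ[Localization (S.map (Ideal.Quotient.mk I))] M') := by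
  classical
  obtain ⟨n, K', e', hK'⟩ := Module.FinitePresentation.exists_fin
    (Localization (S.map (Ideal.Quotient.mk I))) M'
  obtain ⟨t, wbar, hw⟩ := exists_span_locPi_eq (S.map (Ideal.Quotient.mk I))
    (Localization (S.map (Ideal.Quotient.mk I))) n hK'
  choose w hw' using fun j : t => redPi_surjective I (wbar j)
  refine ⟨(Fin n → R) ⧸ span R (Set.range w), inferInstance, inferInstance, ?_, ?_⟩
  · refine Module.finitePresentation_of_surjective (span R (Set.range w)).mkQ
      (Submodule.mkQ_surjective _) ?_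
    rw [Submodule.ker_mkQ]
    exact Submodule.fg_span (Set.finite_range w)
  · let e₁ := quotRedEquiv I w
    let Nbar : Submodule (R ⧸ I) (Fin n → R ⧸ I) :=
      span (R ⧸ I) (Set.range fun j => redPi I n (w j))
    let ψ := Nbar.toLocalizedQuotient' (Localization (S.map (Ideal.Quotient.mk I)))
      (S.map (Ideal.Quotient.mk I)) (locPi (Localization (S.map (Ideal.Quotient.mk I))) n)
    have : IsLocalizedModule (S.map (Ideal.Quotient.mk I)) (ψ ∘ₗ e₁.toLinearMap) := inferInstance
    let F := IsLocalizedModule.iso (S.map (Ideal.Quotient.mk I)) (ψ ∘ₗ e₁.toLinearMap)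
    let F' := F.extendScalarsOfIsLocalization (S.map (Ideal.Quotient.mk I))
      (Localization (S.map (Ideal.Quotient.mk I)))
    have hN : Nbar.localized' (Localization (S.map (Ideal.Quotient.mk I)))
        (S.map (Ideal.Quotient.mk I)) (locPi (Localization (S.map (Ideal.Quotient.mk I))) n) = K' := by
      rw [Submodule.localized'_span, ← hw]
      have : (fun j => redPi I n (w j)) = wbar := funext hw'
      rw [this]
    exact ⟨F' ≪≫ₗ Submodule.quotEquivOfEq _ _ hN ≪≫ₗ e'.symm⟩

end Groth.Agent.Helper14
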