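import Mathlib
import Groth.Prelude.Def_RegImm
import Groth.Agent.Lib.Helper7.GD3
import Groth.Agent.Lib.Helper14.TRLim1
import Groth.Agent.Lib.Helper14.LimFlat

/-!
# Transversally regular sequences descend to a stage of a directed colimit (helper14)
-/

set_option autoImplicit false
set_option linter.style.haveILetI false
set_option linter.unusedSectionVars false
set_option linter.unusedVariables false

universe u

open TensorProduct RingTheory.Sequence Function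

namespace Groth.Agent.Helper14.TRLim

variable {C₀ B₀ : Type u} [CommRing C₀] [CommRing B₀] [Algebra C₀ B₀]

theorem map_ofList_algHom {R S₁ S₂ : Type u} [CommRing R] [CommRing S₁] [CommRing S₂]
    [Algebra R S₁] [Algebra R S₂] (φ : S₁ →ₐ[R] S₂) (rs : List S₁) :
    Ideal.map φ (Ideal.ofList rs) = Ideal.ofList (rs.map φ) :=
  Ideal.map_ofList (φ : S₁ →+* S₂) rs

variable (C₀) in
/-- the base change of a sequence -/
noncomputable abbrev bcSeq (T : Type u) [CommRing T] [Algebra C₀ T] (rs : List B₀) :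
    List (T ⊗[C₀] B₀) :=
  rs.map (Algebra.TensorProduct.includeRight : B₀ →ₐ[C₀] T ⊗[C₀] B₀)

variable (C₀) in
/-- the base change to `T` of the sequence is transversally regular relative to `T` -/
def TRbc (T : Type u) [CommRing T] [Algebra C₀ T] (rs : List B₀) : Prop :=
  RegImm.IsTransRegularSeq T (T ⊗[C₀] B₀) (bcSeq C₀ T rs)

theorem TRbc.mono {T T' : Type u} [CommRing T] [CommRing T'] [Algebra C₀ T] [Algebra C₀ T']
    [Algebra T T'] [IsScalarTower C₀ T T'] (rs : List B₀) (h : TRbc C₀ T rs) : TRbc C₀ T' rs := by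
  have h1 := baseChange (A := T) (B := T ⊗[C₀] B₀) (bcSeq C₀ T rs) h T'
  let e : T' ⊗[T] (T ⊗[C₀] B₀) ≃ₐ[T'] T' ⊗[C₀] B₀ :=
    Algebra.TensorProduct.cancelBaseChange C₀ T T' T' B₀
  have h2 := of_algEquiv e _ h1
  have hL : ((bcSeq C₀ T rs).map (Algebra.TensorProduct.includeRight :
      T ⊗[C₀] B₀ →ₐ[T] T' ⊗[T] (T ⊗[C₀] B₀))).map e = bcSeq C₀ T' rs := by
    unfold bcSeq
    rw [List.map_map, List.map_map]
    refine List.map_congr_left fun r _ => ?_
    change e ((1 : T') ⊗ₜ[T] ((1 : T) ⊗ₜ[C₀] r)) = (1 : T') ⊗ₜ[C₀] r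
    rw [Algebra.TensorProduct.cancelBaseChange_tmul, one_smul]
  rw [hL] at h2
  exact h2

section Snoc

variable (T : Type u) [CommRing T] [Algebra C₀ T] (rs' : List B₀) (r : B₀)

/-- multiplication by `r` on `B₀ ⧸ (rs')` -/
noncomputable def mulQ : (B₀ ⧸ Ideal.ofList rs') →ₗ[B₀] (B₀ ⧸ Ideal.ofList rs') :=
  LinearMap.lsmul B₀ (B₀ ⧸ Ideal.ofList rs') r

theorem mulQ_mk (b : B₀) : mulQ rs' r (Ideal.Quotient.mk _ b) = Ideal.Quotient.mk _ (r * b) := rfl

/-- the regularity part -/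
theorem isSMulRegular_iff_injective :
    IsSMulRegular ((T ⊗[C₀] B₀) ⧸ (Ideal.ofList (bcSeq C₀ T rs') • ⊤ : Submodule (T ⊗[C₀] B₀) (T ⊗[C₀] B₀)))
      ((Algebra.TensorProduct.includeRight : B₀ →ₐ[C₀] T ⊗[C₀] B₀) r) ↔
      Injective (((mulQ rs' r).restrictScalars C₀).baseChange T) := by
  set ι := (Algebra.TensorProduct.includeRight : B₀ →ₐ[C₀] T ⊗[C₀] B₀) with hι
  set I := Ideal.ofList rs' with hIdef
  let ψ := Algebra.TensorProduct.tensorQuotientEquiv (R := C₀) T B₀ T I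
  have hI : (I.map ι : Submodule (T ⊗[C₀] B₀) (T ⊗[C₀] B₀)) =
      (Ideal.ofList (bcSeq C₀ T rs') • ⊤ : Submodule (T ⊗[C₀] B₀) (T ⊗[C₀] B₀)) := by
    rw [smul_eq_mul, Ideal.mul_top, hIdef, map_ofList_algHom]
  let e₁ := Submodule.quotEquivOfEq _ _ hI
  have key : ∀ z, e₁ (ψ (((mulQ rs' r).restrictScalars C₀).baseChange T z)) = ι r • e₁ (ψ z) := by
    intro z
    induction z using TensorProduct.induction_on with
    | zero => simp
    | add a b ha hb => rw [map_add, map_add, map_add, ha, hb, map_add, map_add, smul_add]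
    | tmul t m =>
      obtain ⟨b, rfl⟩ := Ideal.Quotient.mk_surjective m
      rw [LinearMap.baseChange_tmul, LinearMap.restrictScalars_apply, mulQ_mk]
      change e₁ (Ideal.Quotient.mk _ (t ⊗ₜ[C₀] (r * b))) = ι r • e₁ (Ideal.Quotient.mk _ (t ⊗ₜ[C₀] b))
      change Submodule.Quotient.mk (t ⊗ₜ[C₀] (r * b)) =
        ι r • Submodule.Quotient.mk (t ⊗ₜ[C₀] b)
      have h5 : ι r • (Submodule.Quotient.mk (t ⊗ₜ[C₀] b) :
          (T ⊗[C₀] B₀) ⧸ (Ideal.ofList (bcSeq C₀ T rs') • ⊤ : Submodule (T ⊗[C₀] B₀) (T ⊗[C₀] B₀))) =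
          Submodule.Quotient.mk (ι r * (t ⊗ₜ[C₀] b)) := rfl
      rw [h5, hι, Algebra.TensorProduct.includeRight_apply,
        Algebra.TensorProduct.tmul_mul_tmul, one_mul]
  constructor
  · intro hreg z₁ z₂ hz
    have h1 : ι r • e₁ (ψ z₁) = ι r • e₁ (ψ z₂) := by rw [← key, ← key, hz]
    have h2 := hreg h1
    exact ψ.injective (e₁.injective h2)
  · intro hinj n₁ n₂ hn
    obtain ⟨z₁, rfl⟩ : ∃ z, e₁ (ψ z) = n₁ :=
      ⟨ψ.symm (e₁.symm n₁), by rw [AlgEquiv.apply_symm_apply, LinearEquiv.apply_symm_apply]⟩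
    obtain ⟨z₂, rfl⟩ : ∃ z, e₁ (ψ z) = n₂ :=
      ⟨ψ.symm (e₁.symm n₂), by rw [AlgEquiv.apply_symm_apply, LinearEquiv.apply_symm_apply]⟩
    have hn' : ι r • e₁ (ψ z₁) = ι r • e₁ (ψ z₂) := hn
    rw [← key, ← key] at hn'
    rw [hinj (ψ.injective (e₁.injective hn'))]

/-- the cokernel of multiplication by `r` on `B₀ ⧸ (rs')` is `B₀ ⧸ (rs', r)` -/
theorem exists_cokerEquiv :
    Nonempty (((B₀ ⧸ Ideal.ofList rs') ⧸ LinearMap.range (mulQ rs' r)) ≃ₗ[B₀]
      (B₀ ⧸ Ideal.ofList (rs' ++ [r]))) := by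
  have hle : Ideal.ofList rs' ≤ Ideal.ofList (rs' ++ [r]) := by
    rw [Ideal.ofList_append]; exact le_sup_left
  let π : (B₀ ⧸ Ideal.ofList rs') →ₗ[B₀] (B₀ ⧸ Ideal.ofList (rs' ++ [r])) :=
    Submodule.mapQ _ _ LinearMap.id hle
  have hπ : ∀ b : B₀, π (Ideal.Quotient.mk _ b) = Ideal.Quotient.mk _ b := fun b => rfl
  have hsurj : Surjective π := by
    intro y
    obtain ⟨b, rfl⟩ := Ideal.Quotient.mk_surjective y
    exact ⟨Ideal.Quotient.mk _ b, hπ b⟩
  have hker : LinearMap.range (mulQ rs' r) = LinearMap.ker π := by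
    ext m
    obtain ⟨b, rfl⟩ := Ideal.Quotient.mk_surjective m
    rw [LinearMap.mem_ker, hπ, Ideal.Quotient.eq_zero_iff_mem, Ideal.ofList_append,
      Ideal.ofList_singleton, Submodule.mem_sup]
    constructor
    · rintro ⟨m', hm'⟩
      obtain ⟨c, rfl⟩ := Ideal.Quotient.mk_surjective m'
      rw [mulQ_mk, Ideal.Quotient.eq] at hm'
      refine ⟨b - r * c, ?_, r * c, Ideal.mem_span_singleton'.mpr ⟨c, mul_comm c r⟩, by ring⟩
      have := Ideal.neg_mem_iff _ |>.mpr hm'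
      rwa [neg_sub] at this
    · rintro ⟨i, hi, s, hs, hsum⟩
      obtain ⟨c, rfl⟩ := Ideal.mem_span_singleton'.mp hs
      refine ⟨Ideal.Quotient.mk _ c, ?_⟩
      rw [mulQ_mk, Ideal.Quotient.eq]
      have : r * c - b = -i := by rw [← hsum]; ring
      rw [this]
      exact Ideal.neg_mem_iff _ |>.mpr hi
  exact ⟨(Submodule.quotEquivOfEq _ _ hker).trans (LinearMap.quotKerEquivOfSurjective π hsurj)⟩

/-- the flatness part -/
theorem flat_iff_flat_coker :
    Module.Flat T ((T ⊗[C₀] B₀) ⧸ Ideal.ofList (bcSeq C₀ T (rs' ++ [r]))) ↔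
      Module.Flat T ((T ⊗[C₀] (B₀ ⧸ Ideal.ofList rs')) ⧸
        LinearMap.range (((mulQ rs' r).restrictScalars C₀).baseChange T)) := by
  rw [← Groth.Agent.Helper7.GD3.flat_tensor_coker_iff (mulQ rs' r) T]
  obtain ⟨e₀⟩ := exists_cokerEquiv rs' r
  set ι := (Algebra.TensorProduct.includeRight : B₀ →ₐ[C₀] T ⊗[C₀] B₀) with hι
  let ψ := Algebra.TensorProduct.tensorQuotientEquiv (R := C₀) T B₀ T (Ideal.ofList (rs' ++ [r]))
  have hI : (Ideal.ofList (rs' ++ [r])).map ι = Ideal.ofList (bcSeq C₀ T (rs' ++ [r])) := by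
    rw [map_ofList_algHom]
  let e : T ⊗[C₀] ((B₀ ⧸ Ideal.ofList rs') ⧸ LinearMap.range (mulQ rs' r)) ≃ₗ[T]
      ((T ⊗[C₀] B₀) ⧸ Ideal.ofList (bcSeq C₀ T (rs' ++ [r]))) :=
    (AlgebraTensorModule.congr (LinearEquiv.refl T T) (e₀.restrictScalars C₀)) ≪≫ₗ
      ψ.toLinearEquiv ≪≫ₗ (Ideal.quotientEquivAlgOfEq T hI).toLinearEquiv
  exact (Module.Flat.equiv_iff e).symm

theorem TRbc_snoc_iff :
    TRbc C₀ T (rs' ++ [r]) ↔ TRbc C₀ T rs' ∧
      Injective (((mulQ rs' r).restrictScalars C₀).baseChange T) ∧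
      Module.Flat T ((T ⊗[C₀] (B₀ ⧸ Ideal.ofList rs')) ⧸
        LinearMap.range (((mulQ rs' r).restrictScalars C₀).baseChange T)) := by
  rw [← isSMulRegular_iff_injective, ← flat_iff_flat_coker]
  unfold TRbc RegImm.IsTransRegularSeq
  have hL : bcSeq C₀ T (rs' ++ [r]) = bcSeq C₀ T rs' ++
      [(Algebra.TensorProduct.includeRight : B₀ →ₐ[C₀] T ⊗[C₀] B₀) r] := by
    unfold bcSeq; rw [List.map_append]; rfl
  rw [hL, isWeaklyRegular_append_iff, isWeaklyRegular_singleton_iff]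
  have hlen : (bcSeq C₀ T rs' ++
      [(Algebra.TensorProduct.includeRight : B₀ →ₐ[C₀] T ⊗[C₀] B₀) r]).length =
      (bcSeq C₀ T rs').length + 1 := by rw [List.length_append]; rfl
  constructor
  · rintro ⟨⟨h1, h2⟩, h3⟩
    refine ⟨⟨h1, fun j hj => ?_⟩, h2, ?_⟩
    · have := h3 j (by rw [hlen]; omega)
      rwa [List.take_append_of_le_length hj] at this
    · have := h3 _ le_rfl
      rwa [List.take_length] at this
  · rintro ⟨⟨h1, h3⟩, h2, h4⟩
    refine ⟨⟨h1, h2⟩, fun j hj => ?_⟩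
    rw [hlen] at hj
    rcases Nat.lt_or_ge j ((bcSeq C₀ T rs').length + 1) with hlt | hge
    · rw [List.take_append_of_le_length (by omega)]
      exact h3 j (by omega)
    · have : j = (bcSeq C₀ T rs' ++
          [(Algebra.TensorProduct.includeRight : B₀ →ₐ[C₀] T ⊗[C₀] B₀) r]).length := by
        rw [hlen]; omega
      rw [this, List.take_length]
      exact h4

theorem TRbc_nil_iff : TRbc C₀ T ([] : List B₀) ↔ Module.Flat T (T ⊗[C₀] B₀) := by
  have hbot : ∀ j, Ideal.ofList ((bcSeq C₀ T ([] : List B₀)).take j) = ⊥ := by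
    intro j
    simp [bcSeq]
  constructor
  · rintro ⟨-, h⟩
    haveI := h 0 (Nat.zero_le _)
    exact Module.Flat.of_linearEquiv
      ((Ideal.quotientEquivAlgOfEq T (hbot 0)).trans
        (AlgEquiv.quotientBot T _)).symm.toLinearEquiv
  · intro h
    refine ⟨?_, fun j _ => ?_⟩
    · unfold bcSeq
      rw [List.map_nil]
      exact IsWeaklyRegular.nil _ _
    · exact Module.Flat.of_linearEquiv
        ((Ideal.quotientEquivAlgOfEq T (hbot j)).trans (AlgEquiv.quotientBot T _)).toLinearEquiv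

end Snoc

section Main

variable {ι : Type u} [Preorder ι] [IsDirected ι (· ≤ ·)] [Nonempty ι]
  (G : ι → Type u) [∀ i, CommRing (G i)] [∀ i, Algebra C₀ (G i)]
  (f : ∀ i j, i ≤ j → (G i →ₐ[C₀] G j)) (C : Type u) [CommRing C] [Algebra C₀ C]
  (g : ∀ i, G i →ₐ[C₀] C)
  (hg : ∀ i j (h : i ≤ j), (g j).comp (f i j h) = g i)
  (hsurj : ∀ a : C, ∃ i, ∃ x : G i, g i x = a)
  (hker : ∀ i (x : G i), g i x = 0 → ∃ j, ∃ h : i ≤ j, f i j h x = 0)
  [Algebra.FinitePresentation C₀ B₀]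

include hg hsurj hker in
/-- **Transversal regularity descends to a stage of a directed colimit.** -/
theorem exists_stage (rs : List B₀) (h : TRbc C₀ C rs) : ∃ i, TRbc C₀ (G i) rs := by
  classical
  induction rs using List.reverseRecOn with
  | nil =>
    rw [TRbc_nil_iff] at h
    obtain ⟨i, hi⟩ := Groth.Agent.Helper14.LimFlat.flat_descends G f C g hg hsurj hker
      (B₀ := B₀) B₀ h
    exact ⟨i, (TRbc_nil_iff (G i)).mpr hi⟩
  | append_singleton rs' r ih =>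
    obtain ⟨h1, h2, h3⟩ := (TRbc_snoc_iff C rs' r).mp h
    obtain ⟨i₁, hi₁⟩ := ih h1
    -- the subsystem above `i₁`
    let ι' := {j : ι // i₁ ≤ j}
    haveI : Nonempty ι' := ⟨⟨i₁, le_rfl⟩⟩
    haveI : IsDirected ι' (· ≤ ·) := ⟨fun a b => by
      obtain ⟨c, hac, hbc⟩ := exists_ge_ge a.1 b.1
      exact ⟨⟨c, a.2.trans hac⟩, hac, hbc⟩⟩
    haveI : Module.FinitePresentation B₀ (B₀ ⧸ Ideal.ofList rs') := by
      refine Module.finitePresentation_of_surjective (Ideal.Quotient.mkₐ B₀ (Ideal.ofList rs')).toLinearMap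
        (Ideal.Quotient.mkₐ_surjective B₀ _) ?_
      have : LinearMap.ker (Ideal.Quotient.mkₐ B₀ (Ideal.ofList rs')).toLinearMap =
          (Ideal.ofList rs' : Submodule B₀ B₀) := by
        ext x
        exact Ideal.Quotient.eq_zero_iff_mem
      rw [this]
      unfold Ideal.ofList
      exact Submodule.fg_span (List.finite_toSet rs')
    obtain ⟨i₂, hi₂inj, hi₂flat⟩ := Groth.Agent.Helper7.GD3.globalD (ι := ι')
      (fun j => G j.1) (fun a b hab => f a.1 b.1 hab) C (fun j => g j.1)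
      (fun a b hab => hg a.1 b.1 hab)
      (fun a => by
        obtain ⟨i, x, hx⟩ := hsurj a
        obtain ⟨c, hic, h1c⟩ := exists_ge_ge i i₁
        refine ⟨⟨c, h1c⟩, f i c hic x, ?_⟩
        change g c (f i c hic x) = a
        rw [← hx, ← hg i c hic]
        rfl)
      (fun a x hx => by
        obtain ⟨j, hj, hjx⟩ := hker a.1 x hx
        exact ⟨⟨j, a.2.trans hj⟩, hj, hjx⟩)
      (mulQ rs' r) h2 h3
    refine ⟨i₂.1, (TRbc_snoc_iff (G i₂.1) rs' r).mpr ⟨?_, hi₂inj, hi₂flat⟩⟩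
    letI : Algebra (G i₁) (G i₂.1) := (f i₁ i₂.1 i₂.2).toRingHom.toAlgebra
    haveI : IsScalarTower C₀ (G i₁) (G i₂.1) :=
      IsScalarTower.of_algebraMap_eq fun x => ((f i₁ i₂.1 i₂.2).commutes x).symm
    exact TRbc.mono rs' hi₁

end Main

end Groth.Agent.Helper14.TRLim
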