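import Mathlib
import Groth.Prelude.Def_RegImm
import Groth.Agent.Lib.Helper26.TransReg1

/-!
# Transversally regular sequences and localization (helper14)
-/

set_option autoImplicit false
set_option linter.style.haveILetI false
set_option linter.unusedSectionVars false
set_option linter.unusedVariables false

universe u

open TensorProduct RingTheory.Sequence Function

namespace Groth.Agent.Helper14.TRLim

variable {A B : Type u} [CommRing A] [CommRing B] [Algebra A B]

section Loc

variable (p : Submonoid B) (B' : Type u) [CommRing B'] [Algebra B B'] [IsLocalization p B']

theorem localized'_ofList (L : List B) :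
    (Ideal.ofList L : Submodule B B).localized' B' p (Algebra.linearMap B B') =
      (Ideal.ofList (L.map (algebraMap B B')) : Submodule B' B') := by
  unfold Ideal.ofList
  change (Submodule.span B {x | x ∈ L}).localized' B' p (Algebra.linearMap B B') = _
  rw [Submodule.localized'_span]
  congr 1
  ext y
  simp only [Set.mem_image, Set.mem_setOf_eq, List.mem_map, Algebra.linearMap_apply]

theorem localized'_ofList_smul_top (L : List B) :
    (Ideal.ofList L • ⊤ : Submodule B B).localized' B' p (Algebra.linearMap B B') =
      (Ideal.ofList (L.map (algebraMap B B')) • ⊤ : Submodule B' B') := by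
  rw [Submodule.localized'_smul, Submodule.localized'_top, localized'_ofList]

variable [Algebra A B'] [IsScalarTower A B B']

include p in
/-- localization of the upper ring -/
theorem of_isLocalization (rs : List B) (h : RegImm.IsTransRegularSeq A B rs) :
    RegImm.IsTransRegularSeq A B' (rs.map (algebraMap B B')) := by
  obtain ⟨hwr, hfl⟩ := h
  refine ⟨?_, fun j hj => ?_⟩
  · haveI : Module.Flat B B' := IsLocalization.flat B' p
    exact hwr.of_flat (S := B')
  · rw [List.length_map] at hj
    haveI := hfl j hj
    have h1 : Module.Flat A (B' ⧸ (Ideal.ofList (rs.take j) : Submodule B B).localized' B' p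
        (Algebra.linearMap B B')) :=
      Groth.Agent.Helper26.TransReg.flat_of_isLocalizedModule (R := A) (S := B) p
        ((Ideal.ofList (rs.take j) : Submodule B B).toLocalizedQuotient' B' p
          (Algebra.linearMap B B'))
    have hI : (Ideal.ofList (rs.take j) : Submodule B B).localized' B' p
        (Algebra.linearMap B B') = (Ideal.ofList ((rs.map (algebraMap B B')).take j) :
          Submodule B' B') := by
      rw [localized'_ofList, List.map_take]
    exact Module.Flat.of_linearEquiv ((Submodule.quotEquivOfEq _ _ hI).symm.restrictScalars A)

end Loc

/-- changing the lower ring to a localization through which the structure map factors -/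
theorem iff_of_isLocalization_base {A' : Type u} [CommRing A'] [Algebra A A'] [Algebra A' B]
    [IsScalarTower A A' B] (M : Submonoid A) [IsLocalization M A'] (rs : List B) :
    RegImm.IsTransRegularSeq A' B rs ↔ RegImm.IsTransRegularSeq A B rs := by
  unfold RegImm.IsTransRegularSeq
  refine and_congr Iff.rfl (forall_congr' fun j => forall_congr' fun hj => ?_)
  exact Module.flat_iff_of_isLocalization A' M _

/-- local-to-global over the maximal ideals of the upper ring -/
theorem of_forall_maximal (rs : List B)
    (H : ∀ (P : Ideal B) [P.IsMaximal], RegImm.IsTransRegularSeq A (Localization.AtPrime P)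
      (rs.map (algebraMap B (Localization.AtPrime P)))) :
    RegImm.IsTransRegularSeq A B rs := by
  refine ⟨⟨fun k hk => ?_⟩, fun j hj => ?_⟩
  · -- regularity
    intro x y hxy
    have hxy' : rs[k] • (x - y) = 0 := by
      rw [smul_sub]; exact sub_eq_zero.mpr hxy
    suffices h0 : x - y = 0 from sub_eq_zero.mp h0
    refine Module.eq_zero_of_localization_maximal
      (fun (P : Ideal B) [P.IsMaximal] => Localization.AtPrime P ⧸
        (Ideal.ofList (rs.take k) • ⊤ : Submodule B B).localized' (Localization.AtPrime P)
          P.primeCompl (Algebra.linearMap B (Localization.AtPrime P)))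
      (fun (P : Ideal B) [P.IsMaximal] =>
        (Ideal.ofList (rs.take k) • ⊤ : Submodule B B).toLocalizedQuotient'
          (Localization.AtPrime P) P.primeCompl (Algebra.linearMap B (Localization.AtPrime P)))
      (x - y) ?_
    intro P hP
    set φ := (Ideal.ofList (rs.take k) • ⊤ : Submodule B B).toLocalizedQuotient'
      (Localization.AtPrime P) P.primeCompl (Algebra.linearMap B (Localization.AtPrime P)) with hφ
    have h1 : rs[k] • φ (x - y) = 0 := by
      rw [← map_smul, hxy', map_zero]
    have hreg := (H P).1.regular_mod_prev k (by rw [List.length_map]; exact hk)
    have hI : (Ideal.ofList (rs.take k) • ⊤ : Submodule B B).localized' (Localization.AtPrime P)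
        P.primeCompl (Algebra.linearMap B (Localization.AtPrime P)) =
        (Ideal.ofList ((rs.map (algebraMap B (Localization.AtPrime P))).take k) • ⊤ :
          Submodule (Localization.AtPrime P) (Localization.AtPrime P)) := by
      rw [localized'_ofList_smul_top, List.map_take]
    let e := Submodule.quotEquivOfEq _ _ hI
    have h2 : (rs.map (algebraMap B (Localization.AtPrime P)))[k]'(by
        rw [List.length_map]; exact hk) • e (φ (x - y)) = 0 := by
      rw [List.getElem_map, ← map_smul, algebraMap_smul, h1, map_zero]
    have h3 : e (φ (x - y)) = 0 := hreg (by beta_reduce; rw [h2, smul_zero])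
    exact e.injective (h3.trans (map_zero e).symm)
  · -- flatness
    refine Module.flat_of_isLocalized_maximal (R := A) B (B ⧸ Ideal.ofList (rs.take j))
      (fun (P : Ideal B) [P.IsMaximal] => Localization.AtPrime P ⧸
        (Ideal.ofList (rs.take j) : Submodule B B).localized' (Localization.AtPrime P)
          P.primeCompl (Algebra.linearMap B (Localization.AtPrime P)))
      (fun (P : Ideal B) [P.IsMaximal] =>
        (Ideal.ofList (rs.take j) : Submodule B B).toLocalizedQuotient'
          (Localization.AtPrime P) P.primeCompl (Algebra.linearMap B (Localization.AtPrime P)))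
      ?_
    intro P hP
    haveI := (H P).2 j (by rw [List.length_map]; exact hj)
    have hI : (Ideal.ofList (rs.take j) : Submodule B B).localized' (Localization.AtPrime P)
        P.primeCompl (Algebra.linearMap B (Localization.AtPrime P)) =
        (Ideal.ofList ((rs.map (algebraMap B (Localization.AtPrime P))).take j) :
          Submodule (Localization.AtPrime P) (Localization.AtPrime P)) := by
      rw [localized'_ofList, List.map_take]
    exact Module.Flat.of_linearEquiv ((Submodule.quotEquivOfEq _ _ hI).restrictScalars A)

end Groth.Agent.Helper14.TRLim
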