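import Mathlib
import Groth.Prelude.Def_RegImm
import Groth.Agent.Lib.Helper14.TRLim1
import Groth.Agent.Lib.Helper14.TRLim2

/-!
# Transversally regular sequences of global sections: the stalkwise dictionary (helper14)
-/

set_option autoImplicit false
set_option linter.style.haveILetI false
set_option linter.unusedSectionVars false
set_option linter.unusedVariables false

universe u

open CategoryTheory AlgebraicGeometry Limits Opposite TopologicalSpace TensorProduct Function

namespace Groth.Agent.Helper14.TRLim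

theorem exists_primeIdealOf_eq {X : Scheme.{u}} {U : X.Opens} (hU : IsAffineOpen U)
    (P : PrimeSpectrum Γ(X, U)) : ∃ (x : X) (hx : x ∈ U), hU.primeIdealOf ⟨x, hx⟩ = P := by
  refine ⟨(hU.isoSpec.inv P).1, (hU.isoSpec.inv P).2, ?_⟩
  change hU.isoSpec.hom (hU.isoSpec.inv P) = P
  rw [← Scheme.Hom.comp_apply, Iso.inv_hom_id]
  rfl

variable {Y T : Scheme.{u}} (g : Y ⟶ T)

/-- the restriction of a list of global sections to an open -/
noncomputable abbrev resList (gs : List Γ(Y, ⊤)) (U : Y.Opens) : List Γ(Y, U) :=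
  gs.map (Y.presheaf.map (homOfLE (le_top : U ≤ ⊤)).op).hom

/-- transversal regularity over an affine chart -/
def TRchart (gs : List Γ(Y, ⊤)) (U : Y.Opens) (V : T.Opens) (e : U ≤ g ⁻¹ᵁ V) : Prop :=
  @RegImm.IsTransRegularSeq Γ(T, V) Γ(Y, U) _ _ (g.appLE V U e).hom.toAlgebra (resList gs U)

/-- stalkwise transversal regularity -/
def TRst (gs : List Γ(Y, ⊤)) (y : Y) : Prop :=
  @RegImm.IsTransRegularSeq (T.presheaf.stalk (g y)) (Y.presheaf.stalk y) _ _
    (g.stalkMap y).hom.toAlgebra (gs.map (Y.presheaf.germ ⊤ y trivial).hom)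

section Dict

variable (gs : List Γ(Y, ⊤)) {U : Y.Opens} (hU : IsAffineOpen U) {V : T.Opens}
  (hV : IsAffineOpen V) (e : U ≤ g ⁻¹ᵁ V)

include hU hV in
set_option maxHeartbeats 1600000 in
/-- the pointwise form at a point of the chart -/
theorem TRst_iff_chart_stalk (y : Y) (hy : y ∈ U) :
    TRst g gs y ↔
      (letI := (g.appLE V U e).hom.toAlgebra
       letI : Algebra Γ(Y, U) (Y.presheaf.stalk y) := Y.presheaf.algebra_section_stalk ⟨y, hy⟩
       letI : Algebra Γ(T, V) (Y.presheaf.stalk y) :=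
         ((algebraMap Γ(Y, U) (Y.presheaf.stalk y)).comp (g.appLE V U e).hom).toAlgebra
       RegImm.IsTransRegularSeq Γ(T, V) (Y.presheaf.stalk y)
         ((resList gs U).map (algebraMap Γ(Y, U) (Y.presheaf.stalk y)))) := by
  have hyV : g y ∈ V := e hy
  letI algAB : Algebra Γ(T, V) Γ(Y, U) := (g.appLE V U e).hom.toAlgebra
  letI algBBp : Algebra Γ(Y, U) (Y.presheaf.stalk y) :=
    Y.presheaf.algebra_section_stalk ⟨y, hy⟩
  letI algAAq : Algebra Γ(T, V) (T.presheaf.stalk (g y)) :=
    T.presheaf.algebra_section_stalk ⟨g y, hyV⟩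
  letI algAqBp : Algebra (T.presheaf.stalk (g y)) (Y.presheaf.stalk y) :=
    (g.stalkMap y).hom.toAlgebra
  letI algABp : Algebra Γ(T, V) (Y.presheaf.stalk y) :=
    ((algebraMap Γ(Y, U) (Y.presheaf.stalk y)).comp (g.appLE V U e).hom).toAlgebra
  haveI : IsScalarTower Γ(T, V) (T.presheaf.stalk (g y)) (Y.presheaf.stalk y) := by
    refine IsScalarTower.of_algebraMap_eq (fun r => ?_)
    change Y.presheaf.germ U y hy ((g.appLE V U e).hom r) =
      g.stalkMap y (T.presheaf.germ V (g y) hyV r)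
    rw [Scheme.Hom.germ_stalkMap_apply, Scheme.Hom.appLE,
      CommRingCat.comp_apply, TopCat.Presheaf.germ_res_apply]
  haveI h3 : IsLocalization.AtPrime (T.presheaf.stalk (g y))
      (hV.primeIdealOf (⟨g y, hyV⟩ : V)).asIdeal := hV.isLocalization_stalk ⟨g y, hyV⟩
  have hlist : (resList gs U).map (algebraMap Γ(Y, U) (Y.presheaf.stalk y)) =
      gs.map (Y.presheaf.germ ⊤ y trivial).hom := by
    unfold resList
    rw [List.map_map]
    refine List.map_congr_left fun s _ => ?_
    change Y.presheaf.germ U y hy ((Y.presheaf.map (homOfLE (le_top : U ≤ ⊤)).op).hom s) = _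
    exact TopCat.Presheaf.germ_res_apply _ _ _ _ _
  rw [hlist]
  exact iff_of_isLocalization_base (A := Γ(T, V)) (A' := T.presheaf.stalk (g y))
    (B := Y.presheaf.stalk y) (hV.primeIdealOf (⟨g y, hyV⟩ : V)).asIdeal.primeCompl _

include hU hV in
set_option maxHeartbeats 1600000 in
/-- **The dictionary**: transversal regularity over an affine chart is a pointwise condition. -/
theorem TRchart_iff : TRchart g gs U V e ↔ ∀ y ∈ U, TRst g gs y := by
  letI algAB : Algebra Γ(T, V) Γ(Y, U) := (g.appLE V U e).hom.toAlgebra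
  constructor
  · intro h y hy
    rw [TRst_iff_chart_stalk g gs hU hV e y hy]
    letI algBBp : Algebra Γ(Y, U) (Y.presheaf.stalk y) :=
      Y.presheaf.algebra_section_stalk ⟨y, hy⟩
    letI algABp : Algebra Γ(T, V) (Y.presheaf.stalk y) :=
      ((algebraMap Γ(Y, U) (Y.presheaf.stalk y)).comp (g.appLE V U e).hom).toAlgebra
    haveI : IsScalarTower Γ(T, V) Γ(Y, U) (Y.presheaf.stalk y) :=
      IsScalarTower.of_algebraMap_eq (fun _ => rfl)
    haveI h4 : IsLocalization.AtPrime (Y.presheaf.stalk y)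
        (hU.primeIdealOf (⟨y, hy⟩ : U)).asIdeal := hU.isLocalization_stalk ⟨y, hy⟩
    exact of_isLocalization (A := Γ(T, V)) (hU.primeIdealOf (⟨y, hy⟩ : U)).asIdeal.primeCompl
      (Y.presheaf.stalk y) (resList gs U) h
  · intro h
    refine of_forall_maximal (A := Γ(T, V)) (B := Γ(Y, U)) (resList gs U) ?_
    intro P hP
    obtain ⟨y, hy, hyP⟩ := exists_primeIdealOf_eq hU ⟨P, hP.isPrime⟩
    have h1 := (TRst_iff_chart_stalk g gs hU hV e y hy).mp (h y hy)
    letI algBBp : Algebra Γ(Y, U) (Y.presheaf.stalk y) :=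
      Y.presheaf.algebra_section_stalk ⟨y, hy⟩
    letI algABp : Algebra Γ(T, V) (Y.presheaf.stalk y) :=
      ((algebraMap Γ(Y, U) (Y.presheaf.stalk y)).comp (g.appLE V U e).hom).toAlgebra
    haveI : IsScalarTower Γ(T, V) Γ(Y, U) (Y.presheaf.stalk y) :=
      IsScalarTower.of_algebraMap_eq (fun _ => rfl)
    haveI h4 : IsLocalization.AtPrime (Y.presheaf.stalk y)
        (hU.primeIdealOf (⟨y, hy⟩ : U)).asIdeal := hU.isLocalization_stalk ⟨y, hy⟩
    have hPeq : (hU.primeIdealOf (⟨y, hy⟩ : U)).asIdeal = P := congrArg PrimeSpectrum.asIdeal hyP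
    haveI h5 : IsLocalization.AtPrime (Y.presheaf.stalk y) P := hPeq ▸ h4
    let ε : Y.presheaf.stalk y ≃ₐ[Γ(Y, U)] Localization.AtPrime P :=
      IsLocalization.algEquiv P.primeCompl (Y.presheaf.stalk y) (Localization.AtPrime P)
    let ε' : Y.presheaf.stalk y ≃ₐ[Γ(T, V)] Localization.AtPrime P := ε.restrictScalars Γ(T, V)
    have h2 := of_algEquiv ε' _ h1
    have hl : ((resList gs U).map (algebraMap Γ(Y, U) (Y.presheaf.stalk y))).map ε' =
        (resList gs U).map (algebraMap Γ(Y, U) (Localization.AtPrime P)) := by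
      rw [List.map_map]
      refine List.map_congr_left fun s _ => ?_
      exact ε.commutes s
    rw [hl] at h2
    exact h2

end Dict

end Groth.Agent.Helper14.TRLim
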