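import Mathlib
import Groth.Prelude.Def_RegImm
import Groth.Agent.Lib.Helper14.TRLim3
import Groth.Agent.Lib.Helper14.TRLim4
import Groth.Agent.Lib.Helper7.ChartBC

/-!
# Transversally regular sequences of global sections: base change (helper14)
-/

set_option autoImplicit false
set_option linter.style.haveILetI false
set_option linter.unusedSectionVars false
set_option linter.unusedVariables false

universe u

open CategoryTheory AlgebraicGeometry Limits Opposite TopologicalSpace TensorProduct Function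

namespace Groth.Agent.Helper14.TRLim

variable {X' Y' X Y : Scheme.{u}} {p : X' ⟶ X} {f' : X' ⟶ Y'} {f : X ⟶ Y} {q : Y' ⟶ Y}
  (H : IsPullback p f' f q) (gs : List Γ(X, ⊤))

/-- the pulled back list of global sections -/
noncomputable abbrev pullList (p : X' ⟶ X) (gs : List Γ(X, ⊤)) : List Γ(X', ⊤) :=
  gs.map p.appTop.hom

theorem appLE_resList (U : X.Opens) (U' : X'.Opens) (e : U' ≤ p ⁻¹ᵁ U) :
    (resList gs U).map (p.appLE U U' e).hom = resList (pullList p gs) U' := by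
  unfold resList pullList
  rw [List.map_map, List.map_map]
  refine List.map_congr_left fun s _ => ?_
  have h1 : X.presheaf.map (homOfLE (le_top : U ≤ ⊤)).op ≫ p.appLE U U' e =
      p.appLE ⊤ U' le_top := Scheme.Hom.map_appLE _ _ _
  have h2 : p.appTop ≫ X'.presheaf.map (homOfLE (le_top : U' ≤ ⊤)).op =
      p.appLE ⊤ U' le_top := by
    rw [Scheme.Hom.appTop, Scheme.Hom.app_eq_appLE]
    exact Scheme.Hom.appLE_map _ _ _
  exact congr($(h1.trans h2.symm).hom s)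

section Chart

variable {V : Y.Opens} (hV : IsAffineOpen V) {U : X.Opens} (hU : IsAffineOpen U)
  (eUV : U ≤ f ⁻¹ᵁ V) {V' : Y'.Opens} (hV' : IsAffineOpen V') (eV' : V' ≤ q ⁻¹ᵁ V)

include H hV hU hV' in
set_option maxHeartbeats 1600000 in
/-- **Chart base change**: over the chart `p⁻¹U ∩ f'⁻¹V'` transversal regularity of the pulled
back sections is transversal regularity of the base change of the ring-level sequence. -/
theorem chart_bc_iff :
    TRchart f' (pullList p gs) (p ⁻¹ᵁ U ⊓ f' ⁻¹ᵁ V') V' inf_le_right ↔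
      (letI := (f.appLE V U eUV).hom.toAlgebra
       letI := (q.appLE V V' eV').hom.toAlgebra
       TRbc Γ(Y, V) Γ(Y', V') (resList gs U)) := by
  letI algVU : Algebra Γ(Y, V) Γ(X, U) := (f.appLE V U eUV).hom.toAlgebra
  letI algVV' : Algebra Γ(Y, V) Γ(Y', V') := (q.appLE V V' eV').hom.toAlgebra
  letI algV'U' : Algebra Γ(Y', V') Γ(X', p ⁻¹ᵁ U ⊓ f' ⁻¹ᵁ V') :=
    (f'.appLE V' (p ⁻¹ᵁ U ⊓ f' ⁻¹ᵁ V') inf_le_right).hom.toAlgebra
  letI algUU' : Algebra Γ(X, U) Γ(X', p ⁻¹ᵁ U ⊓ f' ⁻¹ᵁ V') :=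
    (p.appLE U (p ⁻¹ᵁ U ⊓ f' ⁻¹ᵁ V') inf_le_left).hom.toAlgebra
  letI algVU' : Algebra Γ(Y, V) Γ(X', p ⁻¹ᵁ U ⊓ f' ⁻¹ᵁ V') :=
    ((algebraMap Γ(Y', V') Γ(X', p ⁻¹ᵁ U ⊓ f' ⁻¹ᵁ V')).comp
      (algebraMap Γ(Y, V) Γ(Y', V'))).toAlgebra
  haveI : IsScalarTower Γ(Y, V) Γ(Y', V') Γ(X', p ⁻¹ᵁ U ⊓ f' ⁻¹ᵁ V') :=
    IsScalarTower.of_algebraMap_eq (fun _ => rfl)
  have hpo := Groth.Agent.Helper7.ChartBC.isPushout_chart H hV hU eUV hV' eV'
  haveI : IsScalarTower Γ(Y, V) Γ(X, U) Γ(X', p ⁻¹ᵁ U ⊓ f' ⁻¹ᵁ V') := by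
    refine IsScalarTower.of_algebraMap_eq (fun r => ?_)
    exact congr($(hpo.w).hom r).symm
  haveI hP : Algebra.IsPushout Γ(Y, V) Γ(Y', V') Γ(X, U) Γ(X', p ⁻¹ᵁ U ⊓ f' ⁻¹ᵁ V') := by
    have := (CommRingCat.isPushout_iff_isPushout (R := Γ(Y, V)) (R' := Γ(X, U))
      (S := Γ(Y', V')) (S' := Γ(X', p ⁻¹ᵁ U ⊓ f' ⁻¹ᵁ V'))).mp hpo
    exact this.symm
  let ε : Γ(Y', V') ⊗[Γ(Y, V)] Γ(X, U) ≃ₐ[Γ(Y', V')] Γ(X', p ⁻¹ᵁ U ⊓ f' ⁻¹ᵁ V') :=
    Algebra.IsPushout.equiv Γ(Y, V) Γ(Y', V') Γ(X, U) Γ(X', p ⁻¹ᵁ U ⊓ f' ⁻¹ᵁ V')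
  have hε : (bcSeq Γ(Y, V) Γ(Y', V') (resList gs U)).map ε =
      resList (pullList p gs) (p ⁻¹ᵁ U ⊓ f' ⁻¹ᵁ V') := by
    rw [← appLE_resList gs U (p ⁻¹ᵁ U ⊓ f' ⁻¹ᵁ V') inf_le_left]
    unfold bcSeq
    rw [List.map_map]
    refine List.map_congr_left fun s _ => ?_
    change ε ((1 : Γ(Y', V')) ⊗ₜ[Γ(Y, V)] s) = _
    rw [Algebra.IsPushout.equiv_tmul, map_one, one_mul]
    rfl
  unfold TRchart TRbc
  constructor
  · intro h
    have h2 := of_algEquiv ε.symm _ h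
    rw [← hε, List.map_map] at h2
    have hid : (⇑ε.symm ∘ ⇑ε) = id := by
      funext z
      exact ε.symm_apply_apply z
    rw [hid, List.map_id] at h2
    exact h2
  · intro h
    have h2 := of_algEquiv ε _ h
    rw [hε] at h2
    exact h2

end Chart

set_option maxHeartbeats 1600000 in
include H in
/-- **Base change on open sets**: stalkwise transversal regularity on an open set passes to
the preimage of that open set in a base change. -/
theorem TRst_pullback (W : X.Opens) (hW : ∀ x ∈ W, TRst f gs x) :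
    ∀ x' ∈ p ⁻¹ᵁ W, TRst f' (pullList p gs) x' := by
  intro x' hx'
  obtain ⟨_, ⟨V, hV, rfl⟩, hfV, -⟩ := Y.isBasis_affineOpens.exists_subset_of_mem_open
    (Set.mem_univ (f (p x'))) isOpen_univ
  obtain ⟨_, ⟨U, hU, rfl⟩, hxU, hUle⟩ := X.isBasis_affineOpens.exists_subset_of_mem_open
    (show p x' ∈ (W ⊓ f ⁻¹ᵁ V : X.Opens) from ⟨hx', hfV⟩) (W ⊓ f ⁻¹ᵁ V).isOpen
  have eUV : U ≤ f ⁻¹ᵁ V := fun z hz => (hUle hz).2
  have hqx : q (f' x') ∈ V := by
    have := congrArg (fun t : X' ⟶ Y => t x') H.w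
    simp only [Scheme.Hom.comp_apply] at this
    rw [← this]
    exact hfV
  obtain ⟨_, ⟨V', hV', rfl⟩, hxV', hV'le⟩ := Y'.isBasis_affineOpens.exists_subset_of_mem_open
    (show f' x' ∈ (q ⁻¹ᵁ V : Y'.Opens) from hqx) (q ⁻¹ᵁ V).isOpen
  have h1 : TRchart f gs U V eUV :=
    (TRchart_iff f gs hU hV eUV).mpr (fun y hy => hW y (hUle hy).1)
  letI := (f.appLE V U eUV).hom.toAlgebra
  letI := (q.appLE V V' hV'le).hom.toAlgebra
  have h2 : TRbc Γ(Y, V) Γ(Y', V') (resList gs U) := by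
    have := baseChange (A := Γ(Y, V)) (B := Γ(X, U)) (resList gs U) h1 Γ(Y', V')
    exact this
  have h3 := (chart_bc_iff H gs hV hU eUV hV' hV'le).mpr h2
  have hU' := Groth.Agent.Helper7.ChartBC.isAffineOpen_chart H hV hU eUV hV' hV'le
  exact (TRchart_iff f' (pullList p gs) hU' hV' inf_le_right).mp h3 x' ⟨hxU, hxV'⟩

end Groth.Agent.Helper14.TRLim
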