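import Mathlib
import Groth.Prelude.Def_RegImm
import Groth.Agent.Lib.Helper14.TRLim5

/-!
# Transversally regular sequences of local sections: dictionary and base change (helper14)
-/

set_option autoImplicit false
set_option linter.style.haveILetI false
set_option linter.unusedSectionVars false
set_option linter.unusedVariables false

universe u

open CategoryTheory AlgebraicGeometry Limits Opposite TopologicalSpace TensorProduct Function

namespace Groth.Agent.Helper14.TRLim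

section Local

variable {Y T : Scheme.{u}} (g : Y ⟶ T)

/-- transversal regularity of a list of sections over `U`, relative to `Γ(T, V)` -/
def TRc (U : Y.Opens) (V : T.Opens) (e : U ≤ g ⁻¹ᵁ V) (rs : List Γ(Y, U)) : Prop :=
  @RegImm.IsTransRegularSeq Γ(T, V) Γ(Y, U) _ _ (g.appLE V U e).hom.toAlgebra rs

/-- stalkwise transversal regularity of a list of sections over `U` -/
def TRs (U : Y.Opens) (rs : List Γ(Y, U)) (y : Y) (hy : y ∈ U) : Prop :=
  @RegImm.IsTransRegularSeq (T.presheaf.stalk (g y)) (Y.presheaf.stalk y) _ _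
    (g.stalkMap y).hom.toAlgebra (rs.map (Y.presheaf.germ U y hy).hom)

theorem TRs_res {U U' : Y.Opens} (hle : U' ≤ U) (rs : List Γ(Y, U)) (y : Y) (hy : y ∈ U') :
    TRs g U' (rs.map (Y.presheaf.map (homOfLE hle).op).hom) y hy ↔ TRs g U rs y (hle hy) := by
  unfold TRs
  rw [List.map_map]
  have : (rs.map ((Y.presheaf.germ U' y hy).hom ∘ (Y.presheaf.map (homOfLE hle).op).hom)) =
      rs.map (Y.presheaf.germ U y (hle hy)).hom := by
    refine List.map_congr_left fun s _ => ?_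
    exact TopCat.Presheaf.germ_res_apply _ _ _ _ _
  rw [this]

variable {U : Y.Opens} (hU : IsAffineOpen U) {V : T.Opens}
  (hV : IsAffineOpen V) (e : U ≤ g ⁻¹ᵁ V) (rs : List Γ(Y, U))

include hU hV in
set_option maxHeartbeats 1600000 in
theorem TRs_iff_chart_stalk (y : Y) (hy : y ∈ U) :
    TRs g U rs y hy ↔
      (letI := (g.appLE V U e).hom.toAlgebra
       letI : Algebra Γ(Y, U) (Y.presheaf.stalk y) := Y.presheaf.algebra_section_stalk ⟨y, hy⟩
       letI : Algebra Γ(T, V) (Y.presheaf.stalk y) :=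
         ((algebraMap Γ(Y, U) (Y.presheaf.stalk y)).comp (g.appLE V U e).hom).toAlgebra
       RegImm.IsTransRegularSeq Γ(T, V) (Y.presheaf.stalk y)
         (rs.map (algebraMap Γ(Y, U) (Y.presheaf.stalk y)))) := by
  have hyV : g y ∈ V := e hy
  letI algAB : Algebra Γ(T, V) Γ(Y, U) := (g.appLE V U e).hom.toAlgebra
  letI algBBp : Algebra Γ(Y, U) (Y.presheaf.stalk y) :=
    Y.presheaf.algebra_section_stalk ⟨y, hy⟩
  letI algAAq : Algebra Γ(T, V) (T.presheaf.stalk (g y)) :=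
    T.presheaf.algebra_section_stalk ⟨g y, hyV⟩
  letI algAqBp : Algebra (T.presheaf.stalk (g y)) (Y.presheaf.stalk y) :=
    (g.stalkMap y).hom.toAlgebra
  letI algABp : Algebra Γ(T, V) (Y.presheaf.stalk y) :=
    ((algebraMap Γ(Y, U) (Y.presheaf.stalk y)).comp (g.appLE V U e).hom).toAlgebra
  haveI : IsScalarTower Γ(T, V) (T.presheaf.stalk (g y)) (Y.presheaf.stalk y) := by
    refine IsScalarTower.of_algebraMap_eq (fun r => ?_)
    change Y.presheaf.germ U y hy ((g.appLE V U e).hom r) =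
      g.stalkMap y (T.presheaf.germ V (g y) hyV r)
    rw [Scheme.Hom.germ_stalkMap_apply, Scheme.Hom.appLE,
      CommRingCat.comp_apply, TopCat.Presheaf.germ_res_apply]
  haveI h3 : IsLocalization.AtPrime (T.presheaf.stalk (g y))
      (hV.primeIdealOf (⟨g y, hyV⟩ : V)).asIdeal := hV.isLocalization_stalk ⟨g y, hyV⟩
  exact iff_of_isLocalization_base (A := Γ(T, V)) (A' := T.presheaf.stalk (g y))
    (B := Y.presheaf.stalk y) (hV.primeIdealOf (⟨g y, hyV⟩ : V)).asIdeal.primeCompl _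

include hU hV in
set_option maxHeartbeats 1600000 in
/-- **The local dictionary**. -/
theorem TRc_iff : TRc g U V e rs ↔ ∀ (y : Y) (hy : y ∈ U), TRs g U rs y hy := by
  letI algAB : Algebra Γ(T, V) Γ(Y, U) := (g.appLE V U e).hom.toAlgebra
  constructor
  · intro h y hy
    rw [TRs_iff_chart_stalk g hU hV e rs y hy]
    letI algBBp : Algebra Γ(Y, U) (Y.presheaf.stalk y) :=
      Y.presheaf.algebra_section_stalk ⟨y, hy⟩
    letI algABp : Algebra Γ(T, V) (Y.presheaf.stalk y) :=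
      ((algebraMap Γ(Y, U) (Y.presheaf.stalk y)).comp (g.appLE V U e).hom).toAlgebra
    haveI : IsScalarTower Γ(T, V) Γ(Y, U) (Y.presheaf.stalk y) :=
      IsScalarTower.of_algebraMap_eq (fun _ => rfl)
    haveI h4 : IsLocalization.AtPrime (Y.presheaf.stalk y)
        (hU.primeIdealOf (⟨y, hy⟩ : U)).asIdeal := hU.isLocalization_stalk ⟨y, hy⟩
    exact of_isLocalization (A := Γ(T, V)) (hU.primeIdealOf (⟨y, hy⟩ : U)).asIdeal.primeCompl
      (Y.presheaf.stalk y) rs h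
  · intro h
    refine of_forall_maximal (A := Γ(T, V)) (B := Γ(Y, U)) rs ?_
    intro P hP
    obtain ⟨y, hy, hyP⟩ := exists_primeIdealOf_eq hU ⟨P, hP.isPrime⟩
    have h1 := (TRs_iff_chart_stalk g hU hV e rs y hy).mp (h y hy)
    letI algBBp : Algebra Γ(Y, U) (Y.presheaf.stalk y) :=
      Y.presheaf.algebra_section_stalk ⟨y, hy⟩
    letI algABp : Algebra Γ(T, V) (Y.presheaf.stalk y) :=
      ((algebraMap Γ(Y, U) (Y.presheaf.stalk y)).comp (g.appLE V U e).hom).toAlgebra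
    haveI : IsScalarTower Γ(T, V) Γ(Y, U) (Y.presheaf.stalk y) :=
      IsScalarTower.of_algebraMap_eq (fun _ => rfl)
    haveI h4 : IsLocalization.AtPrime (Y.presheaf.stalk y)
        (hU.primeIdealOf (⟨y, hy⟩ : U)).asIdeal := hU.isLocalization_stalk ⟨y, hy⟩
    have hPeq : (hU.primeIdealOf (⟨y, hy⟩ : U)).asIdeal = P := congrArg PrimeSpectrum.asIdeal hyP
    haveI h5 : IsLocalization.AtPrime (Y.presheaf.stalk y) P := hPeq ▸ h4
    let ε : Y.presheaf.stalk y ≃ₐ[Γ(Y, U)] Localization.AtPrime P :=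
      IsLocalization.algEquiv P.primeCompl (Y.presheaf.stalk y) (Localization.AtPrime P)
    let ε' : Y.presheaf.stalk y ≃ₐ[Γ(T, V)] Localization.AtPrime P := ε.restrictScalars Γ(T, V)
    have h2 := of_algEquiv ε' _ h1
    have hl : (rs.map (algebraMap Γ(Y, U) (Y.presheaf.stalk y))).map ε' =
        rs.map (algebraMap Γ(Y, U) (Localization.AtPrime P)) := by
      rw [List.map_map]
      refine List.map_congr_left fun s _ => ?_
      exact ε.commutes s
    rw [hl] at h2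
    exact h2

include hU hV in
/-- restriction of chart data to a smaller affine chart -/
theorem TRc_of_le {U' : Y.Opens} (hU' : IsAffineOpen U') (hle : U' ≤ U) {V' : T.Opens}
    (hV' : IsAffineOpen V') (e' : U' ≤ g ⁻¹ᵁ V') (h : TRc g U V e rs) :
    TRc g U' V' e' (rs.map (Y.presheaf.map (homOfLE hle).op).hom) := by
  rw [TRc_iff g hU' hV' e']
  intro y hy
  rw [TRs_res]
  exact (TRc_iff g hU hV e rs).mp h y (hle hy)

end Local

section BC

variable {X' Y' X Y : Scheme.{u}} {p : X' ⟶ X} {f' : X' ⟶ Y'} {f : X ⟶ Y} {q : Y' ⟶ Y}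
  (H : IsPullback p f' f q)
  {V : Y.Opens} (hV : IsAffineOpen V) {U : X.Opens} (hU : IsAffineOpen U)
  (eUV : U ≤ f ⁻¹ᵁ V) {V' : Y'.Opens} (hV' : IsAffineOpen V') (eV' : V' ≤ q ⁻¹ᵁ V)
  (rs : List Γ(X, U))

include H hV hU hV' in
set_option maxHeartbeats 1600000 in
/-- **Chart base change** for lists of local sections. -/
theorem chartL_bc_iff (U' : X'.Opens) (hU' : U' = p ⁻¹ᵁ U ⊓ f' ⁻¹ᵁ V') :
    TRc f' U' V' (hU' ▸ inf_le_right)
        (rs.map (p.appLE U U' (hU' ▸ inf_le_left)).hom) ↔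
      (letI := (f.appLE V U eUV).hom.toAlgebra
       letI := (q.appLE V V' eV').hom.toAlgebra
       TRbc Γ(Y, V) Γ(Y', V') rs) := by
  subst hU'
  letI algVU : Algebra Γ(Y, V) Γ(X, U) := (f.appLE V U eUV).hom.toAlgebra
  letI algVV' : Algebra Γ(Y, V) Γ(Y', V') := (q.appLE V V' eV').hom.toAlgebra
  letI algV'U' : Algebra Γ(Y', V') Γ(X', p ⁻¹ᵁ U ⊓ f' ⁻¹ᵁ V') :=
    (f'.appLE V' (p ⁻¹ᵁ U ⊓ f' ⁻¹ᵁ V') inf_le_right).hom.toAlgebra
  letI algUU' : Algebra Γ(X, U) Γ(X', p ⁻¹ᵁ U ⊓ f' ⁻¹ᵁ V') :=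
    (p.appLE U (p ⁻¹ᵁ U ⊓ f' ⁻¹ᵁ V') inf_le_left).hom.toAlgebra
  letI algVU' : Algebra Γ(Y, V) Γ(X', p ⁻¹ᵁ U ⊓ f' ⁻¹ᵁ V') :=
    ((algebraMap Γ(Y', V') Γ(X', p ⁻¹ᵁ U ⊓ f' ⁻¹ᵁ V')).comp
      (algebraMap Γ(Y, V) Γ(Y', V'))).toAlgebra
  haveI : IsScalarTower Γ(Y, V) Γ(Y', V') Γ(X', p ⁻¹ᵁ U ⊓ f' ⁻¹ᵁ V') :=
    IsScalarTower.of_algebraMap_eq (fun _ => rfl)
  have hpo := Groth.Agent.Helper7.ChartBC.isPushout_chart H hV hU eUV hV' eV'
  haveI : IsScalarTower Γ(Y, V) Γ(X, U) Γ(X', p ⁻¹ᵁ U ⊓ f' ⁻¹ᵁ V') := by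
    refine IsScalarTower.of_algebraMap_eq (fun r => ?_)
    exact congr($(hpo.w).hom r).symm
  haveI hP : Algebra.IsPushout Γ(Y, V) Γ(Y', V') Γ(X, U) Γ(X', p ⁻¹ᵁ U ⊓ f' ⁻¹ᵁ V') := by
    have := (CommRingCat.isPushout_iff_isPushout (R := Γ(Y, V)) (R' := Γ(X, U))
      (S := Γ(Y', V')) (S' := Γ(X', p ⁻¹ᵁ U ⊓ f' ⁻¹ᵁ V'))).mp hpo
    exact this.symm
  let ε : Γ(Y', V') ⊗[Γ(Y, V)] Γ(X, U) ≃ₐ[Γ(Y', V')] Γ(X', p ⁻¹ᵁ U ⊓ f' ⁻¹ᵁ V') :=
    Algebra.IsPushout.equiv Γ(Y, V) Γ(Y', V') Γ(X, U) Γ(X', p ⁻¹ᵁ U ⊓ f' ⁻¹ᵁ V')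
  have hε : (bcSeq Γ(Y, V) Γ(Y', V') rs).map ε =
      rs.map (p.appLE U (p ⁻¹ᵁ U ⊓ f' ⁻¹ᵁ V') inf_le_left).hom := by
    unfold bcSeq
    rw [List.map_map]
    refine List.map_congr_left fun s _ => ?_
    change ε ((1 : Γ(Y', V')) ⊗ₜ[Γ(Y, V)] s) = _
    rw [Algebra.IsPushout.equiv_tmul, map_one, one_mul]
    rfl
  unfold TRc TRbc
  constructor
  · intro h
    have h2 := of_algEquiv ε.symm _ h
    rw [← hε, List.map_map] at h2
    have hid : (⇑ε.symm ∘ ⇑ε) = id := by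
      funext z
      exact ε.symm_apply_apply z
    rw [hid, List.map_id] at h2
    exact h2
  · intro h
    have h2 := of_algEquiv ε _ h
    rw [hε] at h2
    exact h2

end BC

end Groth.Agent.Helper14.TRLim
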