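import Mathlib
import Groth.Prelude.Def_RegImm
import Groth.Agent.Lib.Helper14.TRLim7
import Groth.Agent.Lib.Helper14.RegImmLimA

/-!
# Transversally regular immersions: base change and open locus (helper14)
-/

set_option autoImplicit false
set_option linter.style.haveILetI false
set_option linter.unusedSectionVars false
set_option linter.unusedVariables false

universe u

open CategoryTheory AlgebraicGeometry Limits Opposite TopologicalSpace TensorProduct Function

namespace Groth.Agent.Helper14.TRLim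

section BCI

variable {X' S' X S Z Z' : Scheme.{u}} {p : X' ⟶ X} {f' : X' ⟶ S'} {f : X ⟶ S} {q : S' ⟶ S}
  (H1 : IsPullback p f' f q) {i : Z ⟶ X} {i' : Z' ⟶ X'} {g' : Z' ⟶ Z}
  (H2 : IsPullback g' i' i p)

include H1 H2 in
set_option maxHeartbeats 1600000 in
/-- **Base change** of transversal regularity of an immersion at a point. -/
theorem TRIAt_baseChange (z' : Z')
    (h : RegImm.IsTransRegularImmersionAt f i (g' z')) :
    RegImm.IsTransRegularImmersionAt f' i' z' := by
  obtain ⟨⟨U, hU⟩, ⟨V, hV⟩, e, hzU, hcl, rs, hTR, hker⟩ := h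
  have hcond : i (g' z') = p (i' z') := by
    have := congrArg (fun t : Z' ⟶ X => t z') H2.w
    exact this
  have hxU : p (i' z') ∈ U := hcond ▸ hzU
  have hqV : q (f' (i' z')) ∈ V := by
    have := congrArg (fun t : X' ⟶ S => t (i' z')) H1.w
    simp only [Scheme.Hom.comp_apply] at this
    rw [← this]
    exact e hxU
  obtain ⟨_, ⟨V', hV', rfl⟩, hxV', hV'le⟩ := S'.isBasis_affineOpens.exists_subset_of_mem_open
    (show f' (i' z') ∈ (q ⁻¹ᵁ V : S'.Opens) from hqV) (q ⁻¹ᵁ V).isOpen
  have hU' := Groth.Agent.Helper7.ChartBC.isAffineOpen_chart H1 hV hU e hV' hV'le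
  haveI := hcl
  obtain ⟨hcl', hker'⟩ := Groth.Agent.Helper14.RegImmLim.ker_base_change i p i' g' H2 U hU _ hU'
    inf_le_left
  refine ⟨⟨_, hU'⟩, ⟨V', hV'⟩, inf_le_right, ⟨hxU, hxV'⟩, hcl',
    rs.map (p.appLE U _ inf_le_left).hom, ?_, ?_⟩
  · letI := (f.appLE V U e).hom.toAlgebra
    letI := (q.appLE V V' hV'le).hom.toAlgebra
    have h2 : TRbc Γ(S, V) Γ(S', V') rs := by
      have := baseChange (A := Γ(S, V)) (B := Γ(X, U)) rs hTR Γ(S', V')
      exact this
    exact (chartL_bc_iff H1 hV hU e hV' hV'le rs _ rfl).mpr h2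
  · rw [hker', hker, Ideal.map_ofList]

end BCI

section Locus

variable {X S Z : Scheme.{u}} (f : X ⟶ S) (i : Z ⟶ X)

/-- the locus where `i` is transversally regular relative to `S` -/
def trLocus : Z.Opens :=
  ⟨{z | RegImm.IsTransRegularImmersionAt f i z}, by
    rw [isOpen_iff_forall_mem_open]
    intro z hz
    obtain ⟨U, V, e, hzU, hcl, rs, hTR, hker⟩ := hz
    exact ⟨(i ⁻¹ᵁ U.1 : Z.Opens), fun z' hz' => ⟨U, V, e, hz', hcl, rs, hTR, hker⟩,
      (i ⁻¹ᵁ U.1).isOpen, hzU⟩⟩

theorem mem_trLocus (z : Z) : z ∈ trLocus f i ↔ RegImm.IsTransRegularImmersionAt f i z := Iff.rfl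

end Locus

end Groth.Agent.Helper14.TRLim
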