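import Mathlib
import Groth.Prelude.Def_RegImm
import Groth.Agent.Lib.Helper14.TRLim5
import Groth.Agent.Lib.Helper7.SecColim

/-!
# Transversally regular sequences of global sections over a cofiltered limit (helper14)
-/

set_option autoImplicit false
set_option linter.style.haveILetI false
set_option linter.unusedSectionVars false
set_option linter.unusedVariables false

universe u

open CategoryTheory AlgebraicGeometry Limits Opposite TopologicalSpace TensorProduct Function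

namespace Groth.Agent.Helper14.TRLim

section General

variable {Y T : Scheme.{u}} (g : Y ⟶ T) (gs : List Γ(Y, ⊤))

theorem TRst_of_forall_chart
    (h : ∀ (U : Y.affineOpens) (V : T.affineOpens) (e : U.1 ≤ g ⁻¹ᵁ V.1), TRchart g gs U.1 V.1 e)
    (y : Y) : TRst g gs y := by
  obtain ⟨_, ⟨V, hV, rfl⟩, hgV, -⟩ := T.isBasis_affineOpens.exists_subset_of_mem_open
    (Set.mem_univ (g y)) isOpen_univ
  obtain ⟨_, ⟨U, hU, rfl⟩, hyU, hUle⟩ := Y.isBasis_affineOpens.exists_subset_of_mem_open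
    (show y ∈ (g ⁻¹ᵁ V : Y.Opens) from hgV) (g ⁻¹ᵁ V).isOpen
  exact (TRchart_iff g gs hU hV hUle).mp (h ⟨U, hU⟩ ⟨V, hV⟩ hUle) y hyU

theorem forall_chart_of_TRst (h : ∀ y, TRst g gs y)
    (U : Y.affineOpens) (V : T.affineOpens) (e : U.1 ≤ g ⁻¹ᵁ V.1) : TRchart g gs U.1 V.1 e :=
  (TRchart_iff g gs U.2 V.2 e).mpr (fun y _ => h y)

theorem pullList_comp {Y' Y'' : Scheme.{u}} (a : Y'' ⟶ Y') (b : Y' ⟶ Y) :
    pullList a (pullList b gs) = pullList (a ≫ b) gs := by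
  unfold pullList
  rw [List.map_map]
  rfl

end General

section Transition

variable {S₀ S₁ S₂ X₀ : Scheme.{u}} (g₀ : X₀ ⟶ S₀) (a : S₁ ⟶ S₀) (b : S₂ ⟶ S₁) (a' : S₂ ⟶ S₀)
  (hab : b ≫ a = a') (fs : List Γ(X₀, ⊤))

/-- the transition map between the base changes -/
noncomputable def trans : pullback g₀ a' ⟶ pullback g₀ a :=
  pullback.lift (pullback.fst g₀ a') (pullback.snd g₀ a' ≫ b)
    (by rw [pullback.condition, Category.assoc, hab])

theorem trans_fst : trans g₀ a b a' hab ≫ pullback.fst g₀ a = pullback.fst g₀ a' :=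
  pullback.lift_fst _ _ _

theorem trans_snd : trans g₀ a b a' hab ≫ pullback.snd g₀ a = pullback.snd g₀ a' ≫ b :=
  pullback.lift_snd _ _ _

theorem isPullback_trans :
    IsPullback (trans g₀ a b a' hab) (pullback.snd g₀ a') (pullback.snd g₀ a) b := by
  refine IsPullback.of_right ?_ (trans_snd g₀ a b a' hab) (IsPullback.of_hasPullback g₀ a)
  rw [trans_fst, hab]
  exact IsPullback.of_hasPullback g₀ a'

theorem TRst_transition (W : (pullback g₀ a).Opens)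
    (hW : ∀ x ∈ W, TRst (pullback.snd g₀ a) (pullList (pullback.fst g₀ a) fs) x)
    (x' : ↥(pullback g₀ a')) (hx' : trans g₀ a b a' hab x' ∈ W) :
    TRst (pullback.snd g₀ a') (pullList (pullback.fst g₀ a') fs) x' := by
  have h1 := TRst_pullback (isPullback_trans g₀ a b a' hab) (pullList (pullback.fst g₀ a) fs)
    W hW x' hx'
  rw [pullList_comp, trans_fst] at h1
  exact h1

end Transition

section Limit

variable {I : Type u} [SmallCategory I] [IsCofiltered I] (D : I ⥤ Scheme.{u}) (c : Cone D)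
  (hc : IsLimit c) [∀ (i j : I) (f : i ⟶ j), IsAffineHom (D.map f)]
  (i₀ : I) {X₀ : Scheme.{u}} (g₀ : X₀ ⟶ D.obj i₀) [LocallyOfFinitePresentation g₀]
  (fs : List Γ(X₀, ⊤))

open Groth.Agent.Helper7.SecColim

include hc in
set_option maxHeartbeats 3200000 in
/-- **Chart descent.** -/
theorem chart_descent {U₀ : X₀.Opens} (hU₀ : IsAffineOpen U₀) {V₀ : (D.obj i₀).Opens}
    (hV₀ : IsAffineOpen V₀) (e₀ : U₀ ≤ g₀ ⁻¹ᵁ V₀)
    (h : TRchart (pullback.snd g₀ (c.π.app i₀)) (pullList (pullback.fst g₀ (c.π.app i₀)) fs)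
      ((pullback.fst g₀ (c.π.app i₀)) ⁻¹ᵁ U₀ ⊓
        (pullback.snd g₀ (c.π.app i₀)) ⁻¹ᵁ (c.π.app i₀ ⁻¹ᵁ V₀)) (c.π.app i₀ ⁻¹ᵁ V₀)
      inf_le_right) :
    ∃ j : Over i₀, TRchart (pullback.snd g₀ (D.map j.hom))
      (pullList (pullback.fst g₀ (D.map j.hom)) fs)
      ((pullback.fst g₀ (D.map j.hom)) ⁻¹ᵁ U₀ ⊓
        (pullback.snd g₀ (D.map j.hom)) ⁻¹ᵁ (D.map j.hom ⁻¹ᵁ V₀)) (D.map j.hom ⁻¹ᵁ V₀)
      inf_le_right := by
  classical
  haveI := isAffineHom_π_app D c hc i₀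
  have hVinf : IsAffineOpen (c.π.app i₀ ⁻¹ᵁ V₀) := hV₀.preimage (c.π.app i₀)
  letI algVU : Algebra Γ(D.obj i₀, V₀) Γ(X₀, U₀) := (g₀.appLE V₀ U₀ e₀).hom.toAlgebra
  haveI : Algebra.FinitePresentation Γ(D.obj i₀, V₀) Γ(X₀, U₀) :=
    HasRingHomProperty.appLE @LocallyOfFinitePresentation g₀ inferInstance ⟨V₀, hV₀⟩ ⟨U₀, hU₀⟩ e₀
  obtain ⟨α, iP, iD, iN, l, m, hm, hsurj, hker⟩ := exists_directed_sections D c hc i₀ V₀ hV₀
  letI algC : Algebra Γ(D.obj i₀, V₀) Γ(c.pt, c.π.app i₀ ⁻¹ᵁ V₀) :=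
    ((c.π.app i₀).appLE V₀ _ le_rfl).hom.toAlgebra
  letI algG : ∀ a, Algebra Γ(D.obj i₀, V₀) Γ(D.obj (l a).left, D.map (l a).hom ⁻¹ᵁ V₀) :=
    fun a => ((D.map (l a).hom).appLE V₀ _ le_rfl).hom.toAlgebra
  let G : α → Type u := fun a => Γ(D.obj (l a).left, D.map (l a).hom ⁻¹ᵁ V₀)
  let fG : ∀ a b, a ≤ b → (G a →ₐ[Γ(D.obj i₀, V₀)] G b) := fun a b hab =>
    { ((D.map (m a b hab).left).appLE _ _ (preimage_le_map D i₀ V₀ (m a b hab))).hom with
      commutes' := fun r => congr($(appLE_map_comp D i₀ V₀ (m a b hab)).hom r) }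
  let gG : ∀ a, G a →ₐ[Γ(D.obj i₀, V₀)] Γ(c.pt, c.π.app i₀ ⁻¹ᵁ V₀) := fun a =>
    { ((c.π.app (l a).left).appLE _ _ (preimage_le_π D c i₀ V₀ (l a))).hom with
      commutes' := fun r => congr($(appLE_π_comp D c i₀ V₀ (l a)).hom r) }
  have hg : ∀ a b (hab : a ≤ b), (gG b).comp (fG a b hab) = gG a := by
    intro a b hab
    ext x
    exact congr($(appLE_map_π D c i₀ V₀ (m a b hab)).hom x)
  have Hinf := IsPullback.of_hasPullback g₀ (c.π.app i₀)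
  have hbc := (chart_bc_iff Hinf fs hV₀ hU₀ e₀ hVinf le_rfl).mp h
  obtain ⟨a, ha⟩ := exists_stage G fG Γ(c.pt, c.π.app i₀ ⁻¹ᵁ V₀) gG hg hsurj hker
    (resList fs U₀) hbc
  refine ⟨l a, ?_⟩
  have Ha := IsPullback.of_hasPullback g₀ (D.map (l a).hom)
  exact (chart_bc_iff Ha fs hV₀ hU₀ e₀ (hV₀.preimage (D.map (l a).hom)) le_rfl).mpr ha

include hc in
set_option maxHeartbeats 3200000 in
/-- **Main theorem.** -/
theorem main [CompactSpace X₀] :
    (∀ (U : (pullback g₀ (c.π.app i₀)).affineOpens) (V : c.pt.affineOpens)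
        (e : U.1 ≤ pullback.snd g₀ (c.π.app i₀) ⁻¹ᵁ V.1),
        TRchart (pullback.snd g₀ (c.π.app i₀)) (pullList (pullback.fst g₀ (c.π.app i₀)) fs)
          U.1 V.1 e) ↔
      ∃ (j : I) (φ : j ⟶ i₀), ∀ (U : (pullback g₀ (D.map φ)).affineOpens)
        (V : (D.obj j).affineOpens) (e : U.1 ≤ pullback.snd g₀ (D.map φ) ⁻¹ᵁ V.1),
        TRchart (pullback.snd g₀ (D.map φ)) (pullList (pullback.fst g₀ (D.map φ)) fs)
          U.1 V.1 e := by
  classical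
  constructor
  · intro hinf
    haveI := isAffineHom_π_app D c hc i₀
    have hloc : ∀ x₀ : X₀, ∃ (U₀ : X₀.Opens) (V₀ : (D.obj i₀).Opens), IsAffineOpen U₀ ∧
        IsAffineOpen V₀ ∧ x₀ ∈ U₀ ∧ U₀ ≤ g₀ ⁻¹ᵁ V₀ := by
      intro x₀
      obtain ⟨_, ⟨V₀, hV₀, rfl⟩, hfx, -⟩ :=
        (D.obj i₀).isBasis_affineOpens.exists_subset_of_mem_open
          (Set.mem_univ (g₀ x₀)) isOpen_univ
      obtain ⟨_, ⟨U₀, hU₀, rfl⟩, hxU, eUV⟩ := X₀.isBasis_affineOpens.exists_subset_of_mem_open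
        (show x₀ ∈ (g₀ ⁻¹ᵁ V₀ : X₀.Opens) from hfx) (g₀ ⁻¹ᵁ V₀).isOpen
      exact ⟨U₀, V₀, hU₀, hV₀, hxU, eUV⟩
    choose U₀ V₀ hU₀ hV₀ hxU₀ e₀ using hloc
    obtain ⟨t, ht⟩ := CompactSpace.elim_nhds_subcover (fun x₀ => (U₀ x₀ : Set X₀))
      (fun x₀ => (U₀ x₀).2.mem_nhds (hxU₀ x₀))
    have hdesc : ∀ x₀ : X₀, ∃ j : Over i₀, TRchart (pullback.snd g₀ (D.map j.hom))
        (pullList (pullback.fst g₀ (D.map j.hom)) fs)
        ((pullback.fst g₀ (D.map j.hom)) ⁻¹ᵁ U₀ x₀ ⊓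
          (pullback.snd g₀ (D.map j.hom)) ⁻¹ᵁ (D.map j.hom ⁻¹ᵁ V₀ x₀)) (D.map j.hom ⁻¹ᵁ V₀ x₀)
        inf_le_right := by
      intro x₀
      refine chart_descent D c hc i₀ g₀ fs (hU₀ x₀) (hV₀ x₀) (e₀ x₀) ?_
      have hVinf : IsAffineOpen (c.π.app i₀ ⁻¹ᵁ V₀ x₀) := (hV₀ x₀).preimage (c.π.app i₀)
      have hUinf := Groth.Agent.Helper7.ChartBC.isAffineOpen_chart
        (IsPullback.of_hasPullback g₀ (c.π.app i₀)) (hV₀ x₀) (hU₀ x₀) (e₀ x₀) hVinf le_rfl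
      exact hinf ⟨_, hUinf⟩ ⟨_, hVinf⟩ inf_le_right
    choose j' hj' using hdesc
    obtain ⟨j, hj⟩ := IsCofiltered.inf_objs_exists (t.image j')
    refine ⟨j.left, j.hom, forall_chart_of_TRst _ _ fun x => ?_⟩
    -- the point `x` lies over some `U₀ x₀`
    have hx : (pullback.fst g₀ (D.map j.hom)) x ∈ ⋃ x₀ ∈ t, (U₀ x₀ : Set X₀) := by
      rw [ht]; trivial
    obtain ⟨x₀, hx₀t, hxU⟩ : ∃ x₀ ∈ t, (pullback.fst g₀ (D.map j.hom)) x ∈ U₀ x₀ := by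
      simp only [Set.mem_iUnion, exists_prop] at hx
      exact hx
    obtain ⟨ψ⟩ := hj (Finset.mem_image_of_mem j' hx₀t)
    have hab : D.map ψ.left ≫ D.map (j' x₀).hom = D.map j.hom := by
      rw [← D.map_comp, Over.w ψ]
    have hU' := Groth.Agent.Helper7.ChartBC.isAffineOpen_chart
      (IsPullback.of_hasPullback g₀ (D.map (j' x₀).hom)) (hV₀ x₀) (hU₀ x₀) (e₀ x₀)
      ((hV₀ x₀).preimage (D.map (j' x₀).hom)) le_rfl
    have hW := (TRchart_iff _ _ hU' ((hV₀ x₀).preimage (D.map (j' x₀).hom)) inf_le_right).mp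
      (hj' x₀)
    refine TRst_transition g₀ (D.map (j' x₀).hom) (D.map ψ.left) (D.map j.hom) hab fs _ hW x ?_
    have h1 : (pullback.fst g₀ (D.map (j' x₀).hom))
        (trans g₀ (D.map (j' x₀).hom) (D.map ψ.left) (D.map j.hom) hab x) ∈ U₀ x₀ := by
      rw [← Scheme.Hom.comp_apply, trans_fst]
      exact hxU
    refine ⟨h1, ?_⟩
    change (D.map (j' x₀).hom) ((pullback.snd g₀ (D.map (j' x₀).hom))
      (trans g₀ (D.map (j' x₀).hom) (D.map ψ.left) (D.map j.hom) hab x)) ∈ V₀ x₀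
    rw [← Scheme.Hom.comp_apply, ← pullback.condition, Scheme.Hom.comp_apply]
    exact e₀ x₀ h1
  · rintro ⟨j, φ, hstage⟩
    have h1 := TRst_of_forall_chart _ _ hstage
    refine forall_chart_of_TRst _ _ fun x => ?_
    exact TRst_transition g₀ (D.map φ) (c.π.app j) (c.π.app i₀) (c.w φ) fs ⊤
      (fun y _ => h1 y) x trivial

end Limit

end Groth.Agent.Helper14.TRLim
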