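import Mathlib
import Groth.Prelude.Def_RegImm
import Groth.Agent.Lib.Helper14.TRLim6

/-!
# Base changes of a cofiltered system as a cofiltered system (helper14)
-/

set_option autoImplicit false
set_option linter.style.haveILetI false
set_option linter.unusedSectionVars false
set_option linter.unusedVariables false

universe u

open CategoryTheory AlgebraicGeometry Limits Opposite TopologicalSpace Function

namespace Groth.Agent.Helper14.TRLim

section GenPB

variable {J : Type u} [SmallCategory J] (B : J ⥤ Scheme.{u}) {B₀ : Scheme.{u}}
  (b : ∀ l : J, B.obj l ⟶ B₀) (hb : ∀ {l l' : J} (u : l' ⟶ l), B.map u ≫ b l = b l')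
  {T : Scheme.{u}} (h : T ⟶ B₀)

/-- the system `l ↦ T ×_{B₀} B_l` -/
noncomputable def gpb : J ⥤ Scheme.{u} where
  obj l := pullback h (b l)
  map {l' l} u := trans h (b l) (B.map u) (b l') (hb u)
  map_id l := by
    apply pullback.hom_ext
    · rw [trans_fst, Category.id_comp]
    · rw [trans_snd, B.map_id, Category.comp_id, Category.id_comp]
  map_comp {l'' l' l} u v := by
    apply pullback.hom_ext
    · rw [trans_fst, Category.assoc, trans_fst, trans_fst]
    · rw [trans_snd, Category.assoc, trans_snd, ← Category.assoc, trans_snd, Category.assoc,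
        B.map_comp]

@[simp] theorem gpb_obj (l : J) : (gpb B b hb h).obj l = pullback h (b l) := rfl

theorem gpb_map {l' l : J} (u : l' ⟶ l) :
    (gpb B b hb h).map u = trans h (b l) (B.map u) (b l') (hb u) := rfl

/-- the projection to the original system -/
noncomputable def gpbSnd : gpb B b hb h ⟶ B where
  app l := pullback.snd h (b l)
  naturality {l' l} u := trans_snd h (b l) (B.map u) (b l') (hb u)

variable (cB : Cone B) (b' : cB.pt ⟶ B₀) (hb' : ∀ l : J, cB.π.app l ≫ b l = b')

/-- the base-changed cone -/
noncomputable def gpbCone : Cone (gpb B b hb h) where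
  pt := pullback h b'
  π :=
    { app := fun l => trans h (b l) (cB.π.app l) b' (hb' l)
      naturality := fun {l' l} u => by
        apply pullback.hom_ext
        · change (𝟙 _ ≫ trans h (b l) (cB.π.app l) b' (hb' l)) ≫ _ =
            (trans h (b l') (cB.π.app l') b' (hb' l') ≫ trans h (b l) (B.map u) (b l') (hb u)) ≫ _
          rw [Category.id_comp, trans_fst, Category.assoc, trans_fst, trans_fst]
        · change (𝟙 _ ≫ trans h (b l) (cB.π.app l) b' (hb' l)) ≫ _ =
            (trans h (b l') (cB.π.app l') b' (hb' l') ≫ trans h (b l) (B.map u) (b l') (hb u)) ≫ _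
          rw [Category.id_comp, trans_snd, Category.assoc, trans_snd, ← Category.assoc, trans_snd,
            Category.assoc, Cone.w] }

@[simp] theorem gpbCone_pt : (gpbCone B b hb h cB b' hb').pt = pullback h b' := rfl

theorem gpbCone_π (l : J) :
    (gpbCone B b hb h cB b' hb').π.app l = trans h (b l) (cB.π.app l) b' (hb' l) := rfl

/-- the base-changed cone is a limit cone -/
noncomputable def isLimitGpbCone [IsConnected J] (hcB : IsLimit cB) :
    IsLimit (gpbCone B b hb h cB b' hb') :=
  isLimitOfIsPullbackOfIsConnected (gpbSnd B b hb h) (gpbCone B b hb h cB b' hb') cB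
    (by exact { hom := pullback.snd h b'
                w := fun l => (trans_snd h (b l) (cB.π.app l) b' (hb' l)).symm })
    (fun l => by exact isPullback_trans h (b l) (cB.π.app l) b' (hb' l)) hcB

instance gpb_isAffineHom [∀ {l' l : J} (u : l' ⟶ l), IsAffineHom (B.map u)] {l' l : J}
    (u : l' ⟶ l) : IsAffineHom ((gpb B b hb h).map u) :=
  MorphismProperty.of_isPullback (P := @IsAffineHom)
    (isPullback_trans h (b l) (B.map u) (b l') (hb u)).flip inferInstance

end GenPB

end Groth.Agent.Helper14.TRLim
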