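import Mathlib
import Groth.Prelude.Def_RegImm
import Groth.Agent.Lib.Helper14.TRLim8
import Groth.Agent.Lib.Helper14.TRLim9
import Groth.Agent.Lib.Helper14.RegImmLimD

/-!
# Transversally regular immersions over a cofiltered limit: setting and core descent (helper14)
-/

set_option autoImplicit false
set_option linter.style.haveILetI false
set_option linter.unusedSectionVars false
set_option linter.unusedVariables false

universe u

open CategoryTheory AlgebraicGeometry Limits Opposite TopologicalSpace TensorProduct Function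

namespace Groth.Agent.Helper14.TRLim

attribute [local instance] CategoryTheory.isConnected_of_hasTerminal

section Setting

variable {I : Type u} [SmallCategory I] [IsCofiltered I] (D : I ⥤ Scheme.{u}) (c : Cone D)
  (hc : IsLimit c) [∀ (i j : I) (f : i ⟶ j), IsAffineHom (D.map f)]
  (i₀ : I) {X₀ Y₀ : Scheme.{u}} (g₀ : X₀ ⟶ D.obj i₀) (j₀ : Y₀ ⟶ X₀)

/-- the base system over `Over i₀` -/
abbrev SD : Over i₀ ⥤ Scheme.{u} := Over.forget i₀ ⋙ D

theorem SD_w {l' l : Over i₀} (u : l' ⟶ l) : (SD D i₀).map u ≫ D.map l.hom = D.map l'.hom := by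
  change D.map u.left ≫ D.map l.hom = D.map l'.hom
  rw [← D.map_comp, Over.w]

/-- the limit cone of the base system -/
abbrev cS : Cone (SD D i₀) := c.whisker (Over.forget i₀)

/-- it is a limit cone -/
noncomputable def hcS : IsLimit (cS D c i₀) :=
  (Functor.Initial.isLimitWhiskerEquiv (Over.forget i₀) c).symm hc

instance SD_isAffineHom {l' l : Over i₀} (u : l' ⟶ l) : IsAffineHom ((SD D i₀).map u) :=
  (inferInstance : IsAffineHom (D.map u.left))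

/-- the system `X_l = X₀ ×_{S_{i₀}} S_l` -/
noncomputable def XD : Over i₀ ⥤ Scheme.{u} :=
  gpb (SD D i₀) (fun l => D.map l.hom) (fun u => SD_w D i₀ u) g₀

/-- its limit cone, with point `X₀ ×_{S_{i₀}} S` -/
noncomputable def cX : Cone (XD D i₀ g₀) :=
  gpbCone (SD D i₀) (fun l => D.map l.hom) (fun u => SD_w D i₀ u) g₀ (cS D c i₀) (c.π.app i₀)
    (fun l => c.w l.hom)

/-- it is a limit cone -/
noncomputable def hcX : IsLimit (cX D c i₀ g₀) :=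
  isLimitGpbCone (SD D i₀) (fun l => D.map l.hom) (fun u => SD_w D i₀ u) g₀ (cS D c i₀)
    (c.π.app i₀) (fun l => c.w l.hom) (hcS D c hc i₀)

instance XD_isAffineHom {l' l : Over i₀} (u : l' ⟶ l) : IsAffineHom ((XD D i₀ g₀).map u) :=
  gpb_isAffineHom (SD D i₀) (fun l => D.map l.hom) (fun u => SD_w D i₀ u) g₀ u

theorem XD_w {l' l : Over i₀} (u : l' ⟶ l) :
    (XD D i₀ g₀).map u ≫ pullback.fst g₀ (D.map l.hom) = pullback.fst g₀ (D.map l'.hom) :=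
  trans_fst g₀ (D.map l.hom) (D.map u.left) (D.map l'.hom) (SD_w D i₀ u)

theorem cX_w (l : Over i₀) :
    (cX D c i₀ g₀).π.app l ≫ pullback.fst g₀ (D.map l.hom) = pullback.fst g₀ (c.π.app i₀) :=
  trans_fst g₀ (D.map l.hom) (c.π.app l.left) (c.π.app i₀) (c.w l.hom)

/-- the system `Y_l = Y₀ ×_{X₀} X_l` -/
noncomputable def YD : Over i₀ ⥤ Scheme.{u} :=
  gpb (XD D i₀ g₀) (fun l => pullback.fst g₀ (D.map l.hom)) (fun u => XD_w D i₀ g₀ u) j₀

/-- its limit cone -/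
noncomputable def cY : Cone (YD D i₀ g₀ j₀) :=
  gpbCone (XD D i₀ g₀) (fun l => pullback.fst g₀ (D.map l.hom)) (fun u => XD_w D i₀ g₀ u) j₀
    (cX D c i₀ g₀) (pullback.fst g₀ (c.π.app i₀)) (fun l => cX_w D c i₀ g₀ l)

/-- it is a limit cone -/
noncomputable def hcY : IsLimit (cY D c i₀ g₀ j₀) :=
  isLimitGpbCone (XD D i₀ g₀) (fun l => pullback.fst g₀ (D.map l.hom)) (fun u => XD_w D i₀ g₀ u) j₀
    (cX D c i₀ g₀) (pullback.fst g₀ (c.π.app i₀)) (fun l => cX_w D c i₀ g₀ l) (hcX D c hc i₀ g₀)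

instance YD_isAffineHom {l' l : Over i₀} (u : l' ⟶ l) : IsAffineHom ((YD D i₀ g₀ j₀).map u) :=
  gpb_isAffineHom (XD D i₀ g₀) (fun l => pullback.fst g₀ (D.map l.hom))
    (fun u => XD_w D i₀ g₀ u) j₀ u

/-- structure map of stage `l` -/
noncomputable abbrev fX (l : Over i₀) : (XD D i₀ g₀).obj l ⟶ D.obj l.left :=
  pullback.snd g₀ (D.map l.hom)

/-- the immersion at stage `l` -/
noncomputable abbrev iY (l : Over i₀) : (YD D i₀ g₀ j₀).obj l ⟶ (XD D i₀ g₀).obj l :=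
  pullback.snd j₀ (pullback.fst g₀ (D.map l.hom))

/-- structure map of the limit -/
noncomputable abbrev fXinf : (cX D c i₀ g₀).pt ⟶ c.pt := pullback.snd g₀ (c.π.app i₀)

/-- the immersion on the limit -/
noncomputable abbrev iYinf : (cY D c i₀ g₀ j₀).pt ⟶ (cX D c i₀ g₀).pt :=
  pullback.snd j₀ (pullback.fst g₀ (c.π.app i₀))

theorem H1map {l' l : Over i₀} (u : l' ⟶ l) :
    IsPullback ((XD D i₀ g₀).map u) (fX D i₀ g₀ l') (fX D i₀ g₀ l) (D.map u.left) :=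
  isPullback_trans g₀ (D.map l.hom) (D.map u.left) (D.map l'.hom) (SD_w D i₀ u)

theorem H1π (l : Over i₀) :
    IsPullback ((cX D c i₀ g₀).π.app l) (fXinf D c i₀ g₀) (fX D i₀ g₀ l) (c.π.app l.left) :=
  isPullback_trans g₀ (D.map l.hom) (c.π.app l.left) (c.π.app i₀) (c.w l.hom)

theorem H2map {l' l : Over i₀} (u : l' ⟶ l) :
    IsPullback ((YD D i₀ g₀ j₀).map u) (iY D i₀ g₀ j₀ l') (iY D i₀ g₀ j₀ l)
      ((XD D i₀ g₀).map u) :=
  isPullback_trans j₀ (pullback.fst g₀ (D.map l.hom)) ((XD D i₀ g₀).map u)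
    (pullback.fst g₀ (D.map l'.hom)) (XD_w D i₀ g₀ u)

theorem H2π (l : Over i₀) :
    IsPullback ((cY D c i₀ g₀ j₀).π.app l) (iYinf D c i₀ g₀ j₀) (iY D i₀ g₀ j₀ l)
      ((cX D c i₀ g₀).π.app l) :=
  isPullback_trans j₀ (pullback.fst g₀ (D.map l.hom)) ((cX D c i₀ g₀).π.app l)
    (pullback.fst g₀ (c.π.app i₀)) (cX_w D c i₀ g₀ l)

instance YD_compactSpace [CompactSpace Y₀] (l : Over i₀) :
    CompactSpace ((YD D i₀ g₀ j₀).obj l) := by
  change CompactSpace ↥(pullback j₀ (pullback.fst g₀ (D.map l.hom)))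
  have h0 : IsAffineHom (D.map l.hom) := inferInstance
  have h1 : IsAffineHom (pullback.fst g₀ (D.map l.hom)) :=
    MorphismProperty.pullback_fst (P := @IsAffineHom) _ _ h0
  haveI h2 : IsAffineHom (pullback.fst j₀ (pullback.fst g₀ (D.map l.hom))) :=
    MorphismProperty.pullback_fst (P := @IsAffineHom) _ _ h1
  exact QuasiCompact.compactSpace_of_compactSpace
    (pullback.fst j₀ (pullback.fst g₀ (D.map l.hom)))

include hc in
theorem cY_compactSpace [CompactSpace Y₀] : CompactSpace (cY D c i₀ g₀ j₀).pt := by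
  change CompactSpace ↥(pullback j₀ (pullback.fst g₀ (c.π.app i₀)))
  have h0 : IsAffineHom (c.π.app i₀) := isAffineHom_π_app D c hc i₀
  have h1 : IsAffineHom (pullback.fst g₀ (c.π.app i₀)) :=
    MorphismProperty.pullback_fst (P := @IsAffineHom) _ _ h0
  haveI h2 : IsAffineHom (pullback.fst j₀ (pullback.fst g₀ (c.π.app i₀))) :=
    MorphismProperty.pullback_fst (P := @IsAffineHom) _ _ h1
  exact QuasiCompact.compactSpace_of_compactSpace
    (pullback.fst j₀ (pullback.fst g₀ (c.π.app i₀)))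

end Setting


section Core

open Groth.Agent.Helper14.HomLim Groth.Agent.Helper14.LimMod Groth.Agent.Helper14.RegImmLim
  Groth.Agent.Helper7.SecColim

theorem ofList_fg {R : Type u} [CommRing R] (ts : List R) : (Ideal.ofList ts).FG :=
  ⟨(List.finite_toSet ts).toFinset, by rw [Ideal.ofList]; congr 1; ext x; simp⟩

theorem ker_fg {X Z : Scheme.{u}} (i : Z ⟶ X) [LocallyOfFinitePresentation i] (U : X.Opens)
    (hU : IsAffineOpen U) [IsClosedImmersion (i ∣_ U)] : (RingHom.ker (i.app U).hom).FG := by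
  have hUZ : IsAffineOpen (i ⁻¹ᵁ U) := Groth.Agent.Helper28.RegImmStalk.isAffineOpen_preimage i U hU
  have hsurj := Groth.Agent.Helper28.RegImmStalk.app_surjective i U hU
  have hfp : (i.appLE U (i ⁻¹ᵁ U) le_rfl).hom.FinitePresentation :=
    HasRingHomProperty.appLE @LocallyOfFinitePresentation i inferInstance ⟨U, hU⟩ ⟨_, hUZ⟩ le_rfl
  rw [← Scheme.Hom.app_eq_appLE] at hfp
  letI := (i.app U).hom.toAlgebra
  haveI : Algebra.FinitePresentation Γ(X, U) Γ(Z, i ⁻¹ᵁ U) := hfp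
  have := Algebra.FinitePresentation.ker_fG_of_surjective (Algebra.ofId Γ(X, U) Γ(Z, i ⁻¹ᵁ U)) hsurj
  exact this

variable {I : Type u} [SmallCategory I] [IsCofiltered I] (D : I ⥤ Scheme.{u}) (c : Cone D)
  (hc : IsLimit c) [∀ (i j : I) (f : i ⟶ j), IsAffineHom (D.map f)]
  (i₀ : I) {X₀ Y₀ : Scheme.{u}} (g₀ : X₀ ⟶ D.obj i₀) (j₀ : Y₀ ⟶ X₀)
  [LocallyOfFinitePresentation g₀] [LocallyOfFinitePresentation j₀]

include hc in
set_option maxHeartbeats 6400000 in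
/-- **Core descent**: transversally regular data over the preimage (in the limit) of an affine
chart of a stage, with generators from that stage, descend to a later stage. -/
theorem core (k : Over i₀) {Uk : ((XD D i₀ g₀).obj k).Opens} (hUk : IsAffineOpen Uk)
    {Vk : (D.obj k.left).Opens} (hVk : IsAffineOpen Vk) (ek : Uk ≤ fX D i₀ g₀ k ⁻¹ᵁ Vk)
    [IsClosedImmersion (iY D i₀ g₀ j₀ k ∣_ Uk)]
    (rs : List Γ((XD D i₀ g₀).obj k, Uk))
    (einf : (cX D c i₀ g₀).π.app k ⁻¹ᵁ Uk ≤ fXinf D c i₀ g₀ ⁻¹ᵁ (c.π.app k.left ⁻¹ᵁ Vk))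
    (hTR : TRc (fXinf D c i₀ g₀) ((cX D c i₀ g₀).π.app k ⁻¹ᵁ Uk) (c.π.app k.left ⁻¹ᵁ Vk) einf
      (rs.map (((cX D c i₀ g₀).π.app k).appLE Uk ((cX D c i₀ g₀).π.app k ⁻¹ᵁ Uk) le_rfl).hom))
    (hker : RingHom.ker ((iYinf D c i₀ g₀ j₀).app ((cX D c i₀ g₀).π.app k ⁻¹ᵁ Uk)).hom =
      Ideal.ofList
        (rs.map (((cX D c i₀ g₀).π.app k).appLE Uk ((cX D c i₀ g₀).π.app k ⁻¹ᵁ Uk) le_rfl).hom)) :
    ∃ (m : Over i₀) (u : m ⟶ k), ∀ z' : (YD D i₀ g₀ j₀).obj m,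
      iY D i₀ g₀ j₀ m z' ∈ (XD D i₀ g₀).map u ⁻¹ᵁ Uk →
      RegImm.IsTransRegularImmersionAt (fX D i₀ g₀ m) (iY D i₀ g₀ j₀ m) z' := by
  classical
  haveI hDaff : ∀ {i j : I} (f : i ⟶ j), IsAffineHom (D.map f) := fun f => inferInstance
  haveI := isAffineHom_π_app D c hc k.left
  haveI hXaff : ∀ {l' l : Over i₀} (u : l' ⟶ l), IsAffineHom ((XD D i₀ g₀).map u) :=
    fun u => inferInstance
  have hcXs := hcX D c hc i₀ g₀
  -- Step 1: the kernel at stage `k`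
  haveI : LocallyOfFinitePresentation (iY D i₀ g₀ j₀ k) :=
    MorphismProperty.pullback_snd _ _ inferInstance
  haveI : LocallyOfFinitePresentation (fX D i₀ g₀ k) :=
    MorphismProperty.pullback_snd _ _ inferInstance
  have hKfg : (RingHom.ker ((iY D i₀ g₀ j₀ k).app Uk).hom).FG := ker_fg (iY D i₀ g₀ j₀ k) Uk hUk
  have hLfg : (Ideal.ofList rs).FG := ofList_fg rs
  -- Step 2: ideal equality
  have hPaff : IsAffineOpen ((cX D c i₀ g₀).π.app k ⁻¹ᵁ Uk) :=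
    isAffineOpen_preUpt (XD D i₀ g₀) (cX D c i₀ g₀) hcXs k hUk
  obtain ⟨-, hk'⟩ := ker_base_change (iY D i₀ g₀ j₀ k) ((cX D c i₀ g₀).π.app k)
    (iYinf D c i₀ g₀ j₀) ((cY D c i₀ g₀ j₀).π.app k) (H2π D c i₀ g₀ j₀ k) Uk hUk _ hPaff le_rfl
  have hI : (RingHom.ker ((iY D i₀ g₀ j₀ k).app Uk).hom).map
      (((cX D c i₀ g₀).π.app k).appLE Uk (preUpt (XD D i₀ g₀) (cX D c i₀ g₀) k Uk) le_rfl).hom =
      (Ideal.ofList rs).map
      (((cX D c i₀ g₀).π.app k).appLE Uk (preUpt (XD D i₀ g₀) (cX D c i₀ g₀) k Uk) le_rfl).hom := by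
    rw [← hk', hker, Ideal.map_ofList]
  obtain ⟨l₂, hl₂⟩ := exists_stage_map_eq_limit (XD D i₀ g₀) (cX D c i₀ g₀) hcXs k hUk _ _
    hKfg hLfg hI
  -- Step 3: descent of transversal regularity
  have hVinf : IsAffineOpen (c.π.app k.left ⁻¹ᵁ Vk) := hVk.preimage (c.π.app k.left)
  have hP' : (cX D c i₀ g₀).π.app k ⁻¹ᵁ Uk = (cX D c i₀ g₀).π.app k ⁻¹ᵁ Uk ⊓
      fXinf D c i₀ g₀ ⁻¹ᵁ (c.π.app k.left ⁻¹ᵁ Vk) := (inf_eq_left.mpr einf).symm
  have hbc := (chartL_bc_iff (H1π D c i₀ g₀ k) hVk hUk ek hVinf le_rfl rs _ hP').mp hTR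
  letI algVU : Algebra Γ(D.obj k.left, Vk) Γ((XD D i₀ g₀).obj k, Uk) :=
    ((fX D i₀ g₀ k).appLE Vk Uk ek).hom.toAlgebra
  haveI : Algebra.FinitePresentation Γ(D.obj k.left, Vk) Γ((XD D i₀ g₀).obj k, Uk) :=
    HasRingHomProperty.appLE @LocallyOfFinitePresentation (fX D i₀ g₀ k) inferInstance
      ⟨Vk, hVk⟩ ⟨Uk, hUk⟩ ek
  obtain ⟨α, iP, iD, iN, l, mm, hm, hsurj, hkerα⟩ :=
    exists_directed_sections D c hc k.left Vk hVk
  letI algC : Algebra Γ(D.obj k.left, Vk) Γ(c.pt, c.π.app k.left ⁻¹ᵁ Vk) :=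
    ((c.π.app k.left).appLE Vk _ le_rfl).hom.toAlgebra
  letI algG : ∀ a, Algebra Γ(D.obj k.left, Vk) Γ(D.obj (l a).left, D.map (l a).hom ⁻¹ᵁ Vk) :=
    fun a => ((D.map (l a).hom).appLE Vk _ le_rfl).hom.toAlgebra
  let G : α → Type u := fun a => Γ(D.obj (l a).left, D.map (l a).hom ⁻¹ᵁ Vk)
  let fG : ∀ a b, a ≤ b → (G a →ₐ[Γ(D.obj k.left, Vk)] G b) := fun a b hab =>
    { ((D.map (mm a b hab).left).appLE _ _ (preimage_le_map D k.left Vk (mm a b hab))).hom with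
      commutes' := fun r => congr($(appLE_map_comp D k.left Vk (mm a b hab)).hom r) }
  let gG : ∀ a, G a →ₐ[Γ(D.obj k.left, Vk)] Γ(c.pt, c.π.app k.left ⁻¹ᵁ Vk) := fun a =>
    { ((c.π.app (l a).left).appLE _ _ (preimage_le_π D c k.left Vk (l a))).hom with
      commutes' := fun r => congr($(appLE_π_comp D c k.left Vk (l a)).hom r) }
  have hg : ∀ a b (hab : a ≤ b), (gG b).comp (fG a b hab) = gG a := by
    intro a b hab
    ext x
    exact congr($(appLE_map_π D c k.left Vk (mm a b hab)).hom x)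
  obtain ⟨a, ha⟩ := exists_stage G fG Γ(c.pt, c.π.app k.left ⁻¹ᵁ Vk) gG hg hsurj hkerα rs hbc
  -- Step 4: common refinement
  let la : Over k.left := l a
  let m₁ : Over i₀ := Over.mk (la.hom ≫ k.hom)
  let u₁ : m₁ ⟶ k := Over.homMk la.hom rfl
  let l₁ : Over k := Over.mk u₁
  let lm : Over k := IsCofiltered.min l₂ l₁
  let v₂ : lm ⟶ l₂ := IsCofiltered.minToLeft l₂ l₁
  let v₁ : lm ⟶ l₁ := IsCofiltered.minToRight l₂ l₁
  let w : lm.left.left ⟶ la.left := v₁.left.left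
  have hw : w ≫ la.hom = lm.hom.left := by
    have h1 : v₁.left ≫ u₁ = lm.hom := Over.w v₁
    have h2 := congrArg CommaMorphism.left h1
    exact h2
  refine ⟨lm.left, lm.hom, ?_⟩
  have hVm : IsAffineOpen (D.map lm.hom.left ⁻¹ᵁ Vk) := hVk.preimage (D.map lm.hom.left)
  have hUm : IsAffineOpen ((XD D i₀ g₀).map lm.hom ⁻¹ᵁ Uk) := hUk.preimage ((XD D i₀ g₀).map lm.hom)
  have em : (XD D i₀ g₀).map lm.hom ⁻¹ᵁ Uk ≤
      fX D i₀ g₀ lm.left ⁻¹ᵁ (D.map lm.hom.left ⁻¹ᵁ Vk) := by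
    intro x hx
    have h1 : fX D i₀ g₀ k ((XD D i₀ g₀).map lm.hom x) ∈ Vk := ek hx
    have h2 := congrArg (fun t : (XD D i₀ g₀).obj lm.left ⟶ D.obj k.left => t x)
      (H1map D i₀ g₀ lm.hom).w
    simp only [Scheme.Hom.comp_apply] at h2
    change D.map lm.hom.left (fX D i₀ g₀ lm.left x) ∈ Vk
    rw [← h2]
    exact h1
  have hUm' : (XD D i₀ g₀).map lm.hom ⁻¹ᵁ Uk = (XD D i₀ g₀).map lm.hom ⁻¹ᵁ Uk ⊓
      fX D i₀ g₀ lm.left ⁻¹ᵁ (D.map lm.hom.left ⁻¹ᵁ Vk) := (inf_eq_left.mpr em).symm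
  -- transversal regularity at stage `m`
  have hTRm : TRc (fX D i₀ g₀ lm.left) ((XD D i₀ g₀).map lm.hom ⁻¹ᵁ Uk)
      (D.map lm.hom.left ⁻¹ᵁ Vk) em
      (rs.map (((XD D i₀ g₀).map lm.hom).appLE Uk ((XD D i₀ g₀).map lm.hom ⁻¹ᵁ Uk) le_rfl).hom) := by
    refine (chartL_bc_iff (H1map D i₀ g₀ lm.hom) hVk hUk ek hVm le_rfl rs _ hUm').mpr ?_
    letI algT' : Algebra Γ(D.obj k.left, Vk) Γ(D.obj lm.left.left, D.map lm.hom.left ⁻¹ᵁ Vk) :=
      ((D.map lm.hom.left).appLE Vk _ le_rfl).hom.toAlgebra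
    have hle : D.map lm.hom.left ⁻¹ᵁ Vk ≤ D.map w ⁻¹ᵁ (D.map la.hom ⁻¹ᵁ Vk) := by
      rw [← Scheme.Hom.comp_preimage, ← D.map_comp, hw]
    letI algGT' : Algebra (G a) Γ(D.obj lm.left.left, D.map lm.hom.left ⁻¹ᵁ Vk) :=
      ((D.map w).appLE (D.map la.hom ⁻¹ᵁ Vk) (D.map lm.hom.left ⁻¹ᵁ Vk) hle).hom.toAlgebra
    haveI : IsScalarTower Γ(D.obj k.left, Vk) (G a)
        Γ(D.obj lm.left.left, D.map lm.hom.left ⁻¹ᵁ Vk) := by
      refine IsScalarTower.of_algebraMap_eq (fun r => ?_)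
      have h1 : (D.map la.hom).appLE Vk (D.map la.hom ⁻¹ᵁ Vk) le_rfl ≫
          (D.map w).appLE (D.map la.hom ⁻¹ᵁ Vk) (D.map lm.hom.left ⁻¹ᵁ Vk) hle =
          (D.map lm.hom.left).appLE Vk (D.map lm.hom.left ⁻¹ᵁ Vk) le_rfl := by
        rw [Scheme.Hom.appLE_comp_appLE]
        exact appLE_congr_hom' (by rw [← D.map_comp, hw]) _ _
      exact congr($(h1).hom r).symm
    exact TRbc.mono rs ha
  -- the kernel at stage `m`
  obtain ⟨hclm, hkerm⟩ := ker_base_change (iY D i₀ g₀ j₀ k) ((XD D i₀ g₀).map lm.hom)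
    (iY D i₀ g₀ j₀ lm.left) ((YD D i₀ g₀ j₀).map lm.hom) (H2map D i₀ g₀ j₀ lm.hom) Uk hUk _ hUm
    le_rfl
  have hkerm' : RingHom.ker ((iY D i₀ g₀ j₀ lm.left).app ((XD D i₀ g₀).map lm.hom ⁻¹ᵁ Uk)).hom =
      Ideal.ofList (rs.map
        (((XD D i₀ g₀).map lm.hom).appLE Uk ((XD D i₀ g₀).map lm.hom ⁻¹ᵁ Uk) le_rfl).hom) := by
    rw [hkerm, ← Ideal.map_ofList]
    exact hl₂ lm v₂
  intro z' hz'
  exact ⟨⟨_, hUm⟩, ⟨_, hVm⟩, em, hz', hclm, _, hTRm, hkerm'⟩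

end Core

end Groth.Agent.Helper14.TRLim
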