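import Mathlib
import Groth.Prelude.Def_RegImm
import Groth.Agent.Lib.Helper14.TRLim10

/-!
# Transversally regular immersions over a cofiltered limit: pointwise descent (helper14)
-/

set_option autoImplicit false
set_option linter.style.haveILetI false
set_option linter.unusedSectionVars false
set_option linter.unusedVariables false

universe u

open CategoryTheory AlgebraicGeometry Limits Opposite TopologicalSpace TensorProduct Function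

namespace Groth.Agent.Helper14.TRLim

theorem id_appLE' {X : Scheme.{u}} (U P : X.Opens) (e : P ≤ (𝟙 X) ⁻¹ᵁ U) :
    (𝟙 X : X ⟶ X).appLE U P e = X.presheaf.map (homOfLE (show P ≤ U from e)).op := by
  simp [Scheme.Hom.appLE]
  exact Category.id_comp _

theorem apply_eq_of_comp_eq {A B C : Scheme.{u}} {f : A ⟶ B} {g : B ⟶ C} {h : A ⟶ C}
    (e : f ≫ g = h) (a : A) : g (f a) = h a := congrArg (fun t : A ⟶ C => t a) e

theorem apply_eq_of_sq {A B B' C : Scheme.{u}} {f : A ⟶ B} {g : B ⟶ C} {f' : A ⟶ B'}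
    {g' : B' ⟶ C} (e : f ≫ g = f' ≫ g') (a : A) : g (f a) = g' (f' a) :=
  congrArg (fun t : A ⟶ C => t a) e

theorem opens_mem_of_eq {X : Scheme.{u}} {W : X.Opens} {a b : X} (h : a = b) (hb : b ∈ W) :
    a ∈ W := h ▸ hb

section Pointwise

open Groth.Agent.Helper14.HomLim Groth.Agent.Helper14.LimMod Groth.Agent.Helper14.RegImmLim
  Groth.Agent.Helper7.SecColim

variable {I : Type u} [SmallCategory I] [IsCofiltered I] (D : I ⥤ Scheme.{u}) (c : Cone D)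
  (hc : IsLimit c) [∀ (i j : I) (f : i ⟶ j), IsAffineHom (D.map f)]
  (i₀ : I) {X₀ Y₀ : Scheme.{u}} (g₀ : X₀ ⟶ D.obj i₀) (j₀ : Y₀ ⟶ X₀)
  [LocallyOfFinitePresentation g₀] [LocallyOfFinitePresentation j₀]

include hc in
/-- `core` with a flexible name for the open of the limit -/
theorem core' (k : Over i₀) {Uk : ((XD D i₀ g₀).obj k).Opens} (hUk : IsAffineOpen Uk)
    {Vk : (D.obj k.left).Opens} (hVk : IsAffineOpen Vk) (ek : Uk ≤ fX D i₀ g₀ k ⁻¹ᵁ Vk)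
    [IsClosedImmersion (iY D i₀ g₀ j₀ k ∣_ Uk)]
    (rs : List Γ((XD D i₀ g₀).obj k, Uk))
    (Q : (cX D c i₀ g₀).pt.Opens) (hQ : Q = (cX D c i₀ g₀).π.app k ⁻¹ᵁ Uk)
    (einf : Q ≤ fXinf D c i₀ g₀ ⁻¹ᵁ (c.π.app k.left ⁻¹ᵁ Vk))
    (hTR : TRc (fXinf D c i₀ g₀) Q (c.π.app k.left ⁻¹ᵁ Vk) einf
      (rs.map (((cX D c i₀ g₀).π.app k).appLE Uk Q hQ.le).hom))
    (hker : RingHom.ker ((iYinf D c i₀ g₀ j₀).app Q).hom =
      Ideal.ofList (rs.map (((cX D c i₀ g₀).π.app k).appLE Uk Q hQ.le).hom)) :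
    ∃ (m : Over i₀) (u : m ⟶ k), ∀ z' : (YD D i₀ g₀ j₀).obj m,
      iY D i₀ g₀ j₀ m z' ∈ (XD D i₀ g₀).map u ⁻¹ᵁ Uk →
      RegImm.IsTransRegularImmersionAt (fX D i₀ g₀ m) (iY D i₀ g₀ j₀ m) z' := by
  subst hQ
  exact core D c hc i₀ g₀ j₀ k hUk hVk ek rs einf hTR hker

variable [IsImmersion j₀]

include hc in
set_option maxHeartbeats 3200000 in
/-- **Pointwise descent.** -/
theorem pointwise (z : (cY D c i₀ g₀ j₀).pt)
    (h : RegImm.IsTransRegularImmersionAt (fXinf D c i₀ g₀) (iYinf D c i₀ g₀ j₀) z) :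
    ∃ m : Over i₀, (cY D c i₀ g₀ j₀).π.app m z ∈
      trLocus (fX D i₀ g₀ m) (iY D i₀ g₀ j₀ m) := by
  classical
  haveI hDaff : ∀ {i j : I} (f : i ⟶ j), IsAffineHom (D.map f) := fun f => inferInstance
  haveI hXaff : ∀ {l' l : Over i₀} (u : l' ⟶ l), IsAffineHom ((XD D i₀ g₀).map u) :=
    fun u => inferInstance
  have hcXs := hcX D c hc i₀ g₀
  obtain ⟨⟨U, hU⟩, ⟨V, hV⟩, e, hxU, hcl, rs, hTR, hker⟩ := h
  change iYinf D c i₀ g₀ j₀ z ∈ U at hxU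
  set x := iYinf D c i₀ g₀ j₀ z with hx
  -- the affine open `W₀` of `X₀`
  have hs₀ : pullback.fst g₀ (c.π.app i₀) x =
      j₀ (pullback.fst j₀ (pullback.fst g₀ (c.π.app i₀)) z) :=
    (apply_eq_of_sq (pullback.condition (f := j₀) (g := pullback.fst g₀ (c.π.app i₀))) z).symm
  have hcob : pullback.fst g₀ (c.π.app i₀) x ∈ j₀.coborderRange := by
    rw [hs₀]
    exact subset_coborder ⟨_, rfl⟩
  obtain ⟨_, ⟨W₀, hW₀, rfl⟩, hxW₀, hW₀le⟩ :=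
    X₀.isBasis_affineOpens.exists_subset_of_mem_open hcob j₀.coborderRange.isOpen
  haveI hcl₀ : IsClosedImmersion (j₀ ∣_ W₀) :=
    Groth.Agent.Helper28.RegImmReg.isClosedImmersion_restrict_of_le j₀ W₀ hW₀le
  -- a stage chart inside `U`
  obtain ⟨_, ⟨k₁, U₁, hU₁, rfl⟩, hxU₁, hU₁le⟩ := Opens.isBasis_iff_nbhd.mp
    (isBasis_preimage_isAffineOpen (XD D i₀ g₀) (cX D c i₀ g₀) hcXs) hxU
  obtain ⟨_, ⟨V₁, hV₁, rfl⟩, hxV₁, -⟩ :=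
    (D.obj k₁.left).isBasis_affineOpens.exists_subset_of_mem_open
      (Set.mem_univ (fX D i₀ g₀ k₁ ((cX D c i₀ g₀).π.app k₁ x))) isOpen_univ
  have hx₁W₀ : pullback.fst g₀ (D.map k₁.hom) ((cX D c i₀ g₀).π.app k₁ x) ∈ W₀ :=
    opens_mem_of_eq (apply_eq_of_comp_eq (cX_w D c i₀ g₀ k₁) x) hxW₀
  obtain ⟨_, ⟨U₁', hU₁', rfl⟩, hxU₁', hU₁'le⟩ :=
    ((XD D i₀ g₀).obj k₁).isBasis_affineOpens.exists_subset_of_mem_open
      (show (cX D c i₀ g₀).π.app k₁ x ∈ (U₁ ⊓ fX D i₀ g₀ k₁ ⁻¹ᵁ V₁ ⊓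
        pullback.fst g₀ (D.map k₁.hom) ⁻¹ᵁ W₀ : ((XD D i₀ g₀).obj k₁).Opens) from
        ⟨⟨hxU₁, hxV₁⟩, hx₁W₀⟩)
      (U₁ ⊓ fX D i₀ g₀ k₁ ⁻¹ᵁ V₁ ⊓ pullback.fst g₀ (D.map k₁.hom) ⁻¹ᵁ W₀).isOpen
  -- the open `P` of the limit
  have hPaff : IsAffineOpen (preUpt (XD D i₀ g₀) (cX D c i₀ g₀) k₁ U₁') :=
    isAffineOpen_preUpt (XD D i₀ g₀) (cX D c i₀ g₀) hcXs k₁ hU₁'
  have hPU : preUpt (XD D i₀ g₀) (cX D c i₀ g₀) k₁ U₁' ≤ U := by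
    intro y hy
    exact hU₁le ((hU₁'le hy).1.1)
  have hxP : x ∈ preUpt (XD D i₀ g₀) (cX D c i₀ g₀) k₁ U₁' := hxU₁'
  -- lift the restricted generators
  obtain ⟨l, rsl, hrsl⟩ := exists_lift_list (XD D i₀ g₀) (cX D c i₀ g₀) hcXs k₁ hU₁'
    (rs.map ((cX D c i₀ g₀).pt.presheaf.map (homOfLE hPU).op).hom)
  -- the stage `k := l.left`
  have hUk : IsAffineOpen (preU (XD D i₀ g₀) k₁ U₁' l) :=
    isAffineOpen_preU (XD D i₀ g₀) k₁ hU₁' l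
  have hVk : IsAffineOpen (D.map l.hom.left ⁻¹ᵁ V₁) := hV₁.preimage (D.map l.hom.left)
  have ek : preU (XD D i₀ g₀) k₁ U₁' l ≤ fX D i₀ g₀ l.left ⁻¹ᵁ (D.map l.hom.left ⁻¹ᵁ V₁) := by
    intro y hy
    have h1 : fX D i₀ g₀ k₁ ((XD D i₀ g₀).map l.hom y) ∈ V₁ := (hU₁'le hy).1.2
    have h2 := congrArg (fun t : (XD D i₀ g₀).obj l.left ⟶ D.obj k₁.left => t y)
      (H1map D i₀ g₀ l.hom).w
    simp only [Scheme.Hom.comp_apply] at h2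
    change D.map l.hom.left (fX D i₀ g₀ l.left y) ∈ V₁
    rw [← h2]
    exact h1
  have hkW₀ : preU (XD D i₀ g₀) k₁ U₁' l ≤ pullback.fst g₀ (D.map l.left.hom) ⁻¹ᵁ W₀ := by
    intro y hy
    have h1 : pullback.fst g₀ (D.map k₁.hom) ((XD D i₀ g₀).map l.hom y) ∈ W₀ := (hU₁'le hy).2
    change pullback.fst g₀ (D.map l.left.hom) y ∈ W₀
    exact opens_mem_of_eq (apply_eq_of_comp_eq (XD_w D i₀ g₀ l.hom) y).symm h1
  obtain ⟨hclk, -⟩ := ker_base_change j₀ (pullback.fst g₀ (D.map l.left.hom))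
    (iY D i₀ g₀ j₀ l.left) (pullback.fst j₀ (pullback.fst g₀ (D.map l.left.hom)))
    (IsPullback.of_hasPullback _ _) W₀ hW₀ (preU (XD D i₀ g₀) k₁ U₁' l) hUk hkW₀
  haveI hclk' : IsClosedImmersion (iY D i₀ g₀ j₀ l.left ∣_ preU (XD D i₀ g₀) k₁ U₁' l) := hclk
  have hQ : preUpt (XD D i₀ g₀) (cX D c i₀ g₀) k₁ U₁' =
      (cX D c i₀ g₀).π.app l.left ⁻¹ᵁ (preU (XD D i₀ g₀) k₁ U₁' l) := by
    change (cX D c i₀ g₀).π.app k₁ ⁻¹ᵁ _ = (cX D c i₀ g₀).π.app l.left ⁻¹ᵁ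
      ((XD D i₀ g₀).map l.hom ⁻¹ᵁ _)
    rw [← Scheme.Hom.comp_preimage, (cX D c i₀ g₀).w]
  have einf : preUpt (XD D i₀ g₀) (cX D c i₀ g₀) k₁ U₁' ≤
      fXinf D c i₀ g₀ ⁻¹ᵁ (c.π.app l.left.left ⁻¹ᵁ (D.map l.hom.left ⁻¹ᵁ V₁)) := by
    intro y hy
    rw [hQ] at hy
    have h1 : fX D i₀ g₀ l.left ((cX D c i₀ g₀).π.app l.left y) ∈ D.map l.hom.left ⁻¹ᵁ V₁ := ek hy
    have h2 := congrArg (fun t : (cX D c i₀ g₀).pt ⟶ D.obj l.left.left => t y)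
      (H1π D c i₀ g₀ l.left).w
    simp only [Scheme.Hom.comp_apply] at h2
    change c.π.app l.left.left (fXinf D c i₀ g₀ y) ∈ D.map l.hom.left ⁻¹ᵁ V₁
    rw [← h2]
    exact h1
  have hVinf : IsAffineOpen (c.π.app l.left.left ⁻¹ᵁ (D.map l.hom.left ⁻¹ᵁ V₁)) := by
    haveI := isAffineHom_π_app D c hc l.left.left
    exact hVk.preimage (c.π.app l.left.left)
  have hTRP := TRc_of_le (fXinf D c i₀ g₀) hU hV e rs hPaff hPU hVinf einf hTR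
  -- the kernel over `P`
  haveI := hcl
  obtain ⟨-, hkerP⟩ := ker_base_change (iYinf D c i₀ g₀ j₀) (𝟙 _) (iYinf D c i₀ g₀ j₀) (𝟙 _)
    (IsPullback.of_horiz_isIso ⟨by simp⟩) U hU _ hPaff hPU
  rw [hker, Ideal.map_ofList, id_appLE'] at hkerP
  rw [← hrsl] at hTRP hkerP
  obtain ⟨m, u, hm⟩ := core' D c hc i₀ g₀ j₀ l.left hUk hVk ek rsl _ hQ einf hTRP hkerP
  refine ⟨m, ?_⟩
  rw [mem_trLocus]
  apply hm
  have h2 : iY D i₀ g₀ j₀ m ((cY D c i₀ g₀ j₀).π.app m z) = (cX D c i₀ g₀).π.app m x :=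
    apply_eq_of_sq (H2π D c i₀ g₀ j₀ m).w z
  have h3 : (XD D i₀ g₀).map u ((cX D c i₀ g₀).π.app m x) = (cX D c i₀ g₀).π.app l.left x :=
    apply_eq_of_comp_eq ((cX D c i₀ g₀).w u) x
  rw [hQ] at hxP
  change (XD D i₀ g₀).map u (iY D i₀ g₀ j₀ m ((cY D c i₀ g₀ j₀).π.app m z)) ∈
    preU (XD D i₀ g₀) k₁ U₁' l
  exact opens_mem_of_eq ((congrArg (fun a => (XD D i₀ g₀).map u a) h2).trans h3) hxP

end Pointwise

end Groth.Agent.Helper14.TRLim
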