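import Mathlib
import Groth.Agent.Lib.Helper14.CnH1E
import Groth.Agent.Lib.Helper14.TRLim11

/-!
# Conormal sheaf of an intersection: common charts (helper14)
-/

set_option autoImplicit false
set_option linter.style.haveILetI false
set_option linter.unusedSectionVars false
set_option linter.unusedVariables false
set_option maxRecDepth 8000
universe u
open CategoryTheory CategoryTheory.Limits AlgebraicGeometry TopologicalSpace Opposite TensorProduct

namespace Groth.Agent.Helper14.CnInt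

open OmegaSh Groth.Agent.Helper18.ConormalImm Groth.Agent.Helper18.CnSeq
  Groth.Agent.Helper18.NrmSeq Groth.Agent.Helper14.CnH1

/-- restricting generators of the ideal of a closed immersion to a smaller affine open. -/
theorem chart_restrict {P Q : Scheme.{u}} (k : P ⟶ Q) [IsClosedImmersion k] {U V : Q.Opens}
    (hU : IsAffineOpen U) (hV : IsAffineOpen V) (hle : V ≤ U) {c : ℕ} (r : Fin c → Γ(Q, U))
    (hker : RingHom.ker (k.app U).hom = Ideal.span (Set.range r)) :
    RingHom.ker (k.app V).hom =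
        Ideal.span (Set.range (fun a => Q.presheaf.map (homOfLE hle).op (r a))) ∧
      (CAlgX.IsH1Regular r →
        CAlgX.IsH1Regular (fun a => Q.presheaf.map (homOfLE hle).op (r a))) := by
  haveI : IsClosedImmersion (k ∣_ U) := IsZariskiLocalAtTarget.restrict ‹_› U
  obtain ⟨-, hker'⟩ := Groth.Agent.Helper14.RegImmLim.ker_base_change k (𝟙 Q) k (𝟙 P)
    (IsPullback.of_horiz_isIso ⟨by simp⟩) U hU V hV hle
  have hid : ((𝟙 Q : Q ⟶ Q).appLE U V hle) = Q.presheaf.map (homOfLE hle).op :=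
    Groth.Agent.Helper14.TRLim.id_appLE' U V hle
  constructor
  · rw [hker', hker, Ideal.map_span, hid]
    congr 1
    ext x
    simp only [Set.mem_image, Set.mem_range]
    constructor
    · rintro ⟨_, ⟨a, rfl⟩, rfl⟩
      exact ⟨a, rfl⟩
    · rintro ⟨a, rfl⟩
      exact ⟨_, ⟨a, rfl⟩, rfl⟩
  · intro hr
    letI alg : Algebra Γ(Q, U) Γ(Q, V) := ((𝟙 Q : Q ⟶ Q).appLE U V hle).hom.toAlgebra
    haveI : Module.Flat Γ(Q, U) Γ(Q, V) := (𝟙 Q : Q ⟶ Q).flat_appLE hU hV hle
    have h1 := Groth.Agent.Helper28.RegBC.h1_of_flat (R := Γ(Q, U)) (R' := Γ(Q, V)) r hr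
    have h2 : (fun a => algebraMap Γ(Q, U) Γ(Q, V) (r a)) =
        (fun a => Q.presheaf.map (homOfLE hle).op (r a)) := by
      funext a
      change ((𝟙 Q : Q ⟶ Q).appLE U V hle) (r a) = _
      rw [hid]
    rw [← h2]
    exact h1

/-- from a list of generators to a family indexed by `Fin` of the length. -/
theorem ofList_eq_span_get {R : Type u} [CommRing R] (l : List R) :
    Ideal.ofList l = Ideal.span (Set.range l.get) := (range_get_eq l).symm

variable {X Y : Scheme.{u}} {r : ℕ} {Xs : Fin r → Scheme.{u}} (j : ∀ l, Xs l ⟶ X)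
  [∀ l, IsClosedImmersion (j l)] (d : Fin r → ℕ)
  (hj : ∀ l, RegImm.IsRegularImmersionOfCodim RegImm.Kind.koszul (d l) (j l))
  (i : Y ⟶ X) [IsClosedImmersion i] (g : ∀ l, Y ⟶ Xs l) (hg : ∀ l, g l ≫ j l = i) (n : ℕ)
  (hi : RegImm.IsRegularImmersionOfCodim RegImm.Kind.koszul n i)

include hj hg hi in
set_option maxHeartbeats 1600000 in
theorem exists_common_chart (y : Y) (W : X.Opens) (hyW : i y ∈ W) :
    ∃ V : X.Opens, IsAffineOpen V ∧ i y ∈ V ∧ V ≤ W ∧
      (∃ ρ : Fin n → Γ(X, V), CAlgX.IsH1Regular ρ ∧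
        RingHom.ker (i.app V).hom = Ideal.span (Set.range ρ)) ∧
      ∀ l, ∃ ρl : Fin (d l) → Γ(X, V),
        RingHom.ker ((j l).app V).hom = Ideal.span (Set.range ρl) := by
  obtain ⟨⟨U₀, hU₀⟩, hy₀, -, rs, hlen, hseq, hker⟩ := hi.2 y
  subst hlen
  have hseq1 : CAlgX.IsH1Regular rs.get := Groth.Agent.Helper28.KindMono.h1_of_koszul rs hseq
  have hjy : ∀ l, j l (g l y) = i y := fun l =>
    Groth.Agent.Helper14.TRLim.apply_eq_of_comp_eq (hg l) y
  choose Ul hmem hcl rsl hlenl hseql hkerl using fun l => (hj l).2 (g l y)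
  have hopen : IsOpen (⋂ l, ((Ul l).1 : Set X)) :=
    isOpen_iInter_of_finite fun l => (Ul l).1.2
  let W' : X.Opens := W ⊓ U₀ ⊓ ⟨_, hopen⟩
  have hyW' : i y ∈ W' := by
    refine ⟨⟨hyW, hy₀⟩, ?_⟩
    change i y ∈ ⋂ l, ((Ul l).1 : Set X)
    rw [Set.mem_iInter]
    intro l
    rw [← hjy l]
    exact hmem l
  obtain ⟨_, ⟨V, hV, rfl⟩, hyV, hVle⟩ :=
    X.isBasis_affineOpens.exists_subset_of_mem_open hyW' W'.2
  have hVW : V ≤ W := fun x hx => (hVle hx).1.1
  have hVU₀ : V ≤ U₀ := fun x hx => (hVle hx).1.2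
  have hVUl : ∀ l, V ≤ (Ul l).1 := fun l x hx => by
    have h := (hVle hx).2
    change x ∈ ⋂ l, ((Ul l).1 : Set X) at h
    rw [Set.mem_iInter] at h
    exact h l
  refine ⟨V, hV, hyV, hVW, ?_, ?_⟩
  · have hker' : RingHom.ker (i.app U₀).hom = Ideal.span (Set.range rs.get) := by
      rw [hker, ofList_eq_span_get]
    obtain ⟨h1, h2⟩ := chart_restrict i hU₀ hV hVU₀ rs.get hker'
    exact ⟨_, h2 hseq1, h1⟩
  · intro l
    have hlen' := hlenl l
    have hker' : RingHom.ker ((j l).app (Ul l).1).hom =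
        Ideal.span (Set.range (fun a : Fin (d l) => (rsl l).get (Fin.cast hlen'.symm a))) := by
      rw [hkerl l, ofList_eq_span_get]
      congr 1
      ext x
      simp only [Set.mem_range]
      constructor
      · rintro ⟨a, rfl⟩
        exact ⟨Fin.cast hlen' a, by simp⟩
      · rintro ⟨a, rfl⟩
        exact ⟨_, rfl⟩
    obtain ⟨h1, -⟩ := chart_restrict (j l) (Ul l).2 hV (hVUl l) _ hker'
    exact ⟨_, h1⟩

end Groth.Agent.Helper14.CnInt
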