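import Mathlib
import Groth.Agent.Lib.Helper14.CnInt1

/-!
# Conormal sheaf of an intersection: general lemmas (helper14)
-/

set_option autoImplicit false
set_option linter.style.haveILetI false
set_option linter.unusedSectionVars false
set_option linter.unusedVariables false
set_option maxRecDepth 8000
universe u
open CategoryTheory CategoryTheory.Limits AlgebraicGeometry TopologicalSpace Opposite TensorProduct

namespace Groth.Agent.Helper14.CnInt

open OmegaSh Groth.Agent.Helper18.ConormalImm Groth.Agent.Helper18.CnSeq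
  Groth.Agent.Helper18.NrmSeq Groth.Agent.Helper14.CnH1

/-- projections of a finite coproduct in a preadditive category. -/
theorem sigma_decomp {C : Type*} [Category C] [Preadditive C] {r : ℕ} (M : Fin r → C)
    [HasCoproduct M] :
    ∃ p : ∀ l, ∐ M ⟶ M l, ∑ l, p l ≫ Sigma.ι M l = 𝟙 (∐ M) := by
  classical
  refine ⟨fun l => Sigma.desc (fun k => if h : k = l then eqToHom (congrArg M h) else 0), ?_⟩
  apply Sigma.hom_ext
  intro k
  rw [Preadditive.comp_sum, Category.comp_id]
  rw [Finset.sum_eq_single k]
  · rw [← Category.assoc, Sigma.ι_desc]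
    simp
  · intro l _ hlk
    rw [← Category.assoc, Sigma.ι_desc]
    rw [dif_neg (fun h => hlk h.symm), zero_comp]
  · intro h
    exact absurd (Finset.mem_univ k) h

theorem sum_app {Y : Scheme.{u}} {M N : Y.Modules} {ι : Type*} (s : Finset ι) (f : ι → (M ⟶ N))
    (U : Y.Opens) (x : Γ(M, U)) :
    (∑ l ∈ s, f l).app U x = ∑ l ∈ s, (f l).app U x := by
  classical
  induction s using Finset.induction_on with
  | empty =>
    simp only [Finset.sum_empty]
    rfl
  | insert a s ha ih =>
    rw [Finset.sum_insert ha, Finset.sum_insert ha, ← ih]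
    rfl

variable {P Q : Scheme.{u}} (k : P ⟶ Q) [IsImmersion k] [QuasiCompact k]

/-- classes of generators of the ideal span the conormal sections over a chart. -/
theorem span_conormalSect {V : Q.Opens} (hV : IsAffineOpen V) (hle : V ≤ k.coborderRange)
    {ι : Type*} [Fintype ι] (ρ : ι → Γ(Q, V))
    (hker : RingHom.ker (k.app V).hom = Ideal.span (Set.range ρ))
    (s : ι → Γ(ClSub.idealMod k.ker, V)) (hs : ∀ a, ιlin k V (s a) = ρ a) :
    Submodule.span Γ(P, k ⁻¹ᵁ V) (Set.range (fun a => conormalSect k V (s a))) = ⊤ := by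
  classical
  have hsm : ∀ (a : Γ(Q, V)) (t : Γ(ClSub.idealMod k.ker, V)),
      conormalSect k V (a • t) = (k.app V).hom a • conormalSect k V t :=
    fun a t => OmegaSh.pullSect_smul k _ V a t
  rw [eq_top_iff]
  intro m _
  obtain ⟨t, rfl⟩ := exists_conormalSect_eq k hV hle m
  have ht : ιlin k V t ∈ RingHom.ker (k.app V).hom := by
    rw [← map_ιlin_top k hV]
    exact ⟨t, trivial, rfl⟩
  rw [hker] at ht
  obtain ⟨c, hc⟩ := (Ideal.mem_span_range_iff_exists_fun).1 ht
  have h1 : t = ∑ a, c a • s a := by
    apply ιlin_injective k V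
    rw [← hc, map_sum]
    refine Finset.sum_congr rfl fun a _ => ?_
    rw [map_smul, smul_eq_mul, hs]
  rw [h1, map_sum]
  refine Submodule.sum_mem _ fun a _ => ?_
  rw [hsm]
  exact Submodule.smul_mem _ _ (Submodule.subset_span ⟨a, rfl⟩)

set_option maxHeartbeats 1600000 in
/-- on a chart where the ideal is generated by an `H_1`-regular sequence, the classes of the
generators form a basis of the conormal sections. -/
theorem bijective_chart {V : Q.Opens} (hV : IsAffineOpen V) (hle : V ≤ k.coborderRange)
    {c : ℕ} (r : Fin c → Γ(Q, V)) (hr : CAlgX.IsH1Regular r)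
    (hker : RingHom.ker (k.app V).hom = Ideal.span (Set.range r))
    (s : Fin c → Γ(ClSub.idealMod k.ker, V)) (hs : ∀ a, ιlin k V (s a) = r a) :
    Function.Bijective (Fintype.linearCombination Γ(P, k ⁻¹ᵁ V)
      (fun a => conormalSect k V (s a))) := by
  classical
  have hsurj := app_surjective k hV hle
  have hsm : ∀ (a : Γ(Q, V)) (t : Γ(ClSub.idealMod k.ker, V)),
      conormalSect k V (a • t) = (k.app V).hom a • conormalSect k V t :=
    fun a t => OmegaSh.pullSect_smul k _ V a t
  set Φ : (Fin c → Γ(P, k ⁻¹ᵁ V)) →ₗ[Γ(P, k ⁻¹ᵁ V)] Γ(Omega.conormal k, k ⁻¹ᵁ V) :=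
    Fintype.linearCombination Γ(P, k ⁻¹ᵁ V) (fun i => conormalSect k V (s i)) with hΦdef
  have hΦ : ∀ b, Φ b = ∑ i, b i • conormalSect k V (s i) := fun b =>
    Fintype.linearCombination_apply _ _ _
  have hcomb : ∀ a : Fin c → Γ(Q, V),
      conormalSect k V (∑ i, a i • s i) = Φ (fun i => (k.app V).hom (a i)) := by
    intro a
    rw [hΦ, map_sum]
    refine Finset.sum_congr rfl fun i _ => ?_
    rw [hsm]
  constructor
  · rw [injective_iff_map_eq_zero]
    intro b hb
    choose a ha using fun i => hsurj (b i)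
    have hb' : b = fun i => (k.app V).hom (a i) := funext fun i => (ha i).symm
    rw [hb', ← hcomb] at hb
    have h1 := ιlin_mem_sq k hV hle _ hb
    rw [map_sum, hker] at h1
    have h2 : ∑ i, a i * r i ∈ Ideal.span (Set.range r) ^ 2 := by
      refine mem_of_eq' _ ?_ h1
      refine Finset.sum_congr rfl fun i _ => ?_
      rw [map_smul, smul_eq_mul, hs]
    funext i
    have h3 := coeff_mem_of_sum_mem_sq hr a h2 i
    rw [← hker] at h3
    rw [hb']
    exact h3
  · intro m
    have hspan := span_conormalSect k hV hle r hker s hs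
    have hm : m ∈ Submodule.span Γ(P, k ⁻¹ᵁ V)
        (Set.range (fun a => conormalSect k V (s a))) := by
      rw [hspan]; trivial
    obtain ⟨b, hb⟩ := (Submodule.mem_span_range_iff_exists_fun _).1 hm
    exact ⟨b, (hΦ b).trans hb⟩

end Groth.Agent.Helper14.CnInt
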