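import Mathlib
import Groth.Agent.Lib.Helper14.CnInt2
import Groth.Agent.Lib.Helper18.RecPull

/-!
# Conormal sheaf of an intersection: the chart computation (helper14)
-/

set_option autoImplicit false
set_option linter.style.haveILetI false
set_option linter.unusedSectionVars false
set_option linter.unusedVariables false
set_option maxRecDepth 8000
universe u
open CategoryTheory CategoryTheory.Limits AlgebraicGeometry TopologicalSpace Opposite TensorProduct

namespace Groth.Agent.Helper14.CnInt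

open OmegaSh Groth.Agent.Helper18.ConormalImm Groth.Agent.Helper18.CnSeq
  Groth.Agent.Helper18.NrmSeq Groth.Agent.Helper14.CnH1 Groth.Agent.Helper18.Rec

theorem le_coborderRange' {P Q : Scheme.{u}} (k : P ⟶ Q) [IsClosedImmersion k] (V : Q.Opens) :
    V ≤ k.coborderRange := by
  intro y _
  change y ∈ coborder (Set.range k)
  rw [k.isClosedEmbedding.isClosed_range.coborder_eq]
  trivial

section K1

variable {X Y X' : Scheme.{u}} (i : Y ⟶ X) (j : X' ⟶ X) (g : Y ⟶ X')
  (a : (Scheme.Modules.pullback g).obj (Omega.conormal j) ⟶ Omega.conormal i)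
  (ha : OmegaSh.IsConormalMap i j (𝟙 X) g a)

include ha in
theorem a_app_pullRes {V : X.Opens} (t : Γ(ClSub.idealMod j.ker, V))
    (s : Γ(ClSub.idealMod i.ker, V)) (hst : idealSect i.ker V s = idealSect j.ker V t)
    (e : i ⁻¹ᵁ V ≤ g ⁻¹ᵁ (j ⁻¹ᵁ V)) :
    a.app (i ⁻¹ᵁ V) (pullRes g (Omega.conormal j) e (conormalSect j V t)) =
      conormalSect i V s := by
  have hid : (𝟙 X : X ⟶ X).app V (idealSect j.ker V t) = idealSect j.ker V t := by
    simp only [Scheme.Hom.id_app]
    rfl
  have h := ha.2 V t s (hst.trans hid.symm) (i ⁻¹ᵁ V) e le_rfl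
  have h2 : (Omega.conormal i).presheaf.map (homOfLE (le_refl (i ⁻¹ᵁ V))).op
      (conormalSect i V s) = conormalSect i V s :=
    congr($((Omega.conormal i).presheaf.map_id _) (conormalSect i V s))
  have h3 : a.app (i ⁻¹ᵁ V) (pullRes g (Omega.conormal j) e (conormalSect j V t)) =
      (Omega.conormal i).presheaf.map (homOfLE e).op
        (a.app (g ⁻¹ᵁ (j ⁻¹ᵁ V)) (pullSect g (Omega.conormal j) (j ⁻¹ᵁ V) (conormalSect j V t))) :=
    congr($(a.mapPresheaf.naturality (homOfLE e).op)
      (pullSect g (Omega.conormal j) (j ⁻¹ᵁ V) (conormalSect j V t)))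
  rw [h3]
  exact h.trans h2

end K1


section Main

variable {X Y : Scheme.{u}} {r : ℕ} {Xs : Fin r → Scheme.{u}} (j : ∀ l, Xs l ⟶ X)
  [∀ l, IsClosedImmersion (j l)] (d : Fin r → ℕ)
  (i : Y ⟶ X) [IsClosedImmersion i] (g : ∀ l, Y ⟶ Xs l)
  (hY : ∀ U : X.affineOpens, i.ker.ideal U = ⨆ l, (j l).ker.ideal U)
  (a : ∀ l, (Scheme.Modules.pullback (g l)).obj (Omega.conormal (j l)) ⟶ Omega.conormal i)
  (ha : ∀ l, OmegaSh.IsConormalMap i (j l) (𝟙 X) (g l) (a l))

include hY ha in
set_option maxHeartbeats 3200000 in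
theorem bijective_sigma_app {V : X.Opens} (hV : IsAffineOpen V)
    (ρ : Fin (∑ l, d l) → Γ(X, V)) (hρ : CAlgX.IsH1Regular ρ)
    (hker : RingHom.ker (i.app V).hom = Ideal.span (Set.range ρ))
    (ρl : ∀ l, Fin (d l) → Γ(X, V))
    (hkerl : ∀ l, RingHom.ker ((j l).app V).hom = Ideal.span (Set.range (ρl l))) :
    Function.Bijective ((Sigma.desc a).app (i ⁻¹ᵁ V)) := by
  classical
  have hle : V ≤ i.coborderRange := le_coborderRange' i V
  have hlel : ∀ l, V ≤ (j l).coborderRange := fun l =>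
    le_coborderRange' (j l) V
  have hT : IsAffineOpen (i ⁻¹ᵁ V) := isAffineOpen_preimage i hV hle
  have hVl : ∀ l, IsAffineOpen ((j l) ⁻¹ᵁ V) := fun l => isAffineOpen_preimage (j l) hV (hlel l)
  have e : ∀ l, i ⁻¹ᵁ V ≤ (g l) ⁻¹ᵁ ((j l) ⁻¹ᵁ V) := by
    intro l y hy
    change j l (g l y) ∈ V
    have h1 : j l (g l y) = i y := by
      have := congrArg (fun t : Y ⟶ X => t y) (ha l).1
      simpa using this
    rw [h1]
    exact hy
  -- the ideals
  have hsup : RingHom.ker (i.app V).hom = ⨆ l, RingHom.ker ((j l).app V).hom := by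
    have h1 := hY ⟨V, hV⟩
    rw [Scheme.Hom.ker_apply] at h1
    rw [h1]
    congr 1
    funext l
    rw [Scheme.Hom.ker_apply]
  have hlei : ∀ l, RingHom.ker ((j l).app V).hom ≤ RingHom.ker (i.app V).hom := by
    intro l
    rw [hsup]
    exact le_iSup (fun l => RingHom.ker ((j l).app V).hom) l
  -- lifts of the generators
  have hm1 : ∀ l (b : Fin (d l)), ρl l b ∈ Submodule.map (ιlin (j l) V) ⊤ := fun l b => by
    rw [map_ιlin_top (j l) hV, hkerl l]
    exact Ideal.subset_span ⟨b, rfl⟩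
  choose tl htl0 htl using hm1
  have hm2 : ∀ l (b : Fin (d l)), ρl l b ∈ Submodule.map (ιlin i V) ⊤ := fun l b => by
    rw [map_ιlin_top i hV]
    apply hlei l
    rw [hkerl l]
    exact Ideal.subset_span ⟨b, rfl⟩
  choose sl hsl0 hsl using hm2
  have hm3 : ∀ b, ρ b ∈ Submodule.map (ιlin i V) ⊤ := fun b => by
    rw [map_ιlin_top i hV, hker]
    exact Ideal.subset_span ⟨b, rfl⟩
  choose s hs0 hs using hm3
  -- the key formula
  have K1 : ∀ l (t : Γ(ClSub.idealMod (j l).ker, V)) (s : Γ(ClSub.idealMod i.ker, V)),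
      ιlin i V s = ιlin (j l) V t →
      (a l).app (i ⁻¹ᵁ V) (pullRes (g l) (Omega.conormal (j l)) (e l) (conormalSect (j l) V t)) =
        conormalSect i V s := fun l t s hst =>
    a_app_pullRes i (j l) (g l) (a l) (ha l) t s hst (e l)
  have hSig : ∀ l (z : Γ((Scheme.Modules.pullback (g l)).obj (Omega.conormal (j l)), i ⁻¹ᵁ V)),
      (Sigma.desc a).app (i ⁻¹ᵁ V) ((Sigma.ι (fun l =>
        (Scheme.Modules.pullback (g l)).obj (Omega.conormal (j l))) l).app (i ⁻¹ᵁ V) z) =
        (a l).app (i ⁻¹ᵁ V) z := by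
    intro l z
    have h1 : Sigma.ι (fun l => (Scheme.Modules.pullback (g l)).obj (Omega.conormal (j l))) l ≫
        Sigma.desc a = a l := Sigma.ι_desc a l
    rw [← h1]
    rfl
  constructor
  · -- injectivity
    rw [← AddMonoidHom.coe_coe, injective_iff_map_eq_zero]
    intro x hx
    obtain ⟨p, hp⟩ := sigma_decomp (fun l =>
      (Scheme.Modules.pullback (g l)).obj (Omega.conormal (j l)))
    have hxdec : x = ∑ l, (Sigma.ι (fun l =>
        (Scheme.Modules.pullback (g l)).obj (Omega.conormal (j l))) l).app (i ⁻¹ᵁ V)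
        ((p l).app (i ⁻¹ᵁ V) x) := by
      have h1 := sum_app Finset.univ (fun l => p l ≫ Sigma.ι (fun l =>
        (Scheme.Modules.pullback (g l)).obj (Omega.conormal (j l))) l) (i ⁻¹ᵁ V) x
      rw [hp] at h1
      exact h1
    -- each component is a combination of pulled back classes
    have hspan : ∀ l, Submodule.span Γ(Y, i ⁻¹ᵁ V) (Set.range (fun b : Fin (d l) =>
        pullRes (g l) (Omega.conormal (j l)) (e l) (conormalSect (j l) V (tl l b)))) = ⊤ := by
      intro l
      haveI := Groth.Agent.Helper14.CnH1.isQuasicoherent_conormal (j l)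
      have h1 := span_conormalSect (j l) hV (hlel l) (ρl l) (hkerl l) (tl l) (htl l)
      have h2 := span_pullRes (g l) (Omega.conormal (j l)) hT (hVl l) (e l) _ h1
      rw [← Set.range_comp] at h2
      exact h2
    have hcoef : ∀ l, ∃ c : Fin (d l) → Γ(Y, i ⁻¹ᵁ V),
        ∑ b, c b • pullRes (g l) (Omega.conormal (j l)) (e l) (conormalSect (j l) V (tl l b)) =
          (p l).app (i ⁻¹ᵁ V) x := by
      intro l
      have hm : (p l).app (i ⁻¹ᵁ V) x ∈ Submodule.span Γ(Y, i ⁻¹ᵁ V) (Set.range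
          (fun b : Fin (d l) =>
            pullRes (g l) (Omega.conormal (j l)) (e l) (conormalSect (j l) V (tl l b)))) := by
        rw [hspan l]; trivial
      exact (Submodule.mem_span_range_iff_exists_fun _).1 hm
    choose c hc using hcoef
    -- the linear combination map of the classes of all generators
    let ρ' : (Σ l, Fin (d l)) → Γ(X, V) := fun q => ρl q.1 q.2
    let s' : (Σ l, Fin (d l)) → Γ(ClSub.idealMod i.ker, V) := fun q => sl q.1 q.2
    have hker' : RingHom.ker (i.app V).hom = Ideal.span (Set.range ρ') := by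
      rw [hsup]
      have h1 : Set.range ρ' = ⋃ l, Set.range (ρl l) := by
        ext z
        simp only [Set.mem_range, Set.mem_iUnion]
        constructor
        · rintro ⟨⟨l, b⟩, rfl⟩
          exact ⟨l, b, rfl⟩
        · rintro ⟨l, b, rfl⟩
          exact ⟨⟨l, b⟩, rfl⟩
      rw [h1, Ideal.span, Submodule.span_iUnion]
      congr 1
      funext l
      exact hkerl l
    have hΨspan := span_conormalSect i hV hle ρ' hker' s' (fun q => hsl q.1 q.2)
    set Ψ : ((Σ l, Fin (d l)) → Γ(Y, i ⁻¹ᵁ V)) →ₗ[Γ(Y, i ⁻¹ᵁ V)] Γ(Omega.conormal i, i ⁻¹ᵁ V) :=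
      Fintype.linearCombination Γ(Y, i ⁻¹ᵁ V) (fun q => conormalSect i V (s' q)) with hΨdef
    have hΨ : ∀ b, Ψ b = ∑ q, b q • conormalSect i V (s' q) := fun b =>
      Fintype.linearCombination_apply _ _ _
    have hΨsurj : Function.Surjective Ψ := by
      intro m
      have hm : m ∈ Submodule.span Γ(Y, i ⁻¹ᵁ V)
          (Set.range (fun q => conormalSect i V (s' q))) := by
        rw [hΨspan]; trivial
      obtain ⟨b, hb⟩ := (Submodule.mem_span_range_iff_exists_fun _).1 hm
      exact ⟨b, (hΨ b).trans hb⟩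
    have hΦbij := bijective_chart i hV hle ρ hρ hker s hs
    let E := LinearEquiv.ofBijective _ hΦbij
    have hcard : Fintype.card (Σ l, Fin (d l)) = ∑ l, d l := by
      rw [Fintype.card_sigma]
      simp
    let eσ : (Σ l, Fin (d l)) ≃ Fin (∑ l, d l) := Fintype.equivFinOfCardEq hcard
    let L := LinearEquiv.funCongrLeft Γ(Y, i ⁻¹ᵁ V) Γ(Y, i ⁻¹ᵁ V) eσ
    let F : (Fin (∑ l, d l) → Γ(Y, i ⁻¹ᵁ V)) →ₗ[Γ(Y, i ⁻¹ᵁ V)]
        (Fin (∑ l, d l) → Γ(Y, i ⁻¹ᵁ V)) :=
      E.symm.toLinearMap ∘ₗ Ψ ∘ₗ L.toLinearMap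
    have hFsurj : Function.Surjective F := by
      intro z
      obtain ⟨b, hb⟩ := hΨsurj (E z)
      refine ⟨L.symm b, ?_⟩
      change E.symm (Ψ (L (L.symm b))) = z
      rw [LinearEquiv.apply_symm_apply, hb, LinearEquiv.symm_apply_apply]
    have hFinj : Function.Injective F :=
      OrzechProperty.injective_of_surjective_endomorphism F hFsurj
    have hΨinj : Function.Injective Ψ := by
      intro b b' hbb
      have h1 : F (L.symm b) = F (L.symm b') := by
        change E.symm (Ψ (L (L.symm b))) = E.symm (Ψ (L (L.symm b')))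
        rw [LinearEquiv.apply_symm_apply, LinearEquiv.apply_symm_apply, hbb]
      exact L.symm.injective (hFinj h1)
    -- compute the image of `x`
    have himg : (Sigma.desc a).app (i ⁻¹ᵁ V) x = Ψ (fun q => c q.1 q.2) := by
      rw [hΨ, hxdec, map_sum, Fintype.sum_sigma]
      refine Finset.sum_congr rfl fun l _ => ?_
      rw [hSig, ← hc l, map_sum]
      refine Finset.sum_congr rfl fun b _ => ?_
      rw [Scheme.Modules.Hom.app_smul, K1 l (tl l b) (sl l b) ((hsl l b).trans (htl l b).symm)]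
    have hzero : (fun q : Σ l, Fin (d l) => c q.1 q.2) = 0 := by
      apply hΨinj
      rw [← himg, map_zero]
      exact hx
    have hc0 : ∀ l b, c l b = 0 := fun l b => congrFun hzero ⟨l, b⟩
    rw [hxdec]
    refine Finset.sum_eq_zero fun l _ => ?_
    rw [← hc l]
    have : ∑ b, c l b • pullRes (g l) (Omega.conormal (j l)) (e l)
        (conormalSect (j l) V (tl l b)) = 0 :=
      Finset.sum_eq_zero fun b _ => by rw [hc0 l b, zero_smul]
    rw [this, map_zero]
  · -- surjectivity
    intro m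
    obtain ⟨s₀, rfl⟩ := exists_conormalSect_eq i hV hle m
    have hmem : ιlin i V s₀ ∈ ⨆ l, RingHom.ker ((j l).app V).hom := by
      rw [← hsup, ← map_ιlin_top i hV]
      exact ⟨s₀, trivial, rfl⟩
    have key : ∀ z ∈ ⨆ l, RingHom.ker ((j l).app V).hom,
        ∃ (w : Γ(∐ fun l => (Scheme.Modules.pullback (g l)).obj (Omega.conormal (j l)), i ⁻¹ᵁ V))
          (s : Γ(ClSub.idealMod i.ker, V)), ιlin i V s = z ∧
            (Sigma.desc a).app (i ⁻¹ᵁ V) w = conormalSect i V s := by
      intro z hz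
      refine Submodule.iSup_induction (fun l => RingHom.ker ((j l).app V).hom)
        (motive := fun z => ∃ (w : Γ(∐ fun l => (Scheme.Modules.pullback (g l)).obj
          (Omega.conormal (j l)), i ⁻¹ᵁ V)) (s : Γ(ClSub.idealMod i.ker, V)), ιlin i V s = z ∧
            (Sigma.desc a).app (i ⁻¹ᵁ V) w = conormalSect i V s) hz ?_ ?_ ?_
      · intro l z hz
        have h1 : z ∈ Submodule.map (ιlin (j l) V) ⊤ := by
          rw [map_ιlin_top (j l) hV]; exact hz
        have h2 : z ∈ Submodule.map (ιlin i V) ⊤ := by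
          rw [map_ιlin_top i hV]; exact hlei l hz
        obtain ⟨t, -, ht⟩ := h1
        obtain ⟨s, -, hs⟩ := h2
        refine ⟨(Sigma.ι (fun l => (Scheme.Modules.pullback (g l)).obj
          (Omega.conormal (j l))) l).app (i ⁻¹ᵁ V)
          (pullRes (g l) (Omega.conormal (j l)) (e l) (conormalSect (j l) V t)), s, hs, ?_⟩
        rw [hSig, K1 l t s (hs.trans ht.symm)]
      · exact ⟨0, 0, map_zero _, by rw [map_zero, map_zero]⟩
      · rintro z z' ⟨w, s, hs, hw⟩ ⟨w', s', hs', hw'⟩
        exact ⟨w + w', s + s', by rw [map_add, hs, hs'], by rw [map_add, map_add, hw, hw']⟩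
    obtain ⟨w, s₁, hs₁, hw⟩ := key _ hmem
    have : s₁ = s₀ := ιlin_injective i V hs₁
    subst this
    exact ⟨w, hw⟩

end Main

end Groth.Agent.Helper14.CnInt
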