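import Mathlib
import Groth.Prelude.Def_Algz
import Groth.Prelude.Def_Found
import Groth.Agent.Lib.Helper14.DeltaZ
import Groth.Agent.Lib.Helper14.DeltaZStalk

/-!
# Coheight is a dimension function on a catenary Noetherian local ring
-/

namespace Groth.Agent.Helper14.DeltaZ
universe u
open TopologicalSpace Algz

/-- a chain of maximal length from its head is saturated and ends at a maximal element. -/
theorem saturated_of_length_eq_coheight {α : Type*} [PartialOrder α] (p : LTSeries α)
    (hlen : (p.length : ℕ∞) = Order.coheight p.head) :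
    (∀ i : Fin p.length, p i.castSucc ⋖ p i.succ) ∧ IsMax p.last := by
  have hi := Order.coheight_eq_index_of_length_eq_head_coheight hlen
  constructor
  · intro i
    refine ⟨p.step i, ?_⟩
    intro z hz1 hz2
    have h1 := Order.coheight_add_one_le hz2
    have h2 := Order.coheight_add_one_le hz1
    have h3 : Order.coheight (p i.succ) + 1 + 1 ≤ Order.coheight (p i.castSucc) :=
      (add_le_add_left h1 1).trans h2
    rw [hi, hi] at h3
    have h4 : (i.succ.rev : ℕ) + 1 + 1 ≤ (i.castSucc.rev : ℕ) := by exact_mod_cast h3
    simp only [Fin.val_rev, Fin.val_succ, Fin.val_castSucc] at h4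
    omega
  · rw [← Order.coheight_eq_zero]
    have := hi (Fin.last p.length)
    rw [Fin.rev_last] at this
    exact_mod_cast this

variable {A : Type u} [CommRing A] [IsNoetherianRing A] [IsLocalRing A]

theorem coheight_lt_top (x : PrimeSpectrum A) : Order.coheight x < ⊤ := by
  have h1 : (Order.coheight x : WithBot ℕ∞) ≤ ringKrullDim A := Order.coheight_le_krullDim x
  have h2 : ringKrullDim A < ⊤ := ringKrullDim_lt_top
  have : (Order.coheight x : WithBot ℕ∞) < ((⊤ : ℕ∞) : WithBot ℕ∞) := lt_of_le_of_lt h1 h2
  exact_mod_cast this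

omit [IsNoetherianRing A] in
theorem eq_closedPoint_of_isMax (P : PrimeSpectrum A) (hP : IsMax P) :
    P = IsLocalRing.closedPoint A := by
  have h1 : P ≤ IsLocalRing.closedPoint A := IsLocalRing.le_maximalIdeal P.isPrime.ne_top
  exact le_antisymm h1 (hP h1)

/-- in a catenary Noetherian local ring, the coheight drops by one along covering relations. -/
theorem coheight_covBy (hA : CAlg.IsCatenary A) (x y : PrimeSpectrum A) (h : x ⋖ y) :
    Order.coheight x = Order.coheight y + 1 := by
  obtain ⟨n, hn⟩ := ENat.ne_top_iff_exists.mp (coheight_lt_top y).ne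
  obtain ⟨n', hn'⟩ := ENat.ne_top_iff_exists.mp (coheight_lt_top x).ne
  obtain ⟨p, hp, hpl⟩ := Order.exists_series_of_coheight_eq_coe y hn.symm
  obtain ⟨p', hp', hpl'⟩ := Order.exists_series_of_coheight_eq_coe x hn'.symm
  have hs := saturated_of_length_eq_coheight p (by rw [hp, hpl, hn])
  have hs' := saturated_of_length_eq_coheight p' (by rw [hp', hpl', hn'])
  let F : Fin (p.length + 1 + 1) → PrimeSpectrum A :=
    Fin.cons (α := fun _ => PrimeSpectrum A) x p.toFun
  have hF0 : F 0 = x := Fin.cons_zero (α := fun _ => PrimeSpectrum A) _ _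
  have hFs : ∀ j : Fin (p.length + 1), F j.succ = p j :=
    fun j => Fin.cons_succ (α := fun _ => PrimeSpectrum A) _ _ j
  have hF : ∀ i : Fin (p.length + 1), F i.castSucc ⋖ F i.succ := by
    intro i
    refine Fin.cases ?_ (fun j => ?_) i
    · rw [Fin.castSucc_zero, hF0, hFs]
      have : p 0 = y := hp
      rw [this]; exact h
    · rw [← Fin.succ_castSucc, hFs, hFs]; exact hs.1 j
  let q : LTSeries (PrimeSpectrum A) :=
    { length := p.length + 1
      toFun := F
      step := fun i => (hF i).lt }
  have hq : ∀ i : Fin q.length, q i.castSucc ⋖ q i.succ := hF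
  have hlast : p'.last = q.last := by
    have e1 := eq_closedPoint_of_isMax _ hs'.2
    have e2 := eq_closedPoint_of_isMax _ hs.2
    have e3 : q.last = p.last := by
      show F (Fin.last (p.length + 1)) = p (Fin.last p.length)
      rw [← Fin.succ_last, hFs]
    rw [e1, e3, e2]
  have hhead : p'.head = q.head := by
    have : q.head = x := hF0
    rw [hp', this]
  have := hA.2 p' q hhead hlast hs'.1 hq
  have hql : q.length = p.length + 1 := rfl
  rw [← hn, ← hn']
  have : n' = n + 1 := by omega
  rw [this]
  rfl

/-- the dimension function `P ↦ dim A/P` on the spectrum of a catenary Noetherian local ring. -/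
theorem coheight_isDimFun (hA : CAlg.IsCatenary A) :
    ∀ x y : PrimeSpectrum A, x ⤳ y → x ≠ y →
      ((Order.coheight y).toNat : ℤ) < ((Order.coheight x).toNat : ℤ) ∧
      ((∀ z : PrimeSpectrum A, x ⤳ z → z ⤳ y → z = x ∨ z = y) →
        ((Order.coheight x).toNat : ℤ) = ((Order.coheight y).toNat : ℤ) + 1) := by
  intro x y hxy hne
  have hle : x ≤ y := (PrimeSpectrum.le_iff_specializes x y).mpr hxy
  have hlt : x < y := lt_of_le_of_ne hle hne
  obtain ⟨n, hn⟩ := ENat.ne_top_iff_exists.mp (coheight_lt_top y).ne
  obtain ⟨n', hn'⟩ := ENat.ne_top_iff_exists.mp (coheight_lt_top x).ne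
  constructor
  · have := Order.coheight_strictAnti hlt (coheight_lt_top y)
    rw [← hn, ← hn'] at this ⊢
    have : n < n' := by exact_mod_cast this
    simp only [ENat.toNat_natCast]
    exact_mod_cast this
  · intro himm
    have hcov : x ⋖ y := by
      refine ⟨hlt, fun z hz1 hz2 => ?_⟩
      rcases himm z ((PrimeSpectrum.le_iff_specializes x z).mp hz1.le)
        ((PrimeSpectrum.le_iff_specializes z y).mp hz2.le) with e | e
      · exact hz1.ne e.symm
      · exact hz2.ne e
    have := coheight_covBy hA x y hcov
    rw [← hn, ← hn'] at this ⊢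
    have : n' = n + 1 := by exact_mod_cast this
    simp only [ENat.toNat_natCast]
    exact_mod_cast this

end Groth.Agent.Helper14.DeltaZ
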