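import Mathlib
import Groth.Prelude.Def_Algz
import Groth.Agent.Lib.Helper14.DeltaZ

/-!
# `codimPt` along generization-closed embeddings
-/

namespace Groth.Agent.Helper14.DeltaZ
universe u
open TopologicalSpace Algz

variable {Y' Y : Type u} [TopologicalSpace Y'] [TopologicalSpace Y]

/-- an injective inducing map whose range is stable under generization preserves `codimPt`. -/
theorem codimPt_map_eq (f : Y' → Y) (hf : Topology.IsInducing f) (hinj : Function.Injective f)
    (hgen : ∀ (y : Y) (v : Y'), y ⤳ f v → y ∈ Set.range f) (w v : Y') (h : w ⤳ v)
    (h' : f w ⤳ f v) :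
    codimPt (f w) (f v) h' = codimPt w v h := by
  unfold codimPt
  apply le_antisymm
  · have hex : ∀ a : Set.Ici (Specialization.toEquiv (f v)),
        ∃ x : Y', f x = Specialization.ofEquiv a.1 :=
      fun a => hgen _ v (Specialization.toEquiv_le_toEquiv.mp a.2)
    let F : Set.Ici (Specialization.toEquiv (f v)) → Set.Ici (Specialization.toEquiv v) :=
      fun a => ⟨Specialization.toEquiv (hex a).choose, by
        rw [Set.mem_Ici, Specialization.toEquiv_le_toEquiv, ← hf.specializes_iff,
          (hex a).choose_spec]
        exact Specialization.toEquiv_le_toEquiv.mp a.2⟩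
    have hF : ∀ a, f (Specialization.ofEquiv (F a).1) = Specialization.ofEquiv a.1 :=
      fun a => (hex a).choose_spec
    have hmono : StrictMono F := by
      intro a b hab
      rw [lt_iff_le_not_ge] at hab ⊢
      constructor
      · show (F a).1 ≤ (F b).1
        have : Specialization.ofEquiv (F b).1 ⤳ Specialization.ofEquiv (F a).1 := by
          rw [← hf.specializes_iff, hF, hF]
          exact hab.1
        exact this
      · intro hba
        apply hab.2
        have : Specialization.ofEquiv (F a).1 ⤳ Specialization.ofEquiv (F b).1 := hba
        rw [← hf.specializes_iff, hF, hF] at this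
        exact this
    have := Order.height_le_height_apply_of_strictMono F hmono
      ⟨Specialization.toEquiv (f w), Specialization.toEquiv_le_toEquiv.mpr h'⟩
    refine le_trans this (le_of_eq ?_)
    congr 1
    apply Subtype.ext
    have := hF ⟨Specialization.toEquiv (f w), Specialization.toEquiv_le_toEquiv.mpr h'⟩
    exact congrArg Specialization.toEquiv (hinj this)
  · let G : Set.Ici (Specialization.toEquiv v) → Set.Ici (Specialization.toEquiv (f v)) :=
      fun a => ⟨Specialization.toEquiv (f (Specialization.ofEquiv a.1)), by
        rw [Set.mem_Ici, Specialization.toEquiv_le_toEquiv, hf.specializes_iff]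
        exact Specialization.toEquiv_le_toEquiv.mp a.2⟩
    have hmono : StrictMono G := by
      intro a b hab
      rw [lt_iff_le_not_ge] at hab ⊢
      constructor
      · show (G a).1 ≤ (G b).1
        have : f (Specialization.ofEquiv b.1) ⤳ f (Specialization.ofEquiv a.1) := by
          rw [hf.specializes_iff]
          exact hab.1
        exact this
      · intro hba
        apply hab.2
        have : f (Specialization.ofEquiv a.1) ⤳ f (Specialization.ofEquiv b.1) := hba
        rw [hf.specializes_iff] at this
        exact this
    exact Order.height_le_height_apply_of_strictMono G hmono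
      ⟨Specialization.toEquiv w, Specialization.toEquiv_le_toEquiv.mpr h⟩

/-- transport of a system along such a map. -/
theorem deltaZ_map_le (f : Y' → Y) (hf : Topology.IsInducing f) (hinj : Function.Injective f)
    (hgen : ∀ (y : Y) (v : Y'), y ⤳ f v → y ∈ Set.range f) (Z : Set Y) (y' : Y') :
    deltaZ Z (f y') ≤ deltaZ (f ⁻¹' Z) y' := by
  apply le_iInf
  intro k
  apply le_iInf
  intro S'
  let S : DSystem Z (f y') k :=
    { v := fun i => f (S'.v i)
      w := fun i => f (S'.w i)
      spec := fun i => (S'.spec i).map hf.continuous
      spec_succ := fun i => (S'.spec_succ i).map hf.continuous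
      start_mem := S'.start_mem
      last_eq := by rw [S'.last_eq] }
  refine le_trans (deltaZ_le S) (le_of_eq ?_)
  have hc : ∀ j, S.c j = S'.c j := fun j => codimPt_map_eq f hf hinj hgen _ _ (S'.spec j) _
  have hb : ∀ j, S.b j = S'.b j := fun j => codimPt_map_eq f hf hinj hgen _ _ (S'.spec_succ j) _
  unfold DSystem.delta
  simp only [hc, hb]

end Groth.Agent.Helper14.DeltaZ
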