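import Mathlib
import Groth.Prelude.Def_Algz
import Groth.Prelude.Def_Found
import Groth.Agent.Lib.Helper14.CodimPt
import Groth.Agent.Lib.Helper14.DeltaZ
import Groth.Agent.Lib.Helper14.DeltaZStalk
import Groth.Agent.Lib.Helper14.DeltaZMap
import Groth.Agent.Lib.Helper14.DeltaZLocal

/-!
# Finiteness and additivity of `codimPt` on locally Noetherian schemes with catenary local rings
-/

namespace Groth.Agent.Helper14.CodimAdd
universe u
open TopologicalSpace AlgebraicGeometry CategoryTheory Algz
open Groth.Agent.Helper14.DeltaZ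

variable {S : Scheme.{u}} [IsLocallyNoetherian S]

/-- the codimension of a point in the closure of a generization is finite. -/
theorem codimPt_lt_top (w v : S) (h : w ⤳ v) : codimPt w v h < ⊤ := by
  have hw : w ∈ Set.range (S.fromSpecStalk v) := by
    rw [Scheme.range_fromSpecStalk]; exact h
  obtain ⟨P, hP⟩ := hw
  have h1 := codimPt_le_ringKrullDim_stalk S w v h P hP
  have h2 : ringKrullDim (S.presheaf.stalk v ⧸ P.asIdeal) ≤ ringKrullDim (S.presheaf.stalk v) :=
    ringKrullDim_quotient_le _
  have h3 : ringKrullDim (S.presheaf.stalk v) < ⊤ := ringKrullDim_lt_top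
  have h4 : ((codimPt w v h : ℕ∞) : WithBot ℕ∞) < ((⊤ : ℕ∞) : WithBot ℕ∞) :=
    lt_of_le_of_lt (h1.trans h2) h3
  exact_mod_cast h4

/-- additivity of codimensions when the local ring at the smallest point is catenary. -/
theorem codimPt_add (v : S) (hcat : CAlg.IsCatenary (S.presheaf.stalk v)) (w z : S)
    (hwz : w ⤳ z) (hzv : z ⤳ v) :
    codimPt w v (hwz.trans hzv) = codimPt w z hwz + codimPt z v hzv := by
  set f : PrimeSpectrum (S.presheaf.stalk v) → S := fun Q => (S.fromSpecStalk v).base Q with hf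
  have hemb := (S.fromSpecStalk v).isEmbedding
  have hind : Topology.IsInducing f := hemb.isInducing
  have hinj : Function.Injective f := hemb.injective
  have hgen : ∀ (y : S) (Q : PrimeSpectrum (S.presheaf.stalk v)), y ⤳ f Q → y ∈ Set.range f := by
    intro y Q hy
    have h1 : f Q ∈ Set.range (S.fromSpecStalk v) := ⟨Q, rfl⟩
    rw [Scheme.range_fromSpecStalk] at h1
    have h2 : y ∈ Set.range (S.fromSpecStalk v) := by
      rw [Scheme.range_fromSpecStalk]
      exact hy.trans h1
    exact h2
  have hrange : ∀ y : S, y ⤳ v → ∃ Q, f Q = y := by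
    intro y hy
    have : y ∈ Set.range (S.fromSpecStalk v) := by
      rw [Scheme.range_fromSpecStalk]; exact hy
    exact this
  obtain ⟨W, hW⟩ := hrange w (hwz.trans hzv)
  obtain ⟨Z, hZ⟩ := hrange z hzv
  obtain ⟨V, hV⟩ := hrange v specializes_rfl
  have hWZ : W ⤳ Z := by rw [← hind.specializes_iff, hW, hZ]; exact hwz
  have hZV : Z ⤳ V := by rw [← hind.specializes_iff, hZ, hV]; exact hzv
  let δ : PrimeSpectrum (S.presheaf.stalk v) → ℤ := fun p => (((Order.coheight p).toNat : ℕ) : ℤ)
  have hδ := coheight_isDimFun (A := S.presheaf.stalk v) hcat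
  have e1 : codimPt w v (hwz.trans hzv) = codimPt W V (hWZ.trans hZV) := by
    rw [← codimPt_map_eq f hind hinj hgen W V (hWZ.trans hZV)
      (by rw [hW, hV]; exact hwz.trans hzv)]
    exact codimPt_congr hW.symm hV.symm _ _
  have e2 : codimPt w z hwz = codimPt W Z hWZ := by
    rw [← codimPt_map_eq f hind hinj hgen W Z hWZ (by rw [hW, hZ]; exact hwz)]
    exact codimPt_congr hW.symm hZ.symm _ _
  have e3 : codimPt z v hzv = codimPt Z V hZV := by
    rw [← codimPt_map_eq f hind hinj hgen Z V hZV (by rw [hZ, hV]; exact hzv)]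
    exact codimPt_congr hZ.symm hV.symm _ _
  rw [e1, e2, e3, CodimPt.codimPt_eq δ hδ W V, CodimPt.codimPt_eq δ hδ W Z,
    CodimPt.codimPt_eq δ hδ Z V]
  have h1 := CodimPt.delta_le_of_specializes δ hδ W Z hWZ
  have h2 := CodimPt.delta_le_of_specializes δ hδ Z V hZV
  have : (δ W - δ V).toNat = (δ W - δ Z).toNat + (δ Z - δ V).toNat := by omega
  rw [this]
  push_cast
  rfl

end Groth.Agent.Helper14.CodimAdd
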