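import Mathlib
import Groth.Prelude.Def_Algz
import Groth.Agent.Lib.Helper5.ARSys1

set_option autoImplicit false
universe u
open CategoryTheory CategoryTheory.Limits Opposite

namespace Groth.Agent.Helper14.ModLim

variable {A : Type u} [CommRing A]

section Basic

variable {F : ℕᵒᵖ ⥤ ModuleCat.{u} A}

lemma tr_comp_apply {n m k : ℕ} (h₁ : n ≤ m) (h₂ : m ≤ k) (x : F.obj (op k)) :
    (ARSys.tr F h₁).hom ((ARSys.tr F h₂).hom x) = (ARSys.tr F (h₁.trans h₂)).hom x := by
  rw [← Groth.Agent.Helper5.ARS.tr_comp F h₁ h₂]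
  rfl

lemma tr_refl_apply (n : ℕ) (x : F.obj (op n)) : (ARSys.tr F (le_refl n)).hom x = x := by
  rw [Groth.Agent.Helper5.ARS.tr_refl]
  rfl

/-- compatibility along successor maps implies compatibility along all transition maps. -/
lemma tr_apply_of_succ (x : ∀ n, F.obj (op n))
    (hx : ∀ n, (ARSys.tr F (Nat.le_succ n)).hom (x (n + 1)) = x n) {a b : ℕ} (h : b ≤ a) :
    (ARSys.tr F h).hom (x a) = x b := by
  induction a, h using Nat.le_induction with
  | base => exact tr_refl_apply b _
  | succ a hba ih =>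
    rw [← tr_comp_apply hba (Nat.le_succ a), hx a, ih]

lemma π_tr_apply {c : Cone F} {a b : ℕ} (h : b ≤ a) (z : c.pt) :
    (ARSys.tr F h).hom ((c.π.app (op a)).hom z) = (c.π.app (op b)).hom z := by
  have := c.w (homOfLE h).op
  rw [← this]
  rfl

variable {c : Cone F} (hc : IsLimit c)

include hc in
lemma ext_of_forall (z z' : c.pt) (h : ∀ n : ℕ, (c.π.app (op n)).hom z = (c.π.app (op n)).hom z') :
    z = z' :=
  Concrete.isLimit_ext F hc z z' (fun j => h j.unop)

include hc in
/-- elements of the limit from compatible sequences. -/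
lemma exists_of_compatible (x : ∀ n, F.obj (op n))
    (hx : ∀ n, (ARSys.tr F (Nat.le_succ n)).hom (x (n + 1)) = x n) :
    ∃ z : c.pt, ∀ n, (c.π.app (op n)).hom z = x n := by
  let s : (F ⋙ forget (ModuleCat.{u} A)).sections :=
    ⟨fun j => x j.unop, by
      intro j j' f
      obtain ⟨a⟩ := j
      obtain ⟨b⟩ := j'
      have hba : b ≤ a := leOfHom f.unop
      exact tr_apply_of_succ x hx hba⟩
  let e := Types.isLimitEquivSections (isLimitOfPreserves (forget (ModuleCat.{u} A)) hc)
  refine ⟨e.symm s, fun n => ?_⟩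
  exact Types.isLimitEquivSections_symm_apply
    (isLimitOfPreserves (forget (ModuleCat.{u} A)) hc) s (op n)

end Basic

section Range

lemma range_le_of_imageSubobject_le {X Y Z : ModuleCat.{u} A} {f : X ⟶ Z} {g : Y ⟶ Z}
    (h : imageSubobject f ≤ imageSubobject g) : LinearMap.range f.hom ≤ LinearMap.range g.hom := by
  obtain ⟨W, π, hπ, y, hfac⟩ := Groth.Agent.Helper5.ARS.exists_fac_of_imageSubobject_le h
  rintro _ ⟨x, rfl⟩
  have hs : Function.Surjective π.hom := (ModuleCat.epi_iff_surjective π).1 hπ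
  obtain ⟨x', rfl⟩ := hs x
  refine ⟨y.hom x', ?_⟩
  have := congrArg (fun t => t.hom x') hfac
  exact this.symm

lemma range_eq_of_imageSubobject_eq {X Y Z : ModuleCat.{u} A} {f : X ⟶ Z} {g : Y ⟶ Z}
    (h : imageSubobject f = imageSubobject g) : LinearMap.range f.hom = LinearMap.range g.hom :=
  le_antisymm (range_le_of_imageSubobject_le h.le) (range_le_of_imageSubobject_le h.ge)

end Range

section ML

variable {F : ℕᵒᵖ ⥤ ModuleCat.{u} A} {c : Cone F} (hc : IsLimit c)

include hc in
/-- for a Mittag-Leffler system, the limit surjects onto the stable images. -/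
theorem exists_range_tr_le_range_π_of_isML (hF : ARSys.IsML F) (n : ℕ) :
    ∃ (k : ℕ) (hk : n ≤ k), LinearMap.range (ARSys.tr F hk).hom ≤
      LinearMap.range (c.π.app (op n)).hom := by
  choose r hr using hF
  -- stable ranges
  have hst : ∀ (m k : ℕ) (hk : m + r m ≤ k),
      LinearMap.range (ARSys.tr F ((Nat.le_add_right m (r m)).trans hk)).hom =
        LinearMap.range (ARSys.tr F (Nat.le_add_right m (r m))).hom := by
    intro m k hk
    obtain ⟨s, rfl⟩ := Nat.exists_eq_add_of_le ((Nat.le_add_right m (r m)).trans hk)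
    exact range_eq_of_imageSubobject_eq (hr m s (by omega))
  let E : ∀ m, Submodule A (F.obj (op m)) := fun m =>
    LinearMap.range (ARSys.tr F (Nat.le_add_right m (r m))).hom
  have hE : ∀ (m k : ℕ) (hmk : m ≤ k) (_ : m + r m ≤ k) (z : F.obj (op k)),
      (ARSys.tr F hmk).hom z ∈ E m := by
    intro m k hmk hk z
    have := hst m k hk
    have h2 : (ARSys.tr F hmk).hom z ∈
        LinearMap.range (ARSys.tr F ((Nat.le_add_right m (r m)).trans hk)).hom := ⟨z, rfl⟩
    rw [this] at h2
    exact h2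
  have hsurj : ∀ m, ∀ e ∈ E m, ∃ e' ∈ E (m + 1), (ARSys.tr F (Nat.le_succ m)).hom e' = e := by
    intro m e he
    let k := max (m + r m) (m + 1 + r (m + 1))
    have h1 : m + r m ≤ k := le_max_left _ _
    have h2 : m + 1 + r (m + 1) ≤ k := le_max_right _ _
    have hmk : m ≤ k := (Nat.le_add_right m (r m)).trans h1
    have he' : e ∈ LinearMap.range (ARSys.tr F hmk).hom := by
      rw [hst m k h1]; exact he
    obtain ⟨z, rfl⟩ := he'
    have hm1k : m + 1 ≤ k := (Nat.le_add_right (m + 1) (r (m + 1))).trans h2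
    refine ⟨(ARSys.tr F hm1k).hom z, hE (m + 1) k hm1k h2 z, ?_⟩
    exact tr_comp_apply (Nat.le_succ m) hm1k z
  refine ⟨n + r n, Nat.le_add_right n (r n), ?_⟩
  intro e he
  change e ∈ E n at he
  choose! st hst1 hst2 using hsurj
  -- a compatible sequence above `n`
  let y : ∀ j : ℕ, F.obj (op (n + j)) := fun j =>
    Nat.rec (motive := fun j => F.obj (op (n + j))) e (fun j yj => st (n + j) yj) j
  have hy0 : y 0 = e := rfl
  have hys : ∀ j, y (j + 1) = st (n + j) (y j) := fun j => rfl
  have hyE : ∀ j, y j ∈ E (n + j) := by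
    intro j
    induction j with
    | zero => exact he
    | succ j ih => rw [hys]; exact hst1 (n + j) _ ih
  have hyc : ∀ j, (ARSys.tr F (Nat.le_succ (n + j))).hom (y (j + 1)) = y j := by
    intro j
    rw [hys]
    exact hst2 (n + j) _ (hyE j)
  let x : ∀ j : ℕ, F.obj (op j) := fun j => (ARSys.tr F (Nat.le_add_left j n)).hom (y j)
  have hx : ∀ j, (ARSys.tr F (Nat.le_succ j)).hom (x (j + 1)) = x j := by
    intro j
    change (ARSys.tr F (Nat.le_succ j)).hom ((ARSys.tr F (Nat.le_add_left (j + 1) n)).hom (y (j + 1))) =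
      (ARSys.tr F (Nat.le_add_left j n)).hom (y j)
    rw [tr_comp_apply, ← hyc j, tr_comp_apply]
  obtain ⟨z, hz⟩ := exists_of_compatible hc x hx
  refine ⟨z, ?_⟩
  rw [hz n]
  -- `x n = e`
  have key : ∀ j, (ARSys.tr F (Nat.le_add_right n j)).hom (y j) = e := by
    intro j
    induction j with
    | zero => rw [hy0]; exact tr_refl_apply n e
    | succ j ih =>
      rw [← ih, ← hyc j, tr_comp_apply]
  exact key n

end ML

end Groth.Agent.Helper14.ModLim
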