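import Mathlib
import Groth.Agent.Lib.Helper14.CohFormalG
import Groth.Agent.Lib.Helper14.ModLim

set_option autoImplicit false
universe u
open CategoryTheory CategoryTheory.Limits AlgebraicGeometry Opposite TopologicalSpace

namespace Groth.Agent.Helper14.CohFormal

section Abstract

variable {C D : Type*} [Category C] [Category D] [Abelian C] [Abelian D]
  {L : C ⥤ D} {R : D ⥤ C} (adj : L ⊣ R)

include adj in
/-- a left adjoint sends `f` to an epimorphism as soon as it does so for some `t` whose image lies
in the image of `f`. -/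
lemma epi_map_of_comp_cokernel_eq_zero [L.PreservesZeroMorphisms] [R.PreservesZeroMorphisms]
    {X Y Z : C} (f : X ⟶ Y) (t : Z ⟶ Y)
    (ht : t ≫ cokernel.π f = 0) [Epi (L.map t)] : Epi (L.map f) := by
  apply Preadditive.epi_of_cancel_zero
  intro T g hg
  have h1 : f ≫ adj.homEquiv _ _ g = 0 := by
    rw [← Adjunction.homEquiv_naturality_left, hg, Adjunction.homEquiv_unit, Functor.map_zero,
      comp_zero]
  have h2 : adj.homEquiv _ _ g = cokernel.π f ≫ cokernel.desc f _ h1 := (cokernel.π_desc _ _ _).symm
  have h3 : adj.homEquiv _ _ (L.map t ≫ g) = 0 := by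
    rw [Adjunction.homEquiv_naturality_left, h2, ← Category.assoc, ht, zero_comp]
  have h4 : L.map t ≫ g = 0 := by
    apply (adj.homEquiv _ _).injective
    rw [h3, Adjunction.homEquiv_unit, Functor.map_zero, comp_zero]
  exact (cancel_epi (L.map t)).1 (h4.trans comp_zero.symm)

end Abstract

section Sect

variable (A : Type u) [CommRing A] (U : (Spec (CommRingCat.of A)).Opens) [QuasiCompact U.ι]

/-- the composite adjunction `(M ↦ M~|_U) ⊣ (F ↦ Γ(Spec A, j_* F))`. -/
noncomputable abbrev sadj :
    tilde.functor (CommRingCat.of A) ⋙ Scheme.Modules.restrictFunctor U.ι ⊣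
      Scheme.Modules.pushforward U.ι ⋙ moduleSpecΓFunctor (R := CommRingCat.of A) :=
  (tadj A).comp (Scheme.Modules.restrictAdjunction U.ι)

lemma isIso_sadj_counit_app (X : (U : Scheme.{u}).Modules) [X.IsQuasicoherent] :
    IsIso ((sadj A U).counit.app X) := by
  haveI : ((Scheme.Modules.pushforward U.ι).obj X).IsQuasicoherent :=
    Groth.Agent.Helper13.Qcqs.isQuasicoherent_pushforward_of_qcqs U.ι X
  haveI := isIso_counit_app A ((Scheme.Modules.pushforward U.ι).obj X)
  rw [Adjunction.comp_counit_app]
  haveI : IsIso ((Scheme.Modules.restrictAdjunction U.ι).counit.app X) := inferInstance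
  infer_instance

/-- `M~|_U → F` is an epimorphism when `M → H⁰(U, F)` contains the image of `H⁰(U, F') → H⁰(U, F)`
for some epimorphism `F' → F` of quasi-coherent modules. -/
theorem epi_homEquiv_symm_of_range_le {X' X : (U : Scheme.{u}).Modules} [X'.IsQuasicoherent]
    [X.IsQuasicoherent] (g : X' ⟶ X) [Epi g] {M : ModuleCat.{u} A}
    (p : M ⟶ (Scheme.Modules.pushforward U.ι ⋙ moduleSpecΓFunctor (R := CommRingCat.of A)).obj X)
    (h : LinearMap.range
      ((Scheme.Modules.pushforward U.ι ⋙ moduleSpecΓFunctor (R := CommRingCat.of A)).map g).hom ≤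
        LinearMap.range p.hom) :
    Epi (((sadj A U).homEquiv M X).symm p) := by
  haveI : (moduleSpecΓFunctor (R := CommRingCat.of A)).IsRightAdjoint := (tadj A).isRightAdjoint
  haveI := isIso_sadj_counit_app A U X
  haveI := isIso_sadj_counit_app A U X'
  let Lf := tilde.functor (CommRingCat.of A) ⋙ Scheme.Modules.restrictFunctor U.ι
  let Rf := Scheme.Modules.pushforward U.ι ⋙ moduleSpecΓFunctor (R := CommRingCat.of A)
  haveI : Lf.IsLeftAdjoint := (sadj A U).isLeftAdjoint
  haveI : Rf.IsRightAdjoint := (sadj A U).isRightAdjoint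
  -- `Lf (Rf g)` is an epimorphism
  have hnat := (sadj A U).counit.naturality g
  haveI hepi : Epi (Lf.map (Rf.map g)) := by
    have e1 : Lf.map (Rf.map g) =
        ((sadj A U).counit.app X' ≫ g) ≫ inv ((sadj A U).counit.app X) := by
      rw [IsIso.eq_comp_inv]
      exact hnat
    rw [e1]
    infer_instance
  have ht : Rf.map g ≫ cokernel.π p = 0 := by
    ext x
    obtain ⟨y, hy⟩ := h ⟨x, rfl⟩
    change (cokernel.π p).hom ((Rf.map g).hom x) = 0
    rw [← hy]
    have := congrArg (fun t => t.hom y) (cokernel.condition p)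
    exact this
  haveI := epi_map_of_comp_cokernel_eq_zero (sadj A U) p (Rf.map g) ht
  rw [Adjunction.homEquiv_counit]
  infer_instance

end Sect

end Groth.Agent.Helper14.CohFormal
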