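import Mathlib
import Groth.Agent.Lib.Helper14.ModLim

set_option autoImplicit false
universe u
open CategoryTheory CategoryTheory.Limits Opposite

namespace Groth.Agent.Helper14.ModLim

variable {A : Type u} [CommRing A]

section Span

variable {N : Type*} [AddCommGroup N] [Module A N]

/-- elements of `(f₁, …, f_t) • S` are combinations `∑ f_j • δ_j` with `δ_j ∈ S`. -/
lemma exists_sum_of_mem_span_smul {t : ℕ} (f : Fin t → A) (S : Submodule A N) {y : N}
    (hy : y ∈ (Ideal.span (Set.range f)) • S) :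
    ∃ δ : Fin t → N, (∀ j, δ j ∈ S) ∧ y = ∑ j, f j • δ j := by
  refine Submodule.smul_induction_on hy (fun r hr s hs => ?_) (fun x y hx hy => ?_)
  · obtain ⟨c, rfl⟩ := Ideal.mem_span_range_iff_exists_fun.1 hr
    refine ⟨fun j => c j • s, fun j => S.smul_mem _ hs, ?_⟩
    rw [Finset.sum_smul]
    refine Finset.sum_congr rfl (fun j _ => ?_)
    rw [smul_smul, mul_comm]
  · obtain ⟨δ, hδ, rfl⟩ := hx
    obtain ⟨δ', hδ', rfl⟩ := hy
    refine ⟨fun j => δ j + δ' j, fun j => S.add_mem (hδ j) (hδ' j), ?_⟩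
    rw [← Finset.sum_add_distrib]
    refine Finset.sum_congr rfl (fun j _ => ?_)
    rw [smul_add]

end Span

section Adic

variable {F : ℕᵒᵖ ⥤ ModuleCat.{u} A} (I : Ideal A)

/-- the hypotheses on an adic system. -/
structure IsAdicSys (I : Ideal A) (F : ℕᵒᵖ ⥤ ModuleCat.{u} A) : Prop where
  surj : ∀ m, Function.Surjective (ARSys.tr F (Nat.le_succ m)).hom
  ker : ∀ m, LinearMap.ker (ARSys.tr F (Nat.le_succ m)).hom = I ^ (m + 1) • ⊤
  kill : ∀ m, I ^ (m + 1) • (⊤ : Submodule A (F.obj (op m))) = ⊥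

variable {I} (hF : IsAdicSys I F)

include hF in
lemma IsAdicSys.map_smul_top (m k : ℕ) :
    Submodule.map (ARSys.tr F (Nat.le_succ m)).hom (I ^ k • ⊤) = I ^ k • ⊤ := by
  rw [Submodule.map_smul'', Submodule.map_top, LinearMap.range_eq_top.2 (hF.surj m)]

include hF in
lemma IsAdicSys.ker_tr_le {n m : ℕ} (h : n ≤ m) :
    LinearMap.ker (ARSys.tr F h).hom ≤ I ^ (n + 1) • ⊤ := by
  induction m, h using Nat.le_induction with
  | base =>
    intro x hx
    rw [LinearMap.mem_ker, tr_refl_apply] at hx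
    rw [hx]
    exact Submodule.zero_mem _
  | succ m hnm ih =>
    intro x hx
    rw [LinearMap.mem_ker] at hx
    have h1 : (ARSys.tr F (Nat.le_succ m)).hom x ∈ LinearMap.ker (ARSys.tr F hnm).hom := by
      rw [LinearMap.mem_ker, tr_comp_apply]
      exact hx
    have h2 := ih h1
    rw [← hF.map_smul_top m (n + 1)] at h2
    obtain ⟨y, hy, hyx⟩ := h2
    have h3 : x - y ∈ LinearMap.ker (ARSys.tr F (Nat.le_succ m)).hom := by
      rw [LinearMap.mem_ker, map_sub, hyx, sub_self]
    rw [hF.ker m] at h3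
    have h4 : (I ^ (m + 1) • ⊤ : Submodule A (F.obj (op (m + 1)))) ≤ I ^ (n + 1) • ⊤ :=
      Submodule.smul_mono_left (Ideal.pow_le_pow_right (by omega))
    have : x = y + (x - y) := by abel
    rw [this]
    exact Submodule.add_mem _ hy (h4 h3)

include hF in
lemma IsAdicSys.tr_mem_smul_top {a b : ℕ} (h : b ≤ a) (k : ℕ) (x : F.obj (op a))
    (hx : x ∈ (I ^ k • ⊤ : Submodule A (F.obj (op a)))) :
    (ARSys.tr F h).hom x ∈ (I ^ k • ⊤ : Submodule A (F.obj (op b))) := by
  have h1 : (ARSys.tr F h).hom x ∈ Submodule.map (ARSys.tr F h).hom (I ^ k • ⊤) :=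
    Submodule.mem_map_of_mem hx
  rw [Submodule.map_smul''] at h1
  exact Submodule.smul_mono le_rfl le_top h1

variable {c : Cone F} (hc : IsLimit c)

include hF hc in
/-- **the limit of an adic system is adic**: the kernel of `lim F → F_n` is `I^(n+1) • lim F`
when `I` is finitely generated. -/
theorem IsAdicSys.ker_π_le (hI : I.FG) (n : ℕ) :
    LinearMap.ker (c.π.app (op n)).hom ≤ I ^ (n + 1) • ⊤ := by
  classical
  have hJ : (I ^ (n + 1)).FG := Ideal.FG.pow hI
  obtain ⟨t, f, hf⟩ := Submodule.fg_iff_exists_fin_generating_family.1 hJ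
  have hfJ : ∀ j, f j ∈ I ^ (n + 1) := fun j => by
    rw [← hf]; exact Submodule.subset_span ⟨j, rfl⟩
  intro x hx
  rw [LinearMap.mem_ker] at hx
  let xs : ∀ m, F.obj (op m) := fun m => (c.π.app (op m)).hom x
  have hxs : ∀ {a b : ℕ} (h : b ≤ a), (ARSys.tr F h).hom (xs a) = xs b := fun h => π_tr_apply h x
  -- the recursive construction
  let P : ∀ d : ℕ, (Fin t → F.obj (op (n + d))) → Prop := fun d Z => ∑ j, f j • Z j = xs (n + d)
  have hstep : ∀ (d : ℕ) (Z : Fin t → F.obj (op (n + d))), P d Z →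
      ∃ Z' : Fin t → F.obj (op (n + d + 1)), P (d + 1) Z' ∧
        ∀ j, (ARSys.tr F (Nat.le_succ (n + d))).hom (Z' j) - Z j ∈
          (I ^ d • ⊤ : Submodule A (F.obj (op (n + d)))) := by
    intro d Z hZ
    choose z' hz' using fun j => hF.surj (n + d) (Z j)
    let e : F.obj (op (n + d + 1)) := xs (n + d + 1) - ∑ j, f j • z' j
    have he : e ∈ LinearMap.ker (ARSys.tr F (Nat.le_succ (n + d))).hom := by
      rw [LinearMap.mem_ker, map_sub, hxs, map_sum]
      have : ∑ j, (ARSys.tr F (Nat.le_succ (n + d))).hom (f j • z' j) = ∑ j, f j • Z j :=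
        Finset.sum_congr rfl (fun j _ => by rw [map_smul, hz'])
      rw [this, hZ, sub_self]
    rw [hF.ker (n + d)] at he
    have hpow : I ^ (n + d + 1) = Ideal.span (Set.range f) * I ^ d := by
      have : Ideal.span (Set.range f) = I ^ (n + 1) := hf
      rw [this, ← pow_add]
      congr 1
      omega
    rw [hpow, Submodule.mul_smul] at he
    obtain ⟨δ, hδ, hδe⟩ := exists_sum_of_mem_span_smul f _ he
    refine ⟨fun j => z' j + δ j, ?_, fun j => ?_⟩
    · change ∑ j, f j • (z' j + δ j) = xs (n + (d + 1))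
      have : ∑ j, f j • (z' j + δ j) = ∑ j, f j • z' j + ∑ j, f j • δ j := by
        rw [← Finset.sum_add_distrib]
        exact Finset.sum_congr rfl (fun j _ => smul_add _ _ _)
      rw [this, ← hδe]
      change ∑ j, f j • z' j + (xs (n + d + 1) - ∑ j, f j • z' j) = xs (n + d + 1)
      abel
    · rw [map_add, hz', add_sub_cancel_left]
      exact hF.tr_mem_smul_top _ d _ (hδ j)
  choose! st hst1 hst2 using hstep
  let Zs : ∀ d : ℕ, {Z : Fin t → F.obj (op (n + d)) // P d Z} := fun d =>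
    Nat.rec (motive := fun d => {Z : Fin t → F.obj (op (n + d)) // P d Z})
      ⟨fun _ => 0, by
        change ∑ j, f j • (0 : F.obj (op (n + 0))) = xs (n + 0)
        simp only [smul_zero, Finset.sum_const_zero]
        exact hx.symm⟩
      (fun d Z => ⟨st d Z.1, hst1 d Z.1 Z.2⟩) d
  have hZs : ∀ d, (Zs (d + 1)).1 = st d (Zs d).1 := fun d => rfl
  have hQ : ∀ d j, (ARSys.tr F (Nat.le_succ (n + d))).hom ((Zs (d + 1)).1 j) - (Zs d).1 j ∈
      (I ^ d • ⊤ : Submodule A (F.obj (op (n + d)))) := by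
    intro d j
    rw [hZs]
    exact hst2 d (Zs d).1 (Zs d).2 j
  -- the components of the sought elements
  let us : Fin t → ∀ l : ℕ, F.obj (op l) := fun j l =>
    (ARSys.tr F (show l ≤ n + (l + 1) by omega)).hom ((Zs (l + 1)).1 j)
  have hus : ∀ j l, (ARSys.tr F (Nat.le_succ l)).hom (us j (l + 1)) = us j l := by
    intro j l
    change (ARSys.tr F (Nat.le_succ l)).hom
      ((ARSys.tr F (show l + 1 ≤ n + (l + 1 + 1) by omega)).hom ((Zs (l + 1 + 1)).1 j)) =
      (ARSys.tr F (show l ≤ n + (l + 1) by omega)).hom ((Zs (l + 1)).1 j)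
    rw [tr_comp_apply]
    have h1 : (ARSys.tr F ((Nat.le_succ l).trans (show l + 1 ≤ n + (l + 1 + 1) by omega))).hom
        ((Zs (l + 1 + 1)).1 j) =
        (ARSys.tr F (show l ≤ n + (l + 1) by omega)).hom
          ((ARSys.tr F (Nat.le_succ (n + (l + 1)))).hom ((Zs (l + 1 + 1)).1 j)) := by
      rw [tr_comp_apply]
    rw [h1, ← sub_eq_zero, ← map_sub]
    have h2 := hF.tr_mem_smul_top (show l ≤ n + (l + 1) by omega) (l + 1) _ (hQ (l + 1) j)
    rw [hF.kill l] at h2
    exact h2
  have hsum : ∀ l, ∑ j, f j • us j l = xs l := by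
    intro l
    have h1 : ∑ j, f j • us j l =
        (ARSys.tr F (show l ≤ n + (l + 1) by omega)).hom (∑ j, f j • (Zs (l + 1)).1 j) := by
      rw [map_sum]
      exact Finset.sum_congr rfl (fun j _ => (map_smul _ _ _).symm)
    rw [h1, (Zs (l + 1)).2, hxs]
  choose y hy using fun j => exists_of_compatible hc (us j) (hus j)
  have hxy : x = ∑ j, f j • y j := by
    apply ext_of_forall hc
    intro l
    rw [map_sum]
    have : ∑ j, (c.π.app (op l)).hom (f j • y j) = ∑ j, f j • us j l :=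
      Finset.sum_congr rfl (fun j _ => by rw [map_smul, hy j l])
    rw [this, hsum l]
  rw [hxy]
  exact Submodule.sum_mem _ (fun j _ => Submodule.smul_mem_smul (hfJ j) Submodule.mem_top)

end Adic

end Groth.Agent.Helper14.ModLim
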