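import Mathlib
import Groth.Agent.Lib.Helper14.ModLimB

set_option autoImplicit false
universe u
open CategoryTheory CategoryTheory.Limits Opposite

namespace Groth.Agent.Helper14.ModLim

variable {A : Type u} [CommRing A]

section Lift

variable {F : ℕᵒᵖ ⥤ ModuleCat.{u} A} {c : Cone F} (hc : IsLimit c)

lemma comp_tr_of_succ {P : ModuleCat.{u} A} (p : ∀ j, P ⟶ F.obj (op j))
    (hp : ∀ j, p (j + 1) ≫ ARSys.tr F (Nat.le_succ j) = p j) {a b : ℕ} (h : b ≤ a) :
    p a ≫ ARSys.tr F h = p b := by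
  induction a, h using Nat.le_induction with
  | base => rw [Groth.Agent.Helper5.ARS.tr_refl, Category.comp_id]
  | succ a hba ih =>
    rw [← Groth.Agent.Helper5.ARS.tr_comp F hba (Nat.le_succ a), ← Category.assoc, hp a, ih]

include hc in
/-- morphisms into the limit from compatible sequences of morphisms. -/
lemma exists_lift_of_compatible {P : ModuleCat.{u} A} (p : ∀ j, P ⟶ F.obj (op j))
    (hp : ∀ j, p (j + 1) ≫ ARSys.tr F (Nat.le_succ j) = p j) :
    ∃ l : P ⟶ c.pt, ∀ j, l ≫ c.π.app (op j) = p j := by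
  let s : Cone F :=
    { pt := P
      π :=
        { app := fun j => p j.unop
          naturality := by
            intro j j' f
            obtain ⟨a⟩ := j
            obtain ⟨b⟩ := j'
            have hba : b ≤ a := leOfHom f.unop
            change 𝟙 P ≫ p b = p a ≫ ARSys.tr F hba
            rw [Category.id_comp, comp_tr_of_succ p hp hba] } }
  exact ⟨hc.lift s, fun j => hc.fac s (op j)⟩

end Lift

section Pro

variable {X Y : ℕᵒᵖ ⥤ ModuleCat.{u} A}

/-- a pro-isomorphism of systems of modules induces a split monomorphism on limits, compatible with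
the projections. -/
theorem exists_split_of_isProIsomorphic (h : Algz.IsProIsomorphic X Y) {cX : Cone X}
    (hX : IsLimit cX) {cY : Cone Y} (hY : IsLimit cY) :
    ∃ (m : ℕ → ℕ) (α : cX.pt ⟶ cY.pt) (β : cY.pt ⟶ cX.pt), α ≫ β = 𝟙 _ ∧
      ∀ (n : ℕ) (x : cX.pt), (cX.π.app (op (m n))).hom x = 0 →
        (cY.π.app (op n)).hom (α.hom x) = 0 := by
  obtain ⟨m, hm, hle, a, ha⟩ := h
  let ak : ∀ l : ℕ, X.obj (op (m l)) ⟶ Y.obj (op l) := fun l => a.app (op l)
  have hnat : ∀ {l l' : ℕ} (hl : l ≤ l'), ARSys.tr X (hm hl) ≫ ak l = ak l' ≫ ARSys.tr Y hl :=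
    fun hl => a.naturality (homOfLE hl).op
  choose kk hkk b0 hb1 hb2 using ha
  let bk : ∀ j : ℕ, Y.obj (op (kk j)) ⟶ X.obj (op (m j)) := fun j => b0 j
  have hb1' : ∀ j, ak (kk j) ≫ bk j = ARSys.tr X (hm (hkk j)) := fun j => hb1 j
  have hb2' : ∀ j, bk j ≫ ak j = ARSys.tr Y (hkk j) := fun j => hb2 j
  -- α
  obtain ⟨α, hα⟩ := exists_lift_of_compatible hY (fun j => cX.π.app (op (m j)) ≫ ak j) (by
    intro j
    rw [Category.assoc, ← hnat (Nat.le_succ j), ← Category.assoc]
    congr 1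
    exact cX.w (homOfLE (hm (Nat.le_succ j))).op)
  -- the key identity
  have hW : ∀ (j K : ℕ) (hK : kk j ≤ K),
      cY.π.app (op (kk j)) ≫ bk j =
        (cY.π.app (op (kk K)) ≫ bk K) ≫ ARSys.tr X (hm ((hkk j).trans hK)) := by
    intro j K hK
    have e1 : cY.π.app (op (kk j)) = (cY.π.app (op (kk K)) ≫ bk K) ≫ ak K ≫ ARSys.tr Y hK := by
      rw [Category.assoc, ← Category.assoc (bk K), hb2' K, Groth.Agent.Helper5.ARS.tr_comp]
      exact (cY.w (homOfLE (hK.trans (hkk K))).op).symm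
    rw [e1, Category.assoc, Category.assoc, ← hnat hK, Category.assoc, hb1' j,
      Groth.Agent.Helper5.ARS.tr_comp]
    exact (Category.assoc _ _ _).symm
  -- β
  obtain ⟨β, hβ⟩ := exists_lift_of_compatible hX
    (fun j => cY.π.app (op (kk j)) ≫ bk j ≫ ARSys.tr X (hle j)) (by
    intro j
    let K := max (kk j) (kk (j + 1))
    have h1 : kk j ≤ K := le_max_left _ _
    have h2 : kk (j + 1) ≤ K := le_max_right _ _
    have e1 := hW j K h1
    have e2 := hW (j + 1) K h2
    have e1' : ∀ {Z : ModuleCat.{u} A} (g : X.obj (op (m j)) ⟶ Z),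
        cY.π.app (op (kk j)) ≫ bk j ≫ g =
          (cY.π.app (op (kk K)) ≫ bk K) ≫ ARSys.tr X (hm ((hkk j).trans h1)) ≫ g := by
      intro Z g
      rw [← Category.assoc, e1, Category.assoc]
    have e2' : ∀ {Z : ModuleCat.{u} A} (g : X.obj (op (m (j + 1))) ⟶ Z),
        cY.π.app (op (kk (j + 1))) ≫ bk (j + 1) ≫ g =
          (cY.π.app (op (kk K)) ≫ bk K) ≫ ARSys.tr X (hm ((hkk (j + 1)).trans h2)) ≫ g := by
      intro Z g
      rw [← Category.assoc, e2, Category.assoc]
    rw [Category.assoc, Category.assoc, e2', e1', Groth.Agent.Helper5.ARS.tr_comp,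
      Groth.Agent.Helper5.ARS.tr_comp, Groth.Agent.Helper5.ARS.tr_comp])
  refine ⟨m, α, β, ?_, ?_⟩
  · apply hX.hom_ext
    intro j
    obtain ⟨j⟩ := j
    rw [Category.assoc, hβ j, Category.id_comp, ← Category.assoc, hα (kk j), Category.assoc,
      ← Category.assoc (ak (kk j)), hb1' j, Groth.Agent.Helper5.ARS.tr_comp]
    exact cX.w (homOfLE ((hle j).trans (hm (hkk j)))).op
  · intro n x hx
    have := congrArg (fun t => t.hom x) (hα n)
    change (cY.π.app (op n)).hom (α.hom x) = (ak n).hom ((cX.π.app (op (m n))).hom x) at this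
    rw [this, hx, map_zero]

/-- transport of the adic property of the limit topology along a pro-isomorphism. -/
theorem exists_ker_π_le_of_isProIsomorphic (h : Algz.IsProIsomorphic X Y) {cX : Cone X}
    (hX : IsLimit cX) {cY : Cone Y} (hY : IsLimit cY) (J : Ideal A) (n : ℕ)
    (hn : LinearMap.ker (cY.π.app (op n)).hom ≤ J • ⊤) :
    ∃ n' : ℕ, LinearMap.ker (cX.π.app (op n')).hom ≤ J • ⊤ := by
  obtain ⟨m, α, β, hαβ, hα⟩ := exists_split_of_isProIsomorphic h hX hY
  refine ⟨m n, fun x hx => ?_⟩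
  have h1 : α.hom x ∈ (J • ⊤ : Submodule A cY.pt) := hn (hα n x hx)
  have h2 : β.hom (α.hom x) ∈ Submodule.map β.hom (J • ⊤ : Submodule A cY.pt) :=
    Submodule.mem_map_of_mem h1
  rw [Submodule.map_smul''] at h2
  have h3 : β.hom (α.hom x) = x := by
    have := congrArg (fun t => t.hom x) hαβ
    exact this
  rw [h3] at h2
  exact Submodule.smul_mono le_rfl le_top h2

end Pro

end Groth.Agent.Helper14.ModLim
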