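import Mathlib
import Groth.Agent.Lib.Helper14.CohFormalH
import Groth.Agent.Lib.Helper14.ModLimC

set_option autoImplicit false
universe u
open CategoryTheory CategoryTheory.Limits AlgebraicGeometry Opposite TopologicalSpace

namespace Groth.Agent.Helper14.CohFormal

section Affine

variable {A : Type u} [CommRing A]

attribute [local instance] idOver

/-- global sections of a coherent formal module on `Spec A` form an adic system. -/
theorem isAdicSys_Γ {I : Ideal A} {G' : ℕᵒᵖ ⥤ (Spec (CommRingCat.of A)).Modules}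
    (hG' : Formal.IsCohFormal I G') :
    ModLim.IsAdicSys I (G' ⋙ moduleSpecΓFunctor (R := CommRingCat.of A)) := by
  haveI : (moduleSpecΓFunctor (R := CommRingCat.of A)).IsRightAdjoint := (tadj A).isRightAdjoint
  haveI hq : ∀ n : ℕ, (G'.obj (op n)).IsQuasicoherent := fun n => (hG'.1 n).1
  have hΓ := fun n => Γ_of_isCokerOf (isCokerOf_succ hG' n)
  refine ⟨fun m => (hΓ m).1, fun m => (hΓ m).2, fun m => ?_⟩
  rw [eq_bot_iff, Submodule.smul_le]
  intro a ha x _
  rw [Submodule.mem_bot]
  change a • (show (moduleSpecΓFunctor (R := CommRingCat.of A)).obj (G'.obj (op m)) from x) = 0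
  rw [← Γ_smulMod A (G'.obj (op m)) a x, hG'.2.1 m a ha, Functor.map_zero]
  rfl

theorem ker_limit_sectMod_le (I : Ideal A) [IsNoetherianRing A]
    (U : (Spec (CommRingCat.of A)).Opens) (G : ℕᵒᵖ ⥤ (U : Scheme.{u}).Modules)
    (h : Algz.CanonicallyExtends A I U G) (k : ℕ) :
    ∃ n : ℕ, LinearMap.ker (limit.π (Algz.sectMod A U G) (op n)).hom ≤
      I ^ k • (⊤ : Submodule A ↑(limit (Algz.sectMod A U G))) := by
  obtain ⟨G', hG', hpro⟩ := h
  have h2 := isProIsomorphic_map (moduleSpecΓFunctor (R := CommRingCat.of A)) hpro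
  have h3 := isProIsomorphic_of_iso_left (sectSysΓIso A U G) h2
  have hN := isAdicSys_Γ hG'
  have hI : I.FG := (isNoetherianRing_iff_ideal_fg A).1 inferInstance I
  have h4 := hN.ker_π_le (limit.isLimit _) hI k
  have h5 : (I ^ (k + 1) • ⊤ : Submodule A
      ↑(limit (G' ⋙ moduleSpecΓFunctor (R := CommRingCat.of A)))) ≤ I ^ k • ⊤ :=
    Submodule.smul_mono_left (Ideal.pow_le_pow_right (Nat.le_succ k))
  exact ModLim.exists_ker_π_le_of_isProIsomorphic h3 (limit.isLimit _) (limit.isLimit _) (I ^ k) k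
    (h4.trans h5)

end Affine

end Groth.Agent.Helper14.CohFormal
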