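import Mathlib
import Groth.Prelude.Def_Formal2
import Groth.Agent.Lib.Helper14.ModLimC

set_option autoImplicit false
universe u
open CategoryTheory CategoryTheory.Limits Opposite

namespace Groth.Agent.Helper14.ModLim

variable {A : Type u} [CommRing A]

lemma exists_factor_of_ker_le {P Q N : ModuleCat.{u} A} (v : P ⟶ N)
    (hv : Function.Surjective v.hom) (w : P ⟶ Q)
    (h : LinearMap.ker v.hom ≤ LinearMap.ker w.hom) : ∃ χ : N ⟶ Q, v ≫ χ = w := by
  let e := v.hom.quotKerEquivOfSurjective hv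
  let χl : N →ₗ[A] Q := ((LinearMap.ker v.hom).liftQ w.hom h) ∘ₗ e.symm.toLinearMap
  refine ⟨ModuleCat.ofHom χl, ?_⟩
  ext m
  change (LinearMap.ker v.hom).liftQ w.hom h (e.symm (v.hom m)) = w.hom m
  have : e.symm (v.hom m) = Submodule.Quotient.mk m := by
    rw [LinearEquiv.symm_apply_eq]
    rfl
  rw [this]
  rfl

variable (I : Ideal A)

/-- the system `n ↦ M / I^(n+1) M` of an `A`-module. -/
noncomputable def quotSys (M : ModuleCat.{u} A) : ℕᵒᵖ ⥤ ModuleCat.{u} A :=
  Functor.ofOpSequence (X := fun n => ModuleCat.of A (Formal2.quotPow A I M n))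
    (fun n => ModuleCat.ofHom (Formal2.quotPowTrans A I M n))

lemma quotSys_tr_succ (M : ModuleCat.{u} A) (n : ℕ) :
    ARSys.tr (quotSys I M) (Nat.le_succ n) = ModuleCat.ofHom (Formal2.quotPowTrans A I M n) :=
  Functor.ofOpSequence_map_homOfLE_succ _ n

/-- the class of `z` in `M / I^(n+1) M`, as an element of the `n`-th term of `quotSys`. -/
noncomputable def qmk (M : ModuleCat.{u} A) (n : ℕ) : M ⟶ (quotSys I M).obj (op n) :=
  ModuleCat.ofHom (Formal2.quotPowπ A I M n)

lemma qmk_surjective (M : ModuleCat.{u} A) (n : ℕ) : Function.Surjective (qmk I M n).hom :=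
  Submodule.mkQ_surjective _

lemma ker_qmk (M : ModuleCat.{u} A) (n : ℕ) :
    LinearMap.ker (qmk I M n).hom = I ^ (n + 1) • ⊤ :=
  Submodule.ker_mkQ _

lemma quotSys_tr_qmk (M : ModuleCat.{u} A) {a b : ℕ} (h : b ≤ a) (z : M) :
    (ARSys.tr (quotSys I M) h).hom ((qmk I M a).hom z) = (qmk I M b).hom z :=
  tr_apply_of_succ (F := quotSys I M) (fun n => (qmk I M n).hom z) (fun n => by
    rw [quotSys_tr_succ]
    rfl) h

variable {I}

/-- **the limit system is pro-isomorphic to its adic quotients** when the system is Mittag-Leffler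
and the limit topology is the adic one. -/
theorem isProIsomorphic_quotSys {H : ℕᵒᵖ ⥤ ModuleCat.{u} A} {c : Cone H} (hc : IsLimit c)
    (h0 : ∀ n, I ^ (n + 1) • ⊤ ≤ LinearMap.ker (c.π.app (op n)).hom)
    (ha : ARSys.IsML H)
    (hb : ∀ k : ℕ, ∃ n : ℕ, LinearMap.ker (c.π.app (op n)).hom ≤ I ^ k • ⊤) :
    Algz.IsProIsomorphic H (quotSys I c.pt) := by
  have hK : ∀ {a b : ℕ}, b ≤ a →
      LinearMap.ker (c.π.app (op a)).hom ≤ LinearMap.ker (c.π.app (op b)).hom := by
    intro a b hab z hz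
    rw [LinearMap.mem_ker] at hz ⊢
    rw [← π_tr_apply hab z, hz, map_zero]
  choose nb hnb using hb
  let p : ℕ → ℕ := fun n => partialSups (fun n => max (nb (n + 1)) n) n
  have hpm : Monotone p := (partialSups (fun n => max (nb (n + 1)) n)).monotone
  have hp0 : ∀ n, max (nb (n + 1)) n ≤ p n := fun n =>
    le_partialSups (fun n => max (nb (n + 1)) n) n
  have hp1 : ∀ n, n ≤ p n := fun n => (le_max_right _ _).trans (hp0 n)
  have hp2 : ∀ n, LinearMap.ker (c.π.app (op (p n))).hom ≤ I ^ (n + 1) • ⊤ := fun n =>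
    (hK ((le_max_left _ _).trans (hp0 n))).trans (hnb (n + 1))
  choose st hst1 hst2 using exists_range_tr_le_range_π_of_isML hc ha
  let m : ℕ → ℕ := fun n => partialSups (fun n => st (p n)) n
  have hm : Monotone m := (partialSups (fun n => st (p n))).monotone
  have hm0 : ∀ n, st (p n) ≤ m n := fun n => le_partialSups (fun n => st (p n)) n
  have hm1 : ∀ n, p n ≤ m n := fun n => (hst1 (p n)).trans (hm0 n)
  have hmn : ∀ n, n ≤ m n := fun n => (hp1 n).trans (hm1 n)
  have hm2 : ∀ n (x : H.obj (op (m n))), ∃ z : c.pt,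
      (c.π.app (op (p n))).hom z = (ARSys.tr H (hm1 n)).hom x := by
    intro n x
    have h1 : (ARSys.tr H (hm1 n)).hom x ∈ LinearMap.range (ARSys.tr H (hst1 (p n))).hom := by
      refine ⟨(ARSys.tr H (hm0 n)).hom x, ?_⟩
      exact tr_comp_apply (hst1 (p n)) (hm0 n) x
    obtain ⟨z, hz⟩ := hst2 (p n) h1
    exact ⟨z, hz⟩
  -- the components of the pro-isomorphism
  have hex : ∀ n, ∃ σ : H.obj (op (m n)) ⟶ (quotSys I c.pt).obj (op n),
      ∀ (x : H.obj (op (m n))) (z : c.pt),
        (c.π.app (op (p n))).hom z = (ARSys.tr H (hm1 n)).hom x →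
          σ.hom x = (qmk I c.pt n).hom z := by
    intro n
    let E : Submodule A (H.obj (op (p n))) := LinearMap.range (c.π.app (op (p n))).hom
    let ρ : c.pt ⟶ ModuleCat.of A E := ModuleCat.ofHom (c.π.app (op (p n))).hom.rangeRestrict
    have hρs : Function.Surjective ρ.hom := LinearMap.surjective_rangeRestrict _
    have hρk : LinearMap.ker ρ.hom ≤ LinearMap.ker (qmk I c.pt n).hom := by
      rw [ker_qmk]
      intro z hz
      apply hp2 n
      rw [LinearMap.mem_ker] at hz ⊢
      have := congrArg Subtype.val hz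
      exact this
    obtain ⟨ρb, hρb⟩ := exists_factor_of_ker_le ρ hρs (qmk I c.pt n) hρk
    let τ : H.obj (op (m n)) ⟶ ModuleCat.of A E :=
      ModuleCat.ofHom (LinearMap.codRestrict E (ARSys.tr H (hm1 n)).hom (fun x => by
        obtain ⟨z, hz⟩ := hm2 n x
        exact ⟨z, hz⟩))
    refine ⟨τ ≫ ρb, fun x z hz => ?_⟩
    have h1 : τ.hom x = ρ.hom z := Subtype.ext hz.symm
    change ρb.hom (τ.hom x) = _
    rw [h1]
    have := congrArg (fun t => t.hom z) hρb
    exact this
  choose a ha' using hex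
  let α : DerCA.reindex H hm ⟶ quotSys I c.pt :=
    { app := fun j => a j.unop
      naturality := by
        intro j j' f
        obtain ⟨n'⟩ := j
        obtain ⟨n⟩ := j'
        have hnn' : n ≤ n' := leOfHom f.unop
        ext x
        obtain ⟨z', hz'⟩ := hm2 n' x
        change (a n).hom ((ARSys.tr H (hm hnn')).hom x) =
          (ARSys.tr (quotSys I c.pt) hnn').hom ((a n').hom x)
        rw [ha' n' x z' hz', quotSys_tr_qmk]
        apply ha' n _ z'
        rw [tr_comp_apply, ← π_tr_apply (hpm hnn') z', hz', tr_comp_apply] }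
  refine ⟨m, hm, hmn, α, fun n => ?_⟩
  let k := m n
  have hk : n ≤ k := hmn n
  let b : (quotSys I c.pt).obj (op k) ⟶ H.obj (op (m n)) :=
    ModuleCat.ofHom ((I ^ (k + 1) • (⊤ : Submodule A c.pt)).liftQ (c.π.app (op (m n))).hom (h0 (m n)))
  have hbq : ∀ z : c.pt, b.hom ((qmk I c.pt k).hom z) = (c.π.app (op (m n))).hom z := fun z => rfl
  refine ⟨k, hk, b, ?_, ?_⟩
  · ext x
    obtain ⟨z, hz⟩ := hm2 k x
    change b.hom ((a k).hom x) = (ARSys.tr H (hm hk)).hom x
    rw [ha' k x z hz, hbq, ← π_tr_apply (hp1 k) z, hz, tr_comp_apply]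
  · ext y
    obtain ⟨z, rfl⟩ := qmk_surjective I c.pt k y
    change (a n).hom (b.hom ((qmk I c.pt k).hom z)) =
      (ARSys.tr (quotSys I c.pt) hk).hom ((qmk I c.pt k).hom z)
    rw [hbq, quotSys_tr_qmk]
    apply ha' n _ z
    exact (π_tr_apply (hm1 n) z).symm

end Groth.Agent.Helper14.ModLim
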