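import Mathlib
import Groth.Agent.Lib.Helper14.CohFormalI
import Groth.Agent.Lib.Helper14.ModLimD

set_option autoImplicit false
universe u
open CategoryTheory CategoryTheory.Limits AlgebraicGeometry Opposite TopologicalSpace

namespace Groth.Agent.Helper14.CohFormal

section Affine

variable {A : Type u} [CommRing A]

attribute [local instance] idOver

open ModLim in
lemma ker_tr_quotSys (I : Ideal A) (M : ModuleCat.{u} A) (n : ℕ) :
    LinearMap.ker (ARSys.tr (quotSys I M) (Nat.le_succ n)).hom = I ^ (n + 1) • ⊤ := by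
  apply le_antisymm
  · intro x hx
    obtain ⟨z, rfl⟩ := qmk_surjective I M (n + 1) x
    rw [LinearMap.mem_ker, quotSys_tr_qmk] at hx
    have hz : z ∈ (I ^ (n + 1) • ⊤ : Submodule A M) := by
      rw [← ker_qmk I M n]; exact hx
    have h1 : (qmk I M (n + 1)).hom z ∈ Submodule.map (qmk I M (n + 1)).hom (I ^ (n + 1) • ⊤) :=
      Submodule.mem_map_of_mem hz
    rw [Submodule.map_smul''] at h1
    exact Submodule.smul_mono le_rfl le_top h1
  · rw [Submodule.smul_le]
    intro a ha x _
    obtain ⟨z, rfl⟩ := qmk_surjective I M (n + 1) x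
    rw [LinearMap.mem_ker, map_smul, quotSys_tr_qmk, ← map_smul]
    have : a • z ∈ LinearMap.ker (qmk I M n).hom := by
      rw [ker_qmk]
      exact Submodule.smul_mem_smul ha Submodule.mem_top
    exact this

open ModLim in
lemma smul_quotSys_eq_zero (I : Ideal A) (M : ModuleCat.{u} A) (n : ℕ) (a : A)
    (ha : a ∈ I ^ (n + 1)) (y : (quotSys I M).obj (op n)) : a • y = 0 := by
  obtain ⟨z, rfl⟩ := qmk_surjective I M n y
  rw [← map_smul]
  have : a • z ∈ LinearMap.ker (qmk I M n).hom := by
    rw [ker_qmk]
    exact Submodule.smul_mem_smul ha Submodule.mem_top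
  exact this

open ModLim in
lemma tr_quotSys_surjective (I : Ideal A) (M : ModuleCat.{u} A) (n : ℕ) :
    Function.Surjective (ARSys.tr (quotSys I M) (Nat.le_succ n)).hom := by
  intro y
  obtain ⟨z, rfl⟩ := qmk_surjective I M n y
  exact ⟨(qmk I M (n + 1)).hom z, quotSys_tr_qmk I M (Nat.le_succ n) z⟩

lemma homEquiv_symm_comp_unit {P Q : ModuleCat.{u} A} (f : P ⟶ Q) :
    ((tadj A).homEquiv P _).symm (f ≫ (tadj A).unit.app Q) =
      (tilde.functor (CommRingCat.of A)).map f := by
  rw [Adjunction.homEquiv_naturality_left_symm, Adjunction.homEquiv_counit,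
    (tadj A).left_triangle_components, Category.comp_id]

open ModLim in
/-- the system `((M/I^(n+1)M)~)` is a coherent formal module if the quotients are finite. -/
theorem isCohFormal_quotSys_tilde (I : Ideal A) (M : ModuleCat.{u} A)
    (hfin : ∀ n, Module.Finite A ((quotSys I M).obj (op n))) :
    Formal.IsCohFormal I (quotSys I M ⋙ tilde.functor (CommRingCat.of A)) := by
  have hq : ∀ n, ((tilde.functor (CommRingCat.of A)).obj ((quotSys I M).obj (op n))).IsQuasicoherent :=
    fun n => inferInstanceAs (tilde (R := CommRingCat.of A) ((quotSys I M).obj (op n))).IsQuasicoherent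
  have hkill : ∀ n, Formal.KilledBy (I ^ (n + 1))
      ((tilde.functor (CommRingCat.of A)).obj ((quotSys I M).obj (op n))) := fun n a ha =>
    smulMod_tilde_eq_zero a (smul_quotSys_eq_zero I M n a ha)
  refine ⟨fun n => ⟨hq n, ?_⟩, hkill, fun n => ?_⟩
  · haveI := hfin n
    exact Groth.Agent.Helper28.CohOpen.isFiniteType_tilde (R := CommRingCat.of A)
      ((quotSys I M).obj (op n))
  · haveI := hq n
    have hunit : Function.Bijective ((tadj A).unit.app ((quotSys I M).obj (op n))).hom := by
      haveI : IsIso ((tadj A).unit.app ((quotSys I M).obj (op n))) := by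
        change IsIso ((tilde.toTildeΓNatIso (R := CommRingCat.of A)).hom.app _)
        infer_instance
      exact ConcreteCategory.bijective_of_isIso _
    let v := ARSys.tr (quotSys I M) (Nat.le_succ n) ≫ (tadj A).unit.app ((quotSys I M).obj (op n))
    have hv1 : Function.Surjective v.hom := hunit.2.comp (tr_quotSys_surjective I M n)
    have hv2 : LinearMap.ker v.hom = I ^ (n + 1) • ⊤ := by
      rw [← ker_tr_quotSys I M n]
      ext x
      rw [LinearMap.mem_ker, LinearMap.mem_ker]
      change ((tadj A).unit.app _).hom ((ARSys.tr (quotSys I M) (Nat.le_succ n)).hom x) = 0 ↔ _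
      constructor
      · intro h
        exact hunit.1 (h.trans (map_zero _).symm)
      · intro h
        exact (congrArg ((tadj A).unit.app ((quotSys I M).obj (op n))).hom h).trans (map_zero _)
    have h1 := isCokerOf_homEquiv_symm (hkill n) v hv1 hv2
    rw [homEquiv_symm_comp_unit] at h1
    exact exists_isIso_desc_of_isCokerOf h1

open ModLim in
/-- finiteness of the adic quotients of the limit from finiteness of the images. -/
lemma finite_quotSys_of_finite_range {I : Ideal A} {H : ℕᵒᵖ ⥤ ModuleCat.{u} A} {c : Cone H}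
    (hb : ∀ k : ℕ, ∃ n : ℕ, LinearMap.ker (c.π.app (op n)).hom ≤ I ^ k • ⊤)
    (hfin : ∀ n : ℕ, Module.Finite A ↥(LinearMap.range (c.π.app (op n)).hom)) (n : ℕ) :
    Module.Finite A ((quotSys I c.pt).obj (op n)) := by
  obtain ⟨n', hn'⟩ := hb (n + 1)
  let E : Submodule A (H.obj (op n')) := LinearMap.range (c.π.app (op n')).hom
  let ρ : c.pt ⟶ ModuleCat.of A E := ModuleCat.ofHom (c.π.app (op n')).hom.rangeRestrict
  have hρs : Function.Surjective ρ.hom := LinearMap.surjective_rangeRestrict _
  have hρk : LinearMap.ker ρ.hom ≤ LinearMap.ker (qmk I c.pt n).hom := by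
    rw [ker_qmk]
    intro z hz
    apply hn'
    rw [LinearMap.mem_ker] at hz ⊢
    have := congrArg Subtype.val hz
    exact this
  obtain ⟨ρb, hρb⟩ := exists_factor_of_ker_le ρ hρs (qmk I c.pt n) hρk
  have hs : Function.Surjective ρb.hom := by
    intro y
    obtain ⟨z, rfl⟩ := qmk_surjective I c.pt n y
    refine ⟨ρ.hom z, ?_⟩
    have := congrArg (fun t => t.hom z) hρb
    exact this
  haveI : Module.Finite A (ModuleCat.of A E) := hfin n'
  exact Module.Finite.of_surjective ρb.hom hs

end Affine

section Main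

variable {A : Type u} [CommRing A]

attribute [local instance] idOver

open ModLim in
theorem canonicallyExtends_of_isML (I : Ideal A) (U : (Spec (CommRingCat.of A)).Opens)
    [hU : U.toScheme.Over (Spec (CommRingCat.of A))]
    (hc : (U.toScheme ↘ Spec (CommRingCat.of A)) =
      U.ι ≫ (Spec (CommRingCat.of A) ↘ Spec (CommRingCat.of A)))
    (G : ℕᵒᵖ ⥤ (U : Scheme.{u}).Modules)
    (hkill : ∀ n, Formal.KilledBy (I ^ (n + 1)) (G.obj (op n)))
    (ha : ARSys.IsML (Algz.sectMod A U G))
    (hb : ∀ k : ℕ, ∃ n : ℕ, LinearMap.ker (limit.π (Algz.sectMod A U G) (op n)).hom ≤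
      I ^ k • (⊤ : Submodule A ↑(limit (Algz.sectMod A U G))))
    (hfin : ∀ n : ℕ, Module.Finite A
      ↥(LinearMap.range (limit.π (Algz.sectMod A U G) (op n)).hom)) :
    Algz.CanonicallyExtends A I U G := by
  haveI : (moduleSpecΓFunctor (R := CommRingCat.of A)).IsRightAdjoint := (tadj A).isRightAdjoint
  let H := Algz.sectMod A U G
  have hHkill : ∀ (n : ℕ) (a : A), a ∈ I ^ (n + 1) → ∀ x : H.obj (op n), a • x = 0 := by
    intro n a ha x
    have h1 := pushforward_smulMod U.ι hc.symm (G.obj (op n)) a
    rw [hkill n a ha, Functor.map_zero] at h1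
    change a • (show (moduleSpecΓFunctor (R := CommRingCat.of A)).obj
      ((Scheme.Modules.pushforward U.ι).obj (G.obj (op n))) from x) = 0
    rw [← Γ_smulMod A _ a x, ← h1, Functor.map_zero]
    rfl
  have h0 : ∀ n, I ^ (n + 1) • ⊤ ≤ LinearMap.ker ((limit.cone H).π.app (op n)).hom := by
    intro n
    rw [Submodule.smul_le]
    intro a ha z _
    rw [LinearMap.mem_ker, map_smul]
    exact hHkill n a ha _
  have hpro := isProIsomorphic_quotSys (c := limit.cone H) (limit.isLimit H) h0 ha hb
  have hq := finite_quotSys_of_finite_range (c := limit.cone H) hb hfin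
  refine ⟨quotSys I (limit H) ⋙ tilde.functor (CommRingCat.of A),
    isCohFormal_quotSys_tilde I (limit H) hq, ?_⟩
  exact isProIsomorphic_map (tilde.functor (CommRingCat.of A)) hpro

end Main

end Groth.Agent.Helper14.CohFormal
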