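import Mathlib
import Groth.Agent.Lib.Helper14.CohFormalJ
import Groth.Agent.Lib.Helper14.TildeExact
import Groth.Agent.Lib.Helper13.KerSec
import Groth.Agent.Lib.Helper28.CohSub

set_option autoImplicit false
universe u
open CategoryTheory CategoryTheory.Limits AlgebraicGeometry Opposite TopologicalSpace

namespace Groth.Agent.Helper14.CohFormal

section Alg

variable {A : Type u} [CommRing A]

open ModLim in
/-- `M / I^(n+1) M` is a quotient of a submodule of `H_{n'}` when `ker(M → H_{n'}) ≤ I^(n+1) M`. -/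
lemma exists_sub_quot {I : Ideal A} {H : ℕᵒᵖ ⥤ ModuleCat.{u} A} {c : Cone H} {n n' : ℕ}
    (hn' : LinearMap.ker (c.π.app (op n')).hom ≤ I ^ (n + 1) • ⊤) :
    ∃ (E : ModuleCat.{u} A) (ιE : E ⟶ H.obj (op n')) (ρb : E ⟶ (quotSys I c.pt).obj (op n)),
      Function.Injective ιE.hom ∧ Function.Surjective ρb.hom := by
  let E : Submodule A (H.obj (op n')) := LinearMap.range (c.π.app (op n')).hom
  let ρ : c.pt ⟶ ModuleCat.of A E := ModuleCat.ofHom (c.π.app (op n')).hom.rangeRestrict
  have hρs : Function.Surjective ρ.hom := LinearMap.surjective_rangeRestrict _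
  have hρk : LinearMap.ker ρ.hom ≤ LinearMap.ker (qmk I c.pt n).hom := by
    rw [ker_qmk]
    intro z hz
    apply hn'
    rw [LinearMap.mem_ker] at hz ⊢
    have := congrArg Subtype.val hz
    exact this
  obtain ⟨ρb, hρb⟩ := exists_factor_of_ker_le ρ hρs (qmk I c.pt n) hρk
  have hs : Function.Surjective ρb.hom := by
    intro y
    obtain ⟨z, rfl⟩ := qmk_surjective I c.pt n y
    refine ⟨ρ.hom z, ?_⟩
    have := congrArg (fun t => t.hom z) hρb
    exact this
  exact ⟨ModuleCat.of A E, ModuleCat.ofHom E.subtype, ρb, Subtype.val_injective, hs⟩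

open ModLim in
lemma kernel_comp_tr_eq_zero {I : Ideal A} {H : ℕᵒᵖ ⥤ ModuleCat.{u} A} {c : Cone H} {n n' : ℕ}
    (hnn' : n ≤ n') (hn' : LinearMap.ker (c.π.app (op n')).hom ≤ I ^ (n + 1) • ⊤)
    (ℓ : (quotSys I c.pt).obj (op n') ⟶ H.obj (op n'))
    (hℓ : qmk I c.pt n' ≫ ℓ = c.π.app (op n')) :
    kernel.ι ℓ ≫ ARSys.tr (quotSys I c.pt) hnn' = 0 := by
  ext q'
  have h1 : ℓ.hom ((kernel.ι ℓ).hom q') = 0 := by
    have := congrArg (fun t => t.hom q') (kernel.condition ℓ)
    exact this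
  obtain ⟨z, hz⟩ := qmk_surjective I c.pt n' ((kernel.ι ℓ).hom q')
  have h2 : (c.π.app (op n')).hom z = 0 := by
    rw [← hℓ]
    change ℓ.hom ((qmk I c.pt n').hom z) = 0
    rw [hz, h1]
  have h3 : z ∈ LinearMap.ker (qmk I c.pt n).hom := by
    rw [ker_qmk]
    exact hn' h2
  change (ARSys.tr (quotSys I c.pt) hnn').hom ((kernel.ι ℓ).hom q') = 0
  rw [← hz, quotSys_tr_qmk]
  exact h3

end Alg

section Main

variable {A : Type u} [CommRing A]

attribute [local instance] idOver

variable (A) in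
/-- the functor `N ↦ N~|_U`. -/
noncomputable abbrev Lf (U : (Spec (CommRingCat.of A)).Opens) :
    ModuleCat.{u} A ⥤ (U : Scheme.{u}).Modules :=
  tilde.functor (CommRingCat.of A) ⋙ Scheme.Modules.restrictFunctor U.ι

lemma isQuasicoherent_Lf (U : (Spec (CommRingCat.of A)).Opens) (N : ModuleCat.{u} A) :
    ((Lf A U).obj N).IsQuasicoherent := by
  haveI : ((tilde.functor (CommRingCat.of A)).obj N).IsQuasicoherent :=
    inferInstanceAs (tilde (R := CommRingCat.of A) N).IsQuasicoherent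
  exact Scheme.Modules.isQuasicoherent_restrictFunctor U.ι _

lemma mono_Lf_map (U : (Spec (CommRingCat.of A)).Opens) {N N' : ModuleCat.{u} A} (f : N ⟶ N')
    (hf : Function.Injective f.hom) : Mono ((Lf A U).map f) := by
  haveI : Mono ((tilde.functor (CommRingCat.of A)).map f) := by
    have := Groth.Agent.Helper14.tilde_map_mono (R := CommRingCat.of A) f hf
    exact this
  haveI : PreservesFiniteLimits (Scheme.Modules.restrictFunctor U.ι) := inferInstance
  exact (Scheme.Modules.restrictFunctor U.ι).map_mono _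

lemma epi_Lf_map (U : (Spec (CommRingCat.of A)).Opens) [QuasiCompact U.ι]
    {N N' : ModuleCat.{u} A} (f : N ⟶ N')
    (hf : Function.Surjective f.hom) : Epi ((Lf A U).map f) := by
  haveI : (Lf A U).IsLeftAdjoint := (sadj A U).isLeftAdjoint
  haveI : Epi f := (ModuleCat.epi_iff_surjective f).2 hf
  infer_instance

/-- a submodule of `H⁰(U, F)` gives a finite type module on `U` for coherent `F` (Noetherian case). -/
lemma isFiniteType_Lf_of_injective [IsNoetherianRing A] (U : (Spec (CommRingCat.of A)).Opens)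
    [QuasiCompact U.ι] (F : (U : Scheme.{u}).Modules) (hF : Coh.IsCoh F) {E : ModuleCat.{u} A}
    (ιE : E ⟶ (Scheme.Modules.pushforward U.ι ⋙ moduleSpecΓFunctor (R := CommRingCat.of A)).obj F)
    (hιE : Function.Injective ιE.hom) :
    SheafOfModules.IsFiniteType (R := (U : Scheme.{u}).ringCatSheaf) ((Lf A U).obj E) := by
  haveI : F.IsQuasicoherent := hF.1
  haveI : SheafOfModules.IsFiniteType (R := (U : Scheme.{u}).ringCatSheaf) F := hF.2
  haveI := isIso_sadj_counit_app A U F
  haveI := mono_Lf_map U ιE hιE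
  haveI : IsLocallyNoetherian (U : Scheme.{u}) := isLocallyNoetherian_of_isOpenImmersion U.ι
  haveI := isQuasicoherent_Lf U E
  have key := @Groth.Agent.Helper28.CohSub.isFiniteType_of_mono (U : Scheme.{u}) _ ((Lf A U).obj E) F
    _ hF.1 hF.2 ((Lf A U).map ιE ≫ (sadj A U).counit.app F) (mono_comp _ _)
  exact key

open ModLim in
/-- `(M / I^(n+1) M)~|_U` is coherent when the limit topology on `M = lim H⁰(U, F_n)` is adic. -/
theorem isCoh_restrict_tilde_quotSys [IsNoetherianRing A] (I : Ideal A)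
    (U : (Spec (CommRingCat.of A)).Opens) [QuasiCompact U.ι]
    (G : ℕᵒᵖ ⥤ (U : Scheme.{u}).Modules) (hG : ∀ n, Coh.IsCoh (G.obj (op n)))
    (hb : ∀ k : ℕ, ∃ n : ℕ, LinearMap.ker (limit.π (Algz.sectMod A U G) (op n)).hom ≤
      I ^ k • (⊤ : Submodule A ↑(limit (Algz.sectMod A U G)))) (n : ℕ) :
    Coh.IsCoh ((Lf A U).obj ((quotSys I (limit (Algz.sectMod A U G))).obj (op n))) := by
  obtain ⟨n', hn'⟩ := hb (n + 1)
  obtain ⟨E, ιE, ρb, hιE, hs⟩ := exists_sub_quot (c := limit.cone (Algz.sectMod A U G)) hn'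
  haveI hft := isFiniteType_Lf_of_injective U (G.obj (op n')) (hG n') ιE hιE
  haveI := epi_Lf_map U ρb hs
  exact ⟨isQuasicoherent_Lf U _, Groth.Agent.Helper13.FinType.isFiniteType_of_epi ((Lf A U).map ρb)⟩

/-- kernels of adjoint maps out of `N~` are killed by `g~` when `ker ℓ` is killed by `g`. -/
lemma kernel_ι_comp_tilde_map_eq_zero {N N' : ModuleCat.{u} A}
    {P : (Spec (CommRingCat.of A)).Modules} [P.IsQuasicoherent]
    (ℓ : N ⟶ (moduleSpecΓFunctor (R := CommRingCat.of A)).obj P) (g : N ⟶ N')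
    (hg : kernel.ι ℓ ≫ g = 0) :
    kernel.ι (((tadj A).homEquiv N P).symm ℓ) ≫ (tilde.functor (CommRingCat.of A)).map g = 0 := by
  haveI := isIso_counit_app A P
  let T := tilde.functor (CommRingCat.of A)
  haveI : PreservesFiniteLimits T := Groth.Agent.Helper14.tilde_preservesFiniteLimits
  haveI : T.PreservesZeroMorphisms := inferInstance
  set ψ := ((tadj A).homEquiv N P).symm ℓ with hψ
  have hψ' : ψ = T.map ℓ ≫ (tadj A).counit.app P := Adjunction.homEquiv_counit _ _ _ _
  have hc : kernel.ι ψ ≫ T.map ℓ = 0 := by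
    have h1 : (kernel.ι ψ ≫ T.map ℓ) ≫ (tadj A).counit.app P = 0 := by
      rw [Category.assoc, ← hψ', kernel.condition]
    exact (cancel_mono ((tadj A).counit.app P)).1 (h1.trans zero_comp.symm)
  have h2 : kernel.ι ψ = kernel.lift (T.map ℓ) (kernel.ι ψ) hc ≫ kernel.ι (T.map ℓ) :=
    (kernel.lift_ι _ _ _).symm
  have h3 : kernelComparison ℓ T ≫ kernel.ι (T.map ℓ) = T.map (kernel.ι ℓ) :=
    kernelComparison_comp_ι ℓ T
  haveI : IsIso (kernelComparison ℓ T) := inferInstance
  have h4 : kernel.ι (T.map ℓ) = inv (kernelComparison ℓ T) ≫ T.map (kernel.ι ℓ) := by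
    rw [← h3, IsIso.inv_hom_id_assoc]
  rw [h2, h4, Category.assoc, Category.assoc, ← T.map_comp, hg, Functor.map_zero, comp_zero,
    comp_zero]

open ModLim in
/-- the injectivity statement: compatible sections of the `(M/I^(n+1)M)~` dying in `j_* F_n`
vanish. -/
theorem sections_eq_zero (I : Ideal A) (U : (Spec (CommRingCat.of A)).Opens) [QuasiCompact U.ι]
    (G : ℕᵒᵖ ⥤ (U : Scheme.{u}).Modules) (hq : ∀ n, (G.obj (op n)).IsQuasicoherent)
    (hb : ∀ k : ℕ, ∃ n : ℕ, LinearMap.ker (limit.π (Algz.sectMod A U G) (op n)).hom ≤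
      I ^ k • (⊤ : Submodule A ↑(limit (Algz.sectMod A U G))))
    (ℓ : ∀ n, (quotSys I (limit (Algz.sectMod A U G))).obj (op n) ⟶
      (Algz.sectMod A U G).obj (op n))
    (hℓ : ∀ n, qmk I (limit (Algz.sectMod A U G)) n ≫ ℓ n = limit.π (Algz.sectMod A U G) (op n))
    (V : (Spec (CommRingCat.of A)).Opens)
    (x : ∀ n, Γ((tilde.functor (CommRingCat.of A)).obj
      ((quotSys I (limit (Algz.sectMod A U G))).obj (op n)), V))
    (hx : ∀ n, ((tilde.functor (CommRingCat.of A)).map
      (ARSys.tr (quotSys I (limit (Algz.sectMod A U G))) (Nat.le_succ n))).app V (x (n + 1)) = x n)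
    (hz : ∀ n, (((tadj A).homEquiv _
      ((Scheme.Modules.pushforward U.ι).obj (G.obj (op n)))).symm (ℓ n)).app V (x n) = 0) :
    ∀ n, x n = 0 := by
  intro n
  let Q := quotSys I (limit (Algz.sectMod A U G))
  let T := tilde.functor (CommRingCat.of A)
  obtain ⟨nb, hnb⟩ := hb (n + 1)
  let n' := max n nb
  have hnn' : n ≤ n' := le_max_left _ _
  have hK : LinearMap.ker (limit.π (Algz.sectMod A U G) (op n')).hom ≤ I ^ (n + 1) • ⊤ := by
    refine le_trans ?_ hnb
    intro z hz'
    rw [LinearMap.mem_ker] at hz' ⊢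
    have e : (ARSys.tr (Algz.sectMod A U G) (le_max_right n nb)).hom
        ((limit.π (Algz.sectMod A U G) (op n')).hom z) =
        (limit.π (Algz.sectMod A U G) (op nb)).hom z :=
      π_tr_apply (c := limit.cone (Algz.sectMod A U G)) (le_max_right n nb) z
    rw [← e, hz', map_zero]
  -- iterate the compatibility
  have hiter : ∀ (a : ℕ) (h : n ≤ a), (T.map (ARSys.tr Q h)).app V (x a) = x n := by
    intro a h
    induction a, h using Nat.le_induction with
    | base =>
      have : ARSys.tr Q (le_refl n) = 𝟙 _ := Groth.Agent.Helper5.ARS.tr_refl Q n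
      rw [this, T.map_id]
      rfl
    | succ a hna ih =>
      have h1 : ARSys.tr Q (hna.trans (Nat.le_succ a)) =
          ARSys.tr Q (Nat.le_succ a) ≫ ARSys.tr Q hna :=
        (Groth.Agent.Helper5.ARS.tr_comp Q _ _).symm
      rw [h1, T.map_comp, Scheme.Modules.Hom.comp_app]
      change (T.map (ARSys.tr Q hna)).app V
        ((T.map (ARSys.tr Q (Nat.le_succ a))).app V (x (a + 1))) = x n
      rw [hx a, ih]
  haveI : ((Scheme.Modules.pushforward U.ι).obj (G.obj (op n'))).IsQuasicoherent := by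
    haveI := hq n'
    exact Groth.Agent.Helper13.Qcqs.isQuasicoherent_pushforward_of_qcqs U.ι _
  have hA := kernel_ι_comp_tilde_map_eq_zero (ℓ n') (ARSys.tr Q hnn')
    (kernel_comp_tr_eq_zero (c := limit.cone (Algz.sectMod A U G)) hnn' hK (ℓ n') (hℓ n'))
  obtain ⟨y, hy⟩ := Groth.Agent.Helper13.KerSec.exists_kernel_section _ V (x n') (hz n')
  have h5 : (T.map (ARSys.tr Q hnn')).app V (x n') = x n := hiter n' hnn'
  rw [← h5, ← hy]
  have := congrArg (fun t => t.app V y) hA
  exact this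

end Main

end Groth.Agent.Helper14.CohFormal
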