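import Mathlib
import Groth.Agent.Lib.Helper14.CohFormalK

set_option autoImplicit false
universe u
open CategoryTheory CategoryTheory.Limits AlgebraicGeometry Opposite TopologicalSpace

namespace Groth.Agent.Helper14.CohFormal

section Torsion

variable {A : Type u} [CommRing A] (𝔞 : Ideal A)

attribute [local instance] idOver

/-- the global function on `Spec A` attached to `f : A`. -/
noncomputable abbrev gfun (f : A) : Γ(Spec (CommRingCat.of A), ⊤) :=
  (Scheme.ΓSpecIso (CommRingCat.of A)).inv.hom f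

lemma res_res_top {X : Scheme.{u}} {V W : X.Opens} (h : V ≤ W) (hW : W ≤ ⊤) (g : Γ(X, ⊤)) :
    X.presheaf.map (homOfLE (le_top : V ≤ ⊤)).op g =
      X.presheaf.map (homOfLE h).op (X.presheaf.map (homOfLE hW).op g) := by
  rw [← CommRingCat.comp_apply, ← Functor.map_comp]
  rfl

lemma isUnit_res_gfun (f : A) (V : (Spec (CommRingCat.of A)).Opens)
    (hV : V ≤ PrimeSpectrum.basicOpen f) :
    IsUnit ((Spec (CommRingCat.of A)).presheaf.map (homOfLE (le_top : V ≤ ⊤)).op (gfun f)) := by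
  have h1 : (Spec (CommRingCat.of A)).basicOpen (gfun f) = PrimeSpectrum.basicOpen f :=
    basicOpen_eq_of_affine (R := CommRingCat.of A) f
  have h2 : IsUnit ((Spec (CommRingCat.of A)).presheaf.map
      (homOfLE ((Spec (CommRingCat.of A)).basicOpen_le (gfun f))).op (gfun f)) :=
    (Spec (CommRingCat.of A)).toRingedSpace.isUnit_res_basicOpen (gfun f)
  have hV' : V ≤ (Spec (CommRingCat.of A)).basicOpen (gfun f) := by rw [h1]; exact hV
  have e : (Spec (CommRingCat.of A)).presheaf.map (homOfLE (le_top : V ≤ ⊤)).op (gfun f) =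
      (Spec (CommRingCat.of A)).presheaf.map (homOfLE hV').op
        ((Spec (CommRingCat.of A)).presheaf.map
          (homOfLE ((Spec (CommRingCat.of A)).basicOpen_le (gfun f))).op (gfun f)) := by
    exact res_res_top hV' _ (gfun f)
  rw [e]
  exact h2.map _

/-- sections of `W~` over opens inside `D(𝔞)` vanish if `W` is killed by a power of `𝔞`. -/
lemma section_eq_zero_of_le (W : ModuleCat.{u} A) (k : ℕ)
    (hW : ∀ a ∈ 𝔞 ^ k, ∀ w : W, a • w = 0) (V : (Spec (CommRingCat.of A)).Opens)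
    (hV : V ≤ LocCoh.puncturedOpen A 𝔞)
    (x : Γ((tilde.functor (CommRingCat.of A)).obj W, V)) : x = 0 := by
  let T := (tilde.functor (CommRingCat.of A)).obj W
  have hex : ∀ p : V, ∃ f ∈ 𝔞, (p.1 : Spec (CommRingCat.of A)) ∈
      (PrimeSpectrum.basicOpen f : (Spec (CommRingCat.of A)).Opens) := by
    intro p
    have hp : p.1 ∈ LocCoh.puncturedOpen A 𝔞 := hV p.2
    have hp' : ¬ ((𝔞 : Set A) ⊆ (p.1 : PrimeSpectrum A).asIdeal) := hp
    obtain ⟨f, hf, hfp⟩ := Set.not_subset.1 hp'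
    exact ⟨f, hf, hfp⟩
  choose f hf hfp using hex
  apply TopCat.Sheaf.eq_of_locally_eq' ⟨T.presheaf, T.isSheaf⟩
    (fun p : V => V ⊓ (PrimeSpectrum.basicOpen (f p) : (Spec (CommRingCat.of A)).Opens)) V
    (fun p => homOfLE inf_le_left)
  · intro p hp
    exact Opens.mem_iSup.2 ⟨⟨p, hp⟩, ⟨hp, hfp ⟨p, hp⟩⟩⟩
  · intro p
    rw [map_zero]
    set V'' := V ⊓ (PrimeSpectrum.basicOpen (f p) : (Spec (CommRingCat.of A)).Opens) with hV''
    set y := T.presheaf.map (homOfLE (inf_le_left : V'' ≤ V)).op x with hy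
    have hzero : Formal.smulMod A T (f p ^ k) = 0 :=
      smulMod_tilde_eq_zero (f p ^ k) (hW (f p ^ k) (Ideal.pow_mem_pow (hf p) k))
    have h1 : ((Spec (CommRingCat.of A)).presheaf.map (homOfLE (le_top : V'' ≤ ⊤)).op
        (gfun (f p ^ k))) • y = 0 := by
      have := congrArg (fun t => t.app V'' y) hzero
      exact this
    have h2 : IsUnit ((Spec (CommRingCat.of A)).presheaf.map (homOfLE (le_top : V'' ≤ ⊤)).op
        (gfun (f p ^ k))) := by
      have h3 := isUnit_res_gfun (f p) V'' inf_le_right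
      have h4 : gfun (f p ^ k) = (gfun (f p)) ^ k := map_pow _ _ _
      rw [h4, map_pow]
      exact h3.pow k
    exact (h2.smul_eq_zero).1 h1

/-- (T1) modules killed by a power of `𝔞` restrict to zero on `D(𝔞)`. -/
theorem isZero_Lf_of_smul_eq_zero (W : ModuleCat.{u} A) (k : ℕ)
    (hW : ∀ a ∈ 𝔞 ^ k, ∀ w : W, a • w = 0) :
    IsZero ((Lf A (LocCoh.puncturedOpen A 𝔞)).obj W) := by
  rw [IsZero.iff_id_eq_zero]
  apply Scheme.Modules.hom_ext
  intro V
  ext x
  exact section_eq_zero_of_le 𝔞 W k hW ((LocCoh.puncturedOpen A 𝔞).ι ''ᵁ V)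
    ((LocCoh.puncturedOpen A 𝔞).ι_image_le V) x

lemma basicOpen_le_puncturedOpen {f : A} (hf : f ∈ 𝔞) :
    (PrimeSpectrum.basicOpen f : (Spec (CommRingCat.of A)).Opens) ≤ LocCoh.puncturedOpen A 𝔞 := by
  intro p hp
  change ¬ ((𝔞 : Set A) ⊆ (p : PrimeSpectrum A).asIdeal)
  intro h
  exact hp (h hf)

omit [CommRing A] in
lemma toOpen_eq_zero_of_le {R : CommRingCat.{u}} (W : ModuleCat.{u} R) {V₁ V₂ : (Spec R).Opens}
    (h : V₂ ≤ V₁) (w : W) (h1 : (tilde.toOpen W V₁).hom w = 0) : (tilde.toOpen W V₂).hom w = 0 := by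
  have e := tilde.toOpen_res W V₁ V₂ (homOfLE h)
  have e2 := congrArg (fun t => t.hom w) e
  change ((modulesSpecToSheaf.obj (tilde W)).presheaf.map (homOfLE h).op).hom
    ((tilde.toOpen W V₁).hom w) = (tilde.toOpen W V₂).hom w at e2
  rw [← e2, h1]
  exact map_zero _

omit [CommRing A] in
lemma exists_pow_smul_of_toOpen_eq_zero {R : CommRingCat.{u}} (W : ModuleCat.{u} R) (f : R) (w : W)
    (h : (tilde.toOpen W (PrimeSpectrum.basicOpen f)).hom w = 0) : ∃ e : ℕ, f ^ e • w = 0 := by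
  obtain ⟨⟨c, e, rfl⟩, hc⟩ := (IsLocalizedModule.eq_zero_iff (Submonoid.powers f)
    (tilde.toOpen W (PrimeSpectrum.basicOpen f)).hom).1 h
  exact ⟨e, hc⟩

/-- elements of a module whose sheaf dies on `D(𝔞)` are killed by powers of every `f ∈ 𝔞`. -/
lemma exists_pow_smul_eq_zero_of_isZero (W : ModuleCat.{u} A)
    (h : IsZero ((Lf A (LocCoh.puncturedOpen A 𝔞)).obj W)) {f : A} (hf : f ∈ 𝔞) (w : W) :
    ∃ e : ℕ, f ^ e • w = 0 := by
  let U := LocCoh.puncturedOpen A 𝔞
  let V : (U : Scheme.{u}).Opens :=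
    U.ι ⁻¹ᵁ (PrimeSpectrum.basicOpen f : (Spec (CommRingCat.of A)).Opens)
  have hle : (PrimeSpectrum.basicOpen f : (Spec (CommRingCat.of A)).Opens) ≤ U.ι ''ᵁ V := by
    intro p hp
    have hpU : p ∈ U := basicOpen_le_puncturedOpen 𝔞 hf hp
    exact ⟨⟨p, hpU⟩, hp, rfl⟩
  have hz : ∀ s : Γ((Lf A U).obj W, V), s = 0 := by
    intro s
    have := congrArg (fun t => t.app V s) (h.eq_of_src (𝟙 _) 0)
    exact this
  have h1 : (tilde.toOpen (R := CommRingCat.of A) W (U.ι ''ᵁ V)).hom w = 0 :=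
    hz ((tilde.toOpen (R := CommRingCat.of A) W (U.ι ''ᵁ V)).hom w)
  have h2 := toOpen_eq_zero_of_le (R := CommRingCat.of A) W hle w h1
  exact exists_pow_smul_of_toOpen_eq_zero (R := CommRingCat.of A) W f w h2

/-- (T2) a finite module whose sheaf dies on `D(𝔞)` is killed by a power of `𝔞`. -/
theorem exists_pow_smul_eq_zero [IsNoetherianRing A] (W : ModuleCat.{u} A) [Module.Finite A W]
    (h : IsZero ((Lf A (LocCoh.puncturedOpen A 𝔞)).obj W)) :
    ∃ k : ℕ, ∀ a ∈ 𝔞 ^ k, ∀ w : W, a • w = 0 := by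
  obtain ⟨t, s, hs⟩ := Module.Finite.exists_fin (R := A) (M := W)
  have h1 : 𝔞 ≤ (Module.annihilator A W).radical := by
    intro f hf
    choose e he using fun i => exists_pow_smul_eq_zero_of_isZero 𝔞 W h hf (s i)
    refine ⟨Finset.univ.sup e, ?_⟩
    rw [Module.mem_annihilator]
    intro w
    have hw : w ∈ Submodule.span A (Set.range s) := by rw [hs]; exact Submodule.mem_top
    induction hw using Submodule.span_induction with
    | mem x hx =>
      obtain ⟨i, rfl⟩ := hx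
      have hle : e i ≤ Finset.univ.sup e := Finset.le_sup (Finset.mem_univ i)
      obtain ⟨d, hd⟩ := Nat.exists_eq_add_of_le hle
      rw [hd, pow_add, mul_comm, mul_smul, he i, smul_zero]
    | zero => exact smul_zero _
    | add x y _ _ hx hy => rw [smul_add, hx, hy, add_zero]
    | smul a x _ hx => rw [smul_comm, hx, smul_zero]
  have hfg : 𝔞.FG := (isNoetherianRing_iff_ideal_fg A).1 inferInstance 𝔞
  obtain ⟨k, hk⟩ := Ideal.exists_pow_le_of_le_radical_of_fg h1 hfg
  exact ⟨k, fun a ha w => Module.mem_annihilator.1 (hk ha) w⟩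

end Torsion

end Groth.Agent.Helper14.CohFormal
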