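import Mathlib
import Groth.Agent.Lib.Helper14.CohFormalL
import Groth.Agent.S9831

set_option autoImplicit false
universe u
open CategoryTheory CategoryTheory.Limits AlgebraicGeometry Opposite TopologicalSpace

namespace Groth.Agent.Helper14.CohFormal

section Alg

variable {A : Type u} [CommRing A]

lemma exists_lift_of_range_le {P Q N : ModuleCat.{u} A} (ι : N ⟶ Q)
    (hι : Function.Injective ι.hom) (w : P ⟶ Q) (h : ∀ y : P, ∃ x : N, ι.hom x = w.hom y) :
    ∃ g : P ⟶ N, g ≫ ι = w := by
  choose x hx using h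
  have hadd : ∀ y y', x (y + y') = x y + x y' := fun y y' => hι (by
    rw [map_add, hx, hx, hx, map_add])
  have hsmul : ∀ (a : A) y, x (a • y) = a • x y := fun a y => hι (by
    rw [map_smul, hx, hx, map_smul])
  let gl : P →ₗ[A] N := { toFun := x, map_add' := hadd, map_smul' := hsmul }
  refine ⟨ModuleCat.ofHom gl, ?_⟩
  ext y
  exact hx y

/-- exactness at the middle of `N → Q → coker`. -/
lemma exists_of_cokernel_π_eq_zero {N Q : ModuleCat.{u} A} (ι : N ⟶ Q) (z : Q)
    (hz : (cokernel.π ι).hom z = 0) : ∃ x : N, ι.hom x = z := by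
  have hex : (ShortComplex.mk ι (cokernel.π ι) (cokernel.condition ι)).Exact :=
    ShortComplex.exact_cokernel ι
  exact (ShortComplex.moduleCat_exact_iff _).1 hex z hz

end Alg

section Gen

variable {A : Type u} [CommRing A]

attribute [local instance] idOver

variable (A) in
/-- the functor `F ↦ H⁰(U, F)`. -/
noncomputable abbrev Rf (U : (Spec (CommRingCat.of A)).Opens) :
    (U : Scheme.{u}).Modules ⥤ ModuleCat.{u} A :=
  Scheme.Modules.pushforward U.ι ⋙ moduleSpecΓFunctor (R := CommRingCat.of A)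

/-- the map `N → H⁰(U, F)` exhibits `F` as `N~|_U`. -/
def IsGenMap (U : (Spec (CommRingCat.of A)).Opens) [QuasiCompact U.ι] {N : ModuleCat.{u} A}
    {F : (U : Scheme.{u}).Modules} (ι : N ⟶ (Rf A U).obj F) : Prop :=
  IsIso (((sadj A U).homEquiv N F).symm ι)

variable (U : (Spec (CommRingCat.of A)).Opens) [QuasiCompact U.ι]

lemma isIso_Lf_map_of_isGenMap {N : ModuleCat.{u} A} {F : (U : Scheme.{u}).Modules}
    [F.IsQuasicoherent] {ι : N ⟶ (Rf A U).obj F} (h : IsGenMap U ι) : IsIso ((Lf A U).map ι) := by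
  haveI := isIso_sadj_counit_app A U F
  have h1 : ((sadj A U).homEquiv N F).symm ι = (Lf A U).map ι ≫ (sadj A U).counit.app F :=
    Adjunction.homEquiv_counit _ _ _ _
  haveI : IsIso ((Lf A U).map ι ≫ (sadj A U).counit.app F) := by rw [← h1]; exact h
  exact IsIso.of_isIso_comp_right _ ((sadj A U).counit.app F)

/-- (G0) every coherent module on a quasi-compact open of an affine scheme is generated by a finite
submodule of its global sections. -/
theorem exists_isGenMap (hU : IsCompact (U : Set (Spec (CommRingCat.of A))))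
    (F : (U : Scheme.{u}).Modules) (hF : Coh.IsCoh F) :
    ∃ (N : ModuleCat.{u} A) (_ : Module.Finite A N) (ι : N ⟶ (Rf A U).obj F),
      Function.Injective ι.hom ∧ IsGenMap U ι := by
  haveI : F.IsQuasicoherent := hF.1
  haveI : Coh.IsQCoh F := hF.1
  obtain ⟨G', hG'1, hG'2, ⟨e0⟩⟩ := Groth.Agent.S9831.result U hU F hF.2
  haveI : G'.IsQuasicoherent := hG'1
  haveI : SheafOfModules.IsFiniteType (R := (Spec (CommRingCat.of A)).ringCatSheaf) G' := hG'2
  let N' : ModuleCat.{u} A := (moduleSpecΓFunctor (R := CommRingCat.of A)).obj G'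
  haveI : Module.Finite A N' :=
    Groth.Agent.Helper14.LimMod.finite_moduleSpecΓ (A := CommRingCat.of A) G'
  haveI := isIso_counit_app A G'
  let φ : (Lf A U).obj N' ⟶ F :=
    (Scheme.Modules.restrictFunctor U.ι).map ((tadj A).counit.app G') ≫ e0.hom
  haveI : IsIso φ := inferInstance
  let φb : N' ⟶ (Rf A U).obj F := (sadj A U).homEquiv N' F φ
  let N : ModuleCat.{u} A := Abelian.image φb
  let ρ : N' ⟶ N := Abelian.factorThruImage φb
  let ι : N ⟶ (Rf A U).obj F := Abelian.image.ι φb
  have hfac : ρ ≫ ι = φb := Abelian.image.fac φb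
  have hρ : Function.Surjective ρ.hom := (ModuleCat.epi_iff_surjective ρ).1 inferInstance
  have hι : Function.Injective ι.hom := (ModuleCat.mono_iff_injective ι).1 inferInstance
  refine ⟨N, Module.Finite.of_surjective ρ.hom hρ, ι, hι, ?_⟩
  have h1 : φ = (Lf A U).map ρ ≫ ((sadj A U).homEquiv N F).symm ι := by
    rw [← Adjunction.homEquiv_naturality_left_symm, hfac]
    exact ((sadj A U).homEquiv N' F).symm_apply_apply φ |>.symm
  haveI := isIso_sadj_counit_app A U F
  haveI : Mono (((sadj A U).homEquiv N F).symm ι) := by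
    rw [Adjunction.homEquiv_counit]
    haveI := mono_Lf_map U ι hι
    exact mono_comp _ _
  haveI : Epi (((sadj A U).homEquiv N F).symm ι) := by
    haveI : Epi ((Lf A U).map ρ ≫ ((sadj A U).homEquiv N F).symm ι) := by rw [← h1]; infer_instance
    exact epi_of_epi ((Lf A U).map ρ) _
  exact isIso_of_mono_of_epi _

/-- `Lf` sends a map to an epimorphism if the cokernel restricts to zero. -/
lemma epi_Lf_map_of_isZero_cokernel {N' N : ModuleCat.{u} A} (j : N' ⟶ N)
    (h : IsZero ((Lf A U).obj (cokernel j))) : Epi ((Lf A U).map j) := by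
  haveI : (Lf A U).IsLeftAdjoint := (sadj A U).isLeftAdjoint
  haveI : (Rf A U).IsRightAdjoint := (sadj A U).isRightAdjoint
  apply Preadditive.epi_of_cancel_zero
  intro T g hg
  have h1 : j ≫ (sadj A U).homEquiv _ _ g = 0 := by
    rw [← Adjunction.homEquiv_naturality_left, hg, Adjunction.homEquiv_unit, Functor.map_zero,
      comp_zero]
  have h2 : (sadj A U).homEquiv _ _ g = cokernel.π j ≫ cokernel.desc j _ h1 :=
    (cokernel.π_desc _ _ _).symm
  have h3 : g = (Lf A U).map (cokernel.π j) ≫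
      ((sadj A U).homEquiv _ _).symm (cokernel.desc j _ h1) := by
    rw [← Adjunction.homEquiv_naturality_left_symm, ← h2]
    exact (((sadj A U).homEquiv _ _).symm_apply_apply g).symm
  rw [h3, h.eq_of_tgt ((Lf A U).map (cokernel.π j)) 0, zero_comp]

end Gen

section Step

variable {A : Type u} [CommRing A] [IsNoetherianRing A] (𝔞 : Ideal A)

attribute [local instance] idOver

instance : QuasiCompact (LocCoh.puncturedOpen A 𝔞).ι := inferInstance

/-- (G1) shrinking a generating submodule by a power of `𝔞` keeps it generating. -/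
theorem isGenMap_comp_of_torsion_cokernel {N N' : ModuleCat.{u} A}
    {F : ((LocCoh.puncturedOpen A 𝔞 : (Spec (CommRingCat.of A)).Opens) : Scheme.{u}).Modules}
    [F.IsQuasicoherent] (ι : N ⟶ (Rf A (LocCoh.puncturedOpen A 𝔞)).obj F)
    (hgen : IsGenMap (LocCoh.puncturedOpen A 𝔞) ι) (j : N' ⟶ N) (hj : Function.Injective j.hom)
    (k : ℕ) (hk : ∀ a ∈ 𝔞 ^ k, ∀ y : N, ∃ y' : N', j.hom y' = a • y) :
    IsGenMap (LocCoh.puncturedOpen A 𝔞) (j ≫ ι) := by
  let U := LocCoh.puncturedOpen A 𝔞
  have hC : ∀ a ∈ 𝔞 ^ k, ∀ c : (cokernel j : ModuleCat.{u} A), a • c = 0 := by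
    intro a ha c
    have hs : Function.Surjective (cokernel.π j).hom :=
      (ModuleCat.epi_iff_surjective _).1 inferInstance
    obtain ⟨y, rfl⟩ := hs c
    obtain ⟨y', hy'⟩ := hk a ha y
    rw [← map_smul, ← hy']
    have := congrArg (fun t => t.hom y') (cokernel.condition j)
    exact this
  have hz := isZero_Lf_of_smul_eq_zero 𝔞 (cokernel j) k hC
  haveI := epi_Lf_map_of_isZero_cokernel U j hz
  haveI := mono_Lf_map U j hj
  haveI : IsIso ((Lf A U).map j) := isIso_of_mono_of_epi _
  unfold IsGenMap at hgen ⊢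
  rw [Adjunction.homEquiv_naturality_left_symm]
  haveI := hgen
  infer_instance

/-- (G2) the inductive step: a generating finite submodule downstairs is hit by a generating
finite submodule upstairs. -/
theorem exists_step
    (hUc : IsCompact ((LocCoh.puncturedOpen A 𝔞 : (Spec (CommRingCat.of A)).Opens) :
      Set (Spec (CommRingCat.of A))))
    {F F' : ((LocCoh.puncturedOpen A 𝔞 : (Spec (CommRingCat.of A)).Opens) : Scheme.{u}).Modules}
    (hF : Coh.IsCoh F) (hF' : Coh.IsCoh F') (t : F' ⟶ F)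
    {N : ModuleCat.{u} A} (ι : N ⟶ (Rf A (LocCoh.puncturedOpen A 𝔞)).obj F)
    (hι : Function.Injective ι.hom) (hgen : IsGenMap (LocCoh.puncturedOpen A 𝔞) ι) :
    ∃ (N' : ModuleCat.{u} A) (_ : Module.Finite A N')
      (ι' : N' ⟶ (Rf A (LocCoh.puncturedOpen A 𝔞)).obj F') (g : N' ⟶ N),
      Function.Injective ι'.hom ∧ IsGenMap (LocCoh.puncturedOpen A 𝔞) ι' ∧
        g ≫ ι = ι' ≫ (Rf A (LocCoh.puncturedOpen A 𝔞)).map t := by
  let U := LocCoh.puncturedOpen A 𝔞
  haveI : F.IsQuasicoherent := hF.1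
  haveI : F'.IsQuasicoherent := hF'.1
  haveI : (Lf A U).IsLeftAdjoint := (sadj A U).isLeftAdjoint
  obtain ⟨N₁, hN₁, ι₁, hι₁, hgen₁⟩ := exists_isGenMap U hUc F' hF'
  let u : N₁ ⟶ (Rf A U).obj F := ι₁ ≫ (Rf A U).map t
  let C : ModuleCat.{u} A := cokernel ι
  let v : N₁ ⟶ C := u ≫ cokernel.π ι
  let W : ModuleCat.{u} A := Abelian.image v
  let ρ : N₁ ⟶ W := Abelian.factorThruImage v
  let μ : W ⟶ C := Abelian.image.ι v
  have hfac : ρ ≫ μ = v := Abelian.image.fac v
  have hρ : Function.Surjective ρ.hom := (ModuleCat.epi_iff_surjective ρ).1 inferInstance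
  have hμ : Function.Injective μ.hom := (ModuleCat.mono_iff_injective μ).1 inferInstance
  -- `Lf C = 0`
  haveI hiso : IsIso ((Lf A U).map ι) := isIso_Lf_map_of_isGenMap U hgen
  have hC0 : (Lf A U).map (cokernel.π ι) = 0 := by
    have h1 : (Lf A U).map ι ≫ (Lf A U).map (cokernel.π ι) = 0 := by
      rw [← Functor.map_comp, cokernel.condition, Functor.map_zero]
    exact (cancel_epi ((Lf A U).map ι)).1 (h1.trans comp_zero.symm)
  haveI : Epi ((Lf A U).map (cokernel.π ι)) := inferInstance
  have hCz : IsZero ((Lf A U).obj C) := IsZero.of_epi_eq_zero _ hC0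
  haveI := mono_Lf_map U μ hμ
  have hWz : IsZero ((Lf A U).obj W) := IsZero.of_mono ((Lf A U).map μ) hCz
  haveI : Module.Finite A W := Module.Finite.of_surjective ρ.hom hρ
  obtain ⟨k, hk⟩ := exists_pow_smul_eq_zero 𝔞 W hWz
  -- the shrunken module
  let S : Submodule A N₁ := 𝔞 ^ k • ⊤
  let N' : ModuleCat.{u} A := ModuleCat.of A S
  let j : N' ⟶ N₁ := ModuleCat.ofHom S.subtype
  have hj : Function.Injective j.hom := Subtype.val_injective
  have hjk : ∀ a ∈ 𝔞 ^ k, ∀ y : N₁, ∃ y' : N', j.hom y' = a • y := fun a ha y =>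
    ⟨⟨a • y, Submodule.smul_mem_smul ha Submodule.mem_top⟩, rfl⟩
  have hgen' := isGenMap_comp_of_torsion_cokernel 𝔞 ι₁ hgen₁ j hj k hjk
  -- the images land in `range ι`
  have hland : ∀ y' : N', ∃ x : N, ι.hom x = (j ≫ u).hom y' := by
    intro y'
    have hmem : (y' : N₁) ∈ S := y'.2
    have key : ∀ z ∈ S, (cokernel.π ι).hom (u.hom z) = 0 := by
      intro z hz
      refine Submodule.smul_induction_on hz (fun a ha y _ => ?_) (fun z z' hz hz' => ?_)
      · have h1 : ρ.hom (a • y) = 0 := by rw [map_smul]; exact hk a ha _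
        have h2 := congrArg (fun t => t.hom (a • y)) hfac
        change μ.hom (ρ.hom (a • y)) = (cokernel.π ι).hom (u.hom (a • y)) at h2
        rw [← h2, h1, map_zero]
      · rw [map_add, map_add, hz, hz', add_zero]
    exact exists_of_cokernel_π_eq_zero ι _ (key _ hmem)
  obtain ⟨g, hg⟩ := exists_lift_of_range_le ι hι (j ≫ u) hland
  haveI : Module.Finite A N₁ := hN₁
  refine ⟨N', Module.Finite.of_injective j.hom hj, j ≫ ι₁, g, hι₁.comp hj, hgen', ?_⟩
  rw [hg, Category.assoc]

end Step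

end Groth.Agent.Helper14.CohFormal
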