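import Mathlib
import Groth.Agent.Lib.Helper14.CohFormalM

set_option autoImplicit false
universe u
open CategoryTheory CategoryTheory.Limits AlgebraicGeometry Opposite TopologicalSpace

namespace Groth.Agent.Helper14.CohFormal

section Alg

variable {A : Type u} [CommRing A]

lemma exists_of_comp_eq_zero {Q N : ModuleCat.{u} A} (f : Q ⟶ N) (z : Q) (hz : f.hom z = 0) :
    ∃ k : (kernel f : ModuleCat.{u} A), (kernel.ι f).hom k = z := by
  have hex : (ShortComplex.mk (kernel.ι f) f (kernel.condition f)).Exact :=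
    ShortComplex.exact_kernel f
  exact (ShortComplex.moduleCat_exact_iff _).1 hex z hz

end Alg

section Coker

variable {A : Type u} [CommRing A] {X : Scheme.{u}} [X.Over (Spec (CommRingCat.of A))]

lemma IsCokerOf.comp_iso {J : Ideal A} {M N N' : X.Modules} {p : M ⟶ N} (h : IsCokerOf J p)
    (e : N ≅ N') : IsCokerOf J (p ≫ e.hom) := by
  obtain ⟨h1, h2, h3⟩ := h
  refine ⟨?_, ?_, fun T ψ hψ => ?_⟩
  · haveI := h1; infer_instance
  · rw [← Category.assoc, h2, zero_comp]
  · obtain ⟨ψ', hψ'⟩ := h3 T ψ hψ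
    exact ⟨e.inv ≫ ψ', by rw [Category.assoc, e.hom_inv_id_assoc, hψ']⟩

end Coker

section Affine

variable {A : Type u} [CommRing A]

attribute [local instance] idOver

open ModLim in
/-- `M~ → (M/I^(n+1)M)~` is the cokernel of multiplication by `I^(n+1)`. -/
lemma isCokerOf_tilde_map_qmk (I : Ideal A) (M : ModuleCat.{u} A) (n : ℕ) :
    IsCokerOf (I ^ (n + 1)) ((tilde.functor (CommRingCat.of A)).map (qmk I M n)) := by
  haveI : ((tilde.functor (CommRingCat.of A)).obj ((quotSys I M).obj (op n))).IsQuasicoherent :=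
    inferInstanceAs (tilde (R := CommRingCat.of A) ((quotSys I M).obj (op n))).IsQuasicoherent
  have hkill : Formal.KilledBy (I ^ (n + 1))
      ((tilde.functor (CommRingCat.of A)).obj ((quotSys I M).obj (op n))) := fun a ha =>
    smulMod_tilde_eq_zero a (smul_quotSys_eq_zero I M n a ha)
  have hunit : Function.Bijective ((tadj A).unit.app ((quotSys I M).obj (op n))).hom := by
    haveI : IsIso ((tadj A).unit.app ((quotSys I M).obj (op n))) := by
      change IsIso ((tilde.toTildeΓNatIso (R := CommRingCat.of A)).hom.app _)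
      infer_instance
    exact ConcreteCategory.bijective_of_isIso _
  let v := qmk I M n ≫ (tadj A).unit.app ((quotSys I M).obj (op n))
  have hv1 : Function.Surjective v.hom := hunit.2.comp (qmk_surjective I M n)
  have hv2 : LinearMap.ker v.hom = I ^ (n + 1) • ⊤ := by
    rw [← ker_qmk I M n]
    ext x
    rw [LinearMap.mem_ker, LinearMap.mem_ker]
    change ((tadj A).unit.app _).hom ((qmk I M n).hom x) = 0 ↔ _
    constructor
    · intro h
      exact hunit.1 (h.trans (map_zero _).symm)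
    · intro h
      exact (congrArg ((tadj A).unit.app ((quotSys I M).obj (op n))).hom h).trans (map_zero _)
  have h1 := isCokerOf_homEquiv_symm hkill v hv1 hv2
  rw [homEquiv_symm_comp_unit] at h1
  exact h1

/-- sections over `U` of a module killed by `J` are killed by `J`. -/
lemma smul_Rf_eq_zero (U : (Spec (CommRingCat.of A)).Opens)
    [hU : U.toScheme.Over (Spec (CommRingCat.of A))]
    (hc : (U.toScheme ↘ Spec (CommRingCat.of A)) =
      U.ι ≫ (Spec (CommRingCat.of A) ↘ Spec (CommRingCat.of A)))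
    {J : Ideal A} {F : (U : Scheme.{u}).Modules} (hF : Formal.KilledBy J F) (a : A) (ha : a ∈ J)
    (x : (Rf A U).obj F) : a • x = 0 := by
  haveI : (moduleSpecΓFunctor (R := CommRingCat.of A)).IsRightAdjoint := (tadj A).isRightAdjoint
  have h1 := pushforward_smulMod U.ι hc.symm F a
  rw [hF a ha, Functor.map_zero] at h1
  change a • (show (moduleSpecΓFunctor (R := CommRingCat.of A)).obj
    ((Scheme.Modules.pushforward U.ι).obj F) from x) = 0
  rw [← Γ_smulMod A _ a x, ← h1, Functor.map_zero]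
  rfl

end Affine

section Main

variable {A : Type u} [CommRing A] [IsNoetherianRing A] (𝔞 : Ideal A)

attribute [local instance] idOver

/-- a finite submodule of `H⁰(U, F)` generating `F`. -/
structure GenData
    (F : ((LocCoh.puncturedOpen A 𝔞 : (Spec (CommRingCat.of A)).Opens) : Scheme.{u}).Modules) where
  N : ModuleCat.{u} A
  fin : Module.Finite A N
  ι : N ⟶ (Rf A (LocCoh.puncturedOpen A 𝔞)).obj F
  inj : Function.Injective ι.hom
  gen : IsGenMap (LocCoh.puncturedOpen A 𝔞) ι

open ModLim in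
theorem exists_module_system (I : Ideal A)
    [hU : (LocCoh.puncturedOpen A 𝔞).toScheme.Over (Spec (CommRingCat.of A))]
    (hc : ((LocCoh.puncturedOpen A 𝔞).toScheme ↘ Spec (CommRingCat.of A)) =
      (LocCoh.puncturedOpen A 𝔞).ι ≫ (Spec (CommRingCat.of A) ↘ Spec (CommRingCat.of A)))
    (F : ℕᵒᵖ ⥤ ((LocCoh.puncturedOpen A 𝔞 : (Spec (CommRingCat.of A)).Opens) : Scheme.{u}).Modules)
    (hF : Formal.IsCohFormal I F) :
    ∃ (M : ℕ → ModuleCat.{u} A) (g : ∀ n, M (n + 1) ⟶ M n),
      (∀ n, Module.Finite A (M n)) ∧ (∀ n, ∀ a ∈ I ^ (n + 1), ∀ x : M n, a • x = 0) ∧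
      (∀ n (x : M (n + 1)), (g n).hom x = 0 →
        ∃ m : ℕ, ∀ a ∈ 𝔞 ^ m, a • x ∈ I ^ (n + 1) • (⊤ : Submodule A (M (n + 1)))) ∧
      (∀ n (y : M n), ∃ m : ℕ, ∀ a ∈ 𝔞 ^ m, a • y ∈ LinearMap.range (g n).hom) ∧
      Nonempty (F ≅ Functor.ofOpSequence
        (X := fun n => (Lf A (LocCoh.puncturedOpen A 𝔞)).obj (M n))
        (fun n => (Lf A (LocCoh.puncturedOpen A 𝔞)).map (g n))) := by
  let U := LocCoh.puncturedOpen A 𝔞
  haveI : TopologicalSpace.NoetherianSpace (Spec (CommRingCat.of A)) :=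
    inferInstanceAs (TopologicalSpace.NoetherianSpace (PrimeSpectrum A))
  have hUc : IsCompact ((U : (Spec (CommRingCat.of A)).Opens) : Set (Spec (CommRingCat.of A))) :=
    TopologicalSpace.NoetherianSpace.isCompact _
  haveI : (Lf A U).IsLeftAdjoint := (sadj A U).isLeftAdjoint
  -- the recursion
  obtain ⟨N0, hN0, ι0, hι0, hgen0⟩ := exists_isGenMap U hUc (F.obj (op 0)) (hF.1 0)
  have hstep : ∀ (n : ℕ) (D : GenData 𝔞 (F.obj (op n))),
      ∃ (D' : GenData 𝔞 (F.obj (op (n + 1)))) (g : D'.N ⟶ D.N),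
        g ≫ D.ι = D'.ι ≫ (Rf A U).map (F.map (homOfLE (Nat.le_succ n)).op) := by
    intro n D
    obtain ⟨N', hN', ι', g, hι', hgen', hg⟩ := exists_step 𝔞 hUc (hF.1 n) (hF.1 (n + 1))
      (F.map (homOfLE (Nat.le_succ n)).op) D.ι D.inj D.gen
    exact ⟨⟨N', hN', ι', hι', hgen'⟩, g, hg⟩
  choose nxt gg hgg using hstep
  let D : ∀ n, GenData 𝔞 (F.obj (op n)) := fun n =>
    Nat.rec (motive := fun n => GenData 𝔞 (F.obj (op n))) ⟨N0, hN0, ι0, hι0, hgen0⟩
      (fun n Dn => nxt n Dn) n
  have hD : ∀ n, D (n + 1) = nxt n (D n) := fun n => rfl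
  let M : ℕ → ModuleCat.{u} A := fun n => (D n).N
  let g : ∀ n, M (n + 1) ⟶ M n := fun n => gg n (D n)
  have hg : ∀ n, g n ≫ (D n).ι = (D (n + 1)).ι ≫ (Rf A U).map (F.map (homOfLE (Nat.le_succ n)).op) :=
    fun n => hgg n (D n)
  haveI hfin : ∀ n, Module.Finite A (M n) := fun n => (D n).fin
  haveI hqc : ∀ n, (F.obj (op n)).IsQuasicoherent := fun n => (hF.1 n).1
  -- the isomorphisms `ε_n`
  let ε : ∀ n, (Lf A U).obj (M n) ⟶ F.obj (op n) := fun n =>
    ((sadj A U).homEquiv (M n) (F.obj (op n))).symm (D n).ι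
  haveI hε : ∀ n, IsIso (ε n) := fun n => (D n).gen
  have hnat : ∀ n, (Lf A U).map (g n) ≫ ε n = ε (n + 1) ≫ F.map (homOfLE (Nat.le_succ n)).op := by
    intro n
    change (Lf A U).map (g n) ≫ ((sadj A U).homEquiv _ _).symm (D n).ι =
      ((sadj A U).homEquiv _ _).symm (D (n + 1)).ι ≫ _
    rw [← Adjunction.homEquiv_naturality_left_symm, ← Adjunction.homEquiv_naturality_right_symm,
      hg n]
  have hkill : ∀ n, ∀ a ∈ I ^ (n + 1), ∀ x : M n, a • x = 0 := by
    intro n a ha x
    apply (D n).inj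
    rw [map_smul, map_zero]
    exact smul_Rf_eq_zero U hc (hF.2.1 n) a ha _
  -- `Lf (g n)` is a cokernel of `I^(n+1)`
  have hcok : ∀ n, IsCokerOf (I ^ (n + 1)) ((Lf A U).map (g n)) := by
    intro n
    haveI hε1 : IsIso (ε (n + 1)) := hε (n + 1)
    haveI hε0 : IsIso (ε n) := hε n
    have h1 : (Lf A U).map (g n) = (asIso (ε (n + 1))).hom ≫
        F.map (homOfLE (Nat.le_succ n)).op ≫ (asIso (ε n)).symm.hom := by
      change _ = ε (n + 1) ≫ _ ≫ inv (ε n)
      rw [← Category.assoc, ← hnat n, Category.assoc, IsIso.hom_inv_id, Category.comp_id]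
    rw [h1]
    exact ((isCokerOf_succ hF n).comp_iso (asIso (ε n)).symm).iso_comp (asIso (ε (n + 1)))
  refine ⟨M, g, hfin, hkill, fun n x hx => ?_, fun n y => ?_, ?_⟩
  · -- kernel
    let Q : ModuleCat.{u} A := (quotSys I (M (n + 1))).obj (op n)
    let q : M (n + 1) ⟶ Q := qmk I (M (n + 1)) n
    have hqs : Function.Surjective q.hom := qmk_surjective I (M (n + 1)) n
    have hqk : LinearMap.ker q.hom ≤ LinearMap.ker (g n).hom := by
      rw [ker_qmk, Submodule.smul_le]
      intro a ha z _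
      rw [LinearMap.mem_ker, map_smul]
      exact hkill n a ha _
    obtain ⟨gb, hgb⟩ := ModLim.exists_factor_of_ker_le q hqs (g n) hqk
    have hq1 : IsCokerOf (I ^ (n + 1)) ((Lf A U).map q) :=
      isCokerOf_restrict U hc (isCokerOf_tilde_map_qmk I (M (n + 1)) n)
    obtain ⟨e, he⟩ := hq1.exists_iso (hcok n)
    haveI : Epi ((Lf A U).map q) := hq1.1
    have hgbiso : (Lf A U).map gb = e.hom := by
      rw [← cancel_epi ((Lf A U).map q), he, ← Functor.map_comp, hgb]
    haveI : IsIso ((Lf A U).map gb) := by rw [hgbiso]; infer_instance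
    let K : ModuleCat.{u} A := kernel gb
    let κ : K ⟶ Q := kernel.ι gb
    have hκ : Function.Injective κ.hom := (ModuleCat.mono_iff_injective κ).1 inferInstance
    haveI := mono_Lf_map U κ hκ
    have hκ0 : (Lf A U).map κ = 0 := by
      have h1 : (Lf A U).map κ ≫ (Lf A U).map gb = 0 := by
        rw [← Functor.map_comp, kernel.condition, Functor.map_zero]
      exact (cancel_mono ((Lf A U).map gb)).1 (h1.trans zero_comp.symm)
    have hKz : IsZero ((Lf A U).obj K) := IsZero.of_mono_eq_zero _ hκ0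
    haveI hfin1 : Module.Finite A (M (n + 1)) := hfin (n + 1)
    haveI : Module.Finite A Q := Module.Finite.of_surjective q.hom hqs
    haveI : Module.Finite A K := Module.Finite.of_injective κ.hom hκ
    obtain ⟨m, hm⟩ := exists_pow_smul_eq_zero 𝔞 K hKz
    refine ⟨m, fun a ha => ?_⟩
    have h1 : gb.hom (q.hom x) = 0 := by
      have := congrArg (fun t => t.hom x) hgb
      exact this.trans hx
    obtain ⟨k₀, hk₀⟩ := exists_of_comp_eq_zero gb (q.hom x) h1
    have h2 : q.hom (a • x) = 0 := by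
      rw [map_smul, ← hk₀, ← map_smul, hm a ha k₀, map_zero]
    have h3 : a • x ∈ LinearMap.ker q.hom := h2
    rw [ker_qmk] at h3
    exact h3
  · -- cokernel
    let C : ModuleCat.{u} A := cokernel (g n)
    let q : M n ⟶ C := cokernel.π (g n)
    haveI : Epi ((Lf A U).map (g n)) := (hcok n).1
    have hq0 : (Lf A U).map q = 0 := by
      have h1 : (Lf A U).map (g n) ≫ (Lf A U).map q = 0 := by
        rw [← Functor.map_comp, cokernel.condition, Functor.map_zero]
      exact (cancel_epi ((Lf A U).map (g n))).1 (h1.trans comp_zero.symm)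
    haveI : Epi ((Lf A U).map q) := inferInstance
    have hCz : IsZero ((Lf A U).obj C) := IsZero.of_epi_eq_zero _ hq0
    have hqs : Function.Surjective q.hom := (ModuleCat.epi_iff_surjective q).1 inferInstance
    haveI : Module.Finite A C := Module.Finite.of_surjective q.hom hqs
    obtain ⟨m, hm⟩ := exists_pow_smul_eq_zero 𝔞 C hCz
    refine ⟨m, fun a ha => ?_⟩
    have h1 : q.hom (a • y) = 0 := by rw [map_smul]; exact hm a ha _
    obtain ⟨x, hx⟩ := exists_of_cokernel_π_eq_zero (g n) (a • y) h1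
    exact ⟨x, hx⟩
  · -- the isomorphism of systems
    let S : ℕᵒᵖ ⥤ (U : Scheme.{u}).Modules := Functor.ofOpSequence
      (X := fun n => (Lf A U).obj (M n)) (fun n => (Lf A U).map (g n))
    let τ : S ⟶ F := NatTrans.ofOpSequence (fun n => ε n) (by
      intro n
      have e1 : S.map (homOfLE (n.le_add_right 1)).op = (Lf A U).map (g n) :=
        Functor.ofOpSequence_map_homOfLE_succ _ n
      rw [e1]
      exact hnat n)
    haveI : ∀ x : ℕᵒᵖ, IsIso (τ.app x) := fun x => by
      change IsIso (ε x.unop)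
      infer_instance
    haveI : IsIso τ := NatIso.isIso_of_isIso_app τ
    exact ⟨(asIso τ).symm⟩

end Main

end Groth.Agent.Helper14.CohFormal
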