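import Mathlib
import Groth.Agent.Lib.Helper14.CohFormalT
import Groth.Agent.Lib.Helper13.FinAffine2

set_option autoImplicit false
universe u
open CategoryTheory CategoryTheory.Limits AlgebraicGeometry Opposite TopologicalSpace
open Finset

namespace Groth.Agent.Helper14.CohFormal

section Alg2

variable {B : Type*} [CommRing B] [IsNoetherianRing B] (𝔟 : Ideal B)
  {M : Type*} [AddCommGroup M] [Module B M] [Module.Finite B M]

/-- the `J`-torsion submodule. -/
def torsionSub (J : Ideal B) (M : Type*) [AddCommGroup M] [Module B M] : Submodule B M where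
  carrier := {y | ∀ b ∈ J, b • y = 0}
  add_mem' := fun {x y} hx hy b hb => by rw [smul_add, hx b hb, hy b hb, add_zero]
  zero_mem' := fun b _ => smul_zero b
  smul_mem' := fun r y hy b hb => by rw [smul_comm, hy b hb, smul_zero]

omit [IsNoetherianRing B] [Module.Finite B M] in
lemma mem_torsionSub {J : Ideal B} {y : M} : y ∈ torsionSub J M ↔ ∀ b ∈ J, b • y = 0 := Iff.rfl

lemma exists_pow_inf_torsion_eq_bot (c : ℕ) :
    ∃ n₀ : ℕ, ∀ y : M, y ∈ torsionSub (𝔟 ^ c) M → y ∈ 𝔟 ^ n₀ • (⊤ : Submodule B M) → y = 0 := by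
  obtain ⟨k, hk⟩ := Ideal.exists_pow_inf_eq_pow_smul 𝔟 (torsionSub (𝔟 ^ c) M)
  refine ⟨k + c, fun y hy1 hy2 => ?_⟩
  have h1 : y ∈ 𝔟 ^ (k + c) • (⊤ : Submodule B M) ⊓ torsionSub (𝔟 ^ c) M := ⟨hy2, hy1⟩
  rw [hk (k + c) (Nat.le_add_right k c), Nat.add_sub_cancel_left] at h1
  have h2 : 𝔟 ^ c • (𝔟 ^ k • (⊤ : Submodule B M) ⊓ torsionSub (𝔟 ^ c) M) ≤ ⊥ := by
    rw [Submodule.smul_le]
    intro b hb z hz
    rw [Submodule.mem_bot]
    exact hz.2 b hb
  exact (Submodule.mem_bot B).1 (h2 h1)

omit [IsNoetherianRing B] [Module.Finite B M] in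
lemma pi_mem_smul_top {r : ℕ} (J : Ideal B) (f : Fin r → M)
    (hf : ∀ j, f j ∈ J • (⊤ : Submodule B M)) : f ∈ J • (⊤ : Submodule B (Fin r → M)) := by
  have e : f = ∑ j, LinearMap.single B (fun _ : Fin r => M) j (f j) := by
    funext i
    rw [Finset.sum_apply]
    simp [Pi.single_apply]
  rw [e]
  refine Submodule.sum_mem _ (fun j _ => ?_)
  have h1 : LinearMap.single B (fun _ : Fin r => M) j (f j) ∈
      Submodule.map (LinearMap.single B (fun _ : Fin r => M) j) (J • (⊤ : Submodule B M)) :=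
    Submodule.mem_map_of_mem (hf j)
  rw [Submodule.map_smul''] at h1
  exact Submodule.smul_mono le_rfl le_top h1

/-- lifting a compatible torsion family in an adic quotient system of a finite module. -/
theorem exists_torsion_lift (c : ℕ)
    {Q : ℕ → Type*} [∀ n, AddCommGroup (Q n)] [∀ n, Module B (Q n)]
    (π : ∀ n, M →ₗ[B] Q n) (hπ : ∀ n, Function.Surjective (π n))
    (hker : ∀ n, LinearMap.ker (π n) ≤ 𝔟 ^ (n + 1) • ⊤)
    (hker' : ∀ n, 𝔟 ^ (n + 1) • ⊤ ≤ LinearMap.ker (π n))
    (ℓ : ∀ n, Q n) (hℓ : ∀ n (y : M), π (n + 1) y = ℓ (n + 1) → π n y = ℓ n)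
    (htors : ∀ n, ∀ b ∈ 𝔟 ^ c, b • ℓ n = 0) :
    ∃ y : M, y ∈ torsionSub (𝔟 ^ c) M ∧ ∀ n, π n y = ℓ n := by
  classical
  obtain ⟨r, g, hg⟩ := (Submodule.fg_iff_exists_fin_generating_family).1
    (IsNoetherian.noetherian (𝔟 ^ c))
  have hg' : Ideal.span (Set.range g) = 𝔟 ^ c := hg
  -- compatibility
  have hcomp : ∀ {a b : ℕ}, a ≤ b → ∀ y : M, π b y = ℓ b → π a y = ℓ a := by
    intro a b hab
    induction b, hab using Nat.le_induction with
    | base => exact fun y hy => hy
    | succ b _ ih => exact fun y hy => ih y (hℓ b y hy)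
  let θ : M →ₗ[B] (Fin r → M) := LinearMap.pi (fun j => LinearMap.lsmul B M (g j))
  have hθ : ∀ y j, θ y j = g j • y := fun y j => rfl
  have hkerθ : ∀ y, θ y = 0 → y ∈ torsionSub (𝔟 ^ c) M := by
    intro y hy b hb
    rw [← hg'] at hb
    obtain ⟨cf, rfl⟩ := (Ideal.mem_span_range_iff_exists_fun).1 hb
    rw [Finset.sum_smul]
    refine Finset.sum_eq_zero (fun j _ => ?_)
    rw [mul_smul, ← hθ, hy]
    simp
  obtain ⟨k, hk⟩ := Ideal.exists_pow_inf_eq_pow_smul 𝔟 (LinearMap.range θ)
  -- (*) approximate torsion lifts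
  have hstar : ∀ n, ∃ y' : M, y' ∈ torsionSub (𝔟 ^ c) M ∧ π n y' = ℓ n := by
    intro n
    obtain ⟨ym, hym⟩ := hπ (n + k) (ℓ (n + k))
    have h1 : θ ym ∈ 𝔟 ^ (n + k + 1) • (⊤ : Submodule B (Fin r → M)) := by
      apply pi_mem_smul_top
      intro j
      apply hker (n + k)
      rw [LinearMap.mem_ker, hθ, map_smul, hym]
      apply htors
      rw [← hg']
      exact Ideal.subset_span (Set.mem_range_self j)
    have h2 : θ ym ∈ 𝔟 ^ (n + k + 1) • (⊤ : Submodule B (Fin r → M)) ⊓ LinearMap.range θ :=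
      ⟨h1, LinearMap.mem_range_self θ ym⟩
    rw [hk (n + k + 1) (by omega)] at h2
    have e : n + k + 1 - k = n + 1 := by omega
    rw [e] at h2
    have h3 : θ ym ∈ 𝔟 ^ (n + 1) • LinearMap.range θ :=
      Submodule.smul_mono le_rfl inf_le_right h2
    rw [LinearMap.range_eq_map, ← Submodule.map_smul''] at h3
    obtain ⟨w, hw, hw'⟩ := h3
    refine ⟨ym - w, hkerθ _ (by rw [map_sub, hw', sub_self]), ?_⟩
    rw [map_sub, hcomp (Nat.le_add_right n k) ym hym]
    have : π n w = 0 := hker' n hw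
    rw [this, sub_zero]
  obtain ⟨n₀, hn₀⟩ := exists_pow_inf_torsion_eq_bot (M := M) 𝔟 c
  obtain ⟨y, hyT, hy⟩ := hstar n₀
  refine ⟨y, hyT, fun n => ?_⟩
  rcases le_total n n₀ with h | h
  · exact hcomp h y hy
  · obtain ⟨y', hyT', hy'⟩ := hstar n
    have h1 : π n₀ (y' - y) = 0 := by
      rw [map_sub, hcomp h y' hy', hy, sub_self]
    have h2 : y' - y ∈ 𝔟 ^ n₀ • (⊤ : Submodule B M) :=
      Submodule.smul_mono_left (Ideal.pow_le_pow_right (Nat.le_succ n₀)) (hker n₀ h1)
    have h3 := hn₀ (y' - y) (Submodule.sub_mem _ hyT' hyT) h2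
    rw [sub_eq_zero] at h3
    rw [← h3]
    exact hy'

lemma eq_zero_of_torsion_of_forall_mem (c : ℕ) (y : M) (hy : y ∈ torsionSub (𝔟 ^ c) M)
    (h : ∀ n, y ∈ 𝔟 ^ (n + 1) • (⊤ : Submodule B M)) : y = 0 := by
  obtain ⟨n₀, hn₀⟩ := exists_pow_inf_torsion_eq_bot (M := M) 𝔟 c
  exact hn₀ y hy (Submodule.smul_mono_left (Ideal.pow_le_pow_right (Nat.le_succ n₀)) (h n₀))

end Alg2

section LiftSucc

variable {C : Type*} [Category C] (G : ℕᵒᵖ ⥤ C) [HasLimit G]

/-- a map to the limit of a tower from a family compatible with the successor transitions. -/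
noncomputable def liftOfSucc {T : C} (χ : ∀ k : ℕ, T ⟶ G.obj (op k))
    (h : ∀ k, χ (k + 1) ≫ G.map (homOfLE (Nat.le_succ k)).op = χ k) : T ⟶ limit G :=
  limit.lift G ⟨T, NatTrans.ofOpSequence (fun k => χ k) (by
    intro k
    change 𝟙 T ≫ χ k = χ (k + 1) ≫ G.map (homOfLE (Nat.le_succ k)).op
    rw [Category.id_comp, h k])⟩

@[reassoc (attr := simp)]
lemma liftOfSucc_π {T : C} (χ : ∀ k : ℕ, T ⟶ G.obj (op k))
    (h : ∀ k, χ (k + 1) ≫ G.map (homOfLE (Nat.le_succ k)).op = χ k) (k : ℕ) :
    liftOfSucc G χ h ≫ limit.π G (op k) = χ k :=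
  limit.lift_π _ _

end LiftSucc

section Torsion

variable {A : Type u} [CommRing A] {X : Scheme.{u}} [X.Over (Spec (CommRingCat.of A))]

/-- sections killed by `J`. -/
def IsTors (J : Ideal A) (G : X.Modules) (V : X.Opens) (y : Γ(G, V)) : Prop :=
  ∀ a ∈ J, toΓ (A := A) V a • y = 0

lemma isTors_add {J : Ideal A} {G : X.Modules} {V : X.Opens} {x y : Γ(G, V)}
    (hx : IsTors J G V x) (hy : IsTors J G V y) : IsTors J G V (x + y) := fun a ha => by
  rw [smul_add, hx a ha, hy a ha, add_zero]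

lemma isTors_zero {J : Ideal A} {G : X.Modules} {V : X.Opens} : IsTors J G V 0 :=
  fun _ _ => smul_zero _

lemma isTors_smul {J : Ideal A} {G : X.Modules} {V : X.Opens} (r : Γ(X, V)) {y : Γ(G, V)}
    (hy : IsTors J G V y) : IsTors J G V (r • y) := fun a ha => by
  rw [smul_comm, hy a ha, smul_zero]

lemma isTors_res {J : Ideal A} {G : X.Modules} {V W : X.Opens} (h : W ≤ V) {y : Γ(G, V)}
    (hy : IsTors J G V y) : IsTors J G W (G.presheaf.map (homOfLE h).op y) := fun a ha => by
  rw [← toΓ_res h, ← Scheme.Modules.map_smul, hy a ha, map_zero]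

/-- the sub-presheaf of sections killed by `J`. -/
noncomputable def torSub (J : Ideal A) (G : X.Modules) : PresheafOfModules.Submodule G.val where
  obj V :=
    { carrier := {y | IsTors J G V.unop y}
      add_mem' := fun hx hy => isTors_add hx hy
      zero_mem' := isTors_zero
      smul_mem' := fun r _ hy => isTors_smul r hy }
  map := by
    intro V W f y hy
    exact isTors_res (leOfHom f.unop) hy

open Groth.Agent.Helper13.FinType in
lemma isLocalSub_torSub (J : Ideal A) (G : X.Modules) : IsLocalSub G (torSub J G) := by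
  intro V y h a ha
  apply TopCat.Sheaf.eq_of_locally_eq' ⟨G.presheaf, G.isSheaf⟩
    (fun p : V => (h p.1 p.2).choose) V (fun p => homOfLE (h p.1 p.2).choose_spec.choose)
  · intro p hp
    exact Opens.mem_iSup.2 ⟨⟨p, hp⟩, (h p hp).choose_spec.choose_spec.1⟩
  · intro p
    have h1 := (h p.1 p.2).choose_spec.choose_spec.2 a ha
    rw [map_zero]
    refine (Scheme.Modules.map_smul G (homOfLE (h p.1 p.2).choose_spec.choose) _ _).trans ?_
    rw [toΓ_res]
    exact h1

lemma smul_eq_zero_of_isTors {J : Ideal A} {G : X.Modules} {U : X.Opens} {y : Γ(G, U)}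
    (hy : IsTors J G U y) (b : Γ(X, U)) (hb : b ∈ Ideal.map (toΓ (A := A) U) J) : b • y = 0 := by
  induction hb using Submodule.span_induction with
  | mem b hb =>
    obtain ⟨a, ha, rfl⟩ := hb
    exact hy a ha
  | zero => exact zero_smul _ _
  | add b₁ b₂ _ _ h₁ h₂ => rw [add_smul, h₁, h₂, add_zero]
  | smul r b₁ _ h₁ => rw [smul_eq_mul, mul_smul, h₁, smul_zero]

end Torsion

section Main

variable {A : Type u} [CommRing A] {X : Scheme.{u}} [X.Over (Spec (CommRingCat.of A))]
  [IsNoetherian X]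

open Groth.Agent.Helper13.FinType

lemma eq_zero_of_isTors_of_modPowπ_affine {I : Ideal A} {c : ℕ} {G : X.Modules}
    (hG : Coh.IsCoh G) {U : X.Opens} (hU : IsAffineOpen U) (m : Γ(G, U))
    (h1 : IsTors (I ^ c) G U m) (h2 : ∀ n, (Formal.modPowπ I (n + 1) G).app U m = 0) : m = 0 := by
  haveI := hG.1
  haveI := hG.2
  haveI : IsNoetherianRing Γ(X, U) := IsLocallyNoetherian.component_noetherian ⟨U, hU⟩
  haveI : Module.Finite Γ(X, U) Γ(G, U) := finite_sections_of_isFiniteType G hU
  apply eq_zero_of_torsion_of_forall_mem (Ideal.map (toΓ (A := A) U) I) c m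
  · intro b hb
    rw [← Ideal.map_pow] at hb
    exact smul_eq_zero_of_isTors h1 b hb
  · intro n
    have := mem_smulSec_of_isCokerOf hU (isCokerOf_π (I ^ (n + 1)) G) m (h2 n)
    unfold smulSec at this
    rwa [Ideal.map_pow] at this

theorem eq_zero_of_isTors_of_modPowπ {I : Ideal A} {c : ℕ} {G : X.Modules}
    (hG : Coh.IsCoh G) (V : X.Opens) (m : Γ(G, V))
    (h1 : IsTors (I ^ c) G V m) (h2 : ∀ n, (Formal.modPowπ I (n + 1) G).app V m = 0) : m = 0 := by
  have hex : ∀ y : V, ∃ W : X.Opens, IsAffineOpen W ∧ y.1 ∈ W ∧ W ≤ V := by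
    intro y
    obtain ⟨_, ⟨W, hW, rfl⟩, hyW, hWV⟩ :=
      X.isBasis_affineOpens.exists_subset_of_mem_open y.2 V.2
    exact ⟨W, hW, hyW, hWV⟩
  choose W hW hyW hWV using hex
  apply TopCat.Sheaf.eq_of_locally_eq' ⟨G.presheaf, G.isSheaf⟩ W V (fun y => homOfLE (hWV y))
  · intro y hy
    exact Opens.mem_iSup.2 ⟨⟨y, hy⟩, hyW ⟨y, hy⟩⟩
  · intro y
    rw [map_zero]
    apply eq_zero_of_isTors_of_modPowπ_affine hG (hW y) _ (isTors_res (hWV y) h1)
    intro n
    have := (Formal.modPowπ I (n + 1) G).mapPresheaf.naturality (homOfLE (hWV y)).op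
    have e := congr($this m)
    refine e.trans ?_
    change (Formal.modPow I (n + 1) G).presheaf.map _ ((Formal.modPowπ I (n + 1) G).app V m) = 0
    rw [h2 n, map_zero]

omit [AlgebraicGeometry.IsNoetherian X] in
lemma tr_completion_succ (I : Ideal A) (G : X.Modules) (k : ℕ) :
    (Formal.completion I G).map (homOfLE (Nat.le_succ k)).op = Formal.modPowTrans I (k + 1) G :=
  Functor.ofOpSequence_map_homOfLE_succ _ k

/-- the canonical map to the limit of the quotients. -/
noncomputable def toLimCompletion (I : Ideal A) (G : X.Modules) :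
    G ⟶ limit (Formal.completion I G) :=
  liftOfSucc (Formal.completion I G) (fun k => Formal.modPowπ I (k + 1) G) (fun k => by
    rw [tr_completion_succ]
    exact Formal.modPowπ_trans I (k + 1) G)

omit [AlgebraicGeometry.IsNoetherian X] in
@[reassoc (attr := simp)]
lemma toLimCompletion_π (I : Ideal A) (G : X.Modules) (k : ℕ) :
    toLimCompletion I G ≫ limit.π (Formal.completion I G) (op k) = Formal.modPowπ I (k + 1) G :=
  liftOfSucc_π _ _ _ k

open Groth.Agent.Helper13.QCoh in
/-- maps from a module killed by a power of `I` to a coherent module are the same as compatible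
families of maps to the quotients. -/
theorem existsUnique_of_killedBy_source (I : Ideal A) (c : ℕ) {F G : X.Modules}
    (hF : Formal.KilledBy (I ^ c) F) (hG : Coh.IsCoh G)
    (χ : ∀ n : ℕ, F ⟶ Formal.modPow I (n + 1) G)
    (hχ : ∀ n, χ (n + 1) ≫ Formal.modPowTrans I (n + 1) G = χ n) :
    ∃! φ : F ⟶ G, ∀ n, χ n = φ ≫ Formal.modPowπ I (n + 1) G := by
  haveI := hG.1
  haveI := hG.2
  -- sections of `F` are torsion
  have hFt : ∀ (V : X.Opens) (s : Γ(F, V)) (a : A), a ∈ I ^ c → toΓ (A := A) V a • s = 0 :=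
    fun V s a ha => (smulMod_eq_zero_iff F a).1 (hF a ha) V s
  have huniq : ∀ φ : F ⟶ G, (∀ n, φ ≫ Formal.modPowπ I (n + 1) G = 0) → φ = 0 := by
    intro φ hφ
    apply Scheme.Modules.hom_ext
    intro V
    ext s
    change φ.app V s = 0
    apply eq_zero_of_isTors_of_modPowπ hG V _ (c := c) (I := I)
    · intro a ha
      rw [← Scheme.Modules.Hom.app_smul, hFt V s a ha, map_zero]
    · intro n
      exact congrArg (fun θ => θ.app V s) (hφ n)
  let Gs := Formal.completion I G
  let κ := toLimCompletion I G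
  let ψh : F ⟶ limit Gs := liftOfSucc Gs χ (fun k => by
    rw [tr_completion_succ]; exact hχ k)
  let hT := isLocalSub_torSub (I ^ c) G
  let ιT := subsheafι G (torSub (I ^ c) G) hT
  let μ := ιT ≫ κ
  have hμπ : ∀ n, μ ≫ limit.π Gs (op n) = ιT ≫ Formal.modPowπ I (n + 1) G := fun n =>
    (Category.assoc ιT κ _).trans (congrArg (fun θ => ιT ≫ θ) (toLimCompletion_π I G n))
  haveI hμ : Mono μ := by
    rw [mono_iff_app_injective]
    intro V
    rw [injective_iff_map_eq_zero]
    intro t ht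
    apply subsheafι_app_injective G (torSub (I ^ c) G) hT V
    rw [map_zero]
    apply eq_zero_of_isTors_of_modPowπ hG V _ (c := c) (I := I)
    · exact subsheafι_app_mem G (torSub (I ^ c) G) hT V t
    · intro n
      have := congrArg (fun θ => θ.app V t) (hμπ n)
      refine this.symm.trans ?_
      change (limit.π Gs (op n)).app V (μ.app V t) = 0
      rw [ht, map_zero]
  -- the map to the limit factors through the torsion part
  have hfac : ψh ≫ cokernel.π μ = 0 := by
    apply hom_eq_zero_of_affine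
    intro U hU s
    haveI : IsNoetherianRing Γ(X, U) := IsLocallyNoetherian.component_noetherian ⟨U, hU⟩
    haveI : Module.Finite Γ(X, U) Γ(G, U) := finite_sections_of_isFiniteType G hU
    have hqc : ∀ n, (Formal.modPow I (n + 1) G).IsQuasicoherent := fun n =>
      ((isCohFormal_completion I hG).1 n).1
    obtain ⟨y, hyT, hy⟩ := exists_torsion_lift (Ideal.map (toΓ (A := A) U) I) (M := Γ(G, U)) c
      (Q := fun n => Γ(Formal.modPow I (n + 1) G, U))
      (fun n => appLin (Formal.modPowπ I (n + 1) G) U)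
      (fun n => by
        haveI := hqc n
        haveI : Epi (Formal.modPowπ I (n + 1) G) := (isCokerOf_π (I ^ (n + 1)) G).1
        exact Groth.Agent.Helper13.AffSurj.surjective_app_of_epi _ hU)
      (fun n m hm => by
        have := mem_smulSec_of_isCokerOf hU (isCokerOf_π (I ^ (n + 1)) G) m hm
        unfold smulSec at this
        rwa [Ideal.map_pow] at this)
      (fun n => by
        rw [Submodule.smul_le]
        intro b hb m _
        rw [LinearMap.mem_ker, map_smul]
        rw [← Ideal.map_pow] at hb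
        exact smul_eq_zero_of_mem_map_self (killedBy_modPow I (n + 1) G) b hb _)
      (fun n => (χ n).app U s)
      (fun n m hm => by
        have e1 : (Formal.modPowπ I (n + 1) G).app U m =
            (Formal.modPowTrans I (n + 1) G).app U ((Formal.modPowπ I (n + 1 + 1) G).app U m) :=
          (congrArg (fun θ => θ.app U m) (Formal.modPowπ_trans I (n + 1) G)).symm
        have e2 : (χ n).app U s = (Formal.modPowTrans I (n + 1) G).app U ((χ (n + 1)).app U s) :=
          (congrArg (fun θ => θ.app U s) (hχ n)).symm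
        change (Formal.modPowπ I (n + 1) G).app U m = (χ n).app U s
        rw [e1, e2]
        exact congrArg _ hm)
      (fun n b hb => by
        rw [← Ideal.map_pow] at hb
        rw [← Scheme.Modules.Hom.app_smul, smul_eq_zero_of_mem_map_self hF b hb s, map_zero])
    have hyT' : y ∈ (torSub (I ^ c) G).obj (op U) := by
      intro a ha
      exact hyT _ (by rw [← Ideal.map_pow]; exact Ideal.mem_map_of_mem _ ha)
    obtain ⟨t, ht⟩ := exists_of_mem G (torSub (I ^ c) G) hT U y hyT'
    have e1 : ψh.app U s = μ.app U t := by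
      apply limit_section_ext Gs U
      intro k
      have a1 : (limit.π Gs (op k)).app U (ψh.app U s) = (χ k).app U s :=
        congrArg (fun θ => θ.app U s) (liftOfSucc_π Gs χ _ k)
      have a2 : (limit.π Gs (op k)).app U (μ.app U t) =
          (Formal.modPowπ I (k + 1) G).app U (ιT.app U t) :=
        congrArg (fun θ => θ.app U t) (hμπ k)
      rw [a1, a2, ht]
      exact (hy k).symm
    change (cokernel.π μ).app U (ψh.app U s) = 0
    rw [e1]
    exact congrArg (fun θ => θ.app U t) (cokernel.condition μ)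
  let hker := Abelian.monoIsKernelOfCokernel (CokernelCofork.ofπ (cokernel.π μ) (cokernel.condition μ))
    (cokernelIsCokernel μ)
  let lam : F ⟶ subsheaf G (torSub (I ^ c) G) hT := hker.lift (KernelFork.ofι ψh hfac)
  have hlam : lam ≫ μ = ψh := hker.fac _ WalkingParallelPair.zero
  have hmain : ∀ n, (lam ≫ ιT) ≫ Formal.modPowπ I (n + 1) G = χ n := fun n =>
    (Category.assoc _ _ _).trans ((congrArg (fun θ => lam ≫ θ) (hμπ n).symm).trans
      ((Category.assoc _ _ _).symm.trans
        ((congrArg (fun θ => θ ≫ limit.π Gs (op n)) hlam).trans (liftOfSucc_π Gs χ _ n))))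
  refine ⟨lam ≫ ιT, fun n => (hmain n).symm, fun φ' hφ' => ?_⟩
  rw [← sub_eq_zero]
  apply huniq
  intro n
  rw [Preadditive.sub_comp, ← hφ' n, hmain n, sub_self]

omit [AlgebraicGeometry.IsNoetherian X] in
/-- maps to a module killed by a power of `I` are the same as compatible families of maps to
the quotients. -/
theorem existsUnique_of_killedBy_target (I : Ideal A) (c : ℕ) {F G : X.Modules}
    (hG : Formal.KilledBy (I ^ c) G)
    (χ : ∀ n : ℕ, F ⟶ Formal.modPow I (n + 1) G)
    (hχ : ∀ n, χ (n + 1) ≫ Formal.modPowTrans I (n + 1) G = χ n) :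
    ∃! φ : F ⟶ G, ∀ n, χ n = φ ≫ Formal.modPowπ I (n + 1) G := by
  have hiso : ∀ n, c ≤ n + 1 → IsIso (Formal.modPowπ I (n + 1) G) := fun n hn =>
    (isCokerOf_π (I ^ (n + 1)) G).isIso_of_killedBy
      (killedBy_of_le (Ideal.pow_le_pow_right hn) hG)
  haveI := hiso c (Nat.le_succ c)
  -- descending
  have hdesc : ∀ (φ : F ⟶ G) (n : ℕ), χ (n + 1) = φ ≫ Formal.modPowπ I (n + 1 + 1) G →
      χ n = φ ≫ Formal.modPowπ I (n + 1) G := by
    intro φ n h
    rw [← hχ n, h, Category.assoc, Formal.modPowπ_trans]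
  have hdesc' : ∀ (φ : F ⟶ G) {a b : ℕ}, a ≤ b → χ b = φ ≫ Formal.modPowπ I (b + 1) G →
      χ a = φ ≫ Formal.modPowπ I (a + 1) G := by
    intro φ a b hab
    induction b, hab using Nat.le_induction with
    | base => exact fun h => h
    | succ b _ ih => exact fun h => ih (hdesc φ b h)
  -- ascending
  have hasc : ∀ (φ : F ⟶ G) (n : ℕ), c ≤ n + 1 → χ n = φ ≫ Formal.modPowπ I (n + 1) G →
      χ (n + 1) = φ ≫ Formal.modPowπ I (n + 1 + 1) G := by
    intro φ n hn h
    haveI := hiso n hn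
    haveI := hiso (n + 1) (hn.trans (Nat.le_succ _))
    have hT : IsIso (Formal.modPowTrans I (n + 1) G) := by
      have e : Formal.modPowTrans I (n + 1) G =
          inv (Formal.modPowπ I (n + 1 + 1) G) ≫ Formal.modPowπ I (n + 1) G := by
        rw [IsIso.eq_inv_comp, Formal.modPowπ_trans]
      rw [e]
      infer_instance
    rw [← cancel_mono (Formal.modPowTrans I (n + 1) G), hχ n, h, Category.assoc,
      Formal.modPowπ_trans]
  have hasc' : ∀ (φ : F ⟶ G) {a b : ℕ}, c ≤ a + 1 → a ≤ b →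
      χ a = φ ≫ Formal.modPowπ I (a + 1) G → χ b = φ ≫ Formal.modPowπ I (b + 1) G := by
    intro φ a b ha hab
    induction b, hab using Nat.le_induction with
    | base => exact fun h => h
    | succ b hb ih => exact fun h => hasc φ b (ha.trans (Nat.succ_le_succ hb)) (ih h)
  refine ⟨χ c ≫ inv (Formal.modPowπ I (c + 1) G), fun n => ?_, fun φ' hφ' => ?_⟩
  · have h0 : χ c = (χ c ≫ inv (Formal.modPowπ I (c + 1) G)) ≫ Formal.modPowπ I (c + 1) G := by
      rw [Category.assoc, IsIso.inv_hom_id, Category.comp_id]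
    rcases le_total n c with h | h
    · exact hdesc' _ h h0
    · exact hasc' _ (Nat.le_succ c) h h0
  · rw [IsIso.eq_comp_inv]
    exact (hφ' c).symm

/-- **completion is fully faithful on pairs one of which is `I`-power torsion**. -/
theorem completion_fullyFaithful_of_torsion (I : Ideal A) (F G : X.Modules)
    (hG : Coh.IsCoh G)
    (hc : ∃ c : ℕ, Formal.KilledBy (I ^ c) F ∨ Formal.KilledBy (I ^ c) G)
    (ψ : Formal.completion I F ⟶ Formal.completion I G) :
    ∃! φ : F ⟶ G, ∀ n : ℕ,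
      Formal.modPowπ I (n + 1) F ≫ ψ.app (op n) = φ ≫ Formal.modPowπ I (n + 1) G := by
  let χ : ∀ n : ℕ, F ⟶ Formal.modPow I (n + 1) G := fun n =>
    Formal.modPowπ I (n + 1) F ≫ ψ.app (op n)
  have hχ : ∀ n, χ (n + 1) ≫ Formal.modPowTrans I (n + 1) G = χ n := by
    intro n
    have h1 := ψ.naturality (homOfLE (Nat.le_succ n)).op
    rw [tr_completion_succ, tr_completion_succ] at h1
    exact (Category.assoc _ _ _).trans
      ((congrArg (fun θ => Formal.modPowπ I (n + 1 + 1) F ≫ θ) h1.symm).trans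
        ((Category.assoc _ _ _).symm.trans
          (congrArg (fun θ => θ ≫ ψ.app (op n)) (Formal.modPowπ_trans I (n + 1) F))))
  obtain ⟨c, hc | hc⟩ := hc
  · exact existsUnique_of_killedBy_source I c hc hG χ hχ
  · exact existsUnique_of_killedBy_target I c hc χ hχ

end Main

end Groth.Agent.Helper14.CohFormal
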