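import Mathlib
import Groth.Prelude.Def_EGA41

/-!
# Flat algebras with formally smooth reduction modulo a nilpotent ideal are formally smooth
-/

set_option autoImplicit false
set_option linter.unusedSectionVars false
set_option linter.style.haveILetI false
set_option linter.unusedSimpArgs false

universe u v

namespace Groth.Agent.Helper14.FlatNilSmooth

variable {A : Type u} {B : Type v} [CommRing A] [CommRing B] [Algebra A B]

/-- The map `A/I → B/IB`. -/
noncomputable abbrev qmap (I : Ideal A) : A ⧸ I →+* B ⧸ I.map (algebraMap A B) :=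
  Ideal.quotientMap (I.map (algebraMap A B)) (algebraMap A B) Ideal.le_comap_map

theorem qmap_flat [Module.Flat A B] (I : Ideal A) : (qmap (B := B) I).Flat := by
  have h1 : Module.Flat (A ⧸ I) (B ⧸ I.map (algebraMap A B)) :=
    Module.Flat.of_linearEquiv (Algebra.TensorProduct.quotIdealMapEquivQuotTensor B I).toLinearEquiv
  have h1' : (algebraMap (A ⧸ I) (B ⧸ I.map (algebraMap A B))).Flat :=
    RingHom.flat_algebraMap_iff.mpr h1
  have : qmap (B := B) I = algebraMap (A ⧸ I) (B ⧸ I.map (algebraMap A B)) := by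
    ext x
    rfl
  rw [this]
  exact h1'

/-- EGA 0_IV 19.7.1 (discrete case): flat + formally smooth modulo `I` ⟹ formally smooth modulo
`I ^ n`. -/
theorem formallySmooth_qmap_pow [Module.Flat A B] (I : Ideal A)
    (h1 : (qmap (B := B) I).FormallySmooth) (n : ℕ) (hn : 1 ≤ n) :
    (qmap (B := B) (I ^ n)).FormallySmooth := by
  induction n, hn using Nat.le_induction with
  | base =>
    have : ∀ (J : Ideal A), J = I → (qmap (B := B) J).FormallySmooth := by
      rintro J rfl
      exact h1
    exact this _ (pow_one I)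
  | succ n hn ih =>
    have hle : I ^ (n + 1) ≤ I ^ n := Ideal.pow_le_pow_right n.le_succ
    have hle' : (I ^ (n + 1)).map (algebraMap A B) ≤ (I ^ n).map (algebraMap A B) :=
      Ideal.map_mono hle
    refine RingHom.FormallySmooth.of_flat_of_ker_eq_map_of_square_zero (qmap (B := B) (I ^ (n + 1)))
      (qmap_flat _) (Ideal.Quotient.factor hle) (Ideal.Quotient.factor hle') (qmap (B := B) (I ^ n))
      (Ideal.Quotient.factor_surjective hle) (Ideal.Quotient.factor_surjective hle') ?_ ?_ ?_ ih
    · ext x
      rfl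
    · rw [Ideal.Quotient.factor_ker, ← Ideal.map_pow, ← pow_mul]
      rw [Ideal.map_eq_bot_iff_le_ker, Ideal.mk_ker]
      exact Ideal.pow_le_pow_right (by omega)
    · rw [Ideal.Quotient.factor_ker, Ideal.Quotient.factor_ker, Ideal.map_map, Ideal.map_map]
      congr 1

/-- EGA 0_IV 19.7.1, easy direction for a discrete fibre: a flat `A`-algebra `B` with `B/IB`
formally smooth over `A/I` is formally smooth for the `I`-adic topology on `A` (and any adic topology
on `B`). -/
theorem isFormallySmoothAdic_of_flat {A B : Type u} [CommRing A] [CommRing B] [Algebra A B]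
    [Module.Flat A B] (I : Ideal A) (𝔟 : Ideal B) (h1 : (qmap (B := B) I).FormallySmooth) :
    EGA41.IsFormallySmoothAdic A I B 𝔟 := by
  intro C _ _ J hJ hk u _
  obtain ⟨k, hk⟩ := hk
  have hN : (I ^ (k + 1)).map (algebraMap A C) = ⊥ := by
    rw [eq_bot_iff, ← hk]
    exact Ideal.map_mono (Ideal.pow_le_pow_right k.le_succ)
  have hfs := formallySmooth_qmap_pow (B := B) I h1 (k + 1) (by omega)
  generalize k + 1 = N at hN hfs
  have hqa : qmap (B := B) (I ^ N) =
      algebraMap (A ⧸ I ^ N) (B ⧸ (I ^ N).map (algebraMap A B)) := by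
    ext x
    rfl
  rw [hqa, RingHom.formallySmooth_algebraMap] at hfs
  have ha : ∀ r ∈ I ^ N, algebraMap A C r = 0 := by
    intro r hr
    have : algebraMap A C r ∈ (I ^ N).map (algebraMap A C) := Ideal.mem_map_of_mem _ hr
    rwa [hN, Ideal.mem_bot] at this
  let ā : A ⧸ I ^ N →+* C := Ideal.Quotient.lift _ (algebraMap A C) ha
  letI algC : Algebra (A ⧸ I ^ N) C := ā.toAlgebra
  have hu : ∀ x ∈ (I ^ N).map (algebraMap A B), (u : B →+* C ⧸ J) x = 0 := by
    intro x hx
    have hle : (I ^ N).map (algebraMap A B) ≤ RingHom.ker (u : B →+* C ⧸ J) := by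
      rw [Ideal.map_le_iff_le_comap]
      intro r hr
      rw [Ideal.mem_comap, RingHom.mem_ker]
      change u (algebraMap A B r) = 0
      rw [u.commutes, IsScalarTower.algebraMap_apply A C (C ⧸ J), ha r hr, map_zero]
    exact hle hx
  let ū : B ⧸ (I ^ N).map (algebraMap A B) →+* C ⧸ J :=
    Ideal.Quotient.lift _ (u : B →+* C ⧸ J) hu
  let ū' : B ⧸ (I ^ N).map (algebraMap A B) →ₐ[A ⧸ I ^ N] C ⧸ J :=
    { ū with
      commutes' := fun r => by
        obtain ⟨r, rfl⟩ := Ideal.Quotient.mk_surjective r
        change ū (Ideal.Quotient.mk _ (algebraMap A B r)) = Ideal.Quotient.mk J (algebraMap A C r)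
        change u (algebraMap A B r) = _
        rw [u.commutes]
        rfl }
  obtain ⟨vN, hvN⟩ := Algebra.FormallySmooth.exists_lift J hJ ū'
  refine ⟨{ (vN : B ⧸ (I ^ N).map (algebraMap A B) →+* C).comp (Ideal.Quotient.mk _) with
    commutes' := fun r => by
      change vN (algebraMap (A ⧸ I ^ N) _ (Ideal.Quotient.mk _ r)) = _
      rw [vN.commutes]
      rfl }, ?_⟩
  ext b
  exact DFunLike.congr_fun hvN (Ideal.Quotient.mk _ b)

end Groth.Agent.Helper14.FlatNilSmooth
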