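import Mathlib
import Groth.Prelude
import Groth.Agent.S4543
import Groth.Agent.S2454

/-!
# Uniqueness of Cohen algebras (EGA 0_IV 19.8.2 (ii))
-/

set_option autoImplicit false
universe u

namespace Groth.Agent.Helper14.CohenAlgUnique

open IsLocalRing

theorem cohenAlgebra_unique {A : Type u} [CommRing A] [IsLocalRing A] [IsNoetherianRing A]
    (K : Type u) [Field K] [Algebra (ResidueField A) K]
    (B B' : Type u) [CommRing B] [IsLocalRing B] [Algebra A B] [IsLocalHom (algebraMap A B)]
    [CommRing B'] [IsLocalRing B'] [Algebra A B'] [IsLocalHom (algebraMap A B')]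
    (hB : EGA41.IsCohenAlgebra A B) (hB' : EGA41.IsCohenAlgebra A B')
    (E : ResidueField B ≃ₐ[ResidueField A] K) (E' : ResidueField B' ≃ₐ[ResidueField A] K) :
    Nonempty (B ≃ₐ[A] B') := by
  have hfs := Groth.Agent.S2454.result hB
  obtain ⟨-, hBN, hBc, hBflat, hBmap, -⟩ := hB
  obtain ⟨-, hBN', hBc', hBflat', hBmap', -⟩ := hB'
  haveI : IsAdicComplete ((maximalIdeal A).map (algebraMap A B)) B := by
    rw [hBmap]; exact hBc
  haveI : IsAdicComplete ((maximalIdeal A).map (algebraMap A B')) B' := by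
    rw [hBmap']; exact hBc'
  have hfs' : EGA41.IsFormallySmoothAdic A (maximalIdeal A) B
      ((maximalIdeal A).map (algebraMap A B)) := by
    rw [hBmap]; exact hfs
  -- the isomorphism of the special fibres
  let r : (B ⧸ (maximalIdeal A).map (algebraMap A B)) ≃+*
      (B' ⧸ (maximalIdeal A).map (algebraMap A B')) :=
    ((Ideal.quotEquivOfEq hBmap).trans
      ((E.toRingEquiv.trans E'.toRingEquiv.symm : ResidueField B ≃+* ResidueField B'))).trans
      (Ideal.quotEquivOfEq hBmap'.symm)
  have hr : ∀ x : A ⧸ maximalIdeal A,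
      r (algebraMap (A ⧸ maximalIdeal A) (B ⧸ (maximalIdeal A).map (algebraMap A B)) x) =
        algebraMap (A ⧸ maximalIdeal A) (B' ⧸ (maximalIdeal A).map (algebraMap A B')) x := by
    intro x
    obtain ⟨a, rfl⟩ := Ideal.Quotient.mk_surjective x
    have h1 : algebraMap (A ⧸ maximalIdeal A) (B ⧸ (maximalIdeal A).map (algebraMap A B))
        (Ideal.Quotient.mk _ a) = Ideal.Quotient.mk _ (algebraMap A B a) := rfl
    have h2 : algebraMap (A ⧸ maximalIdeal A) (B' ⧸ (maximalIdeal A).map (algebraMap A B'))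
        (Ideal.Quotient.mk _ a) = Ideal.Quotient.mk _ (algebraMap A B' a) := rfl
    rw [h1, h2]
    have h3 : E (residue B (algebraMap A B a)) = algebraMap (ResidueField A) K (residue A a) := by
      rw [← IsLocalRing.ResidueField.algebraMap_residue, E.commutes]
    have h4 : E' (residue B' (algebraMap A B' a)) =
        algebraMap (ResidueField A) K (residue A a) := by
      rw [← IsLocalRing.ResidueField.algebraMap_residue, E'.commutes]
    have h5 : E'.symm (E (residue B (algebraMap A B a))) = residue B' (algebraMap A B' a) := by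
      rw [h3, ← h4, AlgEquiv.symm_apply_apply]
    show (Ideal.quotEquivOfEq hBmap'.symm) (E'.symm (E (residue B (algebraMap A B a)))) = _
    rw [h5]
    rfl
  let u₀ : (B ⧸ (maximalIdeal A).map (algebraMap A B)) ≃ₐ[A ⧸ maximalIdeal A]
      (B' ⧸ (maximalIdeal A).map (algebraMap A B')) := AlgEquiv.ofRingEquiv (f := r) hr
  obtain ⟨u, -⟩ := Groth.Agent.S4543.result (maximalIdeal A) hBmap.le hBmap'.le hfs' u₀
  exact ⟨u⟩

/-- Lifting an isomorphism of residue fields to an isomorphism of Cohen algebras. -/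
theorem exists_algEquiv_lift {A : Type u} [CommRing A] [IsLocalRing A] [IsNoetherianRing A]
    (B B' : Type u) [CommRing B] [IsLocalRing B] [Algebra A B] [IsLocalHom (algebraMap A B)]
    [CommRing B'] [IsLocalRing B'] [Algebra A B'] [IsNoetherianRing B']
    (hB : EGA41.IsCohenAlgebra A B) (hBc' : IsAdicComplete (maximalIdeal B') B')
    (hBflat' : Module.Flat A B')
    (hBmap' : (maximalIdeal A).map (algebraMap A B') = maximalIdeal B')
    (σ : ResidueField B ≃+* ResidueField B')
    (hσ : ∀ a : A, σ (residue B (algebraMap A B a)) = residue B' (algebraMap A B' a)) :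
    ∃ w : B ≃ₐ[A] B', ∀ b : B, residue B' (w b) = σ (residue B b) := by
  have hfs := Groth.Agent.S2454.result hB
  obtain ⟨-, hBN, hBc, hBflat, hBmap, -⟩ := hB
  haveI : IsAdicComplete ((maximalIdeal A).map (algebraMap A B)) B := by
    rw [hBmap]; exact hBc
  haveI : IsAdicComplete ((maximalIdeal A).map (algebraMap A B')) B' := by
    rw [hBmap']; exact hBc'
  have hfs' : EGA41.IsFormallySmoothAdic A (maximalIdeal A) B
      ((maximalIdeal A).map (algebraMap A B)) := by
    rw [hBmap]; exact hfs
  let r : (B ⧸ (maximalIdeal A).map (algebraMap A B)) ≃+*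
      (B' ⧸ (maximalIdeal A).map (algebraMap A B')) :=
    ((Ideal.quotEquivOfEq hBmap).trans σ).trans (Ideal.quotEquivOfEq hBmap'.symm)
  have hr : ∀ x : A ⧸ maximalIdeal A,
      r (algebraMap (A ⧸ maximalIdeal A) (B ⧸ (maximalIdeal A).map (algebraMap A B)) x) =
        algebraMap (A ⧸ maximalIdeal A) (B' ⧸ (maximalIdeal A).map (algebraMap A B')) x := by
    intro x
    obtain ⟨a, rfl⟩ := Ideal.Quotient.mk_surjective x
    have h1 : algebraMap (A ⧸ maximalIdeal A) (B ⧸ (maximalIdeal A).map (algebraMap A B))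
        (Ideal.Quotient.mk _ a) = Ideal.Quotient.mk _ (algebraMap A B a) := rfl
    have h2 : algebraMap (A ⧸ maximalIdeal A) (B' ⧸ (maximalIdeal A).map (algebraMap A B'))
        (Ideal.Quotient.mk _ a) = Ideal.Quotient.mk _ (algebraMap A B' a) := rfl
    rw [h1, h2]
    show (Ideal.quotEquivOfEq hBmap'.symm) (σ (residue B (algebraMap A B a))) = _
    rw [hσ]
    rfl
  let u₀ : (B ⧸ (maximalIdeal A).map (algebraMap A B)) ≃ₐ[A ⧸ maximalIdeal A]
      (B' ⧸ (maximalIdeal A).map (algebraMap A B')) := AlgEquiv.ofRingEquiv (f := r) hr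
  obtain ⟨u, hu⟩ := Groth.Agent.S4543.result (maximalIdeal A) hBmap.le hBmap'.le hfs' u₀
  refine ⟨u, fun b => ?_⟩
  have h := hu b
  have h3 : residue B' (u b) = (Ideal.quotEquivOfEq hBmap')
      (Ideal.Quotient.mk ((maximalIdeal A).map (algebraMap A B')) (u b)) := rfl
  rw [h3, h]
  show (Ideal.quotEquivOfEq hBmap') ((Ideal.quotEquivOfEq hBmap'.symm) (σ (residue B b))) = _
  obtain ⟨c, hc⟩ := Ideal.Quotient.mk_surjective (σ (residue B b))
  rw [← hc]
  rfl

end Groth.Agent.Helper14.CohenAlgUnique
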