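import Mathlib
import Groth.Prelude
import Groth.Agent.Lib.Helper14.CohenLift
import Groth.Agent.Lib.Helper9.SepFS

/-!
# Cohen rings as Cohen algebras over the prime local ring
-/

set_option autoImplicit false
universe u

namespace Groth.Agent.Helper14.CohenPrime

open IsLocalRing

/-- A Noetherian local ring whose maximal ideal is generated by a nonzerodivisor is a DVR. -/
theorem exists_isDVR_of_span {A : Type*} [CommRing A] [IsLocalRing A] [IsNoetherianRing A] (π : A)
    (hm : maximalIdeal A = Ideal.span {π}) (hπ : π ∈ nonZeroDivisors A) :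
    ∃ (_ : IsDomain A), IsDiscreteValuationRing A := by
  classical
  have hpow : ∀ n, maximalIdeal A ^ n = Ideal.span {π ^ n} := fun n => by
    rw [hm, Ideal.span_singleton_pow]
  have fact : ∀ x : A, x ≠ 0 → ∃ (n : ℕ) (u : Aˣ), x = u * π ^ n := by
    intro x hx
    have hK : (⨅ n : ℕ, maximalIdeal A ^ n) = ⊥ :=
      Ideal.iInf_pow_eq_bot_of_isLocalRing _ (maximalIdeal.isMaximal A).ne_top
    have hex : ∃ n, x ∉ maximalIdeal A ^ n := by
      by_contra hcon
      push Not at hcon
      apply hx
      have : x ∈ (⨅ n : ℕ, maximalIdeal A ^ n) := by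
        rw [Ideal.mem_iInf]
        exact hcon
      rwa [hK] at this
    have hn : x ∉ maximalIdeal A ^ (Nat.find hex) := Nat.find_spec hex
    have hn0 : Nat.find hex ≠ 0 := by
      intro h0
      rw [h0, pow_zero, Ideal.one_eq_top] at hn
      exact hn trivial
    obtain ⟨m, hm'⟩ := Nat.exists_eq_succ_of_ne_zero hn0
    have hxm : x ∈ maximalIdeal A ^ m := by
      by_contra hcon
      have := Nat.find_min' hex hcon
      omega
    rw [hpow, Ideal.mem_span_singleton] at hxm
    obtain ⟨u, rfl⟩ := hxm
    have hu : IsUnit u := by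
      by_contra hcon
      have hum : u ∈ maximalIdeal A := hcon
      rw [hm, Ideal.mem_span_singleton] at hum
      obtain ⟨w, rfl⟩ := hum
      apply hn
      rw [hm', hpow, Ideal.mem_span_singleton]
      exact ⟨w, by rw [pow_succ]; ring⟩
    exact ⟨m, hu.unit, by simp [mul_comm]⟩
  have hπn : ∀ n, π ^ n ∈ nonZeroDivisors A := fun n => pow_mem hπ n
  haveI : NoZeroDivisors A := ⟨fun {a b} hab => by
    by_contra hcon
    push_neg at hcon
    obtain ⟨n, u, rfl⟩ := fact a hcon.1
    obtain ⟨m, v, rfl⟩ := fact b hcon.2
    have h1 : π ^ (n + m) * ((u * v : Aˣ) : A) = 0 := by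
      rw [← hab]
      push_cast
      ring
    have h2 : π ^ (n + m) = 0 := (IsUnit.mul_left_eq_zero (u * v).isUnit).mp h1
    exact nonZeroDivisors.ne_zero (hπn _) h2⟩
  haveI : IsDomain A := NoZeroDivisors.to_isDomain A
  refine ⟨inferInstance, ?_⟩
  have hπ0 : π ≠ 0 := nonZeroDivisors.ne_zero hπ
  have hprime : Prime π := by
    rw [← Ideal.span_singleton_prime hπ0, ← hm]
    infer_instance
  apply IsDiscreteValuationRing.ofHasUnitMulPowIrreducibleFactorization
  refine ⟨π, hprime.irreducible, fun {x} hx => ?_⟩
  obtain ⟨n, u, rfl⟩ := fact x hx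
  exact ⟨n, ⟨u, by simp [mul_comm]⟩⟩

section Prime

variable (p : ℕ) [hp : (Ideal.span {(p : ℤ)}).IsPrime]

local notation "P" => Localization.AtPrime (Ideal.span {(p : ℤ)})

lemma maximalIdeal_P : maximalIdeal P = Ideal.span {(p : P)} := by
  rw [← IsLocalization.AtPrime.map_eq_maximalIdeal (Ideal.span {(p : ℤ)}) P, Ideal.map_span,
    Set.image_singleton, map_natCast]

lemma map_maximalIdeal_P (A : Type*) [CommRing A] [Algebra P A] :
    (maximalIdeal P).map (algebraMap P A) = Ideal.span {(p : A)} := by
  rw [maximalIdeal_P, Ideal.map_span, Set.image_singleton, map_natCast]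

lemma algebraMap_int_P_injective : Function.Injective (algebraMap ℤ P) :=
  IsLocalization.injective P (Ideal.span {(p : ℤ)}).primeCompl_le_nonZeroDivisors

instance : CharZero P :=
  ⟨fun a b hab => by
    have : algebraMap ℤ P (a : ℤ) = algebraMap ℤ P (b : ℤ) := by simpa using hab
    exact_mod_cast algebraMap_int_P_injective p this⟩

instance : IsNoetherianRing P :=
  IsLocalization.isNoetherianRing (Ideal.span {(p : ℤ)}).primeCompl P inferInstance

lemma prime_or_zero : p = 0 ∨ p.Prime := by
  by_cases h0 : p = 0
  · exact Or.inl h0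
  · right
    have h1 : (p : ℤ) ≠ 0 := by exact_mod_cast h0
    have := (Ideal.span_singleton_prime h1).mp hp
    exact Nat.prime_iff_prime_int.mpr this

/-- `P → A` is injective when `A` has characteristic zero. -/
lemma algebraMap_P_injective (A : Type*) [CommRing A] [Algebra P A] [CharZero A] :
    Function.Injective (algebraMap P A) := by
  rw [injective_iff_map_eq_zero]
  intro x hx
  obtain ⟨a, s, rfl⟩ := IsLocalization.exists_mk'_eq (Ideal.span {(p : ℤ)}).primeCompl x
  have h1 : algebraMap P A (algebraMap ℤ P a) = 0 := by
    rw [← IsLocalization.mk'_spec P a s, map_mul, hx, zero_mul]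
  have h2 : (a : A) = 0 := by simpa using h1
  have h3 : a = 0 := by exact_mod_cast h2
  rw [h3, IsLocalization.mk'_zero]

/-- The residue field of `ℤ_(p)` is perfect. -/
lemma perfectField_residueField_P : PerfectField (ResidueField P) := by
  rcases prime_or_zero p with h0 | hprime
  · haveI : CharZero (ResidueField P) := by
      have hm : maximalIdeal P = ⊥ := by
        have hp0 : (p : P) = 0 := by simp [h0]
        rw [maximalIdeal_P, hp0]
        simp
      have hinj : Function.Injective (residue P) := by
        rw [injective_iff_map_eq_zero]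
        intro x hx
        rw [residue_eq_zero_iff, hm] at hx
        exact hx
      exact ⟨fun a b hab => by
        have : residue P (a : P) = residue P (b : P) := by simpa using hab
        exact_mod_cast hinj this⟩
    infer_instance
  · have hne : Ideal.span {(p : ℤ)} ≠ ⊥ := by
      simp [hprime.ne_zero]
    haveI : (Ideal.span {(p : ℤ)}).IsMaximal := Ideal.IsPrime.isMaximal hp hne
    let e : ZMod p ≃+* ResidueField P :=
      (Int.quotientSpanNatEquivZMod p).symm.trans
        (IsLocalization.AtPrime.equivQuotMaximalIdeal (Ideal.span {(p : ℤ)}) P)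
    haveI : NeZero p := ⟨hprime.ne_zero⟩
    haveI : Finite (ResidueField P) := Finite.of_equiv _ e.toEquiv
    infer_instance

end Prime

section Main

theorem cohenRingEGA_of_cohenAlgebra (p : ℕ) [hp : (Ideal.span {(p : ℤ)}).IsPrime]
    {A : Type} [CommRing A] [IsLocalRing A] [CharP (ResidueField A) p]
    [Algebra (Localization.AtPrime (Ideal.span {(p : ℤ)})) A]
    [IsLocalHom (algebraMap (Localization.AtPrime (Ideal.span {(p : ℤ)})) A)]
    (h : EGA41.IsCohenAlgebra (Localization.AtPrime (Ideal.span {(p : ℤ)})) A) :
    EGA41.IsCohenRingEGA A := by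
  set P := Localization.AtPrime (Ideal.span {(p : ℤ)}) with hPdef
  obtain ⟨-, hAn, hAc, hflat, hmap, -⟩ := h
  have hmA : maximalIdeal A = Ideal.span {(p : A)} := by
    rw [← hmap, map_maximalIdeal_P]
  rcases prime_or_zero p with h0 | hprime
  · left
    have hp0 : (p : A) = 0 := by simp [h0]
    have hbot : maximalIdeal A = ⊥ := by
      rw [hmA, hp0]
      simp
    refine ⟨IsLocalRing.isField_iff_maximalIdeal_eq.mpr hbot, ?_⟩
    haveI : CharP (ResidueField A) 0 := h0 ▸ ‹CharP (ResidueField A) p›
    haveI : CharZero (ResidueField A) := CharP.charP_to_charZero _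
    exact ⟨fun a b hab => by
      have : residue A (a : A) = residue A (b : A) := by rw [hab]
      have h2 : ((a : ℕ) : ResidueField A) = ((b : ℕ) : ResidueField A) := by simpa using this
      exact_mod_cast h2⟩
  · right
    have hpP : (p : P) ∈ nonZeroDivisors P := by
      rw [mem_nonZeroDivisors_iff_ne_zero]
      exact_mod_cast hprime.ne_zero
    have hreg : IsSMulRegular A (p : P) :=
      Module.Flat.isSMulRegular_of_nonZeroDivisors hpP
    have hpA : (p : A) ∈ nonZeroDivisors A := by
      rw [mem_nonZeroDivisors_iff_right]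
      intro x hx
      apply hreg
      simp only [smul_zero]
      rw [Algebra.smul_def, map_natCast, mul_comm]
      exact hx
    obtain ⟨hdom, hdvr⟩ := exists_isDVR_of_span (p : A) hmA hpA
    exact ⟨hdom, hdvr, hAc, p, hprime, hmA⟩

theorem cohenAlgebra_of_cohenRingEGA (p : ℕ) [hp : (Ideal.span {(p : ℤ)}).IsPrime]
    {A : Type} [CommRing A] [IsLocalRing A] [CharP (ResidueField A) p]
    [Algebra (Localization.AtPrime (Ideal.span {(p : ℤ)})) A]
    [IsLocalHom (algebraMap (Localization.AtPrime (Ideal.span {(p : ℤ)})) A)]
    (h : EGA41.IsCohenRingEGA A) :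
    EGA41.IsCohenAlgebra (Localization.AtPrime (Ideal.span {(p : ℤ)})) A := by
  set P := Localization.AtPrime (Ideal.span {(p : ℤ)}) with hPdef
  haveI := perfectField_residueField_P p
  have hgr : Algebra.IsGeometricallyReduced (ResidueField P) (ResidueField A) :=
    Groth.Agent.Helper9.SepFS.isGeometricallyReduced_of_perfectField
  -- common part: domain of characteristic zero with the right maximal ideal
  suffices hmain : ∃ (_ : IsDomain A), CharZero A ∧ IsNoetherianRing A ∧
      IsAdicComplete (maximalIdeal A) A ∧ maximalIdeal A = Ideal.span {(p : A)} by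
    obtain ⟨hdom, hchar, hnoeth, hcomp, hmA⟩ := hmain
    refine ⟨inferInstance, hnoeth, hcomp, ?_, ?_, hgr⟩
    · rw [IsDedekindDomain.flat_iff_torsion_eq_bot, ← Submodule.isTorsionFree_iff_torsion_eq_bot,
        Module.isTorsionFree_iff_algebraMap_injective]
      exact algebraMap_P_injective p A
    · rw [map_maximalIdeal_P, hmA]
  rcases h with ⟨hF, hC⟩ | ⟨hdom, hdvr, hcomp, q, hq, hmq⟩
  · have hbot : maximalIdeal A = ⊥ := IsLocalRing.isField_iff_maximalIdeal_eq.mp hF
    haveI : IsDomain A := hF.isDomain
    have hinj : Function.Injective (residue A) := by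
      rw [injective_iff_map_eq_zero]
      intro x hx
      rw [residue_eq_zero_iff, hbot] at hx
      exact hx
    haveI : CharZero (ResidueField A) :=
      ⟨fun a b hab => by
        have : residue A (a : A) = residue A (b : A) := by simpa using hab
        exact_mod_cast hinj this⟩
    have hp0 : p = 0 := CharP.eq (ResidueField A) ‹CharP (ResidueField A) p› (CharP.ofCharZero _)
    haveI : IsArtinianRing A := by
      letI := hF.toField
      infer_instance
    refine ⟨inferInstance, hC, inferInstance,
      Groth.Agent.Helper14.CohenLift.isAdicComplete_of_isArtinianRing A, ?_⟩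
    rw [hbot, hp0]
    simp
  · have hqp : q = p := by
      have hq0 : ((q : ℕ) : ResidueField A) = 0 := by
        have : (q : A) ∈ maximalIdeal A := by
          rw [hmq]
          exact Ideal.mem_span_singleton_self _
        rw [← residue_eq_zero_iff, map_natCast] at this
        exact this
      have hdvd : p ∣ q := (CharP.cast_eq_zero_iff (ResidueField A) p q).mp hq0
      rcases (Nat.dvd_prime hq).mp hdvd with h1 | h1
      · exfalso
        subst h1
        exact CharP.char_ne_one (ResidueField A) 1 rfl
      · exact h1.symm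
    subst hqp
    have hne : (q : A) ≠ 0 := Groth.Agent.Helper14.CohenLift.natCast_ne_zero_of_dvr q hmq
    have hchar : CharZero A := by
      -- the characteristic of `A` is zero since `q` is not nilpotent
      obtain ⟨c, hc⟩ := CharP.exists A
      rcases Nat.eq_zero_or_pos c with rfl | hcpos
      · exact CharP.charP_to_charZero A
      · exfalso
        -- `c` maps to zero in the residue field so `q ∣ c`
        have hcA : ((c : ℕ) : A) = 0 := CharP.cast_eq_zero A c
        have hc0 : ((c : ℕ) : ResidueField A) = 0 := by
          rw [← map_natCast (residue A), hcA, map_zero]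
        have hcp : c.Prime := by
          rcases CharP.char_is_prime_or_zero A c with h1 | h1
          · exact h1
          · omega
        have hdvd : q ∣ c := (CharP.cast_eq_zero_iff (ResidueField A) q c).mp hc0
        have : q = c := (Nat.prime_dvd_prime_iff_eq hq hcp).mp hdvd
        apply hne
        rw [this]
        exact hcA
    exact ⟨hdom, hchar, inferInstance, hcomp, hmq⟩

end Main

end Groth.Agent.Helper14.CohenPrime
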