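import Mathlib
import Groth.Prelude.Def_Coh
import Groth.Prelude.Def_CohB1
import Groth.Agent.Lib.Helper13.DirImgColim
import Groth.Agent.Lib.Helper13.AffSurj
import Groth.Agent.Lib.Helper13.FinAffine2
import Groth.Agent.Lib.Helper13.EpiStalk
import Groth.Agent.Lib.Helper28.CohACC

set_option autoImplicit false
set_option linter.style.haveILetI false
set_option linter.unusedSectionVars false
universe u
open CategoryTheory CategoryTheory.Limits AlgebraicGeometry Opposite TopologicalSpace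

namespace Groth.Agent.Helper14.ColimEpi

open Groth.Agent.Helper13.ToAbExact Groth.Agent.Helper13.ColimSec Groth.Agent.Helper13.DirImgColim
open Groth.Agent.Helper13.QCoh Groth.Agent.Helper13.FinType Groth.Agent.Helper28.CohACC

variable {X : Scheme.{u}} {J : Type u} [SmallCategory J] [IsFiltered J] (D : J ⥤ X.Modules)
  (c : Cocone D) (hc : IsColimit c)

include hc in
/-- sections over an affine open of a filtered colimit of modules come from some stage. -/
theorem exists_rep_affine {U : X.Opens} (hU : IsAffineOpen U) (p : Γ(c.pt, U)) :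
    ∃ (j : J) (s : Γ(D.obj j, U)), (c.ι.app j).app U s = p := by
  let T := SheafOfModules.toSheaf X.ringCatSheaf
  have hcT : IsColimit (T.mapCocone c) := isColimitOfPreserves T hc
  have : PrespectralSpace X.toTopCat := inferInstanceAs (PrespectralSpace X)
  have hp : PreservesColimit (D ⋙ T) (Groth.Agent.Helper13.DirImgColim.Γ X U) :=
    preservesColimit_sections (X := X.toTopCat) (D ⋙ T) U hU.isCompact (qSep_of_isAffineOpen hU)
  have hcΓ : IsColimit ((Groth.Agent.Helper13.DirImgColim.Γ X U).mapCocone (T.mapCocone c)) :=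
    (hp.preserves hcT).some
  obtain ⟨j, s, hs⟩ := Groth.Agent.Helper13.DeltaFColim.exists_rep
    ((D ⋙ T) ⋙ Groth.Agent.Helper13.DirImgColim.Γ X U) hcΓ p
  exact ⟨j, s, hs⟩

variable {F : X.Modules} (u : c.pt ⟶ F)

lemma ι_map_app {j j' : J} (f : j ⟶ j') (U : X.Opens) (s : Γ(D.obj j, U)) :
    (c.ι.app j').app U ((D.map f).app U s) = (c.ι.app j).app U s := by
  have h := c.w f
  have h2 := congr($(h).app U s)
  exact h2

include hc in
lemma exists_stage_mem [c.pt.IsQuasicoherent] [F.IsQuasicoherent] [Epi u] {U : X.Opens}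
    (hU : IsAffineOpen U) (x : Γ(F, U)) :
    ∃ j : J, ∀ j' : J, Nonempty (j ⟶ j') →
      x ∈ LinearMap.range (appLin (c.ι.app j' ≫ u) U) := by
  obtain ⟨p, hp⟩ := Groth.Agent.Helper13.AffSurj.surjective_app_of_epi u hU x
  obtain ⟨j, s, hs⟩ := exists_rep_affine D c hc hU p
  refine ⟨j, fun j' ⟨f⟩ => ⟨(D.map f).app U s, ?_⟩⟩
  rw [appLin_apply]
  show u.app U ((c.ι.app j').app U ((D.map f).app U s)) = x
  rw [ι_map_app, hs, hp]

include hc in
lemma exists_stage_surjective [c.pt.IsQuasicoherent] [F.IsQuasicoherent]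
    [SheafOfModules.IsFiniteType (R := X.ringCatSheaf) F] [Epi u] {U : X.Opens}
    (hU : IsAffineOpen U) :
    ∃ j : J, ∀ j' : J, Nonempty (j ⟶ j') → Function.Surjective ((c.ι.app j' ≫ u).app U) := by
  classical
  haveI : Module.Finite Γ(X, U) Γ(F, U) :=
    Groth.Agent.Helper13.FinType.finite_sections_of_isFiniteType F hU
  obtain ⟨S, hS⟩ := (Module.Finite.fg_top (R := Γ(X, U)) (M := Γ(F, U)))
  have hex : ∀ x : Γ(F, U), ∃ j : J, ∀ j' : J, Nonempty (j ⟶ j') →
      x ∈ LinearMap.range (appLin (c.ι.app j' ≫ u) U) := fun x => exists_stage_mem D c hc u hU x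
  choose jx hjx using hex
  obtain ⟨j, hj⟩ := IsFiltered.sup_objs_exists (S.image jx)
  refine ⟨j, fun j' ⟨f⟩ => ?_⟩
  have htop : LinearMap.range (appLin (c.ι.app j' ≫ u) U) = ⊤ := by
    rw [eq_top_iff, ← hS, Submodule.span_le]
    intro x hx
    have h1 : Nonempty (jx x ⟶ j) := hj (Finset.mem_image_of_mem jx hx)
    obtain ⟨g⟩ := h1
    exact hjx x j' ⟨g ≫ f⟩
  intro y
  have hy : y ∈ LinearMap.range (appLin (c.ι.app j' ≫ u) U) := by rw [htop]; trivial
  obtain ⟨z, hz⟩ := hy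
  exact ⟨z, hz⟩

/-- S10857. -/
theorem main10857 {X : Scheme.{u}} [CompactSpace X]
    {J : Type u} [SmallCategory J] [IsFiltered J] (D : J ⥤ X.Modules) [∀ j, Coh.IsQCoh (D.obj j)]
    (c : Cocone D) (hc : IsColimit c) [Coh.IsQCoh c.pt]
    (F : X.Modules) [Coh.IsQCoh F] (hF : CohB1.IsFT F) (u : c.pt ⟶ F) :
    Epi u ↔ ∃ j₀ : J, ∀ j : J, Nonempty (j₀ ⟶ j) → Epi (c.ι.app j ≫ u) := by
  classical
  constructor
  · intro hu
    haveI : c.pt.IsQuasicoherent := ‹Coh.IsQCoh c.pt›
    haveI : F.IsQuasicoherent := ‹Coh.IsQCoh F›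
    haveI : SheafOfModules.IsFiniteType (R := X.ringCatSheaf) F := hF
    obtain ⟨t, ht⟩ := isCompact_univ.elim_finite_subcover
      (fun W : X.affineOpens => ((W.1 : X.Opens) : Set X)) (fun W => W.1.isOpen) (by
        intro x _
        obtain ⟨W, hW, hxW, -⟩ := X.isBasis_affineOpens.exists_subset_of_mem_open
          (Set.mem_univ x) isOpen_univ
        obtain ⟨W', hW', rfl⟩ := hW
        exact Set.mem_iUnion.2 ⟨⟨W', hW'⟩, hxW⟩)
    have hcov : ∀ x : X, ∃ W ∈ t, x ∈ W.1 := by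
      intro x
      have hx := ht (Set.mem_univ x)
      rw [Set.mem_iUnion₂] at hx
      obtain ⟨W, hWt, hxW⟩ := hx
      exact ⟨W, hWt, hxW⟩
    have hex : ∀ W : X.affineOpens, ∃ j : J, ∀ j' : J, Nonempty (j ⟶ j') →
        Function.Surjective ((c.ι.app j' ≫ u).app W.1) :=
      fun W => exists_stage_surjective D c hc u W.2
    choose jW hjW using hex
    obtain ⟨j₀, hj₀⟩ := IsFiltered.sup_objs_exists (t.image jW)
    refine ⟨j₀, fun j ⟨f⟩ => ?_⟩
    apply epi_of_stalkMap_surjective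
    intro y
    obtain ⟨W, hWt, hyW⟩ := hcov y
    obtain ⟨g⟩ := hj₀ (Finset.mem_image_of_mem jW hWt)
    have hW' : IsAffineOpen W.1 := W.2
    exact stalkMap_surjective_of_app_surjective (c.ι.app j ≫ u) hW' (hjW W j ⟨g ≫ f⟩) y hyW
  · rintro ⟨j₀, h⟩
    haveI := h j₀ ⟨𝟙 j₀⟩
    exact epi_of_epi (c.ι.app j₀) u

end Groth.Agent.Helper14.ColimEpi
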