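import Mathlib
import Groth.Prelude
import Groth.Agent.Lib.Helper1.AdicNoeth
import Groth.Agent.Lib.Helper1.AdicLib

/-!
# The map induced on completions by a local homomorphism of Noetherian local rings
-/

set_option autoImplicit false
set_option linter.unusedSectionVars false
set_option linter.style.haveILetI false
set_option linter.unusedVariables false

universe u

namespace Groth.Agent.Helper14.ComplMap

open IsLocalRing

variable (A B : Type u) [CommRing A] [CommRing B] [IsLocalRing A] [IsLocalRing B]
  [IsNoetherianRing A] [IsNoetherianRing B] [Algebra A B] [IsLocalHom (algebraMap A B)]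
  (ψ : AdicCompletion (maximalIdeal A) A →+* AdicCompletion (maximalIdeal B) B)
  (hψ : ψ.comp (algebraMap A (AdicCompletion (maximalIdeal A) A)) =
      (algebraMap B (AdicCompletion (maximalIdeal B) B)).comp (algebraMap A B))

instance : IsNoetherianRing (AdicCompletion (maximalIdeal A) A) :=
  Groth.Agent.Helper1.isNoetherianRing_adicCompletion_of_fg A (maximalIdeal A)
    (IsNoetherian.noetherian _)

include hψ

theorem map_maximalIdeal_eq :
    (maximalIdeal (AdicCompletion (maximalIdeal A) A)).map ψ =
      ((maximalIdeal A).map (algebraMap A B)).map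
        (algebraMap B (AdicCompletion (maximalIdeal B) B)) := by
  rw [AdicCompletion.maximalIdeal_eq_map, Ideal.map_map, hψ, ← Ideal.map_map]

theorem map_maximalIdeal_le :
    (maximalIdeal (AdicCompletion (maximalIdeal A) A)).map ψ ≤
      maximalIdeal (AdicCompletion (maximalIdeal B) B) := by
  rw [map_maximalIdeal_eq A B ψ hψ, AdicCompletion.maximalIdeal_eq_map (R := B)]
  exact Ideal.map_mono
    (((IsLocalRing.local_hom_TFAE (algebraMap A B)).out 0 2).mp ‹IsLocalHom (algebraMap A B)›)

theorem isLocalHom : IsLocalHom ψ :=
  ((IsLocalRing.local_hom_TFAE ψ).out 0 2).mpr (map_maximalIdeal_le A B ψ hψ)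

/-- `𝔪_Â B̂ = 𝔪_B̂` iff `𝔪_A B = 𝔪_B`. -/
theorem map_maximalIdeal_eq_iff :
    (maximalIdeal (AdicCompletion (maximalIdeal A) A)).map ψ =
        maximalIdeal (AdicCompletion (maximalIdeal B) B) ↔
      (maximalIdeal A).map (algebraMap A B) = maximalIdeal B := by
  haveI : Module.FaithfullyFlat B (AdicCompletion (maximalIdeal B) B) :=
    Module.FaithfullyFlat.of_flat_of_isLocalHom
  rw [map_maximalIdeal_eq A B ψ hψ, AdicCompletion.maximalIdeal_eq_map (R := B)]
  constructor
  · intro h
    have := congrArg (Ideal.comap (algebraMap B (AdicCompletion (maximalIdeal B) B))) h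
    rwa [Ideal.comap_map_eq_self_of_faithfullyFlat, Ideal.comap_map_eq_self_of_faithfullyFlat]
      at this
  · intro h
    rw [h]

theorem residue_square :
    haveI := isLocalHom A B ψ hψ
    (ResidueField.map ψ).comp
        (ResidueField.map (algebraMap A (AdicCompletion (maximalIdeal A) A))) =
      (ResidueField.map (algebraMap B (AdicCompletion (maximalIdeal B) B))).comp
        (ResidueField.map (algebraMap A B)) := by
  haveI := isLocalHom A B ψ hψ
  apply RingHom.ext
  intro x
  obtain ⟨a, rfl⟩ := IsLocalRing.residue_surjective x
  simp only [RingHom.comp_apply, ResidueField.map_residue]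
  have := congrArg (fun f => f a) hψ
  simp only [RingHom.comp_apply] at this
  rw [this]

/-- The equivalence of residue fields `k_A ≃ k_Â`. -/
noncomputable def resEquiv (R : Type u) [CommRing R] [IsLocalRing R] [IsNoetherianRing R] :
    ResidueField R ≃+* ResidueField (AdicCompletion (maximalIdeal R) R) :=
  RingEquiv.ofBijective _ (AdicCompletion.residueField_map_bijective R)

theorem residue_square' :
    letI := ψ.toAlgebra
    haveI : IsLocalHom (algebraMap (AdicCompletion (maximalIdeal A) A)
      (AdicCompletion (maximalIdeal B) B)) := isLocalHom A B ψ hψ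
    (algebraMap (ResidueField (AdicCompletion (maximalIdeal A) A))
        (ResidueField (AdicCompletion (maximalIdeal B) B))).comp
        (resEquiv A : ResidueField A →+* _) =
      (resEquiv B : ResidueField B →+* _).comp (algebraMap (ResidueField A) (ResidueField B)) :=
  residue_square A B ψ hψ

theorem isSeparable_iff :
    letI := ψ.toAlgebra
    haveI : IsLocalHom (algebraMap (AdicCompletion (maximalIdeal A) A)
      (AdicCompletion (maximalIdeal B) B)) := isLocalHom A B ψ hψ
    Algebra.IsSeparable (ResidueField A) (ResidueField B) ↔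
      Algebra.IsSeparable (ResidueField (AdicCompletion (maximalIdeal A) A))
        (ResidueField (AdicCompletion (maximalIdeal B) B)) := by
  letI := ψ.toAlgebra
  haveI : IsLocalHom (algebraMap (AdicCompletion (maximalIdeal A) A)
      (AdicCompletion (maximalIdeal B) B)) := isLocalHom A B ψ hψ
  exact Algebra.IsSeparable.iff_of_equiv_equiv (resEquiv A) (resEquiv B)
    (residue_square' A B ψ hψ)

theorem finite_iff :
    letI := ψ.toAlgebra
    haveI : IsLocalHom (algebraMap (AdicCompletion (maximalIdeal A) A)
      (AdicCompletion (maximalIdeal B) B)) := isLocalHom A B ψ hψ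
    Module.Finite (ResidueField A) (ResidueField B) ↔
      Module.Finite (ResidueField (AdicCompletion (maximalIdeal A) A))
        (ResidueField (AdicCompletion (maximalIdeal B) B)) := by
  letI := ψ.toAlgebra
  haveI : IsLocalHom (algebraMap (AdicCompletion (maximalIdeal A) A)
      (AdicCompletion (maximalIdeal B) B)) := isLocalHom A B ψ hψ
  constructor
  · intro h
    exact Module.Finite.of_equiv_equiv (resEquiv A) (resEquiv B) (residue_square' A B ψ hψ)
  · intro h
    refine Module.Finite.of_equiv_equiv (resEquiv A).symm (resEquiv B).symm ?_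
    apply RingHom.ext
    intro x
    obtain ⟨y, rfl⟩ := (resEquiv A).surjective x
    have := congrArg (fun f => f y) (residue_square' A B ψ hψ)
    simp only [RingHom.comp_apply, RingHom.coe_coe] at this
    simp only [RingHom.comp_apply, RingHom.coe_coe, RingEquiv.symm_apply_apply]
    rw [this, RingEquiv.symm_apply_apply]

/-- If `𝔪_A B = 𝔪_B` and `k_B` is finite over `k_A`, then `B̂` is a finite `Â`-module. -/
theorem finite_of_map_eq
    (hm : (maximalIdeal A).map (algebraMap A B) = maximalIdeal B)
    (hfin : Module.Finite (ResidueField A) (ResidueField B)) : ψ.Finite := by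
  letI := ψ.toAlgebra
  haveI : IsLocalHom (algebraMap (AdicCompletion (maximalIdeal A) A)
      (AdicCompletion (maximalIdeal B) B)) := isLocalHom A B ψ hψ
  have hm' : (maximalIdeal (AdicCompletion (maximalIdeal A) A)).map
      (algebraMap (AdicCompletion (maximalIdeal A) A) (AdicCompletion (maximalIdeal B) B)) =
      maximalIdeal (AdicCompletion (maximalIdeal B) B) :=
    (map_maximalIdeal_eq_iff A B ψ hψ).mpr hm
  haveI : Module.Finite (ResidueField (AdicCompletion (maximalIdeal A) A))
      (ResidueField (AdicCompletion (maximalIdeal B) B)) := (finite_iff A B ψ hψ).mp hfin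
  haveI : Module.Finite (AdicCompletion (maximalIdeal A) A)
      (ResidueField (AdicCompletion (maximalIdeal A) A)) :=
    Module.Finite.of_surjective (Algebra.linearMap _ _) IsLocalRing.residue_surjective
  haveI : Module.Finite (AdicCompletion (maximalIdeal A) A)
      (ResidueField (AdicCompletion (maximalIdeal B) B)) :=
    Module.Finite.trans (ResidueField (AdicCompletion (maximalIdeal A) A)) _
  change Module.Finite (AdicCompletion (maximalIdeal A) A) (AdicCompletion (maximalIdeal B) B)
  have hmem : ∀ (n : ℕ) (x : AdicCompletion (maximalIdeal B) B),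
      x ∈ ((maximalIdeal (AdicCompletion (maximalIdeal A) A)) ^ n •
        (⊤ : Submodule (AdicCompletion (maximalIdeal A) A) (AdicCompletion (maximalIdeal B) B))) ↔
      x ∈ (maximalIdeal (AdicCompletion (maximalIdeal B) B)) ^ n := by
    intro n x
    rw [Ideal.smul_top_eq_map, Submodule.restrictScalars_mem, Ideal.map_pow, hm']
  haveI : IsHausdorff (maximalIdeal (AdicCompletion (maximalIdeal A) A))
      (AdicCompletion (maximalIdeal B) B) := by
    constructor
    intro x hx
    refine IsHausdorff.haus (I := maximalIdeal (AdicCompletion (maximalIdeal B) B))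
      inferInstance x ?_
    intro n
    have := hx n
    rw [SModEq.zero] at this ⊢
    rw [smul_eq_mul, Ideal.mul_top]
    exact (hmem n x).mp this
  apply Groth.Agent.Helper1.finite_of_isAdicComplete_of_finite_quotient
    (maximalIdeal (AdicCompletion (maximalIdeal A) A))
  let f : AdicCompletion (maximalIdeal B) B →ₗ[AdicCompletion (maximalIdeal A) A]
      ResidueField (AdicCompletion (maximalIdeal B) B) :=
    (Algebra.linearMap (AdicCompletion (maximalIdeal B) B)
      (ResidueField (AdicCompletion (maximalIdeal B) B))).restrictScalars _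
  have hf : Function.Surjective f := IsLocalRing.residue_surjective
  have hker : LinearMap.ker f = (maximalIdeal (AdicCompletion (maximalIdeal A) A)) •
        (⊤ : Submodule (AdicCompletion (maximalIdeal A) A) (AdicCompletion (maximalIdeal B) B)) := by
    ext x
    have h1 := hmem 1 x
    rw [pow_one, pow_one] at h1
    rw [h1, LinearMap.mem_ker]
    exact IsLocalRing.residue_eq_zero_iff x
  exact Module.Finite.equiv
    ((Submodule.quotEquivOfEq _ _ hker).symm.trans (f.quotKerEquivOfSurjective hf)).symm

theorem unramified_of
    (hm : (maximalIdeal A).map (algebraMap A B) = maximalIdeal B)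
    (hfin : Module.Finite (ResidueField A) (ResidueField B))
    (hsep : Algebra.IsSeparable (ResidueField A) (ResidueField B)) :
    ψ.Finite ∧ ψ.FormallyUnramified := by
  have hF := finite_of_map_eq A B ψ hψ hm hfin
  refine ⟨hF, ?_⟩
  letI := ψ.toAlgebra
  haveI : IsLocalHom (algebraMap (AdicCompletion (maximalIdeal A) A)
      (AdicCompletion (maximalIdeal B) B)) := isLocalHom A B ψ hψ
  haveI : Module.Finite (AdicCompletion (maximalIdeal A) A) (AdicCompletion (maximalIdeal B) B) :=
    hF
  haveI : Algebra.IsSeparable (ResidueField (AdicCompletion (maximalIdeal A) A))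
      (ResidueField (AdicCompletion (maximalIdeal B) B)) := (isSeparable_iff A B ψ hψ).mp hsep
  exact Algebra.FormallyUnramified.of_map_maximalIdeal
    ((map_maximalIdeal_eq_iff A B ψ hψ).mpr hm)

theorem of_unramified (hft : ψ.FiniteType) (hfu : ψ.FormallyUnramified) :
    (maximalIdeal A).map (algebraMap A B) = maximalIdeal B ∧
      Module.Finite (ResidueField A) (ResidueField B) ∧
      Algebra.IsSeparable (ResidueField A) (ResidueField B) := by
  letI := ψ.toAlgebra
  haveI : IsLocalHom (algebraMap (AdicCompletion (maximalIdeal A) A)
      (AdicCompletion (maximalIdeal B) B)) := isLocalHom A B ψ hψ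
  haveI : Algebra.FiniteType (AdicCompletion (maximalIdeal A) A)
    (AdicCompletion (maximalIdeal B) B) := hft
  haveI : Algebra.FormallyUnramified (AdicCompletion (maximalIdeal A) A)
    (AdicCompletion (maximalIdeal B) B) := hfu
  refine ⟨(map_maximalIdeal_eq_iff A B ψ hψ).mp Algebra.FormallyUnramified.map_maximalIdeal,
    (finite_iff A B ψ hψ).mpr inferInstance, (isSeparable_iff A B ψ hψ).mpr inferInstance⟩

end Groth.Agent.Helper14.ComplMap
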