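import Mathlib
import Groth.Prelude.Def_FSch3
import Groth.Agent.Lib.Helper28.FittStratum

set_option autoImplicit false
set_option linter.style.haveILetI false
set_option linter.unusedSectionVars false
set_option linter.unusedVariables false

universe u

open CategoryTheory CategoryTheory.Limits AlgebraicGeometry Opposite TopologicalSpace

namespace Groth.Agent.Helper14.FittCompl

/-- Krull/Nakayama: an ideal contained in all powers of `J` is killed by an element of `1 + J`. -/
theorem exists_one_add_kill {B : Type u} [CommRing B] [IsNoetherianRing B] (J K : Ideal B)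
    (h : ∀ n : ℕ, K ≤ J ^ (n + 1)) : ∃ s : B, s - 1 ∈ J ∧ ∀ x ∈ K, s * x = 0 := by
  obtain ⟨k, hk⟩ := Ideal.exists_pow_inf_eq_pow_smul J (K : Submodule B B)
  have hKJ : K ≤ J • K := by
    intro x hx
    have h1 : x ∈ (J ^ (k + 1) • (⊤ : Submodule B B)) ⊓ K := by
      refine ⟨?_, hx⟩
      rw [smul_eq_mul, Ideal.mul_top]
      exact h k hx
    rw [hk (k + 1) (Nat.le_succ k), Nat.add_sub_cancel_left, pow_one] at h1
    exact (smul_mono_right J inf_le_right : J • (_ ⊓ (K : Submodule B B)) ≤ J • (K : Submodule B B)) h1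
  obtain ⟨r, hr1, hr2⟩ := Submodule.exists_sub_one_mem_and_smul_eq_zero_of_fg_of_le_smul J K
    (IsNoetherian.noetherian K) hKJ
  exact ⟨r, hr1, fun x hx => hr2 x hx⟩

section Top

variable (A : Type u) [CommRing A] (I : Ideal A) [IsAdicComplete I A]
  {X : Scheme.{u}} (f : X ⟶ Spec (CommRingCat.of A)) [IsProper f]

/-- a closed subset of a proper scheme over a complete base which misses the closed fibre is
empty. -/
theorem eq_empty_of_disjoint_support (T : Set X) (hT : IsClosed T)
    (hd : ∀ t ∈ T, t ∉ ((FSch.idealSpec A I).comap f).support) : T = ∅ := by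
  by_contra hne
  obtain ⟨t₀, ht₀⟩ := Set.nonempty_iff_ne_empty.mpr hne
  have hC : IsClosed (f '' T) := f.isClosedMap _ hT
  obtain ⟨𝔞, h𝔞⟩ := (PrimeSpectrum.isClosed_iff_zeroLocus_ideal _).mp hC
  have h𝔞top : 𝔞 ≠ ⊤ := by
    rintro rfl
    have : f t₀ ∈ f '' T := ⟨t₀, ht₀, rfl⟩
    rw [h𝔞] at this
    simp at this
    exact this
  obtain ⟨𝔪, h𝔪, h𝔞𝔪⟩ := Ideal.exists_le_maximal 𝔞 h𝔞top
  let p : PrimeSpectrum A := ⟨𝔪, h𝔪.isPrime⟩
  have hp : p ∈ f '' T := by
    rw [h𝔞]
    exact h𝔞𝔪
  obtain ⟨t, htT, htp⟩ := hp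
  have hI𝔪 : I ≤ 𝔪 := by
    refine (IsAdicComplete.le_jacobson_bot I).trans ?_
    exact sInf_le ⟨bot_le, h𝔪⟩
  apply hd t htT
  rw [Scheme.IdealSheafData.support_comap]
  change f t ∈ (FSch.idealSpec A I).support
  have hrange : f t ∈ Set.range (Spec.map (CommRingCat.ofHom (Ideal.Quotient.mk I))) := by
    have h1 : Set.range (Spec.map (CommRingCat.ofHom (Ideal.Quotient.mk I))) =
        PrimeSpectrum.zeroLocus (I : Set A) := by
      have := _root_.range_comap_of_surjective (A ⧸ I) (Ideal.Quotient.mk I)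
        Ideal.Quotient.mk_surjective
      rw [Ideal.mk_ker] at this
      exact this
    rw [h1]
    rw [htp]
    exact hI𝔪
  exact Scheme.Hom.range_subset_ker_support _ hrange

end Top

end Groth.Agent.Helper14.FittCompl

namespace Groth.Agent.Helper14.FittCompl

section Main

variable (A : Type u) [CommRing A] [IsNoetherianRing A] (I : Ideal A) [IsAdicComplete I A]
  {X : Scheme.{u}} (f : X ⟶ Spec (CommRingCat.of A)) [IsProper f]

include A f in
lemma isLocallyNoetherian_of_proper : IsLocallyNoetherian X :=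
  LocallyOfFiniteType.isLocallyNoetherian f

/-- an ideal sheaf contained in all powers of the ideal of the closed fibre is zero. -/
theorem eq_bot_of_le_pow (Φ : X.IdealSheafData)
    (h : ∀ n : ℕ, Φ ≤ ((FSch.idealSpec A I).comap f) ^ (n + 1)) : Φ = ⊥ := by
  haveI := isLocallyNoetherian_of_proper A f
  let W : Set X := {x | ∃ V : X.affineOpens, x ∈ V.1 ∧ Φ.ideal V = ⊥}
  have hWopen : IsOpen W := by
    rw [isOpen_iff_forall_mem_open]
    rintro x ⟨V, hxV, hV⟩
    exact ⟨V.1, fun y hy => ⟨V, hy, hV⟩, V.1.2, hxV⟩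
  have hsupp : ∀ t ∈ Wᶜ, t ∉ ((FSch.idealSpec A I).comap f).support := by
    intro t ht hts
    apply ht
    obtain ⟨_, ⟨U, hU, rfl⟩, htU, -⟩ := X.isBasis_affineOpens.exists_subset_of_mem_open
      (Set.mem_univ t) isOpen_univ
    have hU' : IsAffineOpen U := hU
    let Ua : X.affineOpens := ⟨U, hU⟩
    haveI : IsNoetherianRing Γ(X, U) := IsLocallyNoetherian.component_noetherian Ua
    obtain ⟨s, hs1, hs2⟩ := exists_one_add_kill
      (((FSch.idealSpec A I).comap f).ideal Ua) (Φ.ideal Ua) (fun n => by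
        have := h n Ua
        rwa [Scheme.IdealSheafData.ideal_pow] at this)
    have htz := (Scheme.IdealSheafData.mem_support_iff_of_mem (U := Ua) htU).1 hts
    rw [Scheme.mem_zeroLocus_iff] at htz
    refine ⟨X.affineBasicOpen s, ?_, ?_⟩
    · have hr : (1 - s) ∈ ((FSch.idealSpec A I).comap f).ideal Ua := by
        have := neg_mem hs1
        rwa [neg_sub] at this
      have h1 : t ∈ X.basicOpen (s + (1 - s)) := by
        rw [add_sub_cancel, Scheme.basicOpen_of_isUnit X isUnit_one]
        exact htU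
      rcases X.basicOpen_add_le s (1 - s) h1 with h2 | h2
      · exact h2
      · exact (htz _ hr h2).elim
    · rw [← Φ.map_ideal_basicOpen Ua s]
      refine (Ideal.map_eq_bot_iff_le_ker _).mpr ?_
      intro x hx
      rw [RingHom.mem_ker]
      have hunit : IsUnit ((X.presheaf.map (homOfLE (X.basicOpen_le s)).op).hom s) :=
        RingedSpace.isUnit_res_basicOpen _ s
      have h3 : (X.presheaf.map (homOfLE (X.basicOpen_le s)).op).hom s *
          (X.presheaf.map (homOfLE (X.basicOpen_le s)).op).hom x = 0 := by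
        rw [← map_mul, hs2 x hx, map_zero]
      exact (hunit.mul_right_eq_zero).mp h3
  have hempty := eq_empty_of_disjoint_support A I f Wᶜ hWopen.isClosed_compl hsupp
  have hall : ∀ x : X, ∃ V : X.affineOpens, x ∈ V.1 ∧ Φ.ideal V = ⊥ := by
    intro x
    by_contra hx
    have : x ∈ Wᶜ := hx
    rw [hempty] at this
    exact this
  choose V hxV hV using hall
  have hcov : ⨆ x : X, (V x).1 = ⊤ := by
    rw [eq_top_iff]
    intro x _
    exact Opens.mem_iSup.2 ⟨x, hxV x⟩
  refine Scheme.IdealSheafData.ext_of_iSup_eq_top V hcov (fun x => ?_)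
  rw [hV x]
  rfl

end Main

end Groth.Agent.Helper14.FittCompl
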