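import Mathlib
import Groth.Prelude.Def_FSch3
import Groth.Agent.Lib.Helper16.Sch.FibNear
import Groth.Agent.Lib.Helper6.IdealComap
import Groth.Agent.Lib.Helper28.RestrictPB
import Groth.Agent.Lib.Helper14.FittComplA

set_option autoImplicit false
set_option linter.style.haveILetI false
set_option linter.unusedSectionVars false
set_option linter.unusedVariables false
universe u
open CategoryTheory CategoryTheory.Limits AlgebraicGeometry

namespace Groth.Agent.Helper14.ComplNear

variable {X Y Z : Scheme.{u}}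

/-- the level square of a morphism with respect to an ideal sheaf and its inverse image. -/
theorem isPullback_level (f : X ⟶ Y) (K : Y.IdealSheafData) (IX : X.IdealSheafData)
    (hIX : K.comap f = IX) (H : K ≤ IX.map f) :
    IsPullback IX.subschemeι (Scheme.IdealSheafData.subschemeMap IX K f H) f K.subschemeι :=
  isPullback_of_isClosedImmersion _ _ _ _
    (Scheme.IdealSheafData.subschemeMap_subschemeι _ _ _ _).symm
    (by rw [Scheme.IdealSheafData.ker_subschemeι, Scheme.IdealSheafData.ker_subschemeι]; exact hIX)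

/-- a base change of `f` along a morphism landing in `W` has every property stable under base
change that `f ∣_ W` has. -/
theorem of_restrict {P : MorphismProperty Scheme.{u}} [P.IsStableUnderBaseChange]
    (f : X ⟶ Y) {X' Y' : Scheme.{u}} {p' : X' ⟶ X} {f' : X' ⟶ Y'} {p : Y' ⟶ Y}
    (sq : IsPullback p' f' f p) (W : Y.Opens) (hW : Set.range p ⊆ (W : Set Y))
    (hP : P (f ∣_ W)) : P f' := by
  have hr : Set.range p ⊆ Set.range W.ι := by
    rw [Scheme.Opens.range_ι]; exact hW
  let j := IsOpenImmersion.lift W.ι p hr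
  have hj : j ≫ W.ι = p := IsOpenImmersion.lift_fac _ _ _
  have hr' : Set.range p' ⊆ Set.range (f ⁻¹ᵁ W).ι := by
    rw [Scheme.Opens.range_ι]
    rintro _ ⟨x, rfl⟩
    have h1 : f (p' x) = p (f' x) := by
      have := congrArg (fun φ : X' ⟶ Y => φ x) sq.w
      simpa using this
    change f (p' x) ∈ W
    rw [h1]
    exact hW ⟨_, rfl⟩
  let a := IsOpenImmersion.lift (f ⁻¹ᵁ W).ι p' hr'
  have ha : a ≫ (f ⁻¹ᵁ W).ι = p' := IsOpenImmersion.lift_fac _ _ _
  have big : IsPullback (a ≫ (f ⁻¹ᵁ W).ι) f' f (j ≫ W.ι) := by rw [ha, hj]; exact sq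
  have hcomm : a ≫ f ∣_ W = f' ≫ j := by
    rw [← cancel_mono W.ι, Category.assoc, Category.assoc, hj, morphismRestrict_ι,
      reassoc_of% ha, sq.w]
  exact P.of_isPullback (IsPullback.of_right big hcomm (isPullback_morphismRestrict f W).flip) hP

/-- globalization over a closed map. -/
theorem exists_nhd_of_forall {P : MorphismProperty Scheme.{u}} [IsZariskiLocalAtTarget P]
    (f : X ⟶ Y) (h : Y ⟶ Z) (hcl : IsClosedMap h) (T : Set Z)
    (H : ∀ y : Y, h y ∈ T → ∃ V : Y.Opens, y ∈ V ∧ P (f ∣_ V)) :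
    ∃ U : Z.Opens, T ⊆ (U : Set Z) ∧ P (f ∣_ (h ⁻¹ᵁ U)) := by
  let 𝒮 : Set Y.Opens := {V | P (f ∣_ V)}
  have hW : P (f ∣_ sSup 𝒮) := Groth.Agent.Helper28.RestrictPB.restrict_sSup f 𝒮 fun V hV => hV
  let C : Set Y := ((sSup 𝒮 : Y.Opens) : Set Y)ᶜ
  have hC : IsClosed C := (sSup 𝒮).2.isClosed_compl
  have hhC : IsClosed (h '' C) := hcl _ hC
  let U : Z.Opens := ⟨(h '' C)ᶜ, hhC.isOpen_compl⟩
  have hsU : T ⊆ (U : Set Z) := by
    rintro s hs ⟨y, hyC, hy⟩
    obtain ⟨V, hyV, hV⟩ := H y (hy ▸ hs)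
    exact hyC (TopologicalSpace.Opens.mem_sSup.mpr ⟨V, hV, hyV⟩)
  refine ⟨U, hsU, Groth.Agent.Helper16.FibNear.restrict_of_le f ?_ hW⟩
  intro y hy
  by_contra hcon
  exact hy ⟨y, hcon, rfl⟩

/-- a proper morphism whose base change to a closed subscheme is a closed immersion is a closed
immersion near the points of that closed subscheme. -/
theorem exists_nhd_isClosedImmersion (f : X ⟶ Y) [IsProper f] {X₀ Y₀ : Scheme.{u}} {iX : X₀ ⟶ X}
    {f₀ : X₀ ⟶ Y₀} {iY : Y₀ ⟶ Y} [IsClosedImmersion iY] (sq : IsPullback iX f₀ f iY)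
    [IsClosedImmersion f₀] (ys : Y₀) :
    ∃ V : Y.Opens, iY ys ∈ V ∧ IsClosedImmersion (f ∣_ V) := by
  obtain ⟨m, hsq⟩ : ∃ m, IsPullback m (f₀.fiberToSpecResidueField ys)
      (f.fiberToSpecResidueField (iY ys)) (Spec.map (iY.residueFieldMap ys)) :=
    ⟨_, isPullback_fiberToSpecResidueField_of_isPullback sq ys⟩
  have h1 : IsClosedImmersion (f₀.fiberToSpecResidueField ys) :=
    inferInstanceAs (IsClosedImmersion (pullback.snd _ _))
  have h0 : IsIso (iY.residueFieldMap ys) := by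
    rw [ConcreteCategory.isIso_iff_bijective]
    refine ⟨(iY.residueFieldMap ys).hom.injective, ?_⟩
    intro z
    obtain ⟨r, rfl⟩ := IsLocalRing.residue_surjective z
    obtain ⟨r', rfl⟩ := iY.stalkMap_surjective ys r
    exact ⟨IsLocalRing.residue _ r', rfl⟩
  have h0' : IsIso (Spec.map (iY.residueFieldMap ys)) := inferInstance
  have h2 : IsIso m := (MorphismProperty.isomorphisms Scheme).of_isPullback hsq.flip h0'
  have h3 : f.fiberToSpecResidueField (iY ys) =
      inv m ≫ f₀.fiberToSpecResidueField ys ≫ Spec.map (iY.residueFieldMap ys) := by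
    rw [IsIso.eq_inv_comp]; exact hsq.w
  have h4 : IsClosedImmersion (f.fiberToSpecResidueField (iY ys)) := by
    rw [h3]; infer_instance
  refine (Groth.Agent.Helper16.CINhd.main f (iY ys)).mpr
    ⟨Groth.Agent.Helper16.CINhd.isEmpty_or_isIso_of_isClosedImmersion _ (Field.toIsField _) _,
      ⊤, trivial, ?_⟩
  exact IsZariskiLocalAtTarget.restrict (P := @UniversallyClosed) inferInstance ⊤

/-- Krull: an ideal sheaf contained in all powers of `K` vanishes near the points of `V(K)`. -/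
theorem exists_affine_ideal_eq_bot [IsLocallyNoetherian Y] (K Φ : Y.IdealSheafData)
    (h : ∀ n : ℕ, Φ ≤ K ^ (n + 1)) (t : Y) (hts : t ∈ K.support) (U₀ : Y.Opens) (htU₀ : t ∈ U₀) :
    ∃ V : Y.affineOpens, t ∈ V.1 ∧ V.1 ≤ U₀ ∧ Φ.ideal V = ⊥ := by
  obtain ⟨_, ⟨U, hU, rfl⟩, htU, hUU₀⟩ := Y.isBasis_affineOpens.exists_subset_of_mem_open
    htU₀ U₀.2
  let Ua : Y.affineOpens := ⟨U, hU⟩
  haveI : IsNoetherianRing Γ(Y, U) := IsLocallyNoetherian.component_noetherian Ua
  obtain ⟨s, hs1, hs2⟩ := Groth.Agent.Helper14.FittCompl.exists_one_add_kill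
    (K.ideal Ua) (Φ.ideal Ua) (fun n => by
      have := h n Ua
      rwa [Scheme.IdealSheafData.ideal_pow] at this)
  have htz := (Scheme.IdealSheafData.mem_support_iff_of_mem (U := Ua) htU).1 hts
  rw [Scheme.mem_zeroLocus_iff] at htz
  refine ⟨Y.affineBasicOpen s, ?_, (Y.basicOpen_le s).trans hUU₀, ?_⟩
  · have hr : (1 - s) ∈ K.ideal Ua := by
      have := neg_mem hs1
      rwa [neg_sub] at this
    have h1 : t ∈ Y.basicOpen (s + (1 - s)) := by
      rw [add_sub_cancel, Scheme.basicOpen_of_isUnit Y isUnit_one]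
      exact htU
    rcases Y.basicOpen_add_le s (1 - s) h1 with h2 | h2
    · exact h2
    · exact (htz _ hr h2).elim
  · rw [← Φ.map_ideal_basicOpen Ua s]
    refine (Ideal.map_eq_bot_iff_le_ker _).mpr ?_
    intro x hx
    rw [RingHom.mem_ker]
    have hunit : IsUnit ((Y.presheaf.map (homOfLE (Y.basicOpen_le s)).op).hom s) :=
      RingedSpace.isUnit_res_basicOpen _ s
    have h3 : (Y.presheaf.map (homOfLE (Y.basicOpen_le s)).op).hom s *
        (Y.presheaf.map (homOfLE (Y.basicOpen_le s)).op).hom x = 0 := by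
      rw [← map_mul, hs2 x hx, map_zero]
    exact (hunit.mul_right_eq_zero).mp h3

/-- if a quasi-compact `f` has a base change to `V(K)` which is injective on sections (e.g. an
isomorphism), then `ker f ≤ K`. -/
theorem ker_le_of_isIso (f : X ⟶ Y) [QuasiCompact f] (K : Y.IdealSheafData) {X₀ : Scheme.{u}}
    (iX : X₀ ⟶ X) (f₀ : X₀ ⟶ K.subscheme) (hf₀ : f₀ ≫ K.subschemeι = iX ≫ f) (hiso : IsIso f₀) :
    f.ker ≤ K := by
  haveI := hiso
  intro U a ha
  rw [Scheme.Hom.ker_apply, RingHom.mem_ker] at ha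
  rw [← K.ker_subschemeι_app U, RingHom.mem_ker]
  have h1 := Scheme.Hom.congr_app hf₀ U.1
  rw [Scheme.Hom.comp_app, Scheme.Hom.comp_app] at h1
  have h2 := congrArg (fun φ => φ.hom a) h1
  change (f₀.app _).hom ((K.subschemeι.app U.1).hom a) =
    (X₀.presheaf.map _).hom ((iX.app _).hom ((f.app U.1).hom a)) at h2
  rw [ha, map_zero, map_zero] at h2
  have hinj : Function.Injective (f₀.app (K.subschemeι ⁻¹ᵁ U.1)).hom :=
    (ConcreteCategory.bijective_of_isIso (f₀.app (K.subschemeι ⁻¹ᵁ U.1))).1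
  exact hinj (h2.trans (map_zero _).symm)

/-- a closed immersion onto an affine open with trivial kernel there is an isomorphism. -/
theorem isIso_restrict_of_ideal_eq_bot (f : X ⟶ Y) [QuasiCompact f] (V : Y.affineOpens)
    (hV : f.ker.ideal V = ⊥) [IsClosedImmersion (f ∣_ V.1)] : IsIso (f ∣_ V.1) := by
  haveI : IsAffine V.1.toScheme := V.2
  have hinj : Function.Injective (f.app V.1).hom := by
    rw [RingHom.injective_iff_ker_eq_bot, ← Scheme.Hom.ker_apply]; exact hV
  apply IsClosedImmersion.isIso_of_injective_of_isAffine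
  rw [morphismRestrict_appTop]
  change Function.Injective ((f.app (V.1.ι ''ᵁ ⊤)) ≫ _).hom
  rw [CommRingCat.hom_comp, RingHom.coe_comp]
  refine Function.Injective.comp ?_ ?_
  · exact (ConcreteCategory.bijective_of_isIso
      (X.presheaf.map (eqToHom (image_morphismRestrict_preimage f V.1 ⊤)).op)).1
  · have e : V.1.ι ''ᵁ ⊤ = V.1 := V.1.ι_image_top
    rw [e]
    exact hinj

section Main

variable [IsLocallyNoetherian Z] (g : X ⟶ Z) (h : Y ⟶ Z) [IsProper g] [IsProper h] (f : X ⟶ Y)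
  (w : f ≫ h = g) (𝓙 : Z.IdealSheafData)

include w in
theorem comap_pow_eq (n : ℕ) : ((𝓙.comap h) ^ (n + 1)).comap f = (𝓙.comap g) ^ (n + 1) := by
  rw [Groth.Agent.Helper6.IdealComap.comap_pow, ← Scheme.IdealSheafData.comap_comp, w]

instance isClosedImmersion_completionToX' (W : Scheme.{u}) (𝓘 : W.IdealSheafData) (n : ℕ) :
    IsClosedImmersion (FSch.completionToX W 𝓘 n) :=
  inferInstanceAs (IsClosedImmersion (𝓘 ^ (n + 1)).subschemeι)

include w in
theorem sq (hc : FSch.PowCompat f (𝓙.comap g) (𝓙.comap h)) (n : ℕ) :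
    IsPullback (FSch.completionToX X (𝓙.comap g) n)
      ((FSch.completionMap f (𝓙.comap g) (𝓙.comap h) hc : FSch.Hom _ _).app n) f
      (FSch.completionToX Y (𝓙.comap h) n) :=
  isPullback_level f _ _ (comap_pow_eq g h f w 𝓙 n)
    (Scheme.IdealSheafData.le_map_iff_comap_le.mpr (hc n))

theorem range_level (n : ℕ) :
    Set.range (FSch.completionToX Y (𝓙.comap h) n) = h ⁻¹' (𝓙.support : Set Z) := by
  change Set.range ((𝓙.comap h) ^ (n + 1)).subschemeι = _
  rw [Scheme.IdealSheafData.range_subschemeι, Scheme.IdealSheafData.support_pow_succ,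
    Scheme.IdealSheafData.support_comap]
  rfl

include w in
theorem isProper_f : IsProper f := by
  haveI : IsProper (f ≫ h) := by rw [w]; infer_instance
  exact IsProper.of_comp f h

include w in
theorem main_ci (hc : FSch.PowCompat f (𝓙.comap g) (𝓙.comap h)) :
    (∀ n : ℕ, IsClosedImmersion
        ((FSch.completionMap f (𝓙.comap g) (𝓙.comap h) hc : FSch.Hom _ _).app n)) ↔
      ∃ U : Z.Opens, (𝓙.support : Set Z) ⊆ U ∧ IsClosedImmersion (f ∣_ h ⁻¹ᵁ U) := by
  haveI hf : IsProper f := isProper_f g h f w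
  constructor
  · intro H
    apply exists_nhd_of_forall (P := @IsClosedImmersion) f h h.isClosedMap (𝓙.support : Set Z)
    intro y hy
    have hy' : y ∈ Set.range (FSch.completionToX Y (𝓙.comap h) 0) := by
      rw [range_level]; exact hy
    obtain ⟨ys, rfl⟩ := hy'
    haveI := H 0
    exact exists_nhd_isClosedImmersion f (sq g h f w 𝓙 hc 0) ys
  · rintro ⟨U, hU, hP⟩ n
    refine of_restrict (P := @IsClosedImmersion) f (sq g h f w 𝓙 hc n) (h ⁻¹ᵁ U) ?_ hP
    rw [range_level]
    exact fun y hy => hU hy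

include w in
theorem main_iso (hc : FSch.PowCompat f (𝓙.comap g) (𝓙.comap h)) :
    (∀ n : ℕ, IsIso ((FSch.completionMap f (𝓙.comap g) (𝓙.comap h) hc : FSch.Hom _ _).app n)) ↔
      ∃ U : Z.Opens, (𝓙.support : Set Z) ⊆ U ∧ IsIso (f ∣_ h ⁻¹ᵁ U) := by
  haveI hf : IsProper f := isProper_f g h f w
  haveI : IsLocallyNoetherian Y := LocallyOfFiniteType.isLocallyNoetherian h
  constructor
  · intro H
    have hker : ∀ n, f.ker ≤ (𝓙.comap h) ^ (n + 1) := fun n =>
      ker_le_of_isIso f _ (FSch.completionToX X (𝓙.comap g) n) _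
        (sq g h f w 𝓙 hc n).w.symm (H n)
    have key := exists_nhd_of_forall (P := MorphismProperty.isomorphisms Scheme) f h
      h.isClosedMap (𝓙.support : Set Z) ?_
    · obtain ⟨U, hU, hP⟩ := key
      exact ⟨U, hU, hP⟩
    intro y hy
    have hy' : y ∈ Set.range (FSch.completionToX Y (𝓙.comap h) 0) := by
      rw [range_level]; exact hy
    obtain ⟨ys, rfl⟩ := hy'
    haveI := H 0
    obtain ⟨V₀, hyV₀, hV₀⟩ := exists_nhd_isClosedImmersion f (sq g h f w 𝓙 hc 0) ys
    have hsupp : (FSch.completionToX Y (𝓙.comap h) 0) ys ∈ (𝓙.comap h).support := by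
      rw [Scheme.IdealSheafData.support_comap]; exact hy
    obtain ⟨V, hyV, hVV₀, hV⟩ :=
      exists_affine_ideal_eq_bot (𝓙.comap h) f.ker hker _ hsupp V₀ hyV₀
    haveI : IsClosedImmersion (f ∣_ V.1) :=
      Groth.Agent.Helper16.FibNear.restrict_of_le f hVV₀ hV₀
    exact ⟨V.1, hyV, isIso_restrict_of_ideal_eq_bot f V hV⟩
  · rintro ⟨U, hU, hP⟩ n
    refine of_restrict (P := MorphismProperty.isomorphisms Scheme) f (sq g h f w 𝓙 hc n)
      (h ⁻¹ᵁ U) ?_ hP
    rw [range_level]
    exact fun y hy => hU hy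

end Main

end Groth.Agent.Helper14.ComplNear
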