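import Mathlib
import Groth.Prelude
import Groth.Agent.Lib.Helper1.LocalCriterion

/-!
# A homomorphism of complete algebras which is an isomorphism modulo `I`, with flat target,
is an isomorphism (cf. EGA 0_IV 19.7.1.5 / Bourbaki AC III §5)
-/

set_option autoImplicit false
set_option linter.unusedSectionVars false
set_option linter.style.haveILetI false
set_option linter.unusedVariables false

universe u

namespace Groth.Agent.Helper14.FlatIso

open TensorProduct

variable {A B D : Type u} [CommRing A] [CommRing B] [CommRing D] [Algebra A B] [Algebra A D]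

theorem surjective_of_mod (I : Ideal A) [IsPrecomplete (I.map (algebraMap A B)) B]
    [IsHausdorff (I.map (algebraMap A D)) D] (g : B →ₐ[A] D)
    (hsurj : ∀ d : D, ∃ b : B, d - g b ∈ I.map (algebraMap A D)) :
    Function.Surjective g := by
  have hmap : (I.map (algebraMap A B)).map g.toRingHom = I.map (algebraMap A D) := by
    rw [Ideal.map_map]
    congr 1
    exact g.comp_algebraMap
  haveI : IsHausdorff ((I.map (algebraMap A B)).map g.toRingHom) D := by
    rw [hmap]
    infer_instance
  apply surjective_of_mk_map_comp_surjective (I := I.map (algebraMap A B)) g.toRingHom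
  intro y
  obtain ⟨d, rfl⟩ := Ideal.Quotient.mk_surjective y
  obtain ⟨b, hb⟩ := hsurj d
  refine ⟨b, ?_⟩
  rw [RingHom.comp_apply, eq_comm, Ideal.Quotient.eq, hmap]
  exact hb

theorem injective_of_mod [IsNoetherianRing B] [Module.Flat A D] (I : Ideal A)
    (hIB : I.map (algebraMap A B) ≤ Ideal.jacobson ⊥) (g : B →ₐ[A] D)
    (hg : Function.Surjective g)
    (hinj : ∀ b : B, g b ∈ I.map (algebraMap A D) → b ∈ I.map (algebraMap A B)) :
    Function.Injective g := by
  rw [injective_iff_map_eq_zero]
  set N : Ideal B := RingHom.ker g.toRingHom with hN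
  suffices hbot : N = ⊥ by
    intro b hb
    have : b ∈ N := hb
    rw [hbot] at this
    exact this
  refine Submodule.eq_bot_of_le_smul_of_le_jacobson_bot (I.map (algebraMap A B)) N
    (IsNoetherian.noetherian N) ?_ hIB
  -- the A-linear exact sequence
  let NA : Submodule A B := LinearMap.ker g.toLinearMap
  have hexact : Function.Exact NA.subtype g.toLinearMap :=
    LinearMap.exact_subtype_ker_map g.toLinearMap
  have hinjT : Function.Injective (NA.subtype.lTensor (A ⧸ I)) :=
    Groth.Agent.Helper1.lTensor_injective_of_exact_of_flat NA.subtype g.toLinearMap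
      (Submodule.injective_subtype _) hexact hg (A ⧸ I)
  intro n hn
  have hnA : n ∈ NA := hn
  have hnI : n ∈ I.map (algebraMap A B) := by
    apply hinj
    have : g n = 0 := hn
    rw [this]
    exact Ideal.zero_mem _
  -- `1 ⊗ n = 0` in `(A/I) ⊗ B`
  have h0 : (NA.subtype.lTensor (A ⧸ I)) ((1 : A ⧸ I) ⊗ₜ[A] (⟨n, hnA⟩ : NA)) = 0 := by
    rw [LinearMap.lTensor_tmul]
    show (1 : A ⧸ I) ⊗ₜ[A] n = 0
    have h1 : n ∈ (I • ⊤ : Submodule A B) := by
      rw [Ideal.smul_top_eq_map]
      exact hnI
    apply (TensorProduct.quotTensorEquivQuotSMul B I).injective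
    rw [map_zero, ← map_one (Ideal.Quotient.mk I), TensorProduct.quotTensorEquivQuotSMul_mk_tmul,
      one_smul, Submodule.Quotient.mk_eq_zero]
    exact h1
  have h2 : (1 : A ⧸ I) ⊗ₜ[A] (⟨n, hnA⟩ : NA) = 0 := hinjT (h0.trans (map_zero _).symm)
  have h3 : (⟨n, hnA⟩ : NA) ∈ (I • ⊤ : Submodule A NA) := by
    have := congrArg (TensorProduct.quotTensorEquivQuotSMul NA I) h2
    rw [map_zero, ← map_one (Ideal.Quotient.mk I), TensorProduct.quotTensorEquivQuotSMul_mk_tmul,
      one_smul, Submodule.Quotient.mk_eq_zero] at this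
    exact this
  -- transfer to `B`
  have h4 : ∀ x : NA, x ∈ (I • ⊤ : Submodule A NA) → (x : B) ∈ I.map (algebraMap A B) • N := by
    intro x hx
    refine Submodule.smul_induction_on hx ?_ ?_
    · intro a ha m _
      have : ((a • m : NA) : B) = algebraMap A B a • (m : B) := by
        rw [Submodule.coe_smul, Algebra.smul_def, smul_eq_mul]
      rw [this]
      exact Submodule.smul_mem_smul (Ideal.mem_map_of_mem _ ha) m.2
    · intro x y hx hy
      rw [Submodule.coe_add]
      exact Submodule.add_mem _ hx hy
  exact h4 _ h3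

/-- The isomorphism lemma. -/
theorem bijective_of_mod [IsNoetherianRing B] [Module.Flat A D] (I : Ideal A)
    (hIB : I.map (algebraMap A B) ≤ Ideal.jacobson ⊥)
    [IsPrecomplete (I.map (algebraMap A B)) B] [IsHausdorff (I.map (algebraMap A D)) D]
    (g : B →ₐ[A] D)
    (hsurj : ∀ d : D, ∃ b : B, d - g b ∈ I.map (algebraMap A D))
    (hinj : ∀ b : B, g b ∈ I.map (algebraMap A D) → b ∈ I.map (algebraMap A B)) :
    Function.Bijective g :=
  have hs := surjective_of_mod I g hsurj
  ⟨injective_of_mod I hIB g hs hinj, hs⟩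

end Groth.Agent.Helper14.FlatIso
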