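import Mathlib
import Groth.Prelude.Def_CAlgX
import Groth.Agent.Lib.Helper14.AdicFSDer
import Groth.Agent.Lib.Helper14.AdicFSJacobi
import Groth.Agent.Lib.Helper9.AdicLift
import Groth.Agent.Lib.Helper1.LocalCriterion

/-!
# EGA 0_IV 19.7.1 (b) ⇒ (a): a flat algebra whose closed fibre is formally smooth is formally smooth
-/

set_option autoImplicit false
set_option linter.unusedSectionVars false
set_option linter.style.haveILetI false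
set_option linter.unusedVariables false

open TensorProduct

universe u

namespace Groth.Agent.Helper14.FlatFibreFS

variable {A B : Type u} [CommRing A] [CommRing B] [Algebra A B]

section Ext

variable {C : Type u} [CommRing C] [Algebra A C] (J : Ideal C) (ψ : B →ₐ[A] C ⧸ J)

/-- The fibre product `C ×_{C/J} B`. -/
def Etil : Subalgebra A (C × B) :=
  AlgHom.equalizer ((Ideal.Quotient.mkₐ A J).comp (AlgHom.fst A C B)) (ψ.comp (AlgHom.snd A C B))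

theorem mem_Etil (x : C × B) : x ∈ Etil J ψ ↔ Ideal.Quotient.mk J x.1 = ψ x.2 := Iff.rfl

/-- the projection to `B`. -/
def rho : Etil J ψ →ₐ[A] B := (AlgHom.snd A C B).comp (Etil J ψ).val

/-- the projection to `C`. -/
def fstE : Etil J ψ →ₐ[A] C := (AlgHom.fst A C B).comp (Etil J ψ).val

theorem rho_apply (x : Etil J ψ) : rho J ψ x = x.1.2 := rfl
theorem fstE_apply (x : Etil J ψ) : fstE J ψ x = x.1.1 := rfl

theorem mk_fstE (x : Etil J ψ) : Ideal.Quotient.mk J (fstE J ψ x) = ψ (rho J ψ x) := x.2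

theorem rho_surjective : Function.Surjective (rho J ψ) := by
  intro b
  obtain ⟨c, hc⟩ := Ideal.Quotient.mk_surjective (ψ b)
  exact ⟨⟨(c, b), hc⟩, rfl⟩

theorem fstE_mem_of_rho_eq_zero (x : Etil J ψ) (hx : rho J ψ x = 0) : fstE J ψ x ∈ J := by
  rw [← Ideal.Quotient.eq_zero_iff_mem, mk_fstE, hx, map_zero]

theorem ext_Etil (x y : Etil J ψ) (h1 : fstE J ψ x = fstE J ψ y) (h2 : rho J ψ x = rho J ψ y) :
    x = y := Subtype.ext (Prod.ext h1 h2)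

end Ext

section Abstract

variable {C : Type u} [CommRing C] [Algebra A C] (J : Ideal C) (ψ : B →ₐ[A] C ⧸ J)
  {E : Type u} [CommRing E] [Algebra A E] (ρ : E →ₐ[A] B) (φ : E →ₐ[A] C)

theorem tmul_eq_zero_of_mem_smul_top {M : Type*} [AddCommGroup M] [Module A M] (𝔪 : Ideal A)
    (x : M) (hx : x ∈ (𝔪 • ⊤ : Submodule A M)) : (1 : A ⧸ 𝔪) ⊗ₜ[A] x = 0 := by
  refine Submodule.smul_induction_on hx ?_ ?_
  · intro a ha m _
    rw [← TensorProduct.smul_tmul, ← Algebra.algebraMap_eq_smul_one, Ideal.Quotient.algebraMap_eq,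
      Ideal.Quotient.eq_zero_iff_mem.mpr ha, TensorProduct.zero_tmul]
  · intro x y hx hy
    rw [TensorProduct.tmul_add, hx, hy, add_zero]

/-- Flatness: `ker ρ ∩ 𝔪E = 0` when `𝔪` kills `J`. -/
theorem eq_zero_of_mem_of_rho_eq_zero [Module.Flat A B] (hρ : Function.Surjective ρ)
    (hmk : ∀ x, Ideal.Quotient.mk J (φ x) = ψ (ρ x))
    (hext : ∀ x y, φ x = φ y → ρ x = ρ y → x = y) (𝔪 : Ideal A)
    (h𝔪J : ∀ a ∈ 𝔪, ∀ j ∈ J, algebraMap A C a * j = 0)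
    (x : E) (hx0 : ρ x = 0) (hx : x ∈ 𝔪.map (algebraMap A E)) : x = 0 := by
  have hφJ : ∀ n : E, ρ n = 0 → φ n ∈ J := by
    intro n hn
    rw [← Ideal.Quotient.eq_zero_iff_mem, hmk, hn, map_zero]
  have hinj := Groth.Agent.Helper1.lTensor_injective_of_exact_of_flat (R := A)
    (A := ↥(LinearMap.ker ρ.toLinearMap)) (B := E) (C := B)
    (LinearMap.ker ρ.toLinearMap).subtype ρ.toLinearMap
    (Submodule.injective_subtype _)
    (LinearMap.exact_subtype_ker_map ρ.toLinearMap) hρ (A ⧸ 𝔪)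
  have hxN : x ∈ LinearMap.ker ρ.toLinearMap := hx0
  have hx' : x ∈ (𝔪 • ⊤ : Submodule A E) := by
    have := Ideal.smul_top_eq_map (R := A) (S := E) 𝔪
    rw [this]
    exact hx
  have h1 : ((LinearMap.ker ρ.toLinearMap).subtype.lTensor (A ⧸ 𝔪))
      ((1 : A ⧸ 𝔪) ⊗ₜ[A] (⟨x, hxN⟩ : LinearMap.ker ρ.toLinearMap)) = 0 := by
    rw [LinearMap.lTensor_tmul]
    exact tmul_eq_zero_of_mem_smul_top 𝔪 x hx'
  have h2 : (1 : A ⧸ 𝔪) ⊗ₜ[A] (⟨x, hxN⟩ : LinearMap.ker ρ.toLinearMap) = 0 :=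
    hinj (h1.trans (map_zero _).symm)
  have h3 := Groth.Agent.Helper14.AdicFSJacobi.mem_smul_top_of_tmul_eq_zero
    (P := A) (κ := A ⧸ 𝔪) (M := LinearMap.ker ρ.toLinearMap)
    Ideal.Quotient.mk_surjective _ h2
  have hker : RingHom.ker (algebraMap A (A ⧸ 𝔪)) = 𝔪 := by
    rw [Ideal.Quotient.algebraMap_eq, Ideal.mk_ker]
  rw [hker] at h3
  have h4 : (⟨x, hxN⟩ : LinearMap.ker ρ.toLinearMap) = 0 := by
    refine Submodule.smul_induction_on h3 ?_ ?_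
    · intro a ha n _
      apply Subtype.ext
      apply hext
      · show φ (a • (n : E)) = φ 0
        rw [map_smul, map_zero, Algebra.smul_def]
        exact h𝔪J a ha _ (hφJ _ n.2)
      · show ρ (a • (n : E)) = ρ 0
        rw [map_smul, map_zero]
        have : ρ (n : E) = 0 := n.2
        rw [this, smul_zero]
    · intro y z hy hz
      rw [hy, hz, add_zero]
  exact congrArg Subtype.val h4

/-- the ideal `0 × 𝔟` of `E`. -/
def nIdeal (𝔟 : Ideal B) : Ideal E := RingHom.ker φ.toRingHom ⊓ 𝔟.comap ρ.toRingHom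

theorem mem_nIdeal (𝔟 : Ideal B) (x : E) :
    x ∈ nIdeal ρ φ 𝔟 ↔ φ x = 0 ∧ ρ x ∈ 𝔟 := Iff.rfl

theorem map_rho_le (𝔪 : Ideal A) :
    𝔪.map (algebraMap A E) ≤ (𝔪.map (algebraMap A B)).comap ρ.toRingHom := by
  rw [Ideal.map_le_iff_le_comap]
  intro a ha
  rw [Ideal.mem_comap, Ideal.mem_comap]
  show ρ (algebraMap A E a) ∈ _
  rw [AlgHom.commutes]
  exact Ideal.mem_map_of_mem _ ha

/-- `(0, b) ∈ 𝔪E` for `b ∈ 𝔟 · 𝔪B` when `ψ` kills `𝔟`. -/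
theorem mem_map_of_mem_mul (hρ : Function.Surjective ρ)
    (hext : ∀ x y, φ x = φ y → ρ x = ρ y → x = y)
    (hzero : ∀ b, ψ b = 0 → ∃ x, φ x = 0 ∧ ρ x = b)
    (𝔪 : Ideal A) (𝔟 : Ideal B) (h𝔟 : ∀ b ∈ 𝔟, ψ b = 0)
    (x : E) (hx1 : φ x = 0) (hx2 : ρ x ∈ 𝔟 * 𝔪.map (algebraMap A B)) :
    x ∈ 𝔪.map (algebraMap A E) := by
  set Q₀ : Ideal B := Ideal.map ρ.toRingHom
    (𝔪.map (algebraMap A E) ⊓ RingHom.ker φ.toRingHom) with hQ₀
  have hle : 𝔟 * 𝔪.map (algebraMap A B) ≤ Q₀ := by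
    rw [Ideal.mul_le]
    intro s hs t ht
    refine Submodule.span_induction (p := fun t _ => s * t ∈ Q₀) ?_ ?_ ?_ ?_ ht
    · rintro _ ⟨a, ha, rfl⟩
      obtain ⟨xs, hxs1, hxs2⟩ := hzero s (h𝔟 s hs)
      have h1 : s * algebraMap A B a = ρ.toRingHom (algebraMap A E a * xs) := by
        show _ = ρ (algebraMap A E a * xs)
        rw [map_mul, AlgHom.commutes, mul_comm, hxs2]
      rw [h1]
      refine Ideal.mem_map_of_mem _ ⟨Ideal.mul_mem_right _ _ (Ideal.mem_map_of_mem _ ha), ?_⟩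
      show φ (algebraMap A E a * xs) = 0
      rw [map_mul, hxs1, mul_zero]
    · rw [mul_zero]; exact Ideal.zero_mem _
    · intro t₁ t₂ _ _ h₁ h₂
      rw [mul_add]; exact Ideal.add_mem _ h₁ h₂
    · intro r t _ h
      rw [smul_eq_mul, mul_left_comm]
      exact Ideal.mul_mem_left _ _ h
  have h2 := hle hx2
  rw [hQ₀, Ideal.mem_map_iff_of_surjective ρ.toRingHom hρ] at h2
  obtain ⟨n', ⟨hn'1, hn'2⟩, hn'3⟩ := h2
  have : x = n' := by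
    apply hext
    · rw [hx1]
      exact ((RingHom.mem_ker).mp hn'2).symm
    · exact hn'3.symm
  rw [this]
  exact hn'1

end Abstract

section Section

variable {C : Type u} [CommRing C] [Algebra A C] (J : Ideal C) (ψ : B →ₐ[A] C ⧸ J)
  {E : Type u} [CommRing E] [Algebra A E] (ρ : E →ₐ[A] B) (φ : E →ₐ[A] C)

/-- The extension `E → B` has an `A`-algebra section. -/
theorem exists_section [IsNoetherianRing B] [Module.Flat A B] (𝔪 : Ideal A) (𝔫 : Ideal B)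
    (hfib : CAlgX.IsAdicFormallySmooth (A ⧸ 𝔪) (B ⧸ 𝔪.map (algebraMap A B))
      (𝔫.map (Ideal.Quotient.mk (𝔪.map (algebraMap A B)))))
    (hJ : J ^ 2 = ⊥) (k : ℕ) (hk : ∀ x ∈ 𝔫 ^ k, ψ x = 0)
    (h𝔪J : ∀ a ∈ 𝔪, ∀ j ∈ J, algebraMap A C a * j = 0)
    (hρ : Function.Surjective ρ)
    (hmk : ∀ x, Ideal.Quotient.mk J (φ x) = ψ (ρ x))
    (hext : ∀ x y, φ x = φ y → ρ x = ρ y → x = y)
    (hzero : ∀ b, ψ b = 0 → ∃ x, φ x = 0 ∧ ρ x = b) :
    ∃ s : B →ₐ[A] E, ∀ b, ρ (s b) = b := by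
  have hφJ : ∀ n : E, ρ n = 0 → φ n ∈ J := by
    intro n hn
    rw [← Ideal.Quotient.eq_zero_iff_mem, hmk, hn, map_zero]
  set I : Ideal B := 𝔪.map (algebraMap A B) with hI
  obtain ⟨c₀, hc₀⟩ := Ideal.exists_pow_inf_eq_pow_smul 𝔫 (M := B) I
  have hAR : ∀ b ∈ 𝔫 ^ (k + c₀), b ∈ I → b ∈ 𝔫 ^ k * I := by
    intro b hb hbI
    have h1 := hc₀ (k + c₀) (Nat.le_add_left _ _)
    have h2 : b ∈ (𝔫 ^ (k + c₀) • ⊤ ⊓ I : Submodule B B) :=
      ⟨by rw [smul_eq_mul, Ideal.mul_top]; exact hb, hbI⟩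
    rw [h1, Nat.add_sub_cancel] at h2
    have h3 : (𝔫 ^ k • (𝔫 ^ c₀ • ⊤ ⊓ I) : Submodule B B) ≤ 𝔫 ^ k • I :=
      Submodule.smul_mono le_rfl inf_le_right
    exact h3 h2
  have hψk' : ∀ b ∈ 𝔫 ^ (k + c₀), ψ b = 0 := fun b hb =>
    hk b (Ideal.pow_le_pow_right (Nat.le_add_right _ _) hb)
  set I₁ : Ideal E := 𝔪.map (algebraMap A E) ⊔ nIdeal ρ φ (𝔫 ^ (k + c₀)) with hI₁
  set I₂ : Ideal E := RingHom.ker ρ with hI₂
  have hinf : I₁ ⊓ I₂ = ⊥ := by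
    rw [eq_bot_iff]
    rintro x ⟨hx1, hx2⟩
    obtain ⟨y, hy, n, hn, rfl⟩ := Submodule.mem_sup.mp hx1
    rw [mem_nIdeal] at hn
    have hx2' : ρ (y + n) = 0 := hx2
    have hyI : ρ y ∈ I := map_rho_le ρ 𝔪 hy
    have hnI : ρ n ∈ I := by
      have : ρ n = - ρ y := by
        rw [map_add] at hx2'
        exact eq_neg_of_add_eq_zero_right hx2'
      rw [this]
      exact I.neg_mem hyI
    have hn' : n ∈ 𝔪.map (algebraMap A E) :=
      mem_map_of_mem_mul J ψ ρ φ hρ hext hzero 𝔪 (𝔫 ^ k) hk n hn.1 (hAR _ hn.2 hnI)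
    rw [Ideal.mem_bot]
    exact eq_zero_of_mem_of_rho_eq_zero J ψ ρ φ hρ hmk hext 𝔪 h𝔪J (y + n) hx2'
      (Ideal.add_mem _ hy hn')
  -- the `A/𝔪`-algebra structure on `E/I₁`
  have hI₁0 : ∀ a ∈ 𝔪, algebraMap A (E ⧸ I₁) a = 0 := fun a ha => by
    rw [IsScalarTower.algebraMap_apply A E (E ⧸ I₁), Ideal.Quotient.algebraMap_eq,
      Ideal.Quotient.eq_zero_iff_mem]
    exact Ideal.mem_sup_left (Ideal.mem_map_of_mem _ ha)
  letI : Algebra (A ⧸ 𝔪) (E ⧸ I₁) :=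
    RingHom.toAlgebra (R := A ⧸ 𝔪) (S := E ⧸ I₁)
      (Ideal.Quotient.lift 𝔪 (algebraMap A (E ⧸ I₁)) hI₁0)
  haveI : IsScalarTower A (A ⧸ 𝔪) (E ⧸ I₁) := IsScalarTower.of_algebraMap_eq fun a => rfl
  set 𝔫b : Ideal (B ⧸ I) := 𝔫.map (Ideal.Quotient.mk I) with h𝔫b
  -- lifting elements of the kernel of `B → (B/I)/𝔫b^k'`
  have hlift : ∀ b₀ : B, Ideal.Quotient.mk (𝔫b ^ (k + c₀)) (Ideal.Quotient.mk I b₀) = 0 →
      ∃ y ∈ I₁, ρ y = b₀ := by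
    intro b₀ hb₀
    rw [Ideal.Quotient.eq_zero_iff_mem, h𝔫b, ← Ideal.map_pow,
      Ideal.mem_map_iff_of_surjective _ Ideal.Quotient.mk_surjective] at hb₀
    obtain ⟨b', hb', hbb'⟩ := hb₀
    have hi : b₀ - b' ∈ I := by
      rw [← Ideal.Quotient.eq_zero_iff_mem, map_sub, hbb', sub_self]
    have hmapI : Ideal.map ρ.toRingHom (𝔪.map (algebraMap A E)) = I := by
      rw [Ideal.map_map, hI]
      congr 1
      ext a
      exact ρ.commutes a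
    rw [← hmapI, Ideal.mem_map_iff_of_surjective ρ.toRingHom hρ] at hi
    obtain ⟨yi, hyi, hyi'⟩ := hi
    obtain ⟨xb, hxb1, hxb2⟩ := hzero b' (hψk' b' hb')
    refine ⟨yi + xb, Ideal.add_mem _ (Ideal.mem_sup_left hyi)
      (Ideal.mem_sup_right ((mem_nIdeal ρ φ _ _).mpr ⟨hxb1, by rw [hxb2]; exact hb'⟩)), ?_⟩
    rw [map_add]
    have h1 : ρ yi = b₀ - b' := hyi'
    rw [h1, hxb2]
    ring
  -- the map `ρ''`
  let q : E →ₐ[A] (B ⧸ I) ⧸ 𝔫b ^ (k + c₀) :=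
    (Ideal.Quotient.mkₐ A (𝔫b ^ (k + c₀))).comp ((Ideal.Quotient.mkₐ A I).comp ρ)
  have hqx : ∀ x, q x = Ideal.Quotient.mk (𝔫b ^ (k + c₀)) (Ideal.Quotient.mk I (ρ x)) :=
    fun x => rfl
  have hq : ∀ x ∈ I₁, q x = 0 := by
    intro x hx
    obtain ⟨y, hy, n, hn, rfl⟩ := Submodule.mem_sup.mp hx
    rw [map_add]
    have h1 : q y = 0 := by
      have h0 : ρ y ∈ I := map_rho_le ρ 𝔪 hy
      rw [hqx, Ideal.Quotient.eq_zero_iff_mem.mpr h0, map_zero]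
    have h2 : q n = 0 := by
      rw [hqx, Ideal.Quotient.eq_zero_iff_mem, h𝔫b, ← Ideal.map_pow]
      exact Ideal.mem_map_of_mem _ ((mem_nIdeal ρ φ _ _).mp hn).2
    rw [h1, h2, add_zero]
  let ρA : (E ⧸ I₁) →ₐ[A] (B ⧸ I) ⧸ 𝔫b ^ (k + c₀) := Ideal.Quotient.liftₐ I₁ q hq
  have hρA : ∀ x, ρA (Ideal.Quotient.mk I₁ x) = q x := fun x => rfl
  let ρ'' : (E ⧸ I₁) →ₐ[A ⧸ 𝔪] (B ⧸ I) ⧸ 𝔫b ^ (k + c₀) :=
    { ρA.toRingHom with
      commutes' := by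
        intro r
        obtain ⟨a, rfl⟩ := Ideal.Quotient.mk_surjective r
        show ρA (algebraMap A (E ⧸ I₁) a) = _
        rw [ρA.commutes]
        rfl }
  have hρ'' : ∀ z, ρ'' z = ρA z := fun z => rfl
  have hρsurj : Function.Surjective ρ'' := by
    intro z
    obtain ⟨z, rfl⟩ := Ideal.Quotient.mk_surjective z
    obtain ⟨b, rfl⟩ := Ideal.Quotient.mk_surjective z
    obtain ⟨x, rfl⟩ := hρ b
    exact ⟨Ideal.Quotient.mk I₁ x, rfl⟩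
  have hmemker : ∀ z ∈ RingHom.ker ρ'', ∃ x : E, ρ x = 0 ∧ Ideal.Quotient.mk I₁ x = z := by
    intro z hz
    obtain ⟨e, rfl⟩ := Ideal.Quotient.mk_surjective z
    rw [RingHom.mem_ker, hρ'', hρA, hqx] at hz
    obtain ⟨y, hy, hy'⟩ := hlift _ hz
    refine ⟨e - y, by rw [map_sub, hy', sub_self], ?_⟩
    rw [map_sub, Ideal.Quotient.eq_zero_iff_mem.mpr hy, sub_zero]
  have hker'' : (RingHom.ker ρ'') ^ 2 = ⊥ := by
    have hmul : RingHom.ker ρ'' * RingHom.ker ρ'' ≤ ⊥ := by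
      rw [Ideal.mul_le]
      intro z₁ hz₁ z₂ hz₂
      obtain ⟨x₁, hx₁, rfl⟩ := hmemker z₁ hz₁
      obtain ⟨x₂, hx₂, rfl⟩ := hmemker z₂ hz₂
      rw [Ideal.mem_bot, ← map_mul]
      have : x₁ * x₂ = 0 := by
        apply hext
        · rw [map_mul, map_zero]
          have h1 : φ x₁ * φ x₂ ∈ J ^ 2 := by
            rw [pow_two]
            exact Ideal.mul_mem_mul (hφJ x₁ hx₁) (hφJ x₂ hx₂)
          rw [hJ] at h1
          exact h1
        · rw [map_mul, hx₁, zero_mul, map_zero]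
      rw [this, map_zero]
    rw [eq_bot_iff, pow_two]
    exact hmul
  -- use formal smoothness of the fibre
  let ψb : (B ⧸ I) →ₐ[A ⧸ 𝔪] (B ⧸ I) ⧸ 𝔫b ^ (k + c₀) := Ideal.Quotient.mkₐ (A ⧸ 𝔪) _
  obtain ⟨χ'', hχ''⟩ := Groth.Agent.Helper14.AdicFSDer.lift_of_surjective hfib ρ'' hρsurj hker'' ψb
    ⟨k + c₀, fun x hx => Ideal.Quotient.eq_zero_iff_mem.mpr hx⟩
  have hχ''x : ∀ x, ρ'' (χ'' x) = Ideal.Quotient.mk _ x := fun x => DFunLike.congr_fun hχ'' x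
  let f₁ : B →ₐ[A] E ⧸ I₁ := (χ''.restrictScalars A).comp (Ideal.Quotient.mkₐ A I)
  have hf₁ : ∀ b, f₁ b = χ'' (Ideal.Quotient.mk I b) := fun b => rfl
  let e₂ : (E ⧸ I₂) ≃ₐ[A] B := Ideal.quotientKerAlgEquivOfSurjective hρ
  have he₂ : ∀ x, e₂ (Ideal.Quotient.mk I₂ x) = ρ x := fun x => rfl
  let f₂ : B →ₐ[A] E ⧸ I₂ := e₂.symm
  have hcompat : ∀ b, ∃ z : E, Ideal.Quotient.mk I₁ z = f₁ b ∧
      Ideal.Quotient.mk I₂ z = f₂ b := by
    intro b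
    obtain ⟨z₁, hz₁⟩ := Ideal.Quotient.mk_surjective (f₁ b)
    have h1 : q z₁ = Ideal.Quotient.mk _ (Ideal.Quotient.mk I b) := by
      rw [← hρA, ← hρ'', hz₁, hf₁, hχ''x]
    have h2 : Ideal.Quotient.mk (𝔫b ^ (k + c₀)) (Ideal.Quotient.mk I (ρ z₁ - b)) = 0 := by
      rw [map_sub, map_sub, ← hqx, h1, sub_self]
    obtain ⟨y, hy, hy'⟩ := hlift _ h2
    refine ⟨z₁ - y, ?_, ?_⟩
    · rw [map_sub, Ideal.Quotient.eq_zero_iff_mem.mpr hy, sub_zero, hz₁]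
    · show _ = e₂.symm b
      rw [AlgEquiv.eq_symm_apply, he₂, map_sub, hy']
      ring
  obtain ⟨w, -, hw2⟩ := Groth.Agent.Helper9.AdicLift.exists_algHom_inf I₁ I₂ f₁ f₂ hcompat
  let pr : (E ⧸ (I₁ ⊓ I₂)) ≃ₐ[A] E :=
    (Ideal.quotientEquivAlgOfEq A hinf).trans (AlgEquiv.quotientBot A E)
  have hpr : ∀ z, pr (Ideal.Quotient.mk _ z) = z := fun z => rfl
  refine ⟨(pr : (E ⧸ (I₁ ⊓ I₂)) →ₐ[A] E).comp w, fun b => ?_⟩
  obtain ⟨z, hz⟩ := Ideal.Quotient.mk_surjective (w b)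
  have h1 : ((pr : (E ⧸ (I₁ ⊓ I₂)) →ₐ[A] E).comp w) b = z := by
    show pr (w b) = _
    rw [← hz, hpr]
  have h2 : ρ z = b := by
    have := hw2 b
    rw [← hz, Ideal.Quotient.factor_mk] at this
    have h3 : e₂ (Ideal.Quotient.mk I₂ z) = b := by
      rw [this]
      exact e₂.apply_symm_apply b
    rw [he₂] at h3
    exact h3
  rw [h1, h2]

end Section

section Thm

/-- **EGA 0_IV 19.7.1, (b) ⇒ (a)** (in a general form): a flat Noetherian `A`-algebra `B` whose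
fibre `B/𝔪B` is formally smooth over `A/𝔪` (for the image of the `𝔫`-adic topology) is formally
smooth over `A` for the `𝔫`-adic topology, if `𝔪B ⊆ 𝔫`. -/
theorem isAdicFormallySmooth_of_flat [IsNoetherianRing B] [Module.Flat A B] (𝔪 : Ideal A)
    (𝔫 : Ideal B) (h𝔪𝔫 : 𝔪.map (algebraMap A B) ≤ 𝔫)
    (hfib : CAlgX.IsAdicFormallySmooth (A ⧸ 𝔪) (B ⧸ 𝔪.map (algebraMap A B))
      (𝔫.map (Ideal.Quotient.mk (𝔪.map (algebraMap A B))))) :
    CAlgX.IsAdicFormallySmooth A B 𝔫 := by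
  apply Groth.Agent.Helper14.AdicFSDer.of_forall_killed 𝔫
  intro C _ _ J hJ ψ hψ hkill
  obtain ⟨k, hk⟩ := hψ
  have h𝔪J : ∀ a ∈ 𝔪, ∀ j ∈ J, algebraMap A C a * j = 0 := by
    intro a ha j hj
    refine hkill (algebraMap A B a) (h𝔪𝔫 (Ideal.mem_map_of_mem _ ha)) (algebraMap A C a) ?_ j hj
    rw [ψ.commutes]
    rfl
  obtain ⟨s, hs⟩ := exists_section (E := Etil J ψ) J ψ (rho J ψ) (fstE J ψ) 𝔪 𝔫 hfib hJ k hk h𝔪J
    (rho_surjective J ψ) (mk_fstE J ψ) (ext_Etil J ψ) (by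
      intro b hb
      have hmem : ((0 : C), b) ∈ Etil J ψ := by
        rw [mem_Etil]
        show Ideal.Quotient.mk J 0 = ψ b
        rw [map_zero, hb]
      exact ⟨⟨((0 : C), b), hmem⟩, rfl, rfl⟩)
  refine ⟨(fstE J ψ).comp s, ?_⟩
  ext b
  show Ideal.Quotient.mk J (fstE J ψ (s b)) = ψ b
  rw [mk_fstE, hs]

end Thm

end Groth.Agent.Helper14.FlatFibreFS
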