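import Mathlib
import Groth.Prelude
import Groth.Agent.Lib.Helper1.CompFlat
import Groth.Agent.Lib.Helper1.AdicNoeth
import Groth.Agent.Lib.Helper1.AdicExt

/-!
# Flat complete algebras with prescribed closed fibre, from coefficient rings
(generalisation of `CohenAlgExist.exists_of_coeff`; towards EGA 0_IV 19.7.2)
-/

set_option autoImplicit false
universe u

namespace Groth.Agent.Helper14.ModelFlat

open IsLocalRing TensorProduct

section C1

variable {A Λ E K : Type u} [CommRing A] [IsLocalRing A]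
  [CommRing Λ] [IsLocalRing Λ] [Algebra Λ A]
  [CommRing E] [Algebra Λ E]
  [CommRing K]

/-- The map `A ⊗[Λ] E → K`. -/
noncomputable def psi (φ : ResidueField A →+* K) (ε : E →+* K)
    (hcompat : ∀ x : Λ, ε (algebraMap Λ E x) = φ (residue A (algebraMap Λ A x))) :
    A ⊗[Λ] E →+* K :=
  letI : Algebra Λ K := (ε.comp (algebraMap Λ E)).toAlgebra
  let f₁ : A →ₐ[Λ] K :=
    { toRingHom := φ.comp (residue A)
      commutes' := fun x => (hcompat x).symm }
  let f₂ : E →ₐ[Λ] K :=
    { toRingHom := ε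
      commutes' := fun _ => rfl }
  (Algebra.TensorProduct.productMap f₁ f₂ : A ⊗[Λ] E →ₐ[Λ] K)

lemma psi_tmul (φ : ResidueField A →+* K) (ε : E →+* K)
    (hcompat : ∀ x : Λ, ε (algebraMap Λ E x) = φ (residue A (algebraMap Λ A x)))
    (a : A) (l : E) : psi φ ε hcompat (a ⊗ₜ l) = φ (residue A a) * ε l := by
  simp [psi]

variable (hres : Function.Surjective ((residue A).comp (algebraMap Λ A)))
  (hloc : (maximalIdeal Λ).map (algebraMap Λ A) ≤ maximalIdeal A)
  (φ : ResidueField A →+* K) (ε : E →+* K) (hε : Function.Surjective ε)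
  (hker : RingHom.ker ε = (maximalIdeal Λ).map (algebraMap Λ E))
  (hcompat : ∀ x : Λ, ε (algebraMap Λ E x) = φ (residue A (algebraMap Λ A x)))

include hres in
lemma exists_sub_mem (t : A ⊗[Λ] E) :
    ∃ μ : E, t - 1 ⊗ₜ μ ∈ (maximalIdeal A).map (algebraMap A (A ⊗[Λ] E)) := by
  induction t using TensorProduct.induction_on with
  | zero => exact ⟨0, by simp⟩
  | tmul a l =>
    obtain ⟨x, hx⟩ := hres (residue A a)
    have hm : a - algebraMap Λ A x ∈ maximalIdeal A := by
      rw [← residue_eq_zero_iff, map_sub, sub_eq_zero]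
      exact hx.symm
    refine ⟨algebraMap Λ E x * l, ?_⟩
    have h1 : (a ⊗ₜ[Λ] l : A ⊗[Λ] E) - 1 ⊗ₜ (algebraMap Λ E x * l) =
        algebraMap A (A ⊗[Λ] E) (a - algebraMap Λ A x) * (1 ⊗ₜ l) := by
      rw [Algebra.TensorProduct.algebraMap_apply, Algebra.TensorProduct.tmul_mul_tmul, one_mul,
        mul_one, Algebra.algebraMap_self_apply, sub_tmul]
      congr 1
      rw [Algebra.algebraMap_eq_smul_one, Algebra.algebraMap_eq_smul_one, smul_mul_assoc, one_mul,
        TensorProduct.smul_tmul]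
    rw [h1]
    exact Ideal.mul_mem_right _ _ (Ideal.mem_map_of_mem _ hm)
  | add t₁ t₂ h₁ h₂ =>
    obtain ⟨μ₁, h₁⟩ := h₁
    obtain ⟨μ₂, h₂⟩ := h₂
    refine ⟨μ₁ + μ₂, ?_⟩
    have : t₁ + t₂ - (1 : A) ⊗ₜ[Λ] (μ₁ + μ₂) = (t₁ - 1 ⊗ₜ μ₁) + (t₂ - 1 ⊗ₜ μ₂) := by
      rw [tmul_add]
      ring
    rw [this]
    exact Ideal.add_mem _ h₁ h₂

include hres hloc hker in
lemma ker_psi : RingHom.ker (psi φ ε hcompat) =
    (maximalIdeal A).map (algebraMap A (A ⊗[Λ] E)) := by
  apply le_antisymm
  · intro t ht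
    obtain ⟨μ, hμ⟩ := exists_sub_mem hres t
    have hle : (maximalIdeal A).map (algebraMap A (A ⊗[Λ] E)) ≤ RingHom.ker (psi φ ε hcompat) := by
      rw [Ideal.map_le_iff_le_comap]
      intro a ha
      rw [Ideal.mem_comap, RingHom.mem_ker, Algebra.TensorProduct.algebraMap_apply, psi_tmul,
        Algebra.algebraMap_self_apply, (residue_eq_zero_iff a).mpr ha, map_zero, zero_mul]
    have h1 : psi φ ε hcompat ((1 : A) ⊗ₜ[Λ] μ) = 0 := by
      have := hle hμ
      rw [RingHom.mem_ker, map_sub, (RingHom.mem_ker).mp ht, zero_sub, neg_eq_zero] at this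
      exact this
    rw [psi_tmul, map_one, map_one, one_mul] at h1
    have hμm : μ ∈ (maximalIdeal Λ).map (algebraMap Λ E) := by
      rw [← hker]
      exact h1
    have hcomap : (maximalIdeal Λ).map (algebraMap Λ E) ≤
        ((maximalIdeal A).map (algebraMap A (A ⊗[Λ] E))).comap
          (Algebra.TensorProduct.includeRight : E →ₐ[Λ] A ⊗[Λ] E).toRingHom := by
      rw [Ideal.map_le_iff_le_comap]
      intro x hx
      rw [Ideal.mem_comap, Ideal.mem_comap]
      have h2 : (Algebra.TensorProduct.includeRight : E →ₐ[Λ] A ⊗[Λ] E).toRingHom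
          (algebraMap Λ E x) = algebraMap A (A ⊗[Λ] E) (algebraMap Λ A x) := by
        simp only [AlgHom.toRingHom_eq_coe, RingHom.coe_coe, AlgHom.commutes]
        rw [← IsScalarTower.algebraMap_apply]
      rw [h2]
      exact Ideal.mem_map_of_mem _ (hloc (Ideal.mem_map_of_mem _ hx))
    have h3 : (1 : A) ⊗ₜ[Λ] μ ∈ (maximalIdeal A).map (algebraMap A (A ⊗[Λ] E)) := hcomap hμm
    have : t = (t - 1 ⊗ₜ μ) + 1 ⊗ₜ μ := by ring
    rw [this]
    exact Ideal.add_mem _ hμ h3
  · rw [Ideal.map_le_iff_le_comap]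
    intro a ha
    rw [Ideal.mem_comap, RingHom.mem_ker, Algebra.TensorProduct.algebraMap_apply, psi_tmul,
      Algebra.algebraMap_self_apply, (residue_eq_zero_iff a).mpr ha, map_zero, zero_mul]

include hε in
lemma psi_surjective : Function.Surjective (psi φ ε hcompat) := by
  intro y
  obtain ⟨l, rfl⟩ := hε y
  exact ⟨1 ⊗ₜ l, by rw [psi_tmul, map_one, map_one, one_mul]⟩

open Groth.Agent.Helper1.CompFlat in
include hres hloc hε hker hcompat in
/-- Properties of the completed tensor product `(A ⊗[Λ] E)^`. -/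
theorem props_of_coeff [IsNoetherianRing A] [Module.Flat Λ E] [IsNoetherianRing K]
    (I : Ideal (A ⊗[Λ] E)) (hI : I = (maximalIdeal A).map (algebraMap A (A ⊗[Λ] E))) :
      IsNoetherianRing (AdicCompletion I (A ⊗[Λ] E)) ∧
      Module.Flat A (AdicCompletion I (A ⊗[Λ] E)) ∧
      IsAdicComplete ((maximalIdeal A).map (algebraMap A (AdicCompletion I (A ⊗[Λ] E))))
        (AdicCompletion I (A ⊗[Λ] E)) ∧
      ∃ χ : AdicCompletion I (A ⊗[Λ] E) →+* K, Function.Surjective χ ∧
        RingHom.ker χ = (maximalIdeal A).map (algebraMap A (AdicCompletion I (A ⊗[Λ] E))) ∧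
        (∀ a : A, χ (algebraMap A (AdicCompletion I (A ⊗[Λ] E)) a) = φ (residue A a)) ∧
        ∀ t : A ⊗[Λ] E, χ (algebraMap (A ⊗[Λ] E) (AdicCompletion I (A ⊗[Λ] E)) t) =
          psi φ ε hcompat t := by
  classical
  subst hI
  set I : Ideal (A ⊗[Λ] E) := (maximalIdeal A).map (algebraMap A (A ⊗[Λ] E)) with hI
  have hIfg : I.FG := Ideal.FG.map (IsNoetherian.noetherian (maximalIdeal A)) _
  have hkerψ : RingHom.ker (psi φ ε hcompat) = I := ker_psi hres hloc φ ε hker hcompat
  let eK : (A ⊗[Λ] E) ⧸ I ≃+* K := (Ideal.quotEquivOfEq hkerψ.symm).trans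
    (RingHom.quotientKerEquivOfSurjective (psi_surjective φ ε hε hcompat))
  haveI : IsNoetherianRing ((A ⊗[Λ] E) ⧸ I) := isNoetherianRing_of_ringEquiv K eK.symm
  haveI hBN : IsNoetherianRing (AdicCompletion I (A ⊗[Λ] E)) :=
    Groth.Agent.Helper1.isNoetherianRing_adicCompletion_of_fg (A ⊗[Λ] E) I hIfg
  haveI hcompB : IsAdicComplete (I.map (algebraMap (A ⊗[Λ] E) (AdicCompletion I (A ⊗[Λ] E))))
      (AdicCompletion I (A ⊗[Λ] E)) := AdicCompletion.isAdicComplete_self I hIfg
  have hmapA : (maximalIdeal A).map (algebraMap A (AdicCompletion I (A ⊗[Λ] E))) =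
      I.map (algebraMap (A ⊗[Λ] E) (AdicCompletion I (A ⊗[Λ] E))) := by
    rw [hI, Ideal.map_map]
    rfl
  refine ⟨hBN, ?_, ?_, ?_⟩
  · -- flatness
    haveI : IsAdicComplete (maximalIdeal A) (AdicCompletion I (A ⊗[Λ] E)) := by
      have := (IsAdicComplete.map_algebraMap_iff (S := AdicCompletion I (A ⊗[Λ] E))
        (maximalIdeal A) (AdicCompletion I (A ⊗[Λ] E))).mp (by rw [hmapA]; exact hcompB)
      exact this
    apply flat_of_approxEq (maximalIdeal A)
    intro n
    haveI : Module.Flat (A ⧸ maximalIdeal A ^ n)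
        ((A ⊗[Λ] E) ⧸ (maximalIdeal A ^ n • ⊤ : Submodule A (A ⊗[Λ] E))) :=
      Module.Flat.of_linearEquiv
        ((quotTensorEquivQuotSMul (A ⊗[Λ] E) (maximalIdeal A ^ n)).extendScalarsOfSurjective
          Ideal.Quotient.mk_surjective).symm
    have hsub : ((I ^ n • ⊤ : Submodule (A ⊗[Λ] E) (A ⊗[Λ] E))).restrictScalars A =
        (maximalIdeal A ^ n • ⊤ : Submodule A (A ⊗[Λ] E)) := by
      ext x
      rw [Submodule.restrictScalars_mem]
      exact mem_map_pow_smul_top_iff (maximalIdeal A) n x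
    let E' : AdicCompletion I (A ⊗[Λ] E) →ₗ[A]
        (A ⊗[Λ] E) ⧸ (maximalIdeal A ^ n • ⊤ : Submodule A (A ⊗[Λ] E)) :=
      (Submodule.quotEquivOfEq _ _ hsub).toLinearMap ∘ₗ
        (Submodule.Quotient.restrictScalarsEquiv A
          (I ^ n • ⊤ : Submodule (A ⊗[Λ] E) (A ⊗[Λ] E))).symm.toLinearMap ∘ₗ
        (AdicCompletion.eval I (A ⊗[Λ] E) n).restrictScalars A
    have hE0 : ∀ x, E' x = 0 ↔ AdicCompletion.eval I (A ⊗[Λ] E) n x = 0 := by
      intro x
      simp only [E', LinearMap.coe_comp, LinearEquiv.coe_coe, Function.comp_apply,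
        LinearMap.coe_restrictScalars, LinearEquiv.map_eq_zero_iff]
    refine approxEq_of_flat (B := A ⧸ maximalIdeal A ^ n)
      (P := (A ⊗[Λ] E) ⧸ (maximalIdeal A ^ n • ⊤ : Submodule A (A ⊗[Λ] E)))
      (Ideal.Quotient.mk (maximalIdeal A ^ n)) Ideal.Quotient.mk_surjective _
      (fun a => Ideal.Quotient.eq_zero_iff_mem) E'.toAddMonoidHom ?_ ?_ ?_
    · intro y
      obtain ⟨y, rfl⟩ := (Submodule.quotEquivOfEq _ _ hsub).surjective y
      obtain ⟨y, rfl⟩ := (Submodule.Quotient.restrictScalarsEquiv A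
          (I ^ n • ⊤ : Submodule (A ⊗[Λ] E) (A ⊗[Λ] E))).symm.surjective y
      obtain ⟨x, rfl⟩ := AdicCompletion.eval_surjective I (A ⊗[Λ] E) n y
      exact ⟨x, rfl⟩
    · intro a x
      show E' (a • x) = Ideal.Quotient.mk (maximalIdeal A ^ n) a • E' x
      rw [map_smul]
      rfl
    · intro x
      show E' x = 0 ↔ _
      rw [hE0, ← mem_map_pow_smul_top_iff (A := A ⊗[Λ] E), ← hI,
        AdicCompletion.pow_smul_top_eq_ker_eval hIfg, LinearMap.mem_ker]
  · rw [hmapA]
    exact hcompB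
  · -- closed fibre
    let χ : AdicCompletion I (A ⊗[Λ] E) →+* K :=
      (eK : (A ⊗[Λ] E) ⧸ I →+* K).comp (AdicCompletion.evalOneₐ I).toRingHom
    have hχsurj : Function.Surjective χ :=
      eK.surjective.comp (AdicCompletion.evalOneₐ_surjective I)
    have hχker : RingHom.ker χ = (maximalIdeal A).map (algebraMap A (AdicCompletion I (A ⊗[Λ] E))) := by
      rw [hmapA, ← AdicCompletion.ker_evalOneₐ_eq_map I hIfg]
      ext x
      simp only [RingHom.mem_ker, χ, RingHom.comp_apply]
      exact (map_eq_zero_iff _ eK.injective)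
    refine ⟨χ, hχsurj, hχker, fun a => ?_, fun t => rfl⟩
    have h2 : χ (algebraMap A (AdicCompletion I (A ⊗[Λ] E)) a) =
        psi φ ε hcompat (algebraMap A (A ⊗[Λ] E) a) := rfl
    rw [h2, Algebra.TensorProduct.algebraMap_apply, psi_tmul, Algebra.algebraMap_self_apply,
      map_one, mul_one]

open Groth.Agent.Helper1.CompFlat in
include hres hloc hε hker hcompat in
/-- Construction of a flat complete `A`-algebra with prescribed closed fibre `K`
from coefficient rings. -/
theorem exists_of_coeff [IsNoetherianRing A] [Module.Flat Λ E] [IsNoetherianRing K] :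
    ∃ (D : Type u) (_ : CommRing D) (_ : Algebra A D),
      IsNoetherianRing D ∧ Module.Flat A D ∧
      IsAdicComplete ((maximalIdeal A).map (algebraMap A D)) D ∧
      ∃ χ : D →+* K, Function.Surjective χ ∧
        RingHom.ker χ = (maximalIdeal A).map (algebraMap A D) ∧
        ∀ a : A, χ (algebraMap A D a) = φ (residue A a) := by
  obtain ⟨h1, h2, h3, χ, h4, h5, h6, -⟩ := props_of_coeff hres hloc φ ε hε hker hcompat
    ((maximalIdeal A).map (algebraMap A (A ⊗[Λ] E))) rfl
  exact ⟨_, inferInstance, inferInstance, h1, h2, h3, χ, h4, h5, h6⟩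

end C1

section Local

variable {A D Rb : Type u} [CommRing A] [IsLocalRing A] [CommRing D] [Algebra A D]
  [CommRing Rb] [IsLocalRing Rb]

/-- A ring complete along an ideal with local quotient is local. -/
theorem isLocalRing_of_complete (I : Ideal D) [IsAdicComplete I D] (χ : D →+* Rb)
    (hχ : Function.Surjective χ) (hker : RingHom.ker χ = I) :
    IsLocalRing D ∧ (maximalIdeal Rb).comap χ ∈ {M : Ideal D | M.IsMaximal} ∧
      ∀ M : Ideal D, M.IsMaximal → M = (maximalIdeal Rb).comap χ := by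
  have hmax : ((maximalIdeal Rb).comap χ).IsMaximal :=
    Ideal.comap_isMaximal_of_surjective χ hχ
  have huniq : ∀ M : Ideal D, M.IsMaximal → M = (maximalIdeal Rb).comap χ := by
    intro M hM
    have hIM : RingHom.ker χ ≤ M := by
      rw [hker]
      exact (IsAdicComplete.le_jacobson_bot I).trans (sInf_le ⟨bot_le, hM⟩)
    have h1 : (M.map χ).IsMaximal := Ideal.IsMaximal.map_of_surjective_of_ker_le hχ hIM
    have h2 : M.map χ = maximalIdeal Rb := IsLocalRing.eq_maximalIdeal h1
    rw [← h2, Ideal.comap_map_of_surjective' χ hχ]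
    exact (sup_eq_left.mpr hIM).symm
  exact ⟨IsLocalRing.of_unique_max_ideal ⟨_, hmax, fun M hM => huniq M hM⟩, hmax, huniq⟩

end Local

section Complete

variable {A D Rb : Type u} [CommRing A] [IsLocalRing A] [CommRing D] [IsLocalRing D]
  [IsNoetherianRing D] [Algebra A D] [CommRing Rb] [IsLocalRing Rb]

/-- Completeness for the maximal ideal. -/
theorem isAdicComplete_maximalIdeal_of_complete (I : Ideal D) [IsAdicComplete I D]
    (χ : D →+* Rb) (hχ : Function.Surjective χ) (hker : RingHom.ker χ = I)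
    [IsAdicComplete (maximalIdeal Rb) Rb] : IsAdicComplete (maximalIdeal D) D := by
  let e : (D ⧸ I) ≃+* Rb := (Ideal.quotEquivOfEq hker.symm).trans
    (RingHom.quotientKerEquivOfSurjective hχ)
  have he : ∀ d : D, e (Ideal.Quotient.mk I d) = χ d := fun d => rfl
  haveI hq : IsAdicComplete ((maximalIdeal D).map (Ideal.Quotient.mk I)) (D ⧸ I) := by
    rw [← IsAdicComplete.congr_ringEquiv _ e]
    have h2 : Ideal.map (e : _ →+* Rb) ((maximalIdeal D).map (Ideal.Quotient.mk I)) =
        maximalIdeal Rb := by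
      rw [Ideal.map_map]
      have h3 : ((e : _ →+* Rb).comp (Ideal.Quotient.mk I)) = χ := by
        ext d
        exact he d
      rw [h3]
      have hIm : RingHom.ker χ ≤ maximalIdeal D := by
        rw [hker]
        exact (IsAdicComplete.le_jacobson_bot I).trans
          (sInf_le ⟨bot_le, IsLocalRing.maximalIdeal.isMaximal D⟩)
      exact IsLocalRing.eq_maximalIdeal
        (Ideal.IsMaximal.map_of_surjective_of_ker_le hχ hIm)
    have h2' : Ideal.map e ((maximalIdeal D).map (Ideal.Quotient.mk I)) = maximalIdeal Rb := h2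
    rw [h2']
    infer_instance
  exact Groth.Agent.Helper1.isAdicComplete_of_isAdicComplete_quotient I _

end Complete

end Groth.Agent.Helper14.ModelFlat
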