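import Mathlib
import Groth.Prelude
import Groth.Agent.Lib.Helper14.ModelFlat
import Groth.Agent.Lib.Helper14.CohenCoeff
import Groth.Agent.Lib.Helper14.CohenExist
import Groth.Agent.Lib.Helper14.CohenLift
import Groth.Agent.Lib.Helper14.PowerSeriesComplete

/-!
# Flat complete local algebras with closed fibre a (twisted) power series ring
(towards EGA 0_IV 19.7.2)
-/

set_option autoImplicit false
set_option linter.unusedSectionVars false
set_option linter.style.haveILetI false
set_option linter.unusedVariables false

universe u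

namespace Groth.Agent.Helper14.ModelExist

open IsLocalRing TensorProduct MvPowerSeries

section CharZero

variable {A K : Type u} [CommRing A] [IsLocalRing A] [IsNoetherianRing A]
  [IsAdicComplete (maximalIdeal A) A] [Field K]

theorem exists_model_charZero [CharZero (ResidueField A)] (n : ℕ)
    (σ : ResidueField A →+* MvPowerSeries (Fin n) K) :
    ∃ (D : Type u) (_ : CommRing D) (_ : Algebra A D),
      IsNoetherianRing D ∧ Module.Flat A D ∧
      IsAdicComplete ((maximalIdeal A).map (algebraMap A D)) D ∧
      ∃ χ : D →+* MvPowerSeries (Fin n) K, Function.Surjective χ ∧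
        RingHom.ker χ = (maximalIdeal A).map (algebraMap A D) ∧
        ∀ a : A, χ (algebraMap A D a) = σ (residue A a) := by
  obtain ⟨s, hs⟩ := Groth.Agent.Helper14.CohenCoeff.exists_coefficient_field (A := A)
  letI : Algebra (ResidueField A) A := s.toAlgebra
  letI : Algebra (ResidueField A) (MvPowerSeries (Fin n) K) := σ.toAlgebra
  have hsx : ∀ x, residue A (s x) = x := fun x => DFunLike.congr_fun hs x
  refine Groth.Agent.Helper14.ModelFlat.exists_of_coeff (Λ := ResidueField A)
    (E := MvPowerSeries (Fin n) K) (K := MvPowerSeries (Fin n) K) ?_ ?_ σ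
    (RingHom.id _) Function.surjective_id ?_ ?_
  · intro y
    exact ⟨y, hsx y⟩
  · rw [IsLocalRing.maximalIdeal_eq_bot, Ideal.map_bot]
    exact bot_le
  · rw [IsLocalRing.maximalIdeal_eq_bot, Ideal.map_bot]
    ext x
    simp [RingHom.mem_ker]
  · intro x
    show σ x = σ (residue A (s x))
    rw [hsx]

end CharZero

section PS

variable {W K : Type u} [CommRing W] [CommRing K] {n : ℕ}

theorem map_surjective_of_surjective (r : W →+* K) (hr : Function.Surjective r) :
    Function.Surjective (MvPowerSeries.map (σ := Fin n) r) := by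
  intro g
  refine ⟨fun m => Function.surjInv hr (coeff m g), ?_⟩
  ext m
  rw [coeff_map]
  exact Function.surjInv_eq hr _

/-- The kernel of coefficientwise reduction modulo a principal ideal `(π)`, `π` a non-zero-divisor
is not needed: we only use the explicit description. -/
theorem ker_map_eq_span (r : W →+* K) (π : W) (hker : RingHom.ker r = Ideal.span {π}) :
    RingHom.ker (MvPowerSeries.map (σ := Fin n) r) = Ideal.span {(C π : MvPowerSeries (Fin n) W)} := by
  apply le_antisymm
  · intro f hf
    rw [RingHom.mem_ker] at hf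
    have h1 : ∀ m, ∃ g : W, coeff m f = π * g := by
      intro m
      have h2 : r (coeff m f) = 0 := by
        have := congrArg (coeff m) hf
        rwa [coeff_map, map_zero] at this
      have h3 : coeff m f ∈ Ideal.span {π} := by
        rw [← hker]
        exact h2
      obtain ⟨g, hg⟩ := Ideal.mem_span_singleton'.mp h3
      exact ⟨g, by rw [← hg, mul_comm]⟩
    choose g hg using h1
    rw [Ideal.mem_span_singleton']
    refine ⟨(fun m => g m : MvPowerSeries (Fin n) W), ?_⟩
    ext m
    rw [mul_comm, coeff_C_mul, hg]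
    rfl
  · rw [Ideal.span_le]
    rintro _ rfl
    show C π ∈ RingHom.ker _
    rw [RingHom.mem_ker, map_C]
    have : r π = 0 := by
      have h1 : π ∈ RingHom.ker r := by
        rw [hker]
        exact Ideal.mem_span_singleton_self π
      exact h1
    rw [this, map_zero]

end PS

section CharP

variable {A K : Type u} [CommRing A] [IsLocalRing A] [IsNoetherianRing A]
  [IsAdicComplete (maximalIdeal A) A] [Field K]

theorem exists_model_charP (p : ℕ) [hp : Fact p.Prime] [CharP (ResidueField A) p] (n : ℕ)
    (σ : ResidueField A →+* MvPowerSeries (Fin n) K) :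
    ∃ (D : Type u) (_ : CommRing D) (_ : Algebra A D),
      IsNoetherianRing D ∧ Module.Flat A D ∧
      IsAdicComplete ((maximalIdeal A).map (algebraMap A D)) D ∧
      ∃ χ : D →+* MvPowerSeries (Fin n) K, Function.Surjective χ ∧
        RingHom.ker χ = (maximalIdeal A).map (algebraMap A D) ∧
        ∀ a : A, χ (algebraMap A D a) = σ (residue A a) := by
  haveI : CharP (MvPowerSeries (Fin n) K) p := charP_of_injective_ringHom σ.injective p
  haveI : CharP K p := RingHom.charP (C : K →+* MvPowerSeries (Fin n) K) (C_injective) p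
  obtain ⟨W, _, _, v, hW, hm, hvloc, hvsurj⟩ :=
    Groth.Agent.Helper14.CohenCoeff.exists_cohen_hom (A := A) p
  obtain ⟨hdom, hdvr, hcomp, -, -, -⟩ := hW
  obtain ⟨W', _, _, hW', hm', ⟨e₀⟩⟩ := Groth.Agent.Helper14.CohenExist.exists_cohenRing' p K
  obtain ⟨hdom', hdvr', hcomp', -, -, -⟩ := hW'
  let r₀ : W' →+* K := (e₀ : ResidueField W' →+* K).comp (residue W')
  have hr₀ : Function.Surjective r₀ := e₀.surjective.comp residue_surjective
  have hkr₀ : RingHom.ker r₀ = Ideal.span {(p : W')} := by
    rw [← hm']
    ext x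
    simp only [RingHom.mem_ker, r₀, RingHom.comp_apply, RingHom.coe_coe]
    rw [map_eq_zero_iff _ e₀.injective, residue_eq_zero_iff]
  let ε : MvPowerSeries (Fin n) W' →+* MvPowerSeries (Fin n) K := MvPowerSeries.map r₀
  have hε : Function.Surjective ε := map_surjective_of_surjective r₀ hr₀
  have hkε : RingHom.ker ε = Ideal.span {(C (p : W') : MvPowerSeries (Fin n) W')} :=
    ker_map_eq_span r₀ (p : W') hkr₀
  haveI : IsAdicComplete (maximalIdeal (MvPowerSeries (Fin n) W')) (MvPowerSeries (Fin n) W') :=
    Groth.Agent.Helper14.PowerSeriesComplete.isAdicComplete_maximalIdeal (Fin n) W'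
  set J : Ideal (MvPowerSeries (Fin n) W') := RingHom.ker ε with hJdef
  have hCp_mem : (C (p : W') : MvPowerSeries (Fin n) W') ∈
      maximalIdeal (MvPowerSeries (Fin n) W') := by
    rw [IsLocalRing.mem_maximalIdeal, mem_nonunits_iff, MvPowerSeries.isUnit_iff_constantCoeff,
      constantCoeff_C]
    have : (p : W') ∈ maximalIdeal W' := by
      rw [hm']
      exact Ideal.mem_span_singleton_self _
    exact this
  have hJle : J ≤ maximalIdeal (MvPowerSeries (Fin n) W') := by
    rw [hkε, Ideal.span_le]
    rintro _ rfl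
    exact hCp_mem
  let eq : (MvPowerSeries (Fin n) W' ⧸ J) ≃+* MvPowerSeries (Fin n) K :=
    RingHom.quotientKerEquivOfSurjective hε
  have heq : ∀ f, eq (Ideal.Quotient.mk J f) = ε f := fun f => rfl
  let u : W →+* MvPowerSeries (Fin n) W' ⧸ J :=
    (eq.symm : _ →+* _).comp (σ.comp ((residue A).comp v))
  have hux : ∀ x, eq (u x) = σ (residue A (v x)) := fun x => eq.apply_symm_apply _
  haveI : Nontrivial (MvPowerSeries (Fin n) W' ⧸ J) :=
    Ideal.Quotient.nontrivial_iff.mpr (fun h => (maximalIdeal.isMaximal _).ne_top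
      (top_le_iff.mp (h ▸ hJle)))
  haveI : IsLocalRing (MvPowerSeries (Fin n) W' ⧸ J) :=
    IsLocalRing.of_surjective' (Ideal.Quotient.mk J) Ideal.Quotient.mk_surjective
  haveI : IsHausdorff ((maximalIdeal (MvPowerSeries (Fin n) W')).map (Ideal.Quotient.mk J))
      (MvPowerSeries (Fin n) W' ⧸ J) := by
    apply IsHausdorff.of_isLocalRing
    intro htop
    have h1 := congrArg (Ideal.comap (Ideal.Quotient.mk J)) htop
    rw [Ideal.comap_map_of_surjective' _ Ideal.Quotient.mk_surjective, Ideal.mk_ker,
      Ideal.comap_top, sup_eq_left.mpr hJle] at h1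
    exact (maximalIdeal.isMaximal _).ne_top h1
  have hpm : ((p : MvPowerSeries (Fin n) W')) = C (p : W') := (map_natCast C p).symm
  haveI : IsDomain (MvPowerSeries (Fin n) W') := NoZeroDivisors.to_isDomain _
  obtain ⟨w, -, hw⟩ := Groth.Agent.Helper14.CohenLift.exists_ringHom_lift (maximalIdeal W)
    (maximalIdeal (MvPowerSeries (Fin n) W')) J
    (Groth.Agent.Helper14.CohenLift.isRingFS_cohen W p hp.out hm)
    ⟨1, by rw [pow_one]; exact hJle⟩ u ⟨1, by
      rw [pow_one, hm, Ideal.map_span, Set.image_singleton, map_natCast, Ideal.span_le]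
      rintro _ rfl
      have : ((p : MvPowerSeries (Fin n) W' ⧸ J)) =
          Ideal.Quotient.mk J (C (p : W')) := by
        rw [← hpm, map_natCast]
      rw [this]
      exact Ideal.mem_map_of_mem _ hCp_mem⟩
  have hwx : ∀ x, ε (w x) = σ (residue A (v x)) := by
    intro x
    have h1 : Ideal.Quotient.mk J (w x) = u x := DFunLike.congr_fun hw x
    rw [← heq, h1, hux]
  letI : Algebra W A := v.toAlgebra
  letI : Algebra W (MvPowerSeries (Fin n) W') := w.toAlgebra
  have hpW' : (p : W') ≠ 0 := Groth.Agent.Helper14.CohenLift.natCast_ne_zero_of_dvr p hm'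
  have hpE : (p : MvPowerSeries (Fin n) W') ≠ 0 := by
    rw [hpm]
    intro h0
    exact hpW' (C_injective (h0.trans (map_zero C).symm))
  have hwinj : Function.Injective w := by
    rw [RingHom.injective_iff_ker_eq_bot]
    by_contra hne
    haveI : (RingHom.ker w).IsPrime := RingHom.ker_isPrime w
    have hmaxk : (RingHom.ker w).IsMaximal := Ideal.IsPrime.isMaximal inferInstance hne
    have hk : RingHom.ker w = maximalIdeal W := IsLocalRing.eq_maximalIdeal hmaxk
    have : (p : W) ∈ RingHom.ker w := by
      rw [hk, hm]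
      exact Ideal.mem_span_singleton_self _
    rw [RingHom.mem_ker, map_natCast] at this
    exact hpE this
  haveI : Module.Flat W (MvPowerSeries (Fin n) W') := by
    rw [IsDedekindDomain.flat_iff_torsion_eq_bot, ← Submodule.isTorsionFree_iff_torsion_eq_bot,
      Module.isTorsionFree_iff_algebraMap_injective]
    exact hwinj
  refine Groth.Agent.Helper14.ModelFlat.exists_of_coeff (Λ := W)
    (E := MvPowerSeries (Fin n) W') (K := MvPowerSeries (Fin n) K) hvsurj ?_ σ ε hε ?_ ?_
  · exact ((IsLocalRing.local_hom_TFAE v).out 0 2).mp hvloc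
  · show J = (maximalIdeal W).map w
    have hwp : w (p : W) = C (p : W') := by rw [map_natCast w p, hpm]
    rw [hkε, hm, Ideal.map_span, Set.image_singleton, hwp]
  · intro x
    exact hwx x

end CharP

section Assemble

theorem exists_model_aux {A K : Type u} [CommRing A] [IsLocalRing A] [IsNoetherianRing A]
    [IsAdicComplete (maximalIdeal A) A] [Field K] (n : ℕ)
    (σ : ResidueField A →+* MvPowerSeries (Fin n) K) :
    ∃ (D : Type u) (_ : CommRing D) (_ : Algebra A D),
      IsNoetherianRing D ∧ Module.Flat A D ∧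
      IsAdicComplete ((maximalIdeal A).map (algebraMap A D)) D ∧
      ∃ χ : D →+* MvPowerSeries (Fin n) K, Function.Surjective χ ∧
        RingHom.ker χ = (maximalIdeal A).map (algebraMap A D) ∧
        ∀ a : A, χ (algebraMap A D a) = σ (residue A a) := by
  obtain ⟨p, hpc⟩ := CharP.exists (ResidueField A)
  rcases Nat.eq_zero_or_pos p with rfl | hpos
  · haveI : CharZero (ResidueField A) := CharP.charP_to_charZero _
    exact exists_model_charZero n σ
  · have hprime : p.Prime := by
      rcases CharP.char_is_prime_or_zero (ResidueField A) p with hp | hp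
      · exact hp
      · omega
    haveI : Fact p.Prime := ⟨hprime⟩
    exact exists_model_charP p n σ

/-- Complete base: flat complete Noetherian local `A`-algebra with closed fibre the twisted power
series ring `(K[[T]], σ)`. -/
theorem exists_model_complete {A K : Type u} [CommRing A] [IsLocalRing A] [IsNoetherianRing A]
    [IsAdicComplete (maximalIdeal A) A] [Field K] (n : ℕ)
    (σ : ResidueField A →+* MvPowerSeries (Fin n) K) :
    ∃ (D : Type u) (_ : CommRing D) (_ : IsLocalRing D) (_ : Algebra A D),
      IsNoetherianRing D ∧ IsAdicComplete (maximalIdeal D) D ∧ Module.Flat A D ∧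
      IsLocalHom (algebraMap A D) ∧
      ∃ χ : D →+* MvPowerSeries (Fin n) K, Function.Surjective χ ∧
        RingHom.ker χ = (maximalIdeal A).map (algebraMap A D) ∧
        ∀ a : A, χ (algebraMap A D a) = σ (residue A a) := by
  obtain ⟨D, _, _, hN, hflat, hcomp, χ, hχ, hker, hcompat⟩ := exists_model_aux n σ
  obtain ⟨hloc, -, -⟩ := Groth.Agent.Helper14.ModelFlat.isLocalRing_of_complete
    ((maximalIdeal A).map (algebraMap A D)) χ hχ hker
  haveI : IsAdicComplete (maximalIdeal (MvPowerSeries (Fin n) K)) (MvPowerSeries (Fin n) K) :=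
    Groth.Agent.Helper14.PowerSeriesComplete.isAdicComplete_maximalIdeal (Fin n) K
  have hc : IsAdicComplete (maximalIdeal D) D :=
    Groth.Agent.Helper14.ModelFlat.isAdicComplete_maximalIdeal_of_complete
      ((maximalIdeal A).map (algebraMap A D)) χ hχ hker
  refine ⟨D, inferInstance, hloc, inferInstance, hN, hc, hflat, ?_, χ, hχ, hker, hcompat⟩
  refine ((IsLocalRing.local_hom_TFAE (algebraMap A D)).out 0 2).mpr ?_
  rw [← hker]
  intro x hx
  rw [RingHom.mem_ker] at hx
  rw [IsLocalRing.mem_maximalIdeal, mem_nonunits_iff]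
  intro hu
  have := hu.map χ
  rw [hx] at this
  exact not_isUnit_zero this

/-- General Noetherian local base (EGA 0_IV 19.7.2 for a power series closed fibre). -/
theorem exists_model {A K : Type u} [CommRing A] [IsLocalRing A] [IsNoetherianRing A]
    [Field K] (n : ℕ) (σ : ResidueField A →+* MvPowerSeries (Fin n) K) :
    ∃ (D : Type u) (_ : CommRing D) (_ : IsLocalRing D) (_ : Algebra A D),
      IsNoetherianRing D ∧ IsAdicComplete (maximalIdeal D) D ∧ Module.Flat A D ∧
      IsLocalHom (algebraMap A D) ∧
      ∃ χ : D →+* MvPowerSeries (Fin n) K, Function.Surjective χ ∧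
        RingHom.ker χ = (maximalIdeal A).map (algebraMap A D) ∧
        ∀ a : A, χ (algebraMap A D a) = σ (residue A a) := by
  haveI hN : IsNoetherianRing (AdicCompletion (maximalIdeal A) A) :=
    Groth.Agent.Helper1.isNoetherianRing_adicCompletion_of_fg A (maximalIdeal A)
      (IsNoetherian.noetherian _)
  let ehat : ResidueField A ≃+* ResidueField (AdicCompletion (maximalIdeal A) A) :=
    RingEquiv.ofBijective
      (IsLocalRing.ResidueField.map (algebraMap A (AdicCompletion (maximalIdeal A) A)))
      (AdicCompletion.residueField_map_bijective A)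
  let σ' : ResidueField (AdicCompletion (maximalIdeal A) A) →+* MvPowerSeries (Fin n) K :=
    σ.comp (ehat.symm : _ →+* ResidueField A)
  obtain ⟨D, _, _, _, hDN, hDc, hDflat, hDloc, χ, hχ, hker, hcompat⟩ :=
    exists_model_complete n σ'
  letI : Algebra A D :=
    ((algebraMap (AdicCompletion (maximalIdeal A) A) D).comp
      (algebraMap A (AdicCompletion (maximalIdeal A) A))).toAlgebra
  haveI : IsScalarTower A (AdicCompletion (maximalIdeal A) A) D :=
    IsScalarTower.of_algebraMap_eq (fun _ => rfl)
  have hmap : (maximalIdeal A).map (algebraMap A D) =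
      (maximalIdeal (AdicCompletion (maximalIdeal A) A)).map
        (algebraMap (AdicCompletion (maximalIdeal A) A) D) := by
    rw [IsScalarTower.algebraMap_eq A (AdicCompletion (maximalIdeal A) A) D, ← Ideal.map_map,
      ← AdicCompletion.maximalIdeal_eq_map]
  have hflat : Module.Flat A D := Module.Flat.trans A (AdicCompletion (maximalIdeal A) A) D
  refine ⟨D, inferInstance, inferInstance, inferInstance, hDN, hDc, hflat, ?_, χ, hχ, ?_, ?_⟩
  · have h1 : (maximalIdeal (AdicCompletion (maximalIdeal A) A)).map
        (algebraMap (AdicCompletion (maximalIdeal A) A) D) ≤ maximalIdeal D :=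
      ((IsLocalRing.local_hom_TFAE _).out 0 2).mp hDloc
    exact ((IsLocalRing.local_hom_TFAE (algebraMap A D)).out 0 2).mpr (hmap.le.trans h1)
  · rw [hker, hmap]
  · intro a
    rw [IsScalarTower.algebraMap_apply A (AdicCompletion (maximalIdeal A) A) D, hcompat]
    show σ (ehat.symm _) = _
    congr 1
    rw [RingEquiv.symm_apply_eq]
    rfl

end Assemble

section Fibre

theorem fibre_equiv' {A D B₀ : Type u} [CommRing A] (I : Ideal A) [CommRing D] [Algebra A D]
    [CommRing B₀] [Algebra (A ⧸ I) B₀]
    (f : D →+* B₀) (hf : Function.Surjective f)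
    (hker : RingHom.ker f = I.map (algebraMap A D))
    (hcompat : ∀ a, f (algebraMap A D a) = algebraMap (A ⧸ I) B₀ (Ideal.Quotient.mk I a)) :
    Nonempty ((A ⧸ I) ⊗[A] D ≃ₐ[A ⧸ I] B₀) := by
  let g : (D ⧸ I.map (algebraMap A D)) →+* B₀ :=
    Ideal.Quotient.lift _ f (fun x hx => by rw [← hker] at hx; exact hx)
  have hg : Function.Bijective g := by
    constructor
    · rw [injective_iff_map_eq_zero]
      intro x hx
      obtain ⟨d, rfl⟩ := Ideal.Quotient.mk_surjective x
      have h1 : f d = 0 := hx
      rw [Ideal.Quotient.eq_zero_iff_mem, ← hker]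
      exact h1
    · intro b
      obtain ⟨d, rfl⟩ := hf b
      exact ⟨Ideal.Quotient.mk _ d, rfl⟩
  let gA : (D ⧸ I.map (algebraMap A D)) ≃ₐ[A ⧸ I] B₀ :=
    AlgEquiv.ofRingEquiv (f := RingEquiv.ofBijective g hg) (by
      intro x
      obtain ⟨a, rfl⟩ := Ideal.Quotient.mk_surjective x
      exact hcompat a)
  exact ⟨(Algebra.TensorProduct.quotIdealMapEquivQuotTensor D I).symm.trans gA⟩

theorem fibre_equiv {A D B₀ : Type u} [CommRing A] [IsLocalRing A] [CommRing D] [Algebra A D]
    [CommRing B₀] [Algebra (ResidueField A) B₀]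
    (f : D →+* B₀) (hf : Function.Surjective f)
    (hker : RingHom.ker f = (maximalIdeal A).map (algebraMap A D))
    (hcompat : ∀ a, f (algebraMap A D a) = algebraMap (ResidueField A) B₀ (residue A a)) :
    Nonempty (ResidueField A ⊗[A] D ≃ₐ[ResidueField A] B₀) := by
  letI : Algebra (A ⧸ maximalIdeal A) B₀ := ‹Algebra (ResidueField A) B₀›
  exact fibre_equiv' (maximalIdeal A) f hf hker hcompat

end Fibre

end Groth.Agent.Helper14.ModelExist
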