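import Mathlib
import Groth.Prelude
import Groth.Agent.S9444
import Groth.Agent.Lib.Helper14.ModelExist
import Groth.Agent.Lib.Helper14.FlatFibreFS
import Groth.Agent.Lib.Helper14.AdicFSTransfer
import Groth.Agent.Lib.Helper14.AdicFSRegular2

/-!
# Formally smooth lifts of formally smooth complete local algebras over the residue field
(EGA 0_IV 19.7.2, case `J = 𝔪`)
-/

set_option autoImplicit false
set_option linter.unusedSectionVars false
set_option linter.style.haveILetI false
set_option linter.unusedVariables false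

universe u

namespace Groth.Agent.Helper14.ModelSmooth

open IsLocalRing TensorProduct

/-- Adic formal smoothness does not change when the base ring is replaced by an isomorphic one. -/
theorem of_bijective_base {R R' S : Type u} [CommRing R] [CommRing R'] [CommRing S]
    [Algebra R R'] [Algebra R S] [Algebra R' S] [IsScalarTower R R' S]
    (hbij : Function.Bijective (algebraMap R R')) (𝔫 : Ideal S)
    (h : CAlgX.IsAdicFormallySmooth R' S 𝔫) : CAlgX.IsAdicFormallySmooth R S 𝔫 := by
  intro C _ _ J hJ ψ hψ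
  let e : R ≃+* R' := RingEquiv.ofBijective _ hbij
  letI : Algebra R' C := ((algebraMap R C).comp (e.symm : R' →+* R)).toAlgebra
  haveI : IsScalarTower R R' C := IsScalarTower.of_algebraMap_eq fun r => by
    show algebraMap R C r = algebraMap R C (e.symm (e r))
    rw [e.symm_apply_apply]
  haveI : IsScalarTower R R' (C ⧸ J) := IsScalarTower.of_algebraMap_eq fun r => by
    show algebraMap R (C ⧸ J) r = Ideal.Quotient.mk J (algebraMap R C (e.symm (e r)))
    rw [e.symm_apply_apply]
    rfl
  let ψ' : S →ₐ[R'] C ⧸ J :=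
    { ψ.toRingHom with
      commutes' := fun r' => by
        obtain ⟨r, rfl⟩ := hbij.2 r'
        show ψ (algebraMap R' S (algebraMap R R' r)) = algebraMap R' (C ⧸ J) (algebraMap R R' r)
        rw [← IsScalarTower.algebraMap_apply, ← IsScalarTower.algebraMap_apply, ψ.commutes] }
  obtain ⟨χ, hχ⟩ := h C J hJ ψ' hψ
  refine ⟨χ.restrictScalars R, ?_⟩
  ext s
  exact DFunLike.congr_fun hχ s

/-- The fibre `k' ⊗[A] D` for a quotient field `k'` of `A`. -/
theorem fibre_equiv_gen {A D B₀ k' : Type u} [CommRing A] (I : Ideal A) [CommRing k'] [Algebra A k']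
    (hk' : Function.Surjective (algebraMap A k')) (hkI : RingHom.ker (algebraMap A k') = I)
    [CommRing D] [Algebra A D] [CommRing B₀] [Algebra k' B₀]
    (f : D →+* B₀) (hf : Function.Surjective f)
    (hker : RingHom.ker f = I.map (algebraMap A D))
    (hcompat : ∀ a, f (algebraMap A D a) = algebraMap k' B₀ (algebraMap A k' a)) :
    Nonempty (k' ⊗[A] D ≃ₐ[k'] B₀) := by
  letI : Algebra A B₀ := ((algebraMap k' B₀).comp (algebraMap A k')).toAlgebra
  haveI : IsScalarTower A k' B₀ := IsScalarTower.of_algebraMap_eq fun r => rfl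
  let fA : D →ₐ[A] B₀ := { f with commutes' := hcompat }
  let Φ : k' ⊗[A] D →ₐ[k'] B₀ :=
    Algebra.TensorProduct.lift (Algebra.ofId k' B₀) fA (fun _ _ => Commute.all _ _)
  have hΦ : ∀ (x : k') (d : D), Φ (x ⊗ₜ d) = algebraMap k' B₀ x * f d := fun x d =>
    Algebra.TensorProduct.lift_tmul _ _ _ _ _
  have hform : ∀ t : k' ⊗[A] D, ∃ d : D, t = 1 ⊗ₜ d := by
    intro t
    induction t using TensorProduct.induction_on with
    | zero => exact ⟨0, (tmul_zero _ _).symm⟩
    | tmul x d =>
      obtain ⟨a, rfl⟩ := hk' x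
      refine ⟨a • d, ?_⟩
      rw [Algebra.algebraMap_eq_smul_one, smul_tmul]
    | add t₁ t₂ h₁ h₂ =>
      obtain ⟨d₁, rfl⟩ := h₁
      obtain ⟨d₂, rfl⟩ := h₂
      exact ⟨d₁ + d₂, (tmul_add _ _ _).symm⟩
  have hzero : I.map (algebraMap A D) ≤
      RingHom.ker (Algebra.TensorProduct.includeRight : D →ₐ[A] k' ⊗[A] D).toRingHom := by
    rw [Ideal.map_le_iff_le_comap]
    intro a ha
    rw [Ideal.mem_comap, RingHom.mem_ker]
    show (1 : k') ⊗ₜ[A] (algebraMap A D a) = 0
    rw [Algebra.algebraMap_eq_smul_one, ← smul_tmul, ← Algebra.algebraMap_eq_smul_one]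
    have : algebraMap A k' a = 0 := by
      rw [← RingHom.mem_ker, hkI]
      exact ha
    rw [this, zero_tmul]
  have hbij : Function.Bijective Φ := by
    constructor
    · rw [injective_iff_map_eq_zero]
      intro t ht
      obtain ⟨d, rfl⟩ := hform t
      rw [hΦ, map_one, one_mul] at ht
      have hd : d ∈ I.map (algebraMap A D) := by
        rw [← hker]
        exact ht
      exact hzero hd
    · intro b
      obtain ⟨d, rfl⟩ := hf b
      exact ⟨1 ⊗ₜ d, by rw [hΦ, map_one, one_mul]⟩
  exact ⟨AlgEquiv.ofBijective Φ hbij⟩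

/-- EGA 0_IV 19.7.2 for `J = 𝔪` (explicit form): a complete Noetherian local algebra formally
smooth over the residue field lifts to a flat, formally smooth complete Noetherian local algebra. -/
theorem exists_smooth_lift' {A : Type u} [CommRing A] [IsLocalRing A] [IsNoetherianRing A]
    (k' : Type u) [Field k'] [Algebra A k'] (hk' : Function.Surjective (algebraMap A k'))
    (B : Type u) [CommRing B] [IsLocalRing B] [IsNoetherianRing B]
    [IsAdicComplete (maximalIdeal B) B] [Algebra k' B]
    (hB : CAlgX.IsAdicFormallySmooth k' B (maximalIdeal B)) :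
    ∃ (C : Type u) (_ : CommRing C) (_ : IsLocalRing C) (_ : Algebra A C),
      IsNoetherianRing C ∧ IsAdicComplete (maximalIdeal C) C ∧ IsLocalHom (algebraMap A C) ∧
        Module.Flat A C ∧ CAlgX.IsAdicFormallySmooth A C (maximalIdeal C) ∧
        ∃ f : C →+* B, Function.Surjective f ∧
          RingHom.ker f = (maximalIdeal A).map (algebraMap A C) ∧
          ∀ a, f (algebraMap A C a) = algebraMap k' B (algebraMap A k' a) := by
  have hkI : RingHom.ker (algebraMap A k') = maximalIdeal A := by
    haveI : (RingHom.ker (algebraMap A k')).IsMaximal := RingHom.ker_isMaximal_of_surjective _ hk'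
    exact IsLocalRing.eq_maximalIdeal inferInstance
  haveI hreg : IsRegularLocalRing B := (Groth.Agent.Helper14.AdicFSRegular.general k' B hB).1
  obtain ⟨d, ⟨e⟩⟩ := Groth.Agent.S9444.result B k'
  let φ : A ⧸ maximalIdeal A →+* k' :=
    Ideal.Quotient.lift (maximalIdeal A) (algebraMap A k') (fun a ha => by
      rw [← hkI] at ha
      exact ha)
  have hφ : ∀ a, φ (Ideal.Quotient.mk _ a) = algebraMap A k' a := fun a => rfl
  have hφbij : Function.Bijective φ := by
    constructor
    · rw [injective_iff_map_eq_zero]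
      intro x hx
      obtain ⟨a, rfl⟩ := Ideal.Quotient.mk_surjective x
      rw [hφ] at hx
      rw [Ideal.Quotient.eq_zero_iff_mem, ← hkI]
      exact hx
    · intro y
      obtain ⟨a, rfl⟩ := hk' y
      exact ⟨Ideal.Quotient.mk _ a, rfl⟩
  let σ : ResidueField A →+* MvPowerSeries (Fin d) (ResidueField B) :=
    (e : B →+* _).comp ((algebraMap k' B).comp φ)
  obtain ⟨D, _, _, _, hDN, hDc, hDflat, hDloc, χ, hχ, hker, hcompat⟩ :=
    Groth.Agent.Helper14.ModelExist.exists_model d σ
  let f : D →+* B := (e.symm : _ →+* B).comp χ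
  have hf : Function.Surjective f := e.symm.surjective.comp hχ
  have hfker : RingHom.ker f = (maximalIdeal A).map (algebraMap A D) := by
    rw [← hker]
    ext x
    simp only [RingHom.mem_ker, RingHom.comp_apply, RingHom.coe_coe, f]
    exact map_eq_zero_iff _ e.symm.injective
  have hfcompat : ∀ a, f (algebraMap A D a) = algebraMap k' B (algebraMap A k' a) := by
    intro a
    simp only [RingHom.comp_apply, RingHom.coe_coe, f]
    rw [hcompat a]
    exact e.symm_apply_apply _
  refine ⟨D, inferInstance, inferInstance, inferInstance, hDN, hDc, hDloc, hDflat, ?_,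
    f, hf, hfker, hfcompat⟩
  -- formal smoothness
  have hle : (maximalIdeal A).map (algebraMap A D) ≤ maximalIdeal D :=
    ((IsLocalRing.local_hom_TFAE (algebraMap A D)).out 0 2).mp hDloc
  refine Groth.Agent.Helper14.FlatFibreFS.isAdicFormallySmooth_of_flat (maximalIdeal A)
    (maximalIdeal D) hle ?_
  letI : Algebra (A ⧸ maximalIdeal A) k' := φ.toAlgebra
  letI : Algebra (A ⧸ maximalIdeal A) B := ((algebraMap k' B).comp φ).toAlgebra
  haveI : IsScalarTower (A ⧸ maximalIdeal A) k' B := IsScalarTower.of_algebraMap_eq fun r => rfl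
  have hB' : CAlgX.IsAdicFormallySmooth (A ⧸ maximalIdeal A) B (maximalIdeal B) :=
    of_bijective_base hφbij _ hB
  let g : (D ⧸ (maximalIdeal A).map (algebraMap A D)) →+* B :=
    Ideal.Quotient.lift _ f (fun x hx => by rw [← hfker] at hx; exact hx)
  have hg : Function.Bijective g := by
    constructor
    · rw [injective_iff_map_eq_zero]
      intro x hx
      obtain ⟨d, rfl⟩ := Ideal.Quotient.mk_surjective x
      have h1 : f d = 0 := hx
      rw [Ideal.Quotient.eq_zero_iff_mem, ← hfker]
      exact h1
    · intro b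
      obtain ⟨d, rfl⟩ := hf b
      exact ⟨Ideal.Quotient.mk _ d, rfl⟩
  let gA : (D ⧸ (maximalIdeal A).map (algebraMap A D)) ≃ₐ[A ⧸ maximalIdeal A] B :=
    AlgEquiv.ofRingEquiv (f := RingEquiv.ofBijective g hg) (by
      intro x
      obtain ⟨a, rfl⟩ := Ideal.Quotient.mk_surjective x
      exact hfcompat a)
  refine Groth.Agent.Helper14.AdicFSTransfer.of_algEquiv gA _ _ ?_ hB'
  intro x hx
  obtain ⟨d', rfl⟩ := hf x
  have h1 : gA.symm (f d') = Ideal.Quotient.mk _ d' := by
    rw [AlgEquiv.symm_apply_eq]
    rfl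
  rw [h1]
  apply Ideal.mem_map_of_mem
  rw [mem_maximalIdeal, mem_nonunits_iff] at hx ⊢
  intro hu
  exact hx (hu.map f)

/-- EGA 0_IV 19.7.2 for `J = 𝔪`: a complete Noetherian local algebra formally smooth over the
residue field lifts to a flat, formally smooth complete Noetherian local algebra. -/
theorem exists_smooth_lift {A : Type u} [CommRing A] [IsLocalRing A] [IsNoetherianRing A]
    (k' : Type u) [Field k'] [Algebra A k'] (hk' : Function.Surjective (algebraMap A k'))
    (B : Type u) [CommRing B] [IsLocalRing B] [IsNoetherianRing B]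
    [IsAdicComplete (maximalIdeal B) B] [Algebra k' B]
    (hB : CAlgX.IsAdicFormallySmooth k' B (maximalIdeal B)) :
    ∃ (C : Type u) (_ : CommRing C) (_ : IsLocalRing C) (_ : Algebra A C),
      IsNoetherianRing C ∧ IsAdicComplete (maximalIdeal C) C ∧ IsLocalHom (algebraMap A C) ∧
        Module.Flat A C ∧ CAlgX.IsAdicFormallySmooth A C (maximalIdeal C) ∧
        Nonempty (k' ⊗[A] C ≃ₐ[k'] B) := by
  have hkI : RingHom.ker (algebraMap A k') = maximalIdeal A := by
    haveI : (RingHom.ker (algebraMap A k')).IsMaximal := RingHom.ker_isMaximal_of_surjective _ hk'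
    exact IsLocalRing.eq_maximalIdeal inferInstance
  obtain ⟨C, _, _, _, hCN, hCc, hCloc, hCflat, hCfs, f, hf, hfker, hfcompat⟩ :=
    exists_smooth_lift' k' hk' B hB
  exact ⟨C, inferInstance, inferInstance, inferInstance, hCN, hCc, hCloc, hCflat, hCfs,
    fibre_equiv_gen (maximalIdeal A) hk' hkI f hf hfker hfcompat⟩

end Groth.Agent.Helper14.ModelSmooth
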