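import Mathlib
import Groth.Prelude
import Groth.Agent.S4537
import Groth.Agent.S9318
import Groth.Agent.Lib.Helper14.ModelSmooth
import Groth.Agent.Lib.Helper14.FlatIso
import Groth.Agent.Lib.Helper14.FFDescent
import Groth.Agent.Lib.Helper9.AdicLift
import Groth.Agent.Lib.Helper1.AdicLib
import Groth.Agent.Lib.Helper1.AdicExt
import Groth.Agent.Lib.Helper14.AdicComplQuot

/-!
# Adic formal smoothness implies flatness (EGA 0_IV 19.7.1, (a) ⇒ (b))
-/

set_option autoImplicit false
set_option linter.unusedSectionVars false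
set_option linter.style.haveILetI false
set_option linter.unusedVariables false

universe u

namespace Groth.Agent.Helper14.FSFlat

open IsLocalRing

section Quot

/-- Quotients of precomplete modules are precomplete. -/
theorem isPrecomplete_quotient {R : Type*} [CommRing R] (I : Ideal R) {M : Type*} [AddCommGroup M]
    [Module R M] [IsPrecomplete I M] (N : Submodule R M) : IsPrecomplete I (M ⧸ N) := by
  refine ⟨fun {f} hf => ?_⟩
  have hmap : ∀ n, (I ^ n • ⊤ : Submodule R (M ⧸ N)) =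
      Submodule.map N.mkQ (I ^ n • ⊤ : Submodule R M) := by
    intro n
    rw [Submodule.map_smul'', Submodule.map_top, Submodule.range_mkQ]
  have hd : ∀ n, ∃ d : M, d ∈ (I ^ n • ⊤ : Submodule R M) ∧ N.mkQ d = f (n + 1) - f n := by
    intro n
    have h1 := Groth.Agent.Helper1.sub_mem_of_le f hf (Nat.le_succ n)
    rw [hmap] at h1
    exact h1
  choose d hd1 hd2 using hd
  obtain ⟨g0, hg0⟩ := N.mkQ_surjective (f 0)
  let g : ℕ → M := fun n => g0 + ∑ i ∈ Finset.range n, d i
  have hgs : ∀ n, g (n + 1) = g n + d n := by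
    intro n
    simp only [g, Finset.sum_range_succ, add_assoc]
  have hg : ∀ n, N.mkQ (g n) = f n := by
    intro n
    induction n with
    | zero => simp [g, hg0]
    | succ n ih =>
      rw [hgs, map_add, ih, hd2]
      abel
  obtain ⟨L, hL⟩ := Groth.Agent.Helper1.exists_limit_of_succ I g (fun n => by
    have : g (n + 1) - g n = d n := by rw [hgs]; abel
    rw [this]
    exact hd1 n)
  refine ⟨N.mkQ L, fun n => ?_⟩
  rw [SModEq.sub_mem, hmap]
  refine ⟨g n - L, ?_, ?_⟩
  · have := hL n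
    rw [← neg_sub]
    exact Submodule.neg_mem _ this
  · rw [map_sub, hg]

theorem maximalIdeal_quotient {B : Type*} [CommRing B] [IsLocalRing B] (I : Ideal B)
    [IsLocalRing (B ⧸ I)] :
    (maximalIdeal B).map (Ideal.Quotient.mk I) = maximalIdeal (B ⧸ I) := by
  have hI : I ≤ maximalIdeal B := by
    apply IsLocalRing.le_maximalIdeal
    intro h
    have : Subsingleton (B ⧸ I) := Ideal.Quotient.subsingleton_iff.mpr h
    exact not_subsingleton (B ⧸ I) this
  apply IsLocalRing.eq_maximalIdeal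
  apply Ideal.IsMaximal.map_of_surjective_of_ker_le Ideal.Quotient.mk_surjective
  rw [Ideal.mk_ker]
  exact hI

/-- A quotient of a complete Noetherian local ring is complete. -/
theorem isAdicComplete_quotient {B : Type*} [CommRing B] [IsLocalRing B] [IsNoetherianRing B]
    [IsAdicComplete (maximalIdeal B) B] (I : Ideal B) [IsLocalRing (B ⧸ I)] :
    IsAdicComplete (maximalIdeal (B ⧸ I)) (B ⧸ I) := by
  haveI h1 : IsPrecomplete (maximalIdeal B) (B ⧸ I) := isPrecomplete_quotient (maximalIdeal B) I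
  haveI h2 : IsPrecomplete (maximalIdeal (B ⧸ I)) (B ⧸ I) := by
    rw [← maximalIdeal_quotient I]
    exact (IsPrecomplete.map_algebraMap_iff (S := B ⧸ I) (I := maximalIdeal B) (M := B ⧸ I)).mpr h1
  exact { }

end Quot

section Weak

variable {A B : Type u} [CommRing A] [CommRing B] [Algebra A B]

theorem weak_of_bot (𝔞 : Ideal A) (𝔫 : Ideal B) (h : EGA41.IsFormallySmoothAdic A ⊥ B 𝔫) :
    EGA41.IsFormallySmoothAdic A 𝔞 B 𝔫 :=
  fun C _ _ J hJ _ u hu => h C J hJ ⟨1, by rw [pow_one, Ideal.map_bot]⟩ u hu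

theorem weak_of_strong (𝔞 : Ideal A) (𝔫 : Ideal B) (h : CAlgX.IsAdicFormallySmooth A B 𝔫) :
    EGA41.IsFormallySmoothAdic A 𝔞 B 𝔫 :=
  weak_of_bot 𝔞 𝔫 ((Groth.Agent.S4537.result 𝔫).mp h)

/-- Passage to the quotient by an open ideal of the base. -/
theorem quotient_of_weak (𝔞 I : Ideal A) (hI : ∃ k, 𝔞 ^ k ≤ I) (𝔫 : Ideal B)
    (h : EGA41.IsFormallySmoothAdic A 𝔞 B 𝔫) :
    CAlgX.IsAdicFormallySmooth (A ⧸ I) (B ⧸ I.map (algebraMap A B))
      (𝔫.map (Ideal.Quotient.mk (I.map (algebraMap A B)))) := by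
  intro C _ _ J hJ ψ hψ
  obtain ⟨k, hk⟩ := hψ
  letI : Algebra A C := ((algebraMap (A ⧸ I) C).comp (Ideal.Quotient.mk I)).toAlgebra
  haveI : IsScalarTower A (A ⧸ I) C := IsScalarTower.of_algebraMap_eq fun r => rfl
  haveI : IsScalarTower A (A ⧸ I) (C ⧸ J) := IsScalarTower.of_algebraMap_eq fun r => rfl
  let ψ₀ : B →ₐ[A] C ⧸ J :=
    (ψ.restrictScalars A).comp (Ideal.Quotient.mkₐ A (I.map (algebraMap A B)))
  have hk₀ : ∀ x ∈ 𝔫 ^ k, ψ₀ x = 0 := by
    intro x hx
    apply hk
    rw [← Ideal.map_pow]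
    exact Ideal.mem_map_of_mem _ hx
  have hAC : ∃ k, (𝔞 ^ k).map (algebraMap A C) = ⊥ := by
    obtain ⟨k, hk⟩ := hI
    refine ⟨k, ?_⟩
    rw [eq_bot_iff, Ideal.map_le_iff_le_comap]
    intro a ha
    rw [Ideal.mem_comap, Ideal.mem_bot]
    show algebraMap (A ⧸ I) C (Ideal.Quotient.mk I a) = 0
    rw [Ideal.Quotient.eq_zero_iff_mem.mpr (hk ha), map_zero]
  obtain ⟨χ₀, hχ₀⟩ := h C J ⟨2, hJ⟩ hAC ψ₀ ⟨k, hk₀⟩
  have hkill : ∀ x ∈ I.map (algebraMap A B), χ₀ x = 0 := by
    intro x hx
    have : I.map (algebraMap A B) ≤ RingHom.ker χ₀.toRingHom := by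
      rw [Ideal.map_le_iff_le_comap]
      intro a ha
      rw [Ideal.mem_comap, RingHom.mem_ker]
      show χ₀ (algebraMap A B a) = 0
      rw [χ₀.commutes]
      show algebraMap (A ⧸ I) C (Ideal.Quotient.mk I a) = 0
      rw [Ideal.Quotient.eq_zero_iff_mem.mpr ha, map_zero]
    exact this hx
  let χ₁ : B ⧸ I.map (algebraMap A B) →ₐ[A] C := Ideal.Quotient.liftₐ _ χ₀ hkill
  let χ : B ⧸ I.map (algebraMap A B) →ₐ[A ⧸ I] C :=
    { χ₁.toRingHom with
      commutes' := fun r => by
        obtain ⟨a, rfl⟩ := Ideal.Quotient.mk_surjective r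
        show χ₁ (algebraMap A (B ⧸ I.map (algebraMap A B)) a) = _
        rw [χ₁.commutes]
        rfl }
  refine ⟨χ, ?_⟩
  ext x
  obtain ⟨b, rfl⟩ := Ideal.Quotient.mk_surjective x
  exact DFunLike.congr_fun hχ₀ b

/-- Passage to the completion. -/
theorem completion_of_weak (𝔞 : Ideal A) (𝔫 : Ideal B) (h𝔫 : 𝔫.FG)
    (h : EGA41.IsFormallySmoothAdic A 𝔞 B 𝔫) :
    EGA41.IsFormallySmoothAdic A 𝔞 (AdicCompletion 𝔫 B)
      (𝔫.map (algebraMap B (AdicCompletion 𝔫 B))) := by
  have htower : IsScalarTower A B (AdicCompletion 𝔫 B) :=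
    IsScalarTower.of_algebraMap_eq fun r => rfl
  intro C _ _ J hJ hAC ψ hψ
  obtain ⟨k, hk⟩ := hψ
  obtain ⟨t, ht⟩ := hJ
  let ι : B →ₐ[A] AdicCompletion 𝔫 B := IsScalarTower.toAlgHom A B (AdicCompletion 𝔫 B)
  have hk' : ∀ x ∈ 𝔫 ^ k, (ψ.comp ι) x = 0 := by
    intro x hx
    apply hk
    rw [← Ideal.map_pow]
    exact Ideal.mem_map_of_mem _ hx
  obtain ⟨χ₀, hχ₀⟩ := h C J ⟨t, ht⟩ hAC (ψ.comp ι) ⟨k, hk'⟩
  have hχ₀J : ∀ x ∈ 𝔫 ^ k, χ₀ x ∈ J := by
    intro x hx
    rw [← Ideal.Quotient.eq_zero_iff_mem]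
    have := DFunLike.congr_fun hχ₀ x
    rw [hk' x hx] at this
    exact this
  have hχ₀0 : ∀ x ∈ 𝔫 ^ (k * t + k), χ₀ x = 0 := by
    intro x hx
    have hx' : x ∈ (𝔫 ^ k) ^ t := by
      rw [← pow_mul]
      exact Ideal.pow_le_pow_right (Nat.le_add_right _ _) hx
    have h1 : (𝔫 ^ k) ^ t ≤ (J ^ t).comap χ₀.toRingHom := by
      have h2 : 𝔫 ^ k ≤ J.comap χ₀.toRingHom := fun y hy => hχ₀J y hy
      calc (𝔫 ^ k) ^ t ≤ (J.comap χ₀.toRingHom) ^ t := Ideal.pow_right_mono h2 t
        _ ≤ (J ^ t).comap χ₀.toRingHom := Ideal.le_comap_pow _ t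
    have h3 := h1 hx'
    rw [ht] at h3
    exact h3
  let χ : AdicCompletion 𝔫 B →ₐ[A] C :=
    (Ideal.Quotient.liftₐ (𝔫 ^ (k * t + k)) χ₀ hχ₀0).comp
      ((AdicCompletion.evalₐ 𝔫 (k * t + k)).restrictScalars A)
  refine ⟨χ, ?_⟩
  apply AlgHom.ext
  intro x
  obtain ⟨s, hs⟩ := Ideal.Quotient.mk_surjective (AdicCompletion.evalₐ 𝔫 (k * t + k) x)
  have hmem := Groth.Agent.Helper14.AdicComplQuot.algebraMap_sub_mem 𝔫 h𝔫 (k * t + k) x s hs
  have hmem' : x - algebraMap B (AdicCompletion 𝔫 B) s ∈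
      (𝔫.map (algebraMap B (AdicCompletion 𝔫 B))) ^ k :=
    Ideal.pow_le_pow_right (Nat.le_add_left k (k * t)) hmem
  have h1 : ψ x = ψ (ι s) := by
    have := hk _ hmem'
    rw [map_sub, sub_eq_zero] at this
    exact this
  have h2 : χ x = χ₀ s := by
    change (Ideal.Quotient.liftₐ (𝔫 ^ (k * t + k)) χ₀ hχ₀0)
      (AdicCompletion.evalₐ 𝔫 (k * t + k) x) = _
    rw [← hs]
    rfl
  rw [AlgHom.comp_apply, h2, h1]
  exact DFunLike.congr_fun hχ₀ s

end Weak

section Main

variable {A B : Type u} [CommRing A] [CommRing B] [IsLocalRing A] [IsLocalRing B]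
  [IsNoetherianRing A] [IsNoetherianRing B] [Algebra A B] [IsLocalHom (algebraMap A B)]

theorem exists_equiv_of_weak_complete [IsAdicComplete (maximalIdeal B) B]
    (h : EGA41.IsFormallySmoothAdic A (maximalIdeal A) B (maximalIdeal B)) :
    ∃ (C : Type u) (_ : CommRing C) (_ : IsLocalRing C) (_ : Algebra A C),
      Module.Flat A C ∧ CAlgX.IsAdicFormallySmooth A C (maximalIdeal C) ∧
        Nonempty (B ≃ₐ[A] C) := by
  set I := (maximalIdeal A).map (algebraMap A B) with hI
  have hIle : I ≤ maximalIdeal B :=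
    ((local_hom_TFAE (algebraMap A B)).out 0 2).mp ‹IsLocalHom (algebraMap A B)›
  -- closed fibre
  haveI : Nontrivial (B ⧸ I) := Ideal.Quotient.nontrivial_iff.mpr
    (ne_top_of_le_ne_top (maximalIdeal.isMaximal B).ne_top hIle)
  haveI : IsLocalRing (B ⧸ I) :=
    IsLocalRing.of_surjective' (Ideal.Quotient.mk I) Ideal.Quotient.mk_surjective
  haveI : IsAdicComplete (maximalIdeal (B ⧸ I)) (B ⧸ I) := isAdicComplete_quotient I
  have h₀ : CAlgX.IsAdicFormallySmooth (A ⧸ maximalIdeal A) (B ⧸ I) (maximalIdeal (B ⧸ I)) := by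
    rw [← maximalIdeal_quotient I]
    exact quotient_of_weak (maximalIdeal A) (maximalIdeal A) ⟨1, by rw [pow_one]⟩
      (maximalIdeal B) h
  -- the model
  letI : Field (A ⧸ maximalIdeal A) := Ideal.Quotient.field _
  obtain ⟨C, _, _, _, hCN, hCc, hCloc, hCflat, hCfs, f, hf, hfker, hfcompat⟩ :=
    Groth.Agent.Helper14.ModelSmooth.exists_smooth_lift' (A := A) (A ⧸ maximalIdeal A)
      Ideal.Quotient.mk_surjective (B ⧸ I) h₀
  refine ⟨C, inferInstance, inferInstance, inferInstance, hCflat, hCfs, ?_⟩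
  set J := (maximalIdeal A).map (algebraMap A C) with hJ
  have hJle : J ≤ maximalIdeal C := ((local_hom_TFAE (algebraMap A C)).out 0 2).mp hCloc
  let fbar : (C ⧸ J) ≃+* (B ⧸ I) :=
    (Ideal.quotEquivOfEq hfker.symm).trans (RingHom.quotientKerEquivOfSurjective hf)
  have hfbar : ∀ c, fbar (Ideal.Quotient.mk J c) = f c := fun c => rfl
  let ψ₀ : B →ₐ[A] C ⧸ J :=
    { (fbar.symm : (B ⧸ I) →+* (C ⧸ J)).comp (Ideal.Quotient.mk I) with
      commutes' := fun a => by
        show fbar.symm (Ideal.Quotient.mk I (algebraMap A B a)) = algebraMap A (C ⧸ J) a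
        rw [RingEquiv.symm_apply_eq]
        show _ = fbar (Ideal.Quotient.mk J (algebraMap A C a))
        rw [hfbar, hfcompat]
        rfl }
  have hψ₀ : ∀ b, fbar (ψ₀ b) = Ideal.Quotient.mk I b := fun b => fbar.apply_symm_apply _
  haveI : Nontrivial (C ⧸ J) := Ideal.Quotient.nontrivial_iff.mpr
    (ne_top_of_le_ne_top (maximalIdeal.isMaximal C).ne_top hJle)
  haveI : IsLocalRing (C ⧸ J) :=
    IsLocalRing.of_surjective' (Ideal.Quotient.mk J) Ideal.Quotient.mk_surjective
  haveI : IsHausdorff ((maximalIdeal C).map (Ideal.Quotient.mk J)) (C ⧸ J) := by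
    rw [maximalIdeal_quotient J]
    infer_instance
  -- the lift
  obtain ⟨v, -, hv⟩ := Groth.Agent.Helper9.AdicLift.exists_lift (maximalIdeal A) (maximalIdeal B)
    (maximalIdeal C) J h ⟨1, by rw [pow_one]; exact hJle⟩ ⟨1, by rw [pow_one]; exact hJle⟩ ψ₀
    ⟨1, by
      rw [pow_one, Ideal.map_le_iff_le_comap]
      intro b hb
      rw [Ideal.mem_comap, maximalIdeal_quotient J, mem_maximalIdeal, mem_nonunits_iff]
      intro hu
      have h1 : IsUnit (Ideal.Quotient.mk I b) := by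
        have := hu.map fbar
        rwa [show fbar (ψ₀.toRingHom b) = Ideal.Quotient.mk I b from hψ₀ b] at this
      rw [mem_maximalIdeal, mem_nonunits_iff] at hb
      apply hb
      -- `mk I` is a local homomorphism
      obtain ⟨y, hy⟩ := h1.exists_right_inv
      obtain ⟨c, rfl⟩ := Ideal.Quotient.mk_surjective y
      rw [← map_mul, ← map_one (Ideal.Quotient.mk I), Ideal.Quotient.eq] at hy
      have h2 : b * c - 1 ∈ maximalIdeal B := hIle hy
      have h3 : IsUnit (b * c) := by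
        by_contra hnu
        have h4 : b * c ∈ maximalIdeal B := hnu
        have h5 : (1 : B) ∈ maximalIdeal B := by
          have := Ideal.sub_mem _ h4 h2
          rwa [sub_sub_cancel] at this
        exact (maximalIdeal.isMaximal B).ne_top ((Ideal.eq_top_iff_one _).mpr h5)
      exact isUnit_of_mul_isUnit_left h3⟩
  have hvmk : ∀ b, Ideal.Quotient.mk J (v b) = ψ₀ b := fun b => DFunLike.congr_fun hv b
  -- the isomorphism lemma
  haveI : IsPrecomplete I B := by
    haveI : IsAdicComplete I B := Groth.Agent.Helper1.isAdicComplete_of_le_of_fg I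
      (maximalIdeal B) hIle (IsNoetherian.noetherian I) B
    infer_instance
  haveI : IsHausdorff J C := IsHausdorff.of_isLocalRing J C
    (ne_top_of_le_ne_top (maximalIdeal.isMaximal C).ne_top hJle)
  have hbij : Function.Bijective v := by
    refine Groth.Agent.Helper14.FlatIso.bijective_of_mod (maximalIdeal A) ?_ v ?_ ?_
    · rw [IsLocalRing.jacobson_eq_maximalIdeal ⊥ bot_ne_top]
      exact hIle
    · intro c
      obtain ⟨b, hb⟩ := Ideal.Quotient.mk_surjective (f c)
      refine ⟨b, ?_⟩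
      rw [← Ideal.Quotient.eq_zero_iff_mem, map_sub, sub_eq_zero, hvmk]
      apply fbar.injective
      rw [hψ₀, hfbar, hb]
    · intro b hb
      have h1 : ψ₀ b = 0 := by
        rw [← hvmk]
        exact Ideal.Quotient.eq_zero_iff_mem.mpr hb
      have h2 : Ideal.Quotient.mk I b = 0 := by
        rw [← hψ₀, h1, map_zero]
      exact Ideal.Quotient.eq_zero_iff_mem.mp h2
  exact ⟨AlgEquiv.ofBijective v hbij⟩

/-- **EGA 0_IV 19.7.1, (a) ⇒ (b)** (and the equivalence of the weak and strong forms of formal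
smoothness): a local homomorphism of Noetherian local rings which is formally smooth for the
adic topologies is flat, and formally smooth with the base taken discrete. -/
theorem flat_and_strong_of_weak
    (h : EGA41.IsFormallySmoothAdic A (maximalIdeal A) B (maximalIdeal B)) :
    Module.Flat A B ∧ CAlgX.IsAdicFormallySmooth A B (maximalIdeal B) := by
  haveI : IsNoetherianRing (AdicCompletion (maximalIdeal B) B) :=
    Groth.Agent.Helper1.isNoetherianRing_adicCompletion_of_fg B (maximalIdeal B)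
      (IsNoetherian.noetherian _)
  haveI : IsScalarTower A B (AdicCompletion (maximalIdeal B) B) :=
    IsScalarTower.of_algebraMap_eq fun r => rfl
  haveI : IsLocalHom (algebraMap A (AdicCompletion (maximalIdeal B) B)) := by
    rw [IsScalarTower.algebraMap_eq A B (AdicCompletion (maximalIdeal B) B)]
    exact RingHom.isLocalHom_comp _ _
  have h1 : EGA41.IsFormallySmoothAdic A (maximalIdeal A) (AdicCompletion (maximalIdeal B) B)
      (maximalIdeal (AdicCompletion (maximalIdeal B) B)) := by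
    rw [AdicCompletion.maximalIdeal_eq_map]
    exact completion_of_weak _ _ (maximalIdeal B).fg_of_isNoetherianRing h
  obtain ⟨C, _, _, _, hCflat, hCfs, ⟨e⟩⟩ := exists_equiv_of_weak_complete h1
  have hflat : Module.Flat A (AdicCompletion (maximalIdeal B) B) :=
    Module.Flat.of_linearEquiv e.toLinearEquiv
  have hfs : CAlgX.IsAdicFormallySmooth A (AdicCompletion (maximalIdeal B) B)
      (maximalIdeal (AdicCompletion (maximalIdeal B) B)) :=
    Groth.Agent.Helper14.AdicFSTransfer.of_algEquiv_local e hCfs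
  constructor
  · haveI : Module.FaithfullyFlat B (AdicCompletion (maximalIdeal B) B) :=
      Module.FaithfullyFlat.of_flat_of_isLocalHom
    exact Groth.Agent.Helper14.FFDescent.flat_of_comp A B (AdicCompletion (maximalIdeal B) B)
  · rw [Groth.Agent.S9318.result (maximalIdeal B) (maximalIdeal B).fg_of_isNoetherianRing,
      ← AdicCompletion.maximalIdeal_eq_map]
    exact hfs

/-- Strong form. -/
theorem flat_of_adicFS (h : CAlgX.IsAdicFormallySmooth A B (maximalIdeal B)) :
    Module.Flat A B :=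
  (flat_and_strong_of_weak (weak_of_strong (maximalIdeal A) (maximalIdeal B) h)).1

end Main

end Groth.Agent.Helper14.FSFlat
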