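import Mathlib
import Groth.Agent.Lib.Helper1.AdicLib

/-!
# Quasi-finite domains over complete local rings are finite and local
-/

namespace Groth.Agent.Helper14.CompleteQF
universe u
open IsLocalRing TensorProduct

section finite
variable {A S : Type u} [CommRing A] [IsLocalRing A] [IsAdicComplete (maximalIdeal A) A]
  [CommRing S] [IsDomain S] [IsNoetherianRing S] [Algebra A S] [Algebra.QuasiFinite A S]

omit [IsAdicComplete (maximalIdeal A) A] [IsDomain S] [IsNoetherianRing S] [Algebra.QuasiFinite A S] in
theorem smul_top_le (n : ℕ) :
    ((maximalIdeal A ^ n • ⊤ : Submodule A S) : Set S) ⊆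
      ((Ideal.map (algebraMap A S) (maximalIdeal A)) ^ n : Ideal S) := by
  intro x hx
  refine Submodule.smul_induction_on hx ?_ ?_
  · intro a ha s _
    rw [← Ideal.map_pow, Algebra.smul_def]
    exact Ideal.mul_mem_right _ _ (Ideal.mem_map_of_mem _ ha)
  · intro x y hx hy
    exact Ideal.add_mem _ hx hy

/-- a Noetherian domain quasi-finite over a complete local ring, in which the maximal ideal does
not generate the unit ideal, is finite. -/
theorem finite_of_quasiFinite (hne : Ideal.map (algebraMap A S) (maximalIdeal A) ≠ ⊤) :
    Module.Finite A S := by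
  haveI : IsHausdorff (maximalIdeal A) S := by
    refine ⟨fun x hx => ?_⟩
    have h1 : x ∈ (⨅ n : ℕ, (Ideal.map (algebraMap A S) (maximalIdeal A)) ^ n : Ideal S) := by
      rw [Ideal.mem_iInf]
      intro n
      have := hx n
      rw [SModEq.zero] at this
      exact smul_top_le n this
    rw [Ideal.iInf_pow_eq_bot_of_isDomain _ hne] at h1
    exact h1
  apply Groth.Agent.Helper1.finite_of_isAdicComplete_of_finite_quotient (maximalIdeal A)
  have hfib : Module.Finite (maximalIdeal A).ResidueField ((maximalIdeal A).Fiber S) := inferInstance
  haveI : Module.Finite A ((maximalIdeal A).ResidueField ⊗[A] S) :=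
    Module.Finite.trans (maximalIdeal A).ResidueField _
  let e2 : (A ⧸ maximalIdeal A) ≃ₗ[A] (maximalIdeal A).ResidueField :=
    (LinearEquiv.ofBijective (Algebra.linearMap (A ⧸ maximalIdeal A) (maximalIdeal A).ResidueField)
      (maximalIdeal A).bijective_algebraMap_quotient_residueField).restrictScalars A
  let e3 : ((A ⧸ maximalIdeal A) ⊗[A] S) ≃ₗ[A] ((maximalIdeal A).ResidueField ⊗[A] S) :=
    TensorProduct.congr e2 (LinearEquiv.refl A S)
  exact Module.Finite.equiv (e3.symm.trans (quotTensorEquivQuotSMul S (maximalIdeal A)))

end finite

section unit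
variable {S S' : Type*} [CommRing S] [CommRing S'] [Algebra S S'] [Algebra.IsIntegral S S']

/-- units of an integral extension lying in the base ring are units there. -/
theorem isUnit_of_isUnit_algebraMap (hinj : Function.Injective (algebraMap S S')) (s : S)
    (hs : IsUnit (algebraMap S S' s)) : IsUnit s := by
  by_contra hns
  obtain ⟨M, hM, hsM⟩ := exists_max_ideal_of_mem_nonunits (mem_nonunits_iff.mpr hns)
  have hker : RingHom.ker (algebraMap S S') ≤ M := by
    rw [(RingHom.injective_iff_ker_eq_bot _).mp hinj]
    exact bot_le
  obtain ⟨M', hM', hcomap⟩ := Ideal.exists_ideal_over_maximal_of_isIntegral M hker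
  have : algebraMap S S' s ∈ M' := by
    have : s ∈ M'.comap (algebraMap S S') := by rw [hcomap]; exact hsM
    exact this
  exact hM'.ne_top (Ideal.eq_top_of_isUnit_mem _ this hs)

end unit

section loc
variable {A S : Type u} [CommRing A] [IsLocalRing A] [IsAdicComplete (maximalIdeal A) A]
  [CommRing S] [IsDomain S] [IsNoetherianRing S] [Algebra A S] [Algebra.QuasiFinite A S]

/-- a Noetherian domain quasi-finite over a complete local ring, with a prime over the maximal
ideal, is a local ring (and finite). -/
theorem isLocalRing_of_quasiFinite (q : Ideal S) [q.IsPrime]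
    (hq : Ideal.map (algebraMap A S) (maximalIdeal A) ≤ q) : IsLocalRing S := by
  have hle : q.primeCompl ≤ nonZeroDivisors S := Ideal.primeCompl_le_nonZeroDivisors q
  haveI : IsDomain (Localization.AtPrime q) :=
    IsLocalization.isDomain_localization hle
  have hne' : Ideal.map (algebraMap A (Localization.AtPrime q)) (maximalIdeal A) ≠ ⊤ := by
    intro htop
    have h1 : Ideal.map (algebraMap A (Localization.AtPrime q)) (maximalIdeal A) ≤
        maximalIdeal (Localization.AtPrime q) := by
      rw [Ideal.map_le_iff_le_comap]
      intro a ha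
      rw [Ideal.mem_comap, IsScalarTower.algebraMap_apply A S (Localization.AtPrime q)]
      exact (IsLocalization.AtPrime.to_map_mem_maximal_iff (Localization.AtPrime q) q _).mpr
        (hq (Ideal.mem_map_of_mem _ ha))
    rw [htop] at h1
    exact (maximalIdeal.isMaximal (Localization.AtPrime q)).ne_top (top_le_iff.mp h1)
  haveI : Module.Finite A (Localization.AtPrime q) := finite_of_quasiFinite hne'
  haveI : Module.Finite S (Localization.AtPrime q) :=
    Module.Finite.of_restrictScalars_finite A S (Localization.AtPrime q)
  haveI : Algebra.IsIntegral S (Localization.AtPrime q) := inferInstance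
  have hinj : Function.Injective (algebraMap S (Localization.AtPrime q)) :=
    IsLocalization.injective (Localization.AtPrime q) hle
  have hunit : ∀ s : S, s ∉ q → IsUnit s := by
    intro s hs
    apply isUnit_of_isUnit_algebraMap (S' := Localization.AtPrime q) hinj
    exact IsLocalization.map_units (Localization.AtPrime q) (⟨s, hs⟩ : q.primeCompl)
  apply IsLocalRing.of_nonunits_add
  intro a b ha hb
  have haq : a ∈ q := by
    by_contra h
    exact ha (hunit a h)
  have hbq : b ∈ q := by
    by_contra h
    exact hb (hunit b h)
  intro hu
  exact (Ideal.IsPrime.ne_top inferInstance) (Ideal.eq_top_of_isUnit_mem q (q.add_mem haq hbq) hu)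

end loc

end Groth.Agent.Helper14.CompleteQF
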