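import Mathlib
import Groth.Prelude.Def_FEt
import Groth.Agent.Lib.Helper14.PurUFDSch

/-!
# Morphisms which are open immersions over the complement of a point: basic facts
-/

set_option autoImplicit false

namespace Groth.Agent.Helper14.CondW
universe u
open AlgebraicGeometry CategoryTheory TopologicalSpace IsLocalRing

variable {X Y : Scheme.{u}} (g : X ⟶ Y) (Y' : Y.Opens) [IsOpenImmersion (g ∣_ Y')]

instance isOpenImmersion_ι_comp : IsOpenImmersion ((g ⁻¹ᵁ Y').ι ≫ g) := by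
  rw [← morphismRestrict_ι]
  infer_instance

include Y' in
omit [IsOpenImmersion (g ∣_ Y')] in
theorem ι_comp_apply (x : X) (hx : x ∈ g ⁻¹ᵁ Y') : ((g ⁻¹ᵁ Y').ι ≫ g) ⟨x, hx⟩ = g x := rfl

theorem eq_of_map_eq {x₁ x₂ : X} (h₁ : g x₁ ∈ Y') (h₂ : g x₂ ∈ Y') (h : g x₁ = g x₂) :
    x₁ = x₂ := by
  have := ((g ⁻¹ᵁ Y').ι ≫ g).isOpenEmbedding.injective
    (a₁ := ⟨x₁, h₁⟩) (a₂ := ⟨x₂, h₂⟩) h
  exact congrArg Subtype.val this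

theorem specializes_of_map_specializes {x₁ x₂ : X} (h₁ : g x₁ ∈ Y') (h₂ : g x₂ ∈ Y')
    (h : g x₁ ⤳ g x₂) : x₁ ⤳ x₂ := by
  have hind := ((g ⁻¹ᵁ Y').ι ≫ g).isOpenEmbedding.isInducing
  have h' : (⟨x₁, h₁⟩ : (g ⁻¹ᵁ Y')) ⤳ ⟨x₂, h₂⟩ := hind.specializes_iff.mp h
  exact (subtype_specializes_iff _ _).mp h'

theorem isOpen_image (U : X.Opens) : IsOpen (g '' ((U : Set X) ∩ (g ⁻¹ᵁ Y' : X.Opens))) := by
  have hopen := ((g ⁻¹ᵁ Y').ι ≫ g).isOpenEmbedding.isOpenMap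
  have h1 : IsOpen ((g ⁻¹ᵁ Y').ι ⁻¹' (U : Set X)) := U.2.preimage (g ⁻¹ᵁ Y').ι.continuous
  convert hopen _ h1 using 1
  ext y
  constructor
  · rintro ⟨x, ⟨hxU, hxY⟩, rfl⟩
    exact ⟨⟨x, hxY⟩, hxU, rfl⟩
  · rintro ⟨⟨x, hxY⟩, hxU, rfl⟩
    exact ⟨x, ⟨hxU, hxY⟩, rfl⟩

theorem isIso_stalkMap (x : X) (hx : g x ∈ Y') : IsIso (g.stalkMap x) :=
  PurUFD.isIso_stalkMap_of_isOpenImmersion g (g ⁻¹ᵁ Y') x hx

end Groth.Agent.Helper14.CondW
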