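import Mathlib
import Groth.Prelude.Def_FEt
import Groth.Agent.Lib.Helper14.CondWA
import Groth.Agent.Lib.Helper14.PuncAffE

/-!
# Condition (W): the affine-ness statements
-/

set_option autoImplicit false

namespace Groth.Agent.Helper14.CondW
universe u
open AlgebraicGeometry CategoryTheory TopologicalSpace IsLocalRing Limits

section LemmaA
variable {E S : Scheme.{u}} (b : E ⟶ S) (P : S.Opens) [IsOpenImmersion (b ∣_ P)]
  (V : S.Opens) (hVP : V ≤ P) (hV : ∀ t, t ∈ V ↔ t ∈ P ∧ ∃ e, b e = t)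

include hV in
omit [IsOpenImmersion (b ∣_ P)] in
theorem range_eq : Set.range ((b ⁻¹ᵁ P).ι ≫ b) = Set.range V.ι := by
  ext t
  rw [Scheme.Opens.range_ι]
  constructor
  · rintro ⟨⟨e, he⟩, rfl⟩
    exact (hV _).mpr ⟨he, e, rfl⟩
  · intro ht
    obtain ⟨htP, e, rfl⟩ := (hV t).mp ht
    exact ⟨⟨e, htP⟩, rfl⟩

/-- the isomorphism `b⁻¹P ≅ V`. -/
noncomputable def isoV : (b ⁻¹ᵁ P).toScheme ≅ V.toScheme :=
  IsOpenImmersion.isoOfRangeEq ((b ⁻¹ᵁ P).ι ≫ b) V.ι (range_eq b P V hV)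

theorem isoV_hom_homOfLE : (isoV b P V hV).hom ≫ S.homOfLE hVP = b ∣_ P := by
  rw [← cancel_mono P.ι, Category.assoc, Scheme.homOfLE_ι, isoV,
    IsOpenImmersion.isoOfRangeEq_hom_fac, morphismRestrict_ι]

include hV in
theorem isAffineHom_homOfLE [IsAffineHom b] : IsAffineHom (S.homOfLE hVP) := by
  have : S.homOfLE hVP = (isoV b P V hV).inv ≫ b ∣_ P := by
    rw [← isoV_hom_homOfLE b P V hVP hV, Iso.inv_hom_id_assoc]
  rw [this]
  haveI : IsAffineHom (b ∣_ P) := IsZariskiLocalAtTarget.restrict (P := @IsAffineHom) ‹_› P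
  infer_instance

include hV in
theorem isAffineOpen_preimage (haff : IsAffineOpen V) : IsAffineOpen (b ⁻¹ᵁ P) := by
  haveI : IsAffine V.toScheme := haff
  exact IsAffine.of_isIso (isoV b P V hV).hom

end LemmaA

section LemmaB

theorem isOpenImmersion_restrict_of_isPullback {X Y E S : Scheme.{u}} (g : X ⟶ Y) (Y' : Y.Opens)
    [IsOpenImmersion (g ∣_ Y')] (a : E ⟶ X) (b : E ⟶ S) (j : S ⟶ Y) (H : IsPullback a b g j)
    (P : S.Opens) (hP : P ≤ j ⁻¹ᵁ Y') : IsOpenImmersion (b ∣_ P) := by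
  have hUY : b ⁻¹ᵁ P = a ⁻¹ᵁ (g ⁻¹ᵁ Y') ⊓ b ⁻¹ᵁ P := by
    refine le_antisymm (le_inf ?_ le_rfl) inf_le_right
    intro e he
    show g (a e) ∈ Y'
    have : g (a e) = j (b e) := by
      rw [← Scheme.Hom.comp_apply, ← Scheme.Hom.comp_apply, H.w]
    rw [this]
    exact hP he
  have H' := Scheme.Hom.isPullback_resLE H (US := Y') (UT := P) (UX := g ⁻¹ᵁ Y') hP le_rfl hUY
  have h1 : IsOpenImmersion (g.resLE Y' (g ⁻¹ᵁ Y') le_rfl) := by
    rw [Scheme.Hom.resLE_eq_morphismRestrict]; infer_instance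
  have h2 := MorphismProperty.of_isPullback (P := @IsOpenImmersion) H' h1
  rwa [Scheme.Hom.resLE_eq_morphismRestrict] at h2

end LemmaB

end Groth.Agent.Helper14.CondW
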