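import Mathlib
import Groth.Prelude.Def_FEt
import Groth.Agent.Lib.Helper14.CondWB

/-!
# Condition (W): the affine-ness statements, II
-/

set_option autoImplicit false

namespace Groth.Agent.Helper14.CondW
universe u
open AlgebraicGeometry CategoryTheory TopologicalSpace IsLocalRing Limits

lemma map_fromSpecStalk {X Y : Scheme.{u}} (f : X ⟶ Y) (x : X) (Q : Spec (X.presheaf.stalk x)) :
    f (X.fromSpecStalk x Q) =
      Y.fromSpecStalk (f x) (Spec.map (f.stalkMap x) Q) := by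
  rw [← Scheme.Hom.comp_apply, ← Scheme.Hom.comp_apply, Scheme.SpecMap_stalkMap_fromSpecStalk]

theorem fromSpecStalk_specializes {X : Scheme.{u}} (x : X) (P : Spec (X.presheaf.stalk x)) :
    (X.fromSpecStalk x) P ⤳ x := by
  have : (X.fromSpecStalk x) P ∈ Set.range (X.fromSpecStalk x) := ⟨P, rfl⟩
  rw [Scheme.range_fromSpecStalk] at this
  exact this

theorem fromSpecStalk_eq_iff {Y : Scheme.{u}} (y : Y) (t : Spec (Y.presheaf.stalk y)) :
    Y.fromSpecStalk y t = y ↔ t = closedPoint (Y.presheaf.stalk y) := by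
  constructor
  · intro h
    apply (Y.fromSpecStalk y).isEmbedding.injective
    rw [h, Scheme.fromSpecStalk_closedPoint]
  · rintro rfl
    exact Scheme.fromSpecStalk_closedPoint

theorem preimage_fromSpecStalk {Y : Scheme.{u}} (y : Y) (Y' : Y.Opens)
    (hY' : (Y' : Set Y) = {y}ᶜ) :
    (Y.fromSpecStalk y) ⁻¹ᵁ Y' = FEt.puncturedSpec (Y.presheaf.stalk y) := by
  ext t
  change Y.fromSpecStalk y t ∈ (Y' : Set Y) ↔ t ≠ closedPoint _
  rw [hY', Set.mem_compl_iff, Set.mem_singleton_iff, fromSpecStalk_eq_iff]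

section LemmaC
variable {X Y : Scheme.{u}} (g : X ⟶ Y)

theorem exists_iff_of_isPullback (U : X.Opens) {E S : Scheme.{u}} (a : E ⟶ U.toScheme) (b : E ⟶ S)
    (j : S ⟶ Y) (H : IsPullback a b (U.ι ≫ g) j) (t : S) :
    (∃ e, b e = t) ↔ ∃ x ∈ U, g x = j t := by
  constructor
  · rintro ⟨e, rfl⟩
    refine ⟨(a e).1, (a e).2, ?_⟩
    have : (U.ι ≫ g) (a e) = j (b e) := by
      rw [← Scheme.Hom.comp_apply, ← Scheme.Hom.comp_apply, H.w]
    exact this
  · rintro ⟨x, hxU, hx⟩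
    obtain ⟨w, hw1, hw2⟩ := Scheme.Pullback.exists_preimage_pullback (f := U.ι ≫ g) (g := j)
      ⟨x, hxU⟩ t hx
    refine ⟨H.isoPullback.inv w, ?_⟩
    rw [← Scheme.Hom.comp_apply, H.isoPullback_inv_snd]
    exact hw2

instance isOpenImmersion_restrict_ι_comp (U : X.Opens) (Y' : Y.Opens) [IsOpenImmersion (g ∣_ Y')] :
    IsOpenImmersion ((U.ι ≫ g) ∣_ Y') := by
  have h2 : IsOpenImmersion (U.ι ∣_ g ⁻¹ᵁ Y' ≫ g ∣_ Y') := inferInstance
  rw [morphismRestrict_comp]
  exact h2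

end LemmaC

section Main
variable {X Y : Scheme.{u}} [IsLocallyNoetherian X] (g : X ⟶ Y) (z : X) (Y' : Y.Opens)
  (hY' : (Y' : Set Y) = {g z}ᶜ) [IsOpenImmersion (g ∣_ Y')]
  (U : X.Opens) {E : Scheme.{u}} [IsAffine E] (a : E ⟶ U.toScheme)
  (b : E ⟶ Spec (Y.presheaf.stalk (g z)))
  (H : IsPullback a b (U.ι ≫ g) (Y.fromSpecStalk (g z)))
  (V : (Spec (Y.presheaf.stalk (g z))).Opens)
  (hV : ∀ t, t ∈ V ↔ t ∈ FEt.puncturedSpec (Y.presheaf.stalk (g z)) ∧
    ∃ x ∈ U, g x = Y.fromSpecStalk (g z) t)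

include hY' H in
omit [IsLocallyNoetherian X] [IsAffine E] in
theorem isOpenImmersion_b :
    IsOpenImmersion (b ∣_ FEt.puncturedSpec (Y.presheaf.stalk (g z))) :=
  isOpenImmersion_restrict_of_isPullback (U.ι ≫ g) Y' a b _ H _
    (preimage_fromSpecStalk (g z) Y' hY').ge

include hY' H hV in
omit [IsLocallyNoetherian X] in
theorem isAffineHom_homOfLE_V (hVP : V ≤ FEt.puncturedSpec (Y.presheaf.stalk (g z))) :
    IsAffineHom ((Spec (Y.presheaf.stalk (g z))).homOfLE hVP) := by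
  haveI := isOpenImmersion_b g z Y' hY' U a b H
  exact isAffineHom_homOfLE b _ V hVP
    (fun t => by rw [hV, exists_iff_of_isPullback g U a b _ H])

include hY' H hV in
theorem dim_le_one (hzU : z ∈ U) (hmax : ∀ z' : X, g z' = g z → z' ⤳ z → z' = z)
    (haff : IsAffineOpen V) : ringKrullDim (X.presheaf.stalk z) ≤ 1 := by
  haveI := isOpenImmersion_b g z Y' hY' U a b H
  have hD : IsAffineOpen (b ⁻¹ᵁ FEt.puncturedSpec (Y.presheaf.stalk (g z))) :=
    isAffineOpen_preimage b _ V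
      (fun t => by rw [hV, exists_iff_of_isPullback g U a b _ H]) haff
  have hcomm : U.fromSpecStalkOfMem z hzU ≫ (U.ι ≫ g) =
      Spec.map (g.stalkMap z) ≫ Y.fromSpecStalk (g z) := by
    rw [← Category.assoc, Scheme.Opens.fromSpecStalkOfMem_ι, Scheme.SpecMap_stalkMap_fromSpecStalk]
  let k := H.lift (U.fromSpecStalkOfMem z hzU) (Spec.map (g.stalkMap z)) hcomm
  have hk : k ≫ b = Spec.map (g.stalkMap z) := H.lift_snd _ _ _
  have h1 : IsAffineOpen (k ⁻¹ᵁ (b ⁻¹ᵁ FEt.puncturedSpec (Y.presheaf.stalk (g z)))) :=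
    hD.preimage k
  have h2 : k ⁻¹ᵁ (b ⁻¹ᵁ FEt.puncturedSpec (Y.presheaf.stalk (g z))) =
      FEt.puncturedSpec (X.presheaf.stalk z) := by
    rw [← Scheme.Hom.comp_preimage, hk]
    ext q
    change Spec.map (g.stalkMap z) q ≠ closedPoint _ ↔ q ≠ closedPoint _
    rw [not_iff_not]
    constructor
    · intro hq
      have hx1 : g (X.fromSpecStalk z q) = g z := by
        rw [map_fromSpecStalk, hq, Scheme.fromSpecStalk_closedPoint]
      have hx2 := hmax _ hx1 (fromSpecStalk_specializes z q)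
      exact (fromSpecStalk_eq_iff z q).mp hx2
    · rintro rfl
      exact IsLocalRing.comap_closedPoint (g.stalkMap z).hom
  rw [h2] at h1
  exact PuncAff.ringKrullDim_le_one_of_isAffineOpen _ h1

end Main

end Groth.Agent.Helper14.CondW
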