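import Mathlib
import Groth.Prelude.Def_FEt
import Groth.Agent.Lib.Helper14.CondWC
import Groth.Agent.Lib.Helper14.ChainLift

/-!
# Condition (W): the contradiction from a section over a component
-/

set_option autoImplicit false

namespace Groth.Agent.Helper14.CondW
universe u
open AlgebraicGeometry CategoryTheory TopologicalSpace IsLocalRing Limits

theorem exists_mul_sub_mem_of_surjective {A B : Type*} [CommRing A] [CommRing B] (φ : A →+* B)
    (q : Ideal B) [q.IsPrime]
    (hs : Function.Surjective (Localization.localRingHom (q.comap φ) q φ rfl)) (b : B) :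
    ∃ a s : A, φ s ∉ q ∧ b * φ s - φ a ∈ q := by
  obtain ⟨x, hx⟩ := hs (algebraMap B (Localization.AtPrime q) b)
  obtain ⟨a, s, rfl⟩ := IsLocalization.exists_mk'_eq (q.comap φ).primeCompl x
  rw [Localization.localRingHom_mk', IsLocalization.mk'_eq_iff_eq_mul, ← map_mul,
    IsLocalization.eq_iff_exists q.primeCompl] at hx
  obtain ⟨c, hc⟩ := hx
  refine ⟨a, s, s.2, ?_⟩
  have h0 : (c : B) * (b * φ s - φ a) = 0 := by
    rw [mul_sub, sub_eq_zero]
    exact hc.symm
  have h1 : (c : B) * (b * φ s - φ a) ∈ q := by rw [h0]; exact q.zero_mem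
  exact (Ideal.IsPrime.mem_or_mem inferInstance h1).resolve_left c.2

theorem fromSpecStalk_specializes_iff {X : Scheme.{u}} (x : X)
    (Q P : PrimeSpectrum (X.presheaf.stalk x)) :
    X.fromSpecStalk x Q ⤳ X.fromSpecStalk x P ↔ Q ≤ P := by
  rw [(X.fromSpecStalk x).isEmbedding.isInducing.specializes_iff]
  exact (PrimeSpectrum.le_iff_specializes Q P).symm

theorem exists_fromSpecStalk_eq {X : Scheme.{u}} {x x' : X} (h : x' ⤳ x) :
    ∃ Q : PrimeSpectrum (X.presheaf.stalk x), X.fromSpecStalk x Q = x' := by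
  have : x' ∈ Set.range (X.fromSpecStalk x) := by
    rw [Scheme.range_fromSpecStalk]; exact h
  exact this

set_option backward.isDefEq.respectTransparency false in
theorem false_of_section {X Y : Scheme.{u}} [IsLocallyNoetherian Y] (g : X ⟶ Y) (z' : X)
    (Y' : Y.Opens) (hY' : (Y' : Set Y) = {g z'}ᶜ) [IsOpenImmersion (g ∣_ Y')]
    (z : X) (hzz' : z ⤳ z') (hne : z ≠ z') (hgz : g z = g z')
    (p : PrimeSpectrum (Y.presheaf.stalk (g z'))) (hp : p ≠ closedPoint _)
    (hsec : ∀ t : PrimeSpectrum (Y.presheaf.stalk (g z')), p ≤ t → t ≠ closedPoint _ →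
      ∃ x : X, g x = Y.fromSpecStalk (g z') t ∧ x ⤳ z) : False := by
  classical
  have hmemY' : ∀ t : PrimeSpectrum (Y.presheaf.stalk (g z')), t ≠ closedPoint _ →
      Y.fromSpecStalk (g z') t ∈ Y' := by
    intro t ht
    show Y.fromSpecStalk (g z') t ∈ (Y' : Set Y)
    rw [hY', Set.mem_compl_iff, Set.mem_singleton_iff, fromSpecStalk_eq_iff]
    exact ht
  have hsec' : ∀ t : PrimeSpectrum (Y.presheaf.stalk (g z')), p ≤ t → t ≠ closedPoint _ →
      ∃ Q : PrimeSpectrum (X.presheaf.stalk z'),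
        g (X.fromSpecStalk z' Q) = Y.fromSpecStalk (g z') t ∧ X.fromSpecStalk z' Q ⤳ z := by
    intro t h1 h2
    obtain ⟨x, hx1, hx2⟩ := hsec t h1 h2
    obtain ⟨Q, rfl⟩ := exists_fromSpecStalk_eq (hx2.trans hzz')
    exact ⟨Q, hx1, hx2⟩
  choose F hFa hFb using hsec'
  obtain ⟨N, hN⟩ := exists_fromSpecStalk_eq hzz'
  have hNM : N < closedPoint (X.presheaf.stalk z') := by
    refine lt_of_le_of_ne (IsLocalRing.le_maximalIdeal N.isPrime.ne_top) ?_
    intro h
    apply hne
    rw [← hN, h, Scheme.fromSpecStalk_closedPoint]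
  have hF1 : ∀ t h1 h2, PrimeSpectrum.comap (g.stalkMap z').hom (F t h1 h2) = t := by
    intro t h1 h2
    have := hFa t h1 h2
    rw [map_fromSpecStalk] at this
    exact (Y.fromSpecStalk (g z')).isEmbedding.injective this
  have hF2 : ∀ t₁ t₂ h1 h2 h1' h2', t₁ ≤ t₂ → F t₁ h1 h2 ≤ F t₂ h1' h2' := by
    intro t₁ t₂ h1 h2 h1' h2' h12
    rw [← fromSpecStalk_specializes_iff]
    have e1 := hFa t₁ h1 h2
    have e2 := hFa t₂ h1' h2'
    apply specializes_of_map_specializes g Y'
    · rw [e1]; exact hmemY' _ h2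
    · rw [e2]; exact hmemY' _ h2'
    · rw [e1, e2]
      exact ((PrimeSpectrum.le_iff_specializes t₁ t₂).mp h12).map (Y.fromSpecStalk (g z')).continuous
  have hF3 : ∀ t h1 h2, F t h1 h2 < N := by
    intro t h1 h2
    refine lt_of_le_of_ne ?_ ?_
    · rw [← fromSpecStalk_specializes_iff, hN]
      exact hFb t h1 h2
    · intro h
      have e1 := hFa t h1 h2
      rw [h, hN, hgz] at e1
      exact h2 ((fromSpecStalk_eq_iff _ _).mp e1.symm)
  refine ChainLift.false_of_chainLift (g.stalkMap z').hom p hp N _ hNM F hF1 hF2 hF3 ?_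
  intro b
  have hmem : g (X.fromSpecStalk z' (F p le_rfl hp)) ∈ Y' := by
    rw [hFa p le_rfl hp]; exact hmemY' _ hp
  haveI := isIso_stalkMap g Y' _ hmem
  have hbij := PurUFD.bijective_localRingHom_of_isIso_stalkMap g z' (F p le_rfl hp)
  exact exists_mul_sub_mem_of_surjective (g.stalkMap z').hom (F p le_rfl hp).asIdeal hbij.2 b

theorem false_of_section' {X Y : Scheme.{u}} [IsLocallyNoetherian Y] (g : X ⟶ Y) (y : Y) (z' : X)
    (hz' : g z' = y)
    (Y' : Y.Opens) (hY' : (Y' : Set Y) = {y}ᶜ) [IsOpenImmersion (g ∣_ Y')]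
    (z : X) (hzz' : z ⤳ z') (hne : z ≠ z') (hgz : g z = y)
    (p : PrimeSpectrum (Y.presheaf.stalk y)) (hp : p ≠ closedPoint _)
    (hsec : ∀ t : PrimeSpectrum (Y.presheaf.stalk y), p ≤ t → t ≠ closedPoint _ →
      ∃ x : X, g x = Y.fromSpecStalk y t ∧ x ⤳ z) : False := by
  subst hz'
  exact false_of_section g z' Y' hY' z hzz' hne hgz p hp hsec

end Groth.Agent.Helper14.CondW
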