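import Mathlib
import Groth.Prelude.Def_FEt
import Groth.Agent.Lib.Helper14.CondWC

/-!
# Condition (W): a component of the punctured spectrum lifts to `Spec 𝒪_{X,z}`
-/

set_option autoImplicit false

namespace Groth.Agent.Helper14.CondW
universe u
open AlgebraicGeometry CategoryTheory TopologicalSpace IsLocalRing Limits

theorem exists_isPullback {X Y : Scheme.{u}} (g : X ⟶ Y) (z : X) (U : X.Opens)
    (hU : IsAffineOpen U) (V₀ : Y.Opens) (hV₀ : IsAffineOpen V₀) (hy : g z ∈ V₀)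
    (e : U ≤ g ⁻¹ᵁ V₀) :
    ∃ (E : Scheme.{u}) (_ : IsAffine E) (a : E ⟶ U.toScheme)
      (b : E ⟶ Spec (Y.presheaf.stalk (g z))),
      IsPullback a b (U.ι ≫ g) (Y.fromSpecStalk (g z)) := by
  haveI : IsAffine U.toScheme := hU
  haveI : IsAffine V₀.toScheme := hV₀
  refine ⟨pullback (g.resLE V₀ U e) (V₀.fromSpecStalkOfMem (g z) hy), inferInstance,
    pullback.fst _ _, pullback.snd _ _, ?_⟩
  have : IsPullback (pullback.fst (g.resLE V₀ U e) (V₀.fromSpecStalkOfMem (g z) hy))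
      (pullback.snd (g.resLE V₀ U e) (V₀.fromSpecStalkOfMem (g z) hy))
      (g.resLE V₀ U e ≫ V₀.ι) (V₀.fromSpecStalkOfMem (g z) hy ≫ V₀.ι) :=
    IsPullback.of_isLimit
      (pullbackIsPullbackOfCompMono (g.resLE V₀ U e) (V₀.fromSpecStalkOfMem (g z) hy) V₀.ι)
  rw [Scheme.Hom.resLE_comp_ι, Scheme.Opens.fromSpecStalkOfMem_ι] at this
  exact this

theorem exists_component_section {X Y : Scheme.{u}} [IsLocallyNoetherian X]
    [IsLocallyNoetherian Y] (g : X ⟶ Y) (z : X) (Y' : Y.Opens) (hY' : (Y' : Set Y) = {g z}ᶜ)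
    [IsOpenImmersion (g ∣_ Y')]
    (hW : ∀ U : (Spec (Y.presheaf.stalk (g z))).Opens,
      ∀ hU : U ≤ FEt.puncturedSpec ↑(Y.presheaf.stalk (g z)),
        (∀ T ∈ irreducibleComponents ↥(FEt.puncturedSpec ↑(Y.presheaf.stalk (g z))),
          ¬ Subtype.val '' T ⊆ (U : Set _)) →
        IsAffineHom ((Spec (Y.presheaf.stalk (g z))).homOfLE hU) → IsAffineOpen U)
    (hmax : ∀ z' : X, g z' = g z → z' ⤳ z → z' = z)
    (hdim : ¬ ringKrullDim (X.presheaf.stalk z) ≤ 1) :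
    ∃ T ∈ irreducibleComponents ↥(FEt.puncturedSpec ↑(Y.presheaf.stalk (g z))),
      ∀ t ∈ T, ∃ x : X, g x = Y.fromSpecStalk (g z) t.1 ∧ x ⤳ z := by
  classical
  have hmemY' : ∀ t : Spec (Y.presheaf.stalk (g z)),
      t ∈ FEt.puncturedSpec ↑(Y.presheaf.stalk (g z)) → Y.fromSpecStalk (g z) t ∈ Y' := by
    intro t ht
    rw [← preimage_fromSpecStalk (g z) Y' hY'] at ht
    exact ht
  obtain ⟨_, ⟨V₀, hV₀ : IsAffineOpen V₀, rfl⟩, hyV₀, -⟩ :=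
    Y.isBasis_affineOpens.exists_subset_of_mem_open (Set.mem_univ (g z)) isOpen_univ
  have hopenV : ∀ U : X.Opens, IsOpen {t : Spec (Y.presheaf.stalk (g z)) |
      t ∈ FEt.puncturedSpec ↑(Y.presheaf.stalk (g z)) ∧ ∃ x ∈ U, g x = Y.fromSpecStalk (g z) t} := by
    intro U
    have h1 := (isOpen_image g Y' U).preimage (Y.fromSpecStalk (g z)).continuous
    convert h1 using 1
    ext t
    constructor
    · rintro ⟨htP, x, hxU, hx⟩
      exact ⟨x, ⟨hxU, show g x ∈ Y' by rw [hx]; exact hmemY' t htP⟩, hx⟩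
    · rintro ⟨x, ⟨hxU, hxY'⟩, hx⟩
      refine ⟨?_, x, hxU, hx⟩
      rw [← preimage_fromSpecStalk (g z) Y' hY']
      show Y.fromSpecStalk (g z) t ∈ Y'
      rw [← hx]; exact hxY'
  let VU : X.Opens → (Spec (Y.presheaf.stalk (g z))).Opens := fun U =>
    ⟨{t | t ∈ FEt.puncturedSpec ↑(Y.presheaf.stalk (g z)) ∧
      ∃ x ∈ U, g x = Y.fromSpecStalk (g z) t}, hopenV U⟩
  have hVUP : ∀ U, VU U ≤ FEt.puncturedSpec ↑(Y.presheaf.stalk (g z)) := fun U t ht => ht.1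
  have hVUmono : ∀ U₁ U₂ : X.Opens, U₁ ≤ U₂ → VU U₁ ≤ VU U₂ := by
    intro U₁ U₂ h t ht
    obtain ⟨htP, x, hx, e⟩ := ht
    exact ⟨htP, x, h hx, e⟩
  let Adm : X.Opens → Prop := fun U => IsAffineOpen U ∧ z ∈ U ∧ U ≤ g ⁻¹ᵁ V₀
  have hbasis : ∀ W : X.Opens, z ∈ W → ∃ U, Adm U ∧ U ≤ W := by
    intro W hzW
    obtain ⟨_, ⟨U, hU : IsAffineOpen U, rfl⟩, hzU, hUW⟩ :=
      X.isBasis_affineOpens.exists_subset_of_mem_open
        (show z ∈ ((W ⊓ g ⁻¹ᵁ V₀ : X.Opens) : Set X) from ⟨hzW, hyV₀⟩) (W ⊓ g ⁻¹ᵁ V₀).isOpen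
    exact ⟨U, ⟨hU, hzU, fun x hx => (hUW hx).2⟩, fun x hx => (hUW hx).1⟩
  have key : ∀ U, Adm U → ∃ T ∈ irreducibleComponents ↥(FEt.puncturedSpec ↑(Y.presheaf.stalk (g z))),
      Subtype.val '' T ⊆ (VU U : Set _) := by
    rintro U ⟨hU, hzU, hUV₀⟩
    by_contra hcon
    push Not at hcon
    obtain ⟨E, hE, a, b, H⟩ := exists_isPullback g z U hU V₀ hV₀ hyV₀ hUV₀
    have hVdesc : ∀ t, t ∈ VU U ↔ t ∈ FEt.puncturedSpec ↑(Y.presheaf.stalk (g z)) ∧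
        ∃ x ∈ U, g x = Y.fromSpecStalk (g z) t := fun t => Iff.rfl
    have h3 := isAffineHom_homOfLE_V g z Y' hY' U a b H (VU U) hVdesc (hVUP U)
    have h4 := hW (VU U) (hVUP U) hcon h3
    exact hdim (dim_le_one g z Y' hY' U a b H (VU U) hVdesc hzU hmax h4)
  haveI : NoetherianSpace ↥(FEt.puncturedSpec ↑(Y.presheaf.stalk (g z))) :=
    NoetherianSpace.set _
  have hfin : (irreducibleComponents ↥(FEt.puncturedSpec ↑(Y.presheaf.stalk (g z)))).Finite :=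
    NoetherianSpace.finite_irreducibleComponents
  have stepB : ∃ T ∈ irreducibleComponents ↥(FEt.puncturedSpec ↑(Y.presheaf.stalk (g z))),
      ∀ U, Adm U → Subtype.val '' T ⊆ (VU U : Set _) := by
    by_contra hcon
    push Not at hcon
    choose! UT hUT using hcon
    let W : Set X := ⋂ T ∈ irreducibleComponents ↥(FEt.puncturedSpec ↑(Y.presheaf.stalk (g z))),
      (UT T : Set X)
    have hWopen : IsOpen W := hfin.isOpen_biInter (fun T _ => (UT T).isOpen)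
    have hzW : z ∈ W := Set.mem_iInter₂.mpr (fun T hT => (hUT T hT).1.2.1)
    obtain ⟨U, hU, hUW⟩ := hbasis ⟨W, hWopen⟩ hzW
    obtain ⟨T, hT, hTU⟩ := key U hU
    exact (hUT T hT).2 (hTU.trans
      (hVUmono U (UT T) (fun x hx => Set.mem_iInter₂.mp (hUW hx) T hT)))
  obtain ⟨T, hT, hTall⟩ := stepB
  refine ⟨T, hT, ?_⟩
  intro t ht
  obtain ⟨U₀, hU₀, -⟩ := hbasis ⊤ trivial
  obtain ⟨htP, x, hxU₀, hx⟩ := hTall U₀ hU₀ ⟨t, ht, rfl⟩
  refine ⟨x, hx, ?_⟩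
  rw [specializes_iff_forall_open]
  intro s hs hzs
  obtain ⟨U, hU, hUs⟩ := hbasis ⟨s, hs⟩ hzs
  obtain ⟨-, x', hx'U, hx'⟩ := hTall U hU ⟨t, ht, rfl⟩
  have hxx' : x' = x := eq_of_map_eq g Y' (by rw [hx']; exact hmemY' _ htP)
    (by rw [hx]; exact hmemY' _ htP) (hx'.trans hx.symm)
  rw [← hxx']
  exact hUs hx'U

end Groth.Agent.Helper14.CondW
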