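import Mathlib
import Groth.Prelude.Def_FEt
import Groth.Agent.Lib.Helper14.PurUFDSch

/-!
# Morphisms which are open immersions on an open subscheme `V₀`: basic facts, and base change
-/

set_option autoImplicit false

namespace Groth.Agent.Helper14.CondX
universe u
open AlgebraicGeometry CategoryTheory TopologicalSpace IsLocalRing Limits

section A
variable {X Y : Scheme.{u}} (g : X ⟶ Y) (V₀ : X.Opens) [IsOpenImmersion (V₀.ι ≫ g)]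

theorem eq_of_map_eq {x₁ x₂ : X} (h₁ : x₁ ∈ V₀) (h₂ : x₂ ∈ V₀) (h : g x₁ = g x₂) :
    x₁ = x₂ := by
  have := (V₀.ι ≫ g).isOpenEmbedding.injective
    (a₁ := ⟨x₁, h₁⟩) (a₂ := ⟨x₂, h₂⟩) h
  exact congrArg Subtype.val this

theorem specializes_of_map_specializes {x₁ x₂ : X} (h₁ : x₁ ∈ V₀) (h₂ : x₂ ∈ V₀)
    (h : g x₁ ⤳ g x₂) : x₁ ⤳ x₂ := by
  have hind := (V₀.ι ≫ g).isOpenEmbedding.isInducing
  have h' : (⟨x₁, h₁⟩ : V₀) ⤳ ⟨x₂, h₂⟩ := hind.specializes_iff.mp h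
  exact (subtype_specializes_iff _ _).mp h'

theorem isOpen_image (U : X.Opens) : IsOpen (g '' ((U : Set X) ∩ V₀)) := by
  have hopen := (V₀.ι ≫ g).isOpenEmbedding.isOpenMap
  have h1 : IsOpen (V₀.ι ⁻¹' (U : Set X)) := U.2.preimage V₀.ι.continuous
  convert hopen _ h1 using 1
  ext y
  constructor
  · rintro ⟨x, ⟨hxU, hxY⟩, rfl⟩
    exact ⟨⟨x, hxY⟩, hxU, rfl⟩
  · rintro ⟨⟨x, hxY⟩, hxU, rfl⟩
    exact ⟨x, ⟨hxU, hxY⟩, rfl⟩

theorem isIso_stalkMap (x : X) (hx : x ∈ V₀) : IsIso (g.stalkMap x) :=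
  PurUFD.isIso_stalkMap_of_isOpenImmersion g V₀ x hx

end A

section LemmaA
variable {E S : Scheme.{u}} (b : E ⟶ S) (P : S.Opens) [IsOpenImmersion ((b ⁻¹ᵁ P).ι ≫ b)]
  (V : S.Opens) (hVP : V ≤ P) (hV : ∀ t, t ∈ V ↔ t ∈ P ∧ ∃ e, b e = t)

include hV in
omit [IsOpenImmersion ((b ⁻¹ᵁ P).ι ≫ b)] in
theorem range_eq : Set.range ((b ⁻¹ᵁ P).ι ≫ b) = Set.range V.ι := by
  ext t
  rw [Scheme.Opens.range_ι]
  constructor
  · rintro ⟨⟨e, he⟩, rfl⟩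
    exact (hV _).mpr ⟨he, e, rfl⟩
  · intro ht
    obtain ⟨htP, e, rfl⟩ := (hV t).mp ht
    exact ⟨⟨e, htP⟩, rfl⟩

/-- the isomorphism `b⁻¹P ≅ V`. -/
noncomputable def isoV : (b ⁻¹ᵁ P).toScheme ≅ V.toScheme :=
  IsOpenImmersion.isoOfRangeEq ((b ⁻¹ᵁ P).ι ≫ b) V.ι (range_eq b P V hV)

theorem isoV_hom_homOfLE : (isoV b P V hV).hom ≫ S.homOfLE hVP = b ∣_ P := by
  rw [← cancel_mono P.ι, Category.assoc, Scheme.homOfLE_ι, isoV,
    IsOpenImmersion.isoOfRangeEq_hom_fac, morphismRestrict_ι]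

include hV in
theorem isAffineHom_homOfLE [IsAffineHom b] : IsAffineHom (S.homOfLE hVP) := by
  have : S.homOfLE hVP = (isoV b P V hV).inv ≫ b ∣_ P := by
    rw [← isoV_hom_homOfLE b P V hVP hV, Iso.inv_hom_id_assoc]
  rw [this]
  haveI : IsAffineHom (b ∣_ P) := IsZariskiLocalAtTarget.restrict (P := @IsAffineHom) ‹_› P
  infer_instance

include hV in
theorem isAffineOpen_preimage (haff : IsAffineOpen V) : IsAffineOpen (b ⁻¹ᵁ P) := by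
  haveI : IsAffine V.toScheme := haff
  exact IsAffine.of_isIso (isoV b P V hV).hom

end LemmaA

section LemmaB

theorem isOpenImmersion_of_isPullback {X Y E S : Scheme.{u}} (g : X ⟶ Y) (V₀ : X.Opens)
    [IsOpenImmersion (V₀.ι ≫ g)] (U : X.Opens) (a : E ⟶ U.toScheme) (b : E ⟶ S) (j : S ⟶ Y)
    (H : IsPullback a b (U.ι ≫ g) j) (P : S.Opens)
    (hP : ∀ e, b e ∈ P → (a e).1 ∈ V₀) : IsOpenImmersion ((b ⁻¹ᵁ P).ι ≫ b) := by
  let W : U.toScheme.Opens := U.ι ⁻¹ᵁ V₀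
  have hW : IsOpenImmersion (W.ι ≫ U.ι ≫ g) := by
    have h1 : W.ι ≫ U.ι = U.ι ∣_ V₀ ≫ V₀.ι := (morphismRestrict_ι U.ι V₀).symm
    have h2 : IsOpenImmersion (U.ι ∣_ V₀ ≫ V₀.ι ≫ g) := inferInstance
    rw [← Category.assoc, h1, Category.assoc]
    exact h2
  have H1 : IsPullback (a ∣_ W) (a ⁻¹ᵁ W).ι W.ι a := isPullback_morphismRestrict a W
  have H2 : IsPullback (a ∣_ W) ((a ⁻¹ᵁ W).ι ≫ b) (W.ι ≫ U.ι ≫ g) j := H1.paste_vert H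
  have h3 : IsOpenImmersion ((a ⁻¹ᵁ W).ι ≫ b) :=
    MorphismProperty.of_isPullback (P := @IsOpenImmersion) H2 hW
  have hle : b ⁻¹ᵁ P ≤ a ⁻¹ᵁ W := fun e he => hP e he
  have h4 : (b ⁻¹ᵁ P).ι ≫ b = E.homOfLE hle ≫ (a ⁻¹ᵁ W).ι ≫ b := by
    rw [← Category.assoc, Scheme.homOfLE_ι]
  rw [h4]
  infer_instance

end LemmaB

end Groth.Agent.Helper14.CondX
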