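import Mathlib
import Groth.Prelude.Def_FEt
import Groth.Agent.Lib.Helper14.CondXA
import Groth.Agent.Lib.Helper14.CondWD
import Groth.Agent.Lib.Helper14.CondWE

/-!
# Condition (W), general form: `g` is an open immersion on an open `V₀` containing all points
over the proper generizations of `g z`.
-/

set_option autoImplicit false

namespace Groth.Agent.Helper14.CondX
universe u
open AlgebraicGeometry CategoryTheory TopologicalSpace IsLocalRing Limits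

theorem mem_of_eq {X Y : Scheme.{u}} (g : X ⟶ Y) (y : Y) (V₀ : X.Opens)
    (hV₀ : ∀ x : X, g x ⤳ y → g x ≠ y → x ∈ V₀) {x : X}
    {t : Spec (Y.presheaf.stalk y)} (ht : t ∈ FEt.puncturedSpec (Y.presheaf.stalk y))
    (hx : g x = Y.fromSpecStalk y t) : x ∈ V₀ := by
  apply hV₀
  · rw [hx]; exact CondW.fromSpecStalk_specializes _ t
  · rw [hx]; intro h; exact ht ((CondW.fromSpecStalk_eq_iff _ t).mp h)

section Main
variable {X Y : Scheme.{u}} [IsLocallyNoetherian X] (g : X ⟶ Y) (z : X) (V₀ : X.Opens)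
  [IsOpenImmersion (V₀.ι ≫ g)] (hV₀ : ∀ x : X, g x ⤳ g z → g x ≠ g z → x ∈ V₀)
  (U : X.Opens) {E : Scheme.{u}} [IsAffine E] (a : E ⟶ U.toScheme)
  (b : E ⟶ Spec (Y.presheaf.stalk (g z)))
  (H : IsPullback a b (U.ι ≫ g) (Y.fromSpecStalk (g z)))
  (V : (Spec (Y.presheaf.stalk (g z))).Opens)
  (hV : ∀ t, t ∈ V ↔ t ∈ FEt.puncturedSpec (Y.presheaf.stalk (g z)) ∧
    ∃ x ∈ U, g x = Y.fromSpecStalk (g z) t)

include hV₀ H in
omit [IsLocallyNoetherian X] [IsAffine E] in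
theorem isOpenImmersion_b :
    IsOpenImmersion ((b ⁻¹ᵁ FEt.puncturedSpec (Y.presheaf.stalk (g z))).ι ≫ b) := by
  refine isOpenImmersion_of_isPullback g V₀ U a b _ H _ (fun e he => ?_)
  refine mem_of_eq g (g z) V₀ hV₀ he ?_
  have : (U.ι ≫ g) (a e) = Y.fromSpecStalk (g z) (b e) := by
    rw [← Scheme.Hom.comp_apply, ← Scheme.Hom.comp_apply, H.w]
  exact this

include hV₀ H hV in
omit [IsLocallyNoetherian X] in
theorem isAffineHom_homOfLE_V (hVP : V ≤ FEt.puncturedSpec (Y.presheaf.stalk (g z))) :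
    IsAffineHom ((Spec (Y.presheaf.stalk (g z))).homOfLE hVP) := by
  haveI := isOpenImmersion_b g z V₀ hV₀ U a b H
  exact isAffineHom_homOfLE b _ V hVP
    (fun t => by rw [hV, CondW.exists_iff_of_isPullback g U a b _ H])

include hV₀ H hV in
theorem dim_le_one (hzU : z ∈ U) (hmax : ∀ z' : X, g z' = g z → z' ⤳ z → z' = z)
    (haff : IsAffineOpen V) : ringKrullDim (X.presheaf.stalk z) ≤ 1 := by
  haveI := isOpenImmersion_b g z V₀ hV₀ U a b H
  have hD : IsAffineOpen (b ⁻¹ᵁ FEt.puncturedSpec (Y.presheaf.stalk (g z))) :=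
    isAffineOpen_preimage b _ V
      (fun t => by rw [hV, CondW.exists_iff_of_isPullback g U a b _ H]) haff
  have hcomm : U.fromSpecStalkOfMem z hzU ≫ (U.ι ≫ g) =
      Spec.map (g.stalkMap z) ≫ Y.fromSpecStalk (g z) := by
    rw [← Category.assoc, Scheme.Opens.fromSpecStalkOfMem_ι, Scheme.SpecMap_stalkMap_fromSpecStalk]
  let k := H.lift (U.fromSpecStalkOfMem z hzU) (Spec.map (g.stalkMap z)) hcomm
  have hk : k ≫ b = Spec.map (g.stalkMap z) := H.lift_snd _ _ _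
  have h1 : IsAffineOpen (k ⁻¹ᵁ (b ⁻¹ᵁ FEt.puncturedSpec (Y.presheaf.stalk (g z)))) :=
    hD.preimage k
  have h2 : k ⁻¹ᵁ (b ⁻¹ᵁ FEt.puncturedSpec (Y.presheaf.stalk (g z))) =
      FEt.puncturedSpec (X.presheaf.stalk z) := by
    rw [← Scheme.Hom.comp_preimage, hk]
    ext q
    change Spec.map (g.stalkMap z) q ≠ closedPoint _ ↔ q ≠ closedPoint _
    rw [not_iff_not]
    constructor
    · intro hq
      have hx1 : g (X.fromSpecStalk z q) = g z := by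
        rw [CondW.map_fromSpecStalk, hq, Scheme.fromSpecStalk_closedPoint]
      have hx2 := hmax _ hx1 (CondW.fromSpecStalk_specializes z q)
      exact (CondW.fromSpecStalk_eq_iff z q).mp hx2
    · rintro rfl
      exact IsLocalRing.comap_closedPoint (g.stalkMap z).hom
  rw [h2] at h1
  exact PuncAff.ringKrullDim_le_one_of_isAffineOpen _ h1

end Main

theorem exists_component_section {X Y : Scheme.{u}} [IsLocallyNoetherian X]
    [IsLocallyNoetherian Y] (g : X ⟶ Y) (z : X) (V₀ : X.Opens)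
    [IsOpenImmersion (V₀.ι ≫ g)] (hV₀ : ∀ x : X, g x ⤳ g z → g x ≠ g z → x ∈ V₀)
    (hW : ∀ U : (Spec (Y.presheaf.stalk (g z))).Opens,
      ∀ hU : U ≤ FEt.puncturedSpec ↑(Y.presheaf.stalk (g z)),
        (∀ T ∈ irreducibleComponents ↥(FEt.puncturedSpec ↑(Y.presheaf.stalk (g z))),
          ¬ Subtype.val '' T ⊆ (U : Set _)) →
        IsAffineHom ((Spec (Y.presheaf.stalk (g z))).homOfLE hU) → IsAffineOpen U)
    (hmax : ∀ z' : X, g z' = g z → z' ⤳ z → z' = z)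
    (hdim : ¬ ringKrullDim (X.presheaf.stalk z) ≤ 1) :
    ∃ T ∈ irreducibleComponents ↥(FEt.puncturedSpec ↑(Y.presheaf.stalk (g z))),
      ∀ t ∈ T, ∃ x : X, g x = Y.fromSpecStalk (g z) t.1 ∧ x ⤳ z := by
  classical
  obtain ⟨_, ⟨Y₀, hY₀ : IsAffineOpen Y₀, rfl⟩, hyY₀, -⟩ :=
    Y.isBasis_affineOpens.exists_subset_of_mem_open (Set.mem_univ (g z)) isOpen_univ
  have hopenV : ∀ U : X.Opens, IsOpen {t : Spec (Y.presheaf.stalk (g z)) |
      t ∈ FEt.puncturedSpec ↑(Y.presheaf.stalk (g z)) ∧ ∃ x ∈ U, g x = Y.fromSpecStalk (g z) t} := by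
    intro U
    have h1 := ((isOpen_image g V₀ U).preimage (Y.fromSpecStalk (g z)).continuous).inter
      (FEt.puncturedSpec ↑(Y.presheaf.stalk (g z))).isOpen
    convert h1 using 1
    ext t
    constructor
    · rintro ⟨htP, x, hxU, hx⟩
      exact ⟨⟨x, ⟨hxU, mem_of_eq g (g z) V₀ hV₀ htP hx⟩, hx⟩, htP⟩
    · rintro ⟨⟨x, ⟨hxU, -⟩, hx⟩, htP⟩
      exact ⟨htP, x, hxU, hx⟩
  let VU : X.Opens → (Spec (Y.presheaf.stalk (g z))).Opens := fun U =>
    ⟨{t | t ∈ FEt.puncturedSpec ↑(Y.presheaf.stalk (g z)) ∧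
      ∃ x ∈ U, g x = Y.fromSpecStalk (g z) t}, hopenV U⟩
  have hVUP : ∀ U, VU U ≤ FEt.puncturedSpec ↑(Y.presheaf.stalk (g z)) := fun U t ht => ht.1
  have hVUmono : ∀ U₁ U₂ : X.Opens, U₁ ≤ U₂ → VU U₁ ≤ VU U₂ := by
    intro U₁ U₂ h t ht
    obtain ⟨htP, x, hx, e⟩ := ht
    exact ⟨htP, x, h hx, e⟩
  let Adm : X.Opens → Prop := fun U => IsAffineOpen U ∧ z ∈ U ∧ U ≤ g ⁻¹ᵁ Y₀
  have hbasis : ∀ W : X.Opens, z ∈ W → ∃ U, Adm U ∧ U ≤ W := by
    intro W hzW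
    obtain ⟨_, ⟨U, hU : IsAffineOpen U, rfl⟩, hzU, hUW⟩ :=
      X.isBasis_affineOpens.exists_subset_of_mem_open
        (show z ∈ ((W ⊓ g ⁻¹ᵁ Y₀ : X.Opens) : Set X) from ⟨hzW, hyY₀⟩) (W ⊓ g ⁻¹ᵁ Y₀).isOpen
    exact ⟨U, ⟨hU, hzU, fun x hx => (hUW hx).2⟩, fun x hx => (hUW hx).1⟩
  have key : ∀ U, Adm U → ∃ T ∈ irreducibleComponents ↥(FEt.puncturedSpec ↑(Y.presheaf.stalk (g z))),
      Subtype.val '' T ⊆ (VU U : Set _) := by
    rintro U ⟨hU, hzU, hUY₀⟩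
    by_contra hcon
    push Not at hcon
    obtain ⟨E, hE, a, b, H⟩ := CondW.exists_isPullback g z U hU Y₀ hY₀ hyY₀ hUY₀
    have hVdesc : ∀ t, t ∈ VU U ↔ t ∈ FEt.puncturedSpec ↑(Y.presheaf.stalk (g z)) ∧
        ∃ x ∈ U, g x = Y.fromSpecStalk (g z) t := fun t => Iff.rfl
    have h3 := isAffineHom_homOfLE_V g z V₀ hV₀ U a b H (VU U) hVdesc (hVUP U)
    have h4 := hW (VU U) (hVUP U) hcon h3
    exact hdim (dim_le_one g z V₀ hV₀ U a b H (VU U) hVdesc hzU hmax h4)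
  haveI : NoetherianSpace ↥(FEt.puncturedSpec ↑(Y.presheaf.stalk (g z))) :=
    NoetherianSpace.set _
  have hfin : (irreducibleComponents ↥(FEt.puncturedSpec ↑(Y.presheaf.stalk (g z)))).Finite :=
    NoetherianSpace.finite_irreducibleComponents
  have stepB : ∃ T ∈ irreducibleComponents ↥(FEt.puncturedSpec ↑(Y.presheaf.stalk (g z))),
      ∀ U, Adm U → Subtype.val '' T ⊆ (VU U : Set _) := by
    by_contra hcon
    push Not at hcon
    choose! UT hUT using hcon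
    let W : Set X := ⋂ T ∈ irreducibleComponents ↥(FEt.puncturedSpec ↑(Y.presheaf.stalk (g z))),
      (UT T : Set X)
    have hWopen : IsOpen W := hfin.isOpen_biInter (fun T _ => (UT T).isOpen)
    have hzW : z ∈ W := Set.mem_iInter₂.mpr (fun T hT => (hUT T hT).1.2.1)
    obtain ⟨U, hU, hUW⟩ := hbasis ⟨W, hWopen⟩ hzW
    obtain ⟨T, hT, hTU⟩ := key U hU
    exact (hUT T hT).2 (hTU.trans
      (hVUmono U (UT T) (fun x hx => Set.mem_iInter₂.mp (hUW hx) T hT)))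
  obtain ⟨T, hT, hTall⟩ := stepB
  refine ⟨T, hT, ?_⟩
  intro t ht
  obtain ⟨U₀, hU₀, -⟩ := hbasis ⊤ trivial
  obtain ⟨htP, x, hxU₀, hx⟩ := hTall U₀ hU₀ ⟨t, ht, rfl⟩
  refine ⟨x, hx, ?_⟩
  rw [specializes_iff_forall_open]
  intro s hs hzs
  obtain ⟨U, hU, hUs⟩ := hbasis ⟨s, hs⟩ hzs
  obtain ⟨-, x', hx'U, hx'⟩ := hTall U hU ⟨t, ht, rfl⟩
  have hxx' : x' = x := eq_of_map_eq g V₀ (mem_of_eq g (g z) V₀ hV₀ htP hx')
    (mem_of_eq g (g z) V₀ hV₀ htP hx) (hx'.trans hx.symm)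
  rw [← hxx']
  exact hUs hx'U

set_option backward.isDefEq.respectTransparency false in
theorem false_of_section {X Y : Scheme.{u}} [IsLocallyNoetherian Y] (g : X ⟶ Y) (z' : X)
    (V₀ : X.Opens) [IsOpenImmersion (V₀.ι ≫ g)]
    (hV₀ : ∀ x : X, g x ⤳ g z' → g x ≠ g z' → x ∈ V₀)
    (z : X) (hzz' : z ⤳ z') (hne : z ≠ z') (hgz : g z = g z')
    (p : PrimeSpectrum (Y.presheaf.stalk (g z'))) (hp : p ≠ closedPoint _)
    (hsec : ∀ t : PrimeSpectrum (Y.presheaf.stalk (g z')), p ≤ t → t ≠ closedPoint _ →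
      ∃ x : X, g x = Y.fromSpecStalk (g z') t ∧ x ⤳ z) : False := by
  classical
  have hsec' : ∀ t : PrimeSpectrum (Y.presheaf.stalk (g z')), p ≤ t → t ≠ closedPoint _ →
      ∃ Q : PrimeSpectrum (X.presheaf.stalk z'),
        g (X.fromSpecStalk z' Q) = Y.fromSpecStalk (g z') t ∧ X.fromSpecStalk z' Q ⤳ z := by
    intro t h1 h2
    obtain ⟨x, hx1, hx2⟩ := hsec t h1 h2
    obtain ⟨Q, rfl⟩ := CondW.exists_fromSpecStalk_eq (hx2.trans hzz')
    exact ⟨Q, hx1, hx2⟩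
  choose F hFa hFb using hsec'
  obtain ⟨N, hN⟩ := CondW.exists_fromSpecStalk_eq hzz'
  have hNM : N < closedPoint (X.presheaf.stalk z') := by
    refine lt_of_le_of_ne (IsLocalRing.le_maximalIdeal N.isPrime.ne_top) ?_
    intro h
    apply hne
    rw [← hN, h, Scheme.fromSpecStalk_closedPoint]
  have hF1 : ∀ t h1 h2, PrimeSpectrum.comap (g.stalkMap z').hom (F t h1 h2) = t := by
    intro t h1 h2
    have := hFa t h1 h2
    rw [CondW.map_fromSpecStalk] at this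
    exact (Y.fromSpecStalk (g z')).isEmbedding.injective this
  have hF2 : ∀ t₁ t₂ h1 h2 h1' h2', t₁ ≤ t₂ → F t₁ h1 h2 ≤ F t₂ h1' h2' := by
    intro t₁ t₂ h1 h2 h1' h2' h12
    rw [← CondW.fromSpecStalk_specializes_iff]
    have e1 := hFa t₁ h1 h2
    have e2 := hFa t₂ h1' h2'
    apply specializes_of_map_specializes g V₀
    · exact mem_of_eq g (g z') V₀ hV₀ h2 e1
    · exact mem_of_eq g (g z') V₀ hV₀ h2' e2
    · rw [e1, e2]
      exact ((PrimeSpectrum.le_iff_specializes t₁ t₂).mp h12).map (Y.fromSpecStalk (g z')).continuous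
  have hF3 : ∀ t h1 h2, F t h1 h2 < N := by
    intro t h1 h2
    refine lt_of_le_of_ne ?_ ?_
    · rw [← CondW.fromSpecStalk_specializes_iff, hN]
      exact hFb t h1 h2
    · intro h
      have e1 := hFa t h1 h2
      rw [h, hN, hgz] at e1
      exact h2 ((CondW.fromSpecStalk_eq_iff _ _).mp e1.symm)
  refine ChainLift.false_of_chainLift (g.stalkMap z').hom p hp N _ hNM F hF1 hF2 hF3 ?_
  intro b
  have hmem : X.fromSpecStalk z' (F p le_rfl hp) ∈ V₀ :=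
    mem_of_eq g (g z') V₀ hV₀ hp (hFa p le_rfl hp)
  haveI := isIso_stalkMap g V₀ _ hmem
  have hbij := PurUFD.bijective_localRingHom_of_isIso_stalkMap g z' (F p le_rfl hp)
  exact CondW.exists_mul_sub_mem_of_surjective (g.stalkMap z').hom (F p le_rfl hp).asIdeal hbij.2 b

theorem false_of_section' {X Y : Scheme.{u}} [IsLocallyNoetherian Y] (g : X ⟶ Y) (y : Y) (z' : X)
    (hz' : g z' = y) (V₀ : X.Opens) [IsOpenImmersion (V₀.ι ≫ g)]
    (hV₀ : ∀ x : X, g x ⤳ y → g x ≠ y → x ∈ V₀)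
    (z : X) (hzz' : z ⤳ z') (hne : z ≠ z') (hgz : g z = y)
    (p : PrimeSpectrum (Y.presheaf.stalk y)) (hp : p ≠ closedPoint _)
    (hsec : ∀ t : PrimeSpectrum (Y.presheaf.stalk y), p ≤ t → t ≠ closedPoint _ →
      ∃ x : X, g x = Y.fromSpecStalk y t ∧ x ⤳ z) : False := by
  subst hz'
  exact false_of_section g z' V₀ hV₀ z hzz' hne hgz p hp hsec

/-- **General form of EGA IV 21.12.14.** -/
theorem eq_of_specializes {X Y : Scheme.{u}} [IsLocallyNoetherian X] [IsLocallyNoetherian Y]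
    (g : X ⟶ Y) (z : X) (V₀ : X.Opens)
    [IsOpenImmersion (V₀.ι ≫ g)] (hV₀ : ∀ x : X, g x ⤳ g z → g x ≠ g z → x ∈ V₀)
    (hW : ∀ U : (Spec (Y.presheaf.stalk (g z))).Opens,
      ∀ hU : U ≤ FEt.puncturedSpec ↑(Y.presheaf.stalk (g z)),
        (∀ T ∈ irreducibleComponents ↥(FEt.puncturedSpec ↑(Y.presheaf.stalk (g z))),
          ¬ Subtype.val '' T ⊆ (U : Set _)) →
        IsAffineHom ((Spec (Y.presheaf.stalk (g z))).homOfLE hU) → IsAffineOpen U)
    (hmax : ∀ z' : X, g z' = g z → z' ⤳ z → z' = z)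
    (hdim : ¬ ringKrullDim (X.presheaf.stalk z) ≤ 1)
    (z' : X) (hzz' : z ⤳ z') (hgz' : g z' = g z) : z' = z := by
  classical
  by_contra hne
  obtain ⟨T, hT, hsecT⟩ := exists_component_section g z V₀ hV₀ hW hmax hdim
  haveI : QuasiSober ↥(FEt.puncturedSpec ↑(Y.presheaf.stalk (g z))) :=
    ((FEt.puncturedSpec ↑(Y.presheaf.stalk (g z))).isOpen.isOpenEmbedding_subtypeVal).quasiSober
  obtain ⟨p₀, hp₀⟩ := QuasiSober.sober hT.1 (isClosed_of_mem_irreducibleComponents T hT)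
  refine false_of_section' g (g z) z' hgz' V₀ hV₀ z hzz' (fun h => hne h.symm) rfl
    p₀.1 p₀.2 ?_
  intro t hpt ht
  have hmem : (⟨t, ht⟩ : ↥(FEt.puncturedSpec ↑(Y.presheaf.stalk (g z)))) ∈ T := by
    rw [← hp₀.def, ← specializes_iff_mem_closure]
    exact (subtype_specializes_iff _ _).mpr ((PrimeSpectrum.le_iff_specializes _ _).mp hpt)
  exact hsecT ⟨t, ht⟩ hmem

end Groth.Agent.Helper14.CondX
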