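import Mathlib
import Groth.Agent.Lib.Helper14.PurUFDSch

/-!
# A separated local isomorphism from an irreducible scheme is injective
-/

set_option autoImplicit false

namespace Groth.Agent.Helper14.CondX
universe u
open AlgebraicGeometry CategoryTheory TopologicalSpace

variable {X Y : Scheme.{u}}

set_option backward.isDefEq.respectTransparency false in
/-- an injective local isomorphism is an open immersion. -/
theorem isOpenImmersion_of_injective_of_isLocalIso (g : X ⟶ Y) (hinj : Function.Injective g)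
    (hloc : ∀ x : X, ∃ U : X.Opens, x ∈ U ∧ IsOpenImmersion (U.ι ≫ g)) :
    IsOpenImmersion g := by
  haveI : ∀ x, IsIso (g.stalkMap x) := fun x => by
    obtain ⟨U, hxU, hU⟩ := hloc x
    exact PurUFD.isIso_stalkMap_of_isOpenImmersion g U x hxU
  apply IsOpenImmersion.of_isIso_stalkMap
  apply Topology.IsOpenEmbedding.of_continuous_injective_isOpenMap g.continuous hinj
  intro O hO
  rw [isOpen_iff_forall_mem_open]
  rintro _ ⟨x, hxO, rfl⟩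
  obtain ⟨U, hxU, hU⟩ := hloc x
  refine ⟨(U.ι ≫ g) '' (U.ι ⁻¹' O), ?_, ?_, ?_⟩
  · rintro _ ⟨u, hu, rfl⟩
    exact ⟨U.ι u, hu, rfl⟩
  · exact (U.ι ≫ g).isOpenEmbedding.isOpenMap _ (hO.preimage U.ι.continuous)
  · exact ⟨⟨x, hxU⟩, hxO, rfl⟩

set_option backward.isDefEq.respectTransparency false in
theorem eq_of_map_eq_of_isSeparated [PreirreducibleSpace X] (g : X ⟶ Y) [IsSeparated g]
    {x₁ x₂ : X} (U₁ U₂ : X.Opens) (hx₁ : x₁ ∈ U₁) (hx₂ : x₂ ∈ U₂)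
    (hU₁ : IsOpenImmersion (U₁.ι ≫ g)) (hU₂ : IsOpenImmersion (U₂.ι ≫ g))
    (h : g x₁ = g x₂) : x₁ = x₂ := by
  let V : Y.Opens := (U₁.ι ≫ g).opensRange ⊓ (U₂.ι ≫ g).opensRange
  have hyV : g x₁ ∈ V := ⟨⟨⟨x₁, hx₁⟩, rfl⟩, ⟨⟨x₂, hx₂⟩, h.symm⟩⟩
  have hyV₂ : g x₂ ∈ V := h ▸ hyV
  have H₁ : Set.range V.ι ⊆ Set.range (U₁.ι ≫ g) := by
    rw [Scheme.Opens.range_ι]; exact fun y hy => hy.1
  have H₂ : Set.range V.ι ⊆ Set.range (U₂.ι ≫ g) := by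
    rw [Scheme.Opens.range_ι]; exact fun y hy => hy.2
  let l₁ := IsOpenImmersion.lift (U₁.ι ≫ g) V.ι H₁
  let l₂ := IsOpenImmersion.lift (U₂.ι ≫ g) V.ι H₂
  have hl₁ : l₁ ≫ U₁.ι ≫ g = V.ι := IsOpenImmersion.lift_fac _ _ _
  have hl₂ : l₂ ≫ U₂.ι ≫ g = V.ι := IsOpenImmersion.lift_fac _ _ _
  have key₁ : ∀ (u : X) (hu : u ∈ U₁) (hv : g u ∈ V), (l₁ ≫ U₁.ι) ⟨g u, hv⟩ = u := by
    intro u hu hv
    have h1 : (U₁.ι ≫ g) (l₁ ⟨g u, hv⟩) = (U₁.ι ≫ g) ⟨u, hu⟩ := by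
      rw [← Scheme.Hom.comp_apply, hl₁]; rfl
    have h2 := (U₁.ι ≫ g).isOpenEmbedding.injective h1
    rw [Scheme.Hom.comp_apply, h2]; rfl
  have key₂ : ∀ (u : X) (hu : u ∈ U₂) (hv : g u ∈ V), (l₂ ≫ U₂.ι) ⟨g u, hv⟩ = u := by
    intro u hu hv
    have h1 : (U₂.ι ≫ g) (l₂ ⟨g u, hv⟩) = (U₂.ι ≫ g) ⟨u, hu⟩ := by
      rw [← Scheme.Hom.comp_apply, hl₂]; rfl
    have h2 := (U₂.ι ≫ g).isOpenEmbedding.injective h1
    rw [Scheme.Hom.comp_apply, h2]; rfl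
  set s₁ : V.toScheme ⟶ X := l₁ ≫ U₁.ι with hs₁def
  set s₂ : V.toScheme ⟶ X := l₂ ≫ U₂.ι with hs₂def
  have hs₁ : s₁ ≫ g = V.ι := by rw [hs₁def, Category.assoc, hl₁]
  have hs₂ : s₂ ≫ g = V.ι := by rw [hs₂def, Category.assoc, hl₂]
  have hs₁U : ∀ v : V, s₁ v ∈ U₁ := fun v => (l₁ v).2
  have hgs₁ : ∀ v : V, g (s₁ v) = v.1 := by
    intro v
    rw [← Scheme.Hom.comp_apply, hs₁]; rfl
  have hgs₂ : ∀ v : V, g (s₂ v) = v.1 := by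
    intro v
    rw [← Scheme.Hom.comp_apply, hs₂]; rfl
  -- lifts to `g⁻¹V`
  have hr₁ : Set.range s₁ ⊆ Set.range (g ⁻¹ᵁ V).ι := by
    rw [Scheme.Opens.range_ι]
    rintro _ ⟨v, rfl⟩
    show g (s₁ v) ∈ V
    rw [hgs₁]; exact v.2
  have hr₂ : Set.range s₂ ⊆ Set.range (g ⁻¹ᵁ V).ι := by
    rw [Scheme.Opens.range_ι]
    rintro _ ⟨v, rfl⟩
    show g (s₂ v) ∈ V
    rw [hgs₂]; exact v.2
  let s₁' := IsOpenImmersion.lift (g ⁻¹ᵁ V).ι s₁ hr₁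
  let s₂' := IsOpenImmersion.lift (g ⁻¹ᵁ V).ι s₂ hr₂
  have hs₁' : s₁' ≫ (g ⁻¹ᵁ V).ι = s₁ := IsOpenImmersion.lift_fac _ _ _
  have hs₂' : s₂' ≫ (g ⁻¹ᵁ V).ι = s₂ := IsOpenImmersion.lift_fac _ _ _
  have hsec₁ : s₁' ≫ g ∣_ V = 𝟙 _ := by
    rw [← cancel_mono V.ι, Category.assoc, morphismRestrict_ι, ← Category.assoc, hs₁', hs₁,
      Category.id_comp]
  have hsec₂ : s₂' ≫ g ∣_ V = 𝟙 _ := by
    rw [← cancel_mono V.ι, Category.assoc, morphismRestrict_ι, ← Category.assoc, hs₂', hs₂,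
      Category.id_comp]
  haveI : IsClosedImmersion (s₂' ≫ g ∣_ V) := by rw [hsec₂]; infer_instance
  haveI : IsClosedImmersion s₂' := IsClosedImmersion.of_comp s₂' (g ∣_ V)
  have hclosed : IsClosed (s₁' ⁻¹' Set.range s₂') :=
    s₂'.isClosedEmbedding.isClosed_range.preimage s₁'.continuous
  -- V is preirreducible
  haveI : IsOpenImmersion (l₁ ≫ U₁.ι ≫ g) := by rw [hl₁]; infer_instance
  haveI : IsOpenImmersion l₁ := IsOpenImmersion.of_comp l₁ (U₁.ι ≫ g)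
  haveI : IsOpenImmersion s₁ := by rw [hs₁def]; infer_instance
  haveI : PreirreducibleSpace V := ⟨by
    have := (PreirreducibleSpace.isPreirreducible_univ (X := X)).preimage s₁.isOpenEmbedding
    simpa using this⟩
  have hne : (s₁ ⁻¹' (U₂ : Set X)).Nonempty := by
    have hne' : (((U₁ ⊓ g ⁻¹ᵁ V : X.Opens) : Set X) ∩ (U₂ : Set X)).Nonempty :=
      nonempty_preirreducible_inter (U₁ ⊓ g ⁻¹ᵁ V).2 U₂.2 ⟨x₁, hx₁, hyV⟩ ⟨x₂, hx₂⟩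
    obtain ⟨x', ⟨hx'1, hx'V⟩, hx'2⟩ := hne'
    refine ⟨⟨g x', hx'V⟩, ?_⟩
    show s₁ ⟨g x', hx'V⟩ ∈ U₂
    rw [key₁ x' hx'1 hx'V]; exact hx'2
  have hdense : Dense (s₁ ⁻¹' (U₂ : Set X)) :=
    (U₂.2.preimage s₁.continuous).dense hne
  have hagree : ∀ v : V, s₁ v ∈ U₂ → s₁ v = s₂ v := by
    intro v hv
    have hgv : g (s₁ v) ∈ V := by rw [hgs₁]; exact v.2
    have e2 := key₂ (s₁ v) hv hgv
    have : (⟨g (s₁ v), hgv⟩ : V) = v := Subtype.ext (hgs₁ v)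
    rw [this] at e2
    exact e2.symm
  have hsub : s₁ ⁻¹' (U₂ : Set X) ⊆ s₁' ⁻¹' Set.range s₂' := by
    intro v hv
    refine ⟨v, ?_⟩
    apply (g ⁻¹ᵁ V).ι.isOpenEmbedding.injective
    rw [← Scheme.Hom.comp_apply, ← Scheme.Hom.comp_apply, hs₁', hs₂']
    exact (hagree v hv).symm
  have huniv : s₁' ⁻¹' Set.range s₂' = Set.univ := by
    rw [← Set.univ_subset_iff, ← hdense.closure_eq, ← hclosed.closure_eq]
    exact closure_mono hsub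
  have hpt : ∀ v : V, s₁ v = s₂ v := by
    intro v
    have hv : v ∈ s₁' ⁻¹' Set.range s₂' := by rw [huniv]; trivial
    obtain ⟨v', hv'⟩ := hv
    have e1 : (s₁' ≫ g ∣_ V) v = v := by rw [hsec₁]; rfl
    have e2 : (s₂' ≫ g ∣_ V) v' = v' := by rw [hsec₂]; rfl
    have hvv' : v' = v := by
      rw [← e1, ← e2, Scheme.Hom.comp_apply, Scheme.Hom.comp_apply, hv']
    rw [hvv'] at hv'
    rw [← hs₁', ← hs₂', Scheme.Hom.comp_apply, Scheme.Hom.comp_apply, hv']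
  have e₁ := key₁ x₁ hx₁ hyV
  have e₂ := key₂ x₂ hx₂ hyV₂
  rw [← e₁, ← e₂]
  show s₁ _ = s₂ _
  rw [hpt]
  congr 1
  exact Subtype.ext h

end Groth.Agent.Helper14.CondX
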