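import Mathlib
import Groth.Prelude.Def_FEt
import Groth.Agent.Lib.Helper14.CondXB
import Groth.Agent.Lib.Helper14.CondXC
import Groth.Agent.Lib.Helper14.CondXD

/-!
# EGA IV 21.12.15
-/

set_option autoImplicit false

namespace Groth.Agent.Helper14.CondX
universe u
open AlgebraicGeometry CategoryTheory TopologicalSpace IsLocalRing Limits

section
variable {X Y : Scheme.{u}} (g : X ⟶ Y)

/-- F1 -/
theorem exists_isOpenImmersion_of_isLocalIso (x : X)
    (h : ∃ W : X.Opens, x ∈ W ∧ IsLocalIso (W.ι ≫ g)) :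
    ∃ W' : X.Opens, x ∈ W' ∧ IsOpenImmersion (W'.ι ≫ g) := by
  obtain ⟨W, hxW, hloc⟩ := h
  obtain ⟨U', hxU', hU'⟩ := hloc.exists_isOpenImmersion ⟨x, hxW⟩
  refine ⟨W.ι ''ᵁ U', ⟨⟨x, hxW⟩, hxU', rfl⟩, ?_⟩
  have h1 : (W.ι ''ᵁ U').ι = (W.ι.isoImage U').inv ≫ U'.ι ≫ W.ι := by
    rw [← Scheme.Hom.isoImage_hom_ι, Iso.inv_hom_id_assoc]
  rw [h1, Category.assoc, Category.assoc]
  infer_instance

/-- the open set of points near which `g` is a local isomorphism. -/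
def locIsoLocus : X.Opens :=
  ⟨{x | ∃ W : X.Opens, x ∈ W ∧ IsLocalIso (W.ι ≫ g)}, by
    rw [isOpen_iff_forall_mem_open]
    rintro x ⟨W, hxW, hloc⟩
    exact ⟨W, fun x' hx' => ⟨W, hx', hloc⟩, W.isOpen, hxW⟩⟩

theorem mem_locIsoLocus_iff (x : X) :
    x ∈ locIsoLocus g ↔ ∃ W : X.Opens, x ∈ W ∧ IsLocalIso (W.ι ≫ g) := Iff.rfl

/-- F3: a maximal point of the complement of the local-iso locus is maximal in its fibre. -/
theorem eq_of_specializes_of_map_eq [LocallyOfFiniteType g] (z : X)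
    (hmax : ∀ z' : X, (¬ ∃ W : X.Opens, z' ∈ W ∧ IsLocalIso (W.ι ≫ g)) → z' ⤳ z → z' = z)
    (z' : X) (hgz' : g z' = g z) (hz'z : z' ⤳ z) : z' = z := by
  by_contra hne
  have hV : ∃ W : X.Opens, z' ∈ W ∧ IsLocalIso (W.ι ≫ g) := by
    by_contra hcon
    exact hne (hmax z' hcon hz'z)
  obtain ⟨W', hz'W', hW'⟩ := exists_isOpenImmersion_of_isLocalIso g z' hV
  haveI : JacobsonSpace ↥(g ⁻¹' {g z}) :=
    JacobsonSpace.of_isClosedEmbedding (g.fiberHomeo (g z)).symm.isClosedEmbedding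
  let ζ' : ↥(g ⁻¹' {g z}) := ⟨z', hgz'⟩
  let ζ : ↥(g ⁻¹' {g z}) := ⟨z, rfl⟩
  have hopen : IsOpen ({ζ'} : Set ↥(g ⁻¹' {g z})) := by
    have h1 : IsOpen (Subtype.val ⁻¹' (W' : Set X) : Set ↥(g ⁻¹' {g z})) :=
      W'.isOpen.preimage continuous_subtype_val
    convert h1 using 1
    ext f
    constructor
    · intro hf
      rw [Set.mem_singleton_iff] at hf
      rw [hf]; exact hz'W'
    · intro hf
      rw [Set.mem_singleton_iff]
      have h2 : (W'.ι ≫ g) ⟨f.1, hf⟩ = (W'.ι ≫ g) ⟨z', hz'W'⟩ := by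
        show g f.1 = g z'
        rw [hgz']; exact f.2
      have h3 := (W'.ι ≫ g).isOpenEmbedding.injective h2
      have h4 : f.1 = z' := congrArg Subtype.val h3
      exact Subtype.ext h4
  have hclosed : IsClosed ({ζ'} : Set ↥(g ⁻¹' {g z})) :=
    isClosed_singleton_of_isLocallyClosed_singleton hopen.isLocallyClosed
  have hsp : ζ' ⤳ ζ := (subtype_specializes_iff _ _).mpr hz'z
  have hmem : ζ ∈ closure ({ζ'} : Set ↥(g ⁻¹' {g z})) := specializes_iff_mem_closure.mp hsp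
  rw [hclosed.closure_eq, Set.mem_singleton_iff] at hmem
  exact hne (congrArg Subtype.val hmem).symm

end

end Groth.Agent.Helper14.CondX
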