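import Mathlib
import Groth.Prelude.Def_FEt
import Groth.Agent.Lib.Helper14.CondXE

/-!
# EGA IV 21.12.15: assembly
-/

set_option autoImplicit false

namespace Groth.Agent.Helper14.CondX
universe u
open AlgebraicGeometry CategoryTheory TopologicalSpace IsLocalRing Limits

set_option backward.isDefEq.respectTransparency false in
theorem main {X Y : Scheme.{u}}
    [IsLocallyNoetherian X] [IsLocallyNoetherian Y] [IrreducibleSpace ↥X] (g : X ⟶ Y)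
    [LocallyOfFiniteType g]
    (hW : ∀ y : ↥Y, (∀ U : (Spec (Y.presheaf.stalk y)).Opens,
      ∀ hU : U ≤ FEt.puncturedSpec ↑(Y.presheaf.stalk y),
        (∀ T ∈ irreducibleComponents ↥(FEt.puncturedSpec ↑(Y.presheaf.stalk y)),
          ¬ Subtype.val '' T ⊆ (U : Set _)) →
        IsAffineHom ((Spec (Y.presheaf.stalk y)).homOfLE hU) → IsAffineOpen U))
    (z : ↥X) (hz : ¬ ∃ W : X.Opens, z ∈ W ∧ IsLocalIso (W.ι ≫ g))
    (hmax : ∀ z' : ↥X, (¬ ∃ W : X.Opens, z' ∈ W ∧ IsLocalIso (W.ι ≫ g)) → z' ⤳ z → z' = z) :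
    ringKrullDim ↑(X.presheaf.stalk z) ≤ 1 ∨
      ∃ O : X.Opens, z ∈ O ∧ ∀ z' : ↥X, z' ∈ O → g z' = g z → z' = z := by
  classical
  by_cases hdim : ringKrullDim ↑(X.presheaf.stalk z) ≤ 1
  · exact Or.inl hdim
  right
  -- F3
  have hF3 := eq_of_specializes_of_map_eq g z hmax
  -- F4
  obtain ⟨X₁, hzX₁, hX₁⟩ := exists_opens_forall_specializes
    ((locIsoLocus g : Set X)ᶜ) (locIsoLocus g).isOpen.isClosed_compl z
    (fun z' hz' hz'z => hmax z' hz' hz'z)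
  obtain ⟨X₀, hX₀, hzX₀, hX₀X₁⟩ : ∃ X₀ : X.Opens, IsAffineOpen X₀ ∧ z ∈ X₀ ∧ X₀ ≤ X₁ := by
    obtain ⟨_, ⟨X₀, hX₀ : IsAffineOpen X₀, rfl⟩, hzX₀, hX₀X₁⟩ :=
      X.isBasis_affineOpens.exists_subset_of_mem_open hzX₁ X₁.isOpen
    exact ⟨X₀, hX₀, hzX₀, hX₀X₁⟩
  haveI : IsAffine X₀.toScheme := hX₀
  haveI : IsNoetherianRing Γ(X, X₀) := IsLocallyNoetherian.component_noetherian ⟨X₀, hX₀⟩
  haveI : NoetherianSpace ↥(X₀.toScheme) := noetherianSpace_of_isAffineOpen X₀ hX₀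
  haveI : PreirreducibleSpace ↥(X₀.toScheme) := ⟨by
    have := (PreirreducibleSpace.isPreirreducible_univ (X := X)).preimage X₀.ι.isOpenEmbedding
    simpa using this⟩
  set g' : X₀.toScheme ⟶ Y := X₀.ι ≫ g with hg'
  let z₀ : X₀.toScheme := ⟨z, hzX₀⟩
  have hg'z₀ : g' z₀ = g z := rfl
  -- local iso locus in X₀
  let V₀ : X₀.toScheme.Opens := X₀.ι ⁻¹ᵁ (locIsoLocus g)
  have hloc : ∀ x' : X₀.toScheme, x' ∈ V₀ →
      ∃ U'' : X₀.toScheme.Opens, x' ∈ U'' ∧ IsOpenImmersion (U''.ι ≫ g') := by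
    intro x' hx'
    obtain ⟨W', hxW', hW'⟩ := exists_isOpenImmersion_of_isLocalIso g x'.1 hx'
    refine ⟨X₀.ι ⁻¹ᵁ W', hxW', ?_⟩
    have h1 : (X₀.ι ⁻¹ᵁ W').ι ≫ X₀.ι = X₀.ι ∣_ W' ≫ W'.ι := (morphismRestrict_ι X₀.ι W').symm
    have h2 : IsOpenImmersion (X₀.ι ∣_ W' ≫ W'.ι ≫ g) := inferInstance
    rw [hg', ← Category.assoc, h1, Category.assoc]
    exact h2
  haveI hV₀OI : IsOpenImmersion (V₀.ι ≫ g') := by
    apply isOpenImmersion_of_injective_of_isLocalIso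
    · intro v₁ v₂ h
      obtain ⟨U₁, hv₁, hU₁⟩ := hloc v₁.1 v₁.2
      obtain ⟨U₂, hv₂, hU₂⟩ := hloc v₂.1 v₂.2
      exact Subtype.ext (eq_of_map_eq_of_isSeparated g' U₁ U₂ hv₁ hv₂ hU₁ hU₂ h)
    · intro v
      obtain ⟨U'', hvU'', hU''⟩ := hloc v.1 v.2
      refine ⟨V₀.ι ⁻¹ᵁ U'', hvU'', ?_⟩
      have h1 : (V₀.ι ⁻¹ᵁ U'').ι ≫ V₀.ι = V₀.ι ∣_ U'' ≫ U''.ι :=
        (morphismRestrict_ι V₀.ι U'').symm
      have h2 : IsOpenImmersion (V₀.ι ∣_ U'' ≫ U''.ι ≫ g') := inferInstance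
      rw [← Category.assoc, h1, Category.assoc]
      exact h2
  have hV₀ : ∀ x' : X₀.toScheme, g' x' ⤳ g' z₀ → g' x' ≠ g' z₀ → x' ∈ V₀ := by
    intro x' h1 h2
    by_contra hcon
    have h3 : z ⤳ x'.1 := hX₁ x'.1 (hX₀X₁ x'.2) hcon
    have h4 : g z ⤳ g x'.1 := h3.map g.continuous
    exact h2 (h1.antisymm h4).eq
  have hmax' : ∀ x' : X₀.toScheme, g' x' = g' z₀ → x' ⤳ z₀ → x' = z₀ := by
    intro x' h1 h2
    exact Subtype.ext (hF3 x'.1 h1 ((subtype_specializes_iff _ _).mp h2))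
  have hdim' : ¬ ringKrullDim ↑(X₀.toScheme.presheaf.stalk z₀) ≤ 1 := by
    rw [ringKrullDim_eq_of_ringEquiv (X₀.stalkIso z₀).commRingCatIsoToRingEquiv]
    exact hdim
  have hcl := eq_of_specializes g' z₀ V₀ hV₀ (hW (g' z₀)) hmax' hdim'
  -- isolation in the fibre
  haveI : NoetherianSpace ↥(g' ⁻¹' {g' z₀}) := NoetherianSpace.set _
  haveI : QuasiSober ↥(g' ⁻¹' {g' z₀}) :=
    (g'.fiberHomeo (g' z₀)).symm.isOpenEmbedding.quasiSober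
  let τ : ↥(g' ⁻¹' {g' z₀}) := ⟨z₀, rfl⟩
  have hopen : IsOpen ({τ} : Set ↥(g' ⁻¹' {g' z₀})) := by
    apply isOpen_singleton_of_maximal_of_closed
    · intro t ht
      exact Subtype.ext (hmax' t.1 t.2 ((subtype_specializes_iff _ _).mp ht))
    · intro t ht
      exact Subtype.ext (hcl t.1 ((subtype_specializes_iff _ _).mp ht) t.2)
  obtain ⟨O', hO'open, hO'⟩ := isOpen_induced_iff.mp hopen
  refine ⟨⟨Subtype.val '' O', X₀.isOpen.isOpenMap_subtype_val O' hO'open⟩, ?_, ?_⟩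
  · refine ⟨z₀, ?_, rfl⟩
    have : τ ∈ Subtype.val ⁻¹' O' := by rw [hO']; rfl
    exact this
  · rintro _ ⟨x', hx'O', rfl⟩ hgx'
    have hmem : (⟨x', hgx'⟩ : ↥(g' ⁻¹' {g' z₀})) ∈ Subtype.val ⁻¹' O' := hx'O'
    rw [hO', Set.mem_singleton_iff] at hmem
    have := congrArg Subtype.val hmem
    exact congrArg Subtype.val this

end Groth.Agent.Helper14.CondX
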