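import Mathlib
import Groth.Agent.Lib.Helper14.SpecConn

/-!
# Connected components of `Spec R` via idempotents
-/

namespace Groth.Agent.Helper14.ConnComp

universe u

variable {R : Type u} [CommRing R]

/-- idempotents in `p`. -/
def E (p : PrimeSpectrum R) : Set R := {e | IsIdempotentElem e ∧ e ∈ p.asIdeal}

theorem exists_idem_of_mem_span (p : PrimeSpectrum R) (y : R) (hy : y ∈ Ideal.span (E p)) :
    ∃ e, IsIdempotentElem e ∧ e ∈ p.asIdeal ∧ y * e = y := by
  induction hy using Submodule.span_induction with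
  | mem x hx => exact ⟨x, hx.1, hx.2, hx.1⟩
  | zero => exact ⟨0, IsIdempotentElem.zero, zero_mem _, by simp⟩
  | add x y _ _ hx hy =>
    obtain ⟨e1, h1, h1p, h1x⟩ := hx
    obtain ⟨e2, h2, h2p, h2y⟩ := hy
    refine ⟨1 - (1 - e1) * (1 - e2), (h1.one_sub.mul h2.one_sub).one_sub, ?_, ?_⟩
    · have : 1 - (1 - e1) * (1 - e2) = e1 + e2 - e1 * e2 := by ring
      rw [this]
      exact sub_mem (add_mem h1p h2p) (Ideal.mul_mem_right _ _ h1p)
    · have hx0 : x * (1 - e1) = 0 := by rw [mul_sub, mul_one, h1x, sub_self]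
      have hy0 : y * (1 - e2) = 0 := by rw [mul_sub, mul_one, h2y, sub_self]
      linear_combination (-(1 - e2)) * hx0 + (-(1 - e1)) * hy0
  | smul a x _ hx =>
    obtain ⟨e, he, hep, hxe⟩ := hx
    exact ⟨e, he, hep, by rw [smul_eq_mul, mul_assoc, hxe]⟩

theorem idem_mem_or (p : PrimeSpectrum R) (e : R) (he : IsIdempotentElem e) :
    e ∈ E p ∨ 1 - e ∈ E p := by
  have h0 : e * (1 - e) ∈ p.asIdeal := by
    have : e * (1 - e) = 0 := by rw [mul_sub, mul_one, he.eq, sub_self]
    rw [this]
    exact zero_mem _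
  rcases p.isPrime.mem_or_mem h0 with h | h
  · exact Or.inl ⟨he, h⟩
  · exact Or.inr ⟨he.one_sub, h⟩

theorem span_E_le (p : PrimeSpectrum R) : Ideal.span (E p) ≤ p.asIdeal :=
  Ideal.span_le.mpr fun _ he => he.2

theorem idem_quotient_trivial (p : PrimeSpectrum R) (a' : R ⧸ Ideal.span (E p))
    (h : IsIdempotentElem a') : a' = 0 ∨ a' = 1 := by
  obtain ⟨a, rfl⟩ := Ideal.Quotient.mk_surjective a'
  have h1 : a * a - a ∈ Ideal.span (E p) := by
    rw [← Ideal.Quotient.eq_zero_iff_mem, map_sub, map_mul, h.eq, sub_self]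
  obtain ⟨e, he, hep, hye⟩ := exists_idem_of_mem_span p _ h1
  have hf : IsIdempotentElem (a * (1 - e)) := by
    have he' : e * e = e := he
    change a * (1 - e) * (a * (1 - e)) = a * (1 - e)
    linear_combination (-1 : R) * hye + (a * a) * he'
  have hae : a * e ∈ Ideal.span (E p) :=
    Ideal.mul_mem_left _ _ (Ideal.subset_span ⟨he, hep⟩)
  rcases idem_mem_or p _ hf with hm | hm
  · left
    rw [Ideal.Quotient.eq_zero_iff_mem]
    have : a = a * (1 - e) + a * e := by ring
    rw [this]
    exact add_mem (Ideal.subset_span hm) hae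
  · right
    rw [← sub_eq_zero, ← map_one (Ideal.Quotient.mk _), ← map_sub,
      Ideal.Quotient.eq_zero_iff_mem]
    have : a - 1 = - (1 - a * (1 - e)) + a * e := by ring
    rw [this]
    exact add_mem (neg_mem (Ideal.subset_span hm)) hae

theorem isPreconnected_zeroLocus (p : PrimeSpectrum R) :
    IsPreconnected (PrimeSpectrum.zeroLocus (E p)) := by
  have hnt : Nontrivial (R ⧸ Ideal.span (E p)) := by
    rw [Ideal.Quotient.nontrivial_iff]
    intro htop
    exact p.isPrime.ne_top (top_le_iff.mp (htop ▸ span_E_le p))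
  have hconn : ConnectedSpace (PrimeSpectrum (R ⧸ Ideal.span (E p))) :=
    connectedSpace_primeSpectrum_iff.mpr ⟨hnt, idem_quotient_trivial p⟩
  have hrange : Set.range (PrimeSpectrum.comap (Ideal.Quotient.mk (Ideal.span (E p)))) =
      PrimeSpectrum.zeroLocus (Ideal.span (E p) : Set R) := by
    rw [range_comap_of_surjective _ _ Ideal.Quotient.mk_surjective, Ideal.mk_ker]
  rw [← PrimeSpectrum.zeroLocus_span, ← hrange]
  exact isPreconnected_range (PrimeSpectrum.continuous_comap _)

theorem isClopen_zeroLocus_singleton (e : R) (he : IsIdempotentElem e) :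
    IsClopen (PrimeSpectrum.zeroLocus ({e} : Set R)) :=
  PrimeSpectrum.isClopen_iff_zeroLocus.mpr ⟨e, he, rfl⟩

theorem zeroLocus_eq_iInter (s : Set R) :
    PrimeSpectrum.zeroLocus s = ⋂ e ∈ s, PrimeSpectrum.zeroLocus ({e} : Set R) := by
  ext q
  simp [PrimeSpectrum.mem_zeroLocus, Set.subset_def]

theorem connectedComponent_eq (p : PrimeSpectrum R) :
    connectedComponent p = PrimeSpectrum.zeroLocus (E p) := by
  apply subset_antisymm
  · rw [zeroLocus_eq_iInter]
    refine Set.subset_iInter₂ fun e he => ?_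
    apply (isClopen_zeroLocus_singleton e he.1).connectedComponent_subset
    rw [PrimeSpectrum.mem_zeroLocus, Set.singleton_subset_iff]
    exact he.2
  · apply (isPreconnected_zeroLocus p).subset_connectedComponent
    rw [PrimeSpectrum.mem_zeroLocus]
    exact fun e he => he.2

/-- TFAE for "closed unions of connected components". -/
theorem tfae (T : Set (PrimeSpectrum R)) :
    [IsClosed T ∧ ∀ x ∈ T, connectedComponent x ⊆ T,
      ∃ U : Set (Set (PrimeSpectrum R)), (∀ u ∈ U, IsClopen u) ∧ T = ⋂₀ U,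
      ∃ E : Set R, (∀ e ∈ E, IsIdempotentElem e) ∧ T = PrimeSpectrum.zeroLocus E].TFAE := by
  tfae_have 3 → 2 := by
    rintro ⟨E', hE', rfl⟩
    refine ⟨(fun e => PrimeSpectrum.zeroLocus ({e} : Set R)) '' E', ?_, ?_⟩
    · rintro u ⟨e, he, rfl⟩
      exact isClopen_zeroLocus_singleton e (hE' e he)
    · rw [zeroLocus_eq_iInter, Set.sInter_image]
  tfae_have 2 → 1 := by
    rintro ⟨U, hU, rfl⟩
    refine ⟨isClosed_sInter fun u hu => (hU u hu).1, fun x hx => ?_⟩
    exact Set.subset_sInter fun u hu => (hU u hu).connectedComponent_subset (hx u hu)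
  tfae_have 1 → 3 := by
    rintro ⟨hT, hcc⟩
    refine ⟨{e | IsIdempotentElem e ∧ T ⊆ PrimeSpectrum.zeroLocus ({e} : Set R)},
      fun e he => he.1, ?_⟩
    apply subset_antisymm
    · intro t ht
      rw [PrimeSpectrum.mem_zeroLocus]
      intro e he
      have := he.2 ht
      rw [PrimeSpectrum.mem_zeroLocus, Set.singleton_subset_iff] at this
      exact this
    · intro q hq
      by_contra hqT
      -- for each t ∈ T choose an idempotent e_t ∈ t, e_t ∉ q
      have hsep : ∀ t ∈ T, ∃ e : R, IsIdempotentElem e ∧ e ∈ t.asIdeal ∧ e ∉ q.asIdeal := by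
        intro t ht
        have hqt : q ∉ connectedComponent t := fun h => hqT (hcc t ht h)
        rw [connectedComponent_eq, PrimeSpectrum.mem_zeroLocus, Set.not_subset] at hqt
        obtain ⟨e, he, heq⟩ := hqt
        exact ⟨e, he.1, he.2, heq⟩
      choose! ε hε using hsep
      have hcompact : IsCompact T := hT.isCompact
      have hcover : T ⊆ ⋃ t ∈ T, PrimeSpectrum.zeroLocus ({ε t} : Set R) := by
        intro t ht
        refine Set.mem_biUnion ht ?_
        rw [PrimeSpectrum.mem_zeroLocus, Set.singleton_subset_iff]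
        exact (hε t ht).2.1
      obtain ⟨F, hFT, hF⟩ := hcompact.elim_finite_subcover_image
        (b := T) (c := fun t => PrimeSpectrum.zeroLocus ({ε t} : Set R))
        (fun t ht => (isClopen_zeroLocus_singleton _ (hε t ht).1).2) hcover
      obtain ⟨hFfin⟩ : Nonempty (Fintype F) := hF.1.nonempty_fintype
      -- the product of the e_t
      let e : R := ∏ t ∈ hF.1.toFinset, ε t
      have he : IsIdempotentElem e := by
        change (∏ t ∈ hF.1.toFinset, ε t) * (∏ t ∈ hF.1.toFinset, ε t) = _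
        rw [← Finset.prod_mul_distrib]
        refine Finset.prod_congr rfl fun t ht => ?_
        exact (hε t (hFT (hF.1.mem_toFinset.mp ht))).1
      have heT : T ⊆ PrimeSpectrum.zeroLocus ({e} : Set R) := by
        intro t ht
        obtain ⟨s, hs, hts⟩ := Set.mem_iUnion₂.mp (hF.2 ht)
        rw [PrimeSpectrum.mem_zeroLocus, Set.singleton_subset_iff] at hts ⊢
        exact Ideal.prod_mem _ (hF.1.mem_toFinset.mpr hs) hts
      have hqe : e ∉ q.asIdeal := by
        intro hmem
        obtain ⟨t, ht, hmem'⟩ := (Ideal.IsPrime.prod_mem_iff (hp := q.isPrime)).mp hmem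
        exact (hε t (hFT (hF.1.mem_toFinset.mp ht))).2.2 hmem'
      rw [PrimeSpectrum.mem_zeroLocus] at hq
      exact hqe (hq ⟨he, heT⟩)
  tfae_finish

end Groth.Agent.Helper14.ConnComp
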