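import Mathlib
import Groth.Prelude.Def_EGA4Misc
import Groth.Agent.Lib.Helper4.Constr
import Groth.Agent.Lib.Helper16.Sch.FibMap1
import Groth.Agent.Lib.Helper16.Sch.GenND2
import Groth.Agent.Lib.Helper14.ConsMor

set_option autoImplicit false
universe u
open CategoryTheory CategoryTheory.Limits AlgebraicGeometry Topology TopologicalSpace

namespace Groth.Agent.Helper14.ConsFib

section top

variable {Y S : Type*} [TopologicalSpace Y] [TopologicalSpace S]

/-- Noetherian induction: if `E ⊆ Y` contains, with each point `z`, a neighbourhood of `z` in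
`closure {z}`, and contains the generic fibre of `g : Y → S`, then it contains the preimage of a
neighbourhood of the generic point. -/
theorem exists_open_preimage_subset [NoetherianSpace Y] [QuasiSober Y] [IrreducibleSpace S]
    [QuasiSober S] [T0Space S] (g : Y → S) (hg : Continuous g) (E : Set Y)
    (hE : ∀ z ∈ E, ∃ V : Set Y, IsOpen V ∧ z ∈ V ∧ V ∩ closure {z} ⊆ E)
    (hη : g ⁻¹' {genericPoint S} ⊆ E) :
    ∃ U : Set S, IsOpen U ∧ genericPoint S ∈ U ∧ g ⁻¹' U ⊆ E := by
  have key : ∀ Z : Set Y, IsClosed Z → (Z ∩ g ⁻¹' {genericPoint S} ⊆ E →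
      ∃ U : Set S, IsOpen U ∧ genericPoint S ∈ U ∧ Z ∩ g ⁻¹' U ⊆ E) := by
    refine Groth.Agent.Helper4.Constr.noeth_induction
      (fun Z => (Z ∩ g ⁻¹' {genericPoint S} ⊆ E →
        ∃ U : Set S, IsOpen U ∧ genericPoint S ∈ U ∧ Z ∩ g ⁻¹' U ⊆ E)) ?_ ?_
    · intro Z hZc hZi ih hZE
      obtain ⟨z, hz⟩ := QuasiSober.sober hZi hZc
      by_cases hgz : g z = genericPoint S
      · have hzE : z ∈ E := hZE ⟨hz.mem, hgz⟩
        obtain ⟨V, hVo, hzV, hVE⟩ := hE z hzE
        have hcl : closure {z} = Z := hz.def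
        obtain ⟨U, hUo, hηU, hUE⟩ := ih (Z \ V) (hZc.sdiff hVo)
          ⟨Set.diff_subset, fun h => (h hz.mem).2 hzV⟩ (fun y hy => hZE ⟨hy.1.1, hy.2⟩)
        refine ⟨U, hUo, hηU, ?_⟩
        rintro y ⟨hyZ, hyU⟩
        by_cases hyV : y ∈ V
        · exact hVE ⟨hyV, hcl ▸ hyZ⟩
        · exact hUE ⟨⟨hyZ, hyV⟩, hyU⟩
      · refine ⟨(closure {g z})ᶜ, isClosed_closure.isOpen_compl, ?_, ?_⟩
        · intro hmem
          have h1 : g z ⤳ genericPoint S := specializes_iff_mem_closure.mpr hmem
          have h2 : genericPoint S ⤳ g z := (genericPoint_spec S).specializes (Set.mem_univ _)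
          exact hgz (h1.antisymm h2).eq
        · rintro y ⟨hyZ, hyU⟩
          exfalso
          apply hyU
          have : z ⤳ y := hz.specializes hyZ
          exact (this.map hg).mem_closure
    · intro T hTf hTc hTQ hTE
      have hch : ∀ t ∈ T, ∃ U : Set S, IsOpen U ∧ genericPoint S ∈ U ∧ t ∩ g ⁻¹' U ⊆ E := by
        intro t ht
        apply hTQ t ht
        exact fun y hy => hTE ⟨Set.mem_sUnion.mpr ⟨t, ht, hy.1⟩, hy.2⟩
      choose! U hUo hηU hUE using hch
      refine ⟨⋂ t ∈ T, U t, hTf.isOpen_biInter hUo, Set.mem_iInter₂.mpr hηU, ?_⟩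
      rintro y ⟨hyT, hyU⟩
      obtain ⟨t, ht, hyt⟩ := Set.mem_sUnion.mp hyT
      exact hUE t ht ⟨hyt, Set.mem_iInter₂.mp hyU t ht⟩
  obtain ⟨U, hUo, hηU, hUE⟩ := key Set.univ isClosed_univ (by simpa using hη)
  exact ⟨U, hUo, hηU, by simpa using hUE⟩

end top

open ConsProp

variable {P : ∀ ⦃Y T : Scheme.{u}⦄, (Y ⟶ T) → Prop}

/-- The relation on a fibre of a base change agrees with the one on the original fibre. -/
theorem iff_of_isPullback (hP : IsFieldStable P) {X X' Y Y' : Scheme.{u}} {f : X ⟶ Y}
    {f' : X' ⟶ Y'} {eX : X' ⟶ X} {eY : Y' ⟶ Y} (sq : IsPullback eX f' f eY)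
    [LocallyOfFiniteType f] [QuasiCompact f] (y' : Y') :
    P (f.fiberToSpecResidueField (eY y')) ↔ P (f'.fiberToSpecResidueField y') := by
  haveI : LocallyOfFiniteType (f.fiberToSpecResidueField (eY y')) :=
    MorphismProperty.pullback_snd _ _ inferInstance
  haveI : QuasiCompact (f.fiberToSpecResidueField (eY y')) :=
    MorphismProperty.pullback_snd _ _ inferInstance
  exact hP _ _ _ _ (isPullback_fiberToSpecResidueField_of_isPullback sq y')

/-- "If `P` holds at the generic point then it holds on a neighbourhood of it." -/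
def GenOpen (P : ∀ ⦃Y T : Scheme.{u}⦄, (Y ⟶ T) → Prop) : Prop :=
  ∀ ⦃X S : Scheme.{u}⦄ (u : X ⟶ S) [IsIntegral S] [IsNoetherian S]
    [LocallyOfFiniteType u] [QuasiCompact u],
    genericPoint S ∈ locus P u → genericPoint S ∈ interior (locus P u)

theorem genericPoint_mem_of_isOpen {S : Type*} [TopologicalSpace S] [IrreducibleSpace S]
    [QuasiSober S] {U : Set S} (hU : IsOpen U) (hne : U.Nonempty) : genericPoint S ∈ U := by
  have := (genericPoint_spec S).mem_open_set_iff hU
  exact this.mpr (by simpa using hne)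

theorem genOpen_of_isIndCons (hP : IsIndCons P) : GenOpen P := by
  intro X S u _ _ _ _ hη
  exact genericPoint_mem_of_isOpen isOpen_interior (hP.2 u hη)

theorem genOpen_of_isCons (hP : IsCons P) : GenOpen P := by
  intro X S u _ _ _ _ hη
  rcases hP.2 u with h | h
  · exact genericPoint_mem_of_isOpen isOpen_interior h
  · exfalso
    have := genericPoint_mem_of_isOpen isOpen_interior h
    exact interior_subset this hη

/-- "If `P` fails at the generic point then it fails on a neighbourhood of it." -/
theorem compl_of_isCons (hP : IsCons P) {X S : Scheme.{u}} (u : X ⟶ S) [IsIntegral S]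
    [IsNoetherian S] [LocallyOfFiniteType u] [QuasiCompact u]
    (hη : genericPoint S ∉ locus P u) : genericPoint S ∈ interior (locus P u)ᶜ := by
  rcases hP.2 u with h | h
  · exfalso
    have := genericPoint_mem_of_isOpen isOpen_interior h
    exact hη (interior_subset this)
  · exact genericPoint_mem_of_isOpen isOpen_interior h

/-- The integral closed subscheme on the closure of a point of a Noetherian scheme. -/
theorem exists_integral_closure (Y : Scheme.{u}) [IsNoetherian Y] (z : Y) :
    ∃ (Z : Scheme.{u}) (i : Z ⟶ Y) (_ : IsClosedImmersion i) (_ : IsIntegral Z)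
      (_ : IsNoetherian Z), Set.range i = closure {z} ∧ i (genericPoint Z) = z := by
  obtain ⟨Z, i, hi, hred, hrange⟩ :=
    Groth.Agent.Helper16.GenND.exists_closedImmersion_isReduced_range_eq
      (closure ({z} : Set Y)) isClosed_closure
  have hirr : IsIrreducible (Set.range i) := by
    rw [hrange]; exact isIrreducible_singleton.closure
  haveI : IrreducibleSpace (Set.range i) := Subtype.irreducibleSpace hirr
  haveI : IrreducibleSpace Z := (i.isEmbedding.toHomeomorph).irreducibleSpace_iff.mpr inferInstance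
  haveI : IsIntegral Z := isIntegral_of_irreducibleSpace_of_isReduced Z
  haveI : IsNoetherian Z := ConsMor.isNoetherian_of_finiteType i
  refine ⟨Z, i, hi, inferInstance, inferInstance, hrange, ?_⟩
  obtain ⟨ζ, hζ⟩ : z ∈ Set.range i := by rw [hrange]; exact subset_closure rfl
  have hgen : IsGenericPoint ζ (Set.univ : Set Z) := by
    change closure {ζ} = Set.univ
    rw [i.isEmbedding.isInducing.closure_eq_preimage_closure_image, Set.image_singleton, hζ,
      ← hrange]
    exact Set.preimage_range i
  have : ζ = genericPoint Z := hgen.eq (genericPoint_spec Z)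
  rw [← this, hζ]

/-- Key local statement: if `P` holds for the fibre at `z`, it holds for the fibres over a
neighbourhood of `z` in `closure {z}`. -/
theorem exists_open_inter_closure_subset (hP : IsFieldStable P) (hP2 : GenOpen P)
    {X Y : Scheme.{u}} (f : X ⟶ Y) [IsNoetherian Y] [LocallyOfFiniteType f] [QuasiCompact f]
    (z : Y) (hz : z ∈ locus P f) :
    ∃ V : Set Y, IsOpen V ∧ z ∈ V ∧ V ∩ closure {z} ⊆ locus P f := by
  obtain ⟨Z, i, hi, hZint, hZnoeth, hrange, hgen⟩ := exists_integral_closure Y z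
  have sq : IsPullback (pullback.fst f i) (pullback.snd f i) f i := IsPullback.of_hasPullback f i
  have hloc : ∀ w : Z, w ∈ locus P (pullback.snd f i) ↔ i w ∈ locus P f :=
    fun w => (iff_of_isPullback hP sq w).symm
  have hη : genericPoint Z ∈ locus P (pullback.snd f i) := by
    rw [hloc, hgen]; exact hz
  have hW := hP2 (pullback.snd f i) hη
  obtain ⟨V, hVo, hVW⟩ := i.isEmbedding.isInducing.isOpen_iff.mp
    (isOpen_interior (s := locus P (pullback.snd f i)))
  refine ⟨V, hVo, ?_, ?_⟩
  · have : genericPoint Z ∈ i ⁻¹' V := by rw [hVW]; exact hW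
    rw [← hgen]; exact this
  · rintro y ⟨hyV, hycl⟩
    obtain ⟨w, rfl⟩ : y ∈ Set.range i := by rw [hrange]; exact hycl
    have hw : w ∈ i ⁻¹' V := hyV
    rw [hVW] at hw
    exact (hloc w).mp (interior_subset hw)

/-- Variant for the complement: if `P` fails at `z`, it fails on a neighbourhood of `z` in
`closure {z}`. -/
theorem exists_open_inter_closure_subset_compl (hP : IsCons P)
    {X Y : Scheme.{u}} (f : X ⟶ Y) [IsNoetherian Y] [LocallyOfFiniteType f] [QuasiCompact f]
    (z : Y) (hz : z ∉ locus P f) :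
    ∃ V : Set Y, IsOpen V ∧ z ∈ V ∧ V ∩ closure {z} ⊆ (locus P f)ᶜ := by
  obtain ⟨Z, i, hi, hZint, hZnoeth, hrange, hgen⟩ := exists_integral_closure Y z
  have sq : IsPullback (pullback.fst f i) (pullback.snd f i) f i := IsPullback.of_hasPullback f i
  have hloc : ∀ w : Z, w ∈ locus P (pullback.snd f i) ↔ i w ∈ locus P f :=
    fun w => (iff_of_isPullback hP.1 sq w).symm
  have hη : genericPoint Z ∉ locus P (pullback.snd f i) := by
    rw [hloc, hgen]; exact hz
  have hW := compl_of_isCons hP (pullback.snd f i) hη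
  obtain ⟨V, hVo, hVW⟩ := i.isEmbedding.isInducing.isOpen_iff.mp
    (isOpen_interior (s := (locus P (pullback.snd f i))ᶜ))
  refine ⟨V, hVo, ?_, ?_⟩
  · have : genericPoint Z ∈ i ⁻¹' V := by rw [hVW]; exact hW
    rw [← hgen]; exact this
  · rintro y ⟨hyV, hycl⟩
    obtain ⟨w, rfl⟩ : y ∈ Set.range i := by rw [hrange]; exact hycl
    have hw : w ∈ i ⁻¹' V := hyV
    rw [hVW] at hw
    exact fun h => (interior_subset hw) ((hloc w).mpr h)

/-- Description of the locus for the relation "`P` holds for all fibres". -/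
theorem mem_locusMor_iff (hP : IsFieldStable P) {X Y S : Scheme.{u}} (f : X ⟶ Y) (g : Y ⟶ S)
    [LocallyOfFiniteType f] [QuasiCompact f] (s : S) :
    s ∈ locusMor (fun X Y T f g => ∀ y : ↥Y, P (f.fiberToSpecResidueField y)) f g ↔
      ∀ y : Y, g y = s → y ∈ locus P f := by
  have sq := Groth.Agent.Helper16.FibMap.isPullback_fibMap f g s
  change (∀ y' : ↥(g.fiber s),
    P ((Groth.Agent.Helper16.FibMap.fibMap f g s).fiberToSpecResidueField y')) ↔ _
  constructor
  · intro h y hy
    obtain ⟨y', rfl⟩ : y ∈ Set.range (g.fiberι s) := by rw [g.range_fiberι]; exact hy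
    exact (iff_of_isPullback hP sq y').mpr (h y')
  · intro h y'
    apply (iff_of_isPullback hP sq y').mp
    apply h
    have : g.fiberι s y' ∈ g ⁻¹' {s} := by rw [← g.range_fiberι]; exact ⟨y', rfl⟩
    exact this

/-- Field stability of the relation "`P` holds for all fibres". -/
theorem isFieldStableMor_forall_fiber (hP : IsFieldStable P) :
    IsFieldStableMor (fun X Y T f g => ∀ y : ↥Y, P (f.fiberToSpecResidueField y)) := by
  intro X X' Y Y' T T' f g f' g' eX eY h _ _ _ _ _ _ _ _ hY hX
  haveI : IsNoetherian T := ConsMor.isNoetherian_of_subsingleton T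
  haveI : IsNoetherian Y := ConsMor.isNoetherian_of_finiteType g
  haveI : QuasiSeparated g := inferInstance
  haveI : LocallyOfFiniteType f := locallyOfFiniteType_of_comp f g
  haveI : QuasiCompact f := QuasiCompact.of_comp f g
  haveI : Nonempty T' := inferInstance
  haveI : Surjective eY := ConsMor.surjective_of_isPullback_subsingleton hY
  change (∀ y : Y, P (f.fiberToSpecResidueField y)) ↔
    (∀ y' : Y', P (f'.fiberToSpecResidueField y'))
  constructor
  · intro h y'
    exact (iff_of_isPullback hP hX y').mp (h _)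
  · intro h y
    obtain ⟨y', rfl⟩ := eY.surjective y
    exact (iff_of_isPullback hP hX y').mpr (h y')

/-- If `P` holds for all fibres over the generic point, it does over a neighbourhood. -/
theorem genericPoint_mem_interior_locusMor (hP : IsFieldStable P) (hP2 : GenOpen P)
    {X Y S : Scheme.{u}} (f : X ⟶ Y) (g : Y ⟶ S) [IsIntegral S] [IsNoetherian S]
    [LocallyOfFiniteType g] [QuasiCompact g] [LocallyOfFiniteType (f ≫ g)] [QuasiCompact (f ≫ g)]
    (hη : genericPoint S ∈
      locusMor (fun X Y T f g => ∀ y : ↥Y, P (f.fiberToSpecResidueField y)) f g) :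
    genericPoint S ∈ interior
      (locusMor (fun X Y T f g => ∀ y : ↥Y, P (f.fiberToSpecResidueField y)) f g) := by
  haveI : IsNoetherian Y := ConsMor.isNoetherian_of_finiteType g
  haveI : QuasiSeparated g := inferInstance
  haveI : LocallyOfFiniteType f := locallyOfFiniteType_of_comp f g
  haveI : QuasiCompact f := QuasiCompact.of_comp f g
  rw [mem_locusMor_iff hP] at hη
  obtain ⟨U, hUo, hηU, hUE⟩ := exists_open_preimage_subset g g.continuous (locus P f)
    (fun z hz => exists_open_inter_closure_subset hP hP2 f z hz) (fun y hy => hη y hy)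
  refine mem_interior.mpr ⟨U, ?_, hUo, hηU⟩
  intro s hs
  rw [mem_locusMor_iff hP]
  intro y hy
  exact hUE (by show g y ∈ U; rw [hy]; exact hs)

/-- If `P` fails for some fibre over the generic point, it does over a neighbourhood. -/
theorem genericPoint_mem_interior_locusMor_compl (hP : IsCons P)
    {X Y S : Scheme.{u}} (f : X ⟶ Y) (g : Y ⟶ S) [IsIntegral S] [IsNoetherian S]
    [LocallyOfFiniteType g] [QuasiCompact g] [LocallyOfFiniteType (f ≫ g)] [QuasiCompact (f ≫ g)]
    (hη : genericPoint S ∉
      locusMor (fun X Y T f g => ∀ y : ↥Y, P (f.fiberToSpecResidueField y)) f g) :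
    genericPoint S ∈ interior
      (locusMor (fun X Y T f g => ∀ y : ↥Y, P (f.fiberToSpecResidueField y)) f g)ᶜ := by
  haveI : IsNoetherian Y := ConsMor.isNoetherian_of_finiteType g
  haveI : QuasiSeparated g := inferInstance
  haveI : LocallyOfFiniteType f := locallyOfFiniteType_of_comp f g
  haveI : QuasiCompact f := QuasiCompact.of_comp f g
  rw [mem_locusMor_iff hP.1] at hη
  push_neg at hη
  obtain ⟨y₀, hy₀, hy₀E⟩ := hη
  obtain ⟨V, hVo, hy₀V, hVE⟩ := exists_open_inter_closure_subset_compl hP f y₀ hy₀E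
  have hc : IsConstructible (V ∩ closure {y₀}) :=
    (Groth.Agent.Helper4.Constr.isConstructible_of_isOpen hVo).inter
      (Groth.Agent.Helper4.Constr.isConstructible_of_isClosed isClosed_closure)
  have himg : IsConstructible (g '' (V ∩ closure {y₀})) := g.isConstructible_image hc
  have hmem : genericPoint S ∈ g '' (V ∩ closure {y₀}) :=
    ⟨y₀, ⟨hy₀V, subset_closure rfl⟩, hy₀⟩
  obtain ⟨U, hUo, hηU, hUE⟩ :=
    Groth.Agent.Helper16.FTDim.exists_open_of_mem_constructible _ himg hmem
  have hcl : closure ({genericPoint S} : Set S) = Set.univ := genericPoint_spec S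
  refine mem_interior.mpr ⟨U, ?_, hUo, hηU⟩
  intro s hs
  obtain ⟨y, hy, hys⟩ := hUE ⟨hs, by rw [hcl]; trivial⟩
  intro hmem
  rw [mem_locusMor_iff hP.1] at hmem
  exact hVE hy (hmem y hys)

end Groth.Agent.Helper14.ConsFib
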