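import Mathlib
import Groth.Agent.Lib.Helper14.FSSpread
import Groth.Agent.Lib.Helper14.SplitProj
import Groth.Agent.Lib.Helper14.ExtLoc

/-!
# Comparing `κ ⊗[B] -` of a conormal map with the local cotangent complex

For a surjection `B → C`, a localization `T` of `C` and modules `X` over `C` with localization
`X'`, we have `κ ⊗[B] X ≃ κ ⊗[T] X'` for every `T`-module `κ`.  We use this to show that formal
smoothness of a localization `C_p` is equivalent to injectivity of
`κ(p) ⊗[B] J/J² → κ(p) ⊗[B] (C ⊗[B] Ω[B⁄A])`.
-/

set_option autoImplicit false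
set_option linter.style.haveILetI false
set_option linter.unusedVariables false
universe u

namespace Groth.Agent.Helper14.CotBridge

open TensorProduct

theorem compatibleSMul_of_surjective {B C : Type*} [CommRing B] [CommRing C] [Algebra B C]
    (hsurj : Function.Surjective (algebraMap B C))
    (M N : Type*) [AddCommGroup M] [AddCommGroup N] [Module B M] [Module C M] [IsScalarTower B C M]
    [Module B N] [Module C N] [IsScalarTower B C N] :
    TensorProduct.CompatibleSMul B C M N where
  smul_tmul c m n := by
    obtain ⟨b, rfl⟩ := hsurj c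
    rw [algebraMap_smul, algebraMap_smul, TensorProduct.smul_tmul]

section
variable {B C T : Type*} [CommRing B] [CommRing C] [CommRing T] [Algebra B C] [Algebra C T]
  (S : Submonoid C) [IsLocalization S T]
  (hsurj : Function.Surjective (algebraMap B C))
  (κ : Type*) [AddCommGroup κ] [Module B κ] [Module C κ] [Module T κ] [IsScalarTower B C κ]
  [IsScalarTower C T κ]
  {X X' : Type*} [AddCommGroup X] [Module B X] [Module C X] [IsScalarTower B C X]
  [AddCommGroup X'] [Module C X'] [Module T X'] [IsScalarTower C T X']
  (φ : X →ₗ[C] X') [IsLocalizedModule S φ]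

include hsurj S in
theorem exists_bridge : ∃ β : κ ⊗[B] X ≃+ κ ⊗[T] X', ∀ c x, β (c ⊗ₜ x) = c ⊗ₜ φ x := by
  haveI := compatibleSMul_of_surjective hsurj κ X
  let e₁ : κ ⊗[B] X ≃ₗ[C] κ ⊗[C] X := (TensorProduct.equivOfCompatibleSMul B C C κ X).symm
  haveI : IsLocalizedModule S (LinearMap.id : κ →ₗ[C] κ) := isLocalizedModule_id S κ T
  haveI : IsLocalizedModule S (TensorProduct.map (LinearMap.id : κ →ₗ[C] κ) φ) := inferInstance
  haveI : IsLocalizedModule S (LinearMap.id : κ ⊗[C] X →ₗ[C] κ ⊗[C] X) :=
    isLocalizedModule_id S (κ ⊗[C] X) T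
  let e₂ : κ ⊗[C] X ≃ₗ[C] κ ⊗[C] X' :=
    IsLocalizedModule.linearEquiv S (LinearMap.id : κ ⊗[C] X →ₗ[C] κ ⊗[C] X)
      (TensorProduct.map (LinearMap.id : κ →ₗ[C] κ) φ)
  let e₃ : κ ⊗[C] X' ≃ₗ[T] κ ⊗[T] X' := (IsLocalization.moduleTensorEquiv S T κ X').symm
  refine ⟨e₁.toAddEquiv.trans (e₂.toAddEquiv.trans e₃.toAddEquiv), fun c x => ?_⟩
  change e₃ (e₂ (e₁ (c ⊗ₜ x))) = _
  have h1 : e₁ (c ⊗ₜ x) = c ⊗ₜ x := rfl
  have h2 : e₂ (c ⊗ₜ[C] x) = c ⊗ₜ φ x := by
    have := IsLocalizedModule.linearEquiv_apply S (LinearMap.id : κ ⊗[C] X →ₗ[C] κ ⊗[C] X)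
      (TensorProduct.map (LinearMap.id : κ →ₗ[C] κ) φ) (c ⊗ₜ x)
    simpa using this
  rw [h1, h2]
  change (IsLocalization.moduleTensorEquiv S T κ X').symm (c ⊗ₜ[C] φ x) = _
  rw [LinearEquiv.symm_apply_eq]
  rfl

variable {Y Y' : Type*} [AddCommGroup Y] [Module B Y] [Module C Y] [IsScalarTower B C Y]
  [AddCommGroup Y'] [Module C Y'] [Module T Y'] [IsScalarTower C T Y']
  (ψ : Y →ₗ[C] Y') [IsLocalizedModule S ψ]

include hsurj S in
theorem injective_lTensor_iff (l : X →ₗ[B] Y) (l' : X' →ₗ[T] Y')
    (hl : ∀ x, l' (φ x) = ψ (l x)) :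
    Function.Injective (l.lTensor κ) ↔ Function.Injective (l'.lTensor κ) := by
  obtain ⟨βX, hβX⟩ := exists_bridge (T := T) S hsurj κ φ
  obtain ⟨βY, hβY⟩ := exists_bridge (T := T) S hsurj κ ψ
  have hcomm : ∀ z, βY (l.lTensor κ z) = l'.lTensor κ (βX z) := by
    intro z
    induction z using TensorProduct.induction_on with
    | zero => simp
    | tmul c x => rw [LinearMap.lTensor_tmul, hβY, hβX, LinearMap.lTensor_tmul, hl]
    | add a b ha hb => rw [map_add, map_add, ha, hb, map_add, map_add]
  constructor
  · intro h a b hab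
    obtain ⟨a, rfl⟩ := βX.surjective a
    obtain ⟨b, rfl⟩ := βX.surjective b
    rw [← hcomm, ← hcomm] at hab
    rw [h (βY.injective hab)]
  · intro h a b hab
    have := congrArg βY hab
    rw [hcomm, hcomm] at this
    exact βX.injective (h this)

end

section ext

open Algebra Algebra.Extension IsLocalRing

variable {R S : Type u} [CommRing R] [CommRing S] [Algebra R S] (P : Extension.{u} R S)

/-- Local criterion: for `S` local and `P.Ring` Noetherian formally smooth, `S` is formally smooth
iff the cotangent complex is injective after tensoring with the residue field. -/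
theorem formallySmooth_iff_injective_lTensor [IsLocalRing S] [IsNoetherianRing P.Ring]
    [FormallySmooth R P.Ring] :
    FormallySmooth R S ↔ Function.Injective (P.cotangentComplex.lTensor (ResidueField S)) := by
  rw [P.formallySmooth_iff_split_injection]
  constructor
  · rintro ⟨l, hl⟩
    apply Function.LeftInverse.injective (g := l.lTensor (ResidueField S))
    intro x
    rw [← LinearMap.comp_apply, ← LinearMap.lTensor_comp, hl, LinearMap.lTensor_id]
    rfl
  · intro h
    haveI := FSSpread.finite_cotangent P
    haveI : Module.Projective P.Ring (Ω[P.Ring⁄R]) := inferInstance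
    haveI : Module.Projective S P.CotangentSpace := inferInstance
    exact SplitProj.split_injective_of_projective _ h

/-- Formal smoothness of the localization `S_p` is equivalent to injectivity of the cotangent
complex of `P` tensored (over `P.Ring`) with the residue field at `p`. -/
theorem formallySmooth_atPrime_iff_injective [IsNoetherianRing P.Ring] [FormallySmooth R P.Ring]
    (p : Ideal S) [p.IsPrime] :
    FormallySmooth R (Localization.AtPrime p) ↔
      Function.Injective
        ((P.cotangentComplex.restrictScalars P.Ring).lTensor p.ResidueField) := by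
  haveI := FSSpread.formallySmooth_locRing P p.primeCompl (Localization.AtPrime p)
  haveI : IsNoetherianRing (ExtLoc.Q P p.primeCompl (Localization.AtPrime p)).Ring :=
    (IsLocalization.isNoetherianRing (ExtLoc.M' P p.primeCompl)
      (Localization (ExtLoc.M' P p.primeCompl)) inferInstance :
      IsNoetherianRing (Localization (ExtLoc.M' P p.primeCompl)))
  rw [formallySmooth_iff_injective_lTensor (ExtLoc.Q P p.primeCompl (Localization.AtPrime p))]
  symm
  exact injective_lTensor_iff (T := Localization.AtPrime p) p.primeCompl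
    P.algebraMap_surjective (ResidueField (Localization.AtPrime p))
    (Cotangent.map (ExtLoc.f P p.primeCompl (Localization.AtPrime p)))
    (CotangentSpace.map (ExtLoc.f P p.primeCompl (Localization.AtPrime p)))
    (P.cotangentComplex.restrictScalars P.Ring)
    (ExtLoc.Q P p.primeCompl (Localization.AtPrime p)).cotangentComplex
    (fun x => (CotangentSpace.map_cotangentComplex
      (ExtLoc.f P p.primeCompl (Localization.AtPrime p)) x).symm)

end ext

end Groth.Agent.Helper14.CotBridge
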