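import Mathlib
import Groth.Prelude.Def_W4stkflatp2Cpct
import Groth.Agent.Lib.Helper14.LocCrit
import Groth.Agent.Lib.Helper28.AdmCalc

set_option autoImplicit false
set_option linter.style.haveILetI false
set_option linter.unusedSectionVars false
universe u
open CategoryTheory CategoryTheory.Limits AlgebraicGeometry TopologicalSpace

namespace Groth.Agent.Helper14.CpctLoc

open Cpct Groth.Agent.Helper28.AdmCalc

variable {S : Scheme.{u}}

/-- iso in `Cfy S` iff iso of open parts. -/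
lemma isIso_openFunctor_map_iff {A B : Pair S} (f : A ⟶ B) :
    IsIso ((openFunctor S).map f) ↔ IsIso (restr f) := by
  rw [← isIso_iff_of_reflects_iso _ (ObjectProperty.ι (IsCompactifyable S)),
    ← isIso_iff_of_reflects_iso _ (Over.forget S)]
  rfl

lemma isoOpen_eq : isoOpen S = LocCrit.WL (openFunctor S) := by
  ext A B f
  exact (isIso_openFunctor_map_iff f).symm

lemma openFunctor_map_eq_iff {A B : Pair S} (f₁ f₂ : A ⟶ B) :
    (openFunctor S).map f₁ = (openFunctor S).map f₂ ↔ restr f₁ = restr f₂ := by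
  constructor
  · intro h
    have h1 := congrArg (fun φ => ((ObjectProperty.ι (IsCompactifyable S)).map φ).left) h
    exact h1
  · intro h
    apply (ObjectProperty.ι (IsCompactifyable S)).map_injective
    apply Over.OverMorphism.ext
    exact h

/-- A closed immersion `σ` into an open part of a scheme-theoretic image... general lemma:
if `γ : X ⟶ P` is quasi-compact, `V` an open of `P` containing the range of `γ`, such that the
lift `γV : X ⟶ V` is a closed immersion, then the lift of `γ.toImage` to `imageι ⁻¹ V` is an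
isomorphism. -/
lemma isIso_lift_toImage {X P : Scheme.{u}} (γ : X ⟶ P) [QuasiCompact γ] (V : P.Opens)
    (γV : X ⟶ V) (hγV : γV ≫ V.ι = γ) [IsClosedImmersion γV]
    (σ : X ⟶ (γ.imageι ⁻¹ᵁ V : γ.image.Opens)) (hσ : σ ≫ (γ.imageι ⁻¹ᵁ V).ι = γ.toImage) :
    IsIso σ := by
  have hcomp : σ ≫ (γ.imageι ∣_ V) = γV := by
    rw [← cancel_mono V.ι, Category.assoc, morphismRestrict_ι, reassoc_of% hσ,
      Scheme.Hom.toImage_imageι, hγV]
  refine IsClosedImmersion.isIso_of_ker_eq γV (γ.imageι ∣_ V) σ hcomp ?_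
  have H1 : IsPullback γV (𝟙 X) V.ι γ := IsPullback.of_vert_isIso_mono ⟨by simp [hγV]⟩
  have H2 : IsPullback (γ.imageι ∣_ V) (γ.imageι ⁻¹ᵁ V).ι V.ι γ.imageι :=
    isPullback_morphismRestrict γ.imageι V
  ext W : 2
  rw [Scheme.ker_ideal_of_isPullback_of_isOpenImmersion γ γV (𝟙 X) V.ι H1 W,
    Scheme.ker_ideal_of_isPullback_of_isOpenImmersion γ.imageι (γ.imageι ∣_ V)
      (γ.imageι ⁻¹ᵁ V).ι V.ι H2 W]
  congr 2
  exact (Scheme.IdealSheafData.ker_subschemeι γ.ker).symm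


section QS

variable [CompactSpace S] [QuasiSeparatedSpace S]

lemma quasiSeparatedSpace_bar (A : Pair S) : QuasiSeparatedSpace A.bar.left := by
  haveI := A.isProper
  exact quasiSeparatedSpace_of_quasiSeparated A.bar.hom

lemma compactSpace_U (A : Pair S) : CompactSpace (A.U : Scheme.{u}) :=
  isCompact_iff_compactSpace.mp A.isCompact

lemma quasiCompact_ι (A : Pair S) : QuasiCompact A.U.ι := by
  haveI := quasiSeparatedSpace_bar A
  haveI := compactSpace_U A
  infer_instance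

/-- the closure pair. -/
noncomputable def closurePair (A : Pair S) : Pair S where
  bar := Over.mk (A.U.ι.imageι ≫ A.bar.hom)
  U := A.U.ι.imageι ⁻¹ᵁ A.U
  isProper := by
    haveI := A.isProper
    show IsProper (A.U.ι.imageι ≫ A.bar.hom)
    infer_instance
  isCompact := by
    haveI := compactSpace_U A
    haveI : IsIso (A.U.ι.imageι ∣_ A.U) := isIso_imageι_restrict A.U
    have h : CompactSpace ((A.U.ι.imageι ⁻¹ᵁ A.U : (A.U.ι.image).Opens) : Scheme.{u}) :=
      (asIso (A.U.ι.imageι ∣_ A.U)).hom.homeomorph.symm.compactSpace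
    exact isCompact_iff_compactSpace.mpr h

noncomputable def closureHom (A : Pair S) : closurePair A ⟶ A where
  bar := Over.homMk A.U.ι.imageι rfl
  le := fun _ hx => hx

lemma isIso_restr_closureHom (A : Pair S) : IsIso (restr (closureHom A)) := by
  have : restr (closureHom A) = A.U.ι.imageι ∣_ A.U := by
    rw [← cancel_mono A.U.ι]
    simp only [restr, closureHom, Scheme.Hom.resLE_comp_ι, Over.homMk_left]
    exact (morphismRestrict_ι _ _).symm
  rw [this]
  exact isIso_imageι_restrict A.U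

lemma heq (A B : Pair S) (f₁ f₂ : A ⟶ B) (h : restr f₁ = restr f₂) :
    closureHom A ≫ f₁ = closureHom A ≫ f₂ := by
  apply Pair.Hom.ext
  apply Over.OverMorphism.ext
  show A.U.ι.imageι ≫ f₁.bar.left = A.U.ι.imageι ≫ f₂.bar.left
  haveI := quasiCompact_ι A
  haveI := B.isProper
  refine ext_of_dominant_of_separated (A.U.ι.imageι ⁻¹ᵁ A.U).ι (ker_preimage_ι_eq_bot A.U)
    _ _ B.bar.hom ?_ ?_
  · rw [Category.assoc, Category.assoc, Over.w, Over.w]
  · have e1 : (A.U.ι.imageι ⁻¹ᵁ A.U).ι ≫ A.U.ι.imageι = (A.U.ι.imageι ∣_ A.U) ≫ A.U.ι :=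
      (morphismRestrict_ι _ _).symm
    have e2 : ∀ f : A ⟶ B, A.U.ι ≫ f.bar.left = restr f ≫ B.U.ι := by
      intro f
      simp [restr]
    rw [reassoc_of% e1, reassoc_of% e1, e2, e2, h]


lemma restr_ι {A B : Pair S} (f : A ⟶ B) : restr f ≫ B.U.ι = A.U.ι ≫ f.bar.left :=
  Scheme.Hom.resLE_comp_ι _ _

lemma fraction_aux {G A B : Pair S} (s : G ⟶ A) (f : G ⟶ B)
    (g₀ : (A.U : Scheme.{u}) ⟶ (B.U : Scheme.{u}))
    (σ : (A.U : Scheme.{u}) ⟶ (G.U : Scheme.{u})) [IsIso σ]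
    (h1 : σ ≫ G.U.ι ≫ s.bar.left = A.U.ι) (h2 : σ ≫ G.U.ι ≫ f.bar.left = g₀ ≫ B.U.ι) :
    IsIso (restr s) ∧ restr s ≫ g₀ = restr f := by
  have e1 : σ ≫ restr s = 𝟙 _ := by
    rw [← cancel_mono A.U.ι, Category.assoc, restr_ι, h1, Category.id_comp]
  have e2 : σ ≫ restr f = g₀ := by
    rw [← cancel_mono B.U.ι, Category.assoc, restr_ι, h2]
  have h : restr s = inv σ := by
    rw [← cancel_epi σ, e1, IsIso.hom_inv_id]
  refine ⟨by rw [h]; infer_instance, ?_⟩
  rw [← cancel_epi σ, reassoc_of% e1, e2]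

section Graph

variable (A B : Pair S) (g₀ : (A.U : Scheme.{u}) ⟶ (B.U : Scheme.{u}))
  (hg₀ : g₀ ≫ B.U.ι ≫ B.bar.hom = A.U.ι ≫ A.bar.hom)

/-- the product `Ā ×_S B̄`. -/
noncomputable abbrev prodS : Scheme.{u} := pullback A.bar.hom B.bar.hom

/-- the graph morphism `U_A ⟶ Ā ×_S B̄`. -/
noncomputable def graph : (A.U : Scheme.{u}) ⟶ prodS A B :=
  pullback.lift A.U.ι (g₀ ≫ B.U.ι) (by rw [Category.assoc, hg₀])

@[reassoc (attr := simp)]
lemma graph_fst : graph A B g₀ hg₀ ≫ pullback.fst _ _ = A.U.ι := pullback.lift_fst _ _ _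

@[reassoc (attr := simp)]
lemma graph_snd : graph A B g₀ hg₀ ≫ pullback.snd _ _ = g₀ ≫ B.U.ι := pullback.lift_snd _ _ _

instance : QuasiCompact (graph A B g₀ hg₀) := by
  haveI := compactSpace_U A
  haveI := A.isProper
  haveI := B.isProper
  haveI := quasiSeparatedSpace_bar A
  haveI : QuasiSeparatedSpace (prodS A B) :=
    quasiSeparatedSpace_of_quasiSeparated (pullback.fst A.bar.hom B.bar.hom)
  infer_instance

/-- the open `p₁⁻¹(U_A)` of the product. -/
noncomputable abbrev prodOpen : (prodS A B).Opens := pullback.fst A.bar.hom B.bar.hom ⁻¹ᵁ A.U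

lemma range_graph_subset : Set.range (graph A B g₀ hg₀) ⊆ Set.range (prodOpen A B).ι := by
  rw [Scheme.Opens.range_ι]
  rintro _ ⟨x, rfl⟩
  show pullback.fst A.bar.hom B.bar.hom (graph A B g₀ hg₀ x) ∈ A.U
  rw [← Scheme.Hom.comp_apply, graph_fst]
  exact x.2

noncomputable def graphV : (A.U : Scheme.{u}) ⟶ (prodOpen A B : Scheme.{u}) :=
  IsOpenImmersion.lift (prodOpen A B).ι (graph A B g₀ hg₀) (range_graph_subset A B g₀ hg₀)

@[reassoc (attr := simp)]
lemma graphV_ι : graphV A B g₀ hg₀ ≫ (prodOpen A B).ι = graph A B g₀ hg₀ :=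
  IsOpenImmersion.lift_fac _ _ _

instance : IsClosedImmersion (graphV A B g₀ hg₀) := by
  haveI := B.isProper
  have h1 : graphV A B g₀ hg₀ ≫ (pullback.fst A.bar.hom B.bar.hom ∣_ A.U) = 𝟙 _ := by
    rw [← cancel_mono A.U.ι, Category.assoc, morphismRestrict_ι]
    erw [graphV_ι_assoc]
    simp
  haveI : IsClosedImmersion (graphV A B g₀ hg₀ ≫ (pullback.fst A.bar.hom B.bar.hom ∣_ A.U)) := by
    rw [h1]; infer_instance
  exact IsClosedImmersion.of_comp _ (pullback.fst A.bar.hom B.bar.hom ∣_ A.U)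

/-- the lift of `toImage` to the open part. -/
noncomputable def sigma : (A.U : Scheme.{u}) ⟶
    (((graph A B g₀ hg₀).imageι ⁻¹ᵁ prodOpen A B : (graph A B g₀ hg₀).image.Opens) : Scheme.{u}) :=
  IsOpenImmersion.lift ((graph A B g₀ hg₀).imageι ⁻¹ᵁ prodOpen A B).ι (graph A B g₀ hg₀).toImage (by
    rw [Scheme.Opens.range_ι]
    rintro _ ⟨x, rfl⟩
    show ((graph A B g₀ hg₀).toImage ≫ (graph A B g₀ hg₀).imageι ≫
      pullback.fst A.bar.hom B.bar.hom) x ∈ A.U
    rw [Scheme.Hom.toImage_imageι_assoc, graph_fst]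
    exact x.2)

@[reassoc (attr := simp)]
lemma sigma_ι : sigma A B g₀ hg₀ ≫ ((graph A B g₀ hg₀).imageι ⁻¹ᵁ prodOpen A B).ι =
    (graph A B g₀ hg₀).toImage :=
  IsOpenImmersion.lift_fac _ _ _

instance isIso_sigma : IsIso (sigma A B g₀ hg₀) :=
  isIso_lift_toImage (graph A B g₀ hg₀) (prodOpen A B) (graphV A B g₀ hg₀) (graphV_ι A B g₀ hg₀)
    (sigma A B g₀ hg₀) (sigma_ι A B g₀ hg₀)

/-- the graph pair. -/
noncomputable def graphPair : Pair S where
  bar := Over.mk ((graph A B g₀ hg₀).imageι ≫ pullback.fst A.bar.hom B.bar.hom ≫ A.bar.hom)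
  U := (graph A B g₀ hg₀).imageι ⁻¹ᵁ prodOpen A B
  isProper := by
    haveI := A.isProper
    haveI := B.isProper
    show IsProper ((graph A B g₀ hg₀).imageι ≫ pullback.fst A.bar.hom B.bar.hom ≫ A.bar.hom)
    infer_instance
  isCompact := by
    haveI := compactSpace_U A
    have h : CompactSpace (((graph A B g₀ hg₀).imageι ⁻¹ᵁ prodOpen A B :
        (graph A B g₀ hg₀).image.Opens) : Scheme.{u}) :=
      (asIso (sigma A B g₀ hg₀)).hom.homeomorph.compactSpace
    exact isCompact_iff_compactSpace.mpr h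

noncomputable def graphS : graphPair A B g₀ hg₀ ⟶ A where
  bar := Over.homMk ((graph A B g₀ hg₀).imageι ≫ pullback.fst A.bar.hom B.bar.hom) (by
    simp [graphPair])
  le := fun _ hx => hx

noncomputable def graphF : graphPair A B g₀ hg₀ ⟶ B where
  bar := Over.homMk ((graph A B g₀ hg₀).imageι ≫ pullback.snd A.bar.hom B.bar.hom) (by
    simp [graphPair, pullback.condition])
  le := fun x hx => by
    obtain ⟨u, hu⟩ := (asIso (sigma A B g₀ hg₀)).hom.homeomorph.surjective ⟨x, hx⟩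
    have hx' : x = (sigma A B g₀ hg₀ ≫ ((graph A B g₀ hg₀).imageι ⁻¹ᵁ prodOpen A B).ι) u := by
      rw [Scheme.Hom.comp_apply]
      have : (sigma A B g₀ hg₀) u = ⟨x, hx⟩ := hu
      rw [this]
      rfl
    rw [sigma_ι] at hx'
    show ((graph A B g₀ hg₀).imageι ≫ pullback.snd A.bar.hom B.bar.hom) x ∈ B.U
    rw [hx', ← Scheme.Hom.comp_apply, Scheme.Hom.toImage_imageι_assoc, graph_snd,
      Scheme.Hom.comp_apply]
    exact (g₀ u).2

lemma sigma_graphS : sigma A B g₀ hg₀ ≫ (graphPair A B g₀ hg₀).U.ι ≫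
    (graphS A B g₀ hg₀).bar.left = A.U.ι := by
  show sigma A B g₀ hg₀ ≫ ((graph A B g₀ hg₀).imageι ⁻¹ᵁ prodOpen A B).ι ≫
    ((graph A B g₀ hg₀).imageι ≫ pullback.fst A.bar.hom B.bar.hom) = A.U.ι
  rw [sigma_ι_assoc, Scheme.Hom.toImage_imageι_assoc, graph_fst]

lemma sigma_graphF : sigma A B g₀ hg₀ ≫ (graphPair A B g₀ hg₀).U.ι ≫
    (graphF A B g₀ hg₀).bar.left = g₀ ≫ B.U.ι := by
  show sigma A B g₀ hg₀ ≫ ((graph A B g₀ hg₀).imageι ⁻¹ᵁ prodOpen A B).ι ≫
    ((graph A B g₀ hg₀).imageι ≫ pullback.snd A.bar.hom B.bar.hom) = g₀ ≫ B.U.ι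
  rw [sigma_ι_assoc, Scheme.Hom.toImage_imageι_assoc, graph_snd]

lemma graph_fraction : IsIso (restr (graphS A B g₀ hg₀)) ∧
    restr (graphS A B g₀ hg₀) ≫ g₀ = restr (graphF A B g₀ hg₀) :=
  @fraction_aux S _ _ _ _ _ (graphS A B g₀ hg₀) (graphF A B g₀ hg₀) g₀ (sigma A B g₀ hg₀)
    (isIso_sigma A B g₀ hg₀) (sigma_graphS A B g₀ hg₀) (sigma_graphF A B g₀ hg₀)

end Graph

theorem hfrac (A B : Pair S) (g : (openFunctor S).obj A ⟶ (openFunctor S).obj B) :
    ∃ (A' : Pair S) (s : A' ⟶ A) (f : A' ⟶ B),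
      IsIso ((openFunctor S).map s) ∧ (openFunctor S).map s ≫ g = (openFunctor S).map f := by
  let g' := (ObjectProperty.ι (IsCompactifyable S)).map g
  let g₀ : (A.U : Scheme.{u}) ⟶ (B.U : Scheme.{u}) := g'.left
  have hg₀ : g₀ ≫ B.U.ι ≫ B.bar.hom = A.U.ι ≫ A.bar.hom := Over.w g'
  obtain ⟨h1, h2⟩ := graph_fraction A B g₀ hg₀
  refine ⟨graphPair A B g₀ hg₀, graphS A B g₀ hg₀, graphF A B g₀ hg₀,
    (isIso_openFunctor_map_iff _).mpr h1, ?_⟩
  apply (ObjectProperty.ι (IsCompactifyable S)).map_injective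
  apply Over.OverMorphism.ext
  exact h2

theorem heq' (A B : Pair S) (f₁ f₂ : A ⟶ B)
    (h : (openFunctor S).map f₁ = (openFunctor S).map f₂) :
    ∃ (A' : Pair S) (t : A' ⟶ A), IsIso ((openFunctor S).map t) ∧ t ≫ f₁ = t ≫ f₂ :=
  ⟨closurePair A, closureHom A, (isIso_openFunctor_map_iff _).mpr (isIso_restr_closureHom A),
    heq A B f₁ f₂ ((openFunctor_map_eq_iff f₁ f₂).mp h)⟩

instance : (openFunctor S).EssSurj where
  mem_essImage X := by
    obtain ⟨A, ⟨e⟩⟩ := X.property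
    exact ⟨A, ⟨(ObjectProperty.ι (IsCompactifyable S)).preimageIso e⟩⟩

theorem hasRightCalculusOfFractions : (isoOpen S).HasRightCalculusOfFractions := by
  rw [isoOpen_eq]
  exact LocCrit.hasRightCalculusOfFractions (openFunctor S) hfrac heq'

theorem isLocalization : (openFunctor S).IsLocalization (isoOpen S) := by
  rw [isoOpen_eq]
  exact LocCrit.isLocalization (openFunctor S) hfrac heq'

end QS

end Groth.Agent.Helper14.CpctLoc
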