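import Mathlib
import Groth.Agent.Lib.Helper14.IdealMulE
import Groth.Agent.Lib.Helper13.AffSurj

set_option autoImplicit false
universe u
open CategoryTheory CategoryTheory.Limits AlgebraicGeometry Opposite TopologicalSpace

namespace Groth.Agent.Helper14.CxSec

open Groth.Agent.Helper13.KerSec Groth.Agent.Helper13.QCoh Groth.Agent.Helper14.IdealMul
open Groth.Agent.Helper13.QCohLocal

variable {X : Scheme.{u}}

/-- a morphism out of a quasi-coherent module factors through a monomorphism as soon as it does so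
on the sections over an affine cover. -/
lemma exists_lift_of_sections {F P P' : X.Modules} [P.IsQuasicoherent] (m : P ⟶ F)
    (m' : P' ⟶ F) [Mono m'] {ι : Type*} (W : ι → X.Opens) (hW : ∀ k, IsAffineOpen (W k))
    (hcov : ∀ x : X, ∃ k, x ∈ W k)
    (h : ∀ k (s : Γ(P, W k)), ∃ t : Γ(P', W k), m'.app (W k) t = m.app (W k) s) :
    ∃ l : P ⟶ P', l ≫ m' = m := by
  have h0 : m ≫ cokernel.π m' = 0 := by
    apply hom_eq_zero_of_affine_cover _ W hW hcov
    intro k s
    obtain ⟨t, ht⟩ := h k s
    change (cokernel.π m').app (W k) (m.app (W k) s) = 0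
    rw [← ht]
    exact congrArg (fun θ => θ.app (W k) t) (cokernel.condition m')
  exact ⟨Abelian.monoLift m' m h0, Abelian.monoLift_comp m' m h0⟩

/-- sections of a limit kernel fork. -/
lemma exists_section_of_isLimit_kernelFork {A B K : X.Modules} (f : A ⟶ B) (i : K ⟶ A)
    (w : i ≫ f = 0) (hl : IsLimit (KernelFork.ofι i w)) (V : X.Opens) (a : Γ(A, V))
    (ha : f.app V a = 0) : ∃ k : Γ(K, V), i.app V k = a := by
  obtain ⟨k, hk⟩ := exists_kernel_section f V a ha
  let e : kernel f ≅ K := IsLimit.conePointUniqueUpToIso (kernelIsKernel f) hl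
  have he : e.hom ≫ i = kernel.ι f :=
    IsLimit.conePointUniqueUpToIso_hom_comp (kernelIsKernel f) hl WalkingParallelPair.zero
  refine ⟨e.hom.app V k, ?_⟩
  rw [← hk, ← he]
  rfl

/-- exactness on affine sections at the middle of `A → B → Q → 0`. -/
lemma exists_section_of_isColimit_cokernelCofork {A B Q : X.Modules} [A.IsQuasicoherent]
    [B.IsQuasicoherent] (f : A ⟶ B) (π : B ⟶ Q) (w : f ≫ π = 0)
    (hc : IsColimit (CokernelCofork.ofπ π w)) {W : X.Opens} (hW : IsAffineOpen W)
    (b : Γ(B, W)) (hb : π.app W b = 0) : ∃ a : Γ(A, W), f.app W a = b := by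
  let e : cokernel f ≅ Q := IsColimit.coconePointUniqueUpToIso (cokernelIsCokernel f) hc
  have he : cokernel.π f ≫ e.hom = π :=
    IsColimit.comp_coconePointUniqueUpToIso_hom (cokernelIsCokernel f) hc WalkingParallelPair.one
  have hb' : (cokernel.π f).app W b = 0 := by
    have h1 : e.hom.app W ((cokernel.π f).app W b) = 0 := by
      rw [← hb, ← he]
      rfl
    have h2 : e.inv.app W (e.hom.app W ((cokernel.π f).app W b)) = (cokernel.π f).app W b := by
      change (e.hom ≫ e.inv).app W _ = _
      rw [Iso.hom_inv_id]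
      rfl
    rw [← h2, h1, map_zero]
  obtain ⟨k, hk⟩ := exists_kernel_section (cokernel.π f) W b hb'
  haveI : (cokernel f).IsQuasicoherent := isQuasicoherent_cokernel f
  haveI : (Abelian.image f).IsQuasicoherent := isQuasicoherent_kernel (cokernel.π f)
  obtain ⟨a, ha⟩ := Groth.Agent.Helper13.AffSurj.surjective_app_of_epi
    (Abelian.factorThruImage f) hW k
  refine ⟨a, ?_⟩
  rw [← hk, ← ha]
  change f.app W a = (Abelian.factorThruImage f ≫ Abelian.image.ι f).app W a
  rw [Abelian.image.fac]

section Cx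

variable (K : CochainComplex X.Modules ℤ) (hK : ∀ q, (K.X q).IsQuasicoherent) (p : ℤ)

include hK in
lemma isQuasicoherent_cycles : (K.cycles p).IsQuasicoherent := by
  haveI := hK p
  haveI := hK (p + 1)
  haveI : (kernel (K.d p (p + 1))).IsQuasicoherent := isQuasicoherent_kernel _
  let e : kernel (K.d p (p + 1)) ≅ K.cycles p :=
    IsLimit.conePointUniqueUpToIso (kernelIsKernel (K.d p (p + 1)))
      (K.cyclesIsKernel p (p + 1) (CochainComplex.next ℤ p))
  exact isQuasicoherent_of_iso e

include hK in
lemma isQuasicoherent_homology : (K.homology p).IsQuasicoherent := by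
  haveI := hK (p - 1)
  haveI := isQuasicoherent_cycles K hK p
  haveI : (cokernel (K.toCycles (p - 1) p)).IsQuasicoherent := isQuasicoherent_cokernel _
  let e : cokernel (K.toCycles (p - 1) p) ≅ K.homology p :=
    IsColimit.coconePointUniqueUpToIso (cokernelIsCokernel (K.toCycles (p - 1) p))
      (K.homologyIsCokernel (p - 1) p (CochainComplex.prev ℤ p))
  exact isQuasicoherent_of_iso e

lemma exists_cycle (V : X.Opens) (z : Γ(K.X p, V)) (hz : (K.d p (p + 1)).app V z = 0) :
    ∃ c : Γ(K.cycles p, V), (K.iCycles p).app V c = z :=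
  exists_section_of_isLimit_kernelFork (K.d p (p + 1)) (K.iCycles p) (K.iCycles_d p (p + 1))
    (K.cyclesIsKernel p (p + 1) (CochainComplex.next ℤ p)) V z hz

lemma iCycles_app_injective (V : X.Opens) : Function.Injective ((K.iCycles p).app V) :=
  (mono_iff_app_injective (K.iCycles p)).1 inferInstance V

include hK in
lemma homologyπ_app_surjective {W : X.Opens} (hW : IsAffineOpen W) :
    Function.Surjective ((K.homologyπ p).app W) := by
  haveI := isQuasicoherent_cycles K hK p
  haveI := isQuasicoherent_homology K hK p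
  exact Groth.Agent.Helper13.AffSurj.surjective_app_of_epi (K.homologyπ p) hW

include hK in
lemma exists_boundary {W : X.Opens} (hW : IsAffineOpen W) (c : Γ(K.cycles p, W))
    (hc : (K.homologyπ p).app W c = 0) :
    ∃ b : Γ(K.X (p - 1), W), (K.toCycles (p - 1) p).app W b = c := by
  haveI := hK (p - 1)
  haveI := isQuasicoherent_cycles K hK p
  exact exists_section_of_isColimit_cokernelCofork (K.toCycles (p - 1) p) (K.homologyπ p)
    (K.toCycles_comp_homologyπ (p - 1) p)
    (K.homologyIsCokernel (p - 1) p (CochainComplex.prev ℤ p)) hW c hc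

lemma iCycles_toCycles_app (V : X.Opens) (b : Γ(K.X (p - 1), V)) :
    (K.iCycles p).app V ((K.toCycles (p - 1) p).app V b) = (K.d (p - 1) p).app V b :=
  congrArg (fun θ => θ.app V b) (K.toCycles_i (p - 1) p)

lemma d_iCycles_app (V : X.Opens) (c : Γ(K.cycles p, V)) :
    (K.d p (p + 1)).app V ((K.iCycles p).app V c) = 0 :=
  congrArg (fun θ => θ.app V c) (K.iCycles_d p (p + 1))

lemma homologyπ_toCycles_app (V : X.Opens) (b : Γ(K.X (p - 1), V)) :
    (K.homologyπ p).app V ((K.toCycles (p - 1) p).app V b) = 0 :=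
  congrArg (fun θ => θ.app V b) (K.toCycles_comp_homologyπ (p - 1) p)

end Cx

end Groth.Agent.Helper14.CxSec
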