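import Mathlib
import Groth.Prelude
import Groth.Agent.Lib.Helper14.MinPrimePts
import Groth.Agent.Lib.Helper14.LocalDimSch
import Groth.Agent.Lib.Helper5.PolyR1

set_option autoImplicit false
universe u
open CategoryTheory AlgebraicGeometry TopologicalSpace

namespace Groth.Agent.Helper14.DedFlat

variable {X : Scheme.{u}}

/-- closure of a maximal point is an irreducible component -/
theorem closure_mem_irreducibleComponents (ξ : X) (hξ : ∀ ξ' : X, ξ' ⤳ ξ → ξ' = ξ) :
    closure ({ξ} : Set X) ∈ irreducibleComponents (X : Type u) := by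
  refine ⟨isIrreducible_singleton.closure, fun Z' hZ' hle => ?_⟩
  have hcl : IsIrreducible (closure Z') := hZ'.closure
  obtain ⟨ζ, hζ⟩ := QuasiSober.sober hcl isClosed_closure
  have h1 : ξ ∈ closure Z' := subset_closure (hle (subset_closure rfl))
  have h2 : ζ ⤳ ξ := by
    rw [specializes_iff_mem_closure, hζ.def]; exact h1
  have h3 : ζ = ξ := hξ ζ h2
  intro z hz
  have : z ∈ closure Z' := subset_closure hz
  rw [← hζ.def, h3] at this
  exact this

/-- the generic point of an irreducible component is a maximal point -/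
theorem maximal_of_isGenericPoint (Z : Set X) (hZ : Z ∈ irreducibleComponents (X : Type u))
    (ζ : X) (hζ : IsGenericPoint ζ Z) (ξ' : X) (h : ξ' ⤳ ζ) : ξ' = ζ := by
  have h1 : Z ⊆ closure ({ξ'} : Set X) := by
    rw [← hζ.def]
    exact closure_minimal (Set.singleton_subset_iff.mpr (specializes_iff_mem_closure.mp h))
      isClosed_closure
  have h2 : closure ({ξ'} : Set X) ⊆ Z := hZ.2 isIrreducible_singleton.closure h1
  have h3 : ξ' ∈ Z := h2 (subset_closure rfl)
  have h4 : ζ ⤳ ξ' := by
    rw [specializes_iff_mem_closure, hζ.def]; exact h3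
  exact (h.antisymm h4).eq

/-- for an integral scheme, the kernel of `O_{Y,y} → κ(η)` is zero -/
theorem ker_specMap_genericPoint {Y : Scheme.{u}} [IsIntegral Y] (y : Y)
    (h : genericPoint Y ⤳ y) :
    RingHom.ker (Cyc.specMap y (genericPoint Y) h) = ⊥ := by
  have hbot : (⊥ : Ideal (Y.presheaf.stalk y)) ∈ minimalPrimes (Y.presheaf.stalk y) := by
    refine ⟨⟨Ideal.isPrime_bot, bot_le⟩, fun Q _ _ => bot_le⟩
  obtain ⟨ξ, hξ, hker, hmax⟩ := MinPrimePts.exists_maximal_of_mem_minimalPrimes y ⊥ hbot
  have h1 : genericPoint Y ⤳ ξ := (genericPoint_spec Y).specializes (Set.mem_univ _)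
  have h2 : genericPoint Y = ξ := hmax _ h1
  rw [MinPrimePts.ker_specMap_congr y (genericPoint Y) ξ h2 h hξ, hker]

end Groth.Agent.Helper14.DedFlat

namespace Groth.Agent.Helper14.DedFlat

/-- a regular local domain of dimension at most one is a principal ideal ring -/
theorem isPrincipalIdealRing_of_regular (R : Type u) [CommRing R] [IsDomain R]
    [IsRegularLocalRing R] (h : ringKrullDim R ≤ 1) : IsPrincipalIdealRing R := by
  by_cases h1 : ringKrullDim R = 1
  · haveI := Groth.Agent.Helper5.PolyHeight.isDiscreteValuationRing_of_isRegularLocalRing R h1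
    infer_instance
  · have h2 : ringKrullDim R < 1 := lt_of_le_of_ne h h1
    have h3 : ringKrullDim R ≤ 0 := by
      have hnn : (0 : WithBot ℕ∞) ≤ ringKrullDim R := ringKrullDim_nonneg_of_nontrivial
      obtain ⟨n, hn⟩ : ∃ n : ℕ∞, ringKrullDim R = (n : WithBot ℕ∞) := by
        cases hh : ringKrullDim R with
        | bot => rw [hh] at hnn; simp at hnn
        | coe n => exact ⟨n, rfl⟩
      rw [hn] at h2 ⊢
      have h2' : n < 1 := by exact_mod_cast h2
      have : n = 0 := by
        rwa [ENat.lt_one_iff_eq_zero] at h2'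
      rw [this]; rfl
    haveI : Ring.KrullDimLE 0 R := by
      rw [Ring.krullDimLE_iff]; exact_mod_cast h3
    exact (Ring.KrullDimLE.isField_of_isDomain (R := R)).isPrincipalIdealRing

/-- a ring map from a Bezout domain to a reduced ring sending nonzero elements outside every
minimal prime is flat -/
theorem flat_of_not_mem_minimalPrimes {R S : Type u} [CommRing R] [CommRing S] [IsDomain R]
    [IsBezout R] [IsReduced S] (φ : R →+* S)
    (h : ∀ r : R, r ≠ 0 → ∀ p ∈ minimalPrimes S, φ r ∉ p) : φ.Flat := by
  letI : Algebra R S := φ.toAlgebra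
  change Module.Flat R S
  rw [Module.Flat.flat_iff_torsion_eq_bot_of_isBezout, eq_bot_iff]
  intro m hm
  rw [Submodule.mem_torsion_iff] at hm
  obtain ⟨a, ha⟩ := hm
  have ha0 : (a : R) ≠ 0 := nonZeroDivisors.coe_ne_zero a
  have hmul : φ (a : R) * m = 0 := by
    have : (a : R) • m = 0 := ha
    rwa [Algebra.smul_def] at this
  have hmem : m ∈ sInf (minimalPrimes S) := by
    rw [Submodule.mem_sInf]
    intro p hp
    haveI := hp.1.1
    have : φ (a : R) * m ∈ p := by rw [hmul]; exact p.zero_mem
    exact (Ideal.IsPrime.mem_or_mem ‹_› this).resolve_left (h _ ha0 p hp)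
  have : sInf (minimalPrimes S) = (⊥ : Ideal S) := by
    rw [minimalPrimes, Ideal.sInf_minimalPrimes]
    exact nilradical_eq_zero S
  rw [this] at hmem
  exact hmem

end Groth.Agent.Helper14.DedFlat

namespace Groth.Agent.Helper14.DedFlat

theorem main {X Y : Scheme.{u}} [IsIntegral Y]
    [IsNoetherian Y] (hreg : ∀ y : Y, IsRegularLocalRing (Y.presheaf.stalk y))
    (hdim : topologicalKrullDim Y ≤ 1)
    (f : X ⟶ Y) [IsReduced X] :
    Flat f ↔ ∀ Z ∈ irreducibleComponents (X : Type u), Dense (f.base '' Z) := by
  constructor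
  · intro hf Z hZ
    have hZirr : IsIrreducible Z := hZ.1
    have hZcl : IsClosed Z := isClosed_of_mem_irreducibleComponents Z hZ
    obtain ⟨ζ, hζ⟩ := QuasiSober.sober hZirr hZcl
    have hgen : genericPoint Y ⤳ f.base ζ :=
      (genericPoint_spec Y).specializes (Set.mem_univ _)
    obtain ⟨ζ', hζ', hfζ'⟩ := (Flat.generalizingMap f) hgen
    have heq : ζ' = ζ := maximal_of_isGenericPoint Z hZ ζ hζ ζ' hζ'
    have hmem : genericPoint Y ∈ f.base '' Z := by
      refine ⟨ζ, ?_, ?_⟩
      · rw [← hζ.def]; exact subset_closure rfl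
      · rw [← heq]; exact hfζ'
    have : closure (f.base '' Z) = Set.univ := by
      apply Set.eq_univ_of_univ_subset
      rw [← (genericPoint_spec Y).def]
      exact closure_mono (Set.singleton_subset_iff.mpr hmem)
    exact dense_iff_closure_eq.mpr this
  · intro h
    rw [Flat.iff_flat_stalkMap]
    intro x
    haveI := hreg (f.base x)
    have hd : ringKrullDim (Y.presheaf.stalk (f.base x)) ≤ 1 := by
      refine le_trans ?_ hdim
      rw [LocalDimSch.dim_eq_iSup_stalk]
      exact le_iSup (fun w => ringKrullDim (Y.presheaf.stalk w)) (f.base x)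
    haveI := isPrincipalIdealRing_of_regular (Y.presheaf.stalk (f.base x)) hd
    refine flat_of_not_mem_minimalPrimes _ ?_
    intro r hr p hp hrp
    obtain ⟨ξ, hξ, hker, hmax⟩ := MinPrimePts.exists_maximal_of_mem_minimalPrimes x p hp
    have hcomp := closure_mem_irreducibleComponents ξ hmax
    have hdense := h _ hcomp
    have hsub : f.base '' closure ({ξ} : Set X) ⊆ closure {f.base ξ} := by
      refine (image_closure_subset_closure_image f.continuous).trans ?_
      rw [Set.image_singleton]
    have hgen : IsGenericPoint (f.base ξ) (Set.univ : Set Y) := by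
      rw [isGenericPoint_def]
      apply Set.eq_univ_of_univ_subset
      rw [← hdense.closure_eq]
      exact closure_minimal hsub isClosed_closure
    have hfξ : f.base ξ = genericPoint Y := hgen.eq (genericPoint_spec Y)
    have hcomap := MinPrimePts.comap_ker_specMap f x ξ hξ
    have hsp : genericPoint Y ⤳ f.base x := (genericPoint_spec Y).specializes (Set.mem_univ _)
    have hbot : RingHom.ker (Cyc.specMap (f.base x) (f.base ξ) (hξ.map f.continuous)) = ⊥ := by
      rw [MinPrimePts.ker_specMap_congr (f.base x) (f.base ξ) (genericPoint Y) hfξ _ hsp]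
      exact ker_specMap_genericPoint _ hsp
    have hmem : r ∈ (RingHom.ker (Cyc.specMap x ξ hξ)).comap (f.stalkMap x).hom := by
      rw [Ideal.mem_comap, hker]; exact hrp
    rw [hcomap, hbot] at hmem
    exact hr hmem

end Groth.Agent.Helper14.DedFlat
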