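import Mathlib
import Groth.Agent.Lib.Helper14.CondXC

/-!
# A topological criterion for quasi-finiteness at a point
-/

set_option autoImplicit false

namespace Groth.Agent.Helper14.QFCrit
universe u
open AlgebraicGeometry CategoryTheory TopologicalSpace

set_option backward.isDefEq.respectTransparency false in
/-- A morphism locally of finite type from a locally Noetherian scheme is quasi-finite at a point
which, in its fibre, has neither proper generizations nor proper specializations. -/
theorem quasiFiniteAt_of_forall_specializes {X S : Scheme.{u}} (f : X ⟶ S)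
    [LocallyOfFiniteType f] [IsLocallyNoetherian X] (x : X)
    (hmax : ∀ y : X, f y = f x → y ⤳ x → y = x)
    (hcl : ∀ y : X, f y = f x → x ⤳ y → y = x) : f.QuasiFiniteAt x := by
  obtain ⟨W, hW, hxW⟩ : ∃ W : X.Opens, IsAffineOpen W ∧ x ∈ W := by
    obtain ⟨_, ⟨W, hW : IsAffineOpen W, rfl⟩, hxW, -⟩ :=
      X.isBasis_affineOpens.exists_subset_of_mem_open (Set.mem_univ x) isOpen_univ
    exact ⟨W, hW, hxW⟩
  haveI : IsNoetherianRing Γ(X, W) := IsLocallyNoetherian.component_noetherian ⟨W, hW⟩
  haveI : NoetherianSpace ↥(W.toScheme) := noetherianSpace_of_isAffineOpen W hW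
  let w₀ : W.toScheme := ⟨x, hxW⟩
  have hw₀ : W.ι w₀ = x := rfl
  rw [← hw₀, ← Scheme.Hom.quasiFiniteAt_comp_iff_of_isOpenImmersion]
  set h' := W.ι ≫ f with hh'
  rw [Scheme.Hom.quasiFiniteAt_iff_isOpen_singleton_asFiber,
    ← (h'.fiberHomeo (h' w₀)).isOpen_image]
  simp only [Set.image_singleton, Scheme.Hom.asFiber, Homeomorph.apply_symm_apply]
  haveI : NoetherianSpace ↥(h' ⁻¹' {h' w₀}) := NoetherianSpace.set _
  haveI : QuasiSober ↥(h' ⁻¹' {h' w₀}) :=
    (h'.fiberHomeo (h' w₀)).symm.isOpenEmbedding.quasiSober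
  have hpt : ∀ t : ↥(h' ⁻¹' {h' w₀}), f t.1.1 = f x := fun t => t.2
  have hback : ∀ t : ↥(h' ⁻¹' {h' w₀}), t.1.1 = x → t = ⟨w₀, rfl⟩ := by
    intro t ht
    apply Subtype.ext
    apply Subtype.ext
    exact ht
  apply CondX.isOpen_singleton_of_maximal_of_closed
  · intro t ht
    apply hback
    have h1 : t.1.1 ⤳ x :=
      (subtype_specializes_iff _ _).mp ((subtype_specializes_iff _ _).mp ht)
    exact hmax _ (hpt t) h1
  · intro t ht
    apply hback
    have h1 : x ⤳ t.1.1 :=
      (subtype_specializes_iff _ _).mp ((subtype_specializes_iff _ _).mp ht)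
    exact hcl _ (hpt t) h1

end Groth.Agent.Helper14.QFCrit
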