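import Mathlib
import Groth.Agent.Lib.Helper14.PuncAffF

/-!
# In a Noetherian local ring, every open subset of the punctured spectrum contains, above any of
its points, a prime of coheight one.
-/

set_option autoImplicit false

namespace Groth.Agent.Helper14.QSect
universe u
open IsLocalRing

/-- a Noetherian local domain in which all nonzero primes contain a fixed nonzero element has no
prime strictly between `0` and the maximal ideal. -/
theorem eq_maximalIdeal_of_forall_mem {D : Type u} [CommRing D] [IsDomain D] [IsLocalRing D]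
    [IsNoetherianRing D] (h : D) (h0 : h ≠ 0)
    (hall : ∀ 𝔭 : Ideal D, 𝔭.IsPrime → 𝔭 ≠ ⊥ → h ∈ 𝔭)
    (r : Ideal D) [hr : r.IsPrime] (hr0 : r ≠ ⊥) : r = maximalIdeal D := by
  by_contra hrm
  have hhm : h ∈ maximalIdeal D := hall _ inferInstance (by
    intro hbot
    apply hr0
    rw [eq_bot_iff, ← hbot]
    exact IsLocalRing.le_maximalIdeal hr.ne_top)
  have hspan_le : Ideal.span {h} ≤ maximalIdeal D := by
    rw [Ideal.span_singleton_le_iff_mem]; exact hhm
  have hm : maximalIdeal D ∉ (Ideal.span {h}).minimalPrimes := by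
    intro hmin
    have hle : Ideal.span {h} ≤ r := by
      rw [Ideal.span_singleton_le_iff_mem]; exact hall r hr hr0
    have := hmin.2 ⟨hr, hle⟩ (IsLocalRing.le_maximalIdeal hr.ne_top)
    exact hrm (le_antisymm (IsLocalRing.le_maximalIdeal hr.ne_top) this)
  obtain ⟨t, htm, ht⟩ := PuncAff.exists_mem_maximalIdeal_forall_notMem_minimalPrimes
    (Ideal.span {h}) hm
  obtain ⟨𝔭₁, h𝔭₁, -⟩ := Ideal.exists_minimalPrimes_le hspan_le
  have ht0 : t ≠ 0 := by
    rintro rfl
    exact ht 𝔭₁ h𝔭₁ (Ideal.zero_mem _)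
  have hspant_le : Ideal.span {t} ≤ maximalIdeal D := by
    rw [Ideal.span_singleton_le_iff_mem]; exact htm
  obtain ⟨𝔭, h𝔭, -⟩ := Ideal.exists_minimalPrimes_le hspant_le
  haveI h𝔭prime : 𝔭.IsPrime := h𝔭.1.1
  have ht𝔭 : t ∈ 𝔭 := h𝔭.1.2 (Ideal.mem_span_singleton_self t)
  have hht : 𝔭.height ≤ 1 :=
    Ideal.height_le_one_of_isPrincipal_of_mem_minimalPrimes (Ideal.span {t}) 𝔭 h𝔭
  have h𝔭0 : 𝔭 ≠ ⊥ := by
    intro hbot
    rw [hbot, Ideal.mem_bot] at ht𝔭
    exact ht0 ht𝔭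
  have hh𝔭 : Ideal.span {h} ≤ 𝔭 := by
    rw [Ideal.span_singleton_le_iff_mem]; exact hall 𝔭 h𝔭prime h𝔭0
  obtain ⟨𝔭₀, h𝔭₀, h𝔭₀le⟩ := Ideal.exists_minimalPrimes_le hh𝔭
  haveI h𝔭₀prime : 𝔭₀.IsPrime := h𝔭₀.1.1
  rcases eq_or_lt_of_le h𝔭₀le with heq | hlt
  · exact ht 𝔭₀ h𝔭₀ (heq ▸ ht𝔭)
  · have h1 : 𝔭₀.height < 𝔭.height := Ideal.height_strict_mono_of_isPrime hlt
    have h2 : 𝔭₀.height = 0 := by
      have : 𝔭₀.height < 1 := lt_of_lt_of_le h1 hht
      exact Order.lt_one_iff.mp this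
    rw [Ideal.height_eq_zero_iff_eq_bot] at h2
    have : h ∈ 𝔭₀ := h𝔭₀.1.2 (Ideal.mem_span_singleton_self h)
    rw [h2, Ideal.mem_bot] at this
    exact h0 this

/-- In a Noetherian local ring, every open subset `O` of the spectrum not containing the closed
point contains, above any of its points, a prime directly below the maximal ideal. -/
theorem exists_prime_covBy_closedPoint {B : Type u} [CommRing B] [IsNoetherianRing B]
    [IsLocalRing B] (O : Set (PrimeSpectrum B)) (hO : IsOpen O) (p' : PrimeSpectrum B)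
    (hp' : p' ∈ O) (hm : closedPoint B ∉ O) :
    ∃ q : PrimeSpectrum B, q ∈ O ∧ p' ≤ q ∧ q ≠ closedPoint B ∧
      ∀ r : PrimeSpectrum B, q < r → r = closedPoint B := by
  classical
  obtain ⟨_, ⟨h, rfl⟩, hp'h, hhO⟩ :=
    PrimeSpectrum.isTopologicalBasis_basic_opens.exists_subset_of_mem_open hp' hO
  have hhm : h ∈ maximalIdeal B := by
    by_contra hcon
    exact hm (hhO hcon)
  let S : Set (PrimeSpectrum B) := {q | p' ≤ q ∧ h ∉ q.asIdeal}
  have hwf : WellFounded (InvImage (· > ·) (fun q : PrimeSpectrum B => q.asIdeal)) :=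
    InvImage.wf _ wellFounded_gt
  obtain ⟨q, ⟨hpq, hhq⟩, hqmax⟩ := hwf.has_min S ⟨p', le_rfl, hp'h⟩
  have hqm : q ≠ closedPoint B := by
    rintro rfl
    exact hhq hhm
  refine ⟨q, hhO hhq, hpq, hqm, ?_⟩
  intro r hqr
  by_contra hrm
  -- every prime strictly above `q` contains `h`
  have hall' : ∀ r' : PrimeSpectrum B, q < r' → h ∈ r'.asIdeal := by
    intro r' hqr'
    by_contra hcon
    exact hqmax r' ⟨hpq.trans hqr'.le, hcon⟩ hqr'
  haveI hqprime : q.asIdeal.IsPrime := q.isPrime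
  let D := B ⧸ q.asIdeal
  haveI : Nontrivial D := Ideal.Quotient.nontrivial_iff.mpr hqprime.ne_top
  haveI : IsLocalRing D :=
    IsLocalRing.of_surjective' (Ideal.Quotient.mk q.asIdeal) Ideal.Quotient.mk_surjective
  haveI : IsLocalHom (Ideal.Quotient.mk q.asIdeal) :=
    IsLocalHom.of_surjective (Ideal.Quotient.mk q.asIdeal) Ideal.Quotient.mk_surjective
  haveI : IsDomain D := Ideal.Quotient.isDomain q.asIdeal
  have hh0 : (Ideal.Quotient.mk q.asIdeal h : D) ≠ 0 := by
    rw [Ne, Ideal.Quotient.eq_zero_iff_mem]; exact hhq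
  have hall : ∀ 𝔭 : Ideal D, 𝔭.IsPrime → 𝔭 ≠ ⊥ → Ideal.Quotient.mk q.asIdeal h ∈ 𝔭 := by
    intro 𝔭 h𝔭 h𝔭0
    let r' : PrimeSpectrum B := ⟨𝔭.comap (Ideal.Quotient.mk q.asIdeal), inferInstance⟩
    have hle : q ≤ r' := by
      intro b hb
      show Ideal.Quotient.mk q.asIdeal b ∈ 𝔭
      rw [Ideal.Quotient.eq_zero_iff_mem.mpr hb]
      exact 𝔭.zero_mem
    have hne : q ≠ r' := by
      intro heq
      apply h𝔭0
      rw [eq_bot_iff]
      intro d hd
      obtain ⟨b, rfl⟩ := Ideal.Quotient.mk_surjective d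
      have : b ∈ r'.asIdeal := hd
      rw [← heq] at this
      rw [Ideal.mem_bot, Ideal.Quotient.eq_zero_iff_mem]
      exact this
    exact hall' r' (lt_of_le_of_ne hle hne)
  -- the image of `r`
  have hker : RingHom.ker (Ideal.Quotient.mk q.asIdeal) ≤ r.asIdeal := by
    rw [Ideal.mk_ker]; exact hqr.le
  let rb : Ideal D := r.asIdeal.map (Ideal.Quotient.mk q.asIdeal)
  haveI hrb : rb.IsPrime := Ideal.map_isPrime_of_surjective Ideal.Quotient.mk_surjective hker
  have hcomap : rb.comap (Ideal.Quotient.mk q.asIdeal) = r.asIdeal := by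
    rw [Ideal.comap_map_of_surjective _ Ideal.Quotient.mk_surjective, ← RingHom.ker_eq_comap_bot,
      sup_eq_left.mpr hker]
  have hrb0 : rb ≠ ⊥ := by
    intro hbot
    have h2 := (Ideal.map_eq_bot_iff_le_ker _).mp hbot
    rw [Ideal.mk_ker] at h2
    exact absurd hqr (not_lt_of_ge h2)
  have hrbm := eq_maximalIdeal_of_forall_mem (Ideal.Quotient.mk q.asIdeal h) hh0 hall rb hrb0
  apply hrm
  apply PrimeSpectrum.ext
  show r.asIdeal = maximalIdeal B
  rw [← hcomap, hrbm]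
  exact IsLocalRing.maximalIdeal_comap (Ideal.Quotient.mk q.asIdeal)

end Groth.Agent.Helper14.QSect
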