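import Mathlib
import Groth.Agent.Lib.Helper14.QFCrit
import Groth.Agent.Lib.Helper14.QSectA
import Groth.Agent.Lib.Helper14.CondWD

/-!
# Flat + locally of finite type over a Dedekind domain with quasi-finite generic fibre
-/

set_option autoImplicit false

namespace Groth.Agent.Helper14.DedekindQF
universe u
open AlgebraicGeometry CategoryTheory TopologicalSpace IsLocalRing

theorem flat_fromSpecStalk (X : Scheme.{u}) (x : X) : Flat (X.fromSpecStalk x) :=
  Flat.of_stalkMap _ (fun q => by
    haveI := PurUFD.isIso_stalkMap_fromSpecStalk X x q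
    exact RingHom.Flat.of_bijective (ConcreteCategory.bijective_of_isIso _))

/-- algebra core. -/
theorem eq_closedPoint_of_mem {B : Type u} [CommRing B] [IsNoetherianRing B] [IsLocalRing B]
    (t : B) (hreg : ∀ q₀ ∈ minimalPrimes B, t ∉ q₀)
    (H : ∀ q₁ q₂ : PrimeSpectrum B, q₁ < q₂ → t ∉ q₁.asIdeal → t ∈ q₂.asIdeal)
    (q : PrimeSpectrum B) (hq : t ∈ q.asIdeal) : q = closedPoint B := by
  obtain ⟨q₀, hq₀min, hq₀q⟩ := Ideal.exists_minimalPrimes_le (J := q.asIdeal) (I := ⊥) bot_le
  haveI hq₀prime : q₀.IsPrime := hq₀min.1.1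
  have htq₀ : t ∉ q₀ := hreg q₀ hq₀min
  let Q₀ : PrimeSpectrum B := ⟨q₀, hq₀prime⟩
  let D := B ⧸ q₀
  haveI : Nontrivial D := Ideal.Quotient.nontrivial_iff.mpr hq₀prime.ne_top
  haveI : IsLocalRing D :=
    IsLocalRing.of_surjective' (Ideal.Quotient.mk q₀) Ideal.Quotient.mk_surjective
  haveI : IsLocalHom (Ideal.Quotient.mk q₀) :=
    IsLocalHom.of_surjective (Ideal.Quotient.mk q₀) Ideal.Quotient.mk_surjective
  haveI : IsDomain D := Ideal.Quotient.isDomain q₀
  have hh0 : (Ideal.Quotient.mk q₀ t : D) ≠ 0 := by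
    rw [Ne, Ideal.Quotient.eq_zero_iff_mem]; exact htq₀
  have hall : ∀ 𝔭 : Ideal D, 𝔭.IsPrime → 𝔭 ≠ ⊥ → Ideal.Quotient.mk q₀ t ∈ 𝔭 := by
    intro 𝔭 h𝔭 h𝔭0
    let r' : PrimeSpectrum B := ⟨𝔭.comap (Ideal.Quotient.mk q₀), inferInstance⟩
    have hle : Q₀ ≤ r' := by
      intro b hb
      show Ideal.Quotient.mk q₀ b ∈ 𝔭
      rw [Ideal.Quotient.eq_zero_iff_mem.mpr hb]
      exact 𝔭.zero_mem
    have hne : Q₀ ≠ r' := by
      intro heq
      apply h𝔭0
      rw [eq_bot_iff]
      intro d hd
      obtain ⟨b, rfl⟩ := Ideal.Quotient.mk_surjective d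
      have : b ∈ r'.asIdeal := hd
      rw [← heq] at this
      rw [Ideal.mem_bot, Ideal.Quotient.eq_zero_iff_mem]
      exact this
    exact H Q₀ r' (lt_of_le_of_ne hle hne) htq₀
  have hker : RingHom.ker (Ideal.Quotient.mk q₀) ≤ q.asIdeal := by
    rw [Ideal.mk_ker]; exact hq₀q
  let qb : Ideal D := q.asIdeal.map (Ideal.Quotient.mk q₀)
  haveI hqb : qb.IsPrime := Ideal.map_isPrime_of_surjective Ideal.Quotient.mk_surjective hker
  have hcomap : qb.comap (Ideal.Quotient.mk q₀) = q.asIdeal := by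
    rw [Ideal.comap_map_of_surjective _ Ideal.Quotient.mk_surjective, ← RingHom.ker_eq_comap_bot,
      sup_eq_left.mpr hker]
  have hqb0 : qb ≠ ⊥ := by
    intro hbot
    have h2 := (Ideal.map_eq_bot_iff_le_ker _).mp hbot
    rw [Ideal.mk_ker] at h2
    exact htq₀ (h2 hq)
  have hqbm := QSect.eq_maximalIdeal_of_forall_mem (Ideal.Quotient.mk q₀ t) hh0 hall qb hqb0
  apply PrimeSpectrum.ext
  show q.asIdeal = maximalIdeal B
  rw [← hcomap, hqbm]
  exact IsLocalRing.maximalIdeal_comap (Ideal.Quotient.mk q₀)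

set_option backward.isDefEq.respectTransparency false in
theorem main (R : Type u) [CommRing R] [IsDedekindDomain R] {X : Scheme.{u}}
    (f : X ⟶ Spec (CommRingCat.of R)) [Flat f] [LocallyOfFiniteType f]
    (hgen : ∀ y₁ y₂ : X, (f y₁).asIdeal = ⊥ → (f y₂).asIdeal = ⊥ → y₁ ⤳ y₂ → y₁ = y₂) :
    LocallyQuasiFinite f := by
  haveI : IsLocallyNoetherian X := LocallyOfFiniteType.isLocallyNoetherian f
  have key : ∀ x y : X, f y = f x → y ⤳ x → y = x := by
    intro x y hfy hyx
    by_cases hp : (f x).asIdeal = ⊥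
    · exact hgen y x (hfy ▸ hp) hp hyx
    · obtain ⟨ρ, hρ⟩ := Spec.map_surjective (X.fromSpecStalk x ≫ f)
      haveI := flat_fromSpecStalk X x
      have hflat : Flat (Spec.map ρ) := by rw [hρ]; infer_instance
      rw [HasRingHomProperty.Spec_iff (P := @Flat)] at hflat
      have hpt : ∀ q : PrimeSpectrum (X.presheaf.stalk x),
          f (X.fromSpecStalk x q) = PrimeSpectrum.comap ρ.hom q := by
        intro q
        rw [← Scheme.Hom.comp_apply, ← hρ]
        rfl
      have hclosed : PrimeSpectrum.comap ρ.hom (closedPoint (X.presheaf.stalk x)) = f x := by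
        rw [← hpt, Scheme.fromSpecStalk_closedPoint]
      obtain ⟨π, hπp, hπ0⟩ := Submodule.exists_mem_ne_zero_of_ne_bot hp
      have hreg : ∀ q₀ ∈ minimalPrimes (X.presheaf.stalk x), ρ.hom π ∉ q₀ := by
        intro q₀ hq₀
        algebraize [ρ.hom]
        have h1 : IsSMulRegular (X.presheaf.stalk x) (algebraMap R (X.presheaf.stalk x) π) :=
          IsSMulRegular.of_flat (IsRegular.of_ne_zero hπ0).left.isSMulRegular
        have h2 : algebraMap R (X.presheaf.stalk x) π ∈ nonZeroDivisors (X.presheaf.stalk x) := by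
          rw [mem_nonZeroDivisors_iff_right]
          intro b hb
          apply h1
          show algebraMap R (X.presheaf.stalk x) π • b = algebraMap R (X.presheaf.stalk x) π • 0
          rw [smul_eq_mul, smul_eq_mul, mul_zero, mul_comm]
          exact hb
        exact fun hmem =>
          Set.disjoint_left.mp (Ideal.disjoint_nonZeroDivisors_of_mem_minimalPrimes hq₀) hmem h2
      have hbot : ∀ q : PrimeSpectrum (X.presheaf.stalk x), ρ.hom π ∉ q.asIdeal →
          (PrimeSpectrum.comap ρ.hom q).asIdeal = ⊥ := by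
        intro q hq
        by_contra hne
        have hmaxi : (PrimeSpectrum.comap ρ.hom q).asIdeal.IsMaximal :=
          Ideal.IsPrime.isMaximal (PrimeSpectrum.comap ρ.hom q).isPrime hne
        have hle : (PrimeSpectrum.comap ρ.hom q).asIdeal ≤ (f x).asIdeal := by
          rw [← hclosed]
          exact Ideal.comap_mono (IsLocalRing.le_maximalIdeal q.isPrime.ne_top)
        have heq := hmaxi.eq_of_le (f x).isPrime.ne_top hle
        apply hq
        have : π ∈ (PrimeSpectrum.comap ρ.hom q).asIdeal := heq ▸ hπp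
        exact this
      have H : ∀ q₁ q₂ : PrimeSpectrum (X.presheaf.stalk x), q₁ < q₂ →
          ρ.hom π ∉ q₁.asIdeal → ρ.hom π ∈ q₂.asIdeal := by
        intro q₁ q₂ h12 h1
        by_contra h2
        have e1 := hbot q₁ h1
        have e2 := hbot q₂ h2
        rw [← hpt] at e1 e2
        have hsp : X.fromSpecStalk x q₁ ⤳ X.fromSpecStalk x q₂ :=
          (CondW.fromSpecStalk_specializes_iff x q₁ q₂).mpr h12.le
        have := hgen _ _ e1 e2 hsp
        exact h12.ne ((X.fromSpecStalk x).isEmbedding.injective this)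
      obtain ⟨q, rfl⟩ := CondW.exists_fromSpecStalk_eq hyx
      have hq : ρ.hom π ∈ q.asIdeal := by
        have : π ∈ (PrimeSpectrum.comap ρ.hom q).asIdeal := by
          rw [← hpt, hfy]; exact hπp
        exact this
      rw [eq_closedPoint_of_mem (ρ.hom π) hreg H q hq, Scheme.fromSpecStalk_closedPoint]
  rw [← Scheme.Hom.quasiFiniteLocus_eq_top_iff, ← top_le_iff]
  intro x _
  exact QFCrit.quasiFiniteAt_of_forall_specializes f x (key x)
    (fun y hy hxy => (key y x hy.symm hxy).symm)

end Groth.Agent.Helper14.DedekindQF
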