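import Mathlib
import Groth.Agent.Lib.Helper14.CxSec

set_option autoImplicit false
universe u
open CategoryTheory CategoryTheory.Limits AlgebraicGeometry Opposite TopologicalSpace

namespace Groth.Agent.Helper14.DelAR

open Groth.Agent.Helper13.KerSec Groth.Agent.Helper13.QCoh Groth.Agent.Helper14.IdealMul
open Groth.Agent.Helper13.QCohLocal Groth.Agent.Helper14.CxSec Groth.Agent.Helper14.CohFormal

variable {X : Scheme.{u}}

section Gen

variable (J : X.IdealSheafData)

lemma idealMul_map_app {A B : X.Modules} (g : A ⟶ B) (V : X.Opens)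
    (x : Γ((Dual3.idealMul J).obj A, V)) :
    (Dual3.idealMulι J B).app V (((Dual3.idealMul J).map g).app V x) =
      g.app V ((Dual3.idealMulι J A).app V x) :=
  congrArg (fun θ => θ.app V x) (Dual3.idealMul_map_ι J g)

/-- `J·(-)` preserves surjectivity on affine sections. -/
lemma idealMul_map_app_surjective {A B : X.Modules} [A.IsQuasicoherent] [B.IsQuasicoherent]
    (g : A ⟶ B) [Epi g] (W : X.affineOpens) :
    Function.Surjective (((Dual3.idealMul J).map g).app W.1) := by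
  intro y
  have hy := idealMulι_app_mem J B W y
  have key : ∀ y' ∈ J.ideal W • (⊤ : Submodule Γ(X, W.1) Γ(B, W.1)),
      ∃ x' ∈ J.ideal W • (⊤ : Submodule Γ(X, W.1) Γ(A, W.1)), g.app W.1 x' = y' := by
    intro y' hy'
    refine Submodule.smul_induction_on hy' (fun a ha b _ => ?_) (fun y₁ y₂ h₁ h₂ => ?_)
    · obtain ⟨c, hc⟩ := Groth.Agent.Helper13.AffSurj.surjective_app_of_epi g W.2 b
      exact ⟨a • c, Submodule.smul_mem_smul ha trivial, by
        rw [Scheme.Modules.Hom.app_smul, hc]⟩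
    · obtain ⟨x₁, hx₁, e₁⟩ := h₁
      obtain ⟨x₂, hx₂, e₂⟩ := h₂
      exact ⟨x₁ + x₂, add_mem hx₁ hx₂, by rw [map_add, e₁, e₂]⟩
  obtain ⟨x', hx', e⟩ := key _ hy
  obtain ⟨x, hx⟩ := exists_idealMul_section J A W x' hx'
  refine ⟨x, ?_⟩
  apply idealMulι_app_injective J B W.1
  rw [idealMul_map_app, hx, e]

instance epi_idealMul_map {A B : X.Modules} [A.IsQuasicoherent] [B.IsQuasicoherent]
    (g : A ⟶ B) [Epi g] : Epi ((Dual3.idealMul J).map g) := by
  apply Preadditive.epi_of_cokernel_zero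
  apply hom_eq_zero_of_affine_cover _ (fun W : X.affineOpens => W.1) (fun W => W.2)
  · intro x
    obtain ⟨W, hW, hxW, -⟩ := X.isBasis_affineOpens.exists_subset_of_mem_open
      (Set.mem_univ x) isOpen_univ
    obtain ⟨W', hW', rfl⟩ := hW
    exact ⟨⟨W', hW'⟩, hxW⟩
  · intro W y
    obtain ⟨x, rfl⟩ := idealMul_map_app_surjective J g W y
    exact congrArg (fun θ => θ.app W.1 x) (cokernel.condition ((Dual3.idealMul J).map g))

end Gen

section Incl

variable (I : X.IdealSheafData)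

lemma exists_inclPow (M : X.Modules) [M.IsQuasicoherent] {m n : ℕ} (h : m ≤ n) :
    ∃ l : (Dual3.idealMul (I ^ n)).obj M ⟶ (Dual3.idealMul (I ^ m)).obj M,
      l ≫ Dual3.idealMulι (I ^ m) M = Dual3.idealMulι (I ^ n) M := by
  apply exists_lift_of_sections _ _ (fun W : X.affineOpens => W.1) (fun W => W.2)
  · intro x
    obtain ⟨W, hW, hxW, -⟩ := X.isBasis_affineOpens.exists_subset_of_mem_open
      (Set.mem_univ x) isOpen_univ
    obtain ⟨W', hW', rfl⟩ := hW
    exact ⟨⟨W', hW'⟩, hxW⟩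
  · intro W s
    have h1 := idealMulι_app_mem (I ^ n) M W s
    apply exists_idealMul_section (I ^ m) M W
    rw [Scheme.IdealSheafData.ideal_pow] at h1 ⊢
    exact Submodule.smul_mono_left (Ideal.pow_le_pow_right h) h1

/-- the inclusion `I^n M → I^m M` for `m ≤ n`. -/
noncomputable def inclPow (M : X.Modules) [M.IsQuasicoherent] {m n : ℕ} (h : m ≤ n) :
    (Dual3.idealMul (I ^ n)).obj M ⟶ (Dual3.idealMul (I ^ m)).obj M :=
  (exists_inclPow I M h).choose

@[reassoc (attr := simp)]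
lemma inclPow_ι (M : X.Modules) [M.IsQuasicoherent] {m n : ℕ} (h : m ≤ n) :
    inclPow I M h ≫ Dual3.idealMulι (I ^ m) M = Dual3.idealMulι (I ^ n) M :=
  (exists_inclPow I M h).choose_spec

end Incl

section Alg

lemma exists_pow_smul_top_inf_le {A M : Type*} [CommRing A] [IsNoetherianRing A]
    [AddCommGroup M] [Module A M] [Module.Finite A M] (J : Ideal A) (N : Submodule A M) :
    ∃ k : ℕ, ∀ c ≥ k, ∀ n ≥ c, J ^ n • (⊤ : Submodule A M) ⊓ N ≤ J ^ (n - c) • N := by
  obtain ⟨k, hk⟩ := Ideal.exists_pow_inf_eq_pow_smul J N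
  refine ⟨k, fun c hc n hn => ?_⟩
  rw [hk n (hc.trans hn)]
  refine (Submodule.smul_mono le_rfl inf_le_right).trans ?_
  exact Submodule.smul_mono_left (Ideal.pow_le_pow_right (by omega))

end Alg

section Main

variable (I : X.IdealSheafData) (F : CochainComplex X.Modules ℤ)
  (hFc : ∀ q : ℤ, Coh.IsCoh (F.X q)) (p : ℤ)

/-- cycles of `F^p` over `W`. -/
noncomputable abbrev Zs (W : X.Opens) : Submodule Γ(X, W) Γ(F.X p, W) :=
  LinearMap.ker (appLin (F.d p (p + 1)) W)

/-- boundaries of `F^p` over `W`. -/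
noncomputable abbrev Bs (W : X.Opens) : Submodule Γ(X, W) Γ(F.X p, W) :=
  LinearMap.range (appLin (F.d (p - 1) p) W)

include hFc in
lemma isQuasicoherent_X (q : ℤ) : (F.X q).IsQuasicoherent := (hFc q).1

include hFc in
lemma isQuasicoherent_deligne_X (n : ℕ) (q : ℤ) :
    (((Dual3.deligne I n).obj F).X q).IsQuasicoherent := by
  haveI := (hFc q).1
  exact isQuasicoherent_idealMul (I ^ n) (F.X q)

lemma iCycles_cyclesMap_app (n : ℕ) (V : X.Opens)
    (z : Γ(((Dual3.deligne I n).obj F).cycles p, V)) :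
    (F.iCycles p).app V ((HomologicalComplex.cyclesMap (Dual3.deligneι I n F) p).app V z) =
      (Dual3.idealMulι (I ^ n) (F.X p)).app V
        ((((Dual3.deligne I n).obj F).iCycles p).app V z) :=
  congrArg (fun θ => θ.app V z) (HomologicalComplex.cyclesMap_i (Dual3.deligneι I n F) p)

lemma homologyMap_π_app (n : ℕ) (V : X.Opens)
    (z : Γ(((Dual3.deligne I n).obj F).cycles p, V)) :
    (HomologicalComplex.homologyMap (Dual3.deligneι I n F) p).app V
      ((((Dual3.deligne I n).obj F).homologyπ p).app V z) =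
      (F.homologyπ p).app V ((HomologicalComplex.cyclesMap (Dual3.deligneι I n F) p).app V z) :=
  congrArg (fun θ => θ.app V z) (HomologicalComplex.homologyπ_naturality (Dual3.deligneι I n F) p)

/-- elements of `J^k Z(W)` are cycles whose classes lie in `J^k H(W)`. -/
lemma exists_cycle_of_mem_smul_Zs (W : X.Opens) (𝔞 : Ideal Γ(X, W)) (y : Γ(F.X p, W))
    (hy : y ∈ 𝔞 • Zs F p W) :
    ∃ c' : Γ(F.cycles p, W), (F.iCycles p).app W c' = y ∧
      c' ∈ 𝔞 • (⊤ : Submodule Γ(X, W) Γ(F.cycles p, W)) := by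
  refine Submodule.smul_induction_on hy (fun a ha z₀ hz₀ => ?_) (fun y₁ y₂ h₁ h₂ => ?_)
  · obtain ⟨c₀, hc₀⟩ := exists_cycle F p W z₀ hz₀
    exact ⟨a • c₀, by rw [Scheme.Modules.Hom.app_smul, hc₀], Submodule.smul_mem_smul ha trivial⟩
  · obtain ⟨c₁, e₁, m₁⟩ := h₁
    obtain ⟨c₂, e₂, m₂⟩ := h₂
    exact ⟨c₁ + c₂, by rw [map_add, e₁, e₂], add_mem m₁ m₂⟩

lemma app_mem_smul_top {A B : X.Modules} (g : A ⟶ B) (W : X.Opens) (𝔞 : Ideal Γ(X, W))
    (x : Γ(A, W)) (hx : x ∈ 𝔞 • (⊤ : Submodule Γ(X, W) Γ(A, W))) :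
    g.app W x ∈ 𝔞 • (⊤ : Submodule Γ(X, W) Γ(B, W)) := by
  refine Submodule.smul_induction_on hx (fun a ha z _ => ?_) (fun y₁ y₂ h₁ h₂ => ?_)
  · rw [Scheme.Modules.Hom.app_smul]
    exact Submodule.smul_mem_smul ha trivial
  · rw [map_add]
    exact add_mem h₁ h₂

include hFc in
/-- Step 1: the image of `H^p(I^n F) → H^p(F)` lies in `I^(n-c) H^p(F)`. -/
lemma homologyMap_app_mem (W : X.affineOpens) (n c : ℕ)
    (hAR : (I.ideal W) ^ n • (⊤ : Submodule Γ(X, W.1) Γ(F.X p, W.1)) ⊓ Zs F p W.1 ≤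
      (I.ideal W) ^ (n - c) • Zs F p W.1)
    (x : Γ(((Dual3.deligne I n).obj F).homology p, W.1)) :
    (HomologicalComplex.homologyMap (Dual3.deligneι I n F) p).app W.1 x ∈
      (I ^ (n - c)).ideal W • (⊤ : Submodule Γ(X, W.1) Γ(F.homology p, W.1)) := by
  haveI := (hFc p).1
  obtain ⟨z, rfl⟩ := homologyπ_app_surjective ((Dual3.deligne I n).obj F)
    (isQuasicoherent_deligne_X I F hFc n) p W.2 x
  rw [homologyMap_π_app]
  set zc := (HomologicalComplex.cyclesMap (Dual3.deligneι I n F) p).app W.1 z with hzc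
  have h1 : (F.iCycles p).app W.1 zc ∈
      (I.ideal W) ^ n • (⊤ : Submodule Γ(X, W.1) Γ(F.X p, W.1)) ⊓ Zs F p W.1 := by
    refine ⟨?_, d_iCycles_app F p W.1 zc⟩
    rw [hzc, iCycles_cyclesMap_app]
    have := idealMulι_app_mem (I ^ n) (F.X p) W
      ((((Dual3.deligne I n).obj F).iCycles p).app W.1 z)
    rw [Scheme.IdealSheafData.ideal_pow] at this
    exact this
  obtain ⟨c', e', m'⟩ := exists_cycle_of_mem_smul_Zs F p W.1 _ _ (hAR h1)
  have : zc = c' := iCycles_app_injective F p W.1 e'.symm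
  rw [this, Scheme.IdealSheafData.ideal_pow]
  exact app_mem_smul_top (F.homologyπ p) W.1 _ c' m'

end Main

section Main2

variable (I : X.IdealSheafData) (F : CochainComplex X.Modules ℤ)
  [hq : ∀ q : ℤ, (F.X q).IsQuasicoherent] (p : ℤ)

/-- the inclusion `I^n F^q → (I^m F)^q` for `m ≤ n`. -/
noncomputable def inclD (m n : ℕ) (h : m ≤ n) (q : ℤ) :
    (Dual3.idealMul (I ^ n)).obj (F.X q) ⟶ ((Dual3.deligne I m).obj F).X q :=
  inclPow I (F.X q) h

@[reassoc]
lemma inclD_ι (m n : ℕ) (h : m ≤ n) (q : ℤ) :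
    inclD I F m n h q ≫ (Dual3.deligneι I m F).f q = Dual3.idealMulι (I ^ n) (F.X q) :=
  inclPow_ι I (F.X q) h

omit hq in
instance mono_deligneι_f (m : ℕ) (q : ℤ) : Mono ((Dual3.deligneι I m F).f q) :=
  Dual3.mono_idealMulι (I ^ m) (F.X q)

omit hq in
lemma deligneι_app_injective (m : ℕ) (q : ℤ) (V : X.Opens) :
    Function.Injective (((Dual3.deligneι I m F).f q).app V) :=
  idealMulι_app_injective (I ^ m) (F.X q) V

lemma deligneι_app_mem (m : ℕ) (q : ℤ) (W : X.affineOpens)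
    (s : Γ(((Dual3.deligne I m).obj F).X q, W.1)) :
    ((Dual3.deligneι I m F).f q).app W.1 s ∈
      (I.ideal W) ^ m • (⊤ : Submodule Γ(X, W.1) Γ(F.X q, W.1)) := by
  have := idealMulι_app_mem (I ^ m) (F.X q) W s
  rw [Scheme.IdealSheafData.ideal_pow] at this
  exact this

lemma exists_deligne_section (m : ℕ) (q : ℤ) (W : X.affineOpens) (x : Γ(F.X q, W.1))
    (hx : x ∈ (I.ideal W) ^ m • (⊤ : Submodule Γ(X, W.1) Γ(F.X q, W.1))) :
    ∃ s : Γ(((Dual3.deligne I m).obj F).X q, W.1), ((Dual3.deligneι I m F).f q).app W.1 s = x :=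
  exists_idealMul_section (I ^ m) (F.X q) W x (by
    rw [Scheme.IdealSheafData.ideal_pow]; exact hx)

omit hq in
lemma deligne_d_app (m : ℕ) (i j : ℤ) (V : X.Opens)
    (s : Γ(((Dual3.deligne I m).obj F).X i, V)) :
    ((Dual3.deligneι I m F).f j).app V ((((Dual3.deligne I m).obj F).d i j).app V s) =
      (F.d i j).app V (((Dual3.deligneι I m F).f i).app V s) :=
  congrArg (fun θ => θ.app V s) ((Dual3.deligneι I m F).comm i j).symm

lemma lam_aux (m n : ℕ) (h : m ≤ n) :
    ((Dual3.idealMul (I ^ n)).map (F.iCycles p) ≫ inclD I F m n h p) ≫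
      ((Dual3.deligne I m).obj F).d p (p + 1) = 0 := by
  rw [← cancel_mono ((Dual3.deligneι I m F).f (p + 1)), zero_comp, Category.assoc,
    Category.assoc, ← (Dual3.deligneι I m F).comm p (p + 1), inclD_ι_assoc,
    Dual3.idealMul_map_ι_assoc, HomologicalComplex.iCycles_d, comp_zero]

/-- the map `I^n Z → cycles (I^m F)` for `m ≤ n`. -/
noncomputable def lam (m n : ℕ) (h : m ≤ n) :
    (Dual3.idealMul (I ^ n)).obj (F.cycles p) ⟶ ((Dual3.deligne I m).obj F).cycles p :=
  ((Dual3.deligne I m).obj F).liftCycles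
    ((Dual3.idealMul (I ^ n)).map (F.iCycles p) ≫ inclD I F m n h p) (p + 1)
    (CochainComplex.next ℤ p) (lam_aux I F p m n h)

lemma lam_i (m n : ℕ) (h : m ≤ n) :
    lam I F p m n h ≫ ((Dual3.deligne I m).obj F).iCycles p =
      (Dual3.idealMul (I ^ n)).map (F.iCycles p) ≫ inclD I F m n h p :=
  HomologicalComplex.liftCycles_i _ _ _ _ _

lemma lam_i_ι (m n : ℕ) (h : m ≤ n) :
    lam I F p m n h ≫ ((Dual3.deligne I m).obj F).iCycles p ≫ (Dual3.deligneι I m F).f p =
      Dual3.idealMulι (I ^ n) (F.cycles p) ≫ F.iCycles p := by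
  rw [← Category.assoc, lam_i, Category.assoc, inclD_ι, Dual3.idealMul_map_ι]

lemma lam_cyclesMap (m n : ℕ) (h : m ≤ n) :
    lam I F p m n h ≫ HomologicalComplex.cyclesMap (Dual3.deligneι I m F) p =
      Dual3.idealMulι (I ^ n) (F.cycles p) := by
  rw [← cancel_mono (F.iCycles p), Category.assoc, HomologicalComplex.cyclesMap_i]
  exact lam_i_ι I F p m n h

/-- the map `I^n Z → H^p(I^m F)`. -/
noncomputable def rho (m n : ℕ) (h : m ≤ n) :
    (Dual3.idealMul (I ^ n)).obj (F.cycles p) ⟶ ((Dual3.deligne I m).obj F).homology p :=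
  lam I F p m n h ≫ ((Dual3.deligne I m).obj F).homologyπ p

lemma lam_app_ι (m n : ℕ) (h : m ≤ n) (V : X.Opens)
    (y : Γ((Dual3.idealMul (I ^ n)).obj (F.cycles p), V)) :
    ((Dual3.deligneι I m F).f p).app V
      ((((Dual3.deligne I m).obj F).iCycles p).app V ((lam I F p m n h).app V y)) =
      (F.iCycles p).app V ((Dual3.idealMulι (I ^ n) (F.cycles p)).app V y) :=
  congrArg (fun θ => θ.app V y) (lam_i_ι I F p m n h)

/-- elements of `J^m B(W)` are boundaries of `I^m F`. -/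
lemma exists_boundary_of_mem_smul_Bs (m : ℕ) (W : X.affineOpens) (u : Γ(F.X p, W.1))
    (hu : u ∈ (I.ideal W) ^ m • Bs F p W.1) :
    ∃ b'' : Γ(((Dual3.deligne I m).obj F).X (p - 1), W.1),
      ((Dual3.deligneι I m F).f p).app W.1
        ((((Dual3.deligne I m).obj F).d (p - 1) p).app W.1 b'') = u := by
  refine Submodule.smul_induction_on hu (fun a ha z₀ hz₀ => ?_) (fun y₁ y₂ h₁ h₂ => ?_)
  · obtain ⟨b₀, rfl⟩ := hz₀
    obtain ⟨b'', hb''⟩ := exists_deligne_section I F m (p - 1) W (a • b₀)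
      (Submodule.smul_mem_smul ha trivial)
    refine ⟨b'', ?_⟩
    rw [deligne_d_app, hb'', Scheme.Modules.Hom.app_smul]
    rfl
  · obtain ⟨b₁, e₁⟩ := h₁
    obtain ⟨b₂, e₂⟩ := h₂
    refine ⟨b₁ + b₂, ?_⟩
    rw [← e₁, ← e₂, ← map_add, ← map_add]

omit hq in
/-- if `ι(iCycles c) = ι(d b'')` then `c` is a boundary. -/
lemma homologyπ_eq_zero_of_ι (m : ℕ) (V : X.Opens)
    (c : Γ(((Dual3.deligne I m).obj F).cycles p, V))
    (b'' : Γ(((Dual3.deligne I m).obj F).X (p - 1), V))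
    (h : ((Dual3.deligneι I m F).f p).app V
        ((((Dual3.deligne I m).obj F).iCycles p).app V c) =
      ((Dual3.deligneι I m F).f p).app V
        ((((Dual3.deligne I m).obj F).d (p - 1) p).app V b'')) :
    (((Dual3.deligne I m).obj F).homologyπ p).app V c = 0 := by
  have h1 := deligneι_app_injective I F m p V h
  rw [← iCycles_toCycles_app] at h1
  have h2 := iCycles_app_injective ((Dual3.deligne I m).obj F) p V h1
  rw [h2]
  exact homologyπ_toCycles_app _ p V b''

include hq in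
lemma isQuasicoherent_deligne_X' (n : ℕ) (q : ℤ) :
    (((Dual3.deligne I n).obj F).X q).IsQuasicoherent :=
  isQuasicoherent_idealMul (I ^ n) (F.X q)

/-- Step 5: construction of `ψ`. -/
lemma exists_psi (m n : ℕ) (h : m ≤ n) {κ : Type*} (W : κ → X.affineOpens)
    (hcov : ∀ x : X, ∃ k, x ∈ (W k).1)
    (hAR : ∀ k, (I.ideal (W k)) ^ n • (⊤ : Submodule Γ(X, (W k).1) Γ(F.X p, (W k).1)) ⊓
      Bs F p (W k).1 ≤ (I.ideal (W k)) ^ m • Bs F p (W k).1) :
    ∃ ψ : (Dual3.idealMul (I ^ n)).obj (F.homology p) ⟶ ((Dual3.deligne I m).obj F).homology p,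
      (Dual3.idealMul (I ^ n)).map (F.homologyπ p) ≫ ψ = rho I F p m n h := by
  haveI := isQuasicoherent_cycles F hq p
  haveI := isQuasicoherent_homology F hq p
  haveI : Epi ((Dual3.idealMul (I ^ n)).map (F.homologyπ p)) := epi_idealMul_map _ _
  have h0 : kernel.ι ((Dual3.idealMul (I ^ n)).map (F.homologyπ p)) ≫ rho I F p m n h = 0 := by
    haveI : (kernel ((Dual3.idealMul (I ^ n)).map (F.homologyπ p))).IsQuasicoherent :=
      isQuasicoherent_kernel _
    apply hom_eq_zero_of_affine_cover _ (fun k => (W k).1) (fun k => (W k).2) hcov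
    intro k s
    set y := (kernel.ι ((Dual3.idealMul (I ^ n)).map (F.homologyπ p))).app (W k).1 s with hy
    have hy0 : ((Dual3.idealMul (I ^ n)).map (F.homologyπ p)).app (W k).1 y = 0 :=
      kernel_ι_app_comp _ (W k).1 s
    change (((Dual3.deligne I m).obj F).homologyπ p).app (W k).1
      ((lam I F p m n h).app (W k).1 y) = 0
    have h1 : (F.homologyπ p).app (W k).1
        ((Dual3.idealMulι (I ^ n) (F.cycles p)).app (W k).1 y) = 0 := by
      rw [← idealMul_map_app, hy0, map_zero]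
    obtain ⟨b, hb⟩ := exists_boundary F hq p (W k).2 _ h1
    have hmem := idealMulι_app_mem (I ^ n) (F.cycles p) (W k) y
    rw [Scheme.IdealSheafData.ideal_pow] at hmem
    have hu : (F.iCycles p).app (W k).1 ((Dual3.idealMulι (I ^ n) (F.cycles p)).app (W k).1 y) ∈
        (I.ideal (W k)) ^ n • (⊤ : Submodule Γ(X, (W k).1) Γ(F.X p, (W k).1)) ⊓
          Bs F p (W k).1 := by
      refine ⟨app_mem_smul_top (F.iCycles p) (W k).1 _ _ hmem, b, ?_⟩
      rw [← hb, iCycles_toCycles_app]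
      rfl
    obtain ⟨b'', hb''⟩ := exists_boundary_of_mem_smul_Bs I F p m (W k) _ (hAR k hu)
    apply homologyπ_eq_zero_of_ι I F p m _ _ b''
    rw [lam_app_ι, hb'']
  exact ⟨Abelian.epiDesc _ _ h0, Abelian.comp_epiDesc _ _ h0⟩

/-- Step 6: property (2). -/
lemma psi_comp_homologyMap (m n : ℕ) (h : m ≤ n)
    (ψ : (Dual3.idealMul (I ^ n)).obj (F.homology p) ⟶ ((Dual3.deligne I m).obj F).homology p)
    (hψ : (Dual3.idealMul (I ^ n)).map (F.homologyπ p) ≫ ψ = rho I F p m n h) :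
    ψ ≫ HomologicalComplex.homologyMap (Dual3.deligneι I m F) p =
      Dual3.idealMulι (I ^ n) (F.homology p) := by
  haveI := isQuasicoherent_cycles F hq p
  haveI := isQuasicoherent_homology F hq p
  haveI : Epi ((Dual3.idealMul (I ^ n)).map (F.homologyπ p)) := epi_idealMul_map _ _
  rw [← cancel_epi ((Dual3.idealMul (I ^ n)).map (F.homologyπ p)), ← Category.assoc, hψ,
    Dual3.idealMul_map_ι]
  unfold rho
  rw [Category.assoc, HomologicalComplex.homologyπ_naturality, ← Category.assoc, lam_cyclesMap]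

/-- Step 7: property (4). -/
lemma phi_comp_psi (n m l : ℕ) (hml : l ≤ m) (hmn : m ≤ n) {κ : Type*} (W : κ → X.affineOpens)
    (hcov : ∀ x : X, ∃ k, x ∈ (W k).1)
    (hAR : ∀ k, (I.ideal (W k)) ^ m • (⊤ : Submodule Γ(X, (W k).1) Γ(F.X p, (W k).1)) ⊓
      Bs F p (W k).1 ≤ (I.ideal (W k)) ^ l • Bs F p (W k).1)
    (φ : ((Dual3.deligne I n).obj F).homology p ⟶ (Dual3.idealMul (I ^ m)).obj (F.homology p))
    (hφ : φ ≫ Dual3.idealMulι (I ^ m) (F.homology p) =
      HomologicalComplex.homologyMap (Dual3.deligneι I n F) p)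
    (ψ : (Dual3.idealMul (I ^ m)).obj (F.homology p) ⟶ ((Dual3.deligne I l).obj F).homology p)
    (hψ : (Dual3.idealMul (I ^ m)).map (F.homologyπ p) ≫ ψ = rho I F p l m hml)
    (t : (Dual3.deligne I n).obj F ⟶ (Dual3.deligne I l).obj F)
    (ht : t ≫ Dual3.deligneι I l F = Dual3.deligneι I n F) :
    φ ≫ ψ = HomologicalComplex.homologyMap t p := by
  haveI := isQuasicoherent_cycles F hq p
  haveI := isQuasicoherent_homology F hq p
  haveI := isQuasicoherent_cycles ((Dual3.deligne I n).obj F)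
    (isQuasicoherent_deligne_X' I F n) p
  rw [← cancel_epi (((Dual3.deligne I n).obj F).homologyπ p), ← sub_eq_zero,
    ← Preadditive.comp_sub]
  apply hom_eq_zero_of_affine_cover _ (fun k => (W k).1) (fun k => (W k).2) hcov
  intro k z
  change (φ ≫ ψ - HomologicalComplex.homologyMap t p).app (W k).1
    ((((Dual3.deligne I n).obj F).homologyπ p).app (W k).1 z) = 0
  set x := (((Dual3.deligne I n).obj F).homologyπ p).app (W k).1 z with hx
  have hsub : (φ ≫ ψ - HomologicalComplex.homologyMap t p).app (W k).1 x =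
      ψ.app (W k).1 (φ.app (W k).1 x) -
        (HomologicalComplex.homologyMap t p).app (W k).1 x := rfl
  rw [hsub, sub_eq_zero]
  -- a preimage of `φ x`
  obtain ⟨y, hy⟩ := idealMul_map_app_surjective (I ^ m) (F.homologyπ p) (W k) (φ.app (W k).1 x)
  have e1 : ψ.app (W k).1 (φ.app (W k).1 x) =
      (((Dual3.deligne I l).obj F).homologyπ p).app (W k).1 ((lam I F p l m hml).app (W k).1 y) := by
    rw [← hy]
    exact congrArg (fun θ => θ.app (W k).1 y) hψ
  have e2 : (HomologicalComplex.homologyMap t p).app (W k).1 x =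
      (((Dual3.deligne I l).obj F).homologyπ p).app (W k).1
        ((HomologicalComplex.cyclesMap t p).app (W k).1 z) :=
    congrArg (fun θ => θ.app (W k).1 z) (HomologicalComplex.homologyπ_naturality t p)
  rw [e1, e2, ← sub_eq_zero, ← map_sub]
  -- the two cycles in `F^p`
  set u := (F.iCycles p).app (W k).1 ((Dual3.idealMulι (I ^ m) (F.cycles p)).app (W k).1 y)
    with hu
  set v := ((Dual3.deligneι I n F).f p).app (W k).1
    ((((Dual3.deligne I n).obj F).iCycles p).app (W k).1 z) with hv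
  have hv' : ((Dual3.deligneι I l F).f p).app (W k).1
      ((((Dual3.deligne I l).obj F).iCycles p).app (W k).1
        ((HomologicalComplex.cyclesMap t p).app (W k).1 z)) = v := by
    have h1 : (((Dual3.deligne I l).obj F).iCycles p).app (W k).1
        ((HomologicalComplex.cyclesMap t p).app (W k).1 z) =
        (t.f p).app (W k).1 ((((Dual3.deligne I n).obj F).iCycles p).app (W k).1 z) :=
      congrArg (fun θ => θ.app (W k).1 z) (HomologicalComplex.cyclesMap_i t p)
    rw [h1]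
    have h2 : t.f p ≫ (Dual3.deligneι I l F).f p = (Dual3.deligneι I n F).f p := by
      rw [← HomologicalComplex.comp_f, ht]
    exact congrArg (fun θ => θ.app (W k).1
      ((((Dual3.deligne I n).obj F).iCycles p).app (W k).1 z)) h2
  -- `u - v` is a boundary
  have hπ : (F.homologyπ p).app (W k).1
      ((Dual3.idealMulι (I ^ m) (F.cycles p)).app (W k).1 y -
        (HomologicalComplex.cyclesMap (Dual3.deligneι I n F) p).app (W k).1 z) = 0 := by
    rw [map_sub, sub_eq_zero, ← idealMul_map_app, hy, ← homologyMap_π_app, ← hx]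
    exact congrArg (fun θ => θ.app (W k).1 x) hφ
  obtain ⟨b, hb⟩ := exists_boundary F hq p (W k).2 _ hπ
  have huv : u - v ∈ (I.ideal (W k)) ^ m •
      (⊤ : Submodule Γ(X, (W k).1) Γ(F.X p, (W k).1)) ⊓ Bs F p (W k).1 := by
    refine ⟨sub_mem ?_ ?_, b, ?_⟩
    · have hmem := idealMulι_app_mem (I ^ m) (F.cycles p) (W k) y
      rw [Scheme.IdealSheafData.ideal_pow] at hmem
      exact app_mem_smul_top (F.iCycles p) (W k).1 _ _ hmem
    · exact Submodule.smul_mono_left (Ideal.pow_le_pow_right hmn)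
        (deligneι_app_mem I F n p (W k) _)
    · have h3 := iCycles_toCycles_app F p (W k).1 b
      rw [hb, map_sub, iCycles_cyclesMap_app] at h3
      exact h3.symm
  obtain ⟨b'', hb''⟩ := exists_boundary_of_mem_smul_Bs I F p l (W k) _ (hAR k huv)
  apply homologyπ_eq_zero_of_ι I F p l _ _ b''
  rw [hb'', map_sub, map_sub, lam_app_ι, hv']

end Main2

section Final

open Groth.Agent.Helper13.FinType in
theorem deligne_homology_artinRees [IsNoetherian X] (I : X.IdealSheafData)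
    (F : CochainComplex X.Modules ℤ) (hFc : ∀ q : ℤ, Coh.IsCoh (F.X q)) (p : ℤ) :
    ∃ (c : ℕ) (φ : ∀ n : ℕ, ((Dual3.deligne I n).obj F).homology p ⟶
        (Dual3.idealMul (I ^ (n - c))).obj (F.homology p))
      (ψ : ∀ n : ℕ, (Dual3.idealMul (I ^ n)).obj (F.homology p) ⟶
        ((Dual3.deligne I (n - c)).obj F).homology p),
      0 < c ∧
      (∀ n : ℕ, c ≤ n → φ n ≫ Dual3.idealMulι (I ^ (n - c)) (F.homology p) =
        HomologicalComplex.homologyMap (Dual3.deligneι I n F) p) ∧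
      (∀ n : ℕ, c ≤ n → ψ n ≫ HomologicalComplex.homologyMap (Dual3.deligneι I (n - c) F) p =
        Dual3.idealMulι (I ^ n) (F.homology p)) ∧
      (∀ n : ℕ, 2 * c ≤ n → (ψ n ≫ φ (n - c)) ≫
        Dual3.idealMulι (I ^ (n - c - c)) (F.homology p) =
          Dual3.idealMulι (I ^ n) (F.homology p)) ∧
      ∀ (n : ℕ), 2 * c ≤ n → ∀ t : (Dual3.deligne I n).obj F ⟶ (Dual3.deligne I (n - c - c)).obj F,
        t ≫ Dual3.deligneι I (n - c - c) F = Dual3.deligneι I n F →
          φ n ≫ ψ (n - c) = HomologicalComplex.homologyMap t p := by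
  classical
  haveI hq : ∀ q : ℤ, (F.X q).IsQuasicoherent := fun q => (hFc q).1
  haveI := isQuasicoherent_homology F hq p
  have hex : ∀ W : X.affineOpens, ∃ k : ℕ,
      (∀ c ≥ k, ∀ n ≥ c, (I.ideal W) ^ n • (⊤ : Submodule Γ(X, W.1) Γ(F.X p, W.1)) ⊓
        Zs F p W.1 ≤ (I.ideal W) ^ (n - c) • Zs F p W.1) ∧
      (∀ c ≥ k, ∀ n ≥ c, (I.ideal W) ^ n • (⊤ : Submodule Γ(X, W.1) Γ(F.X p, W.1)) ⊓
        Bs F p W.1 ≤ (I.ideal W) ^ (n - c) • Bs F p W.1) := by
    intro W
    haveI : IsNoetherianRing Γ(X, W.1) := IsLocallyNoetherian.component_noetherian W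
    haveI := (hFc p).2
    haveI : Module.Finite Γ(X, W.1) Γ(F.X p, W.1) := finite_sections_of_isFiniteType (F.X p) W.2
    obtain ⟨k₁, h₁⟩ := exists_pow_smul_top_inf_le (I.ideal W) (Zs F p W.1)
    obtain ⟨k₂, h₂⟩ := exists_pow_smul_top_inf_le (I.ideal W) (Bs F p W.1)
    exact ⟨max k₁ k₂, fun c hc n hn => h₁ c ((le_max_left _ _).trans hc) n hn,
      fun c hc n hn => h₂ c ((le_max_right _ _).trans hc) n hn⟩
  choose k₀ hZ hB using hex
  obtain ⟨t, ht⟩ := isCompact_univ.elim_finite_subcover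
    (fun W : X.affineOpens => ((W.1 : X.Opens) : Set X)) (fun W => W.1.isOpen) (by
      intro x _
      obtain ⟨W, hW, hxW, -⟩ := X.isBasis_affineOpens.exists_subset_of_mem_open
        (Set.mem_univ x) isOpen_univ
      obtain ⟨W', hW', rfl⟩ := hW
      exact Set.mem_iUnion.2 ⟨⟨W', hW'⟩, hxW⟩)
  have hcov : ∀ x : X, ∃ W : t, x ∈ W.1.1 := by
    intro x
    have hx := ht (Set.mem_univ x)
    rw [Set.mem_iUnion₂] at hx
    obtain ⟨W, hWt, hxW⟩ := hx
    exact ⟨⟨W, hWt⟩, hxW⟩
  let c := 1 + ∑ W ∈ t, k₀ W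
  have hle : ∀ W ∈ t, k₀ W ≤ c := fun W hW =>
    (Finset.single_le_sum (f := k₀) (fun _ _ => Nat.zero_le _) hW).trans (Nat.le_add_left _ _)
  have hφex : ∀ n : ℕ, c ≤ n → ∃ φ : ((Dual3.deligne I n).obj F).homology p ⟶
      (Dual3.idealMul (I ^ (n - c))).obj (F.homology p),
      φ ≫ Dual3.idealMulι (I ^ (n - c)) (F.homology p) =
        HomologicalComplex.homologyMap (Dual3.deligneι I n F) p := by
    intro n hn
    haveI := isQuasicoherent_homology ((Dual3.deligne I n).obj F)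
      (isQuasicoherent_deligne_X' I F n) p
    apply exists_lift_of_sections _ _ (fun W : t => W.1.1) (fun W => W.1.2) hcov
    rintro ⟨W, hWt⟩ x
    exact exists_idealMul_section (I ^ (n - c)) (F.homology p) W _
      (homologyMap_app_mem I F hFc p W n c (hZ W c (hle W hWt) n hn) x)
  have hψex : ∀ n : ℕ, c ≤ n → ∃ ψ : (Dual3.idealMul (I ^ n)).obj (F.homology p) ⟶
      ((Dual3.deligne I (n - c)).obj F).homology p,
      (Dual3.idealMul (I ^ n)).map (F.homologyπ p) ≫ ψ = rho I F p (n - c) n (Nat.sub_le n c) :=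
    fun n hn => exists_psi I F p (n - c) n (Nat.sub_le n c) (fun W : t => W.1) hcov
      (fun W => hB W.1 c (hle W.1 W.2) n hn)
  let φ : ∀ n : ℕ, ((Dual3.deligne I n).obj F).homology p ⟶
      (Dual3.idealMul (I ^ (n - c))).obj (F.homology p) := fun n =>
    if h : c ≤ n then (hφex n h).choose else 0
  let ψ : ∀ n : ℕ, (Dual3.idealMul (I ^ n)).obj (F.homology p) ⟶
      ((Dual3.deligne I (n - c)).obj F).homology p := fun n =>
    if h : c ≤ n then (hψex n h).choose else 0
  have hφ : ∀ n : ℕ, c ≤ n → φ n ≫ Dual3.idealMulι (I ^ (n - c)) (F.homology p) =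
      HomologicalComplex.homologyMap (Dual3.deligneι I n F) p := by
    intro n hn
    simp only [φ, dif_pos hn]
    exact (hφex n hn).choose_spec
  have hψ' : ∀ n : ℕ, c ≤ n → (Dual3.idealMul (I ^ n)).map (F.homologyπ p) ≫ ψ n =
      rho I F p (n - c) n (Nat.sub_le n c) := by
    intro n hn
    simp only [ψ, dif_pos hn]
    exact (hψex n hn).choose_spec
  have hψ : ∀ n : ℕ, c ≤ n →
      ψ n ≫ HomologicalComplex.homologyMap (Dual3.deligneι I (n - c) F) p =
        Dual3.idealMulι (I ^ n) (F.homology p) := fun n hn =>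
    psi_comp_homologyMap I F p (n - c) n (Nat.sub_le n c) (ψ n) (hψ' n hn)
  refine ⟨c, φ, ψ, by omega, hφ, hψ, ?_, ?_⟩
  · intro n hn
    have hn1 : c ≤ n := by omega
    have hn2 : c ≤ n - c := by omega
    rw [Category.assoc, hφ (n - c) hn2, hψ n hn1]
  · intro n hn t' ht'
    have hn1 : c ≤ n := by omega
    have hn2 : c ≤ n - c := by omega
    exact phi_comp_psi I F p n (n - c) (n - c - c) (Nat.sub_le _ _) (Nat.sub_le _ _)
      (fun W : t => W.1) hcov (fun W => hB W.1 c (hle W.1 W.2) (n - c) hn2)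
      (φ n) (hφ n hn1) (ψ (n - c)) (hψ' (n - c) hn2) t' ht'

end Final

end Groth.Agent.Helper14.DelAR
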