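import Mathlib
import Groth.Agent.S4537
import Groth.Agent.S3866
import Groth.Agent.Lib.Helper9.AdicLift

/-!
# Extension of derivations along an adically formally smooth complete local algebra
-/

set_option autoImplicit false
universe u

namespace Groth.Agent.Helper14.DerExtend

open TrivSqZeroExt

/-- If `B` is a complete Noetherian local ring, formally smooth over `A` for the adic topology,
and `V` is a finite `B`-module, then every "derivation" `δ : A → V` extends to a derivation
`B → V`. -/
theorem exists_derivation {A B : Type u} [CommRing A] [CommRing B] [IsLocalRing B]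
    [IsNoetherianRing B] [Algebra A B] [IsAdicComplete (IsLocalRing.maximalIdeal B) B]
    (hfs : CAlgX.IsAdicFormallySmooth A B (IsLocalRing.maximalIdeal B))
    (V : Type u) [AddCommGroup V] [Module B V] [Module.Finite B V]
    (δ : A →+ V)
    (hδ : ∀ x y, δ (x * y) = algebraMap A B x • δ y + algebraMap A B y • δ x) :
    ∃ D : Derivation ℤ B V, ∀ x, D (algebraMap A B x) = δ x := by
  classical
  letI : Module Bᵐᵒᵖ V :=
    Module.compHom V ((RingHom.id B).fromOpposite (fun _ _ => Commute.all _ _))
  haveI : IsCentralScalar B V := ⟨fun q v => rfl⟩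
  have hδ1 : δ 1 = 0 := by
    have := hδ 1 1
    simp only [mul_one, map_one, one_smul] at this
    exact left_eq_add.mp this
  let ρ : A →+* TrivSqZeroExt B V :=
    { toFun := fun x => inl (algebraMap A B x) + inr (δ x)
      map_one' := by
        ext
        · simp
        · simp [hδ1]
      map_mul' := fun x y => by
        ext
        · simp
        · simp only [snd_add, snd_inl, snd_inr, zero_add, snd_mul, fst_add, fst_inl, fst_inr,
            add_zero, op_smul_eq_smul]
          rw [hδ x y]
      map_zero' := by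
        ext
        · simp
        · simp
      map_add' := fun x y => by
        ext
        · simp
        · simp }
  letI algAC : Algebra A (TrivSqZeroExt B V) := ρ.toAlgebra
  have hρ : ∀ x, algebraMap A (TrivSqZeroExt B V) x = inl (algebraMap A B x) + inr (δ x) :=
    fun x => rfl
  let 𝔪 := IsLocalRing.maximalIdeal B
  let 𝔠 : Ideal (TrivSqZeroExt B V) := 𝔪.map (algebraMap B (TrivSqZeroExt B V))
  let J : Ideal (TrivSqZeroExt B V) := kerIdeal B V
  have hJ2 : J ^ 2 = ⊥ := kerIdeal_sq B V
  haveI : Module.Finite B (TrivSqZeroExt B V) := inferInstanceAs (Module.Finite B (B × V))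
  haveI hcB : IsAdicComplete 𝔪 (TrivSqZeroExt B V) :=
    Groth.Agent.S3866.result B 𝔪 (TrivSqZeroExt B V)
  haveI hcC : IsAdicComplete 𝔠 (TrivSqZeroExt B V) :=
    (IsAdicComplete.map_algebraMap_iff 𝔪 (TrivSqZeroExt B V)).mpr hcB
  haveI : Module.Finite B (TrivSqZeroExt B V ⧸ J) := Module.Finite.quotient B J
  haveI hH0 : IsHausdorff 𝔪 (TrivSqZeroExt B V ⧸ J) :=
    IsHausdorff.of_le_jacobson 𝔪 (TrivSqZeroExt B V ⧸ J) (IsLocalRing.maximalIdeal_le_jacobson ⊥)
  have h𝔠J : 𝔠.map (Ideal.Quotient.mk J) = 𝔪.map (algebraMap B (TrivSqZeroExt B V ⧸ J)) := by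
    simp only [𝔠]
    rw [Ideal.map_map]
    rfl
  haveI hH : IsHausdorff (𝔠.map (Ideal.Quotient.mk J)) (TrivSqZeroExt B V ⧸ J) := by
    rw [h𝔠J]
    exact IsHausdorff.map_algebraMap_iff.mpr hH0
  have hB : EGA41.IsFormallySmoothAdic A ⊥ B 𝔪 := (Groth.Agent.S4537.result 𝔪).mp hfs
  let u : B →ₐ[A] TrivSqZeroExt B V ⧸ J :=
    { ((Ideal.Quotient.mk J).comp (inlHom B V) : B →+* TrivSqZeroExt B V ⧸ J) with
      commutes' := fun a => by
        change Ideal.Quotient.mk J (inl (algebraMap A B a)) =
          Ideal.Quotient.mk J (algebraMap A (TrivSqZeroExt B V) a)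
        rw [hρ, Ideal.Quotient.eq]
        have : (inl (algebraMap A B a) - (inl (algebraMap A B a) + inr (δ a)) :
            TrivSqZeroExt B V) = inr (-(δ a)) := by
          ext <;> simp
        rw [this]
        change (inr (-(δ a)) : TrivSqZeroExt B V).fst = 0
        simp }
  have hu : ∀ b, u b = Ideal.Quotient.mk J (inl b) := fun b => rfl
  obtain ⟨v, -, hv⟩ := Groth.Agent.Helper9.AdicLift.exists_lift (⊥ : Ideal A) 𝔪 𝔠 J hB
    ⟨1, by rw [pow_one, Ideal.map_bot]; exact bot_le⟩ ⟨2, by rw [hJ2]; exact bot_le⟩ u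
    ⟨1, by
      rw [pow_one, h𝔠J]
      apply le_of_eq
      rfl⟩
  have hfst : ∀ b, (v b).fst = b := by
    intro b
    have h1 := DFunLike.congr_fun hv b
    simp only [AlgHom.comp_apply, Ideal.Quotient.mkₐ_eq_mk] at h1
    rw [hu, Ideal.Quotient.eq] at h1
    have h2 : (v b - inl b : TrivSqZeroExt B V).fst = 0 := h1
    simpa [sub_eq_zero] using h2
  let D₀ : B →ₗ[ℤ] V :=
    AddMonoidHom.toIntLinearMap
      { toFun := fun s => (v s).snd
        map_zero' := by simp
        map_add' := fun a b => by simp }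
  have hD₀ : ∀ s, D₀ s = (v s).snd := fun s => rfl
  refine ⟨Derivation.mk' D₀ (fun a b => ?_), fun x => ?_⟩
  · rw [hD₀, hD₀, hD₀, map_mul, snd_mul, hfst, hfst, op_smul_eq_smul]
  · change D₀ _ = _
    rw [hD₀, v.commutes, hρ]
    simp

end Groth.Agent.Helper14.DerExtend
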