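import Mathlib
import Groth.Agent.Lib.Helper14.DimFT
import Groth.Agent.Lib.Helper14.AffSpFibre2
import Groth.Agent.Lib.Helper18.DimFG

/-!
# Maps from affine schemes of finite type over a field to affine space
-/

set_option autoImplicit false
universe u
open AlgebraicGeometry CategoryTheory CategoryTheory.Limits TopologicalSpace

namespace Groth.Agent.Helper14.DimFT

/-- Noether normalisation, padded with zeros. -/
theorem exists_finite_eval₂ {K A : Type u} [CommRing K] [CommRing A] (hK : IsField K)
    (φ : K →+* A) (hφ : φ.FiniteType) (n : ℕ) (h : ringKrullDim A ≤ n) :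
    ∃ v : ULift.{u} (Fin n) → A, (MvPolynomial.eval₂Hom φ v).Finite := by
  classical
  letI := hK.toField
  letI : Algebra K A := φ.toAlgebra
  haveI : Algebra.FiniteType K A := hφ
  rcases subsingleton_or_nontrivial A with hA | hA
  · refine ⟨fun _ => 0, ?_⟩
    letI : Algebra (MvPolynomial (ULift.{u} (Fin n)) K) A :=
      (MvPolynomial.eval₂Hom φ (fun _ => (0 : A))).toAlgebra
    change Module.Finite (MvPolynomial (ULift.{u} (Fin n)) K) A
    infer_instance
  · obtain ⟨s, g, -, hgfin, hdim⟩ := Groth.Agent.Helper18.DimFG.exists_noether (k := K) A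
    have hsn : s ≤ n := by
      rw [hdim] at h
      exact_mod_cast h
    let v : ULift.{u} (Fin n) → A := fun i =>
      if hi : i.down.val < s then g (MvPolynomial.X ⟨i.down.val, hi⟩) else 0
    refine ⟨v, ?_⟩
    let ι : Fin s → ULift.{u} (Fin n) := fun j => ULift.up (Fin.castLE hsn j)
    have hcomp : (MvPolynomial.eval₂Hom φ v).comp (MvPolynomial.rename ι).toRingHom =
        g.toRingHom := by
      apply MvPolynomial.ringHom_ext
      · intro a
        simp only [RingHom.coe_comp, Function.comp_apply, AlgHom.toRingHom_eq_coe,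
          RingHom.coe_coe, MvPolynomial.rename_C, MvPolynomial.coe_eval₂Hom, MvPolynomial.eval₂_C]
        exact (g.commutes a).symm
      · intro j
        simp only [RingHom.coe_comp, Function.comp_apply, AlgHom.toRingHom_eq_coe,
          RingHom.coe_coe, MvPolynomial.rename_X, MvPolynomial.coe_eval₂Hom, MvPolynomial.eval₂_X]
        have hj : (ι j).down.val < s := j.2
        simp only [v, dif_pos hj]
        rfl
    have h2 : ((MvPolynomial.eval₂Hom φ v).comp (MvPolynomial.rename ι).toRingHom).Finite := by
      rw [hcomp]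
      exact hgfin
    exact RingHom.Finite.of_comp_finite h2

/-- the coordinate ring of affine space over an affine base is a polynomial ring. -/
theorem bijective_eval₂ (n : Type u) (S : Scheme.{u}) [IsAffine S] :
    Function.Bijective
      (MvPolynomial.eval₂Hom ((𝔸(n; S) ↘ S).appTop).hom (AffineSpace.coord S)) := by
  have hiso : IsIso (CommRingCat.ofHom
      (MvPolynomial.eval₂Hom ((𝔸(n; S) ↘ S).appTop).hom (AffineSpace.coord S))) := by
    have : CommRingCat.ofHom
        (MvPolynomial.eval₂Hom ((𝔸(n; S) ↘ S).appTop).hom (AffineSpace.coord S)) =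
        (Scheme.ΓSpecIso _).inv ≫ (AffineSpace.isoOfIsAffine n S).hom.appTop := by
      rw [AffineSpace.isoOfIsAffine_hom_appTop, Iso.inv_hom_id_assoc]
    rw [this]
    haveI : IsIso (Scheme.Hom.appTop (AffineSpace.isoOfIsAffine n S).hom) := by
      change IsIso (Scheme.Γ.map (AffineSpace.isoOfIsAffine n S).hom.op)
      infer_instance
    infer_instance
  exact ConcreteCategory.bijective_of_isIso (CommRingCat.ofHom
      (MvPolynomial.eval₂Hom ((𝔸(n; S) ↘ S).appTop).hom (AffineSpace.coord S)))

theorem isFinite_homOfVector {U S : Scheme.{u}} [IsAffine U] [IsAffine S] (fU : U ⟶ S)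
    (n : Type u) (v : n → Γ(U, ⊤)) (h : (MvPolynomial.eval₂Hom fU.appTop.hom v).Finite) :
    IsFinite (AffineSpace.homOfVector fU v) := by
  rw [HasAffineProperty.iff_of_isAffine (P := @IsFinite)]
  refine ⟨inferInstance, ?_⟩
  have hcomp : (AffineSpace.homOfVector fU v).appTop.hom.comp
      (MvPolynomial.eval₂Hom ((𝔸(n; S) ↘ S).appTop).hom (AffineSpace.coord S)) =
      MvPolynomial.eval₂Hom fU.appTop.hom v := by
    apply MvPolynomial.ringHom_ext
    · intro a
      simp only [RingHom.coe_comp, Function.comp_apply, MvPolynomial.coe_eval₂Hom,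
        MvPolynomial.eval₂_C]
      rw [← CommRingCat.comp_apply, ← Scheme.Hom.comp_appTop, AffineSpace.homOfVector_over]
    · intro i
      simp only [RingHom.coe_comp, Function.comp_apply, MvPolynomial.coe_eval₂Hom,
        MvPolynomial.eval₂_X]
      exact AffineSpace.homOfVector_appTop_coord fU v i
  apply RingHom.Finite.of_comp_finite
    (f := MvPolynomial.eval₂Hom ((𝔸(n; S) ↘ S).appTop).hom (AffineSpace.coord S))
  rw [hcomp]
  exact h

variable (k : Type u) [Field k]

theorem ringKrullDim_Γ_affineSpace (n : ℕ) :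
    ringKrullDim Γ(𝔸(ULift.{u} (Fin n); Spec (CommRingCat.of k)), ⊤) = n := by
  have hK : IsField Γ(Spec (CommRingCat.of k), ⊤) :=
    AffSpFibre.isField_Γ_Spec _ (Field.toIsField k)
  let e := RingEquiv.ofBijective _
    (bijective_eval₂ (ULift.{u} (Fin n)) (Spec (CommRingCat.of k)))
  haveI : IsNoetherianRing Γ(Spec (CommRingCat.of k), ⊤) := by
    letI := hK.toField
    infer_instance
  rw [← ringKrullDim_eq_of_ringEquiv e, MvPolynomial.ringKrullDim_of_isNoetherianRing,
    ringKrullDim_eq_zero_of_isField hK]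
  simp

theorem topDim_affineSpace (n : ℕ) :
    topologicalKrullDim 𝔸(ULift.{u} (Fin n); Spec (CommRingCat.of k)) = n := by
  rw [← AffSpFibre.ringKrullDim_Γ, ringKrullDim_Γ_affineSpace]

instance (n : Type u) : IsDomain Γ(𝔸(n; Spec (CommRingCat.of k)), ⊤) := by
  haveI : Nonempty ↥(⊤ : (𝔸(n; Spec (CommRingCat.of k))).Opens) := by
    obtain ⟨x⟩ : Nonempty 𝔸(n; Spec (CommRingCat.of k)) := inferInstance
    exact ⟨⟨x, trivial⟩⟩
  infer_instance

end Groth.Agent.Helper14.DimFT
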