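import Mathlib
import Groth.Agent.Lib.Helper14.DimFT2

/-!
# Dimension and maps to affine space for schemes of finite type over a field
-/

set_option autoImplicit false
universe u
open AlgebraicGeometry CategoryTheory CategoryTheory.Limits TopologicalSpace

namespace Groth.Agent.Helper14.DimFT

variable (k : Type u) [Field k]

/-- Noether normalisation for affine schemes of finite type over a field. -/
theorem exists_finite_hom {U : Scheme.{u}} [IsAffine U] (fU : U ⟶ Spec (CommRingCat.of k))
    [LocallyOfFiniteType fU] (n : ℕ) (h : topologicalKrullDim U ≤ n) :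
    ∃ g : U ⟶ 𝔸(ULift.{u} (Fin n); Spec (CommRingCat.of k)),
      g ≫ (𝔸(ULift.{u} (Fin n); Spec (CommRingCat.of k)) ↘ Spec (CommRingCat.of k)) = fU ∧
      IsFinite g ∧ (topologicalKrullDim U = n → Function.Surjective g.base) := by
  have hK : IsField Γ(Spec (CommRingCat.of k), ⊤) :=
    AffSpFibre.isField_Γ_Spec _ (Field.toIsField k)
  have hφ : fU.appTop.hom.FiniteType :=
    (HasRingHomProperty.iff_of_isAffine (P := @LocallyOfFiniteType)).mp inferInstance
  have hd : ringKrullDim Γ(U, ⊤) ≤ n := by rw [AffSpFibre.ringKrullDim_Γ]; exact h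
  obtain ⟨v, hv⟩ := exists_finite_eval₂ hK fU.appTop.hom hφ n hd
  have hfin := isFinite_homOfVector fU (ULift.{u} (Fin n)) v hv
  refine ⟨AffineSpace.homOfVector fU v, AffineSpace.homOfVector_over fU v, hfin, ?_⟩
  intro hdim
  set g := AffineSpace.homOfVector fU v with hg
  have hχ : g.appTop.hom.Finite :=
    ((HasAffineProperty.iff_of_isAffine (P := @IsFinite)).mp hfin).2
  have hS : ringKrullDim Γ(U, ⊤) = n := by rw [AffSpFibre.ringKrullDim_Γ]; exact hdim
  have hsurj := FiniteSurj.comap_surjective_of_finite_of_dim_eq g.appTop.hom hχ n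
    (ringKrullDim_Γ_affineSpace k n) hS
  have h1 : Surjective (Spec.map g.appTop) := ⟨hsurj⟩
  have h2 : Surjective g :=
    (MorphismProperty.arrow_mk_iso_iff @Surjective (arrowIsoSpecΓOfIsAffine g)).mpr h1
  exact h2.surj

/-- coordinate projections of affine spaces are surjective. -/
theorem surjective_reindex (S : Scheme.{u}) {n d : ℕ} (hnd : n ≤ d) :
    Function.Surjective (AffineSpace.reindex
      (fun i : ULift.{u} (Fin n) => (ULift.up (Fin.castLE hnd i.down) : ULift.{u} (Fin d))) S).base := by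
  classical
  set ι : ULift.{u} (Fin n) → ULift.{u} (Fin d) := fun i => ULift.up (Fin.castLE hnd i.down) with hι
  let w : ULift.{u} (Fin d) → Γ(𝔸(ULift.{u} (Fin n); S), ⊤) := fun j =>
    if hj : j.down.val < n then AffineSpace.coord S (ULift.up ⟨j.down.val, hj⟩) else 0
  let σ : 𝔸(ULift.{u} (Fin n); S) ⟶ 𝔸(ULift.{u} (Fin d); S) :=
    AffineSpace.homOfVector (𝔸(ULift.{u} (Fin n); S) ↘ S) w
  have hσ : σ ≫ AffineSpace.reindex ι S = 𝟙 _ := by
    apply AffineSpace.hom_ext
    · rw [Category.assoc, AffineSpace.reindex_over, AffineSpace.homOfVector_over, Category.id_comp]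
    · intro i
      rw [Scheme.Hom.comp_appTop, CommRingCat.comp_apply, AffineSpace.reindex_appTop_coord,
        AffineSpace.homOfVector_appTop_coord]
      have hi : (ι i).down.val < n := i.down.2
      simp only [w, dif_pos hi]
      simp
      rfl
  intro z
  refine ⟨σ z, ?_⟩
  rw [← Scheme.Hom.comp_apply, hσ]
  rfl

/-- an integral ring map does not raise the dimension. -/
theorem ringKrullDim_le_of_isIntegral {R S : Type u} [CommRing R] [CommRing S] (φ : R →+* S)
    (hφ : φ.IsIntegral) : ringKrullDim S ≤ ringKrullDim R := by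
  refine le_trans ?_ (ringKrullDim_quotient_le (RingHom.ker φ))
  letI : Algebra (R ⧸ RingHom.ker φ) S := (RingHom.kerLift φ).toAlgebra
  have hcomp : (RingHom.kerLift φ).comp (Ideal.Quotient.mk (RingHom.ker φ)) = φ := by
    ext r
    simp
  have hint : (RingHom.kerLift φ).IsIntegral := by
    apply RingHom.IsIntegral.tower_top (Ideal.Quotient.mk (RingHom.ker φ)) (RingHom.kerLift φ)
    rw [hcomp]
    exact hφ
  haveI : Algebra.IsIntegral (R ⧸ RingHom.ker φ) S := ⟨hint⟩
  exact le_of_eq (Groth.Agent.Helper7.IntDim.ringKrullDim_eq_of_isIntegral_of_injective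
    (A := R ⧸ RingHom.ker φ) (B := S) (RingHom.kerLift_injective φ))

/-- the source of a finite morphism to affine `n`-space has dimension at most `n`. -/
theorem dim_le_of_isFinite {U : Scheme.{u}} (n : ℕ)
    (g : U ⟶ 𝔸(ULift.{u} (Fin n); Spec (CommRingCat.of k))) [IsFinite g] :
    topologicalKrullDim U ≤ n := by
  haveI : IsAffine U := isAffine_of_isAffineHom g
  have hχ : g.appTop.hom.Finite :=
    ((HasAffineProperty.iff_of_isAffine (P := @IsFinite)).mp inferInstance).2
  rw [← AffSpFibre.ringKrullDim_Γ U, ← ringKrullDim_Γ_affineSpace k n]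
  exact ringKrullDim_le_of_isIntegral _ hχ.to_isIntegral

open Groth.Agent.Helper16 in
/-- the source of a surjective morphism to affine `n`-space has dimension at least `n`. -/
theorem le_dim_of_surjective {U : Scheme.{u}} (fU : U ⟶ Spec (CommRingCat.of k))
    [LocallyOfFiniteType fU] (n : ℕ)
    (g : U ⟶ 𝔸(ULift.{u} (Fin n); Spec (CommRingCat.of k)))
    (hg : g ≫ (𝔸(ULift.{u} (Fin n); Spec (CommRingCat.of k)) ↘ Spec (CommRingCat.of k)) = fU)
    (hs : Function.Surjective g.base) : (n : WithBot ℕ∞) ≤ topologicalKrullDim U := by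
  let η : 𝔸(ULift.{u} (Fin n); Spec (CommRingCat.of k)) :=
    genericPoint 𝔸(ULift.{u} (Fin n); Spec (CommRingCat.of k))
  obtain ⟨u, hu⟩ := hs η
  haveI : LocallyOfFiniteType (g ≫ (𝔸(ULift.{u} (Fin n); Spec (CommRingCat.of k)) ↘
      Spec (CommRingCat.of k))) := by rw [hg]; infer_instance
  haveI : LocallyOfFiniteType g := locallyOfFiniteType_of_comp g
    (𝔸(ULift.{u} (Fin n); Spec (CommRingCat.of k)) ↘ Spec (CommRingCat.of k))
  have h1 := FTDim.td_comp g
    (𝔸(ULift.{u} (Fin n); Spec (CommRingCat.of k)) ↘ Spec (CommRingCat.of k)) u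
  have h2 := FTDim.dim_closure k
    (𝔸(ULift.{u} (Fin n); Spec (CommRingCat.of k)) ↘ Spec (CommRingCat.of k)) η
  have h3 : closure ({η} : Set 𝔸(ULift.{u} (Fin n); Spec (CommRingCat.of k))) = Set.univ :=
    (genericPoint_spec 𝔸(ULift.{u} (Fin n); Spec (CommRingCat.of k))).def
  have h4 := FTDim.dim_closure k fU u
  have h5 : topologicalKrullDim
      ↥(closure ({η} : Set 𝔸(ULift.{u} (Fin n); Spec (CommRingCat.of k)))) = n := by
    rw [h3, (Homeomorph.Set.univ _).isHomeomorph.topologicalKrullDim_eq, topDim_affineSpace]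
  rw [h5] at h2
  have h6 : n = FTDim.td
      (𝔸(ULift.{u} (Fin n); Spec (CommRingCat.of k)) ↘ Spec (CommRingCat.of k)) η := by
    exact_mod_cast h2
  have h7 : FTDim.td fU u = FTDim.td
      (𝔸(ULift.{u} (Fin n); Spec (CommRingCat.of k)) ↘ Spec (CommRingCat.of k)) (g u) +
        FTDim.td g u := by
    rw [← h1]
    congr 1
    exact hg.symm
  have h8 : n ≤ FTDim.td fU u := by
    rw [h7, hu, ← h6]
    exact Nat.le_add_right _ _
  calc (n : WithBot ℕ∞) ≤ (FTDim.td fU u : WithBot ℕ∞) := by exact_mod_cast h8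
    _ = topologicalKrullDim ↥(closure ({u} : Set U)) := h4.symm
    _ ≤ topologicalKrullDim U := topologicalKrullDim_subspace_le U _

/-- a nonempty affine scheme of finite type over a field has finite dimension. -/
theorem exists_nat_dim_eq {U : Scheme.{u}} [IsAffine U] [Nonempty U]
    (fU : U ⟶ Spec (CommRingCat.of k)) [LocallyOfFiniteType fU] :
    ∃ d : ℕ, topologicalKrullDim U = d := by
  have hK : IsField Γ(Spec (CommRingCat.of k), ⊤) :=
    AffSpFibre.isField_Γ_Spec _ (Field.toIsField k)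
  have hφ : fU.appTop.hom.FiniteType :=
    (HasRingHomProperty.iff_of_isAffine (P := @LocallyOfFiniteType)).mp inferInstance
  letI := hK.toField
  letI : Algebra Γ(Spec (CommRingCat.of k), ⊤) Γ(U, ⊤) := fU.appTop.hom.toAlgebra
  haveI : Algebra.FiniteType Γ(Spec (CommRingCat.of k), ⊤) Γ(U, ⊤) := hφ
  haveI : Nontrivial Γ(U, ⊤) := by
    by_contra hcon
    rw [not_nontrivial_iff_subsingleton] at hcon
    haveI : IsEmpty (PrimeSpectrum Γ(U, ⊤)) := inferInstance
    obtain ⟨x⟩ := ‹Nonempty U›
    exact IsEmpty.false (α := PrimeSpectrum Γ(U, ⊤)) (U.isoSpec.hom x)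
  obtain ⟨s, -, -, -, hdim⟩ := Groth.Agent.Helper18.DimFG.exists_noether
    (k := Γ(Spec (CommRingCat.of k), ⊤)) Γ(U, ⊤)
  exact ⟨s, by rw [← AffSpFibre.ringKrullDim_Γ, hdim]⟩

end Groth.Agent.Helper14.DimFT
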