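import Mathlib
import Groth.Prelude.Def_Cyc
import Groth.Agent.Lib.Helper14.LocQuotDim

/-!
# The local rings of the reduced closed subscheme on `closure {ξ}`
-/

namespace Groth.Agent.Helper14.SubschemeStalk
universe u
open TopologicalSpace AlgebraicGeometry CategoryTheory

/-- heights along a surjection. -/
theorem height_eq_of_surjective {R R' : Type*} [CommRing R] [CommRing R'] (φ : R →+* R')
    (hφ : Function.Surjective φ) (Q' : Ideal R') [Q'.IsPrime] :
    Q'.height = ((Q'.comap φ).map (Ideal.Quotient.mk (RingHom.ker φ))).height := by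
  let e : R ⧸ RingHom.ker φ ≃+* R' := RingHom.quotientKerEquivOfSurjective hφ
  rw [← e.height_comap Q']
  congr 1
  apply Ideal.comap_injective_of_surjective (Ideal.Quotient.mk (RingHom.ker φ))
    Ideal.Quotient.mk_surjective
  rw [Ideal.comap_map_of_surjective' _ Ideal.Quotient.mk_surjective, Ideal.mk_ker]
  have h1 : RingHom.ker φ ≤ Q'.comap φ := by
    intro a ha
    rw [Ideal.mem_comap, RingHom.mem_ker.mp ha]
    exact zero_mem _
  rw [sup_eq_left.mpr h1]
  ext a
  simp only [Ideal.mem_comap]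
  rfl

variable {X : Scheme.{u}}

/-- on an affine chart containing `ξ`, the vanishing ideal of `closure {ξ}` is the prime of `ξ`. -/
theorem ideal_vanishingIdeal_closure {U : X.Opens} (hU : IsAffineOpen U) (T : Closeds X) (ξ : X)
    (hξT : closure {ξ} = (T : Set X)) (hξU : ξ ∈ U) :
    (Scheme.IdealSheafData.vanishingIdeal T).ideal ⟨U, hU⟩ =
      (hU.primeIdealOf ⟨ξ, hξU⟩).asIdeal := by
  rw [Scheme.IdealSheafData.vanishingIdeal_ideal]
  have : hU.fromSpec ⁻¹' (T : Set X) = closure {hU.primeIdealOf ⟨ξ, hξU⟩} := by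
    rw [← hξT, hU.fromSpec.isOpenEmbedding.isOpenMap.preimage_closure_eq_closure_preimage
      hU.fromSpec.continuous]
    congr 1
    ext p
    simp only [Set.mem_preimage, Set.mem_singleton_iff]
    constructor
    · intro h
      apply hU.fromSpec.isOpenEmbedding.injective
      rw [h]
      exact (hU.fromSpec_primeIdealOf ⟨ξ, hξU⟩).symm
    · rintro rfl
      exact hU.fromSpec_primeIdealOf ⟨ξ, hξU⟩
  refine (congrArg PrimeSpectrum.vanishingIdeal this).trans ?_
  rw [PrimeSpectrum.vanishingIdeal_closure, PrimeSpectrum.vanishingIdeal_singleton]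

/-- **the local ring of the reduced subscheme on `closure {ξ}` at `w` has the dimension of
`O_{X,x}/𝔭_ξ`**. -/
theorem ringKrullDim_stalk_subscheme (T : Closeds X) (ξ : X) (hξT : closure {ξ} = (T : Set X))
    (w : ↥(Scheme.IdealSheafData.vanishingIdeal T).subscheme)
    (h : ξ ⤳ (Scheme.IdealSheafData.vanishingIdeal T).subschemeι w) :
    ringKrullDim ((Scheme.IdealSheafData.vanishingIdeal T).subscheme.presheaf.stalk w) =
      ringKrullDim (Cyc.LocQuot ((Scheme.IdealSheafData.vanishingIdeal T).subschemeι w) ξ h) := by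
  obtain ⟨U, hU, hxU, -⟩ := exists_isAffineOpen_mem_and_subset
    (x := (Scheme.IdealSheafData.vanishingIdeal T).subschemeι w) (U := (⊤ : X.Opens)) trivial
  have hξU : ξ ∈ U := h.mem_open U.isOpen hxU
  have hU' : IsAffineOpen ((Scheme.IdealSheafData.vanishingIdeal T).subschemeι ⁻¹ᵁ U) :=
    hU.preimage _
  have hwU' : w ∈ (Scheme.IdealSheafData.vanishingIdeal T).subschemeι ⁻¹ᵁ U := hxU
  rw [ResFieldBridge.ringKrullDim_stalk hU' w hwU',
    LocQuotDim.ringKrullDim_locQuot hU _ ξ hxU hξU h]
  congr 1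
  have hsurj := (Scheme.IdealSheafData.vanishingIdeal T).subschemeι_app_surjective ⟨U, hU⟩
  have hker := (Scheme.IdealSheafData.vanishingIdeal T).ker_subschemeι_app ⟨U, hU⟩
  haveI : (hU'.primeIdealOf ⟨w, hwU'⟩).asIdeal.IsPrime := (hU'.primeIdealOf ⟨w, hwU'⟩).isPrime
  rw [height_eq_of_surjective ((Scheme.IdealSheafData.vanishingIdeal T).subschemeι.app U).hom
    hsurj, hker, ideal_vanishingIdeal_closure hU T ξ hξT hξU]
  congr 2
  have := IsAffineOpen.comap_primeIdealOf_appLE
    (f := (Scheme.IdealSheafData.vanishingIdeal T).subschemeι) (x := w) U hU _ hU' le_rfl hwU'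
  rw [Scheme.Hom.appLE, ] at this
  have h2 := congrArg PrimeSpectrum.asIdeal this
  convert h2 using 2
  simp

end Groth.Agent.Helper14.SubschemeStalk
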