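import Mathlib
import Groth.Agent.Lib.Helper14.SubschemeStalk
import Groth.Agent.Lib.Helper14.PointwiseDim
import Groth.Agent.Lib.Helper14.CompEquidim
import Groth.Agent.Lib.Helper14.FibreClosure
import Groth.Agent.Lib.Helper14.EquidimAt
import Groth.Agent.Lib.Helper14.ClosedFibreDim

/-!
# Dimension bookkeeping for an irreducible closed subset and the closure of its image
(EGA IV 13.3.6 / 13.3.7)
-/

namespace Groth.Agent.Helper14.DimFour
universe u
open TopologicalSpace AlgebraicGeometry CategoryTheory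

theorem arith (a a' b' k k' F : WithBot ℕ∞) (n E a₀ : ℕ) (ha : a = a₀) (h1 : a' ≤ a)
    (h2 : F = k' + n) (h3 : F ≤ k + n) (h4 : b' + n ≤ a' + E) (h5 : (E : WithBot ℕ∞) ≤ F)
    (hb : b' = a + k) : a' = a ∧ k' = k ∧ F = E ∧ b' = a' + k' := by
  subst ha
  induction k using WithBot.recBotCoe with
  | bot =>
    exfalso
    rw [WithBot.bot_add] at h3
    have := h5.trans h3
    simp at this
  | coe k =>
  induction k using ENat.recTopCoe with
  | top =>
    exfalso
    have hb' : b' = ⊤ := by rw [hb]; rfl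
    rw [hb'] at h4
    have h6 : a' + (E : WithBot ℕ∞) ≤ ((a₀ + E : ℕ) : WithBot ℕ∞) := by
      push_cast
      exact add_le_add_left h1 _
    have h7 := h4.trans h6
    have h8 : ((⊤ : ℕ∞) : WithBot ℕ∞) + (n : WithBot ℕ∞) = ((⊤ : ℕ∞) : WithBot ℕ∞) := by
      rw [show (n : WithBot ℕ∞) = ((n : ℕ∞) : WithBot ℕ∞) from rfl, ← WithBot.coe_add, top_add]
    rw [show (⊤ : WithBot ℕ∞) = ((⊤ : ℕ∞) : WithBot ℕ∞) from rfl, h8] at h7
    have : ((a₀ + E : ℕ) : WithBot ℕ∞) = (((a₀ + E : ℕ) : ℕ∞) : WithBot ℕ∞) := rfl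
    rw [this, WithBot.coe_le_coe] at h7
    simp at h7
  | coe k =>
  induction F using WithBot.recBotCoe with
  | bot => simp at h5
  | coe F =>
  induction F using ENat.recTopCoe with
  | top =>
    exfalso
    have : ((⊤ : ℕ∞) : WithBot ℕ∞) ≤ (((k + n : ℕ) : ℕ∞) : WithBot ℕ∞) := by
      refine h3.trans (le_of_eq ?_)
      push_cast
      rfl
    rw [WithBot.coe_le_coe] at this
    simp at this
  | coe F =>
  induction k' using WithBot.recBotCoe with
  | bot => rw [WithBot.bot_add] at h2; simp at h2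
  | coe k' =>
  induction k' using ENat.recTopCoe with
  | top =>
    exfalso
    have h8 : ((⊤ : ℕ∞) : WithBot ℕ∞) + (n : WithBot ℕ∞) = ((⊤ : ℕ∞) : WithBot ℕ∞) := by
      rw [show (n : WithBot ℕ∞) = ((n : ℕ∞) : WithBot ℕ∞) from rfl, ← WithBot.coe_add, top_add]
    rw [h8, WithBot.coe_inj] at h2
    simp at h2
  | coe k' =>
  have hb' : b' = ((a₀ + k : ℕ) : WithBot ℕ∞) := by rw [hb]; push_cast; rfl
  subst hb'
  induction a' using WithBot.recBotCoe with
  | bot => rw [WithBot.bot_add] at h4; simp at h4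
  | coe a' =>
  induction a' using ENat.recTopCoe with
  | top =>
    exfalso
    have : ((⊤ : ℕ∞) : WithBot ℕ∞) ≤ (((a₀ : ℕ) : ℕ∞) : WithBot ℕ∞) := h1
    rw [WithBot.coe_le_coe] at this
    simp at this
  | coe a' =>
  have e1 : a' ≤ a₀ := by exact_mod_cast h1
  have e2 : F = k' + n := by exact_mod_cast h2
  have e3 : F ≤ k + n := by exact_mod_cast h3
  have e4 : a₀ + k + n ≤ a' + E := by exact_mod_cast h4
  have e5 : E ≤ F := by exact_mod_cast h5
  have r1 : a' = a₀ := by omega
  have r2 : k' = k := by omega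
  have r3 : F = E := by omega
  subst r1 r2 r3
  refine ⟨rfl, rfl, rfl, ?_⟩
  push_cast
  rfl

theorem locQuot_congr {Y : Scheme.{u}} (y y' η : Y) (hy : y = y') (h : η ⤳ y) (h' : η ⤳ y') :
    ringKrullDim (Cyc.LocQuot y η h) = ringKrullDim (Cyc.LocQuot y' η h') := by
  subst hy
  rfl

variable {X Y : Scheme.{u}} [IsLocallyNoetherian Y] (f : X ⟶ Y) [LocallyOfFiniteType f]

open Scheme.IdealSheafData in
/-- all the dimension facts at once. -/
theorem core (X' : Closeds X) (hirr : IsIrreducible (X' : Set X))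
    (w : ↥(vanishingIdeal X').subscheme)
    (v : ↥(vanishingIdeal
      (⟨closure (f '' (X' : Set X)), isClosed_closure⟩ : Closeds Y)).subscheme)
    (hv : (vanishingIdeal
      (⟨closure (f '' (X' : Set X)), isClosed_closure⟩ : Closeds Y)).subschemeι v =
        f ((vanishingIdeal X').subschemeι w))
    (η' : Y) (hη' : closure ({η'} : Set Y) = closure (f '' (X' : Set X))) :
    ∃ (n E a₀ : ℕ),
      ringKrullDim (Y.presheaf.stalk (f ((vanishingIdeal X').subschemeι w))) = a₀ ∧
      ringKrullDim ((vanishingIdeal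
        (⟨closure (f '' (X' : Set X)), isClosed_closure⟩ : Closeds Y)).subscheme.presheaf.stalk v)
        ≤ ringKrullDim (Y.presheaf.stalk (f ((vanishingIdeal X').subschemeι w))) ∧
      FlatMor.fibreDimAt ((vanishingIdeal X').subschemeι ≫ f) w =
        ringKrullDim ((((vanishingIdeal X').subschemeι ≫ f).fiber
          (((vanishingIdeal X').subschemeι ≫ f) w)).presheaf.stalk
          (((vanishingIdeal X').subschemeι ≫ f).asFiber w)) + (n : WithBot ℕ∞) ∧
      FlatMor.fibreDimAt f ((vanishingIdeal X').subschemeι w) =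
        ringKrullDim ((f.fiber (f ((vanishingIdeal X').subschemeι w))).presheaf.stalk
          (f.asFiber ((vanishingIdeal X').subschemeι w))) + (n : WithBot ℕ∞) ∧
      FlatMor.fibreDimAt ((vanishingIdeal X').subschemeι ≫ f) w ≤
        FlatMor.fibreDimAt f ((vanishingIdeal X').subschemeι w) ∧
      ringKrullDim ((vanishingIdeal X').subscheme.presheaf.stalk w) + (n : WithBot ℕ∞) ≤
        ringKrullDim ((vanishingIdeal
          (⟨closure (f '' (X' : Set X)), isClosed_closure⟩ : Closeds Y)).subscheme.presheaf.stalk v)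
          + (E : WithBot ℕ∞) ∧
      (E : WithBot ℕ∞) ≤ FlatMor.fibreDimAt ((vanishingIdeal X').subschemeι ≫ f) w ∧
      topologicalKrullDim ↥((X' : Set X) ∩ f ⁻¹' {η'}) = (E : WithBot ℕ∞) := by
  set ι := (vanishingIdeal X').subschemeι with hι
  set x := ι w with hxdef
  -- generic point
  obtain ⟨ξ, hξ⟩ := QuasiSober.sober hirr X'.isClosed
  have hξcl : closure {ξ} = (X' : Set X) := hξ.def
  have hxX' : x ∈ (X' : Set X) := by
    rw [← ClosedFibreDim.range_subschemeι_vanishingIdeal X']
    exact ⟨w, rfl⟩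
  have hsp : ξ ⤳ x := by
    rw [specializes_iff_mem_closure, hξcl]
    exact hxX'
  -- the image of the generic point
  have hfξcl : closure {f ξ} = closure (f '' (X' : Set X)) := by
    rw [← hξcl]
    apply subset_antisymm
    · apply closure_mono
      rintro _ rfl
      exact ⟨ξ, subset_closure rfl, rfl⟩
    · apply closure_minimal _ isClosed_closure
      have := image_closure_subset_closure_image (s := {ξ}) f.continuous
      rwa [Set.image_singleton] at this
  have hfξ : f ξ = η' := by
    have h1 : IsGenericPoint (f ξ) (closure (f '' (X' : Set X))) := hfξcl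
    have h2 : IsGenericPoint η' (closure (f '' (X' : Set X))) := hη'
    exact h1.eq h2
  obtain ⟨n, hn⟩ := ResFieldBridge.exists_nat_trdeg_residueField f x
  obtain ⟨E, hE⟩ := ResFieldBridge.exists_nat_trdeg_residueField f ξ
  -- dimension of the base local ring
  haveI : IsNoetherianRing (Y.presheaf.stalk (f x)) := inferInstance
  obtain ⟨a₀, ha₀⟩ : ∃ a₀ : ℕ, ringKrullDim (Y.presheaf.stalk (f x)) = a₀ := by
    have h1 : ringKrullDim (Y.presheaf.stalk (f x)) < ⊤ := ringKrullDim_lt_top
    have h0 : (0 : WithBot ℕ∞) ≤ ringKrullDim (Y.presheaf.stalk (f x)) :=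
      ringKrullDim_nonneg_of_nontrivial
    generalize ringKrullDim (Y.presheaf.stalk (f x)) = d at h0 h1
    induction d using WithBot.recBotCoe with
    | bot => simp at h0
    | coe d =>
      induction d using ENat.recTopCoe with
      | top => exact absurd h1 (lt_irrefl _)
      | coe d => exact ⟨d, rfl⟩
  -- stalks of the subschemes
  have hB' := SubschemeStalk.ringKrullDim_stalk_subscheme X' ξ hξcl w hsp
  have hspY : f ξ ⤳ (vanishingIdeal
      (⟨closure (f '' (X' : Set X)), isClosed_closure⟩ : Closeds Y)).subschemeι v := by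
    rw [hv]
    exact hsp.map f.continuous
  have hA' := SubschemeStalk.ringKrullDim_stalk_subscheme
    (⟨closure (f '' (X' : Set X)), isClosed_closure⟩ : Closeds Y) (f ξ) hfξcl v hspY
  rw [locQuot_congr _ _ (f ξ) hv hspY (hsp.map f.continuous)] at hA'
  -- the formula
  have hform := (PointwiseDim.formula_aux f x ξ hsp n E hn hE).1
  -- subscheme residue fields
  have hnw : @Algebra.trdeg (Y.residueField ((ι ≫ f) w)) ((vanishingIdeal X').subscheme.residueField w)
      _ _ ((ι ≫ f).residueFieldMap w).hom.toAlgebra = n := by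
    rw [ClosedFibreDim.trdeg_subschemeι f (vanishingIdeal X') w]
    exact hn
  -- the generic point upstairs
  obtain ⟨ξ', hξ'⟩ : ∃ ξ' : ↥(vanishingIdeal X').subscheme, ι ξ' = ξ := by
    have : ξ ∈ Set.range ι := by
      rw [ClosedFibreDim.range_subschemeι_vanishingIdeal X', ← hξcl]
      exact subset_closure rfl
    exact this
  have hξ'w : ξ' ⤳ w := by
    rw [← ι.isEmbedding.isInducing.specializes_iff, hξ']
    exact hsp
  have hEξ' : @Algebra.trdeg (Y.residueField ((ι ≫ f) ξ'))
      ((vanishingIdeal X').subscheme.residueField ξ') _ _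
      ((ι ≫ f).residueFieldMap ξ').hom.toAlgebra = E := by
    rw [ClosedFibreDim.trdeg_subschemeι f (vanishingIdeal X') ξ']
    exact RestrictedChevalley.trdeg_eq_of_eq f _ _ hξ' _ hE
  refine ⟨n, E, a₀, ha₀, ?_, ?_, ?_, ?_, ?_, ?_, ?_⟩
  · rw [hA']
    exact ringKrullDim_quotient_le _
  · exact FibreGeneric.fibreDimAt_eq_stalk_add_trdeg (ι ≫ f) w n hnw
  · exact FibreGeneric.fibreDimAt_eq_stalk_add_trdeg f x n hn
  · exact CompEquidim.fibreDimAt_subscheme_le f (vanishingIdeal X') w
  · rw [hB', hA']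
    exact hform
  · exact EquidimAt.trdeg_le_fibreDimAt (ι ≫ f) w ξ' hξ'w E hEξ'
  · rw [← hfξ, ← hξcl]
    exact FibreClosure.topDim_closure_inter_fibre f ξ E hE

end Groth.Agent.Helper14.DimFour
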