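import Mathlib
import Groth.Agent.Lib.Helper14.LocalDimSch
import Groth.Agent.Lib.Helper14.ResFieldBridge
import Groth.Agent.Lib.Helper14.AffStrat

set_option autoImplicit false
universe u

namespace Groth.Agent.Helper14.DomMax
open AlgebraicGeometry CategoryTheory Limits

/-- a point whose closure is an irreducible component has no proper generization. -/
theorem eq_of_specializes_of_mem_irreducibleComponents {T : Type*} [TopologicalSpace T] [T0Space T]
    {η z : T} (hη : closure {η} ∈ irreducibleComponents T) (h : z ⤳ η) : z = η := by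
  have hsub : closure {η} ⊆ closure {z} := h.closure_subset
  have hmax := hη.2 (isIrreducible_singleton.closure) hsub
  exact ((specializes_iff_closure_subset.mpr hmax).antisymm h |>.eq).symm

/-- A quasi-compact dominant morphism hits every maximal point of the target. -/
theorem exists_preimage_of_maximal {Y N : Scheme.{u}} (g : Y ⟶ N) [QuasiCompact g] [IsDominant g]
    (η : N) (hη : ∀ z : N, z ⤳ η → z = η) : ∃ y, g y = η := by
  classical
  obtain ⟨V, hV, hηV, -⟩ :=
    exists_isAffineOpen_mem_and_subset (X := N) (x := η) (U := ⊤) trivial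
  let q := hV.primeIdealOf ⟨η, hηV⟩
  have hqη : hV.fromSpec q = η := hV.fromSpec_primeIdealOf ⟨η, hηV⟩
  -- `q` is a minimal prime
  have hqmin : ∀ p' : PrimeSpectrum Γ(N, V), p' ≤ q → p' = q := by
    intro p' hp'
    have h1 := (ResFieldBridge.specializes_fromSpec_iff hV p' q).mpr hp'
    rw [hqη] at h1
    have h2 := hη _ h1
    exact hV.fromSpec.isOpenEmbedding.injective (h2.trans hqη.symm)
  -- compactness of the preimage
  have hcpt : IsCompact ((g ⁻¹ᵁ V : Y.Opens) : Set Y) :=
    QuasiCompact.isCompact_preimage (f := g) _ V.isOpen hV.isCompact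
  -- affine cover of the preimage
  have hcov : ∀ y : ↥(g ⁻¹ᵁ V : Y.Opens), ∃ W : Y.Opens, IsAffineOpen W ∧ y.1 ∈ W ∧
      W ≤ g ⁻¹ᵁ V := by
    intro y
    obtain ⟨W, hW, hyW, hWV⟩ :=
      exists_isAffineOpen_mem_and_subset (X := Y) (x := y.1) (U := g ⁻¹ᵁ V) y.2
    exact ⟨W, hW, hyW, hWV⟩
  choose W hWaff hyW hWV using hcov
  obtain ⟨t, hsub⟩ := hcpt.elim_finite_subcover
    (fun y : ↥(g ⁻¹ᵁ V : Y.Opens) => ((W y : Y.Opens) : Set Y)) (fun y => (W y).isOpen)
    (fun y hy => Set.mem_iUnion.mpr ⟨⟨y, hy⟩, hyW ⟨y, hy⟩⟩)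
  -- some chart has kernel inside `q`
  have key : ∃ y ∈ t, RingHom.ker (g.appLE V (W y) (hWV y)).hom ≤ q.asIdeal := by
    rw [← Ideal.IsPrime.prod_le q.isPrime]
    intro a ha
    by_contra haq
    have ha' : ∀ y ∈ t, a ∈ RingHom.ker (g.appLE V (W y) (hWV y)).hom := by
      intro y hy
      have := Ideal.prod_le_inf ha
      rw [Submodule.mem_finsetInf] at this
      exact this y hy
    have hηa : η ∈ N.basicOpen a := (LocalDimSch.mem_basicOpen_iff hV a η hηV).mpr haq
    obtain ⟨y₀, hz'⟩ := g.denseRange.exists_mem_open (N.basicOpen a).isOpen ⟨η, hηa⟩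
    have hz : g y₀ ∈ N.basicOpen a := hz'
    have hy₀V : y₀ ∈ (g ⁻¹ᵁ V : Y.Opens) := N.basicOpen_le a hz
    have := hsub hy₀V
    simp only [Set.mem_iUnion] at this
    obtain ⟨y, hyt, hy₀W⟩ := this
    have h1 : y₀ ∈ Y.basicOpen (g.app V a) := by
      rw [← Scheme.preimage_basicOpen]
      exact hz
    have h2 : y₀ ∈ Y.basicOpen ((g.appLE V (W y) (hWV y)) a) := by
      have : (g.appLE V (W y) (hWV y)) a = Y.presheaf.map (homOfLE (hWV y)).op (g.app V a) := rfl
      rw [this, Scheme.basicOpen_res]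
      exact ⟨hy₀W, h1⟩
    have h3 : (g.appLE V (W y) (hWV y)) a = 0 := ha' y hyt
    rw [h3, Scheme.basicOpen_zero] at h2
    exact h2
  obtain ⟨y, -, hker⟩ := key
  have H : q.asIdeal ∈ (Ideal.comap (g.appLE V (W y) (hWV y)).hom ⊥).minimalPrimes := by
    refine ⟨⟨q.isPrime, hker⟩, ?_⟩
    rintro p'' ⟨hp''prime, -⟩ hp''le
    have := hqmin ⟨p'', hp''prime⟩ hp''le
    rw [← this]
  obtain ⟨p', hp'prime, -, hp'q⟩ := Ideal.exists_comap_eq_of_mem_minimalPrimes _ _ H
  refine ⟨(hWaff y).fromSpec ⟨p', hp'prime⟩, ?_⟩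
  have hsq := hV.SpecMap_appLE_fromSpec g (hWaff y) (hWV y)
  rw [← Scheme.Hom.comp_apply, ← hsq, Scheme.Hom.comp_apply, ← hqη]
  congr 1
  exact PrimeSpectrum.ext hp'q

/-- A quasi-compact dominant morphism maps some generic point onto any given generic point. -/
theorem exists_generic_preimage {Y N : Scheme.{u}} (g : Y ⟶ N) [QuasiCompact g] [IsDominant g]
    (η : N) (hη : closure {η} ∈ irreducibleComponents N) :
    ∃ y : Y, closure {y} ∈ irreducibleComponents Y ∧ g y = η := by
  have hmax : ∀ z : N, z ⤳ η → z = η := fun z hz =>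
    eq_of_specializes_of_mem_irreducibleComponents hη hz
  obtain ⟨y₀, hy₀⟩ := exists_preimage_of_maximal g η hmax
  obtain ⟨y, hy, hyy₀⟩ := AffStrat.exists_gen_specializes y₀
  refine ⟨y, hy, hmax _ ?_⟩
  rw [← hy₀]
  exact hyy₀.map g.continuous

end Groth.Agent.Helper14.DomMax
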