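import Mathlib
import Groth.Agent.Lib.Helper14.PointwiseDim
import Groth.Agent.Lib.Helper14.FibreConst
import Groth.Agent.Lib.Helper14.FibreGeneric

/-!
# Dominant morphisms from irreducible schemes to bases of dimension at most one are equidimensional
-/

namespace Groth.Agent.Helper14.EquidimDim1
universe u
open TopologicalSpace AlgebraicGeometry CategoryTheory Topology

variable {X Y : Scheme.{u}} [IrreducibleSpace X] [IrreducibleSpace Y] [IsLocallyNoetherian Y]

/-- all components of all fibres of a dominant morphism locally of finite type from an irreducible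
scheme to a locally Noetherian irreducible scheme with local rings of dimension at most one have
the same dimension. -/
theorem isGen_eq (hY : ∀ y : Y, ringKrullDim (Y.presheaf.stalk y) ≤ 1) (f : X ⟶ Y)
    [LocallyOfFiniteType f] [IsDominant f] (e : ℕ) (he : FibreConst.IsGen f (genericPoint X) e)
    (z : X) (n : ℕ) (hz : FibreConst.IsGen f z n) : n = e := by
  have hξz : genericPoint X ⤳ z := genericPoint_specializes z
  apply le_antisymm
  · by_cases hzξ : genericPoint X = z
    · rw [← hzξ] at hz
      exact (hz.unique f he).le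
    have h1 := (PointwiseDim.formula_aux f z (genericPoint X) hξz n e hz.2 he.2).1
    have h2 : (1 : WithBot ℕ∞) ≤ ringKrullDim (Cyc.LocQuot z (genericPoint X) hξz) :=
      OpenGenericLift.one_le_dim_locQuot z (genericPoint X) hξz hzξ
    have h3 : ringKrullDim (Cyc.LocQuot (f z) (f (genericPoint X)) (hξz.map f.continuous)) ≤ 1 :=
      (ringKrullDim_quotient_le _).trans (hY (f z))
    have h4 : (1 : WithBot ℕ∞) + (n : WithBot ℕ∞) ≤ 1 + (e : WithBot ℕ∞) :=
      calc (1 : WithBot ℕ∞) + (n : WithBot ℕ∞)
          ≤ ringKrullDim (Cyc.LocQuot z (genericPoint X) hξz) + (n : WithBot ℕ∞) :=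
            add_le_add_left h2 _
        _ ≤ ringKrullDim (Cyc.LocQuot (f z) (f (genericPoint X)) (hξz.map f.continuous)) +
              (e : WithBot ℕ∞) := h1
        _ ≤ 1 + (e : WithBot ℕ∞) := add_le_add_left h3 _
    have h5 : ((1 + n : ℕ) : WithBot ℕ∞) ≤ ((1 + e : ℕ) : WithBot ℕ∞) := by
      push_cast
      exact h4
    have h6 : 1 + n ≤ 1 + e := by exact_mod_cast h5
    omega
  · have hopen := Groth.Agent.S0402.result f n
    have hzmem : z ∈ {x : X | FlatMor.fibreDimAt f x ≤ n} := hz.fibreDimAt_eq.le
    have hξmem := hξz.mem_open hopen hzmem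
    rw [Set.mem_setOf_eq, he.fibreDimAt_eq] at hξmem
    exact_mod_cast hξmem

theorem isEquidimAt_of_dim_le_one (hY : ∀ y : Y, ringKrullDim (Y.presheaf.stalk y) ≤ 1) (f : X ⟶ Y)
    [LocallyOfFiniteType f] [IsDominant f] (x : X) : EGA43.IsEquidimAt f x := by
  obtain ⟨e, he⟩ := ResFieldBridge.exists_nat_trdeg_residueField f (genericPoint X)
  have hgξ : FibreConst.IsGen f (genericPoint X) e :=
    ⟨fun x₁ _ hx₁ => (hx₁.antisymm (genericPoint_specializes x₁)).eq, he⟩
  have hfξ : f (genericPoint X) = genericPoint Y := FibreGeneric.map_genericPoint f f.denseRange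
  refine EquidimAt.of_spec f x e ⊤ trivial ?_ ?_
  · intro ξ _ hξmax
    have hξ : ξ = genericPoint X := (hξmax _ (genericPoint_specializes ξ)).symm
    rw [hξ, hfξ]
    exact ⟨fun η' hη' => (hη'.antisymm (genericPoint_specializes η')).eq,
      genericPoint_specializes _⟩
  · intro z _ hzmax
    obtain ⟨n, hn⟩ := ResFieldBridge.exists_nat_trdeg_residueField f z
    rw [hn, isGen_eq hY f e hgξ z n ⟨hzmax, hn⟩]

end Groth.Agent.Helper14.EquidimDim1
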