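import Mathlib
import Groth.Prelude.Def_Algz
import Groth.Prelude.Def_Found
import Groth.Prelude.Def_Cyc
import Groth.Agent.Lib.Helper14.CodimAdd
import Groth.Agent.Lib.Helper14.DimClosure

/-!
# The dimension function on a Jacobson catenary scheme with equidimensional components
-/

namespace Groth.Agent.Helper14.EquidimDimFun
universe u
open TopologicalSpace AlgebraicGeometry CategoryTheory Algz
open Groth.Agent.Helper14.DeltaZ

section top

variable {T : Type u} [TopologicalSpace T]

/-- an "interval" for the specialization order of a quasi-sober space is quasi-sober. -/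
theorem quasiSober_interval [QuasiSober T] (a b : T) :
    QuasiSober ↥{t : T | a ⤳ t ∧ t ⤳ b} := by
  constructor
  intro Z hZirr hZcl
  have himg : IsIrreducible (Subtype.val '' Z) :=
    hZirr.image _ continuous_subtype_val.continuousOn
  obtain ⟨g, hg⟩ := QuasiSober.sober himg.closure isClosed_closure
  have hgcl : closure ({g} : Set T) = closure (Subtype.val '' Z) := hg.def
  have h1 : a ⤳ g := by
    rw [specializes_iff_mem_closure]
    have hsub : closure (Subtype.val '' Z) ⊆ closure ({a} : Set T) := by
      apply closure_minimal _ isClosed_closure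
      rintro _ ⟨z, -, rfl⟩
      exact specializes_iff_mem_closure.mp z.2.1
    exact hsub (hgcl ▸ subset_closure rfl)
  obtain ⟨z, hz⟩ := hZirr.nonempty
  have h2 : g ⤳ b := by
    have : (z : T) ∈ closure ({g} : Set T) := by
      rw [hgcl]; exact subset_closure ⟨z, hz, rfl⟩
    exact (specializes_iff_mem_closure.mpr this).trans z.2.2
  refine ⟨⟨g, h1, h2⟩, ?_⟩
  change closure _ = Z
  rw [Topology.IsInducing.subtypeVal.closure_eq_preimage_closure_image, Set.image_singleton, hgcl,
    ← Topology.IsInducing.subtypeVal.closure_eq_preimage_closure_image, hZcl.closure_eq]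

/-- the dimension of an interval for the specialization order is the codimension. -/
theorem topDim_interval [QuasiSober T] [T0Space T] (a b : T) (h : a ⤳ b) :
    topologicalKrullDim ↥{t : T | a ⤳ t ∧ t ⤳ b} = ((codimPt a b h : ℕ∞) : WithBot ℕ∞) := by
  haveI := quasiSober_interval a b
  unfold topologicalKrullDim codimPt
  letI : PartialOrder ↥{t : T | a ⤳ t ∧ t ⤳ b} := specializationOrder _
  rw [Order.krullDim_eq_of_orderIso (irreducibleSetEquivPoints (α := ↥{t : T | a ⤳ t ∧ t ⤳ b})),
    Order.height_eq_krullDim_Iic]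
  apply Order.krullDim_eq_of_orderIso
  refine
    { toFun := fun t => ⟨⟨Specialization.toEquiv t.1, Specialization.toEquiv_le_toEquiv.mpr t.2.2⟩,
        Specialization.toEquiv_le_toEquiv.mpr t.2.1⟩
      invFun := fun x => ⟨Specialization.ofEquiv x.1.1,
        Specialization.toEquiv_le_toEquiv.mp x.2, Specialization.toEquiv_le_toEquiv.mp x.1.2⟩
      left_inv := fun t => rfl
      right_inv := fun x => rfl
      map_rel_iff' := ?_ }
  intro t t'
  change Specialization.toEquiv t.1 ≤ Specialization.toEquiv t'.1 ↔ t' ⤳ t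
  rw [Specialization.toEquiv_le_toEquiv, subtype_specializes_iff]

end top

section sch

variable {S : Scheme.{u}} [IsLocallyNoetherian S] [JacobsonSpace S]

omit [IsLocallyNoetherian S] in
theorem exists_closed_specializes (t : S) : ∃ s : S, t ⤳ s ∧ IsClosed ({s} : Set S) := by
  obtain ⟨s, hs1, hs2⟩ := nonempty_inter_closedPoints (Z := closure ({t} : Set S))
    ⟨t, subset_closure rfl⟩ isClosed_closure.isLocallyClosed
  exact ⟨s, specializes_iff_mem_closure.mpr hs1, hs2⟩

variable (h2 : ∀ s : S, CAlg.IsCatenary (S.presheaf.stalk s))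
  (h3 : ∀ S' ∈ irreducibleComponents (S : Type u), ∀ s ∈ S', IsClosed ({s} : Set S) →
      topologicalKrullDim (↥S' : Type u) = topologicalKrullDim ↥{t : S | t ∈ S' ∧ t ⤳ s})

include h3 in
omit [IsLocallyNoetherian S] [JacobsonSpace S] in
theorem codimPt_generic_eq (σ' : S) (hσ' : closure ({σ'} : Set S) ∈ irreducibleComponents (S : Type u))
    (s₁ s₂ : S) (h₁ : σ' ⤳ s₁) (h₂ : σ' ⤳ s₂) (hc₁ : IsClosed ({s₁} : Set S))
    (hc₂ : IsClosed ({s₂} : Set S)) : codimPt σ' s₁ h₁ = codimPt σ' s₂ h₂ := by
  have key : ∀ (s : S) (h : σ' ⤳ s), IsClosed ({s} : Set S) →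
      topologicalKrullDim ↥(closure ({σ'} : Set S)) = ((codimPt σ' s h : ℕ∞) : WithBot ℕ∞) := by
    intro s h hc
    have e := h3 _ hσ' s (specializes_iff_mem_closure.mp h) hc
    have hset : {t : S | t ∈ closure ({σ'} : Set S) ∧ t ⤳ s} = {t : S | σ' ⤳ t ∧ t ⤳ s} := by
      ext t
      simp only [Set.mem_ofPred_eq, specializes_iff_mem_closure]
    rw [hset, topDim_interval σ' s h] at e
    exact e
  have := (key s₁ h₁ hc₁).symm.trans (key s₂ h₂ hc₂)
  exact_mod_cast this

include h2 h3 in
omit [JacobsonSpace S] in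
theorem codimPt_indep (t s₁ s₂ : S) (h₁ : t ⤳ s₁) (h₂ : t ⤳ s₂) (hc₁ : IsClosed ({s₁} : Set S))
    (hc₂ : IsClosed ({s₂} : Set S)) : codimPt t s₁ h₁ = codimPt t s₂ h₂ := by
  have hcomp := irreducibleComponent_mem_irreducibleComponents t
  obtain ⟨σ', hσ'⟩ := QuasiSober.sober (isIrreducible_irreducibleComponent (x := t))
    isClosed_irreducibleComponent
  have hcl : closure ({σ'} : Set S) = irreducibleComponent t := hσ'.def
  have hσt : σ' ⤳ t := by
    rw [specializes_iff_mem_closure, hcl]
    exact mem_irreducibleComponent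
  have key := codimPt_generic_eq h3 σ' (hcl ▸ hcomp) s₁ s₂ (hσt.trans h₁) (hσt.trans h₂) hc₁ hc₂
  rw [CodimAdd.codimPt_add s₁ (h2 s₁) σ' t hσt h₁, CodimAdd.codimPt_add s₂ (h2 s₂) σ' t hσt h₂]
    at key
  exact (ENat.add_right_injective_of_ne_top (CodimAdd.codimPt_lt_top σ' t hσt).ne) key

/-- the dimension function: codimension of a closed point in the closure. -/
noncomputable def deltaN (t : S) : ℕ :=
  (codimPt t (exists_closed_specializes t).choose (exists_closed_specializes t).choose_spec.1).toNat

include h2 h3 in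
theorem codimPt_eq_deltaN (t s : S) (h : t ⤳ s) (hc : IsClosed ({s} : Set S)) :
    codimPt t s h = (deltaN t : ℕ∞) := by
  unfold deltaN
  rw [ENat.natCast_toNat (CodimAdd.codimPt_lt_top _ _ _).ne]
  exact codimPt_indep h2 h3 t s _ h _ hc (exists_closed_specializes t).choose_spec.2

include h2 h3 in
theorem deltaN_closed (s : S) (hc : IsClosed ({s} : Set S)) : deltaN s = 0 := by
  have := codimPt_eq_deltaN h2 h3 s s specializes_rfl hc
  rw [codimPt_self] at this
  exact_mod_cast this.symm

include h2 h3 in
/-- `deltaN` is a dimension function. -/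
theorem isDimFun_deltaN : Cyc.IsDimFun S (fun t => (deltaN t : ℤ)) := by
  intro x y hxy hne
  obtain ⟨s, hys, hsc⟩ := exists_closed_specializes y
  have hx := codimPt_eq_deltaN h2 h3 x s (hxy.trans hys) hsc
  have hy := codimPt_eq_deltaN h2 h3 y s hys hsc
  rw [CodimAdd.codimPt_add s (h2 s) x y hxy hys, hy] at hx
  obtain ⟨m, hm⟩ := ENat.ne_top_iff_exists.mp (CodimAdd.codimPt_lt_top x y hxy).ne
  rw [← hm] at hx
  have hx' : m + deltaN y = deltaN x := by exact_mod_cast hx
  have h1 := one_le_codimPt hxy hne
  rw [← hm] at h1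
  have h1' : 1 ≤ m := by exact_mod_cast h1
  constructor
  · simp only
    omega
  · intro himm
    have h3' := codimPt_le_one_of_immediate hxy himm
    rw [← hm] at h3'
    have : m ≤ 1 := by exact_mod_cast h3'
    simp only
    omega

end sch

section dimX

/-- **Dimension of an irreducible scheme locally of finite type over a Jacobson base with a
dimension function vanishing at closed points.** -/
theorem dim_eq {X S : Scheme.{u}} [JacobsonSpace S] (p : X ⟶ S) [LocallyOfFiniteType p]
    [IrreducibleSpace X] (δ : S → ℤ) (hS : Cyc.IsSetup S δ) (h0 : ∀ s, 0 ≤ δ s)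
    (hcl : ∀ s, IsClosed ({s} : Set S) → δ s = 0) (n : ℕ)
    (hn : @Algebra.trdeg (S.residueField (p (genericPoint X))) (X.residueField (genericPoint X)) _ _
      (p.residueFieldMap (genericPoint X)).hom.toAlgebra = n) :
    topologicalKrullDim X = (((δ (p (genericPoint X))).toNat + n : ℕ) : WithBot ℕ∞) := by
  haveI : IsLocallyNoetherian S := hS.1
  haveI : IsLocallyNoetherian X := LocallyOfFiniteType.isLocallyNoetherian p
  haveI : JacobsonSpace X := LocallyOfFiniteType.jacobsonSpace p
  let δX : X → ℤ := fun x => δ (p x) + DimClosure.trdegFun p x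
  have hcompat : Cyc.DeltaCompat p δX δ := by
    intro x
    obtain ⟨m, hm⟩ := ResFieldBridge.exists_nat_trdeg_residueField p x
    exact ⟨m, hm, by simp only [δX]; rw [DimClosure.trdegFun_eq p x m hm]⟩
  have hδX : Cyc.IsDimFun X δX := DimFun.isDimFun_of_deltaCompat p δ hS δX hcompat
  obtain ⟨t, hξt, htc⟩ := exists_closed_specializes (genericPoint X)
  have hpt : IsClosed ({p t} : Set S) := p.closePoints_subset_preimage_closedPoints htc
  obtain ⟨x, htx, -, hx0⟩ := DimClosure.exists_specializes_trdeg_eq_zero p t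
  have hxt : x = t := by
    have : x ∈ closure ({t} : Set X) := specializes_iff_mem_closure.mp htx
    rw [htc.closure_eq] at this
    exact this
  subst hxt
  have hct : δX x = 0 := by
    simp only [δX]
    rw [hcl _ hpt, DimClosure.trdegFun_eq p x 0 (by rw [hx0]; rfl)]
    simp
  have hc : ∀ y, genericPoint X ⤳ y → (0 : ℤ) ≤ δX y := by
    intro y _
    have := DimClosure.trdegFun_nonneg p y
    have := h0 (p y)
    simp only [δX]
    omega
  have key := DimClosure.dim_closure_of_isDimFun δX hδX (genericPoint X) x hξt 0 hc hct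
  have huniv : closure ({genericPoint X} : Set X) = Set.univ := (genericPoint_spec X).def
  rw [huniv] at key
  have hhom : topologicalKrullDim ↥(Set.univ : Set X) = topologicalKrullDim X :=
    IsHomeomorph.topologicalKrullDim_eq _ (Homeomorph.Set.univ X).isHomeomorph
  rw [← hhom, key]
  have hξ : δX (genericPoint X) = δ (p (genericPoint X)) + n := by
    simp only [δX]
    rw [DimClosure.trdegFun_eq p _ n hn]
  rw [hξ, sub_zero]
  have := h0 (p (genericPoint X))
  have e : (δ (p (genericPoint X)) + n).toNat = (δ (p (genericPoint X))).toNat + n := by omega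
  rw [e]

end dimX

end Groth.Agent.Helper14.EquidimDimFun
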