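import Mathlib
import Groth.Prelude.Def_EGA43
import Groth.Agent.Lib.Lead.DimF1
import Groth.Agent.Lib.Helper14.OpenAtLift
import Groth.Agent.Lib.Helper16.Sch.FibStalk

/-!
# EGA IV 14.2.1: the dimension formula when `f` is open at the generic points of the fibre
-/

namespace Groth.Agent.Helper14.OpenAtDimFormula
universe u
open AlgebraicGeometry CategoryTheory IsLocalRing

variable {X Y : Scheme.{u}} (f : X ⟶ Y)

/-- the image of a point of `Spec 𝒪_{X,x}` under `f`. -/
lemma map_fromSpecStalk (x : X) (Q : Spec (X.presheaf.stalk x)) :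
    f (X.fromSpecStalk x Q) =
      Y.fromSpecStalk (f x) (Spec.map (f.stalkMap x) Q) := by
  rw [← Scheme.Hom.comp_apply, ← Scheme.Hom.comp_apply, Scheme.SpecMap_stalkMap_fromSpecStalk]

lemma fromSpecStalk_injective (x : X) : Function.Injective (X.fromSpecStalk x) :=
  (X.fromSpecStalk x).isEmbedding.injective

lemma fromSpecStalk_specializes_iff (x : X) (Q P : Spec (X.presheaf.stalk x)) :
    X.fromSpecStalk x Q ⤳ X.fromSpecStalk x P ↔ Q.asIdeal ≤ P.asIdeal := by
  rw [(X.fromSpecStalk x).isEmbedding.isInducing.specializes_iff]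
  exact (PrimeSpectrum.le_iff_specializes Q P).symm

variable [IsLocallyNoetherian X]

/-- generizations of `f x` lift below any minimal prime of `𝔪_y 𝒪_{X,x}`. -/
theorem exists_prime_le_comap_eq (x : X)
    (h : ∀ z : ↥(f.fiber (f.base x)), f.asFiber x ∈ closure {z} →
      (∀ z' : ↥(f.fiber (f.base x)), z ∈ closure {z'} → z' = z) →
      EGA43.IsOpenAt f.base ((f.fiberι (f.base x)).base z))
    (P : Ideal (X.presheaf.stalk x))
    (hP : P ∈ (Ideal.map (f.stalkMap x).hom
      (maximalIdeal (Y.presheaf.stalk (f x)))).minimalPrimes)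
    (p : Spec (Y.presheaf.stalk (f x))) :
    ∃ Q : Spec (X.presheaf.stalk x), Q.asIdeal ≤ P ∧ Spec.map (f.stalkMap x) Q = p := by
  haveI hPp : P.IsPrime := hP.1.1
  let PP : Spec (X.presheaf.stalk x) := ⟨P, hPp⟩
  set φ := (f.stalkMap x).hom with hφ
  set zX : X := X.fromSpecStalk x PP with hzX
  have hzXx : zX ⤳ x := by
    have : zX ∈ Set.range (X.fromSpecStalk x) := ⟨PP, rfl⟩
    rw [Scheme.range_fromSpecStalk] at this
    exact this
  -- primes over the closed point
  have hcomapP : Spec.map (f.stalkMap x) PP = closedPoint (Y.presheaf.stalk (f x)) := by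
    apply PrimeSpectrum.ext
    have h1 : maximalIdeal (Y.presheaf.stalk (f x)) ≤ P.comap φ :=
      Ideal.map_le_iff_le_comap.mp hP.1.2
    have h2 : P.comap φ ≠ ⊤ := Ideal.IsPrime.ne_top (Ideal.comap_isPrime φ P)
    exact ((maximalIdeal.isMaximal _).eq_of_le h2 h1).symm
  have hfzX : f zX = f x := by
    rw [hzX, map_fromSpecStalk, hcomapP, Scheme.fromSpecStalk_closedPoint]
  -- the corresponding point of the fibre
  set z : ↥(f.fiber (f x)) := (f.fiberHomeo (f x)).symm ⟨zX, hfzX⟩ with hz
  have hιz : f.fiberι (f x) z = zX := f.fiberι_fiberHomeo_symm _ _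
  have hind := (f.fiberι (f x)).isEmbedding.isInducing
  have hz1 : f.asFiber x ∈ closure {z} := by
    rw [← specializes_iff_mem_closure, ← hind.specializes_iff, hιz, f.fiberι_asFiber]
    exact hzXx
  have hz2 : ∀ z' : ↥(f.fiber (f x)), z ∈ closure {z'} → z' = z := by
    intro z' hz'
    rw [← specializes_iff_mem_closure, ← hind.specializes_iff, hιz] at hz'
    have hz'x : f.fiberι (f x) z' ⤳ x := hz'.trans hzXx
    have hmem : f.fiberι (f x) z' ∈ Set.range (X.fromSpecStalk x) := by
      rw [Scheme.range_fromSpecStalk]; exact hz'x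
    obtain ⟨P', hP'⟩ := hmem
    have hle : P'.asIdeal ≤ P := by
      rw [← hP', hzX, fromSpecStalk_specializes_iff] at hz'
      exact hz'
    have hfz' : f (f.fiberι (f x) z') = f x := (f.fiberHomeo (f x) z').2
    have hcomapP' : Spec.map (f.stalkMap x) P' = closedPoint (Y.presheaf.stalk (f x)) := by
      apply fromSpecStalk_injective (X := Y) (f x)
      rw [← map_fromSpecStalk, hP', hfz', Scheme.fromSpecStalk_closedPoint]
    have hge : Ideal.map φ (maximalIdeal (Y.presheaf.stalk (f x))) ≤ P'.asIdeal := by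
      rw [Ideal.map_le_iff_le_comap]
      have := congrArg PrimeSpectrum.asIdeal hcomapP'
      exact this.ge
    have hPle : P ≤ P'.asIdeal := hP.2 ⟨P'.isPrime, hge⟩ hle
    have hPP' : P' = PP := PrimeSpectrum.ext (le_antisymm hle hPle)
    apply (f.fiberι (f x)).isEmbedding.injective
    rw [hιz, ← hP', hPP']
  have hopen : EGA43.IsOpenAt f.base zX := by
    have := h z hz1 hz2
    rwa [hιz] at this
  -- lift the generization
  have hy' : Y.fromSpecStalk (f x) p ⤳ f zX := by
    rw [hfzX]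
    have : Y.fromSpecStalk (f x) p ∈ Set.range (Y.fromSpecStalk (f x)) := ⟨p, rfl⟩
    rw [Scheme.range_fromSpecStalk] at this
    exact this
  obtain ⟨ξ, hξz, hfξ⟩ :=
    OpenAtLift.exists_specializes_of_isOpenAt_scheme f zX hopen _ hy'
  have hξmem : ξ ∈ Set.range (X.fromSpecStalk x) := by
    rw [Scheme.range_fromSpecStalk]; exact hξz.trans hzXx
  obtain ⟨Q, hQ⟩ := hξmem
  refine ⟨Q, ?_, ?_⟩
  · rw [← hQ, hzX, fromSpecStalk_specializes_iff] at hξz
    exact hξz
  · apply fromSpecStalk_injective (X := Y) (f x)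
    rw [← map_fromSpecStalk, hQ]
    exact hfξ

/-- **EGA IV 14.2.1**. -/
theorem dim_formula [IsLocallyNoetherian Y] (x : X)
    (h : ∀ z : ↥(f.fiber (f.base x)), f.asFiber x ∈ closure {z} →
      (∀ z' : ↥(f.fiber (f.base x)), z ∈ closure {z'} → z' = z) →
      EGA43.IsOpenAt f.base ((f.fiberι (f.base x)).base z)) :
    ringKrullDim (X.presheaf.stalk x) =
      ringKrullDim (Y.presheaf.stalk (f.base x)) +
        ringKrullDim ((f.fiber (f.base x)).presheaf.stalk (f.asFiber x)) := by
  letI alg : Algebra (Y.presheaf.stalk (f x)) (X.presheaf.stalk x) := (f.stalkMap x).hom.toAlgebra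
  haveI : IsLocalHom (algebraMap (Y.presheaf.stalk (f x)) (X.presheaf.stalk x)) :=
    inferInstanceAs (IsLocalHom (f.stalkMap x).hom)
  have key := Groth.Agent.Lead.DimF.main (Y.presheaf.stalk (f x)) (X.presheaf.stalk x) ?_
  · rw [key]
    congr 1
    exact ringKrullDim_eq_of_ringEquiv
      (Groth.Agent.Helper16.FibStalk.quotEquivStalkFiberOfEq f (f x) (f.asFiber x) x
        (f.fiberι_asFiber x))
  · intro p hp hpne q hq hqcomap
    set φ := (f.stalkMap x).hom with hφ
    have hφalg : algebraMap (Y.presheaf.stalk (f x)) (X.presheaf.stalk x) = φ := rfl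
    rw [hφalg] at hq hqcomap
    haveI hqp : q.IsPrime := hq.1.1
    have hge : Ideal.map φ (maximalIdeal (Y.presheaf.stalk (f x))) ≤ q := by
      rw [Ideal.map_le_iff_le_comap, hqcomap]
    obtain ⟨P, hPmin, hPq⟩ := Ideal.exists_minimalPrimes_le hge
    obtain ⟨Q, hQP, hQp⟩ := exists_prime_le_comap_eq f x h P hPmin ⟨p, hp⟩
    have hQcomap : Q.asIdeal.comap φ = p := congrArg PrimeSpectrum.asIdeal hQp
    have hQge : p.map φ ≤ Q.asIdeal := by
      rw [Ideal.map_le_iff_le_comap, hQcomap]
    have hqQ : q ≤ Q.asIdeal := hq.2 ⟨Q.isPrime, hQge⟩ (hQP.trans hPq)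
    have hQq : Q.asIdeal = q := le_antisymm (hQP.trans hPq) hqQ
    apply hpne
    rw [← hQcomap, hQq, hqcomap]

end Groth.Agent.Helper14.OpenAtDimFormula
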