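import Mathlib
import Groth.Prelude.Def_EGA43
import Groth.Prelude.Def_EGA4b
import Groth.Agent.Lib.Helper14.OpenAtDimFormula
import Groth.Agent.Lib.Helper14.EquidimAtMk
import Groth.Agent.Lib.Helper14.EquidimAt
import Groth.Agent.Lib.Helper14.FibreMax
import Groth.Agent.Lib.Helper14.FibreGeneric
import Groth.Agent.Lib.Helper14.FibreClosure
import Groth.Agent.Lib.Helper14.MinPrimePts
import Groth.Agent.Lib.Helper14.PointwiseDim
import Groth.Agent.Lib.Helper14.FibreDimIneq
import Groth.Agent.Lib.Helper14.RestrictedChevalley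
import Groth.Agent.Lib.Helper14.OpenGenericLift
import Groth.Agent.Lib.Helper14.MaxPoints

/-!
# EGA IV 14.?: equidimensional local ring + openness at the generic points of the fibre components
implies equidimensionality at the point
-/

set_option autoImplicit false
universe u
open AlgebraicGeometry CategoryTheory CategoryTheory.Limits EGA43 TopologicalSpace

namespace Groth.Agent.Helper14.EquidimOpen

variable {X Y : Scheme.{u}} [IsLocallyNoetherian Y] (f : X ⟶ Y) [LocallyOfFiniteType f]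

/-- the key computation: a maximal point `ξ` of `X` generizing `x` maps to a maximal point of `Y`
and has relative transcendence degree `dim_x X_y` -/
theorem key (x : X) (hX : EGA4.IsEquidim (X.presheaf.stalk x))
    (h : ∀ z : ↥(f.fiber (f.base x)), f.asFiber x ∈ closure {z} →
      (∀ z' : ↥(f.fiber (f.base x)), z ∈ closure {z'} → z' = z) →
      EGA43.IsOpenAt f.base ((f.fiberι (f.base x)).base z))
    (e : ℕ) (he : FlatMor.fibreDimAt f x = (e : WithBot ℕ∞))
    (ξ : X) (hξmax : ∀ ξ' : X, ξ' ⤳ ξ → ξ' = ξ) (hξx : ξ ⤳ x) :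
    (∀ η' : Y, η' ⤳ f.base ξ → η' = f.base ξ) ∧
      @Algebra.trdeg (Y.residueField (f.base ξ)) (X.residueField ξ) _ _
        (f.residueFieldMap ξ).hom.toAlgebra = e := by
  haveI : IsLocallyNoetherian X := LocallyOfFiniteType.isLocallyNoetherian f
  obtain ⟨n, hn⟩ := ResFieldBridge.exists_nat_trdeg_residueField f x
  obtain ⟨E, hE⟩ := ResFieldBridge.exists_nat_trdeg_residueField f ξ
  obtain ⟨a, ha⟩ := FibreDimIneq.exists_nat_dim_stalk (f.base x)
  obtain ⟨b, hb⟩ := FibreDimIneq.exists_nat_dim_stalk x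
  obtain ⟨a', ha', ha'a⟩ := FibreDimIneq.exists_nat_dim_locQuot (f.base x) (f.base ξ)
    (hξx.map f.continuous)
  have h1 := OpenAtDimFormula.dim_formula f x h
  have h2 := FibreGeneric.fibreDimAt_eq_stalk_add_trdeg f x n hn
  have h3 : ringKrullDim (Cyc.LocQuot x ξ hξx) = ringKrullDim (X.presheaf.stalk x) :=
    hX _ (MinPrimePts.ker_specMap_mem_minimalPrimes x ξ hξx hξmax)
  have h4 := (PointwiseDim.formula_aux f x ξ hξx n E hn hE).1
  -- E ≤ e
  have h5 : E ≤ e := by
    obtain ⟨x₁, -, hx₁x, hfx₁, n₁, hn₁, hle⟩ := RestrictedChevalley.rc f x ξ hξx E hE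
    have h6 := EquidimAt.trdeg_le_fibreDimAt f x x₁ hx₁x n₁ hn₁
    rw [he] at h6
    have : n₁ ≤ e := by exact_mod_cast h6
    omega
  -- the fibre local ring has finite dimension
  have hc : ∃ c : ℕ, ringKrullDim ((f.fiber (f.base x)).presheaf.stalk (f.asFiber x)) =
      (c : WithBot ℕ∞) := by
    haveI := SectionComp.isLocallyNoetherian_fiber f (f.base x)
    exact FibreDimIneq.exists_nat_dim_stalk (f.asFiber x)
  obtain ⟨c, hc⟩ := hc
  rw [hb, ha, hc] at h1
  rw [he, hc] at h2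
  rw [h3, hb, ha'] at h4
  rw [ha] at ha'a
  have e1 : b = a + c := by exact_mod_cast h1
  have e2 : e = c + n := by exact_mod_cast h2
  have e3 : b + n ≤ a' + E := by exact_mod_cast h4
  have e4 : a' ≤ a := by exact_mod_cast ha'a
  have e5 : a' = a := by omega
  have e6 : E = e := by omega
  refine ⟨?_, by rw [hE, e6]⟩
  intro η' hη'
  apply FibreClosure.maximal_of_locQuot_eq (f.base x) (f.base ξ) (hξx.map f.continuous) _ η' hη'
  rw [ha', ha, e5]

theorem isEquidimAt_of_isEquidim_of_isOpenAt (x : X) (hX : EGA4.IsEquidim (X.presheaf.stalk x))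
    (h : ∀ z : ↥(f.fiber (f.base x)), f.asFiber x ∈ closure {z} →
      (∀ z' : ↥(f.fiber (f.base x)), z ∈ closure {z'} → z' = z) →
      EGA43.IsOpenAt f.base ((f.fiberι (f.base x)).base z)) :
    EGA43.IsEquidimAt f x := by
  haveI : IsLocallyNoetherian X := LocallyOfFiniteType.isLocallyNoetherian f
  obtain ⟨z₀, e, -, -, -, -, he⟩ := EquidimAt.exists_maximal_trdeg_eq_fibreDimAt f x
  obtain ⟨U₁, hxU₁, hU₁⟩ := EquidimAt.exists_nhd_maximal_specializes x
  have hclosed := OpenGenericLift.isClosed_le_fibreDimAt f (e + 1)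
  let U₂ : X.Opens :=
    ⟨{w | ((e + 1 : ℕ) : WithBot ℕ∞) ≤ FlatMor.fibreDimAt f w}ᶜ, hclosed.isOpen_compl⟩
  have hxU₂ : x ∈ U₂ := by
    change ¬ ((e + 1 : ℕ) : WithBot ℕ∞) ≤ FlatMor.fibreDimAt f x
    rw [he]
    intro h'
    have : e + 1 ≤ e := by exact_mod_cast h'
    omega
  refine EquidimAt.of_spec f x e (U₁ ⊓ U₂) ⟨hxU₁, hxU₂⟩ ?_ ?_
  · intro ξ hξU hξmax
    have hξx : ξ ⤳ x := hU₁ ξ hξU.1 hξmax
    exact ⟨(key f x hX h e he ξ hξmax hξx).1, hξx.map f.continuous⟩
  · intro z hzU hzmax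
    obtain ⟨m, hm⟩ := ResFieldBridge.exists_nat_trdeg_residueField f z
    have h1 := FibreMax.fibreDimAt_eq_of_maximal f z hzmax m hm
    have h2 : ¬ ((e + 1 : ℕ) : WithBot ℕ∞) ≤ FlatMor.fibreDimAt f z := hzU.2
    rw [h1] at h2
    have h3 : m ≤ e := by
      by_contra hcon
      apply h2
      have : e + 1 ≤ m := by omega
      exact_mod_cast this
    obtain ⟨ξ, hξmax, hξz⟩ := MaxPoints.exists_maximal_specializes z
    have hξU₁ : ξ ∈ U₁ := hξz.mem_open U₁.isOpen hzU.1
    have hξx : ξ ⤳ x := hU₁ ξ hξU₁ hξmax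
    have hE := (key f x hX h e he ξ hξmax hξx).2
    obtain ⟨x₁, -, hx₁z, hfx₁, n₁, hn₁, hle⟩ := RestrictedChevalley.rc f z ξ hξz e hE
    have := hzmax x₁ hfx₁ hx₁z
    subst this
    have h4 : n₁ = m := by
      have := hn₁.symm.trans hm
      exact_mod_cast this
    have h5 : m = e := by omega
    rw [hm, h5]

end Groth.Agent.Helper14.EquidimOpen
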