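import Mathlib
import Groth.Prelude.Def_EGA43
import Groth.Prelude.Def_EGA4b
import Groth.Prelude.Def_CAlg2
import Groth.Agent.Lib.Helper14.EquidimOpen
import Groth.Agent.Lib.Helper14.ChevOpen3
import Groth.Agent.Lib.Helper14.SubschemeStalk

/-!
# Equidimensional morphisms over a geometrically unibranch point (EGA IV 14.4.6)
-/

set_option autoImplicit false
universe u
open AlgebraicGeometry CategoryTheory CategoryTheory.Limits EGA43 TopologicalSpace

namespace Groth.Agent.Helper14.EquidimGU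

variable {X Y : Scheme.{u}} [IsLocallyNoetherian Y] (f : X ⟶ Y) [LocallyOfFiniteType f]

/-- an equidimensional morphism is universally open at the maximal points of the fibre through
`x`, over a geometrically unibranch point -/
theorem isUnivOpenAt_of_isEquidimAt (x : X) (hEq : IsEquidimAt f x)
    (hy : CAlg2.IsGeomUnibranch (Y.presheaf.stalk (f.base x)))
    (z : X) (hzx : z ⤳ x) (hfz : f.base z = f.base x)
    (hzmax : ∀ x' : X, f.base x' = f.base z → x' ⤳ z → x' = z) : IsUnivOpenAt f z := by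
  obtain ⟨e, U, hxU, h1, h2, -⟩ := EquidimAt.spec f hEq
  have hzU : z ∈ U := hzx.mem_open U.isOpen hxU
  obtain ⟨ξ, hξmax, hξz⟩ := MaxPoints.exists_maximal_specializes z
  have hξU : ξ ∈ U := hξz.mem_open U.isOpen hzU
  obtain ⟨hηmax, hηy⟩ := h1 ξ hξU hξmax
  have hcomp : closure ({f.base ξ} : Set Y) ∈ irreducibleComponents (Y : Type u) :=
    FibreClosure.closure_mem_irreducibleComponents_of_maximal (f.base ξ) hηmax
  have hnb : closure {f.base ξ} ∈ nhds (f.base z) := by
    rw [hfz]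
    exact ChevNB.closure_mem_nhds_of_unique_component (f.base x) (f.base ξ) hy.1.1 hcomp hηy
  have hξfib : ∀ z' : X, f.base z' = f.base ξ → z' ⤳ ξ → z' = ξ := fun z' _ h => hξmax z' h
  have htr1 := h2 ξ hξU hξfib
  have htr2 := h2 z hzU hzmax
  exact ChevMain.isUnivOpenAt_of_trdeg_eq f z ξ hξz hnb (fun x' h1 h2 => hzmax x' h2 h1)
    (htr1.trans htr2.symm) (hfz ▸ hy)

/-- the fibre form of the previous statement -/
theorem forall_fibre_isUnivOpenAt (x : X) (hEq : IsEquidimAt f x)
    (hy : CAlg2.IsGeomUnibranch (Y.presheaf.stalk (f.base x))) :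
    ∀ z : ↥(f.fiber (f.base x)), f.asFiber x ∈ closure {z} →
      (∀ z' : ↥(f.fiber (f.base x)), z ∈ closure {z'} → z' = z) →
      IsUnivOpenAt f ((f.fiberι (f.base x)).base z) := by
  intro z hz hzmax
  have hfz : f.base ((f.fiberι (f.base x)).base z) = f.base x := (f.fiberHomeo (f.base x) z).2
  have hzx : (f.fiberι (f.base x)).base z ⤳ x := by
    have h1 : z ⤳ f.asFiber x := specializes_iff_mem_closure.mpr hz
    have h2 := h1.map (f.fiberι (f.base x)).continuous
    rwa [f.fiberι_asFiber] at h2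
  have hmax := FibreMax.maximal_fiberι f (f.base x) z
    (fun ζ' hζ' => hzmax ζ' (specializes_iff_mem_closure.mp hζ'))
  exact isUnivOpenAt_of_isEquidimAt f x hEq hy _ hzx hfz hmax

/-- equidimensionality at `x` passes to the reduced irreducible components through `x` -/
theorem isEquidimAt_subscheme (x : X) (hEq : IsEquidimAt f x) (ξ : X)
    (hξmax : ∀ ξ' : X, ξ' ⤳ ξ → ξ' = ξ) (T : Closeds X) (hT : closure {ξ} = (T : Set X))
    (x₀ : ↥(Scheme.IdealSheafData.vanishingIdeal T).subscheme)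
    (hx₀ : (Scheme.IdealSheafData.vanishingIdeal T).subschemeι.base x₀ = x) :
    ∃ e : ℕ, FlatMor.fibreDimAt f x = e ∧
      FlatMor.fibreDimAt ((Scheme.IdealSheafData.vanishingIdeal T).subschemeι ≫ f) x₀ = e ∧
      IsEquidimAt ((Scheme.IdealSheafData.vanishingIdeal T).subschemeι ≫ f) x₀ := by
  obtain ⟨e, U, hxU, h1, h2, h3⟩ := EquidimAt.spec f hEq
  set ι := (Scheme.IdealSheafData.vanishingIdeal T).subschemeι with hι
  have hrange : Set.range ι.base = closure {ξ} := by
    rw [hT]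
    exact ClosedFibreDim.range_subschemeι_vanishingIdeal T
  have hemb : Topology.IsEmbedding ι.base := ι.isEmbedding
  have hξx : ξ ⤳ x := by
    rw [specializes_iff_mem_closure, ← hrange, ← hx₀]
    exact ⟨x₀, rfl⟩
  have hξU : ξ ∈ U := hξx.mem_open U.isOpen hxU
  have hξfib : ∀ z' : X, f.base z' = f.base ξ → z' ⤳ ξ → z' = ξ := fun z' _ h => hξmax z' h
  have hE := h2 ξ hξU hξfib
  obtain ⟨ξ₀, hξ₀⟩ : ξ ∈ Set.range ι.base := by rw [hrange]; exact subset_closure rfl
  have hspec : ∀ w, ξ₀ ⤳ w := by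
    intro w
    rw [← hemb.isInducing.specializes_iff, hξ₀, specializes_iff_mem_closure, ← hrange]
    exact ⟨w, rfl⟩
  -- transcendence degrees at the maximal points of the fibres of the restriction
  have key : ∀ z' : ↥(Scheme.IdealSheafData.vanishingIdeal T).subscheme, ι.base z' ∈ U →
      (∀ w : ↥(Scheme.IdealSheafData.vanishingIdeal T).subscheme,
        (ι ≫ f).base w = (ι ≫ f).base z' → w ⤳ z' → w = z') →
      @Algebra.trdeg (Y.residueField ((ι ≫ f).base z'))
        ((Scheme.IdealSheafData.vanishingIdeal T).subscheme.residueField z') _ _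
        ((ι ≫ f).residueFieldMap z').hom.toAlgebra = e := by
    intro z' hz'U hz'max
    rw [ClosedFibreDim.trdeg_subschemeι f _ z']
    obtain ⟨m, hm⟩ := ResFieldBridge.exists_nat_trdeg_residueField f (ι.base z')
    have hle : m ≤ e := by
      have h4 := EquidimAt.trdeg_le_fibreDimAt f (ι.base z') (ι.base z') specializes_rfl m hm
      rw [h3 _ hz'U] at h4
      exact_mod_cast h4
    have hξz' : ξ ⤳ ι.base z' := by
      rw [← hξ₀]
      exact (hspec z').map ι.continuous
    obtain ⟨x₁, hξx₁, hx₁z, hfx₁, n₁, hn₁, hle'⟩ := RestrictedChevalley.rc f (ι.base z') ξ hξz' e hE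
    have hx₁mem : x₁ ∈ Set.range ι.base := by
      rw [hrange]
      exact specializes_iff_mem_closure.mp hξx₁
    obtain ⟨w, rfl⟩ := hx₁mem
    have hw := hz'max w hfx₁ (hemb.isInducing.specializes_iff.mp hx₁z)
    subst hw
    have h5 : n₁ = m := by
      have := hn₁.symm.trans hm
      exact_mod_cast this
    have h6 : m = e := by omega
    rw [hm, h6]
  have hEq' : IsEquidimAt (ι ≫ f) x₀ := by
    refine EquidimAt.of_spec (ι ≫ f) x₀ e (ι ⁻¹ᵁ U) (by change ι.base x₀ ∈ U; rw [hx₀]; exact hxU)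
      ?_ ?_
    · intro ξ' _ hξ'max
      have h4 : ξ' = ξ₀ := (hξ'max ξ₀ (hspec ξ')).symm
      subst h4
      have h5 : (ι ≫ f).base ξ' = f.base ξ := by
        rw [Scheme.Hom.comp_apply, hξ₀]
      rw [h5]
      have h6 : (ι ≫ f).base x₀ = f.base x := by
        rw [Scheme.Hom.comp_apply, hx₀]
      rw [h6]
      exact h1 ξ hξU hξmax
    · intro z' hz'U hz'max
      exact key z' hz'U hz'max
  obtain ⟨e', U', hx₀U', -, h2', h3'⟩ := EquidimAt.spec (ι ≫ f) hEq'
  -- `e' = e`
  have hee' : e' = e := by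
    obtain ⟨z', n', hz'x₀, hfz', hz'max, hn', -⟩ :=
      EquidimAt.exists_maximal_trdeg_eq_fibreDimAt (ι ≫ f) x₀
    have hz'U' : z' ∈ U' := hz'x₀.mem_open U'.isOpen hx₀U'
    have h7 := h2' z' hz'U' hz'max
    have hz'U : ι.base z' ∈ U := by
      have h8 : ι.base z' ⤳ x := by
        rw [← hx₀]
        exact hz'x₀.map ι.continuous
      exact h8.mem_open U.isOpen hxU
    have h9 := key z' hz'U hz'max
    have := h7.symm.trans h9
    exact_mod_cast this
  refine ⟨e, h3 x hxU, ?_, hEq'⟩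
  rw [h3' x₀ hx₀U', hee']

set_option maxHeartbeats 800000 in
/-- **EGA IV 14.4.6 a) ⇒ b)**: the local ring at a point where `f` is equidimensional, over a
geometrically unibranch point, is equidimensional -/
theorem isEquidim_stalk (x : X) (hEq : IsEquidimAt f x)
    (hy : CAlg2.IsGeomUnibranch (Y.presheaf.stalk (f.base x))) :
    EGA4.IsEquidim (X.presheaf.stalk x) := by
  haveI : IsLocallyNoetherian X := LocallyOfFiniteType.isLocallyNoetherian f
  intro P hP
  obtain ⟨ξ, hξx, hker, hξmax⟩ := MinPrimePts.exists_maximal_of_mem_minimalPrimes x P hP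
  subst hker
  change ringKrullDim (Cyc.LocQuot x ξ hξx) = _
  let T : Closeds X := ⟨closure {ξ}, isClosed_closure⟩
  have hrange : Set.range (Scheme.IdealSheafData.vanishingIdeal T).subschemeι.base = closure {ξ} :=
    ClosedFibreDim.range_subschemeι_vanishingIdeal T
  obtain ⟨x₀, hx₀⟩ : x ∈ Set.range (Scheme.IdealSheafData.vanishingIdeal T).subschemeι.base := by
    rw [hrange]
    exact specializes_iff_mem_closure.mp hξx
  subst hx₀
  set ι := (Scheme.IdealSheafData.vanishingIdeal T).subschemeι with hι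
  obtain ⟨e, hfe, hge, hEq'⟩ := isEquidimAt_subscheme f (ι.base x₀) hEq ξ hξmax T rfl x₀ rfl
  haveI : IsLocallyNoetherian (Scheme.IdealSheafData.vanishingIdeal T).subscheme :=
    LocallyOfFiniteType.isLocallyNoetherian (ι ≫ f)
  have h1 := OpenAtDimFormula.dim_formula f (ι.base x₀) (fun z hz hzmax =>
    ChevOpen.isOpenAt_of_isUnivOpenAt f _ (forall_fibre_isUnivOpenAt f (ι.base x₀) hEq hy z hz hzmax))
  have hy' : CAlg2.IsGeomUnibranch (Y.presheaf.stalk ((ι ≫ f).base x₀)) := hy
  have h2 := OpenAtDimFormula.dim_formula (ι ≫ f) x₀ (fun z hz hzmax =>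
    ChevOpen.isOpenAt_of_isUnivOpenAt (ι ≫ f) _
      (forall_fibre_isUnivOpenAt (ι ≫ f) x₀ hEq' hy' z hz hzmax))
  obtain ⟨n, hn⟩ := ResFieldBridge.exists_nat_trdeg_residueField f (ι.base x₀)
  have hn' : @Algebra.trdeg (Y.residueField ((ι ≫ f).base x₀))
      ((Scheme.IdealSheafData.vanishingIdeal T).subscheme.residueField x₀) _ _
      ((ι ≫ f).residueFieldMap x₀).hom.toAlgebra = n := by
    rw [ClosedFibreDim.trdeg_subschemeι f _ x₀]
    exact hn
  have h3 := FibreGeneric.fibreDimAt_eq_stalk_add_trdeg f (ι.base x₀) n hn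
  have h4 := FibreGeneric.fibreDimAt_eq_stalk_add_trdeg (ι ≫ f) x₀ n hn'
  have h5 := SubschemeStalk.ringKrullDim_stalk_subscheme T ξ rfl x₀ hξx
  rw [← h5]
  obtain ⟨a, ha⟩ := FibreDimIneq.exists_nat_dim_stalk (f.base (ι.base x₀))
  have ha' : ringKrullDim (Y.presheaf.stalk ((ι ≫ f).base x₀)) = (a : WithBot ℕ∞) := ha
  obtain ⟨b, hb⟩ := FibreDimIneq.exists_nat_dim_stalk (ι.base x₀)
  obtain ⟨b', hb'⟩ := FibreDimIneq.exists_nat_dim_stalk x₀
  obtain ⟨c, hc⟩ : ∃ c : ℕ, ringKrullDim ((f.fiber (f.base (ι.base x₀))).presheaf.stalk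
      (f.asFiber (ι.base x₀))) = (c : WithBot ℕ∞) := by
    haveI := SectionComp.isLocallyNoetherian_fiber f (f.base (ι.base x₀))
    exact FibreDimIneq.exists_nat_dim_stalk _
  obtain ⟨c', hc'⟩ : ∃ c' : ℕ, ringKrullDim (((ι ≫ f).fiber ((ι ≫ f).base x₀)).presheaf.stalk
      ((ι ≫ f).asFiber x₀)) = (c' : WithBot ℕ∞) := by
    haveI := SectionComp.isLocallyNoetherian_fiber (ι ≫ f) ((ι ≫ f).base x₀)
    exact FibreDimIneq.exists_nat_dim_stalk _
  rw [hb, ha, hc] at h1
  rw [hb', ha', hc'] at h2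
  rw [hfe, hc] at h3
  rw [hge, hc'] at h4
  rw [hb, hb']
  have e1 : b = a + c := by exact_mod_cast h1
  have e2 : b' = a + c' := by exact_mod_cast h2
  have e3 : e = c + n := by exact_mod_cast h3
  have e4 : e = c' + n := by exact_mod_cast h4
  have : b' = b := by omega
  rw [this]


end Groth.Agent.Helper14.EquidimGU
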