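import Mathlib
import Groth.Agent.Lib.Helper15.QsDecent

set_option autoImplicit false
universe u

namespace Groth.Agent.Helper14.EtFibSq
open AlgebraicGeometry CategoryTheory Limits

/-- the canonical point `Spec κ(v') ⟶ b⁻¹(b v')` of the fibre of an étale morphism is étale. -/
theorem etale_pointOfFiber {V V' : Scheme.{u}} (b : V' ⟶ V) [Etale b] (v' : V') :
    ∃ χ : Spec (V'.residueField v') ⟶ b.fiber (b v'),
      χ ≫ b.fiberι (b v') = V'.fromSpecResidueField v' ∧
      χ ≫ b.fiberToSpecResidueField (b v') = Spec.map (b.residueFieldMap v') ∧ Etale χ := by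
  let χ : Spec (V'.residueField v') ⟶ b.fiber (b v') :=
    pullback.lift (V'.fromSpecResidueField v') (Spec.map (b.residueFieldMap v'))
      (by rw [Scheme.Hom.SpecMap_residueFieldMap_fromSpecResidueField])
  have h1 : χ ≫ b.fiberι (b v') = V'.fromSpecResidueField v' := pullback.lift_fst _ _ _
  have h2 : χ ≫ b.fiberToSpecResidueField (b v') = Spec.map (b.residueFieldMap v') :=
    pullback.lift_snd _ _ _
  refine ⟨χ, h1, h2, ?_⟩
  haveI : Mono (χ ≫ b.fiberι (b v')) := by rw [h1]; infer_instance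
  haveI : Mono χ := mono_of_mono χ (b.fiberι (b v'))
  haveI : Etale (b.fiberToSpecResidueField (b v')) :=
    inferInstanceAs (Etale (pullback.snd b (V.fromSpecResidueField (b v'))))
  haveI : IsOpenImmersion χ :=
    Groth.Agent.Helper15.QsDecent.isOpenImmersion_of_mono_to_etale_over_field χ
      (k := V.residueField (b v')) (b.fiberToSpecResidueField (b v'))
  infer_instance

theorem etale_fiberMap {U U' V V' : Scheme.{u}} (h : U ⟶ V) (h' : U' ⟶ V') (a : U' ⟶ U)
    (b : V' ⟶ V) [Etale a] [Etale b] (comm : h' ≫ b = a ≫ h) (v' : V')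
    (φ : h'.fiber v' ⟶ h.fiber (b v')) (hφ1 : φ ≫ h.fiberι (b v') = h'.fiberι v' ≫ a)
    (hφ2 : φ ≫ h.fiberToSpecResidueField (b v') =
      h'.fiberToSpecResidueField v' ≫ Spec.map (b.residueFieldMap v')) :
    Etale φ := by
  obtain ⟨χ, hχ1, hχ2, hχ⟩ := etale_pointOfFiber b v'
  let G := pullback h' (b.fiberι (b v'))
  let p1 : G ⟶ U' := pullback.fst _ _
  let p2 : G ⟶ b.fiber (b v') := pullback.snd _ _
  have sq1 : IsPullback p1 p2 h' (b.fiberι (b v')) := IsPullback.of_hasPullback _ _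
  have sq2 : IsPullback (b.fiberι (b v')) (b.fiberToSpecResidueField (b v')) b
      (V.fromSpecResidueField (b v')) := IsPullback.of_hasPullback _ _
  have sq3 : IsPullback p1 (p2 ≫ b.fiberToSpecResidueField (b v')) (h' ≫ b)
      (V.fromSpecResidueField (b v')) := sq1.paste_vert sq2
  have sq4 : IsPullback (h.fiberι (b v')) (h.fiberToSpecResidueField (b v')) h
      (V.fromSpecResidueField (b v')) := IsPullback.of_hasPullback _ _
  let θ : G ⟶ h.fiber (b v') := pullback.lift (p1 ≫ a) (p2 ≫ b.fiberToSpecResidueField (b v')) (by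
    rw [Category.assoc, ← comm]; exact sq3.w)
  have hθ1 : θ ≫ h.fiberι (b v') = p1 ≫ a := pullback.lift_fst _ _ _
  have hθ2 : θ ≫ h.fiberToSpecResidueField (b v') = p2 ≫ b.fiberToSpecResidueField (b v') :=
    pullback.lift_snd _ _ _
  have sq5 : IsPullback p1 θ a (h.fiberι (b v')) := by
    refine IsPullback.of_bot ?_ hθ1.symm sq4
    rw [hθ2, ← comm]
    exact sq3
  haveI : Etale θ := MorphismProperty.of_isPullback (P := @Etale) sq5 inferInstance
  let ψ : h'.fiber v' ⟶ G := pullback.lift (h'.fiberι v') (h'.fiberToSpecResidueField v' ≫ χ) (by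
    rw [Category.assoc, hχ1]; exact h'.fiber_fac v')
  have hψ1 : ψ ≫ p1 = h'.fiberι v' := pullback.lift_fst _ _ _
  have hψ2 : ψ ≫ p2 = h'.fiberToSpecResidueField v' ≫ χ := pullback.lift_snd _ _ _
  have sq6 : IsPullback ψ (h'.fiberToSpecResidueField v') p2 χ := by
    refine IsPullback.of_right ?_ hψ2 sq1
    rw [hψ1, hχ1]
    exact IsPullback.of_hasPullback _ _
  haveI : Etale ψ := MorphismProperty.of_isPullback (P := @Etale) sq6.flip hχ
  have e1 : φ ≫ h.fiberι (b v') = (ψ ≫ θ) ≫ h.fiberι (b v') := by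
    rw [hφ1, Category.assoc, hθ1, ← Category.assoc, hψ1]
  have e2 : φ ≫ h.fiberToSpecResidueField (b v') =
      (ψ ≫ θ) ≫ h.fiberToSpecResidueField (b v') := by
    rw [hφ2, Category.assoc, hθ2, ← Category.assoc, hψ2, Category.assoc, hχ2]
  have : φ = ψ ≫ θ := sq4.hom_ext e1 e2
  rw [this]
  infer_instance

end Groth.Agent.Helper14.EtFibSq
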