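import Mathlib
import Groth.Agent.Lib.Helper14.RegAscent
import Groth.Agent.Lib.Lead.Hom14

/-!
# Flat, unramified, essentially finite type local homomorphisms: regularity and dimension
-/

namespace Groth.Agent.Helper14.EtaleLocal

open IsLocalRing Groth.Agent.Lead

universe u

variable (A B : Type u) [CommRing A] [CommRing B] [IsLocalRing A] [IsLocalRing B] [Algebra A B]
  [IsLocalHom (algebraMap A B)] [Module.Flat A B] [Algebra.EssFiniteType A B]
  [Algebra.FormallyUnramified A B]

theorem isRegularLocalRing_of_source [IsRegularLocalRing A] : IsRegularLocalRing B := by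
  haveI : IsNoetherianRing B := Algebra.EssFiniteType.isNoetherianRing A B
  have hmap : (maximalIdeal A).map (algebraMap A B) = maximalIdeal B :=
    Algebra.FormallyUnramified.map_maximalIdeal
  apply RegAscent.isRegularLocalRing_of_flat_of_fibre A B
  rw [hmap]
  change IsRegularLocalRing (ResidueField B)
  infer_instance

theorem isRegularLocalRing_of_target [IsNoetherianRing A] [IsRegularLocalRing B] :
    IsRegularLocalRing A :=
  Hom.isRegularLocalRing_of_flat A B

theorem isRegularLocalRing_iff [IsNoetherianRing A] :
    IsRegularLocalRing B ↔ IsRegularLocalRing A :=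
  ⟨fun _ => isRegularLocalRing_of_target A B, fun _ => isRegularLocalRing_of_source A B⟩

theorem ringKrullDim_eq [IsNoetherianRing A] : ringKrullDim B = ringKrullDim A := by
  haveI : IsNoetherianRing B := Algebra.EssFiniteType.isNoetherianRing A B
  have hmap : (maximalIdeal A).map (algebraMap A B) = maximalIdeal B :=
    Algebra.FormallyUnramified.map_maximalIdeal
  haveI : (maximalIdeal B).LiesOver (maximalIdeal A) :=
    ⟨(((local_hom_TFAE (algebraMap A B)).out 0 4 rfl rfl).mp inferInstance).symm⟩
  have h := Ideal.height_eq_height_add_of_liesOver_of_hasGoingDown (maximalIdeal A) (maximalIdeal B)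
  have h0 : (Ideal.map (Ideal.Quotient.mk (Ideal.map (algebraMap A B) (maximalIdeal A)))
      (maximalIdeal B)).height = 0 := by
    have hbot : Ideal.map (Ideal.Quotient.mk (Ideal.map (algebraMap A B) (maximalIdeal A)))
        (maximalIdeal B) = ⊥ := by
      rw [hmap, Ideal.map_quotient_self]
    haveI : Nontrivial (B ⧸ Ideal.map (algebraMap A B) (maximalIdeal A)) := by
      rw [hmap]; infer_instance
    rw [hbot, Ideal.height_bot]
  rw [h0, add_zero] at h
  rw [← IsLocalRing.maximalIdeal_height_eq_ringKrullDim,
    ← IsLocalRing.maximalIdeal_height_eq_ringKrullDim, h]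

end Groth.Agent.Helper14.EtaleLocal
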