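import Mathlib
import Groth.Prelude
import Groth.Agent.S2036
import Groth.Agent.Lib.Helper14.FSFlat
import Groth.Agent.Lib.Helper14.AdicFSGeomReg
import Groth.Agent.Lib.Helper14.AdicFSSepResidue
import Groth.Agent.Lib.Helper9.SepFS

/-!
# The closed fibre: geometric regularity and formal smoothness (EGA 0_IV 19.7.1 (b) ⇔ (c))
-/

set_option autoImplicit false
set_option linter.unusedSectionVars false
set_option linter.style.haveILetI false
set_option linter.unusedVariables false

universe u

namespace Groth.Agent.Helper14.FSFibre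

open IsLocalRing TensorProduct

/-- Over a field, a geometrically regular Noetherian local algebra is formally smooth for the
adic topology (any characteristic). -/
theorem adicFS_of_geomRegular {k R : Type u} [Field k] [CommRing R] [IsLocalRing R]
    [IsNoetherianRing R] [Algebra k R] (h : CAlg.IsGeometricallyRegular k R) :
    CAlgX.IsAdicFormallySmooth k R (maximalIdeal R) := by
  obtain ⟨p, hpc⟩ := CharP.exists k
  rcases CharP.char_is_prime_or_zero k p with hp | hp
  · haveI := Fact.mk hp
    exact (Groth.Agent.S2036.result p).mp h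
  · subst hp
    haveI : CharZero k := CharP.charP_to_charZero k
    have hreg : IsRegularRing (k ⊗[k] R) := h k inferInstance
    haveI : IsRegularRing R :=
      IsRegularRing.of_ringEquiv (Algebra.TensorProduct.lid k R).toRingEquiv
    have hregL : IsRegularLocalRing R := IsRegularLocalRing.of_isRegularRing_of_isLocalRing R
    haveI : Algebra.IsGeometricallyReduced k (ResidueField R) :=
      Groth.Agent.Helper9.SepFS.isGeometricallyReduced_of_perfectField
    obtain ⟨n, e, he⟩ := Groth.Agent.Helper14.AdicFSSepResidue.general_b k R hregL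
    exact Groth.Agent.Helper14.AdicFSSepResidue.of_b k R n e he

/-- Adic formal smoothness does not change when the base ring is replaced by an isomorphic one
(other direction). -/
theorem to_surjective_base {R R' S : Type u} [CommRing R] [CommRing R'] [CommRing S]
    [Algebra R R'] [Algebra R S] [Algebra R' S] [IsScalarTower R R' S]
    (hsurj : Function.Surjective (algebraMap R R')) (𝔫 : Ideal S)
    (h : CAlgX.IsAdicFormallySmooth R S 𝔫) : CAlgX.IsAdicFormallySmooth R' S 𝔫 := by
  intro C _ _ J hJ ψ hψ
  letI : Algebra R C := ((algebraMap R' C).comp (algebraMap R R')).toAlgebra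
  haveI : IsScalarTower R R' C := IsScalarTower.of_algebraMap_eq fun r => rfl
  haveI : IsScalarTower R R' (C ⧸ J) := IsScalarTower.of_algebraMap_eq fun r => rfl
  obtain ⟨χ, hχ⟩ := h C J hJ (ψ.restrictScalars R) hψ
  let χ' : S →ₐ[R'] C :=
    { χ.toRingHom with
      commutes' := fun r' => by
        obtain ⟨r, rfl⟩ := hsurj r'
        show χ (algebraMap R' S (algebraMap R R' r)) = algebraMap R' C (algebraMap R R' r)
        rw [← IsScalarTower.algebraMap_apply, ← IsScalarTower.algebraMap_apply, χ.commutes] }
  refine ⟨χ', ?_⟩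
  ext s
  exact DFunLike.congr_fun hχ s

/-- The closed fibre, as a tensor product with a residue field `k'` of `A`, is geometrically
regular iff `B/𝔪B` is formally smooth over `A/𝔪`. -/
theorem fibre_iff {A B : Type u} [CommRing A] [CommRing B] [IsLocalRing A] [IsLocalRing B]
    [IsNoetherianRing A] [IsNoetherianRing B] [Algebra A B] [IsLocalHom (algebraMap A B)]
    (k' : Type u) [Field k'] [Algebra A k'] (hk' : Function.Surjective (algebraMap A k')) :
    CAlg.IsGeometricallyRegular k' (k' ⊗[A] B) ↔
      CAlgX.IsAdicFormallySmooth (A ⧸ maximalIdeal A)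
        (B ⧸ (maximalIdeal A).map (algebraMap A B))
        ((maximalIdeal B).map (Ideal.Quotient.mk ((maximalIdeal A).map (algebraMap A B)))) := by
  have hkI : RingHom.ker (algebraMap A k') = maximalIdeal A := by
    haveI : (RingHom.ker (algebraMap A k')).IsMaximal := RingHom.ker_isMaximal_of_surjective _ hk'
    exact IsLocalRing.eq_maximalIdeal inferInstance
  let φ : A ⧸ maximalIdeal A →+* k' :=
    Ideal.Quotient.lift (maximalIdeal A) (algebraMap A k') (fun a ha => by
      rw [← hkI] at ha
      exact ha)
  have hφ : ∀ a, φ (Ideal.Quotient.mk _ a) = algebraMap A k' a := fun a => rfl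
  have hφbij : Function.Bijective φ := by
    constructor
    · rw [injective_iff_map_eq_zero]
      intro x hx
      obtain ⟨a, rfl⟩ := Ideal.Quotient.mk_surjective x
      rw [hφ] at hx
      rw [Ideal.Quotient.eq_zero_iff_mem, ← hkI]
      exact hx
    · intro y
      obtain ⟨a, rfl⟩ := hk' y
      exact ⟨Ideal.Quotient.mk _ a, rfl⟩
  let e₀ : (A ⧸ maximalIdeal A) ≃+* k' := RingEquiv.ofBijective φ hφbij
  have he₀ : ∀ a, e₀ (Ideal.Quotient.mk _ a) = algebraMap A k' a := fun a => rfl
  set I := (maximalIdeal A).map (algebraMap A B) with hI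
  have hIle : I ≤ maximalIdeal B :=
    ((local_hom_TFAE (algebraMap A B)).out 0 2).mp ‹IsLocalHom (algebraMap A B)›
  haveI : Nontrivial (B ⧸ I) := Ideal.Quotient.nontrivial_iff.mpr
    (ne_top_of_le_ne_top (maximalIdeal.isMaximal B).ne_top hIle)
  haveI : IsLocalRing (B ⧸ I) :=
    IsLocalRing.of_surjective' (Ideal.Quotient.mk I) Ideal.Quotient.mk_surjective
  letI : Algebra k' (B ⧸ I) :=
    ((algebraMap (A ⧸ maximalIdeal A) (B ⧸ I)).comp (e₀.symm : k' →+* _)).toAlgebra
  letI : Algebra (A ⧸ maximalIdeal A) k' := φ.toAlgebra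
  haveI : IsScalarTower (A ⧸ maximalIdeal A) k' (B ⧸ I) :=
    IsScalarTower.of_algebraMap_eq fun x => by
      show algebraMap _ _ x = algebraMap (A ⧸ maximalIdeal A) (B ⧸ I) (e₀.symm (e₀ x))
      rw [e₀.symm_apply_apply]
  obtain ⟨E⟩ := Groth.Agent.Helper14.ModelSmooth.fibre_equiv_gen (maximalIdeal A) hk' hkI
    (Ideal.Quotient.mk I) Ideal.Quotient.mk_surjective (by rw [Ideal.mk_ker]) (fun a => by
      show Ideal.Quotient.mk I (algebraMap A B a) =
        algebraMap (A ⧸ maximalIdeal A) (B ⧸ I) (e₀.symm (algebraMap A k' a))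
      rw [← he₀, e₀.symm_apply_apply]
      rfl)
  haveI : IsLocalRing (k' ⊗[A] B) := E.symm.toRingEquiv.isLocalRing
  haveI : IsNoetherianRing (k' ⊗[A] B) := isNoetherianRing_of_ringEquiv _ E.symm.toRingEquiv
  rw [Groth.Agent.Helper14.FSFlat.maximalIdeal_quotient I]
  constructor
  · intro h
    have h1 : CAlgX.IsAdicFormallySmooth k' (k' ⊗[A] B) (maximalIdeal (k' ⊗[A] B)) :=
      adicFS_of_geomRegular h
    have h2 : CAlgX.IsAdicFormallySmooth k' (B ⧸ I) (maximalIdeal (B ⧸ I)) :=
      Groth.Agent.Helper14.AdicFSTransfer.of_algEquiv_local E.symm h1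
    exact Groth.Agent.Helper14.ModelSmooth.of_bijective_base hφbij _ h2
  · intro h
    have h2 : CAlgX.IsAdicFormallySmooth k' (B ⧸ I) (maximalIdeal (B ⧸ I)) :=
      to_surjective_base hφbij.2 _ h
    have h1 : CAlgX.IsAdicFormallySmooth k' (k' ⊗[A] B) (maximalIdeal (k' ⊗[A] B)) :=
      Groth.Agent.Helper14.AdicFSTransfer.of_algEquiv_local E h2
    exact Groth.Agent.Helper14.AdicFSGeomReg.isGeometricallyRegular h1

/-- **EGA 0_IV 19.7.1**: for a local homomorphism of Noetherian local rings, flat with
geometrically regular closed fibre iff formally smooth. -/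
theorem flat_geomRegular_iff {A B : Type u} [CommRing A] [CommRing B] [IsLocalRing A]
    [IsLocalRing B] [IsNoetherianRing A] [IsNoetherianRing B] [Algebra A B]
    [IsLocalHom (algebraMap A B)]
    (k' : Type u) [Field k'] [Algebra A k'] (hk' : Function.Surjective (algebraMap A k')) :
    (Module.Flat A B ∧ CAlg.IsGeometricallyRegular k' (k' ⊗[A] B)) ↔
      CAlgX.IsAdicFormallySmooth A B (maximalIdeal B) := by
  have hIle : (maximalIdeal A).map (algebraMap A B) ≤ maximalIdeal B :=
    ((local_hom_TFAE (algebraMap A B)).out 0 2).mp ‹IsLocalHom (algebraMap A B)›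
  rw [fibre_iff k' hk']
  constructor
  · rintro ⟨hflat, hfib⟩
    exact Groth.Agent.Helper14.FlatFibreFS.isAdicFormallySmooth_of_flat (maximalIdeal A)
      (maximalIdeal B) hIle hfib
  · intro h
    refine ⟨Groth.Agent.Helper14.FSFlat.flat_of_adicFS h, ?_⟩
    exact Groth.Agent.Helper14.FSFlat.quotient_of_weak (maximalIdeal A) (maximalIdeal A)
      ⟨1, by rw [pow_one]⟩ (maximalIdeal B)
      (Groth.Agent.Helper14.FSFlat.weak_of_strong _ _ h)

end Groth.Agent.Helper14.FSFibre
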