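import Mathlib
import Groth.Prelude
import Groth.Agent.Lib.Helper14.FSUnique

/-!
# EGA 0_IV 19.7.2: flat complete lifts of formally smooth algebras over a quotient
-/

set_option autoImplicit false
set_option linter.unusedSectionVars false
set_option linter.style.haveILetI false
set_option linter.unusedVariables false

universe u

namespace Groth.Agent.Helper14.FSLift

open IsLocalRing TensorProduct

section Uniq

variable {A : Type u} [CommRing A] [IsLocalRing A] [IsNoetherianRing A]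
  (J : Ideal A) (hJ : J ≤ maximalIdeal A) [IsLocalRing (A ⧸ J)]
  (B₀ : Type u) [CommRing B₀] [IsLocalRing B₀] [IsNoetherianRing B₀]
  [IsAdicComplete (maximalIdeal B₀) B₀]
  [Algebra (A ⧸ J) B₀] [IsLocalHom (algebraMap (A ⧸ J) B₀)]

include hJ in
/-- A flat local `A`-algebra whose reduction modulo `J` is formally smooth over `A/J` is
formally smooth over `A`; together with the structure map `B → B₀`. -/
theorem data_of_equiv
    (hfs : CAlgX.IsAdicFormallySmooth (A ⧸ J) B₀ (maximalIdeal B₀))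
    [Algebra A B₀] [IsScalarTower A (A ⧸ J) B₀]
    (B : Type u) [CommRing B] [IsLocalRing B] [IsNoetherianRing B] [Algebra A B]
    [IsLocalHom (algebraMap A B)] [Module.Flat A B]
    (u : (A ⧸ J) ⊗[A] B ≃ₐ[A ⧸ J] B₀) :
    J.map (algebraMap A B) ≤ maximalIdeal B ∧
    CAlgX.IsAdicFormallySmooth A B (maximalIdeal B) ∧
    ∃ π : B →ₐ[A] B₀, Function.Surjective π ∧
      RingHom.ker π.toRingHom = J.map (algebraMap A B) ∧ ∀ b, π b = u (1 ⊗ₜ b) := by
  have hJB : J.map (algebraMap A B) ≤ maximalIdeal B :=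
    (Ideal.map_mono hJ).trans
      (((local_hom_TFAE (algebraMap A B)).out 0 2).mp ‹IsLocalHom (algebraMap A B)›)
  haveI : Nontrivial (B ⧸ J.map (algebraMap A B)) := Ideal.Quotient.nontrivial_iff.mpr
    (ne_top_of_le_ne_top (maximalIdeal.isMaximal B).ne_top hJB)
  haveI : IsLocalRing (B ⧸ J.map (algebraMap A B)) :=
    IsLocalRing.of_surjective' (Ideal.Quotient.mk _) Ideal.Quotient.mk_surjective
  let E : (B ⧸ J.map (algebraMap A B)) ≃ₐ[A ⧸ J] B₀ :=
    (Algebra.TensorProduct.quotIdealMapEquivQuotTensor B J).trans u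
  have hE : ∀ b, E (Ideal.Quotient.mk _ b) = u (1 ⊗ₜ b) := fun b => rfl
  have hfib : CAlgX.IsAdicFormallySmooth (A ⧸ J) (B ⧸ J.map (algebraMap A B))
      ((maximalIdeal B).map (Ideal.Quotient.mk (J.map (algebraMap A B)))) := by
    rw [Groth.Agent.Helper14.FSFlat.maximalIdeal_quotient]
    exact Groth.Agent.Helper14.AdicFSTransfer.of_algEquiv_local E hfs
  refine ⟨hJB, Groth.Agent.Helper14.FlatFibreFS.isAdicFormallySmooth_of_flat J (maximalIdeal B)
    hJB hfib, ?_⟩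
  let π : B →ₐ[A] B₀ :=
    (E.toAlgHom.restrictScalars A).comp (Ideal.Quotient.mkₐ A (J.map (algebraMap A B)))
  have hπ : ∀ b, π b = u (1 ⊗ₜ b) := fun b => rfl
  refine ⟨π, ?_, ?_, hπ⟩
  · exact E.surjective.comp Ideal.Quotient.mk_surjective
  · ext b
    rw [RingHom.mem_ker]
    show E (Ideal.Quotient.mk _ b) = 0 ↔ _
    rw [map_eq_zero_iff _ E.injective, Ideal.Quotient.eq_zero_iff_mem]

include hJ in
/-- Uniqueness part of EGA 0_IV 19.7.2. -/
theorem uniqueness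
    (hfs : EGA41.IsFormallySmoothAdic (A ⧸ J) (maximalIdeal (A ⧸ J)) B₀ (maximalIdeal B₀))
    (B B' : Type u) [CommRing B] [IsLocalRing B] [IsNoetherianRing B] [Algebra A B]
    [IsLocalHom (algebraMap A B)]
    [CommRing B'] [IsLocalRing B'] [IsNoetherianRing B'] [Algebra A B']
    [IsLocalHom (algebraMap A B')]
    (hBc : IsAdicComplete (maximalIdeal B) B) (hBf : Module.Flat A B)
    (hB'c : IsAdicComplete (maximalIdeal B') B') (hB'f : Module.Flat A B')
    (u : (A ⧸ J) ⊗[A] B ≃ₐ[A ⧸ J] B₀) (u' : (A ⧸ J) ⊗[A] B' ≃ₐ[A ⧸ J] B₀) :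
    ∃ v : B ≃ₐ[A] B', (u' : (A ⧸ J) ⊗[A] B' →ₐ[A ⧸ J] B₀).comp
        (Algebra.TensorProduct.map (AlgHom.id (A ⧸ J) (A ⧸ J)) (v : B →ₐ[A] B')) =
          (u : (A ⧸ J) ⊗[A] B →ₐ[A ⧸ J] B₀) := by
  have hstrong : CAlgX.IsAdicFormallySmooth (A ⧸ J) B₀ (maximalIdeal B₀) :=
    (Groth.Agent.Helper14.FSFlat.flat_and_strong_of_weak hfs).2
  letI : Algebra A B₀ := ((algebraMap (A ⧸ J) B₀).comp (Ideal.Quotient.mk J)).toAlgebra
  haveI : IsScalarTower A (A ⧸ J) B₀ := IsScalarTower.of_algebraMap_eq fun r => rfl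
  obtain ⟨hJB, hBfs, π, hπs, hπk, hπ⟩ := data_of_equiv J hJ B₀ hstrong B u
  obtain ⟨hJB', -, g, hgs, hgk, hg⟩ := data_of_equiv J hJ B₀ hstrong B' u'
  obtain ⟨v, hv⟩ := Groth.Agent.Helper14.FSUnique.exists_algEquiv_of_common_quotient J hJB hJB'
    hBfs π hπs hπk g hgs hgk
  refine ⟨v, ?_⟩
  apply Algebra.TensorProduct.ext'
  intro a b
  have h1 : (a ⊗ₜ[A] b : (A ⧸ J) ⊗[A] B) = a • ((1 : A ⧸ J) ⊗ₜ[A] b) := by
    rw [TensorProduct.smul_tmul', smul_eq_mul, mul_one]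
  have h2 : (a ⊗ₜ[A] (v b) : (A ⧸ J) ⊗[A] B') = a • ((1 : A ⧸ J) ⊗ₜ[A] (v b)) := by
    rw [TensorProduct.smul_tmul', smul_eq_mul, mul_one]
  show u' (Algebra.TensorProduct.map (AlgHom.id (A ⧸ J) (A ⧸ J)) (v : B →ₐ[A] B') (a ⊗ₜ b)) =
    u (a ⊗ₜ b)
  rw [Algebra.TensorProduct.map_tmul, h1]
  show u' (a ⊗ₜ[A] (v b)) = _
  rw [h2, map_smul, map_smul, ← hg, ← hπ, hv]

include hJ in
/-- Existence part of EGA 0_IV 19.7.2. -/
theorem existence
    (hfs : EGA41.IsFormallySmoothAdic (A ⧸ J) (maximalIdeal (A ⧸ J)) B₀ (maximalIdeal B₀)) :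
    ∃ (B : Type u) (_ : CommRing B) (_ : IsLocalRing B) (_ : IsNoetherianRing B)
      (_ : Algebra A B) (_ : IsLocalHom (algebraMap A B)),
      IsAdicComplete (maximalIdeal B) B ∧ Module.Flat A B ∧
        Nonempty ((A ⧸ J) ⊗[A] B ≃ₐ[A ⧸ J] B₀) := by
  obtain ⟨hflat₀, hstrong⟩ := Groth.Agent.Helper14.FSFlat.flat_and_strong_of_weak hfs
  -- the closed fibre of `B₀`
  set I₀ := (maximalIdeal (A ⧸ J)).map (algebraMap (A ⧸ J) B₀) with hI₀
  have hI₀le : I₀ ≤ maximalIdeal B₀ :=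
    ((local_hom_TFAE (algebraMap (A ⧸ J) B₀)).out 0 2).mp ‹IsLocalHom (algebraMap (A ⧸ J) B₀)›
  haveI : Nontrivial (B₀ ⧸ I₀) := Ideal.Quotient.nontrivial_iff.mpr
    (ne_top_of_le_ne_top (maximalIdeal.isMaximal B₀).ne_top hI₀le)
  haveI : IsLocalRing (B₀ ⧸ I₀) :=
    IsLocalRing.of_surjective' (Ideal.Quotient.mk I₀) Ideal.Quotient.mk_surjective
  haveI : IsAdicComplete (maximalIdeal (B₀ ⧸ I₀)) (B₀ ⧸ I₀) :=
    Groth.Agent.Helper14.FSFlat.isAdicComplete_quotient I₀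
  have h₀₀ : CAlgX.IsAdicFormallySmooth ((A ⧸ J) ⧸ maximalIdeal (A ⧸ J)) (B₀ ⧸ I₀)
      (maximalIdeal (B₀ ⧸ I₀)) := by
    rw [← Groth.Agent.Helper14.FSFlat.maximalIdeal_quotient I₀]
    exact Groth.Agent.Helper14.FSFlat.quotient_of_weak (maximalIdeal (A ⧸ J))
      (maximalIdeal (A ⧸ J)) ⟨1, by rw [pow_one]⟩ (maximalIdeal B₀) hfs
  letI : Field ((A ⧸ J) ⧸ maximalIdeal (A ⧸ J)) := Ideal.Quotient.field _
  have hk' : Function.Surjective (algebraMap A ((A ⧸ J) ⧸ maximalIdeal (A ⧸ J))) :=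
    (Ideal.Quotient.mk_surjective (I := maximalIdeal (A ⧸ J))).comp
      (Ideal.Quotient.mk_surjective (I := J))
  obtain ⟨C, _, _, _, hCN, hCc, hCloc, hCflat, hCfs, f, hf, hfker, hfcompat⟩ :=
    Groth.Agent.Helper14.ModelSmooth.exists_smooth_lift' (A := A)
      ((A ⧸ J) ⧸ maximalIdeal (A ⧸ J)) hk' (B₀ ⧸ I₀) h₀₀
  refine ⟨C, inferInstance, inferInstance, hCN, inferInstance, hCloc, hCc, hCflat, ?_⟩
  -- reduction modulo `J`
  set JC := J.map (algebraMap A C) with hJC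
  have hmC : (maximalIdeal A).map (algebraMap A C) ≤ maximalIdeal C :=
    ((local_hom_TFAE (algebraMap A C)).out 0 2).mp hCloc
  have hJCm : JC ≤ (maximalIdeal A).map (algebraMap A C) := Ideal.map_mono hJ
  have hJCle : JC ≤ maximalIdeal C := hJCm.trans hmC
  haveI : Nontrivial (C ⧸ JC) := Ideal.Quotient.nontrivial_iff.mpr
    (ne_top_of_le_ne_top (maximalIdeal.isMaximal C).ne_top hJCle)
  haveI : IsLocalRing (C ⧸ JC) :=
    IsLocalRing.of_surjective' (Ideal.Quotient.mk JC) Ideal.Quotient.mk_surjective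
  haveI : IsAdicComplete (maximalIdeal (C ⧸ JC)) (C ⧸ JC) :=
    Groth.Agent.Helper14.FSFlat.isAdicComplete_quotient JC
  haveI : Module.Flat (A ⧸ J) (C ⧸ JC) :=
    Module.Flat.of_linearEquiv
      (Algebra.TensorProduct.quotIdealMapEquivQuotTensor C J).toLinearEquiv
  -- the maximal ideal of `A/J` extended to `C/JC`
  have hext : (maximalIdeal (A ⧸ J)).map (algebraMap (A ⧸ J) (C ⧸ JC)) =
      ((maximalIdeal A).map (algebraMap A C)).map (Ideal.Quotient.mk JC) := by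
    rw [← Groth.Agent.Helper14.FSFlat.maximalIdeal_quotient J, Ideal.map_map, Ideal.map_map]
    rfl
  have hextle : (maximalIdeal (A ⧸ J)).map (algebraMap (A ⧸ J) (C ⧸ JC)) ≤
      maximalIdeal (C ⧸ JC) := by
    rw [hext, ← Groth.Agent.Helper14.FSFlat.maximalIdeal_quotient JC]
    exact Ideal.map_mono hmC
  -- the two maps to the common quotient
  let π : B₀ →ₐ[A ⧸ J] B₀ ⧸ I₀ := Ideal.Quotient.mkₐ (A ⧸ J) I₀
  have hfJC : ∀ x ∈ JC, f x = 0 := by
    intro x hx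
    have : x ∈ RingHom.ker f := by
      rw [hfker]
      exact hJCm hx
    exact this
  let g₀ : C ⧸ JC →+* B₀ ⧸ I₀ := Ideal.Quotient.lift JC f hfJC
  have hg₀ : ∀ c, g₀ (Ideal.Quotient.mk JC c) = f c := fun c => rfl
  let g : C ⧸ JC →ₐ[A ⧸ J] B₀ ⧸ I₀ :=
    { g₀ with
      commutes' := fun r => by
        obtain ⟨a, rfl⟩ := Ideal.Quotient.mk_surjective r
        show g₀ (Ideal.Quotient.mk JC (algebraMap A C a)) = _
        rw [hg₀, hfcompat]
        rfl }
  have hgs : Function.Surjective g := by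
    intro q
    obtain ⟨c, rfl⟩ := hf q
    exact ⟨Ideal.Quotient.mk JC c, rfl⟩
  have hgk : RingHom.ker g.toRingHom =
      (maximalIdeal (A ⧸ J)).map (algebraMap (A ⧸ J) (C ⧸ JC)) := by
    rw [hext]
    ext x
    obtain ⟨c, rfl⟩ := Ideal.Quotient.mk_surjective x
    rw [RingHom.mem_ker]
    show f c = 0 ↔ _
    rw [Ideal.mem_map_iff_of_surjective _ Ideal.Quotient.mk_surjective]
    constructor
    · intro h0
      refine ⟨c, ?_, rfl⟩
      rw [← hfker]
      exact h0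
    · rintro ⟨c', hc', hcc'⟩
      have h1 : c' - c ∈ JC := by
        rw [← Ideal.Quotient.eq]
        exact hcc'
      have h2 : c ∈ (maximalIdeal A).map (algebraMap A C) := by
        have := Ideal.sub_mem _ hc' (hJCm h1)
        rwa [sub_sub_cancel] at this
      rw [← hfker] at h2
      exact h2
  obtain ⟨v, hv⟩ := Groth.Agent.Helper14.FSUnique.exists_algEquiv_of_common_quotient
    (maximalIdeal (A ⧸ J)) hI₀le hextle hstrong π Ideal.Quotient.mk_surjective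
    (by
      show RingHom.ker (Ideal.Quotient.mk I₀) = _
      rw [Ideal.mk_ker]) g hgs hgk
  exact ⟨(Algebra.TensorProduct.quotIdealMapEquivQuotTensor C J).symm.trans v.symm⟩

end Uniq

end Groth.Agent.Helper14.FSLift
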