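import Mathlib
import Groth.Prelude.Def_EGA41
import Groth.Prelude.Def_CAlgX
import Groth.Agent.Lib.Helper14.AdicFSDer
import Groth.Agent.Lib.Helper14.PowerSeriesSmooth
import Groth.Agent.Lib.Helper14.PowerSeriesComplete
import Groth.Agent.Lib.Helper14.CohenLift
import Groth.Agent.Lib.Helper9.AdicLift
import Groth.Agent.Lib.Helper14.PerfectSmooth

/-!
# Residue fields of formally smooth Noetherian local algebras over a field (EGA 0_IV 22.2.6)

Part A: if `A` is a Noetherian local `k`-algebra, formally smooth for its adic topology, with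
residue field `K`, then the imperfection module `Υ_{K/k}` is finite-dimensional over `K`.
-/

set_option autoImplicit false
set_option linter.unusedSectionVars false
set_option linter.style.haveILetI false
set_option linter.unusedVariables false

open IsLocalRing TensorProduct KaehlerDifferential

universe u

namespace Groth.Agent.Helper14.FSResidue

section LemmaA

variable {k A K : Type u} [Field k] [CommRing A] [IsLocalRing A] [IsNoetherianRing A] [Field K]
  [Algebra k A] [Algebra A K] [Algebra k K] [IsScalarTower k A K]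

/-- the comparison map `K ⊗_k Ω_k → K ⊗_A Ω_A`. -/
noncomputable def iota : K ⊗[k] Ω[k⁄ℤ] →ₗ[K] K ⊗[A] Ω[A⁄ℤ] :=
  LinearMap.liftBaseChange K
    (((TensorProduct.mk A K (Ω[A⁄ℤ]) 1).restrictScalars k).comp (KaehlerDifferential.map ℤ ℤ k A))

theorem iota_tmul (c : K) (x : k) :
    iota (A := A) (c ⊗ₜ[k] D ℤ k x) = c ⊗ₜ[A] D ℤ A (algebraMap k A x) := by
  simp [iota, LinearMap.liftBaseChange_tmul, TensorProduct.smul_tmul']

theorem mapBaseChange_comp_iota :
    (mapBaseChange ℤ A K).comp (iota (k := k) (A := A) (K := K)) = mapBaseChange ℤ k K := by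
  apply TensorProduct.AlgebraTensorModule.curry_injective
  apply LinearMap.ext_ring
  apply LinearMap.ext
  intro ω
  simp only [TensorProduct.AlgebraTensorModule.curry_apply, LinearMap.restrictScalars_apply,
    TensorProduct.curry_apply, LinearMap.comp_apply]
  refine Submodule.span_induction (p := fun ω _ =>
      (mapBaseChange ℤ A K) (iota (A := A) ((1 : K) ⊗ₜ[k] ω)) = (mapBaseChange ℤ k K) (1 ⊗ₜ[k] ω))
    ?_ ?_ ?_ ?_ (KaehlerDifferential.span_range_derivation ℤ k ▸ Submodule.mem_top : ω ∈ _)
  · rintro _ ⟨x, rfl⟩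
    rw [iota_tmul, mapBaseChange_tmul, mapBaseChange_tmul, map_D, map_D,
      ← IsScalarTower.algebraMap_apply]
  · simp
  · intro x y _ _ hx hy
    rw [TensorProduct.tmul_add, map_add, map_add, map_add, hx, hy]
  · intro c x _ hx
    rw [← TensorProduct.smul_tmul, ← mul_one (c • (1 : K)), ← smul_eq_mul (c • (1:K)) 1,
      ← TensorProduct.smul_tmul', map_smul, map_smul, map_smul, hx]

/-- A retraction of `iota`, from formal smoothness. -/
theorem exists_retraction (hsurj : Function.Surjective (algebraMap A K))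
    (h : CAlgX.IsAdicFormallySmooth k A (maximalIdeal A)) :
    ∃ L : K ⊗[A] Ω[A⁄ℤ] →ₗ[K] K ⊗[k] Ω[k⁄ℤ], L.comp (iota (k := k) (A := A) (K := K)) = LinearMap.id := by
  set 𝔞 : Ideal A := RingHom.ker (algebraMap A K) with h𝔞
  have h𝔞m : 𝔞 = maximalIdeal A := by
    haveI : 𝔞.IsMaximal := RingHom.ker_isMaximal_of_surjective _ hsurj
    exact IsLocalRing.eq_maximalIdeal ‹_›
  letI : Algebra (A ⧸ 𝔞) K := (RingHom.kerLift (algebraMap A K)).toAlgebra
  haveI : IsScalarTower A (A ⧸ 𝔞) K := IsScalarTower.of_algebraMap_eq fun a => rfl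
  haveI : IsScalarTower k (A ⧸ 𝔞) K := IsScalarTower.of_algebraMap_eq fun x => by
    rw [IsScalarTower.algebraMap_apply k A K]; rfl
  let δ : k →+ K ⊗[k] Ω[k⁄ℤ] :=
    { toFun := fun x => (1 : K) ⊗ₜ[k] D ℤ k x
      map_zero' := by simp
      map_add' := fun x y => by simp [TensorProduct.tmul_add] }
  have hδ : ∀ x y, δ (x * y) = algebraMap k A x • δ y + algebraMap k A y • δ x := by
    intro x y
    show (1 : K) ⊗ₜ[k] D ℤ k (x * y) = algebraMap k A x • ((1 : K) ⊗ₜ[k] D ℤ k y) +
      algebraMap k A y • ((1 : K) ⊗ₜ[k] D ℤ k x)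
    rw [Derivation.leibniz, TensorProduct.tmul_add, algebraMap_smul, algebraMap_smul,
      TensorProduct.tmul_smul, TensorProduct.tmul_smul]
  obtain ⟨Dr, hDr⟩ := Groth.Agent.Helper14.AdicFSDer.exists_derivation h 𝔞
    ⟨1, by rw [pow_one, h𝔞m]⟩ (K ⊗[k] Ω[k⁄ℤ]) δ hδ
  refine ⟨LinearMap.liftBaseChange K Dr.liftKaehlerDifferential, ?_⟩
  apply TensorProduct.AlgebraTensorModule.curry_injective
  apply LinearMap.ext_ring
  apply LinearMap.ext
  intro ω
  simp only [TensorProduct.AlgebraTensorModule.curry_apply, LinearMap.restrictScalars_apply,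
    TensorProduct.curry_apply, LinearMap.comp_apply, LinearMap.id_apply]
  refine Submodule.span_induction (p := fun ω _ =>
      (LinearMap.liftBaseChange K Dr.liftKaehlerDifferential) (iota (A := A) ((1 : K) ⊗ₜ[k] ω)) =
        (1 : K) ⊗ₜ[k] ω)
    ?_ ?_ ?_ ?_ (KaehlerDifferential.span_range_derivation ℤ k ▸ Submodule.mem_top : ω ∈ _)
  · rintro _ ⟨x, rfl⟩
    rw [iota_tmul, LinearMap.liftBaseChange_tmul, Derivation.liftKaehlerDifferential_comp_D,
      one_smul, hDr]
    rfl
  · simp
  · intro x y _ _ hx hy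
    rw [TensorProduct.tmul_add, map_add, map_add, hx, hy]
  · intro c x _ hx
    rw [← TensorProduct.smul_tmul, ← mul_one (c • (1 : K)), ← smul_eq_mul (c • (1:K)) 1,
      ← TensorProduct.smul_tmul', map_smul, map_smul, hx]

theorem iota_injective (hsurj : Function.Surjective (algebraMap A K))
    (h : CAlgX.IsAdicFormallySmooth k A (maximalIdeal A)) :
    Function.Injective (iota (k := k) (A := A) (K := K)) := by
  obtain ⟨L, hL⟩ := exists_retraction hsurj h
  intro x y hxy
  have := congrArg L hxy
  rwa [← LinearMap.comp_apply, ← LinearMap.comp_apply, hL] at this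

/-- `ker (K ⊗_A Ω_A → Ω_K)` is finite-dimensional. -/
theorem finite_ker_mapBaseChange (hsurj : Function.Surjective (algebraMap A K)) :
    Module.Finite K (LinearMap.ker (mapBaseChange ℤ A K)) := by
  have hex := KaehlerDifferential.exact_kerCotangentToTensor_mapBaseChange ℤ A K hsurj
  have h1 : (LinearMap.ker (mapBaseChange ℤ A K)).restrictScalars A =
      LinearMap.range (kerCotangentToTensor ℤ A K) := by
    ext x
    rw [Submodule.restrictScalars_mem, LinearMap.mem_ker, LinearMap.mem_range]
    exact hex x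
  haveI : Module.Finite A (RingHom.ker (algebraMap A K)).Cotangent :=
    Module.Finite.of_surjective (RingHom.ker (algebraMap A K)).toCotangent
      (Ideal.toCotangent_surjective _)
  have h2 : ((LinearMap.ker (mapBaseChange ℤ A K)).restrictScalars A).FG := by
    rw [h1]
    rw [LinearMap.range_eq_map]
    exact Submodule.FG.map _ Module.Finite.fg_top
  haveI : Module.Finite A (LinearMap.ker (mapBaseChange ℤ A K)) :=
    Module.Finite.iff_fg.mpr h2
  exact Module.Finite.of_restrictScalars_finite A K _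

/-- **Part A**: the imperfection module of the residue field of a formally smooth Noetherian local
algebra over a field is finite-dimensional. -/
theorem finite_imperfection (hsurj : Function.Surjective (algebraMap A K))
    (h : CAlgX.IsAdicFormallySmooth k A (maximalIdeal A)) :
    Module.Finite K (EGA41.imperfection ℤ k K) := by
  haveI := finite_ker_mapBaseChange (A := A) (K := K) hsurj
  have hmem : ∀ υ : EGA41.imperfection ℤ k K,
      iota (A := A) (υ : K ⊗[k] Ω[k⁄ℤ]) ∈ LinearMap.ker (mapBaseChange ℤ A K) := by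
    intro υ
    rw [LinearMap.mem_ker, ← LinearMap.comp_apply, mapBaseChange_comp_iota]
    exact υ.2
  let f : EGA41.imperfection ℤ k K →ₗ[K] LinearMap.ker (mapBaseChange ℤ A K) :=
    LinearMap.codRestrict _ ((iota (k := k) (A := A) (K := K)).comp (Submodule.subtype _)) hmem
  have hf : Function.Injective f := by
    intro x y hxy
    have h1 : iota (A := A) (x : K ⊗[k] Ω[k⁄ℤ]) = iota (A := A) (y : K ⊗[k] Ω[k⁄ℤ]) :=
      congrArg Subtype.val hxy
    exact Subtype.ext (iota_injective hsurj h h1)
  exact FiniteDimensional.of_injective (K := K) (V := EGA41.imperfection ℤ k K)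
    (V₂ := LinearMap.ker (mapBaseChange ℤ A K)) f hf

end LemmaA

section PS

open MvPowerSeries

variable {K : Type u} [Field K] {n : ℕ}

theorem coeff_single_mul (i : Fin n) (a b : MvPowerSeries (Fin n) K) :
    coeff (Finsupp.single i 1) (a * b) =
      constantCoeff a * coeff (Finsupp.single i 1) b +
        coeff (Finsupp.single i 1) a * constantCoeff b := by
  classical
  rw [coeff_mul, Finsupp.antidiagonal_single, Finset.sum_map]
  have h1 : Finset.HasAntidiagonal.antidiagonal (1 : ℕ) = {((0 : ℕ), (1 : ℕ)), (1, 0)} := by decide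
  rw [h1, Finset.sum_pair (by decide)]
  simp [coeff_zero_eq_constantCoeff_apply]

/-- the truncation `K[[T]] → K ⊕ K^n` (first-order jets). -/
noncomputable def tau : MvPowerSeries (Fin n) K →+* TrivSqZeroExt K (Fin n → K) where
  toFun b := TrivSqZeroExt.inl (constantCoeff b) +
    TrivSqZeroExt.inr (fun i => coeff (Finsupp.single i 1) b)
  map_one' := by
    classical
    ext
    · simp
    · simp [coeff_one]
  map_mul' a b := by
    ext
    · simp
    · simp [coeff_single_mul, mul_comm]
  map_zero' := by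
    ext
    · simp
    · simp
  map_add' a b := by
    ext
    · simp
    · simp

theorem tau_fst (b : MvPowerSeries (Fin n) K) : (tau b).fst = constantCoeff b := by
  simp [tau]

theorem tau_snd (b : MvPowerSeries (Fin n) K) (i : Fin n) :
    (tau b).snd i = coeff (Finsupp.single i 1) b := by
  simp [tau]

theorem tau_surjective : Function.Surjective (tau (K := K) (n := n)) := by
  classical
  intro t
  refine ⟨C t.fst + ∑ i, C (t.snd i) * X i, ?_⟩
  ext
  · rw [tau_fst]
    simp
  · rename_i j
    rw [tau_snd]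
    simp only [map_add, map_sum, coeff_C_mul, coeff_X]
    rw [coeff_C, if_neg (by
      intro h
      have := DFunLike.congr_fun h j
      simp at this)]
    simp [Finsupp.single_left_inj]

theorem ker_tau_le : RingHom.ker (tau (K := K) (n := n)) ≤
    maximalIdeal (MvPowerSeries (Fin n) K) := by
  intro b hb
  rw [RingHom.mem_ker] at hb
  rw [IsLocalRing.mem_maximalIdeal, mem_nonunits_iff, MvPowerSeries.isUnit_iff_constantCoeff,
    ← tau_fst, hb]
  simp

theorem mem_maximalIdeal_iff (b : MvPowerSeries (Fin n) K) :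
    b ∈ maximalIdeal (MvPowerSeries (Fin n) K) ↔ constantCoeff b = 0 := by
  rw [IsLocalRing.mem_maximalIdeal, mem_nonunits_iff, MvPowerSeries.isUnit_iff_constantCoeff,
    isUnit_iff_ne_zero, not_not]

theorem maximalIdeal_sq_le : maximalIdeal (MvPowerSeries (Fin n) K) ^ 2 ≤
    RingHom.ker (tau (K := K) (n := n)) := by
  rw [pow_two, Ideal.mul_le]
  intro a ha b hb
  rw [mem_maximalIdeal_iff] at ha hb
  rw [RingHom.mem_ker, map_mul]
  ext
  · simp [tau_fst, ha, hb]
  · simp [tau_fst, ha, hb]

end PS

section Lift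

open MvPowerSeries

variable {F k K : Type u} [Field F] [Field k] [Field K] [Algebra F k] [Algebra F K]

/-- Lifting the first-order datum `(φ, θ)` to a ring homomorphism `k → K[[T]]`. -/
theorem exists_lift (hF : ∀ (C : Type u) [CommRing C], Subsingleton (F →+* C))
    [Algebra.FormallySmooth F k] (n : ℕ) (φ : k →+* K) (θ : Fin n → k →+ K)
    (hθ : ∀ i x y, θ i (x * y) = φ x * θ i y + φ y * θ i x) :
    ∃ v : k →+* MvPowerSeries (Fin n) K, (∀ x, constantCoeff (v x) = φ x) ∧
      ∀ i x, coeff (Finsupp.single i 1) (v x) = θ i x := by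
  have hθ1 : ∀ i, θ i 1 = 0 := by
    intro i
    have := hθ i 1 1
    simp only [mul_one, map_one, one_mul] at this
    exact left_eq_add.mp this
  let uT : k →+* TrivSqZeroExt K (Fin n → K) :=
    { toFun := fun x => TrivSqZeroExt.inl (φ x) + TrivSqZeroExt.inr (fun i => θ i x)
      map_one' := by
        ext
        · simp
        · simp [hθ1]
      map_mul' := fun x y => by
        ext
        · simp
        · simp [hθ, mul_comm]
      map_zero' := by
        ext
        · simp
        · simp
      map_add' := fun x y => by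
        ext
        · simp
        · simp }
  have huT_fst : ∀ x, (uT x).fst = φ x := fun x => by simp [uT]
  have huT_snd : ∀ x i, (uT x).snd i = θ i x := fun x i => by simp [uT]
  set J : Ideal (MvPowerSeries (Fin n) K) := RingHom.ker (tau (K := K) (n := n)) with hJ
  let e : (MvPowerSeries (Fin n) K ⧸ J) ≃+* TrivSqZeroExt K (Fin n → K) :=
    RingHom.quotientKerEquivOfSurjective tau_surjective
  have he : ∀ b, e (Ideal.Quotient.mk J b) = tau b := fun b => rfl
  let u₀ : k →+* MvPowerSeries (Fin n) K ⧸ J := (e.symm : _ →+* _).comp uT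
  let u : k →ₐ[F] MvPowerSeries (Fin n) K ⧸ J :=
    { u₀ with
      commutes' := fun r => DFunLike.congr_fun (Subsingleton.elim
        (u₀.comp (algebraMap F k)) (algebraMap F (MvPowerSeries (Fin n) K ⧸ J))) r }
  haveI : IsAdicComplete (maximalIdeal K) K :=
    Groth.Agent.Helper14.CohenLift.isAdicComplete_of_isArtinianRing K
  haveI : IsAdicComplete (maximalIdeal (MvPowerSeries (Fin n) K)) (MvPowerSeries (Fin n) K) :=
    Groth.Agent.Helper14.PowerSeriesComplete.isAdicComplete_maximalIdeal (Fin n) K
  haveI : IsHausdorff ((maximalIdeal (MvPowerSeries (Fin n) K)).map (Ideal.Quotient.mk J))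
      (MvPowerSeries (Fin n) K ⧸ J) := by
    have : ((maximalIdeal (MvPowerSeries (Fin n) K)).map (Ideal.Quotient.mk J)) ^ 2 = ⊥ := by
      rw [← Ideal.map_pow]
      exact Ideal.map_mk_eq_bot_of_le maximalIdeal_sq_le
    exact (Groth.Agent.Helper14.CohenLift.isAdicComplete_of_pow_eq_bot _ _ 2 this).toIsHausdorff
  obtain ⟨v, -, hv⟩ := Groth.Agent.Helper9.AdicLift.exists_lift (⊥ : Ideal F) (⊥ : Ideal k)
    (maximalIdeal (MvPowerSeries (Fin n) K)) J
    (Groth.Agent.Helper14.PowerSeriesSmooth.isFormallySmoothAdic_of_formallySmooth F k ⊥ ⊥)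
    ⟨1, by simp⟩ ⟨1, by rw [pow_one]; exact ker_tau_le⟩ u ⟨1, by simp⟩
  have hv' : ∀ x, tau (v x) = uT x := by
    intro x
    have h1 := DFunLike.congr_fun hv x
    have h2 : Ideal.Quotient.mk J (v x) = e.symm (uT x) := h1
    rw [← he, h2, RingEquiv.apply_symm_apply]
  refine ⟨v.toRingHom, fun x => ?_, fun i x => ?_⟩
  · show constantCoeff (v x) = φ x
    rw [← tau_fst, hv', huT_fst]
  · show coeff (Finsupp.single i 1) (v x) = θ i x
    rw [← tau_snd, hv', huT_snd]

end Lift

section Jets

/-- A derivation built from first-order jet data. -/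
theorem exists_derivation_of_jets {B K V : Type*} [CommRing B] [Field K] [AddCommGroup V]
    [Module B V] [Module K V] (c₀ : B →+* K) {n : ℕ} (c : Fin n → B →+ K)
    (hc : ∀ i a b, c i (a * b) = c₀ a * c i b + c i a * c₀ b)
    (hsm : ∀ (b : B) (w : V), b • w = c₀ b • w) (D₀ : Derivation ℤ K V) (lam : Fin n → V) :
    ∃ D : Derivation ℤ B V, ∀ b, D b = D₀ (c₀ b) + ∑ i, c i b • lam i := by
  let Dl : B →ₗ[ℤ] V :=
    AddMonoidHom.toIntLinearMap
      { toFun := fun b => D₀ (c₀ b) + ∑ i, c i b • lam i
        map_zero' := by simp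
        map_add' := fun a b => by
          simp only [map_add, add_smul, Finset.sum_add_distrib]
          abel }
  have hDl : ∀ b, Dl b = D₀ (c₀ b) + ∑ i, c i b • lam i := fun b => rfl
  refine ⟨Derivation.mk' Dl (fun a b => ?_), fun b => rfl⟩
  rw [hDl, hDl, hDl, hsm a, hsm b, map_mul, Derivation.leibniz, smul_add, smul_add,
    Finset.smul_sum, Finset.smul_sum]
  simp only [hc, add_smul, Finset.sum_add_distrib, smul_smul]
  have h1 : ∀ i, (c i a * c₀ b) • lam i = (c₀ b * c i a) • lam i := fun i => by rw [mul_comm]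
  simp only [h1]
  abel

end Jets

section Twisted

open MvPowerSeries

variable {F k K : Type u} [Field F] [Field k] [Field K] [Algebra F k] [Algebra F K]

/-- `K[[T]]` with a twisted `k`-algebra structure `v` is formally smooth over `k` as soon as
derivations of `k` extend. -/
theorem isAdicFormallySmooth_twisted (hF : ∀ (C : Type u) [CommRing C], Subsingleton (F →+* C))
    [Algebra.FormallySmooth F K] (n : ℕ) (φ : k →+* K) (v : k →+* MvPowerSeries (Fin n) K)
    (hv : ∀ x, constantCoeff (v x) = φ x)
    (H : ∀ (V : Type u) [AddCommGroup V] [Module K V] (δ : k →+ V),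
      (∀ x y, δ (x * y) = φ x • δ y + φ y • δ x) →
      ∃ (D₀ : Derivation ℤ K V) (lam : Fin n → V),
        ∀ x, δ x = D₀ (φ x) + ∑ i, coeff (Finsupp.single i 1) (v x) • lam i) :
    @CAlgX.IsAdicFormallySmooth k _ (MvPowerSeries (Fin n) K) _ v.toAlgebra
      (maximalIdeal (MvPowerSeries (Fin n) K)) := by
  letI : Algebra k (MvPowerSeries (Fin n) K) := v.toAlgebra
  haveI : IsScalarTower F k (MvPowerSeries (Fin n) K) := IsScalarTower.of_algebraMap_eq fun r =>
    DFunLike.congr_fun (Subsingleton.elim (algebraMap F (MvPowerSeries (Fin n) K))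
      (v.comp (algebraMap F k))) r
  have hFB := Groth.Agent.Helper14.PowerSeriesSmooth.isAdicFormallySmooth_mvPowerSeries F K n
  refine Groth.Agent.Helper14.AdicFSDer.of_tower (F := F) (k := k) _ hFB ?_
  intro V _ _ hV δ hδ
  letI : Module K V := Module.compHom V (C : K →+* MvPowerSeries (Fin n) K)
  have hKsm : ∀ (c : K) (w : V), c • w = (C c : MvPowerSeries (Fin n) K) • w := fun c w => rfl
  have hsm : ∀ (b : MvPowerSeries (Fin n) K) (w : V), b • w = (constantCoeff b : K) • w := by
    intro b w
    have h1 : (b - C (constantCoeff b)) • w = 0 :=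
      hV _ (by rw [mem_maximalIdeal_iff]; simp) w
    rw [sub_smul, sub_eq_zero] at h1
    rw [hKsm]
    exact h1
  have hδ' : ∀ x y, δ (x * y) = φ x • δ y + φ y • δ x := by
    intro x y
    rw [hδ x y]
    show v x • δ y + v y • δ x = _
    rw [hsm, hsm, hv, hv]
  obtain ⟨D₀, lam, hD⟩ := H V δ hδ'
  obtain ⟨D, hDD⟩ := exists_derivation_of_jets (B := MvPowerSeries (Fin n) K) (K := K) (V := V)
    (constantCoeff : MvPowerSeries (Fin n) K →+* K)
    (fun i => (coeff (Finsupp.single i 1) : MvPowerSeries (Fin n) K →ₗ[K] K).toAddMonoidHom)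
    (fun i a b => coeff_single_mul i a b) hsm D₀ lam
  refine ⟨D, fun x => ?_⟩
  show D (v x) = δ x
  rw [hDD, hv, hD]
  rfl

end Twisted

section Assembly

open MvPowerSeries

theorem exists_primeField' (k : Type u) [Field k] :
    ∃ (F : Type u) (_ : Field F) (_ : Algebra F k),
      (∀ (C : Type u) [CommRing C], Subsingleton (F →+* C)) ∧
      ∀ (L : Type u) [Field L] [Algebra F L], Algebra.FormallySmooth F L := by
  obtain ⟨p, hpk⟩ := CharP.exists k
  rcases CharP.char_is_prime_or_zero k p with hp | hp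
  · haveI := Fact.mk hp
    letI : Algebra (ZMod p) k := ZMod.algebra k p
    letI : Algebra (ULift.{u} (ZMod p)) k :=
      ((algebraMap (ZMod p) k).comp (ULift.ringEquiv (R := ZMod p)).toRingHom).toAlgebra
    refine ⟨ULift.{u} (ZMod p), inferInstance, inferInstance, ?_, ?_⟩
    · intro C _
      constructor
      intro f g
      have h1 : f.comp (ULift.ringEquiv (R := ZMod p)).symm.toRingHom =
          g.comp (ULift.ringEquiv (R := ZMod p)).symm.toRingHom := Subsingleton.elim _ _
      ext x
      have h2 := RingHom.congr_fun h1 (ULift.ringEquiv x)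
      simp only [RingHom.comp_apply, RingEquiv.toRingHom_eq_coe, RingHom.coe_coe,
        RingEquiv.symm_apply_apply] at h2
      exact h2
    · intro L _ _
      exact Groth.Agent.Helper14.PerfectSmooth.formallySmooth_of_perfect p _ L
  · subst hp
    haveI : CharZero k := CharP.charP_to_charZero k
    letI : Algebra (ULift.{u} ℚ) k :=
      ((algebraMap ℚ k).comp (ULift.ringEquiv (R := ℚ)).toRingHom).toAlgebra
    refine ⟨ULift.{u} ℚ, inferInstance, inferInstance, ?_, ?_⟩
    · intro C _
      constructor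
      intro f g
      have h1 : f.comp (ULift.ringEquiv (R := ℚ)).symm.toRingHom =
          g.comp (ULift.ringEquiv (R := ℚ)).symm.toRingHom := Subsingleton.elim _ _
      ext x
      have h2 := RingHom.congr_fun h1 (ULift.ringEquiv x)
      simp only [RingHom.comp_apply, RingEquiv.toRingHom_eq_coe, RingHom.coe_coe,
        RingEquiv.symm_apply_apply] at h2
      exact h2
    · intro L _ _
      haveI : CharZero (ULift.{u} ℚ) :=
        charZero_of_injective_ringHom (f := (ULift.ringEquiv (R := ℚ)).symm.toRingHom)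
          (ULift.ringEquiv (R := ℚ)).symm.injective
      exact Groth.Agent.Helper14.PerfectSmooth.formallySmooth_of_charZero _ L

variable {k K : Type u} [Field k] [Field K] [Algebra k K]

/-- **Part B**: if `Υ_{K/k}` has finite rank `≤ n`, then `K[[T_1, …, T_n]]` carries a `k`-algebra
structure lifting `k → K` for which it is formally smooth over `k`. -/
theorem exists_twisted [Module.Finite K (EGA41.imperfection ℤ k K)] (n : ℕ)
    (hn : Module.finrank K (EGA41.imperfection ℤ k K) ≤ n) :
    ∃ v : k →+* MvPowerSeries (Fin n) K, (∀ x, constantCoeff (v x) = algebraMap k K x) ∧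
      @CAlgX.IsAdicFormallySmooth k _ (MvPowerSeries (Fin n) K) _ v.toAlgebra
        (maximalIdeal (MvPowerSeries (Fin n) K)) := by
  classical
  obtain ⟨F, _, _, hF, hsm⟩ := exists_primeField' k
  letI : Algebra F K := ((algebraMap k K).comp (algebraMap F k)).toAlgebra
  haveI : Algebra.FormallySmooth F k := hsm k
  haveI : Algebra.FormallySmooth F K := hsm K
  -- θ
  haveI : Module.Free K (EGA41.imperfection ℤ k K) :=
    Module.Free.of_divisionRing K (EGA41.imperfection ℤ k K)
  obtain ⟨j, hj⟩ := (finrank_le_iff_exists_linearMap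
    (R := K) (M := EGA41.imperfection ℤ k K) (M' := Fin n → K)).mp (by
      rw [Module.finrank_fin_fun]; exact hn)
  obtain ⟨θ, hθ⟩ := LinearMap.exists_extend j
  have hθ' : ∀ υ : EGA41.imperfection ℤ k K, θ (υ : K ⊗[k] Ω[k⁄ℤ]) = j υ :=
    fun υ => LinearMap.congr_fun hθ υ
  let Φ : K ⊗[k] Ω[k⁄ℤ] →ₗ[K] Ω[K⁄ℤ] × (Fin n → K) := (mapBaseChange ℤ k K).prod θ
  have hΦ : LinearMap.ker Φ = ⊥ := by
    rw [LinearMap.ker_eq_bot']
    intro w hw
    have h1 : mapBaseChange ℤ k K w = 0 := congrArg Prod.fst hw
    have h2 : θ w = 0 := congrArg Prod.snd hw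
    have h3 : j ⟨w, h1⟩ = 0 := by rw [← hθ']; exact h2
    have h4 : (⟨w, h1⟩ : EGA41.imperfection ℤ k K) = 0 := hj (h3.trans (map_zero j).symm)
    exact congrArg Subtype.val h4
  obtain ⟨Ψ, hΨ⟩ := LinearMap.exists_leftInverse_of_injective Φ hΦ
  -- the derivations θ_i
  let θi : Fin n → k →+ K := fun i =>
    { toFun := fun x => θ ((1 : K) ⊗ₜ[k] D ℤ k x) i
      map_zero' := by simp
      map_add' := fun x y => by simp [TensorProduct.tmul_add] }
  have hθi : ∀ i x, θi i x = θ ((1 : K) ⊗ₜ[k] D ℤ k x) i := fun i x => rfl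
  have hθiL : ∀ i x y, θi i (x * y) = algebraMap k K x * θi i y + algebraMap k K y * θi i x := by
    intro i x y
    rw [hθi, hθi, hθi, Derivation.leibniz, TensorProduct.tmul_add, TensorProduct.tmul_smul,
      TensorProduct.tmul_smul, map_add, Pi.add_apply, ← algebraMap_smul K x, ← algebraMap_smul K y,
      map_smul, map_smul, Pi.smul_apply, Pi.smul_apply, smul_eq_mul, smul_eq_mul]
  obtain ⟨v, hv0, hv1⟩ := exists_lift (F := F) hF n (algebraMap k K) θi hθiL
  refine ⟨v, hv0, ?_⟩
  refine isAdicFormallySmooth_twisted (F := F) hF n (algebraMap k K) v hv0 ?_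
  intro V _ _ δ hδ
  -- δ as a derivation of k
  letI : Module k V := Module.compHom V (algebraMap k K)
  haveI : IsScalarTower k K V := ⟨fun x c w => by
    show (x • c) • w = algebraMap k K x • (c • w)
    rw [Algebra.smul_def, mul_smul]⟩
  have hksm : ∀ (x : k) (w : V), x • w = algebraMap k K x • w := fun x w => rfl
  let δl : k →ₗ[ℤ] V := δ.toIntLinearMap
  let δd : Derivation ℤ k V := Derivation.mk' δl (fun a b => by
    show δ (a * b) = a • δ b + b • δ a
    rw [hδ, hksm, hksm])
  let δt : K ⊗[k] Ω[k⁄ℤ] →ₗ[K] V := LinearMap.liftBaseChange K δd.liftKaehlerDifferential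
  have hδt : ∀ x, δt ((1 : K) ⊗ₜ[k] D ℤ k x) = δ x := by
    intro x
    rw [LinearMap.liftBaseChange_tmul, Derivation.liftKaehlerDifferential_comp_D, one_smul]
    rfl
  let g : Ω[K⁄ℤ] × (Fin n → K) →ₗ[K] V := δt.comp Ψ
  have hg : ∀ w, g (Φ w) = δt w := by
    intro w
    show δt (Ψ (Φ w)) = δt w
    have h0 : Ψ (Φ w) = w := LinearMap.congr_fun hΨ w
    rw [h0]
  refine ⟨(g.comp (LinearMap.inl K _ _)).compDer (D ℤ K), fun i => g (0, Pi.single i 1), ?_⟩
  intro x
  rw [← hδt, ← hg]
  have h1 : Φ ((1 : K) ⊗ₜ[k] D ℤ k x) =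
      (D ℤ K (algebraMap k K x), 0) + ∑ i, (θi i x) • ((0 : Ω[K⁄ℤ]), (Pi.single i 1 : Fin n → K)) := by
    refine Prod.ext ?_ ?_
    · rw [Prod.fst_add, Prod.fst_sum]
      simp [Φ, mapBaseChange_tmul]
    · rw [Prod.snd_add, Prod.snd_sum]
      funext l
      simp only [Φ, LinearMap.prod_apply, Function.prod, Prod.snd_zero, zero_add,
        Prod.smul_snd, Finset.sum_apply, Pi.smul_apply, Pi.single_apply,
        smul_eq_mul, mul_ite, mul_one, mul_zero, Finset.sum_ite_eq, Finset.mem_univ, if_true]
      rw [hθi]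
  rw [h1, map_add, map_sum]
  congr 1
  refine Finset.sum_congr rfl (fun i _ => ?_)
  rw [map_smul, hv1]

end Assembly

end Groth.Agent.Helper14.FSResidue
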