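import Mathlib

set_option autoImplicit false
set_option linter.style.haveILetI false
set_option linter.unusedSectionVars false
set_option linter.unusedVariables false

universe u
open CategoryTheory CategoryTheory.Limits AlgebraicGeometry

namespace Groth.Agent.Helper14.FacDescent

/-- (D3) Zariski version -/
theorem exists_fac_of_openCover {G' H' T : Scheme.{u}} (m : H' ⟶ G') [Mono m] (g : T ⟶ G')
    (𝒰 : T.OpenCover) (h : ∀ l, ∃ a : 𝒰.X l ⟶ H', a ≫ m = 𝒰.f l ≫ g) :
    ∃ a : T ⟶ H', a ≫ m = g := by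
  choose a ha using h
  refine ⟨𝒰.glueMorphisms a ?_, ?_⟩
  · intro i j
    rw [← cancel_mono m, Category.assoc, Category.assoc, ha, ha, ← Category.assoc,
      ← Category.assoc, pullback.condition]
  · refine 𝒰.hom_ext _ _ fun i => ?_
    rw [← Category.assoc, 𝒰.ι_glueMorphisms, ha]

/-- (D2) fpqc descent of factorisations through a monomorphism, over an affine base, in the covering
shape of `TwC.Locally _ .fpqc`. -/
theorem exists_fac_of_fpqc_locally {S : Scheme.{u}} [IsAffine S] {G' H' : Scheme.{u}} (m : H' ⟶ G')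
    [Mono m] {S' : Scheme.{u}} (f : S' ⟶ S) [Flat f] [Surjective f]
    (hqc : ∀ V : S.Opens, IsAffineOpen V →
      ∃ W : S'.Opens, IsCompact (W : Set S') ∧ f.base '' (W : Set S') = (V : Set S))
    (U : S' → S'.Opens) (hU : ∀ s', s' ∈ U s')
    {T : Scheme.{u}} (t : T ⟶ S) (g : T ⟶ G')
    (h : ∀ s', ∃ a : pullback t ((U s').ι ≫ f) ⟶ H', a ≫ m = pullback.fst t ((U s').ι ≫ f) ≫ g) :
    ∃ a : T ⟶ H', a ≫ m = g := by
  obtain ⟨W, hWc, hWs⟩ := hqc ⊤ (isAffineOpen_top S)
  let q : W.toScheme ⟶ S := W.ι ≫ f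
  haveI : Flat q := by dsimp only [q]; infer_instance
  haveI : CompactSpace W.toScheme := isCompact_iff_compactSpace.mp hWc
  haveI : QuasiCompact q := (HasAffineProperty.iff_of_isAffine (P := @QuasiCompact)).mpr inferInstance
  haveI : Surjective q := by
    refine ⟨fun s => ?_⟩
    have hs : s ∈ f.base '' (W : Set S') := by rw [hWs]; trivial
    obtain ⟨w, hw, rfl⟩ := hs
    exact ⟨⟨w, hw⟩, rfl⟩
  let p : pullback t q ⟶ T := pullback.fst t q
  haveI : Flat p := by dsimp only [p]; infer_instance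
  haveI : Surjective p := by dsimp only [p]; infer_instance
  haveI : QuasiCompact p := by dsimp only [p]; infer_instance
  -- step 1: factorisation on `pullback t q`
  have hb : ∃ b : pullback t q ⟶ H', b ≫ m = p ≫ g := by
    let V : W.toScheme → (pullback t q).Opens := fun w =>
      (pullback.snd t q) ⁻¹ᵁ (W.ι ⁻¹ᵁ (U w.1))
    have hV : TopologicalSpace.IsOpenCover V := by
      refine TopologicalSpace.IsOpenCover.mk (eq_top_iff.mpr fun x _ => ?_)
      rw [TopologicalSpace.Opens.mem_iSup]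
      exact ⟨(pullback.snd t q).base x, hU _⟩
    refine exists_fac_of_openCover m (p ≫ g) ((pullback t q).openCoverOfIsOpenCover V hV) ?_
    intro (w : W.toScheme)
    change ∃ a : (V w).toScheme ⟶ H', a ≫ m = (V w).ι ≫ p ≫ g
    obtain ⟨a, ha⟩ := h w.1
    have hrange : Set.range ((V w).ι ≫ pullback.snd t q ≫ W.ι).base ⊆
        Set.range (U w.1).ι.base := by
      rintro _ ⟨x, rfl⟩
      rw [Scheme.Opens.range_ι]
      exact x.2
    let c : (V w).toScheme ⟶ (U w.1).toScheme :=
      IsOpenImmersion.lift (U w.1).ι ((V w).ι ≫ pullback.snd t q ≫ W.ι) hrange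
    have hc : c ≫ (U w.1).ι = (V w).ι ≫ pullback.snd t q ≫ W.ι :=
      IsOpenImmersion.lift_fac _ _ _
    let d : (V w).toScheme ⟶ pullback t ((U w.1).ι ≫ f) :=
      pullback.lift ((V w).ι ≫ p) c (by
        rw [← Category.assoc c, hc]
        simp only [Category.assoc, p]
        rw [pullback.condition])
    have hd : d ≫ pullback.fst t ((U w.1).ι ≫ f) = (V w).ι ≫ p := pullback.lift_fst _ _ _
    refine ⟨d ≫ a, ?_⟩
    rw [Category.assoc, ha, ← Category.assoc, hd, Category.assoc]
  obtain ⟨b, hb⟩ := hb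
  -- step 2: effective descent along `p`
  have hcoeq : ∀ {Z : Scheme.{u}} (g₁ g₂ : Z ⟶ pullback t q), g₁ ≫ p = g₂ ≫ p →
      g₁ ≫ b = g₂ ≫ b := by
    intro Z g₁ g₂ h12
    rw [← cancel_mono m, Category.assoc, Category.assoc, hb, ← Category.assoc, h12,
      Category.assoc]
  refine ⟨EffectiveEpi.desc p b hcoeq, ?_⟩
  rw [← cancel_epi p, ← Category.assoc, EffectiveEpi.fac, hb]

end Groth.Agent.Helper14.FacDescent
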