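import Mathlib
import Groth.Prelude.Def_EGA4b
import Groth.Agent.Lib.Helper14.RegHomTFAE

namespace Groth.Agent.Helper14.FibLocDim
universe u
open IsLocalRing

section F2
variable {B : Type*} [CommRing B]

/-- the local ring at a minimal prime `P` over `J` modulo `J` is zero-dimensional. -/
theorem ringKrullDim_quotient_localization_eq_zero (J : Ideal B) (P : Ideal B) [hP : P.IsPrime]
    (hmin : P ∈ J.minimalPrimes) :
    ringKrullDim (Localization.AtPrime P ⧸ J.map (algebraMap B (Localization.AtPrime P))) = 0 := by
  have hle : J.map (algebraMap B (Localization.AtPrime P)) ≤ maximalIdeal (Localization.AtPrime P) := by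
    rw [← Localization.AtPrime.map_eq_maximalIdeal]
    exact Ideal.map_mono hmin.1.2
  haveI : Nontrivial (Localization.AtPrime P ⧸ J.map (algebraMap B (Localization.AtPrime P))) := by
    rw [Ideal.Quotient.nontrivial_iff]
    intro h
    rw [h] at hle
    exact (maximalIdeal.isMaximal (Localization.AtPrime P)).ne_top (top_le_iff.mp hle)
  rw [← ringKrullDimZero_iff_ringKrullDim_eq_zero,
    Ideal.krullDimLE_zero_quotient_iff_forall_minimalPrimes_isMaximal]
  intro Q hQ
  haveI hQp : Q.IsPrime := hQ.1.1
  have hQ' : Q.comap (algebraMap B (Localization.AtPrime P)) ∈ J.minimalPrimes := by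
    rw [IsLocalization.minimalPrimes_map P.primeCompl (Localization.AtPrime P) J] at hQ
    exact hQ
  have h1 : Q.comap (algebraMap B (Localization.AtPrime P)) ≤ P := by
    have h2 : Q ≤ maximalIdeal (Localization.AtPrime P) := IsLocalRing.le_maximalIdeal hQp.ne_top
    have h3 := Ideal.comap_mono (f := algebraMap B (Localization.AtPrime P)) h2
    rwa [← Ideal.under_def, ← Ideal.under_def, Localization.AtPrime.comap_maximalIdeal] at h3
  have h4 : P ≤ Q.comap (algebraMap B (Localization.AtPrime P)) := hmin.2 hQ'.1 h1
  have h5 : Q.comap (algebraMap B (Localization.AtPrime P)) = P := le_antisymm h1 h4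
  have h6 : Q = maximalIdeal (Localization.AtPrime P) := by
    rw [← IsLocalization.map_comap P.primeCompl (Localization.AtPrime P) Q, Ideal.under_def, h5,
      Localization.AtPrime.map_eq_maximalIdeal]
  rw [h6]
  exact maximalIdeal.isMaximal _

end F2

section F1
variable {A B : Type u} [CommRing A] [CommRing B] [Algebra A B] [IsNoetherianRing A]
  [IsNoetherianRing B] [Module.Flat A B]

/-- **dimension formula for the local rings of the fibres of a flat map**. -/
theorem ringKrullDim_fibLocRing_add (P : Ideal B) [P.IsPrime] :
    ringKrullDim (EGA4.FibLocRing A B P) +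
        ringKrullDim (Localization.AtPrime (P.comap (algebraMap A B))) =
      ringKrullDim (Localization.AtPrime P) := by
  set p := P.comap (algebraMap A B) with hp
  haveI : P.LiesOver p := ⟨rfl⟩
  letI := Localization.AtPrime.algebraOfLiesOver p P
  haveI : IsLocalHom (algebraMap (Localization.AtPrime p) (Localization.AtPrime P)) :=
    Localization.isLocalHom_localRingHom _ _ _ _
  have hI : (maximalIdeal (Localization.AtPrime p)).map
      (algebraMap (Localization.AtPrime p) (Localization.AtPrime P)) =
      p.map (algebraMap A (Localization.AtPrime P)) := by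
    rw [← Localization.AtPrime.map_eq_maximalIdeal, Ideal.map_map, ← IsScalarTower.algebraMap_eq]
  have hne : (maximalIdeal (Localization.AtPrime p)).map
      (algebraMap (Localization.AtPrime p) (Localization.AtPrime P)) ≠ ⊤ := by
    intro h
    have := RegHomTFAE.map_le (A := Localization.AtPrime p) (B := Localization.AtPrime P)
    rw [h] at this
    exact (maximalIdeal.isMaximal (Localization.AtPrime P)).ne_top (top_le_iff.mp this)
  haveI : Nontrivial (Localization.AtPrime P ⧸ (maximalIdeal (Localization.AtPrime p)).map
      (algebraMap (Localization.AtPrime p) (Localization.AtPrime P))) :=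
    Ideal.Quotient.nontrivial_iff.mpr hne
  haveI : IsLocalRing (Localization.AtPrime P ⧸ (maximalIdeal (Localization.AtPrime p)).map
      (algebraMap (Localization.AtPrime p) (Localization.AtPrime P))) :=
    IsLocalRing.of_surjective' (Ideal.Quotient.mk _) Ideal.Quotient.mk_surjective
  have h1 := RegHomTFAE.dim_eq_of_flat (A := Localization.AtPrime p) (B := Localization.AtPrime P)
  have h2 : ringKrullDim (Localization.AtPrime P ⧸ (maximalIdeal (Localization.AtPrime p)).map
      (algebraMap (Localization.AtPrime p) (Localization.AtPrime P))) =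
      ringKrullDim (EGA4.FibLocRing A B P) :=
    ringKrullDim_eq_of_ringEquiv (Ideal.quotEquivOfEq hI)
  rw [h1, h2, add_comm]

end F1

theorem arith (d : WithBot ℕ∞) (a b r rK : ℕ) (h1 : d + (a : WithBot ℕ∞) = (b : WithBot ℕ∞))
    (h2 : (b : WithBot ℕ∞) + (rK : WithBot ℕ∞) = (a : WithBot ℕ∞) + (r : WithBot ℕ∞)) :
    d + (rK : WithBot ℕ∞) = (r : WithBot ℕ∞) := by
  induction d using WithBot.recBotCoe with
  | bot => rw [WithBot.bot_add] at h1; exact absurd h1 (by simp)
  | coe d =>
    induction d using ENat.recTopCoe with
    | top =>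
      exfalso
      have : ((⊤ : ℕ∞) : WithBot ℕ∞) + (a : WithBot ℕ∞) = ((⊤ : ℕ∞) : WithBot ℕ∞) := by
        rw [show (a : WithBot ℕ∞) = ((a : ℕ∞) : WithBot ℕ∞) from rfl, ← WithBot.coe_add, top_add]
      rw [this] at h1
      have h3 : ((⊤ : ℕ∞) : WithBot ℕ∞) = ((b : ℕ∞) : WithBot ℕ∞) := h1
      rw [WithBot.coe_inj] at h3
      exact ENat.top_ne_coe b h3
    | coe c =>
      have h1' : (c + a : ℕ) = b := by exact_mod_cast h1
      have h2' : (b + rK : ℕ) = a + r := by exact_mod_cast h2
      have : c + rK = r := by omega
      exact_mod_cast this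

end Groth.Agent.Helper14.FibLocDim
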