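import Groth.Prelude.Def_FlatCA
import Mathlib.RingTheory.Ideal.MinimalPrime.Localization

set_option autoImplicit false
universe u v

namespace Groth.Agent.Helper14

variable {R : Type u} [CommRing R] {M : Type v} [AddCommGroup M] [Module R M]

theorem exists_mul_pow_mem_of_mem_minimalPrimes {I p : Ideal R} (hp : p ∈ I.minimalPrimes)
    {x : R} (hx : x ∈ p) : ∃ s, s ∉ p ∧ ∃ n : ℕ, s * x ^ n ∈ I := by
  by_contra hcon
  have hp' : p.IsPrime := hp.1.1
  replace hcon : ∀ s, s ∉ p → ∀ n : ℕ, s * x ^ n ∉ I := by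
    intro s hs n hn
    exact hcon ⟨s, hs, n, hn⟩
  have hdisj : Disjoint (I : Set R)
      ((p.primeCompl ⊔ Submonoid.powers x : Submonoid R) : Set R) := by
    rw [Set.disjoint_left]
    intro y hyI hyT
    obtain ⟨s, hs, z, ⟨n, rfl⟩, rfl⟩ := Submonoid.mem_sup.mp hyT
    exact hcon s hs n hyI
  obtain ⟨q, hq, hIq, hqT⟩ := Ideal.exists_le_prime_disjoint I _ hdisj
  have hqp : q ≤ p := by
    intro y hy
    by_contra hyp
    exact Set.disjoint_left.mp hqT hy (Submonoid.mem_sup_left hyp)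
  have hpq : p ≤ q := hp.2 ⟨hq, hIq⟩ hqp
  exact Set.disjoint_left.mp hqT (hpq hx) (Submonoid.mem_sup_right (Submonoid.mem_powers x))

theorem mem_minimalPrimes_of_forall_exists {I p : Ideal R} [hp : p.IsPrime] (hI : I ≤ p)
    (h : ∀ x ∈ p, ∃ s, s ∉ p ∧ ∃ n : ℕ, s * x ^ n ∈ I) : p ∈ I.minimalPrimes := by
  refine ⟨⟨hp, hI⟩, ?_⟩
  rintro q ⟨hq, hIq⟩ hqp x hx
  obtain ⟨s, hs, n, hn⟩ := h x hx
  rcases hq.mem_or_mem (hIq hn) with h1 | h1
  · exact absurd (hqp h1) hs
  · exact hq.mem_of_pow_mem n h1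

theorem minimalPrimes_of_le_of_le {I J p : Ideal R} (hp : p ∈ I.minimalPrimes) (hIJ : I ≤ J)
    (hJp : J ≤ p) : p ∈ J.minimalPrimes :=
  ⟨⟨hp.1.1, hJp⟩, fun _ hq hqp => hp.2 ⟨hq.1, hIJ.trans hq.2⟩ hqp⟩

/-- Annihilator of an element. -/
abbrev annElt (R : Type u) [CommRing R] {M : Type v} [AddCommGroup M] [Module R M] (m : M) :
    Ideal R := (Submodule.span R {m}).annihilator

theorem mem_annElt {m : M} {a : R} : a ∈ annElt R m ↔ a • m = 0 :=
  Submodule.mem_annihilator_span_singleton _ _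

theorem annElt_ne_top {m : M} (hm : m ≠ 0) : annElt R m ≠ ⊤ := by
  intro htop
  apply hm
  have h1 : (1 : R) ∈ annElt R m := htop ▸ Submodule.mem_top
  rw [mem_annElt] at h1
  simpa using h1

theorem annElt_eq_top_iff {m : M} : annElt R m = ⊤ ↔ m = 0 := by
  constructor
  · intro h
    by_contra hm
    exact annElt_ne_top hm h
  · rintro rfl
    rw [Ideal.eq_top_iff_one, mem_annElt, smul_zero]

theorem mem_weakAss_iff {p : Ideal R} :
    p ∈ FlatCA.weakAss R M ↔ ∃ m : M, p ∈ (annElt R m).minimalPrimes := Iff.rfl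

theorem mem_ass_iff {p : Ideal R} :
    p ∈ FlatCA.ass R M ↔ p.IsPrime ∧ ∃ m : M, p = annElt R m := Iff.rfl

theorem isPrime_of_mem_weakAss {p : Ideal R} (hp : p ∈ FlatCA.weakAss R M) : p.IsPrime := by
  obtain ⟨m, hm⟩ := hp
  exact hm.1.1

/-- `annElt` of `a • m` contains `annElt m`. -/
theorem annElt_le_annElt_smul (a : R) (m : M) : annElt R m ≤ annElt R (a • m) := by
  intro b hb
  rw [mem_annElt] at hb ⊢
  rw [smul_comm, hb, smul_zero]

theorem annElt_smul_le_of_notMem {p : Ideal R} [p.IsPrime] {a : R} (ha : a ∉ p) {m : M}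
    (h : annElt R m ≤ p) : annElt R (a • m) ≤ p := by
  intro b hb
  rw [mem_annElt, smul_smul] at hb
  have : b * a ∈ p := h (mem_annElt.mpr hb)
  exact (Ideal.IsPrime.mem_or_mem inferInstance this).resolve_right ha

end Groth.Agent.Helper14
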