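import Groth.Prelude.Def_FlatCA
import Groth.Agent.Lib.Helper14.WeakAss
import Mathlib

set_option autoImplicit false
universe u

namespace Groth.Agent.Helper14

open TensorProduct

section Residue
variable {R : Type u} [CommRing R] (p : Ideal R) [p.IsPrime] {N : Type u} [AddCommGroup N]
  [Module R N]

/-- If `1 ⊗ n = 0` in `κ(p) ⊗ N` then some `r ∉ p` has `r • n ∈ pN`. -/
theorem exists_smul_mem_of_one_tmul_eq_zero (n : N)
    (h : (1 : p.ResidueField) ⊗ₜ[R] n = 0) : ∃ r ∉ p, r • n ∈ (p • ⊤ : Submodule R N) := by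
  have h1 : (1 : p.ResidueField) ⊗ₜ[R ⧸ p] ((1 : R ⧸ p) ⊗ₜ[R] n) = 0 := by
    have := congrArg (TensorProduct.AlgebraTensorModule.cancelBaseChange R (R ⧸ p)
      p.ResidueField p.ResidueField N).symm h
    simpa using this
  have h2 := (IsLocalizedModule.eq_zero_iff (nonZeroDivisors (R ⧸ p))
    (TensorProduct.mk (R ⧸ p) p.ResidueField ((R ⧸ p) ⊗[R] N) 1)).1 h1
  obtain ⟨⟨c, hc⟩, hcn⟩ := h2
  obtain ⟨r, rfl⟩ := Ideal.Quotient.mk_surjective c
  refine ⟨r, ?_, ?_⟩
  · intro hr
    have : Ideal.Quotient.mk p r = 0 := Ideal.Quotient.eq_zero_iff_mem.2 hr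
    exact nonZeroDivisors.ne_zero hc this
  · have h3 : (Ideal.Quotient.mk p r) ⊗ₜ[R] n = (0 : (R ⧸ p) ⊗[R] N) := by
      simpa [Submonoid.smul_def, TensorProduct.smul_tmul'] using hcn
    have h4 := congrArg (TensorProduct.quotTensorEquivQuotSMul N p) h3
    rw [TensorProduct.quotTensorEquivQuotSMul_mk_tmul, map_zero] at h4
    exact (Submodule.Quotient.mk_eq_zero _).1 h4

end Residue

section FlatTorsion
variable {R : Type u} [CommRing R] (p : Ideal R) [p.IsPrime] {N : Type u} [AddCommGroup N]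
  [Module R N]

/-- For flat `N`, elements outside `p` are nonzerodivisors on `N/pN`. -/
theorem mem_smul_top_of_smul_mem_of_flat [Module.Flat R N] {r : R} (hr : r ∉ p) {n : N}
    (h : r • n ∈ (p • ⊤ : Submodule R N)) : n ∈ (p • ⊤ : Submodule R N) := by
  have hc : Ideal.Quotient.mk p r ∈ nonZeroDivisors (R ⧸ p) := by
    apply mem_nonZeroDivisors_of_ne_zero
    intro h0
    exact hr (Ideal.Quotient.eq_zero_iff_mem.1 h0)
  have hreg : ∀ a b : (R ⧸ p) ⊗[R] N,
      (Ideal.Quotient.mk p r) • a = (Ideal.Quotient.mk p r) • b → a = b := by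
    have := Module.Flat.isSMulRegular_of_nonZeroDivisors (M := (R ⧸ p) ⊗[R] N) hc
    intro a b hab
    exact this hab
  have h1 : (Ideal.Quotient.mk p r) • ((1 : R ⧸ p) ⊗ₜ[R] n) = (0 : (R ⧸ p) ⊗[R] N) := by
    apply (TensorProduct.quotTensorEquivQuotSMul N p).injective
    rw [TensorProduct.smul_tmul', smul_eq_mul, mul_one,
      TensorProduct.quotTensorEquivQuotSMul_mk_tmul, map_zero]
    exact (Submodule.Quotient.mk_eq_zero _).2 h
  have h2 : ((1 : R ⧸ p) ⊗ₜ[R] n) = (0 : (R ⧸ p) ⊗[R] N) := by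
    apply hreg
    rw [h1, smul_zero]
  have h3 := congrArg (TensorProduct.quotTensorEquivQuotSMul N p) h2
  rw [← map_one (Ideal.Quotient.mk p), TensorProduct.quotTensorEquivQuotSMul_mk_tmul, map_zero,
    one_smul] at h3
  exact (Submodule.Quotient.mk_eq_zero _).1 h3

omit [p.IsPrime] in
theorem tmul_one_eq_zero_iff (n : N) :
    n ⊗ₜ[R] (1 : R ⧸ p) = 0 ↔ n ∈ (p • ⊤ : Submodule R N) := by
  rw [← (TensorProduct.tensorQuotEquivQuotSMul N p).map_eq_zero_iff,
    ← map_one (Ideal.Quotient.mk p), TensorProduct.tensorQuotEquivQuotSMul_tmul_mk, one_smul,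
    Submodule.Quotient.mk_eq_zero]

omit [p.IsPrime] in
/-- For flat `N` and `m` with annihilator `p`, `n ⊗ m = 0` iff `n ∈ pN`. -/
theorem tmul_eq_zero_iff_of_flat [Module.Flat R N] {M : Type u} [AddCommGroup M] [Module R M]
    (m : M) (hm : p = annElt R m) (n : N) :
    n ⊗ₜ[R] m = 0 ↔ n ∈ (p • ⊤ : Submodule R N) := by
  let ψ : R ⧸ p →ₗ[R] M := Submodule.liftQ p (LinearMap.toSpanSingleton R M m) (by
    intro r hr
    rw [hm, mem_annElt] at hr
    simpa using hr)
  have hψ : Function.Injective ψ := by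
    rw [← LinearMap.ker_eq_bot, Submodule.ker_liftQ_eq_bot']
    ext r
    rw [LinearMap.mem_ker, LinearMap.toSpanSingleton_apply, hm, mem_annElt]
  have hinj := Module.Flat.lTensor_preserves_injective_linearMap (M := N) ψ hψ
  have h1 : LinearMap.lTensor N ψ (n ⊗ₜ[R] (1 : R ⧸ p)) = n ⊗ₜ[R] m := by
    rw [LinearMap.lTensor_tmul]
    congr 1
    change ψ (Submodule.Quotient.mk 1) = m
    rw [Submodule.liftQ_apply, LinearMap.toSpanSingleton_apply, one_smul]
  rw [← h1, ← map_zero (LinearMap.lTensor N ψ), hinj.eq_iff]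
  have hone : (1 : R ⧸ p) = Ideal.Quotient.mk p 1 := rfl
  rw [hone, ← (TensorProduct.tensorQuotEquivQuotSMul N p).map_eq_zero_iff,
    TensorProduct.tensorQuotEquivQuotSMul_tmul_mk, one_smul, Submodule.Quotient.mk_eq_zero]

end FlatTorsion

section Fiber
variable {R S : Type u} [CommRing R] [CommRing S] [Algebra R S] (p : Ideal R) [p.IsPrime]
  (N : Type u) [AddCommGroup N] [Module S N] [Module R N] [IsScalarTower R S N]

attribute [local instance] Algebra.TensorProduct.rightAlgebra

/-- The swap `κ(p) ⊗ S → S ⊗ κ(p)` as an `S`-linear map. -/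
noncomputable def fiberComm : p.Fiber S →ₗ[S] S ⊗[R] p.ResidueField where
  toFun := Algebra.TensorProduct.comm R p.ResidueField S
  map_add' := map_add _
  map_smul' s b := by
    rw [Algebra.smul_def, map_mul, RingHom.id_apply, Algebra.TensorProduct.right_algebraMap_apply,
      Algebra.TensorProduct.comm_tmul, Algebra.smul_def]
    rfl

@[simp] theorem fiberComm_tmul (c : p.ResidueField) (s : S) :
    fiberComm (S := S) p (c ⊗ₜ[R] s) = s ⊗ₜ[R] c := rfl

/-- The comparison map from the fibre module to `N ⊗ κ(p)`. -/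
noncomputable def fiberModTo : FlatCA.fiberMod p S N →ₗ[S] N ⊗[R] p.ResidueField :=
  (TensorProduct.AlgebraTensorModule.cancelBaseChange R S S N p.ResidueField).toLinearMap ∘ₗ
    (LinearMap.lTensor N (fiberComm (S := S) p)) ∘ₗ
      (TensorProduct.comm S (p.Fiber S) N).toLinearMap

theorem fiberModTo_toFiberMod (n : N) :
    fiberModTo p N (FlatCA.toFiberMod p S N n) = n ⊗ₜ[R] (1 : p.ResidueField) := by
  change (TensorProduct.AlgebraTensorModule.cancelBaseChange R S S N p.ResidueField)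
    (LinearMap.lTensor N (fiberComm (S := S) p)
      (TensorProduct.comm S (p.Fiber S) N ((1 : p.Fiber S) ⊗ₜ[S] n))) = _
  rw [TensorProduct.comm_tmul, LinearMap.lTensor_tmul, Algebra.TensorProduct.one_def,
    fiberComm_tmul, TensorProduct.AlgebraTensorModule.cancelBaseChange_tmul, one_smul]

/-- `toFiberMod n = 0` forces `r • n ∈ pN` for some `r ∉ p`. -/
theorem exists_smul_mem_of_toFiberMod_eq_zero (n : N) (h : FlatCA.toFiberMod p S N n = 0) :
    ∃ r ∉ p, (algebraMap R S r) • n ∈ ((p.map (algebraMap R S)) • ⊤ : Submodule S N) := by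
  have h1 : n ⊗ₜ[R] (1 : p.ResidueField) = 0 := by
    rw [← fiberModTo_toFiberMod (S := S) p N n, h, map_zero]
  have h2 : (1 : p.ResidueField) ⊗ₜ[R] n = 0 := by
    have := congrArg (TensorProduct.comm R N p.ResidueField) h1
    simpa using this
  obtain ⟨r, hr, hrn⟩ := exists_smul_mem_of_one_tmul_eq_zero p n h2
  refine ⟨r, hr, ?_⟩
  rw [algebraMap_smul S r n]
  revert hrn
  generalize r • n = m
  intro hm
  refine Submodule.smul_induction_on hm ?_ ?_
  · intro a ha x _
    rw [← algebraMap_smul S a x]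
    exact Submodule.smul_mem_smul (Ideal.mem_map_of_mem _ ha) Submodule.mem_top
  · intro x y hx hy
    exact add_mem hx hy

omit [Module R N] [IsScalarTower R S N] in
theorem toFiberMod_smul (s : S) (n : N) :
    FlatCA.toFiberMod p S N (s • n) = s • FlatCA.toFiberMod p S N n := map_smul _ _ _

omit [Module R N] [IsScalarTower R S N] in
/-- `toFiberMod` kills `pN`. -/
theorem toFiberMod_eq_zero_of_mem {m : N}
    (hm : m ∈ ((p.map (algebraMap R S)) • ⊤ : Submodule S N)) :
    FlatCA.toFiberMod p S N m = 0 := by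
  refine Submodule.smul_induction_on hm ?_ ?_
  · intro a ha x _
    refine Submodule.span_induction ?_ ?_ ?_ ?_ ha
    · rintro _ ⟨r, hr, rfl⟩
      change ((1 : p.Fiber S) ⊗ₜ[S] (algebraMap R S r • x) : (p.Fiber S) ⊗[S] N) = 0
      rw [← TensorProduct.smul_tmul, Algebra.smul_def, mul_one,
        Algebra.TensorProduct.right_algebraMap_apply, Algebra.algebraMap_eq_smul_one r,
        ← TensorProduct.smul_tmul]
      have : algebraMap R p.ResidueField r = 0 := Ideal.algebraMap_residueField_eq_zero.2 hr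
      rw [← Algebra.algebraMap_eq_smul_one, this, TensorProduct.zero_tmul, TensorProduct.zero_tmul]
    · rw [zero_smul, map_zero]
    · intro a b _ _ ha hb
      rw [add_smul, map_add, ha, hb, add_zero]
    · intro c a _ ha
      rw [smul_eq_mul, mul_smul, toFiberMod_smul, ha, smul_zero]
  · intro x y hx hy
    rw [map_add, hx, hy, add_zero]

omit [Module R N] [IsScalarTower R S N] in
theorem eq_zero_of_smul_eq_zero_aux {r : R} (hr : r ∉ p) (x : (p.Fiber S) ⊗[S] N)
    (h : (algebraMap R S r) • x = 0) : x = 0 := by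
  have hne : algebraMap R p.ResidueField r ≠ 0 :=
    fun h0 => hr (Ideal.algebraMap_residueField_eq_zero.1 h0)
  let u : p.Fiber S := (algebraMap R p.ResidueField r) ⊗ₜ[R] (1 : S)
  let v : p.Fiber S := (algebraMap R p.ResidueField r)⁻¹ ⊗ₜ[R] (1 : S)
  have hvu : v * u = 1 := by
    simp [u, v, Algebra.TensorProduct.tmul_mul_tmul, inv_mul_cancel₀ hne,
      Algebra.TensorProduct.one_def]
  have hu : ∀ y : (p.Fiber S) ⊗[S] N, (algebraMap R S r) • y = u • y := by
    intro y
    rw [← algebraMap_smul (p.Fiber S) (algebraMap R S r) y]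
    congr 1
    rw [Algebra.TensorProduct.right_algebraMap_apply, Algebra.algebraMap_eq_smul_one r,
      ← TensorProduct.smul_tmul, ← Algebra.algebraMap_eq_smul_one]
  have hx : x = v • (u • x) := by
    rw [smul_smul, hvu, one_smul]
  rw [hx, ← hu, h, smul_zero]

omit [Module R N] [IsScalarTower R S N] in
/-- Elements of `R ∖ p` act injectively on the fibre module. -/
theorem eq_zero_of_smul_fiberMod_eq_zero {r : R} (hr : r ∉ p) (x : FlatCA.fiberMod p S N)
    (h : (algebraMap R S r) • x = 0) : x = 0 :=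
  eq_zero_of_smul_eq_zero_aux p N hr x h

omit [Module R N] [IsScalarTower R S N] in
theorem exists_smul_eq_one_tmul_aux (x : (p.Fiber S) ⊗[S] N) :
    ∃ r ∉ p, ∃ n : N, (algebraMap R S r) • x = ((1 : p.Fiber S) ⊗ₜ[S] n) := by
  induction x using TensorProduct.induction_on with
  | zero => exact ⟨1, fun h => ‹p.IsPrime›.ne_top ((Ideal.eq_top_iff_one p).2 h), 0, by simp⟩
  | tmul b n =>
    obtain ⟨r, hr, s, hs⟩ := Ideal.Fiber.exists_smul_eq_one_tmul p b
    refine ⟨r, hr, s • n, ?_⟩
    rw [TensorProduct.smul_tmul', algebraMap_smul, hs, ← TensorProduct.smul_tmul,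
      Algebra.smul_def, mul_one, Algebra.TensorProduct.right_algebraMap_apply]
  | add x y hx hy =>
    obtain ⟨r₁, hr₁, n₁, h₁⟩ := hx
    obtain ⟨r₂, hr₂, n₂, h₂⟩ := hy
    refine ⟨r₁ * r₂, fun h => (‹p.IsPrime›.mem_or_mem h).elim hr₁ hr₂,
      algebraMap R S r₂ • n₁ + algebraMap R S r₁ • n₂, ?_⟩
    rw [smul_add, TensorProduct.tmul_add, TensorProduct.tmul_smul, TensorProduct.tmul_smul,
      ← h₁, ← h₂, map_mul, smul_smul, smul_smul, mul_comm (algebraMap R S r₁)]

omit [Module R N] [IsScalarTower R S N] in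
/-- Every element of the fibre module is, up to a unit from `R ∖ p`, in the image of `N`. -/
theorem exists_smul_eq_toFiberMod (x : FlatCA.fiberMod p S N) :
    ∃ r ∉ p, ∃ n : N, (algebraMap R S r) • x = FlatCA.toFiberMod p S N n :=
  exists_smul_eq_one_tmul_aux p N x

theorem toFiberMod_eq_zero_iff (n : N) :
    FlatCA.toFiberMod p S N n = 0 ↔
      ∃ r ∉ p, (algebraMap R S r) • n ∈ ((p.map (algebraMap R S)) • ⊤ : Submodule S N) := by
  constructor
  · exact exists_smul_mem_of_toFiberMod_eq_zero p N n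
  · rintro ⟨r, hr, h⟩
    apply eq_zero_of_smul_fiberMod_eq_zero p N hr
    rw [← toFiberMod_smul]
    exact toFiberMod_eq_zero_of_mem p N h

/-- The annihilator in `S` of `toFiberMod n`. -/
theorem mem_annElt_toFiberMod (n : N) (s : S) :
    s ∈ annElt S (FlatCA.toFiberMod p S N n) ↔
      ∃ r ∉ p, (algebraMap R S r * s) • n ∈ ((p.map (algebraMap R S)) • ⊤ : Submodule S N) := by
  rw [mem_annElt, ← toFiberMod_smul, toFiberMod_eq_zero_iff]
  simp only [mul_smul]

omit [p.IsPrime] [Module R N] [IsScalarTower R S N] in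
/-- The annihilator in `S` of the class of `n` in `N/pN`. -/
theorem mem_annElt_mk (n : N) (s : S) :
    s ∈ annElt S (Submodule.Quotient.mk (p := ((p.map (algebraMap R S)) • ⊤ : Submodule S N)) n) ↔
      s • n ∈ ((p.map (algebraMap R S)) • ⊤ : Submodule S N) := by
  rw [mem_annElt, ← Submodule.Quotient.mk_smul, Submodule.Quotient.mk_eq_zero]

omit [p.IsPrime] in
theorem mem_map_smul_top_iff (m : N) :
    m ∈ ((p.map (algebraMap R S)) • ⊤ : Submodule S N) ↔ m ∈ (p • ⊤ : Submodule R N) := by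
  have := Ideal.smul_restrictScalars p (⊤ : Submodule S N)
  rw [Submodule.restrictScalars_top] at this
  rw [← this, Submodule.restrictScalars_mem]

/-- For `N` flat over `R`, elements outside `p` are nonzerodivisors on `N/pN`. -/
theorem mem_of_smul_mem_of_flat [Module.Flat R N] {r : R} (hr : r ∉ p) {n : N}
    (h : (algebraMap R S r) • n ∈ ((p.map (algebraMap R S)) • ⊤ : Submodule S N)) :
    n ∈ ((p.map (algebraMap R S)) • ⊤ : Submodule S N) := by
  rw [mem_map_smul_top_iff] at h ⊢
  rw [algebraMap_smul] at h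
  exact mem_smul_top_of_smul_mem_of_flat p hr h

end Fiber

end Groth.Agent.Helper14
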