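import Mathlib

/-!
# Two point-set lemmas for open subfunctors of `Mor_S(Z, X)` (helper14)
-/

set_option autoImplicit false
set_option linter.style.haveILetI false
set_option linter.unusedSectionVars false
set_option linter.unusedVariables false

universe u
open CategoryTheory CategoryTheory.Limits AlgebraicGeometry

namespace Groth.Agent.Helper14.FibrePts

/-- For a closed map `p : P ⟶ T` (e.g. finite, proper), `b : P ⟶ X` and `V ⊆ X` open, the set of
`t ∈ T` whose whole fibre `p⁻¹(t)` is mapped into `V` by `b` is open. -/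
theorem isOpen_fibre_subset {P T X : Scheme.{u}} (p : P ⟶ T) (hp : IsClosedMap p.base)
    (b : P ⟶ X) (V : X.Opens) :
    IsOpen {t : T | ∀ q : P, p q = t → b q ∈ V} := by
  have h : {t : T | ∀ q : P, p q = t → b q ∈ V} = (p.base '' (b.base ⁻¹' (V : Set X)ᶜ))ᶜ := by
    ext t
    simp only [Set.mem_ofPred_eq, Set.mem_compl_iff, Set.mem_image, Set.mem_preimage,
      SetLike.mem_coe, not_exists, not_and]
    constructor
    · intro h q hq hpq
      exact hq (h q hpq)
    · intro h q hpq
      by_contra hq
      exact h q hq hpq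
  rw [h]
  exact (hp _ ((V.isOpen.isClosed_compl).preimage b.continuous)).isOpen_compl

theorem isOpen_fibre_subset_of_isFinite {P T X : Scheme.{u}} (p : P ⟶ T) [IsFinite p]
    (b : P ⟶ X) (V : X.Opens) :
    IsOpen {t : T | ∀ q : P, p q = t → b q ∈ V} :=
  isOpen_fibre_subset p p.isClosedMap b V

/-- fibres of a base change surject onto the fibres of the original -/
theorem exists_point_over {T' T S Z : Scheme.{u}} (β : T' ⟶ T) (t : T ⟶ S) (g : Z ⟶ S)
    (q' : T') (q : ↥(pullback t g)) (h : pullback.fst t g q = β q') :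
    ∃ r : ↥(pullback (β ≫ t) g), pullback.fst (β ≫ t) g r = q' ∧
      ∀ (m : pullback (β ≫ t) g ⟶ pullback t g),
        m ≫ pullback.fst t g = pullback.fst (β ≫ t) g ≫ β →
        m ≫ pullback.snd t g = pullback.snd (β ≫ t) g → m r = q := by
  obtain ⟨z, hz1, hz2⟩ := Scheme.Pullback.exists_preimage_pullback (f := β)
    (g := pullback.fst t g) q' q h.symm
  refine ⟨(pullbackRightPullbackFstIso t g β).hom z, ?_, ?_⟩
  · rw [← Scheme.Hom.comp_apply, pullbackRightPullbackFstIso_hom_fst, hz1]
  · intro m hm1 hm2
    have hm : m = (pullbackRightPullbackFstIso t g β).inv ≫ pullback.snd β (pullback.fst t g) := by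
      apply pullback.hom_ext
      · rw [hm1, Category.assoc, pullbackRightPullbackFstIso_inv_snd_fst]
      · rw [hm2, Category.assoc, pullbackRightPullbackFstIso_inv_snd_snd]
    rw [hm, ← Scheme.Hom.comp_apply, Iso.hom_inv_id_assoc, hz2]

end Groth.Agent.Helper14.FibrePts
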