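import Mathlib
import Groth.Prelude.Def_Flat
import Groth.Agent.Lib.Helper14.FibreChart
import Groth.Agent.Lib.Helper14.Chevalley
import Groth.Agent.Lib.Helper14.SmoothDim

/-!
# Fibre dimension of smooth morphisms
-/

namespace Groth.Agent.Helper14.FibreSmooth

universe u

open AlgebraicGeometry CategoryTheory TopologicalSpace

/-- if all nontrivial localizations `S_g` have dimension `n`, then `Spec S` has local dimension `n`
at every point. -/
theorem localDim_eq_of_forall_away (S : Type u) [CommRing S] (n : ℕ)
    (h : ∀ g : S, Nontrivial (Localization.Away g) → ringKrullDim (Localization.Away g) = n)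
    (Q : PrimeSpectrum S) : FlatMor.localDim (PrimeSpectrum S) Q = n := by
  have hnt : ∀ g : S, g ∉ Q.asIdeal → Nontrivial (Localization.Away g) := by
    intro g hg
    rw [← not_subsingleton_iff_nontrivial]
    intro hsub
    have h01 : algebraMap S (Localization.Away g) 1 = algebraMap S (Localization.Away g) 0 :=
      Subsingleton.elim _ _
    obtain ⟨⟨_, m, rfl⟩, hm⟩ := (IsLocalization.eq_iff_exists (Submonoid.powers g) _).mp h01
    simp only [mul_one, mul_zero] at hm
    exact hg (Ideal.IsPrime.mem_of_pow_mem Q.isPrime m (hm ▸ Q.asIdeal.zero_mem))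
  apply le_antisymm
  · have h1 : Q ∈ PrimeSpectrum.basicOpen (1 : S) := by
      rw [PrimeSpectrum.mem_basicOpen]
      exact fun h1 => Q.isPrime.ne_top ((Ideal.eq_top_iff_one _).mpr h1)
    refine (Chevalley.localDim_le_of_mem S Q _ h1).trans ?_
    rw [Chevalley.dim_basicOpen_eq, h 1 (hnt 1 h1)]
  · unfold FlatMor.localDim
    refine le_iInf ?_
    rintro ⟨U, hxU⟩
    obtain ⟨_, ⟨_, ⟨g, rfl⟩, rfl⟩, hpf, hfU⟩ :=
      PrimeSpectrum.isBasis_basic_opens.exists_subset_of_mem_open hxU U.isOpen
    have h2 : topologicalKrullDim ((PrimeSpectrum.basicOpen g : Opens (PrimeSpectrum S)) :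
        Set (PrimeSpectrum S)) ≤ topologicalKrullDim (U : Set (PrimeSpectrum S)) :=
      LocalDimSpec.dim_opens_le S _ _ fun P hP =>
        LocalDimSpec.height_le_dim_opens S U P (hfU hP)
    rw [Chevalley.dim_basicOpen_eq, h g (hnt g hpf)] at h2
    exact h2

/-- a standard smooth algebra of relative dimension `n` over a field has local dimension `n` at
every point. -/
theorem localDim_of_isStandardSmoothOfRelativeDimension (K F : Type u) [Field K] [CommRing F]
    [Algebra K F] (n : ℕ) [Algebra.IsStandardSmoothOfRelativeDimension n K F]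
    (Q : PrimeSpectrum F) : FlatMor.localDim (PrimeSpectrum F) Q = n := by
  apply localDim_eq_of_forall_away
  intro g hnt
  haveI : Algebra.IsStandardSmoothOfRelativeDimension 0 F (Localization.Away g) :=
    Algebra.IsStandardSmoothOfRelativeDimension.localization_away g
  haveI : Algebra.IsStandardSmoothOfRelativeDimension n K (Localization.Away g) := by
    have := Algebra.IsStandardSmoothOfRelativeDimension.trans (n := n) (m := 0)
      K F (Localization.Away g)
    simpa using this
  obtain ⟨φ, hφ⟩ := Algebra.IsStandardSmoothOfRelativeDimension.exists_etale_mvPolynomial n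
    K (Localization.Away g)
  letI := φ.toRingHom.toAlgebra
  haveI : Algebra.Etale (MvPolynomial (Fin n) K) (Localization.Away g) :=
    RingHom.etale_algebraMap.mp hφ
  exact SmoothDim.ringKrullDim_eq_of_etale K n (Localization.Away g)

/-- **Fibre dimension on a standard smooth chart.** -/
theorem fibreDimAt_of_isStandardSmoothOfRelativeDimension {X Y : Scheme.{u}} (f : X ⟶ Y)
    {U : Y.Opens} (hU : IsAffineOpen U) {V : X.Opens} (hV : IsAffineOpen V) (e : V ≤ f ⁻¹ᵁ U)
    (n : ℕ) (hstd : (f.appLE U V e).hom.IsStandardSmoothOfRelativeDimension n)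
    (x : X) (hxV : x ∈ V) : FlatMor.fibreDimAt f x = n := by
  letI alg : Algebra Γ(Y, U) Γ(X, V) := (f.appLE U V e).hom.toAlgebra
  have halg : algebraMap Γ(Y, U) Γ(X, V) = (f.appLE U V e).hom := rfl
  haveI : Algebra.IsStandardSmoothOfRelativeDimension n Γ(Y, U) Γ(X, V) := hstd
  rw [FibreChart.fibreDimAt_eq f hV hU e halg x hxV]
  haveI := (hU.primeIdealOf ⟨f x, e hxV⟩).isPrime
  exact localDim_of_isStandardSmoothOfRelativeDimension
    (hU.primeIdealOf ⟨f x, e hxV⟩).asIdeal.ResidueField
    ((hU.primeIdealOf ⟨f x, e hxV⟩).asIdeal.Fiber Γ(X, V)) n _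

end Groth.Agent.Helper14.FibreSmooth
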