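import Mathlib
import Groth.Prelude.Def_Flat
import Groth.Agent.Lib.Helper14.FieldBC
import Groth.Agent.Lib.Helper14.LocalDimSpec

/-!
# The dimension formula for an extension of the base field
-/

namespace Groth.Agent.Helper14.FieldBC
universe u
open AlgebraicGeometry CategoryTheory Limits TensorProduct

section right
variable {k S K : Type u} [Field k] [CommRing S] [Algebra k S] [Algebra.FiniteType k S] [Field K]
  [Algebra k K]

omit [Algebra.FiniteType k S] in
theorem isPullback_tensor' :
    IsPullback
      (Spec.map (CommRingCat.ofHom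
        (Algebra.TensorProduct.includeLeftRingHom : S →+* S ⊗[k] K)))
      (Spec.map (CommRingCat.ofHom
        (Algebra.TensorProduct.includeRight.toRingHom : K →+* S ⊗[k] K)))
      (Spec.map (CommRingCat.ofHom (algebraMap k S)))
      (Spec.map (CommRingCat.ofHom (algebraMap k K))) :=
  isPullback_SpecMap_of_isPushout _ _ _ _ (CommRingCat.isPushout_tensorProduct k S K)

/-- **Local dimension is invariant under extension of the base field** (`S ⊗[k] K` version). -/
theorem localDim_tensor_eq' (Q : PrimeSpectrum (S ⊗[k] K)) :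
    FlatMor.localDim (PrimeSpectrum (S ⊗[k] K)) Q =
      FlatMor.localDim (PrimeSpectrum S)
        (PrimeSpectrum.comap
          (Algebra.TensorProduct.includeLeftRingHom : S →+* S ⊗[k] K) Q) := by
  haveI := locallyOfFiniteType_SpecMap (k := k) (S := S)
  haveI : Subsingleton ↥(Spec (CommRingCat.of k)) :=
    inferInstanceAs (Subsingleton (PrimeSpectrum k))
  haveI : Subsingleton ↥(Spec (CommRingCat.of K)) :=
    inferInstanceAs (Subsingleton (PrimeSpectrum K))
  have h := FibreDimBC.fibreDimAt_eq (isPullback_tensor' (k := k) (S := S) (K := K)) Q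
  rw [fibreDimAt_eq_localDim, fibreDimAt_eq_localDim] at h
  exact h

attribute [local instance] Algebra.TensorProduct.rightAlgebra

theorem finiteType_right : Algebra.FiniteType K (S ⊗[k] K) := by
  let e : K ⊗[k] S ≃ₐ[K] S ⊗[k] K :=
    { (Algebra.TensorProduct.comm k K S).toRingEquiv with
      commutes' := fun c => by
        change (Algebra.TensorProduct.comm k K S) (c ⊗ₜ 1) = 1 ⊗ₜ c
        rw [Algebra.TensorProduct.comm_tmul] }
  exact Algebra.FiniteType.equiv inferInstance e

/-- **The dimension formula** `ht Q + trdeg_K κ(Q) = ht q + trdeg_k κ(q)`. -/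
theorem height_add_trdeg_eq (q : Ideal S) [q.IsPrime] (Q : Ideal (S ⊗[k] K)) [hQ : Q.IsPrime]
    [hlo : Q.LiesOver q] (r rK : ℕ) (hr : Algebra.trdeg k (S ⧸ q) = r)
    (hrK : Algebra.trdeg K ((S ⊗[k] K) ⧸ Q) = rK) :
    ((Q.height : ℕ∞) : WithBot ℕ∞) + (rK : WithBot ℕ∞) =
      ((q.height : ℕ∞) : WithBot ℕ∞) + (r : WithBot ℕ∞) := by
  haveI := finiteType_right (k := k) (S := S) (K := K)
  rw [← LocalDimSpec.localDim_eq k S q r hr, ← LocalDimSpec.localDim_eq K (S ⊗[k] K) Q rK hrK,
    localDim_tensor_eq' (k := k) (S := S) (K := K) ⟨Q, hQ⟩]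
  congr 1
  apply PrimeSpectrum.ext
  exact hlo.over.symm

end right

end Groth.Agent.Helper14.FieldBC
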