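import Mathlib

/-!
# Descending a finite field extension to a subfield containing its structure constants
-/

namespace Groth.Agent.Helper14.FieldDescent

open TensorProduct

universe u

section
variable (F k k' : Type u) [Field F] [Field k] [Field k'] [Algebra F k] [Algebra k k']
  [Algebra F k'] [IsScalarTower F k k']

/-- The `F`-span of a `k`-basis of `k'` whose structure constants lie in `F` is an `F`-subalgebra. -/
theorem exists_subalgebra {n : ℕ} (b : Module.Basis (Fin n) k k')
    (hone : ∀ a, b.repr 1 a ∈ Set.range (algebraMap F k))
    (hmul : ∀ a a' c, b.repr (b a * b a') c ∈ Set.range (algebraMap F k)) :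
    ∃ L : Subalgebra F k', Subalgebra.toSubmodule L = Submodule.span F (Set.range b) := by
  have hmem : ∀ x : k', (∀ a, b.repr x a ∈ Set.range (algebraMap F k)) →
      x ∈ Submodule.span F (Set.range b) := by
    intro x hx
    rw [← b.sum_repr x]
    apply Submodule.sum_mem
    intro a _
    obtain ⟨u, hu⟩ := hx a
    rw [← hu, algebraMap_smul]
    exact Submodule.smul_mem _ _ (Submodule.subset_span ⟨a, rfl⟩)
  have h1 : (1 : k') ∈ Submodule.span F (Set.range b) := hmem 1 hone
  have h2 : ∀ x y : k', x ∈ Submodule.span F (Set.range b) → y ∈ Submodule.span F (Set.range b) →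
      x * y ∈ Submodule.span F (Set.range b) := by
    intro x y hx hy
    have : x * y ∈ Submodule.span F (Set.range b) * Submodule.span F (Set.range b) :=
      Submodule.mul_mem_mul hx hy
    rw [Submodule.span_mul_span] at this
    refine (Submodule.span_le.mpr ?_) this
    rintro _ ⟨_, ⟨a, rfl⟩, _, ⟨a', rfl⟩, rfl⟩
    exact hmem _ (hmul a a')
  exact ⟨Submodule.toSubalgebra _ h1 h2, rfl⟩

variable {F k k'}

/-- If the range of `j : L → k'` is the `F`-span of a `k`-basis of `k'`, then `k ⊗[F] L → k'` is
bijective. -/
theorem bijective_lift {L : Type u} [Field L] [Algebra F L] (j : L →ₐ[F] k')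
    {n : ℕ} (b : Module.Basis (Fin n) k k')
    (hrange : LinearMap.range j.toLinearMap = Submodule.span F (Set.range b)) :
    Function.Bijective (Algebra.TensorProduct.lift (Algebra.ofId k k') j
      (fun _ _ => Commute.all _ _)) := by
  set φ := Algebra.TensorProduct.lift (Algebra.ofId k k') j (fun _ _ => Commute.all _ _) with hφ
  have hjinj : Function.Injective j := j.toRingHom.injective
  let e : L ≃ₗ[F] LinearMap.range j.toLinearMap := LinearEquiv.ofInjective j.toLinearMap hjinj
  haveI : Module.Finite F (Submodule.span F (Set.range b)) :=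
    Module.Finite.span_of_finite F (Set.finite_range b)
  haveI : Module.Finite F (LinearMap.range j.toLinearMap) := by rw [hrange]; infer_instance
  haveI : Module.Finite F L := Module.Finite.equiv e.symm
  have hL : Module.finrank F L ≤ n := by
    rw [e.finrank_eq, hrange]
    have := finrank_range_le_card (R := F) b
    rw [Fintype.card_fin] at this
    exact this
  have hk' : Module.finrank k k' = n := by
    rw [Module.finrank_eq_card_basis b, Fintype.card_fin]
  have hsurj : Function.Surjective φ := by
    have hsub : Submodule.span k (Set.range b) ≤ LinearMap.range φ.toLinearMap := by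
      rw [Submodule.span_le]
      rintro _ ⟨a, rfl⟩
      have : b a ∈ LinearMap.range j.toLinearMap := by
        rw [hrange]; exact Submodule.subset_span ⟨a, rfl⟩
      obtain ⟨x, hx⟩ := this
      refine ⟨(1 : k) ⊗ₜ[F] x, ?_⟩
      simpa [φ] using hx
    rw [b.span_eq, top_le_iff, LinearMap.range_eq_top] at hsub
    exact hsub
  have hfin : Module.finrank k (k ⊗[F] L) = Module.finrank F L := Module.finrank_baseChange
  have hle : Module.finrank k k' ≤ Module.finrank k (k ⊗[F] L) :=
    LinearMap.finrank_le_finrank_of_surjective (f := φ.toLinearMap) hsurj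
  have heq : Module.finrank k (k ⊗[F] L) = Module.finrank k k' := by omega
  haveI : FiniteDimensional k k' := Module.Finite.of_basis b
  exact ⟨(LinearMap.injective_iff_surjective_of_finrank_eq_finrank heq
    (f := φ.toLinearMap)).mpr hsurj, hsurj⟩

/-- Transfer of a tensor product along a descended field extension. -/
noncomputable def tensorEquiv (A : Type u) [CommRing A] [Algebra k A] [Algebra F A]
    [IsScalarTower F k A] {L : Type u} [Field L] [Algebra F L] (e : k ⊗[F] L ≃ₐ[k] k') :
    k' ⊗[k] A ≃+* L ⊗[F] A :=
  ((Algebra.TensorProduct.comm k k' A).toRingEquiv.trans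
    (Algebra.TensorProduct.congr (AlgEquiv.refl : A ≃ₐ[k] A) e.symm).toRingEquiv).trans
   ((Algebra.TensorProduct.cancelBaseChange F k k A L).toRingEquiv.trans
    (Algebra.TensorProduct.comm F A L).toRingEquiv)

end

end Groth.Agent.Helper14.FieldDescent
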