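import Mathlib
import Groth.Agent.Lib.Helper4.LimSubalgK

/-!
# `X ×_R Spec A` as the limit of `X ×_R Spec S` over the finitely generated subalgebras `S ⊆ A`
(helper14; uses helper4's `LimSubalgK`)
-/

set_option autoImplicit false
universe u
open AlgebraicGeometry CategoryTheory CategoryTheory.Limits TopologicalSpace Opposite

namespace Groth.Agent.Helper14.FieldLim

open Groth.Agent.Helper4.LimSubalgK

variable (R : Type u) [CommRing R] (A : Type u) [CommRing A] [Algebra R A]

/-- the structure map `Spec S ⟶ Spec R` -/
noncomputable def sm (S : (J R A)ᵒᵖ) : (D R A).obj S ⟶ Spec (CommRingCat.of R) := (t R A).app S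

/-- the projection `Spec A ⟶ Spec S` -/
noncomputable def pr (S : (J R A)ᵒᵖ) : Spec (CommRingCat.of A) ⟶ (D R A).obj S :=
  (cone R A).π.app S

theorem sm_eq (S : (J R A)ᵒᵖ) :
    sm R A S = Spec.map (CommRingCat.ofHom (algebraMap R S.unop.1)) := rfl

theorem D_map_sm {S T : (J R A)ᵒᵖ} (f : S ⟶ T) : (D R A).map f ≫ sm R A T = sm R A S := by
  have := (t R A).naturality f
  simp only [Functor.const_obj_obj, Functor.const_obj_map, Category.comp_id] at this
  exact this

theorem pr_sm (S : (J R A)ᵒᵖ) :
    pr R A S ≫ sm R A S = Spec.map (CommRingCat.ofHom (algebraMap R A)) := cone_t R A S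

theorem pr_D_map {S T : (J R A)ᵒᵖ} (f : S ⟶ T) : pr R A S ≫ (D R A).map f = pr R A T :=
  (cone R A).w f

instance (S : (J R A)ᵒᵖ) : IsAffineHom (sm R A S) := by
  rw [sm_eq]
  infer_instance

variable {R} {X : Scheme.{u}} (p : X ⟶ Spec (CommRingCat.of R))

set_option backward.isDefEq.respectTransparency false in
/-- `E(S) = X ×_R Spec S` -/
@[simps] noncomputable def E : (J R A)ᵒᵖ ⥤ Scheme.{u} where
  obj S := pullback p (sm R A S)
  map {S T} f := pullback.lift (pullback.fst _ _) (pullback.snd _ _ ≫ (D R A).map f)
    (by rw [Category.assoc, D_map_sm, pullback.condition])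
  map_id S := by apply pullback.hom_ext <;> simp
  map_comp f g := by apply pullback.hom_ext <;> simp

set_option backward.isDefEq.respectTransparency false in
/-- the cone with point `X ×_R Spec A` -/
@[simps] noncomputable def cE : Cone (E A p) where
  pt := pullback p (Spec.map (CommRingCat.ofHom (algebraMap R A)))
  π :=
    { app S := pullback.lift (pullback.fst _ _) (pullback.snd _ _ ≫ pr R A S)
        (by rw [Category.assoc, pr_sm, pullback.condition])
      naturality S T f := by
        apply pullback.hom_ext
        · simp
        · simp only [Functor.const_obj_obj, Functor.const_obj_map, Category.id_comp, E_map,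
            Category.assoc, pullback.lift_snd, pullback.lift_snd_assoc]
          rw [pr_D_map] }

set_option backward.isDefEq.respectTransparency false in
/-- the projection to the diagram of spectra -/
@[simps] noncomputable def Esnd : E A p ⟶ D R A where
  app S := pullback.snd _ _
  naturality S T f := by simp

set_option backward.isDefEq.respectTransparency false in
theorem isPullback_cE_π (S : (J R A)ᵒᵖ) :
    IsPullback ((cE A p).π.app S) (pullback.snd _ _) (pullback.snd _ _) (pr R A S) := by
  have h1 : IsPullback (pullback.fst p (sm R A S)) (pullback.snd p (sm R A S)) p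
      (sm R A S) := IsPullback.of_hasPullback _ _
  have h2 : IsPullback (pullback.fst p (Spec.map (CommRingCat.ofHom (algebraMap R A))))
      (pullback.snd p (Spec.map (CommRingCat.ofHom (algebraMap R A)))) p
      (Spec.map (CommRingCat.ofHom (algebraMap R A))) := IsPullback.of_hasPullback _ _
  refine IsPullback.of_right ?_ ?_ h1
  · have e1 : (cE A p).π.app S ≫ pullback.fst p (sm R A S) =
        pullback.fst p (Spec.map (CommRingCat.ofHom (algebraMap R A))) := by simp
    rw [e1, pr_sm]
    exact h2
  · simp

set_option backward.isDefEq.respectTransparency false in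
/-- `X ×_R Spec A` is the limit of the `X ×_R Spec S`. -/
noncomputable def isLimitCE : IsLimit (cE A p) := by
  haveI : IsConnected (J R A)ᵒᵖ := IsCofiltered.isConnected _
  exact isLimitOfIsPullbackOfIsConnected (Esnd A p) (cE A p) (cone R A)
    { hom := pullback.snd _ _
      w := fun S => by
        simp only [Cone.postcompose_obj_pt, Cone.postcompose_obj_π, NatTrans.comp_app, cE_π_app,
          Esnd_app, pullback.lift_snd]
        rfl }
    (fun S => isPullback_cE_π A p S) (isLimit R A)

set_option backward.isDefEq.respectTransparency false in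
theorem E_map_fst {S T : (J R A)ᵒᵖ} (f : S ⟶ T) :
    (E A p).map f ≫ pullback.fst p (sm R A T) = pullback.fst p (sm R A S) := by
  simp

set_option backward.isDefEq.respectTransparency false in
theorem cE_π_fst (S : (J R A)ᵒᵖ) :
    (cE A p).π.app S ≫ pullback.fst p (sm R A S) =
      pullback.fst p (Spec.map (CommRingCat.ofHom (algebraMap R A))) := by
  simp

instance isAffineHom_fst (S : (J R A)ᵒᵖ) : IsAffineHom (pullback.fst p (sm R A S)) :=
  MorphismProperty.pullback_fst (P := @IsAffineHom) _ _ inferInstance

instance E_isAffineHom {S T : (J R A)ᵒᵖ} (f : S ⟶ T) : IsAffineHom ((E A p).map f) := by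
  have h1 : IsAffineHom (pullback.fst p (sm R A T)) := isAffineHom_fst A p T
  have h2 : IsAffineHom ((E A p).map f ≫ pullback.fst p (sm R A T)) := by
    rw [E_map_fst]
    exact isAffineHom_fst A p S
  have h3 : IsSeparated (pullback.fst p (sm R A T)) := @IsSeparated.of_isAffineHom _ _ _ h1
  exact @IsAffineHom.of_comp _ _ _ _ (pullback.fst p (sm R A T)) h2 h3

theorem E_compactSpace [CompactSpace X] (S : (J R A)ᵒᵖ) : CompactSpace ((E A p).obj S) := by
  have h1 : IsAffineHom (pullback.fst p (sm R A S)) := isAffineHom_fst A p S
  change CompactSpace ↥(pullback p (sm R A S))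
  exact QuasiCompact.compactSpace_of_compactSpace (pullback.fst p (sm R A S))

theorem E_quasiSeparatedSpace [QuasiSeparatedSpace X] (S : (J R A)ᵒᵖ) :
    QuasiSeparatedSpace ((E A p).obj S) := by
  have h1 : IsAffineHom (pullback.fst p (sm R A S)) := isAffineHom_fst A p S
  change QuasiSeparatedSpace ↥(pullback p (sm R A S))
  exact quasiSeparatedSpace_of_quasiSeparated (pullback.fst p (sm R A S))

end Groth.Agent.Helper14.FieldLim
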