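import Mathlib

/-!
# Finitely many points of an open subset of an affine open lie in a basic open inside it
(prime avoidance; helper14)
-/

set_option autoImplicit false
set_option linter.style.haveILetI false
set_option linter.unusedSectionVars false
set_option linter.unusedVariables false

universe u
open CategoryTheory AlgebraicGeometry

namespace Groth.Agent.Helper14.FinBasicOpen

theorem exists_basicOpen_le_spec {R : Type u} [CommRing R]
    (O : TopologicalSpace.Opens (PrimeSpectrum R)) {d : ℕ} (p : Fin d → PrimeSpectrum R)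
    (hp : ∀ k, p k ∈ O) :
    ∃ r : R, PrimeSpectrum.basicOpen r ≤ O ∧ ∀ k, p k ∈ PrimeSpectrum.basicOpen r := by
  obtain ⟨s, hs⟩ := (PrimeSpectrum.isOpen_iff _).mp O.isOpen
  have hnot : ∀ k, ¬ (Ideal.span s ≤ (p k).asIdeal) := by
    intro k hk
    have h1 : p k ∈ PrimeSpectrum.zeroLocus s := by
      rw [PrimeSpectrum.mem_zeroLocus]
      exact Ideal.subset_span.trans hk
    rw [← hs] at h1
    exact h1 (hp k)
  have havoid : ¬ ((Ideal.span s : Set R) ⊆ ⋃ k ∈ ((Finset.univ : Finset (Fin d)) : Set (Fin d)),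
      ((p k).asIdeal : Set R)) := by
    intro h
    by_cases hd : d = 0
    · subst hd
      have h0 : (0 : R) ∈ (Ideal.span s : Set R) := (Ideal.span s).zero_mem
      have := h h0
      simp at this
    · obtain ⟨a⟩ : Nonempty (Fin d) := ⟨⟨0, Nat.pos_of_ne_zero hd⟩⟩
      obtain ⟨k, -, hk⟩ := (Ideal.subset_union_prime (f := fun k => (p k).asIdeal) a a
        (fun i _ _ _ => (p i).isPrime)).mp h
      exact hnot k hk
  rw [Set.not_subset] at havoid
  obtain ⟨r, hrI, hr⟩ := havoid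
  refine ⟨r, ?_, ?_⟩
  · intro q hq
    by_contra hqO
    have h1 : q ∈ PrimeSpectrum.zeroLocus s := by
      have : q ∈ (O : Set (PrimeSpectrum R))ᶜ := hqO
      rwa [hs] at this
    rw [PrimeSpectrum.mem_zeroLocus] at h1
    have h2 : Ideal.span s ≤ q.asIdeal := Ideal.span_le.mpr h1
    exact hq (h2 hrI)
  · intro k hk
    apply hr
    simp only [Finset.coe_univ, Set.mem_univ, Set.iUnion_true, Set.mem_iUnion]
    exact ⟨k, hk⟩

theorem exists_basicOpen_le_of_finite {X : Scheme.{u}} {U : X.Opens} (hU : IsAffineOpen U)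
    (O : X.Opens) {d : ℕ} (x : Fin d → X) (hxU : ∀ k, x k ∈ U) (hxO : ∀ k, x k ∈ O) :
    ∃ r : Γ(X, U), X.basicOpen r ≤ O ∧ ∀ k, x k ∈ X.basicOpen r := by
  let p : Fin d → PrimeSpectrum Γ(X, U) := fun k => hU.primeIdealOf ⟨x k, hxU k⟩
  have hp : ∀ k, hU.fromSpec (p k) = x k := fun k => hU.fromSpec_primeIdealOf ⟨x k, hxU k⟩
  obtain ⟨r, hr1, hr2⟩ := exists_basicOpen_le_spec (hU.fromSpec ⁻¹ᵁ O) p (by
    intro k
    show hU.fromSpec (p k) ∈ O
    rw [hp k]
    exact hxO k)
  refine ⟨r, ?_, ?_⟩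
  · rw [← hU.fromSpec_image_basicOpen]
    rintro _ ⟨q, hq, rfl⟩
    exact hr1 hq
  · intro k
    rw [← hU.fromSpec_image_basicOpen, ← hp k]
    exact ⟨p k, hr2 k, rfl⟩

end Groth.Agent.Helper14.FinBasicOpen
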