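import Mathlib
import Groth.Agent.Lib.Helper14.FittComplA
import Groth.Agent.Lib.Helper13.PullbackLocal

set_option autoImplicit false
set_option linter.style.haveILetI false
set_option linter.unusedSectionVars false
set_option linter.unusedVariables false

universe u

open CategoryTheory CategoryTheory.Limits AlgebraicGeometry Opposite TopologicalSpace

namespace Groth.Agent.Helper14.FittCompl

section Main

variable (A : Type u) [CommRing A] [IsNoetherianRing A] (I : Ideal A) [IsAdicComplete I A]
  (X : Scheme.{u}) (f : X ⟶ Spec (CommRingCat.of A)) [IsProper f]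

theorem main (F : X.Modules) (hF : Coh.IsCoh F) (r : ℕ)
    (h : ∀ n : ℕ, FlatMod.IsFinLocFreeOfRank r
      ((Scheme.Modules.pullback (FSch.completionToX X ((FSch.idealSpec A I).comap f) n)).obj F)) :
    FlatMod.IsFinLocFreeOfRank r F := by
  haveI := hF.1
  haveI := hF.2
  apply Groth.Agent.Helper28.FittStratum.isFinLocFreeOfRank_of_fitt F r
  · rw [← Scheme.IdealSheafData.support_eq_bot_iff]
    have h0 := (Groth.Agent.Helper28.FittStratum.fitt_of_isFinLocFreeOfRank _ r (h 0)).1
    rw [← Groth.Agent.Helper13.FittSheaf.sheafIdeal_comap] at h0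
    have hs : ((Fitt.sheafIdeal F r).comap
        (FSch.completionToX X ((FSch.idealSpec A I).comap f) 0)).support = ⊥ := by
      rw [h0]
      rfl
    rw [Scheme.IdealSheafData.support_comap] at hs
    have hT := eq_empty_of_disjoint_support A I f ((Fitt.sheafIdeal F r).support : Set X)
      (Fitt.sheafIdeal F r).support.isClosed (fun t ht hts => by
        have h1 : t ∈ Set.range (FSch.completionToX X ((FSch.idealSpec A I).comap f) 0) := by
          change t ∈ Set.range ((((FSch.idealSpec A I).comap f) ^ (0 + 1)).subschemeι)
          rw [Scheme.IdealSheafData.range_subschemeι]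
          exact hts
        obtain ⟨z, rfl⟩ := h1
        have h2 : z ∈ ((Fitt.sheafIdeal F r).support.preimage
            (FSch.completionToX X ((FSch.idealSpec A I).comap f) 0).continuous) := ht
        rw [hs] at h2
        exact h2)
    exact TopologicalSpace.Closeds.ext hT
  · intro k hk
    apply eq_bot_of_le_pow A I f
    intro n
    have hn := (Groth.Agent.Helper28.FittStratum.fitt_of_isFinLocFreeOfRank _ r (h n)).2 k hk
    rw [← Groth.Agent.Helper13.FittSheaf.sheafIdeal_comap] at hn
    obtain ⟨g, hg⟩ := (Groth.Agent.Helper28.FittStratum.exists_fac_iff_comap_eq_bot _ _).2 hn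
    calc Fitt.sheafIdeal F k = (Fitt.sheafIdeal F k).subschemeι.ker :=
          (Scheme.IdealSheafData.ker_subschemeι _).symm
      _ ≤ (g ≫ (Fitt.sheafIdeal F k).subschemeι).ker := Scheme.Hom.le_ker_comp _ _
      _ = (FSch.completionToX X ((FSch.idealSpec A I).comap f) n).ker := by rw [hg]
      _ = ((FSch.idealSpec A I).comap f) ^ (n + 1) := Scheme.IdealSheafData.ker_subschemeι _

end Main

end Groth.Agent.Helper14.FittCompl
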