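import Mathlib
import Groth.Prelude
import Groth.Agent.Lib.Helper14.LocIsoOI
import Groth.Agent.Lib.Helper14.PurUFDSch

set_option autoImplicit false
universe u
open CategoryTheory AlgebraicGeometry TopologicalSpace

namespace Groth.Agent.Helper14.FlatBirat

/-- faithfully flat + "birational" implies surjective -/
theorem surjective_of_faithfullyFlat {A B K' : Type*} [CommRing A] [CommRing B] [CommRing K']
    [IsDomain B]
    (φ : A →+* B) (hφ : φ.FaithfullyFlat) (ι : B →+* K') (hι : Function.Injective ι)
    (hfrac : ∀ k : K', ∃ a s : A, φ s ≠ 0 ∧ ι (φ s) * k = ι (φ a)) : Function.Surjective φ := by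
  intro b
  obtain ⟨a, s, hs, h⟩ := hfrac (ι b)
  have h1 : φ s * b = φ a := hι (by rw [map_mul]; exact h)
  letI := φ.toAlgebra
  haveI : Module.FaithfullyFlat A B := hφ
  have h2 : a ∈ ((Ideal.span {s}).map (algebraMap A B)).comap (algebraMap A B) := by
    rw [Ideal.mem_comap, Ideal.map_span, Set.image_singleton, Ideal.mem_span_singleton]
    exact ⟨b, h1.symm⟩
  rw [Ideal.comap_map_eq_self_of_faithfullyFlat, Ideal.mem_span_singleton] at h2
  obtain ⟨a', rfl⟩ := h2
  refine ⟨a', ?_⟩
  rw [map_mul] at h1
  exact (mul_left_cancel₀ hs h1).symm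

variable {X : Scheme.{u}}

/-- elements of the local ring at a generic point are fractions -/
theorem exists_frac [IsIntegral X] (x z : X) (hz : IsGenericPoint z (Set.univ : Set X))
    (h : z ⤳ x) (k : X.presheaf.stalk z) :
    ∃ a s : X.presheaf.stalk x, (X.presheaf.stalkSpecializes h).hom s ≠ 0 ∧
      (X.presheaf.stalkSpecializes h).hom s * k = (X.presheaf.stalkSpecializes h).hom a := by
  obtain rfl : z = genericPoint X := hz.eq (genericPoint_spec X)
  obtain ⟨⟨a, s⟩, hs⟩ := IsLocalization.surj (nonZeroDivisors (X.presheaf.stalk x))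
    (k : X.functionField)
  refine ⟨a, s.1, ?_, ?_⟩
  · have := IsFractionRing.to_map_ne_zero_of_mem_nonZeroDivisors (K := X.functionField) s.2
    exact this
  · rw [mul_comm]; exact hs

/-- for a flat morphism of integral schemes inducing an isomorphism on function fields, all stalk
maps are bijective -/
theorem bijective_stalkMap {X' : Scheme.{u}} [IsIntegral X'] [IsIntegral X] (f : X' ⟶ X) [Flat f]
    (hgen : IsGenericPoint (f.base (genericPoint X')) (Set.univ : Set X))
    (hK : IsIso (f.stalkMap (genericPoint X'))) (x' : X') :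
    Function.Bijective (f.stalkMap x').hom := by
  have hff : (f.stalkMap x').hom.FaithfullyFlat := by
    algebraize [(f.stalkMap x').hom]
    have : Module.FaithfullyFlat (X.presheaf.stalk (f.base x')) (X'.presheaf.stalk x') :=
      @Module.FaithfullyFlat.of_flat_of_isLocalHom _ _ _ _ _ _ _
        (Flat.stalkMap f x') (f.toLRSHom.prop x')
    exact ‹RingHom.FaithfullyFlat _›
  refine ⟨hff.injective, ?_⟩
  have hsp : genericPoint X' ⤳ x' := (genericPoint_spec X').specializes trivial
  refine surjective_of_faithfullyFlat _ hff (X'.presheaf.stalkSpecializes hsp).hom ?_ ?_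
  · exact IsFractionRing.injective (X'.presheaf.stalk x') X'.functionField
  · intro k
    have hbij : Function.Bijective (f.stalkMap (genericPoint X')).hom :=
      (ConcreteCategory.isIso_iff_bijective _).mp hK
    obtain ⟨k0, rfl⟩ := hbij.2 k
    obtain ⟨a, s, hs, h⟩ := exists_frac (f.base x') (f.base (genericPoint X')) hgen
      (f.base.hom.map_specializes hsp) k0
    have sq := fun y => Scheme.Hom.stalkSpecializes_stalkMap_apply f _ _ hsp y
    refine ⟨a, s, ?_, ?_⟩
    · intro h0
      apply hs
      apply hbij.1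
      rw [map_zero]
      have := sq s
      rw [h0, map_zero] at this
      exact this
    · rw [← sq, ← sq, ← map_mul, h]

/-- the image of the generic point under a surjective morphism is generic -/
theorem isGenericPoint_image {X' : Scheme.{u}} [IsIntegral X'] [IsIntegral X] (f : X' ⟶ X)
    [Surjective f] : IsGenericPoint (f.base (genericPoint X')) (Set.univ : Set X) := by
  obtain ⟨x', hx'⟩ := f.surjective (genericPoint X)
  have hsp : genericPoint X' ⤳ x' := (genericPoint_spec X').specializes trivial
  have h2 : f.base (genericPoint X') ⤳ genericPoint X := hx' ▸ f.base.hom.map_specializes hsp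
  rw [isGenericPoint_def]
  apply Set.eq_univ_of_univ_subset
  rw [← (genericPoint_spec X).def]
  exact closure_minimal (Set.singleton_subset_iff.mpr (specializes_iff_mem_closure.mp h2))
    isClosed_closure

/-- the finite type case -/
theorem isIso_of_lft {X' : Scheme.{u}} [IsIntegral X'] [IsIntegral X] (f : X' ⟶ X) [Flat f]
    [Surjective f] [IsSeparated f] [LocallyOfFiniteType f]
    (hK : IsIso (f.stalkMap (genericPoint X'))) : IsIso f := by
  have hgen := isGenericPoint_image f
  have hloc : ∀ x' : X', ∃ U : X'.Opens, x' ∈ U ∧ IsOpenImmersion (U.ι ≫ f) := by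
    intro x'
    haveI : IsIso (f.stalkMap x') :=
      (ConcreteCategory.isIso_iff_bijective _).mpr (bijective_stalkMap f hgen hK x')
    exact PurUFD.exists_isOpenImmersion_of_isIso_stalkMap f x'
  haveI := LocIsoOI.isOpenImmersion_of_isLocalIso f hloc
  rw [isIso_iff_isOpenImmersion_and_surjective]
  exact ⟨‹_›, ‹_›⟩

/-- elements of the local ring at a generic point of an affine integral scheme are fractions of
global sections -/
theorem exists_frac_top [IsIntegral X] [IsAffine X] (z : X)
    (hz : IsGenericPoint z (Set.univ : Set X)) (k : X.presheaf.stalk z) :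
    ∃ a s : Γ(X, ⊤), (X.presheaf.germ ⊤ z trivial).hom s ≠ 0 ∧
      (X.presheaf.germ ⊤ z trivial).hom s * k = (X.presheaf.germ ⊤ z trivial).hom a := by
  obtain rfl : z = genericPoint X := hz.eq (genericPoint_spec X)
  haveI : Nonempty (⊤ : X.Opens) := ⟨⟨genericPoint X, trivial⟩⟩
  haveI := functionField_isFractionRing_of_isAffineOpen X ⊤ (isAffineOpen_top X)
  obtain ⟨⟨a, s⟩, hs⟩ := IsLocalization.surj (nonZeroDivisors Γ(X, ⊤))
    (k : X.functionField)
  refine ⟨a, s.1, ?_, ?_⟩
  · have := IsFractionRing.to_map_ne_zero_of_mem_nonZeroDivisors (K := X.functionField) s.2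
    exact this
  · rw [mul_comm]; exact hs

/-- the affine case, for affine schemes -/
theorem isIso_of_isAffine {Z' Z : Scheme.{u}} [IsIntegral Z'] [IsIntegral Z] [IsAffine Z']
    [IsAffine Z] (g : Z' ⟶ Z) [Flat g] [Surjective g]
    (hK : IsIso (g.stalkMap (genericPoint Z'))) : IsIso g := by
  have hgen := isGenericPoint_image g
  have hff : g.appTop.hom.FaithfullyFlat :=
    (Flat.flat_and_surjective_iff_faithfullyFlat_of_isAffine g).mp ⟨‹_›, ‹_›⟩
  rw [← MorphismProperty.isomorphisms.iff,
    HasAffineProperty.iff_of_isAffine (P := MorphismProperty.isomorphisms Scheme)]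
  refine ⟨inferInstance, ?_⟩
  rw [ConcreteCategory.isIso_iff_bijective]
  refine ⟨hff.injective, ?_⟩
  refine surjective_of_faithfullyFlat _ hff
    (Z'.presheaf.germ ⊤ (genericPoint Z') trivial).hom ?_ ?_
  · exact germ_injective_of_isIntegral Z' (U := ⊤) (genericPoint Z') trivial
  · intro k
    have hbij : Function.Bijective (g.stalkMap (genericPoint Z')).hom :=
      (ConcreteCategory.isIso_iff_bijective _).mp hK
    obtain ⟨k0, rfl⟩ := hbij.2 k
    obtain ⟨a, s, hs, h⟩ := exists_frac_top (g.base (genericPoint Z')) hgen k0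
    have sq := fun y => Scheme.Hom.germ_stalkMap_apply g ⊤ (genericPoint Z') trivial y
    refine ⟨a, s, ?_, ?_⟩
    · intro h0
      apply hs
      apply hbij.1
      rw [map_zero]
      have := sq s
      rw [this]
      have h0' : (Z'.presheaf.germ ⊤ (genericPoint Z') trivial).hom (g.appTop.hom s) = 0 := by
        rw [h0, map_zero]
      exact h0'
    · have e1 := sq s
      have e2 := sq a
      have : (g.stalkMap (genericPoint Z')).hom ((Z.presheaf.germ ⊤ _ trivial).hom s * k0) =
          (g.stalkMap (genericPoint Z')).hom ((Z.presheaf.germ ⊤ _ trivial).hom a) := by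
        rw [h]
      rw [map_mul] at this
      exact (congrArg (· * _) e1.symm).trans (this.trans e2)

/-- the affine case -/
theorem isIso_of_isAffineHom {X' : Scheme.{u}} [IsIntegral X'] [IsIntegral X] (f : X' ⟶ X)
    [Flat f] [Surjective f] [IsAffineHom f]
    (hK : IsIso (f.stalkMap (genericPoint X'))) : IsIso f := by
  have hcov : ∀ x : X, ∃ U : X.Opens, IsAffineOpen U ∧ x ∈ U := by
    intro x
    obtain ⟨_, ⟨V, hV : IsAffineOpen V, rfl⟩, hxV, -⟩ :=
      (X.isBasis_affineOpens).exists_subset_of_mem_open (Set.mem_univ x) isOpen_univ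
    exact ⟨V, hV, hxV⟩
  choose U hU hxU using hcov
  have hsup : ⨆ x, U x = ⊤ := by
    rw [eq_top_iff]
    intro x _
    exact TopologicalSpace.Opens.mem_iSup.mpr ⟨x, hxU x⟩
  rw [← MorphismProperty.isomorphisms.iff,
    IsZariskiLocalAtTarget.iff_of_iSup_eq_top (P := MorphismProperty.isomorphisms Scheme) _ hsup]
  intro x
  haveI : Nonempty (U x) := ⟨⟨x, hxU x⟩⟩
  haveI : Nonempty (f ⁻¹ᵁ U x) := by
    obtain ⟨x', hx'⟩ := f.surjective x
    exact ⟨⟨x', by show f.base x' ∈ U x; rw [hx']; exact hxU x⟩⟩
  haveI : IsAffine (U x) := hU x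
  haveI : IsAffine (f ⁻¹ᵁ U x) := (hU x).preimage f
  haveI : Surjective (f ∣_ U x) := by
    constructor
    rintro ⟨y, hy⟩
    obtain ⟨x', hx'⟩ := f.surjective y
    refine ⟨⟨x', by show f.base x' ∈ U x; rw [hx']; exact hy⟩, ?_⟩
    apply Subtype.ext
    rw [morphismRestrict_base_coe]
    exact hx'
  haveI : Flat (f ∣_ U x) := IsZariskiLocalAtTarget.restrict ‹_› _
  rw [MorphismProperty.isomorphisms.iff]
  apply isIso_of_isAffine (f ∣_ U x)
  have e : ((f ⁻¹ᵁ U x).ι.base (genericPoint (f ⁻¹ᵁ U x).toScheme)) = genericPoint X' :=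
    genericPoint_eq_of_isOpenImmersion (f ⁻¹ᵁ U x).ι
  have hK' : IsIso (f.stalkMap (genericPoint (f ⁻¹ᵁ U x).toScheme).1) := by
    have : (genericPoint (f ⁻¹ᵁ U x).toScheme).1 = genericPoint X' := e
    rw [this]; exact hK
  rw [← MorphismProperty.isomorphisms.iff, (MorphismProperty.isomorphisms CommRingCat).arrow_mk_iso_iff
    (morphismRestrictStalkMap f (U x) (genericPoint (f ⁻¹ᵁ U x).toScheme))]
  exact hK'

/-- **S10879** -/
theorem main {X' : Scheme.{u}} [IsIntegral X'] [IsIntegral X]
    (f : X' ⟶ X) [Surjective f] [IsSeparated f] (hK : IsIso (f.stalkMap (genericPoint X')))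
    (h : IsAffineHom f ∨ LocallyOfFinitePresentation f) :
    Flat f ↔ IsIso f := by
  constructor
  · intro hf
    rcases h with h | h
    · exact isIso_of_isAffineHom f hK
    · exact isIso_of_lft f hK
  · intro h
    infer_instance

end Groth.Agent.Helper14.FlatBirat
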