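import Mathlib

/-!
# A module vanishing after flat base changes covering the spectrum is zero (helper14)
-/

open TensorProduct

universe u

namespace Groth.Agent.Helper14.FlatDesc

/-- Let `M` be an `A`-module such that every prime `𝔭` of `A` is the contraction of a prime of a
flat `A`-algebra `B` with `M ⊗ B = 0`. Then `M = 0`. -/
theorem subsingleton_of_forall_prime_flat {A : Type u} [CommRing A] (M : Type u) [AddCommGroup M]
    [Module A M]
    (h : ∀ 𝔭 : PrimeSpectrum A, ∃ (B : Type u) (_ : CommRing B) (_ : Algebra A B),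
      Module.Flat A B ∧ (∃ 𝔮 : PrimeSpectrum B, 𝔮.comap (algebraMap A B) = 𝔭) ∧
        Subsingleton (M ⊗[A] B)) : Subsingleton M := by
  refine ⟨fun m₁ m₂ => ?_⟩
  suffices hm : ∀ m : M, m = 0 by rw [hm m₁, hm m₂]
  intro m
  let I : Ideal A := LinearMap.ker (LinearMap.toSpanSingleton A M m)
  by_contra hne
  have hI : I ≠ ⊤ := by
    intro htop
    apply hne
    have h1 : (1 : A) ∈ I := by rw [htop]; exact Submodule.mem_top
    have h2 : LinearMap.toSpanSingleton A M m 1 = 0 := h1
    simpa using h2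
  obtain ⟨P, hPmax, hIP⟩ := Ideal.exists_le_maximal I hI
  obtain ⟨B, _, _, hflat, ⟨𝔮, h𝔮⟩, hsub⟩ := h ⟨P, hPmax.isPrime⟩
  -- the injection `A ⧸ I → M`
  let ι : (A ⧸ I) →ₗ[A] M := Submodule.liftQ I (LinearMap.toSpanSingleton A M m) le_rfl
  have hι : Function.Injective ι := by
    rw [← LinearMap.ker_eq_bot]
    exact Submodule.ker_liftQ_eq_bot _ _ _ le_rfl
  have hinj : Function.Injective (LinearMap.rTensor B ι) :=
    Module.Flat.rTensor_preserves_injective_linearMap ι hι
  haveI : Subsingleton ((A ⧸ I) ⊗[A] B) := hinj.subsingleton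
  haveI : Subsingleton (B ⧸ (I • (⊤ : Submodule A B))) :=
    (TensorProduct.quotTensorEquivQuotSMul B I).symm.injective.subsingleton
  have htop : I • (⊤ : Submodule A B) = ⊤ := Submodule.Quotient.subsingleton_iff.mp ‹_›
  have hle : I • (⊤ : Submodule A B) ≤ 𝔮.asIdeal.restrictScalars A := by
    rw [Submodule.smul_le]
    intro r hr n _
    change r • n ∈ 𝔮.asIdeal
    rw [Algebra.smul_def]
    apply Ideal.mul_mem_right
    have h1 : r ∈ (𝔮.comap (algebraMap A B)).asIdeal := by
      rw [h𝔮]; exact hIP hr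
    exact h1
  have h1 : (1 : B) ∈ 𝔮.asIdeal := by
    have : (1 : B) ∈ I • (⊤ : Submodule A B) := by rw [htop]; exact Submodule.mem_top
    exact hle this
  exact 𝔮.isPrime.ne_top ((Ideal.eq_top_iff_one _).2 h1)

end Groth.Agent.Helper14.FlatDesc
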