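import Mathlib
import Groth.Agent.S4793
import Groth.Agent.Lib.Helper13.FittPullback
import Groth.Agent.Lib.Helper9.PrinPart4
import Groth.Agent.Lib.Helper13.PullbackLocal
import Groth.Agent.Lib.Helper14.LimModG

/-!
# Isomorphisms of pulled back morphisms on a cofiltered limit of schemes (helper14)
-/

open CategoryTheory AlgebraicGeometry Limits Opposite TopologicalSpace

universe u

namespace Groth.Agent.Helper14.LimMod

section Main

variable {I : Type u} [SmallCategory I] [IsCofiltered I] (D : I ⥤ Scheme.{u}) (c : Cone D)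
  (hc : IsLimit c) [∀ {i j : I} (f : i ⟶ j), IsAffineHom (D.map f)] (i₀ : I)
  {F₀ G₀ : (D.obj i₀).Modules}

/-- The canonical isomorphism `pullback (D.map φ) ⋙ pullback (c.π.app j) ≅ pullback (c.π.app i₀)`. -/
noncomputable def pullbackStageIso {j : I} (φ : j ⟶ i₀) :
    Scheme.Modules.pullback (D.map φ) ⋙ Scheme.Modules.pullback (c.π.app j) ≅
      Scheme.Modules.pullback (c.π.app i₀) :=
  Scheme.Modules.pullbackComp (c.π.app j) (D.map φ) ≪≫ Scheme.Modules.pullbackCongr (c.w φ)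

/-- The canonical isomorphism `pullback (D.map φ₁) ⋙ pullback (D.map φ₂) ≅ pullback (D.map (φ₂ ≫ φ₁))`. -/
noncomputable def pullbackMapCompIso {j₁ j₂ : I} (φ₁ : j₁ ⟶ i₀) (φ₂ : j₂ ⟶ j₁) :
    Scheme.Modules.pullback (D.map φ₁) ⋙ Scheme.Modules.pullback (D.map φ₂) ≅
      Scheme.Modules.pullback (D.map (φ₂ ≫ φ₁)) :=
  Scheme.Modules.pullbackComp (D.map φ₂) (D.map φ₁) ≪≫
    Scheme.Modules.pullbackCongr (D.map_comp φ₂ φ₁).symm

omit [IsCofiltered I] [∀ {i j : I} (f : i ⟶ j), IsAffineHom (D.map f)] in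
lemma isIso_pullback_map_of_stage (f₀ : F₀ ⟶ G₀) {j : I} (φ : j ⟶ i₀)
    (h : IsIso ((Scheme.Modules.pullback (D.map φ)).map f₀)) :
    IsIso ((Scheme.Modules.pullback (c.π.app i₀)).map f₀) := by
  rw [← NatIso.isIso_map_iff (pullbackStageIso D c i₀ φ) f₀]
  simp only [Functor.comp_map]
  infer_instance

variable [CompactSpace (D.obj i₀)] [F₀.IsQuasicoherent] [G₀.IsQuasicoherent]
  [SheafOfModules.IsFiniteType (R := (D.obj i₀).ringCatSheaf) F₀]
  [SheafOfModules.IsFinitePresentation (R := (D.obj i₀).ringCatSheaf) G₀]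

include hc in
theorem exists_stage_isIso_pullback_map (f₀ : F₀ ⟶ G₀)
    (h : IsIso ((Scheme.Modules.pullback (c.π.app i₀)).map f₀)) :
    ∃ (j : I) (φ : j ⟶ i₀), IsIso ((Scheme.Modules.pullback (D.map φ)).map f₀) := by
  haveI hAff : ∀ (i j : I) (f : i ⟶ j), IsAffineHom (D.map f) := fun _ _ f => inferInstance
  -- Step 1: surjectivity at some stage
  haveI : Epi ((Scheme.Modules.pullback (c.π.app i₀)).map f₀) := inferInstance
  have hG₀ft : CohB1.IsFT G₀ :=
    (inferInstance : SheafOfModules.IsFiniteType (R := (D.obj i₀).ringCatSheaf) G₀)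
  haveI : Coh.IsQCoh F₀ := ‹F₀.IsQuasicoherent›
  haveI : Coh.IsQCoh G₀ := ‹G₀.IsQuasicoherent›
  obtain ⟨j₁, φ₁, hepi⟩ := (Groth.Agent.S4793.result D c hc i₀ hG₀ft f₀).1 inferInstance
  haveI : CompactSpace (D.obj j₁) := QuasiCompact.compactSpace_of_compactSpace (D.map φ₁)
  set f₁ := (Scheme.Modules.pullback (D.map φ₁)).map f₀ with hf₁
  haveI : Epi f₁ := hepi
  haveI : ((Scheme.Modules.pullback (D.map φ₁)).obj F₀).IsQuasicoherent :=
    Groth.Agent.Helper13.Pullback.isQuasicoherent_pullback _ _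
  haveI : ((Scheme.Modules.pullback (D.map φ₁)).obj G₀).IsQuasicoherent :=
    Groth.Agent.Helper13.Pullback.isQuasicoherent_pullback _ _
  haveI : SheafOfModules.IsFiniteType (R := (D.obj j₁).ringCatSheaf)
      ((Scheme.Modules.pullback (D.map φ₁)).obj F₀) :=
    Groth.Agent.Helper13.FittSheaf.isFiniteType_pullback _ _
  haveI : SheafOfModules.IsFinitePresentation (R := (D.obj j₁).ringCatSheaf)
      ((Scheme.Modules.pullback (D.map φ₁)).obj G₀) :=
    Groth.Agent.Helper9.PrinPart4.isFinitePresentation_pullback _ _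
  haveI : SheafOfModules.IsFiniteType (R := (D.obj j₁).ringCatSheaf)
      (kernel f₁ : (D.obj j₁).Modules) := isFiniteType_kernel_of_epi f₁
  haveI : (kernel f₁ : (D.obj j₁).Modules).IsQuasicoherent :=
    Groth.Agent.Helper13.QCohLocal.isQuasicoherent_kernel f₁
  -- Step 2: the kernel dies on the limit
  haveI hcol : ∀ {X Y : Scheme.{u}} (g : X ⟶ Y),
      PreservesFiniteColimits (Scheme.Modules.pullback g) := fun g => by
    haveI := (Scheme.Modules.pullbackPushforwardAdjunction g).leftAdjoint_preservesColimits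
    infer_instance
  have hL : IsIso ((Scheme.Modules.pullback (c.π.app j₁)).map f₁) := by
    have := (NatIso.isIso_map_iff (pullbackStageIso D c i₀ φ₁) f₀).2 h
    simpa only [Functor.comp_map] using this
  have h0 := (isIso_map_iff_map_kernel_ι_eq_zero (Scheme.Modules.pullback (c.π.app j₁)) f₁).1 hL
  obtain ⟨j₂, φ₂, h2⟩ := exists_stage_pullback_map_eq D c hc j₁ (kernel.ι f₁) 0
    (by rw [h0, Functor.map_zero])
  have h3 : IsIso ((Scheme.Modules.pullback (D.map φ₂)).map f₁) :=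
    (isIso_map_iff_map_kernel_ι_eq_zero _ f₁).2 (by rw [h2, Functor.map_zero])
  refine ⟨j₂, φ₂ ≫ φ₁, ?_⟩
  have := (NatIso.isIso_map_iff (pullbackMapCompIso D i₀ φ₁ φ₂) f₀).1
    (by simpa only [Functor.comp_map] using h3)
  exact this

end Main

end Groth.Agent.Helper14.LimMod
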