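import Mathlib
import Groth.Agent.Lib.Helper14.LimModM
import Groth.Agent.Lib.Helper14.LimModH

/-!
# Monomorphisms of pulled back morphisms on a cofiltered limit with flat transition maps (helper14)
-/

open CategoryTheory AlgebraicGeometry Limits Opposite TopologicalSpace

universe u

namespace Groth.Agent.Helper14.LimMod

open Groth.Agent.Helper13.QCohLocal Groth.Agent.Helper13.Pullback

lemma mono_map_iff_of_natIso {C C' : Type*} [Category C] [Category C'] {L₁ L₂ : C ⥤ C'}
    (e : L₁ ≅ L₂) {X Y : C} (f : X ⟶ Y) : Mono (L₁.map f) ↔ Mono (L₂.map f) := by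
  have e' : Arrow.mk (L₁.map f) ≅ Arrow.mk (L₂.map f) :=
    Arrow.isoMk (e.app X) (e.app Y) (e.hom.naturality f).symm
  exact (MorphismProperty.monomorphisms _).arrow_mk_iso_iff e'

section Main

variable {I : Type u} [SmallCategory I] [IsCofiltered I] (D : I ⥤ Scheme.{u}) (c : Cone D)
  (hc : IsLimit c) [∀ {i j : I} (f : i ⟶ j), IsAffineHom (D.map f)] (i₀ : I)
  (hfl : ∀ (i j : I) (φ : i ⟶ j), Flat (D.map φ))
  {F₀ G₀ : (D.obj i₀).Modules} [F₀.IsQuasicoherent] [G₀.IsQuasicoherent]

include hc hfl in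
lemma mono_pullback_map_of_stage (f₀ : F₀ ⟶ G₀) {j : I} (φ : j ⟶ i₀)
    (h : Mono ((Scheme.Modules.pullback (D.map φ)).map f₀)) :
    Mono ((Scheme.Modules.pullback (c.π.app i₀)).map f₀) := by
  rw [← mono_map_iff_of_natIso (pullbackStageIso D c i₀ φ) f₀]
  simp only [Functor.comp_map]
  haveI : ((Scheme.Modules.pullback (D.map φ)).obj F₀).IsQuasicoherent :=
    isQuasicoherent_pullback _ _
  haveI : ((Scheme.Modules.pullback (D.map φ)).obj G₀).IsQuasicoherent :=
    isQuasicoherent_pullback _ _
  exact mono_pullback_map_of_hasFlatAtlas _ (hasFlatAtlas_π D c hc j hfl) _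

variable [CompactSpace (D.obj i₀)]

include hc hfl in
theorem exists_stage_mono_pullback_map (f₀ : F₀ ⟶ G₀)
    (hker : SheafOfModules.IsFiniteType (R := (D.obj i₀).ringCatSheaf)
      (kernel f₀ : (D.obj i₀).Modules))
    (h : Mono ((Scheme.Modules.pullback (c.π.app i₀)).map f₀)) :
    ∃ (j : I) (φ : j ⟶ i₀), Mono ((Scheme.Modules.pullback (D.map φ)).map f₀) := by
  haveI hcol : ∀ {X Y : Scheme.{u}} (g : X ⟶ Y),
      PreservesFiniteColimits (Scheme.Modules.pullback g) := fun g => by
    haveI := (Scheme.Modules.pullbackPushforwardAdjunction g).leftAdjoint_preservesColimits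
    infer_instance
  let e : F₀ ⟶ Abelian.image f₀ := Abelian.factorThruImage f₀
  let m : Abelian.image f₀ ⟶ G₀ := Abelian.image.ι f₀
  have hfac : e ≫ m = f₀ := Abelian.image.fac f₀
  haveI : (cokernel f₀ : (D.obj i₀).Modules).IsQuasicoherent := isQuasicoherent_cokernel f₀
  haveI hIm : (Abelian.image f₀ : (D.obj i₀).Modules).IsQuasicoherent :=
    isQuasicoherent_kernel (cokernel.π f₀)
  haveI : Epi e := inferInstance
  haveI : Mono m := inferInstance
  -- the kernel of `e` is of finite type
  haveI : (kernel e : (D.obj i₀).Modules).IsQuasicoherent := isQuasicoherent_kernel e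
  haveI : SheafOfModules.IsFiniteType (R := (D.obj i₀).ringCatSheaf)
      (kernel e : (D.obj i₀).Modules) := by
    haveI := hker
    have i1 : kernel f₀ ≅ kernel (e ≫ m) := kernelIsoOfEq hfac.symm
    have i2 : kernel (e ≫ m) ≅ kernel e := kernelCompMono e m
    exact Groth.Agent.Helper13.FinType.isFiniteType_of_iso (i1 ≪≫ i2)
  -- the pullback of `e` to the limit is an isomorphism
  have hmap : (Scheme.Modules.pullback (c.π.app i₀)).map f₀ =
      (Scheme.Modules.pullback (c.π.app i₀)).map e ≫
        (Scheme.Modules.pullback (c.π.app i₀)).map m := by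
    rw [← Functor.map_comp, hfac]
  haveI : Mono ((Scheme.Modules.pullback (c.π.app i₀)).map e) := by
    rw [hmap] at h
    exact mono_of_mono _ ((Scheme.Modules.pullback (c.π.app i₀)).map m)
  haveI : Epi ((Scheme.Modules.pullback (c.π.app i₀)).map e) := inferInstance
  have hiso : IsIso ((Scheme.Modules.pullback (c.π.app i₀)).map e) :=
    isIso_of_mono_of_epi _
  have h0 := (isIso_map_iff_map_kernel_ι_eq_zero (Scheme.Modules.pullback (c.π.app i₀)) e).1 hiso
  obtain ⟨j, φ, h2⟩ := exists_stage_pullback_map_eq D c hc i₀ (kernel.ι e) 0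
    (by rw [h0, Functor.map_zero])
  haveI h3 : IsIso ((Scheme.Modules.pullback (D.map φ)).map e) :=
    (isIso_map_iff_map_kernel_ι_eq_zero _ e).2 (by rw [h2, Functor.map_zero])
  haveI : Flat (D.map φ) := hfl _ _ φ
  haveI h4 : Mono ((Scheme.Modules.pullback (D.map φ)).map m) :=
    mono_pullback_map_of_hasFlatAtlas _ (hasFlatAtlas_of_flat (D.map φ)) m
  refine ⟨j, φ, ?_⟩
  rw [← hfac, Functor.map_comp]
  infer_instance

end Main

end Groth.Agent.Helper14.LimMod
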