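import Mathlib
import Groth.Agent.Lib.Helper14.LimModN

/-!
# Exactness of pulled back sequences on a cofiltered limit with flat transition maps (helper14)
-/

open CategoryTheory AlgebraicGeometry Limits Opposite TopologicalSpace

universe u

namespace Groth.Agent.Helper14.LimMod

open Groth.Agent.Helper13.QCohLocal Groth.Agent.Helper13.Pullback

section FlatExact

variable {X Y : Scheme.{u}} (p : X ⟶ Y) (hp : HasFlatAtlas p)

instance pullback_preservesFiniteColimits' :
    PreservesFiniteColimits (Scheme.Modules.pullback p) := by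
  haveI := (Scheme.Modules.pullbackPushforwardAdjunction p).leftAdjoint_preservesColimits
  infer_instance

include hp in
/-- Pullback along a morphism with a flat atlas preserves exactness of short complexes of
quasi-coherent modules. -/
theorem exact_map_pullback_of_hasFlatAtlas (S : ShortComplex Y.Modules)
    [S.X₂.IsQuasicoherent] [S.X₃.IsQuasicoherent] (hS : S.Exact) :
    (S.map (Scheme.Modules.pullback p)).Exact := by
  let L := Scheme.Modules.pullback p
  let e := Abelian.factorThruImage S.g
  let m := Abelian.image.ι S.g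
  have hfac : e ≫ m = S.g := Abelian.image.fac S.g
  haveI : (cokernel S.g : Y.Modules).IsQuasicoherent := isQuasicoherent_cokernel S.g
  haveI hIm : (Abelian.image S.g : Y.Modules).IsQuasicoherent :=
    isQuasicoherent_kernel (cokernel.π S.g)
  let T : ShortComplex Y.Modules := ShortComplex.mk S.f e (by
    rw [← cancel_mono m, Category.assoc, hfac, S.zero, zero_comp])
  let φ : T ⟶ S :=
    { τ₁ := 𝟙 _
      τ₂ := 𝟙 _
      τ₃ := m
      comm₁₂ := by simp [T]
      comm₂₃ := by simp [T, hfac] }
  haveI : Mono φ.τ₃ := inferInstanceAs (Mono m)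
  haveI : Epi φ.τ₁ := inferInstanceAs (Epi (𝟙 _))
  haveI : IsIso φ.τ₂ := inferInstanceAs (IsIso (𝟙 _))
  have hT : T.Exact := (ShortComplex.exact_iff_of_epi_of_isIso_of_mono φ).2 hS
  have hT' : (T.map L).Exact :=
    hT.map_of_epi_of_preservesCokernel L (inferInstanceAs (Epi e)) inferInstance
  let ψ : T.map L ⟶ S.map L := (L.mapShortComplex).map φ
  haveI : Mono ψ.τ₃ := by
    change Mono (L.map m)
    exact mono_pullback_map_of_hasFlatAtlas p hp m
  haveI : Epi ψ.τ₁ := by
    change Epi (L.map (𝟙 _))
    infer_instance
  haveI : IsIso ψ.τ₂ := by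
    change IsIso (L.map (𝟙 _))
    infer_instance
  exact (ShortComplex.exact_iff_of_epi_of_isIso_of_mono ψ).1 hT'

variable {F G H : Y.Modules} [F.IsQuasicoherent] [G.IsQuasicoherent] [H.IsQuasicoherent]

include hp in
/-- The pullback of the kernel of `g` is a kernel of the pullback of `g`. -/
lemma exists_kernel_pullback_iso (g : G ⟶ H) :
    ∃ i : kernel ((Scheme.Modules.pullback p).map g) ≅
        (Scheme.Modules.pullback p).obj (kernel g),
      i.hom ≫ (Scheme.Modules.pullback p).map (kernel.ι g) =
        kernel.ι ((Scheme.Modules.pullback p).map g) := by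
  let L := Scheme.Modules.pullback p
  haveI : (kernel g : Y.Modules).IsQuasicoherent := isQuasicoherent_kernel g
  let S₀ : ShortComplex Y.Modules := ShortComplex.mk (kernel.ι g) g (kernel.condition g)
  have hS₀ : S₀.Exact := ShortComplex.exact_kernel g
  have h1 : (S₀.map L).Exact := exact_map_pullback_of_hasFlatAtlas p hp S₀ hS₀
  haveI : Mono (S₀.map L).f := by
    change Mono (L.map (kernel.ι g))
    exact mono_pullback_map_of_hasFlatAtlas p hp _
  have hK := h1.fIsKernel
  refine ⟨IsLimit.conePointUniqueUpToIso (kernelIsKernel (L.map g)) hK, ?_⟩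
  exact IsLimit.conePointUniqueUpToIso_hom_comp (kernelIsKernel (L.map g)) hK
    WalkingParallelPair.zero

include hp in
/-- Exactness of the pullback of `F ⟶ G ⟶ H` along a morphism with a flat atlas, in terms of the
vanishing of pullbacks of two morphisms. -/
theorem exact_pullback_iff (f : F ⟶ G) (g : G ⟶ H) :
    (∃ w : (Scheme.Modules.pullback p).map f ≫ (Scheme.Modules.pullback p).map g = 0,
        (ShortComplex.mk _ _ w).Exact) ↔
      (Scheme.Modules.pullback p).map (f ≫ g) = 0 ∧
        (Scheme.Modules.pullback p).map (kernel.ι g ≫ cokernel.π f) = 0 := by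
  let L := Scheme.Modules.pullback p
  have key : ∀ w : L.map f ≫ L.map g = 0,
      (ShortComplex.mk _ _ w).Exact ↔ L.map (kernel.ι g ≫ cokernel.π f) = 0 := by
    intro w
    rw [ShortComplex.exact_iff_kernel_ι_comp_cokernel_π_zero]
    obtain ⟨i, hi⟩ := exists_kernel_pullback_iso p hp g
    change kernel.ι (L.map g) ≫ cokernel.π (L.map f) = 0 ↔ _
    have hc : cokernel.π (L.map f) ≫ cokernelComparison f L = L.map (cokernel.π f) :=
      π_comp_cokernelComparison f L
    haveI : IsIso (cokernelComparison f L) := by
      rw [← PreservesCokernel.iso_inv]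
      infer_instance
    rw [← cancel_mono (cokernelComparison f L), zero_comp, Category.assoc, hc, ← hi,
      Category.assoc, ← L.map_comp]
    constructor
    · intro h
      exact (cancel_epi i.hom).1 (by rw [h, comp_zero])
    · intro h
      rw [h, comp_zero]
  constructor
  · rintro ⟨w, hw⟩
    exact ⟨by rw [L.map_comp]; exact w, (key w).1 hw⟩
  · rintro ⟨h1, h2⟩
    have w : L.map f ≫ L.map g = 0 := by rw [← L.map_comp]; exact h1
    exact ⟨w, (key w).2 h2⟩

end FlatExact

end Groth.Agent.Helper14.LimMod
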