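import Mathlib
import Groth.Agent.Lib.Helper14.FlatDescA
import Groth.Agent.Lib.Helper14.LimModO

/-!
# Flat descent of vanishing of quasi-coherent modules (helper14)
-/

open CategoryTheory AlgebraicGeometry Limits Opposite TopologicalSpace TensorProduct

universe u

namespace Groth.Agent.Helper14.FlatDesc

open Groth.Agent.Helper14.LimMod Groth.Agent.Helper13.QCohLocal Groth.Agent.Helper13.Pullback

/-- A quasi-coherent module whose pullbacks along a jointly surjective family of flat morphisms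
vanish is zero. -/
theorem isZero_of_flat_cover {Y : Scheme.{u}} (K : Y.Modules) [K.IsQuasicoherent] {ι : Type*}
    {Z : ι → Scheme.{u}} (h : ∀ i, Z i ⟶ Y) [∀ i, Flat (h i)]
    (hsurj : ∀ y : Y, ∃ i, y ∈ Set.range (h i))
    (hz : ∀ i, IsZero ((Scheme.Modules.pullback (h i)).obj K)) : IsZero K := by
  apply isZero_of_cover K (fun U : Y.affineOpens => U.2.fromSpec)
  · intro x
    obtain ⟨_, ⟨U, hU, rfl⟩, hxU, -⟩ :=
      Y.isBasis_affineOpens.exists_subset_of_mem_open (Set.mem_univ x) isOpen_univ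
    exact ⟨⟨U, hU⟩, by rw [hU.opensRange_fromSpec]; exact hxU⟩
  · intro U
    apply isZero_of_isZero_moduleSpecΓ
    change IsZero ((secFunctor U.2.fromSpec).obj K)
    rw [ModuleCat.isZero_iff_subsingleton]
    apply subsingleton_of_forall_prime_flat (A := Γ(Y, U.1))
    intro 𝔭
    set b := U.2.fromSpec with hb
    obtain ⟨i, z, hz'⟩ := hsurj (b 𝔭)
    have hzU : z ∈ (h i) ⁻¹ᵁ U.1 := by
      change h i z ∈ U.1
      rw [hz']
      have : b 𝔭 ∈ b.opensRange := ⟨𝔭, rfl⟩
      rw [U.2.opensRange_fromSpec] at this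
      exact this
    obtain ⟨_, ⟨V, hV, rfl⟩, hzV, hVU⟩ :=
      (Z i).isBasis_affineOpens.exists_subset_of_mem_open hzU ((h i) ⁻¹ᵁ U.1).2
    let φ := (h i).appLE U.1 V hVU
    let a := hV.fromSpec
    have comm : a ≫ h i = Spec.map φ ≫ b :=
      (IsAffineOpen.SpecMap_appLE_fromSpec (h i) U.2 hV hVU).symm
    have hflat : φ.hom.Flat :=
      HasRingHomProperty.appLE (P := @Flat) (h i) inferInstance U ⟨V, hV⟩ hVU
    obtain ⟨𝔮, h𝔮⟩ : ∃ 𝔮 : Spec Γ(Z i, V), a 𝔮 = z := by
      have : z ∈ a.opensRange := by rw [hV.opensRange_fromSpec]; exact hzV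
      exact this
    letI := φ.hom.toAlgebra
    refine ⟨Γ(Z i, V), inferInstance, φ.hom.toAlgebra, hflat, ⟨𝔮, ?_⟩, ?_⟩
    · apply b.isOpenEmbedding.injective
      have h1 : (a ≫ h i) 𝔮 = (Spec.map φ ≫ b) 𝔮 := by rw [comm]
      rw [Scheme.Hom.comp_apply, Scheme.Hom.comp_apply, h𝔮, hz'] at h1
      exact h1.symm
    · have e := asIso ((secTrans (h i) a b φ comm).app K)
      have hz0 : IsZero ((secFunctor a).obj ((Scheme.Modules.pullback (h i)).obj K)) :=
        (secFunctor a).map_isZero (hz i)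
      have hz1 : IsZero ((ModuleCat.extendScalars.{u, u, u} φ.hom).obj ((secFunctor b).obj K)) :=
        hz0.of_iso e
      haveI hs : Subsingleton ((ModuleCat.extendScalars.{u, u, u} φ.hom).obj
          ((secFunctor b).obj K)) := ModuleCat.subsingleton_of_isZero hz1
      exact (tmulEquiv φ.hom ((secFunctor b).obj K)).symm.injective.subsingleton

end Groth.Agent.Helper14.FlatDesc
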