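import Mathlib
import Groth.Agent.Lib.Helper14.FlatDescB

/-!
# Flat descent of properties of morphisms of quasi-coherent modules (helper14)
-/

open CategoryTheory AlgebraicGeometry Limits Opposite TopologicalSpace

universe u

namespace Groth.Agent.Helper14.FlatDesc

open Groth.Agent.Helper14.LimMod Groth.Agent.Helper13.QCohLocal Groth.Agent.Helper13.Pullback

variable {Y : Scheme.{u}} {F G : Y.Modules} [F.IsQuasicoherent] [G.IsQuasicoherent] (v : F ⟶ G)
  {ι : Type*} {Z : ι → Scheme.{u}} (h : ∀ i, Z i ⟶ Y) [∀ i, Flat (h i)]
  (hsurj : ∀ y : Y, ∃ i, y ∈ Set.range (h i))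

include hsurj in
theorem mono_of_flat_cover (hv : ∀ i, Mono ((Scheme.Modules.pullback (h i)).map v)) : Mono v := by
  haveI : (kernel v : Y.Modules).IsQuasicoherent := isQuasicoherent_kernel v
  apply Preadditive.mono_of_isZero_kernel
  apply isZero_of_flat_cover _ h hsurj
  intro i
  obtain ⟨e, -⟩ := exists_kernel_pullback_iso (h i) (hasFlatAtlas_of_flat (h i)) v
  haveI := hv i
  exact (isZero_kernel_of_mono _).of_iso e.symm

include hsurj in
theorem epi_of_flat_cover (hv : ∀ i, Epi ((Scheme.Modules.pullback (h i)).map v)) : Epi v := by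
  haveI : (cokernel v : Y.Modules).IsQuasicoherent := isQuasicoherent_cokernel v
  apply Preadditive.epi_of_isZero_cokernel
  apply isZero_of_flat_cover _ h hsurj
  intro i
  have e : (Scheme.Modules.pullback (h i)).obj (cokernel v) ≅
      cokernel ((Scheme.Modules.pullback (h i)).map v) :=
    PreservesCokernel.iso (Scheme.Modules.pullback (h i)) v
  haveI := hv i
  exact (isZero_cokernel_of_epi _).of_iso e

include hsurj in
theorem eq_zero_of_flat_cover (hv : ∀ i, (Scheme.Modules.pullback (h i)).map v = 0) : v = 0 := by
  haveI : (cokernel v : Y.Modules).IsQuasicoherent := isQuasicoherent_cokernel v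
  haveI hIm : (Abelian.image v : Y.Modules).IsQuasicoherent :=
    isQuasicoherent_kernel (cokernel.π v)
  have hz : IsZero (Abelian.image v : Y.Modules) := by
    apply isZero_of_flat_cover _ h hsurj
    intro i
    let L := Scheme.Modules.pullback (h i)
    haveI : Mono (L.map (Abelian.image.ι v)) :=
      mono_pullback_map_of_hasFlatAtlas _ (hasFlatAtlas_of_flat (h i)) _
    haveI : Epi (L.map (Abelian.factorThruImage v)) := inferInstance
    have h0 : L.map (Abelian.image.ι v) = 0 := by
      rw [← cancel_epi (L.map (Abelian.factorThruImage v)), ← L.map_comp, Abelian.image.fac,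
        comp_zero]
      exact hv i
    rw [IsZero.iff_id_eq_zero, ← cancel_mono (L.map (Abelian.image.ι v)), h0, comp_zero,
      comp_zero]
  rw [← Abelian.image.fac v, hz.eq_of_tgt (Abelian.factorThruImage v) 0, zero_comp]

include hsurj in
theorem isIso_of_flat_cover (hv : ∀ i, IsIso ((Scheme.Modules.pullback (h i)).map v)) :
    IsIso v := by
  haveI : Mono v := mono_of_flat_cover v h hsurj (fun i => by haveI := hv i; infer_instance)
  haveI : Epi v := epi_of_flat_cover v h hsurj (fun i => by haveI := hv i; infer_instance)
  exact isIso_of_mono_of_epi v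

end Groth.Agent.Helper14.FlatDesc
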