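import Mathlib
import Groth.Agent.Lib.Helper14.FlatDescC

/-!
# Base change maps `X ×_S T' ⟶ X ×_S T` and fpqc descent for base changes of a morphism of
quasi-coherent modules (helper14)
-/

open CategoryTheory AlgebraicGeometry Limits Opposite TopologicalSpace

universe u

namespace Groth.Agent.Helper14.FlatDesc

open Groth.Agent.Helper14.LimMod Groth.Agent.Helper13.QCohLocal Groth.Agent.Helper13.Pullback

section BC

variable {X S : Scheme.{u}} (f : X ⟶ S) {T T' : Over S} (g : T' ⟶ T)

/-- The base change map `X ×_S T' ⟶ X ×_S T`. -/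
noncomputable def bc : pullback f T'.hom ⟶ pullback f T.hom :=
  pullback.map f T'.hom f T.hom (𝟙 X) g.left (𝟙 S) (by simp) (by simp)

@[reassoc (attr := simp)]
lemma bc_fst : bc f g ≫ pullback.fst f T.hom = pullback.fst f T'.hom := by
  unfold bc
  rw [pullback.lift_fst, Category.comp_id]

@[reassoc (attr := simp)]
lemma bc_snd : bc f g ≫ pullback.snd f T.hom = pullback.snd f T'.hom ≫ g.left := by
  unfold bc
  rw [pullback.lift_snd]

lemma isPullback_bc :
    IsPullback (bc f g) (pullback.snd f T'.hom) (pullback.snd f T.hom) g.left := by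
  have h1 : IsPullback (pullback.fst f T.hom) (pullback.snd f T.hom) f T.hom :=
    IsPullback.of_hasPullback f T.hom
  have h2 : IsPullback (bc f g ≫ pullback.fst f T.hom) (pullback.snd f T'.hom) f
      (g.left ≫ T.hom) := by
    rw [bc_fst, Over.w]
    exact IsPullback.of_hasPullback f T'.hom
  exact IsPullback.of_right h2 (bc_snd f g) h1

instance flat_bc [Flat g.left] : Flat (bc f g) :=
  MorphismProperty.of_isPullback (isPullback_bc f g).flip inferInstance

/-- `pullback (fst_T) ⋙ pullback (bc) ≅ pullback (fst_T')`. -/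
noncomputable def pullbackBcIso :
    Scheme.Modules.pullback (pullback.fst f T.hom) ⋙ Scheme.Modules.pullback (bc f g) ≅
      Scheme.Modules.pullback (pullback.fst f T'.hom) :=
  Scheme.Modules.pullbackComp (bc f g) (pullback.fst f T.hom) ≪≫
    Scheme.Modules.pullbackCongr (bc_fst f g)

end BC

section Cover

variable {X S : Scheme.{u}} (f : X ⟶ S) {T : Over S} {ι : Type*} (Ti : ι → Over S)
  (g : ∀ i, Ti i ⟶ T)

lemma bc_jointly_surjective (hsurj : ∀ t : T.left, ∃ i, t ∈ Set.range (g i).left)
    (x : ↥(pullback f T.hom)) : ∃ i, x ∈ Set.range (bc f (g i)) := by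
  obtain ⟨i, ti, hti⟩ := hsurj (pullback.snd f T.hom x)
  obtain ⟨p, hp, -⟩ := Scheme.exists_preimage_of_isPullback (isPullback_bc f (g i)) x ti
    hti.symm
  exact ⟨i, p, hp⟩

end Cover

end Groth.Agent.Helper14.FlatDesc
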