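import Mathlib
import Groth.Prelude.Def_FlatFun
import Groth.Prelude.Def_QuotSh

/-!
# The sheaf condition for subfunctors of the final functor for the fpqc topology (helper14)
-/

open CategoryTheory AlgebraicGeometry Limits Opposite

universe u

namespace Groth.Agent.Helper14.FlatDesc

theorem isSheaf_genPSp {S : Scheme.{u}} (Q : Over S → Prop)
    (hstab : ∀ ⦃T T₀ : Over S⦄ (_ : T ⟶ T₀), Q T₀ → Q T)
    (hdesc : ∀ (T : Over S) (ι : Type (u + 1)) (Ti : ι → Over S) (g : ∀ i, Ti i ⟶ T),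
      Presieve.ofArrows (fun i => (Ti i).left) (fun i => (g i).left) ∈
        Scheme.fpqcPrecoverage T.left → (∀ i, Q (Ti i)) → Q T) :
    Presheaf.IsSheaf (QuotSh.J Scheme.fpqcPrecoverage S) (FlatFun.genPSp S Q) := by
  rw [isSheaf_iff_isSheaf_of_type]
  have hJ : QuotSh.J Scheme.fpqcPrecoverage S =
      (Scheme.fpqcPrecoverage.comap (Over.forget S)).toGrothendieck :=
    over_toGrothendieck_eq_toGrothendieck_comap_forget _ S
  rw [hJ, Precoverage.isSheaf_toGrothendieck_iff_of_isStableUnderBaseChange]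
  intro T R hR
  obtain ⟨ι, Ti, g, rfl⟩ := R.exists_eq_ofArrows
  rw [Precoverage.mem_comap_iff, Presieve.map_ofArrows] at hR
  intro x hx
  have hQ : ∀ i, Q (Ti i) := fun i => by
    obtain ⟨T₀, k, hk⟩ := (x (g i) ⟨i⟩).down.down
    exact hstab k hk
  have hT : Q T := hdesc T ι Ti g hR hQ
  refine ⟨⟨⟨⟨T, 𝟙 T, hT⟩⟩⟩, ?_, ?_⟩
  · intro T' k hk
    exact Subsingleton.elim _ _
  · intro y _
    exact Subsingleton.elim _ _

end Groth.Agent.Helper14.FlatDesc
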