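import Mathlib
import Groth.Agent.Lib.Helper14.FlatDescD
import Groth.Agent.Lib.Helper14.FlatDescE

/-!
# fpqc sheaf condition for `F_iso`, `F_surj`, `F_zero` (helper14)
-/

open CategoryTheory AlgebraicGeometry Limits Opposite

universe u

namespace Groth.Agent.Helper14.FlatDesc

open Groth.Agent.Helper14.LimMod Groth.Agent.Helper13.QCohLocal Groth.Agent.Helper13.Pullback

lemma epi_map_iff_of_natIso {C C' : Type*} [Category C] [Category C'] {L₁ L₂ : C ⥤ C'}
    (e : L₁ ≅ L₂) {X Y : C} (f : X ⟶ Y) : Epi (L₁.map f) ↔ Epi (L₂.map f) := by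
  have e' : Arrow.mk (L₁.map f) ≅ Arrow.mk (L₂.map f) :=
    Arrow.isoMk (e.app X) (e.app Y) (e.hom.naturality f).symm
  exact (MorphismProperty.epimorphisms _).arrow_mk_iso_iff e'

section

variable {X S : Scheme.{u}} (f : X ⟶ S) {F G : X.Modules} (u : F ⟶ G)

/-- The base change of `u` to `X ×_S T`. -/
noncomputable abbrev uT (T : Over S) :=
  (Scheme.Modules.pullback (pullback.fst f T.hom)).map u

lemma isIso_uT_iff {T T' : Over S} (g : T' ⟶ T) :
    IsIso (uT f u T') ↔ IsIso ((Scheme.Modules.pullback (bc f g)).map (uT f u T)) :=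
  (NatIso.isIso_map_iff (pullbackBcIso f g) u).symm

lemma epi_uT_iff {T T' : Over S} (g : T' ⟶ T) :
    Epi (uT f u T') ↔ Epi ((Scheme.Modules.pullback (bc f g)).map (uT f u T)) :=
  (epi_map_iff_of_natIso (pullbackBcIso f g) u).symm

lemma uT_eq_zero_iff {T T' : Over S} (g : T' ⟶ T) :
    uT f u T' = 0 ↔ (Scheme.Modules.pullback (bc f g)).map (uT f u T) = 0 := by
  have h := map_eq_iff_of_iso (pullbackBcIso f g) u 0
  simp only [Functor.map_zero, Functor.comp_map] at h
  exact h.symm

variable [F.IsQuasicoherent] [G.IsQuasicoherent]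

theorem isSheaf_iso :
    Presheaf.IsSheaf (QuotSh.J Scheme.fpqcPrecoverage S)
      (FlatFun.genPSp S (fun T => IsIso (uT f u T))) := by
  apply isSheaf_genPSp
  · intro T T₀ k hk
    rw [isIso_uT_iff f u k]
    haveI := hk
    infer_instance
  · intro T ι Ti g hcov hQ
    obtain ⟨hsurj, hflat⟩ := (Scheme.ofArrows_mem_precoverage_iff (P := @Flat)).1 hcov.2
    haveI : ∀ i, Flat (g i).left := hflat
    haveI : ((Scheme.Modules.pullback (pullback.fst f T.hom)).obj F).IsQuasicoherent :=
      isQuasicoherent_pullback _ _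
    haveI : ((Scheme.Modules.pullback (pullback.fst f T.hom)).obj G).IsQuasicoherent :=
      isQuasicoherent_pullback _ _
    exact isIso_of_flat_cover _ (fun i => bc f (g i)) (bc_jointly_surjective f Ti g hsurj)
      (fun i => (isIso_uT_iff f u (g i)).1 (hQ i))

theorem isSheaf_epi :
    Presheaf.IsSheaf (QuotSh.J Scheme.fpqcPrecoverage S)
      (FlatFun.genPSp S (fun T => Epi (uT f u T))) := by
  apply isSheaf_genPSp
  · intro T T₀ k hk
    rw [epi_uT_iff f u k]
    haveI := hk
    infer_instance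
  · intro T ι Ti g hcov hQ
    obtain ⟨hsurj, hflat⟩ := (Scheme.ofArrows_mem_precoverage_iff (P := @Flat)).1 hcov.2
    haveI : ∀ i, Flat (g i).left := hflat
    haveI : ((Scheme.Modules.pullback (pullback.fst f T.hom)).obj F).IsQuasicoherent :=
      isQuasicoherent_pullback _ _
    haveI : ((Scheme.Modules.pullback (pullback.fst f T.hom)).obj G).IsQuasicoherent :=
      isQuasicoherent_pullback _ _
    exact epi_of_flat_cover _ (fun i => bc f (g i)) (bc_jointly_surjective f Ti g hsurj)
      (fun i => (epi_uT_iff f u (g i)).1 (hQ i))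

theorem isSheaf_zero :
    Presheaf.IsSheaf (QuotSh.J Scheme.fpqcPrecoverage S)
      (FlatFun.genPSp S (fun T => uT f u T = 0)) := by
  apply isSheaf_genPSp
  · intro T T₀ k hk
    rw [uT_eq_zero_iff f u k, hk, Functor.map_zero]
  · intro T ι Ti g hcov hQ
    obtain ⟨hsurj, hflat⟩ := (Scheme.ofArrows_mem_precoverage_iff (P := @Flat)).1 hcov.2
    haveI : ∀ i, Flat (g i).left := hflat
    haveI : ((Scheme.Modules.pullback (pullback.fst f T.hom)).obj F).IsQuasicoherent :=
      isQuasicoherent_pullback _ _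
    haveI : ((Scheme.Modules.pullback (pullback.fst f T.hom)).obj G).IsQuasicoherent :=
      isQuasicoherent_pullback _ _
    exact eq_zero_of_flat_cover _ (fun i => bc f (g i)) (bc_jointly_surjective f Ti g hsurj)
      (fun i => (uT_eq_zero_iff f u (g i)).1 (hQ i))

end

end Groth.Agent.Helper14.FlatDesc
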