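import Mathlib
import Groth.Prelude.Def_FlatFun
import Groth.Prelude.Def_AlgSpRep
import Groth.Agent.Lib.Helper14.FlatDescD

/-!
# Limit preserving subfunctors of the final functor; the system `X ×_S T_i` (helper14)
-/

open CategoryTheory AlgebraicGeometry Limits Opposite

universe u

namespace Groth.Agent.Helper14.FlatDesc

section LimitPreserving

theorem isLimitPreserving_genPSp {S : Scheme.{u}} (Q : Over S → Prop)
    (hstab : ∀ ⦃T T₀ : Over S⦄ (_ : T ⟶ T₀), Q T₀ → Q T)
    (hlim : ∀ ⦃I : Type u⦄ [SmallCategory I] [IsCofiltered I] (D : I ⥤ Over S) (c : Cone D),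
      IsLimit ((Over.forget S).mapCone c) → (∀ i, IsAffine (D.obj i).left) →
        IsAffine c.pt.left → Q c.pt → ∃ i, Q (D.obj i)) :
    AlgSp.IsLimitPreserving (FlatFun.genPSp S Q) := by
  intro I _ _ D c hc hD hT
  refine ⟨Types.FilteredColimit.isColimitOf' _ _ ?_ ?_⟩
  · intro x
    obtain ⟨T₀, k, hk⟩ := x.down.down
    have hQ : Q c.pt := hstab k hk
    obtain ⟨i, hi⟩ := hlim D c hc hD hT hQ
    exact ⟨op i, ⟨⟨⟨D.obj i, 𝟙 _, hi⟩⟩⟩,
      (FlatFun.genPSp_subsingleton S Q (op c.pt)).elim _ _⟩
  · intro i x y _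
    exact ⟨i, 𝟙 i, (FlatFun.genPSp_subsingleton S Q (op (D.obj i.unop))).elim _ _⟩

end LimitPreserving

section System

variable {X S : Scheme.{u}} (f : X ⟶ S)

lemma bc_id (T : Over S) : bc f (𝟙 T) = 𝟙 _ := by
  apply pullback.hom_ext
  · rw [bc_fst, Category.id_comp]
  · rw [bc_snd, Category.id_comp]
    exact Category.comp_id _

lemma bc_comp {T T' T'' : Over S} (g : T'' ⟶ T') (g' : T' ⟶ T) :
    bc f (g ≫ g') = bc f g ≫ bc f g' := by
  apply pullback.hom_ext
  · rw [bc_fst, Category.assoc, bc_fst, bc_fst]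
  · rw [bc_snd, Category.assoc, bc_snd, bc_snd_assoc]
    rfl

/-- The functor `T ↦ X ×_S T`. -/
noncomputable def bcFunctor : Over S ⥤ Scheme.{u} where
  obj T := pullback f T.hom
  map g := bc f g
  map_id := bc_id f
  map_comp := bc_comp f

variable {I : Type u} [SmallCategory I] [IsCofiltered I] (D : I ⥤ Over S) (c : Cone D)

/-- `X ×_S -` preserves cofiltered limits (computed in schemes). -/
noncomputable def isLimitBcCone (hc : IsLimit ((Over.forget S).mapCone c)) :
    IsLimit ((bcFunctor f).mapCone c) := by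
  refine IsLimit.ofExistsUnique (fun s => ?_)
  let i₀ : I := (IsCofiltered.nonempty (C := I)).some
  let p : ∀ i, s.pt ⟶ pullback f (D.obj i).hom := fun i => s.π.app i
  let a : s.pt ⟶ X := p i₀ ≫ pullback.fst f (D.obj i₀).hom
  have hw : ∀ {i j : I} (φ : i ⟶ j), p i ≫ bc f (D.map φ) = p j := fun φ => s.w φ
  have ha : ∀ i, p i ≫ pullback.fst f (D.obj i).hom = a := by
    intro i
    have h1 := hw (IsCofiltered.minToLeft i i₀)
    have h2 := hw (IsCofiltered.minToRight i i₀)
    change _ = p i₀ ≫ pullback.fst f (D.obj i₀).hom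
    rw [← h1, ← h2, Category.assoc, Category.assoc, bc_fst, bc_fst]
  let t : Cone (D ⋙ Over.forget S) :=
    { pt := s.pt
      π :=
        { app := fun i => p i ≫ pullback.snd f (D.obj i).hom
          naturality := fun i j φ => by
            change 𝟙 _ ≫ (p j ≫ pullback.snd f (D.obj j).hom) =
              (p i ≫ pullback.snd f (D.obj i).hom) ≫ (D.map φ).left
            rw [Category.id_comp, Category.assoc, ← bc_snd, ← Category.assoc, hw φ] } }
  let q : ∀ i, c.pt ⟶ D.obj i := fun i => c.π.app i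
  let b : s.pt ⟶ c.pt.left := hc.lift t
  have hb : ∀ i, b ≫ (q i).left = p i ≫ pullback.snd f (D.obj i).hom :=
    fun i => hc.fac t i
  have hq : ∀ i, (q i).left ≫ (D.obj i).hom = c.pt.hom := fun i => Over.w (q i)
  have hab : a ≫ f = b ≫ c.pt.hom := by
    rw [← hq i₀, ← Category.assoc, hb i₀, Category.assoc, Category.assoc, pullback.condition]
  refine ⟨pullback.lift a b hab, ?_, ?_⟩
  · intro i
    change pullback.lift a b hab ≫ bc f (q i) = p i
    apply pullback.hom_ext
    · rw [Category.assoc, bc_fst, pullback.lift_fst, ha]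
    · rw [Category.assoc, bc_snd, pullback.lift_snd_assoc, hb]
  · intro m hm
    let m' : s.pt ⟶ pullback f c.pt.hom := m
    have hm' : ∀ i, m' ≫ bc f (q i) = p i := hm
    change m' = _
    apply pullback.hom_ext
    · rw [pullback.lift_fst, ← bc_fst f (q i₀), ← Category.assoc, hm' i₀]
    · rw [pullback.lift_snd]
      apply hc.hom_ext
      intro i
      change (m' ≫ pullback.snd f c.pt.hom) ≫ (q i).left = b ≫ (q i).left
      rw [hb, Category.assoc, ← bc_snd, ← Category.assoc, hm' i]

instance isAffineHom_bc {T T' : Over S} (g : T' ⟶ T) [IsAffineHom g.left] :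
    IsAffineHom (bc f g) :=
  MorphismProperty.of_isPullback (isPullback_bc f g).flip inferInstance

lemma compactSpace_bc [QuasiCompact f] (T : Over S) [CompactSpace T.left] :
    CompactSpace ↥(pullback f T.hom) :=
  QuasiCompact.compactSpace_of_compactSpace (pullback.snd f T.hom)

end System

end Groth.Agent.Helper14.FlatDesc
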