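import Mathlib
import Groth.Agent.S4793
import Groth.Agent.Lib.Helper14.FlatDescF
import Groth.Agent.Lib.Helper14.FlatDescG
import Groth.Agent.Lib.Helper14.LimModH

/-!
# `F_surj`, `F_zero`, `F_iso` are limit preserving (helper14)
-/

open CategoryTheory AlgebraicGeometry Limits Opposite

universe u

namespace Groth.Agent.Helper14.FlatDesc

open Groth.Agent.Helper14.LimMod Groth.Agent.Helper13.QCohLocal Groth.Agent.Helper13.Pullback

variable {X S : Scheme.{u}} (f : X ⟶ S) [QuasiCompact f] {F G : X.Modules}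
  [F.IsQuasicoherent] [G.IsQuasicoherent] (u : F ⟶ G)

section

variable {I : Type u} [SmallCategory I] [IsCofiltered I] (D : I ⥤ Over S) (c : Cone D)
  (hc : IsLimit ((Over.forget S).mapCone c)) (hD : ∀ i, IsAffine (D.obj i).left)

include hD in
lemma isAffineHom_bcFunctor_map (i j : I) (φ : i ⟶ j) :
    IsAffineHom ((D ⋙ bcFunctor f).map φ) := by
  haveI := hD i
  haveI := hD j
  haveI : IsAffineHom (D.map φ).left := inferInstance
  exact isAffineHom_bc f (D.map φ)

include hD in
lemma compactSpace_bcFunctor_obj (i : I) : CompactSpace ((D ⋙ bcFunctor f).obj i) := by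
  haveI := hD i
  exact compactSpace_bc f (D.obj i)

include hc hD in
lemma exists_stage_epi
    [SheafOfModules.IsFiniteType (R := X.ringCatSheaf) G]
    (hQ : Epi (uT f u c.pt)) : ∃ i, Epi (uT f u (D.obj i)) := by
  let i₀ : I := (IsCofiltered.nonempty (C := I)).some
  haveI := isAffineHom_bcFunctor_map f D hD
  haveI := compactSpace_bcFunctor_obj f D hD i₀
  have hc' := isLimitBcCone f D c hc
  let F₀ : ((D ⋙ bcFunctor f).obj i₀).Modules :=
    (Scheme.Modules.pullback (pullback.fst f (D.obj i₀).hom)).obj F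
  let G₀ : ((D ⋙ bcFunctor f).obj i₀).Modules :=
    (Scheme.Modules.pullback (pullback.fst f (D.obj i₀).hom)).obj G
  let u₀ : F₀ ⟶ G₀ := uT f u (D.obj i₀)
  haveI : Coh.IsQCoh F₀ := isQuasicoherent_pullback (pullback.fst f (D.obj i₀).hom) F
  haveI : Coh.IsQCoh G₀ := isQuasicoherent_pullback (pullback.fst f (D.obj i₀).hom) G
  have hft : CohB1.IsFT G₀ :=
    Groth.Agent.Helper13.FittSheaf.isFiniteType_pullback (pullback.fst f (D.obj i₀).hom) G
  have h1 : Epi ((Scheme.Modules.pullback (((bcFunctor f).mapCone c).π.app i₀)).map u₀) :=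
    (epi_uT_iff f u (c.π.app i₀)).1 hQ
  obtain ⟨j, φ, hj⟩ := (Groth.Agent.S4793.result (D ⋙ bcFunctor f) ((bcFunctor f).mapCone c) hc'
    i₀ hft u₀).1 h1
  exact ⟨j, (epi_uT_iff f u (D.map φ)).2 hj⟩

include hc hD in
lemma exists_stage_zero
    [SheafOfModules.IsFiniteType (R := X.ringCatSheaf) F]
    (hQ : uT f u c.pt = 0) : ∃ i, uT f u (D.obj i) = 0 := by
  let i₀ : I := (IsCofiltered.nonempty (C := I)).some
  haveI : ∀ {i j : I} (φ : i ⟶ j), IsAffineHom ((D ⋙ bcFunctor f).map φ) :=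
    fun φ => isAffineHom_bcFunctor_map f D hD _ _ φ
  haveI := compactSpace_bcFunctor_obj f D hD i₀
  have hc' := isLimitBcCone f D c hc
  let F₀ : ((D ⋙ bcFunctor f).obj i₀).Modules :=
    (Scheme.Modules.pullback (pullback.fst f (D.obj i₀).hom)).obj F
  let G₀ : ((D ⋙ bcFunctor f).obj i₀).Modules :=
    (Scheme.Modules.pullback (pullback.fst f (D.obj i₀).hom)).obj G
  let u₀ : F₀ ⟶ G₀ := uT f u (D.obj i₀)
  haveI : F₀.IsQuasicoherent := isQuasicoherent_pullback (pullback.fst f (D.obj i₀).hom) F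
  haveI : G₀.IsQuasicoherent := isQuasicoherent_pullback (pullback.fst f (D.obj i₀).hom) G
  haveI hft : SheafOfModules.IsFiniteType (R := ((D ⋙ bcFunctor f).obj i₀).ringCatSheaf) F₀ :=
    Groth.Agent.Helper13.FittSheaf.isFiniteType_pullback (pullback.fst f (D.obj i₀).hom) F
  have h1 : (Scheme.Modules.pullback (((bcFunctor f).mapCone c).π.app i₀)).map u₀ = 0 :=
    (uT_eq_zero_iff f u (c.π.app i₀)).1 hQ
  obtain ⟨j, φ, hj⟩ := exists_stage_pullback_map_eq (D ⋙ bcFunctor f)
    ((bcFunctor f).mapCone c) hc' i₀ u₀ 0 (by rw [Functor.map_zero]; exact h1)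
  refine ⟨j, (uT_eq_zero_iff f u (D.map φ)).2 ?_⟩
  rw [Functor.map_zero] at hj
  exact hj

include hc hD in
lemma exists_stage_iso
    [SheafOfModules.IsFiniteType (R := X.ringCatSheaf) F]
    [SheafOfModules.IsFinitePresentation (R := X.ringCatSheaf) G]
    (hQ : IsIso (uT f u c.pt)) : ∃ i, IsIso (uT f u (D.obj i)) := by
  let i₀ : I := (IsCofiltered.nonempty (C := I)).some
  haveI : ∀ {i j : I} (φ : i ⟶ j), IsAffineHom ((D ⋙ bcFunctor f).map φ) :=
    fun φ => isAffineHom_bcFunctor_map f D hD _ _ φ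
  haveI := compactSpace_bcFunctor_obj f D hD i₀
  have hc' := isLimitBcCone f D c hc
  let F₀ : ((D ⋙ bcFunctor f).obj i₀).Modules :=
    (Scheme.Modules.pullback (pullback.fst f (D.obj i₀).hom)).obj F
  let G₀ : ((D ⋙ bcFunctor f).obj i₀).Modules :=
    (Scheme.Modules.pullback (pullback.fst f (D.obj i₀).hom)).obj G
  let u₀ : F₀ ⟶ G₀ := uT f u (D.obj i₀)
  haveI : F₀.IsQuasicoherent := isQuasicoherent_pullback (pullback.fst f (D.obj i₀).hom) F
  haveI : G₀.IsQuasicoherent := isQuasicoherent_pullback (pullback.fst f (D.obj i₀).hom) G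
  haveI hft : SheafOfModules.IsFiniteType (R := ((D ⋙ bcFunctor f).obj i₀).ringCatSheaf) F₀ :=
    Groth.Agent.Helper13.FittSheaf.isFiniteType_pullback (pullback.fst f (D.obj i₀).hom) F
  haveI hfp : SheafOfModules.IsFinitePresentation
      (R := ((D ⋙ bcFunctor f).obj i₀).ringCatSheaf) G₀ :=
    Groth.Agent.Helper9.PrinPart4.isFinitePresentation_pullback
      (pullback.fst f (D.obj i₀).hom) G
  have h1 : IsIso ((Scheme.Modules.pullback (((bcFunctor f).mapCone c).π.app i₀)).map u₀) :=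
    (isIso_uT_iff f u (c.π.app i₀)).1 hQ
  obtain ⟨j, φ, hj⟩ := exists_stage_isIso_pullback_map (D ⋙ bcFunctor f)
    ((bcFunctor f).mapCone c) hc' i₀ u₀ h1
  exact ⟨j, (isIso_uT_iff f u (D.map φ)).2 hj⟩

end

theorem isLimitPreserving_epi [SheafOfModules.IsFiniteType (R := X.ringCatSheaf) G] :
    AlgSp.IsLimitPreserving (FlatFun.genPSp S (fun T => Epi (uT f u T))) := by
  apply isLimitPreserving_genPSp
  · intro T T₀ k hk
    rw [epi_uT_iff f u k]
    haveI := hk
    infer_instance
  · intro I _ _ D c hc hD _ hQ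
    exact exists_stage_epi f u D c hc hD hQ

theorem isLimitPreserving_zero [SheafOfModules.IsFiniteType (R := X.ringCatSheaf) F] :
    AlgSp.IsLimitPreserving (FlatFun.genPSp S (fun T => uT f u T = 0)) := by
  apply isLimitPreserving_genPSp
  · intro T T₀ k hk
    rw [uT_eq_zero_iff f u k, hk, Functor.map_zero]
  · intro I _ _ D c hc hD _ hQ
    exact exists_stage_zero f u D c hc hD hQ

theorem isLimitPreserving_iso [SheafOfModules.IsFiniteType (R := X.ringCatSheaf) F]
    [SheafOfModules.IsFinitePresentation (R := X.ringCatSheaf) G] :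
    AlgSp.IsLimitPreserving (FlatFun.genPSp S (fun T => IsIso (uT f u T))) := by
  apply isLimitPreserving_genPSp
  · intro T T₀ k hk
    rw [isIso_uT_iff f u k]
    haveI := hk
    infer_instance
  · intro I _ _ D c hc hD _ hQ
    exact exists_stage_iso f u D c hc hD hQ

end Groth.Agent.Helper14.FlatDesc
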