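import Mathlib
import Groth.Agent.Lib.Helper16.Alg.GenRF1
import Groth.Agent.Lib.Helper16.Alg.GenRF2
import Groth.Agent.Lib.Helper16.Alg.GenRF4

/-!
# Generic freeness over a reduced ring, relative to a non-nilpotent element, with explicit
standard-monomial basis (builds on helper16's Gröbner library `GenRF1–4`).
-/

set_option autoImplicit false
set_option linter.style.haveILetI false
universe u v w
open MvPolynomial TensorProduct Groth.Agent.Helper16.GenRF

noncomputable section

namespace Groth.Agent.Helper14.GFR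

variable {σ : Type v} (m : MonomialOrder σ) {A : Type u} [CommRing A]

/-- relative version of helper16's `exists_good_basis`: the element `s` can be chosen to be a
multiple of a given non-nilpotent element `g₀`. -/
theorem exists_good_basis_rel [Finite σ] [IsReduced A]
    (I : Ideal (MvPolynomial σ A)) (g₀ : A) (hg₀ : ¬ IsNilpotent g₀) :
    ∃ (s : A) (D : Finset (σ →₀ ℕ)) (G : (σ →₀ ℕ) → MvPolynomial σ A), g₀ ∣ s ∧
      ¬ IsNilpotent s ∧
      (∀ d ∈ D, G d ∈ I ∧ m.degree (G d) = d ∧ m.leadingCoeff (G d) ∣ s) ∧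
      ∀ g ∈ I, (∀ c ∈ g.support, ∀ d ∈ D, ¬ d ≤ c) → ∃ N : ℕ, s ^ N • g = 0 := by
  classical
  -- a minimal prime not containing g₀
  have hex : ∃ q ∈ minimalPrimes A, g₀ ∉ q := by
    have h1 : g₀ ∉ sInf (minimalPrimes A) := by
      rw [minimalPrimes, Ideal.sInf_minimalPrimes]
      intro hmem
      apply hg₀
      rwa [← mem_nilradical, nilradical]
    rw [Submodule.mem_sInf] at h1
    push Not at h1
    exact h1
  obtain ⟨p₁, hp₁, hgp₁⟩ := hex
  let 𝒬 : Set (Ideal A) := {q | q ∈ minimalPrimes A ∧ g₀ ∉ q}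
  have hne : ((fun p => leadIdeal m I p) '' 𝒬).Nonempty := ⟨_, ⟨p₁, ⟨hp₁, hgp₁⟩, rfl⟩⟩
  obtain ⟨E₀, ⟨p₀, hp₀, rfl⟩, hmax⟩ := set_has_maximal_iff_noetherian.mpr
    (inferInstance : IsNoetherian (MvPolynomial σ ℚ) (MvPolynomial σ ℚ)) _ hne
  have hp₀prime : p₀.IsPrime := hp₀.1.1.1
  have hfg : (leadIdeal m I p₀).FG := IsNoetherian.noetherian _
  obtain ⟨T, hTsub, hTeq⟩ := (Submodule.fg_span_iff_fg_span_finset_subset _).mp hfg
  obtain ⟨D, hDsub, rfl⟩ := Finset.subset_set_image_iff.mp hTsub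
  have hch : ∀ d, d ∈ D → ∃ g, g ∈ I ∧ m.degree g = d ∧ m.leadingCoeff g ∉ p₀ := by
    intro d hd
    obtain ⟨g, hg, hdeg, hlc⟩ := hDsub hd
    exact ⟨g, hg, hdeg, hlc⟩
  choose! G hGI hGdeg hGlc using hch
  set s₀ := ∏ d ∈ D, m.leadingCoeff (G d) with hs₀
  have hdvd₀ : ∀ d ∈ D, m.leadingCoeff (G d) ∣ s₀ :=
    fun d hd => Finset.dvd_prod_of_mem _ hd
  have hdvd : ∀ d ∈ D, m.leadingCoeff (G d) ∣ g₀ * s₀ :=
    fun d hd => Dvd.dvd.mul_left (hdvd₀ d hd) g₀
  have hs₀p : s₀ ∉ p₀ := by
    intro hmem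
    obtain ⟨d, hd, hdmem⟩ := (Ideal.IsPrime.prod_mem_iff (hp := hp₀prime)).mp hmem
    exact hGlc d hd hdmem
  have hs : g₀ * s₀ ∉ p₀ := by
    intro hmem
    rcases hp₀prime.mem_or_mem hmem with h | h
    · exact hp₀.2 h
    · exact hs₀p h
  have hDq : ∀ q ∈ minimalPrimes A, g₀ * s₀ ∉ q →
      ∀ c ∈ leadSet m I q, ∃ d ∈ D, d ≤ c := by
    intro q hq hsq c hc
    have hq𝒬 : q ∈ 𝒬 := ⟨hq, fun h => hsq (Ideal.mul_mem_right _ _ h)⟩
    have hDq : (D : Set (σ →₀ ℕ)) ⊆ leadSet m I q := by
      intro d hd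
      refine ⟨G d, hGI d hd, hGdeg d hd, fun hmem => hsq ?_⟩
      exact Ideal.mem_of_dvd _ (hdvd d hd) hmem
    have hle : leadIdeal m I p₀ ≤ leadIdeal m I q := by
      show Submodule.span _ _ ≤ _
      rw [hTeq]
      apply Submodule.span_mono
      rw [Finset.coe_image]
      exact Set.image_mono hDq
    have heq : leadIdeal m I q = leadIdeal m I p₀ := by
      by_contra hne'
      exact hmax _ ⟨q, hq𝒬, rfl⟩ (lt_of_le_of_ne hle (Ne.symm hne'))
    have hmem : monomial c (1 : ℚ) ∈ leadIdeal m I q := Ideal.subset_span ⟨c, hc, rfl⟩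
    rw [heq] at hmem
    have hmem' : monomial c (1 : ℚ) ∈
        Ideal.span ((fun c => monomial c (1 : ℚ)) '' (D : Set (σ →₀ ℕ))) := by
      show _ ∈ Submodule.span _ _
      rw [← Finset.coe_image, ← hTeq]
      exact hmem
    rw [mem_ideal_span_monomial_image] at hmem'
    have hcs : c ∈ (monomial c (1 : ℚ)).support := by
      rw [mem_support_iff, coeff_monomial, if_pos rfl]
      exact one_ne_zero
    obtain ⟨d, hd, hdc⟩ := hmem' c hcs
    exact ⟨d, hd, hdc⟩
  refine ⟨g₀ * s₀, D, G, Dvd.intro _ rfl, ?_, ?_, ?_⟩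
  · rintro ⟨k, hk⟩
    apply hs
    apply hp₀prime.mem_of_pow_mem k
    rw [hk]
    exact zero_mem _
  · intro d hd
    exact ⟨hGI d hd, hGdeg d hd, hdvd d hd⟩
  · intro g hg hsupp
    exact key m I _ D hDq g hg hsupp

variable {C : Type w} [CommRing C] [Algebra A C]

/-- Macaulay-type lemma, exporting the standard-monomial basis: the restriction of `π` to the
polynomials supported on standard monomials is bijective. -/
theorem bijective_domRestrict_std {ι : Type*} (π : MvPolynomial σ A →ₐ[A] C)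
    (hπ : Function.Surjective π) (G : ι → MvPolynomial σ A) (hGker : ∀ i, π (G i) = 0)
    (hGu : ∀ i, IsUnit (m.leadingCoeff (G i)))
    (hstar : ∀ r : MvPolynomial σ A, π r = 0 →
      (∀ c ∈ r.support, ∀ i, ¬ m.degree (G i) ≤ c) → r = 0) :
    Function.Bijective (π.toLinearMap.domRestrict
      (restrictSupport A {c | ∀ i, ¬ m.degree (G i) ≤ c})) := by
  have hlin : ∀ g : ι →₀ MvPolynomial σ A, π (Finsupp.linearCombination _ G g) = 0 := by
    intro g
    rw [Finsupp.linearCombination_apply, Finsupp.sum, map_sum]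
    refine Finset.sum_eq_zero fun i _ => ?_
    rw [smul_eq_mul, map_mul, hGker, mul_zero]
  constructor
  · rw [injective_iff_map_eq_zero]
    rintro ⟨x, hx⟩ h0
    have hx' : (x.support : Set (σ →₀ ℕ)) ⊆ {c | ∀ i, ¬ m.degree (G i) ≤ c} :=
      (mem_restrictSupport_iff A).mp hx
    have : x = 0 := hstar x h0 (fun c hc i => hx' hc i)
    exact Subtype.ext this
  · intro y
    obtain ⟨f, rfl⟩ := hπ y
    obtain ⟨g, r, hfr, -, hr⟩ := m.div hGu f
    have hrN : r ∈ restrictSupport A {c | ∀ i, ¬ m.degree (G i) ≤ c} :=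
      (mem_restrictSupport_iff A).mpr (fun c hc i => hr c hc i)
    refine ⟨⟨r, hrN⟩, ?_⟩
    show π r = π f
    rw [hfr, map_add, hlin, zero_add]

section Away

variable {B : Type w} [CommRing B] [Algebra A B]

/-- a polynomial that dies in the localization is killed by a power of `s`. -/
theorem exists_pow_smul_eq_zero_of_map_eq_zero (A' : Type*) [CommRing A'] [Algebra A A'] (s : A)
    [IsLocalization.Away s A'] (z : MvPolynomial σ A) (hz : map (algebraMap A A') z = 0) :
    ∃ n : ℕ, s ^ n • z = 0 := by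
  classical
  have hc : ∀ c, ∃ n : ℕ, s ^ n * coeff c z = 0 := by
    intro c
    have h0 : algebraMap A A' (coeff c z) = 0 := by
      rw [← coeff_map, hz, coeff_zero]
    obtain ⟨⟨_, n, rfl⟩, hn⟩ := (IsLocalization.map_eq_zero_iff (Submonoid.powers s) A' _).mp h0
    exact ⟨n, hn⟩
  choose Nf hNf using hc
  refine ⟨z.support.sup Nf, ?_⟩
  ext c
  rw [coeff_smul, smul_eq_mul, coeff_zero]
  by_cases hcs : c ∈ z.support
  · have hle : Nf c ≤ z.support.sup Nf := Finset.le_sup hcs
    rw [← Nat.sub_add_cancel hle, pow_add, mul_assoc, hNf c, mul_zero]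
  · rw [notMem_support_iff.mp hcs, mul_zero]

include m in
/-- Generic freeness over a reduced ring for a presented algebra, relative to a non-nilpotent
element `g₀`, with explicit Gröbner data. -/
theorem exists_std_away [Finite σ] [IsReduced A] (π : MvPolynomial σ A →ₐ[A] B)
    (hπ : Function.Surjective π) (g₀ : A) (hg₀ : ¬ IsNilpotent g₀) :
    ∃ (s : A) (D : Finset (σ →₀ ℕ)) (G : (σ →₀ ℕ) → MvPolynomial σ A), g₀ ∣ s ∧
      ¬ IsNilpotent s ∧ (∀ d ∈ D, π (G d) = 0) ∧
      RingHom.ker (baseChangeHom (Localization.Away s) π).toRingHom =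
        Ideal.span (Set.range fun d : D => map (algebraMap A (Localization.Away s)) (G d)) ∧
      Function.Bijective ((baseChangeHom (Localization.Away s) π).toLinearMap.domRestrict
        (restrictSupport (Localization.Away s) {c | ∀ d ∈ D, ¬ d ≤ c})) := by
  classical
  obtain ⟨s, D, G, hgs, hs, hG, hkey⟩ := exists_good_basis_rel m (RingHom.ker π.toRingHom) g₀ hg₀
  refine ⟨s, D, G, hgs, hs, fun d hd => (hG d hd).1, ?_⟩
  haveI : Nontrivial (Localization.Away s) := by
    rw [← not_subsingleton_iff_nontrivial,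
      IsLocalization.subsingleton_iff (M := Submonoid.powers s)]
    rintro ⟨k, hk⟩
    exact hs ⟨k, hk⟩
  have hu : IsUnit (algebraMap A (Localization.Away s) s) :=
    IsLocalization.Away.algebraMap_isUnit s
  have hGu : ∀ d : D, IsUnit (algebraMap A (Localization.Away s) (m.leadingCoeff (G d))) :=
    fun d => isUnit_of_dvd_unit (map_dvd _ (hG d d.2).2.2) hu
  have hGd := fun d : D => degree_map_of_ne_zero m (algebraMap A (Localization.Away s)) (G d)
    (hGu d).ne_zero
  have hkey' : ∀ g : MvPolynomial σ A, π g = 0 → (∀ c ∈ g.support, ∀ d ∈ D, ¬ d ≤ c) →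
      ∃ N : ℕ, s ^ N • g = 0 := fun g hg => hkey g hg
  have h1 : ∀ d : D, baseChangeHom (Localization.Away s) π
      (map (algebraMap A (Localization.Away s)) (G d)) = 0 := by
    intro d
    rw [baseChangeHom_map]
    have : π (G d) = 0 := (hG d d.2).1
    rw [this, TensorProduct.tmul_zero]
  have h2 : ∀ d : D, IsUnit (m.leadingCoeff (map (algebraMap A (Localization.Away s)) (G d))) :=
    fun d => by rw [(hGd d).2]; exact hGu d
  have h3 : ∀ r : MvPolynomial σ (Localization.Away s),
      baseChangeHom (Localization.Away s) π r = 0 →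
      (∀ c ∈ r.support, ∀ d : D,
        ¬ m.degree (map (algebraMap A (Localization.Away s)) (G d)) ≤ c) → r = 0 :=
    fun r hr hsupp => hstar_localization (Localization.Away s) s π D hkey' r hr
      (fun c hc d hd hdc => hsupp c hc ⟨d, hd⟩ (by rw [(hGd ⟨d, hd⟩).1, (hG d hd).2.1]; exact hdc))
  have hset : {c : σ →₀ ℕ | ∀ d : D,
      ¬ m.degree (map (algebraMap A (Localization.Away s)) (G d)) ≤ c} =
      {c | ∀ d ∈ D, ¬ d ≤ c} := by
    ext c
    simp only [Set.mem_setOf_eq]
    constructor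
    · intro h d hd hdc
      exact h ⟨d, hd⟩ (by rw [(hGd ⟨d, hd⟩).1, (hG d hd).2.1]; exact hdc)
    · intro h d hdc
      rw [(hGd d).1, (hG d d.2).2.1] at hdc
      exact h d d.2 hdc
  refine ⟨(ker_eq_span_and_free m (baseChangeHom (Localization.Away s) π)
    (baseChangeHom_surjective _ π hπ) _ h1 h2 h3).1, ?_⟩
  have hb := bijective_domRestrict_std m (baseChangeHom (Localization.Away s) π)
    (baseChangeHom_surjective _ π hπ) _ h1 h2 h3
  rw [hset] at hb
  exact hb

/-- saturation: every element of `ker π` is, up to a power of `s`, a combination of the `G d`. -/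
theorem exists_pow_smul_mem_span (π : MvPolynomial σ A →ₐ[A] B) (s : A) (D : Finset (σ →₀ ℕ))
    (G : (σ →₀ ℕ) → MvPolynomial σ A)
    (hker : RingHom.ker (baseChangeHom (Localization.Away s) π).toRingHom =
      Ideal.span (Set.range fun d : D => map (algebraMap A (Localization.Away s)) (G d)))
    (h : MvPolynomial σ A) (hh : π h = 0) :
    ∃ t : ℕ, s ^ t • h ∈ Ideal.span ((fun d => G d) '' (D : Set (σ →₀ ℕ))) := by
  classical
  have h1 : map (algebraMap A (Localization.Away s)) h ∈
      RingHom.ker (baseChangeHom (Localization.Away s) π).toRingHom := by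
    show baseChangeHom (Localization.Away s) π _ = 0
    rw [baseChangeHom_map, hh, TensorProduct.tmul_zero]
  rw [hker, Ideal.mem_span_range_iff_exists_fun] at h1
  obtain ⟨q, hq⟩ := h1
  have hQ : ∀ d : D, ∃ (k : ℕ) (Q : MvPolynomial σ A),
      map (algebraMap A (Localization.Away s)) Q =
        (algebraMap A (Localization.Away s) s) ^ k • q d :=
    fun d => exists_map_eq_smul (Localization.Away s) s (q d)
  choose kf Q hQ' using hQ
  let k := Finset.univ.sup kf
  have hk : ∀ d : D, kf d ≤ k := fun d => Finset.le_sup (Finset.mem_univ d)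
  let z : MvPolynomial σ A := s ^ k • h - ∑ d : D, (s ^ (k - kf d) • Q d) * G d
  have hz : map (algebraMap A (Localization.Away s)) z = 0 := by
    simp only [z]
    rw [map_sub, map_sum, map_smul', ← hq, Finset.smul_sum, ← Finset.sum_sub_distrib]
    refine Finset.sum_eq_zero fun d _ => ?_
    rw [map_mul, map_smul', hQ', smul_smul, map_pow, map_pow, ← pow_add,
      Nat.sub_add_cancel (hk d), smul_mul_assoc, sub_self]
  obtain ⟨n, hn⟩ := exists_pow_smul_eq_zero_of_map_eq_zero (Localization.Away s) s z hz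
  refine ⟨n + k, ?_⟩
  have h2 : s ^ (n + k) • h = ∑ d : D, (s ^ n • (s ^ (k - kf d) • Q d)) * G d := by
    simp only [z] at hn
    rw [smul_sub, sub_eq_zero, Finset.smul_sum] at hn
    rw [pow_add, mul_smul, hn]
    refine Finset.sum_congr rfl fun d _ => ?_
    simp only [smul_mul_assoc]
  rw [h2]
  refine Ideal.sum_mem _ fun d _ => ?_
  exact Ideal.mul_mem_left _ _ (Ideal.subset_span ⟨d.1, d.2, rfl⟩)

end Away

end Groth.Agent.Helper14.GFR
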