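import Mathlib
import Groth.Agent.Lib.Helper14.GFR1

/-!
# Generic freeness over a reduced ring: splitting a standard-monomial basis along a decomposition.
-/

set_option autoImplicit false
set_option linter.style.haveILetI false
universe u v w
open MvPolynomial TensorProduct

noncomputable section

namespace Groth.Agent.Helper14.GFR

section Split

variable {τ : Type v} {A : Type u} [CommRing A]
  {C : Type*} {C₀ : Type*} {C₁ : Type*} [AddCommGroup C] [Module A C] [AddCommGroup C₀] [Module A C₀]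
  [AddCommGroup C₁] [Module A C₁]

theorem monomial_eq_smul_one (c : τ →₀ ℕ) (a : A) :
    (monomial c a : MvPolynomial τ A) = a • monomial c (1 : A) := by
  rw [smul_monomial, smul_eq_mul, mul_one]

theorem monomial_mem_restrictSupport {T : Set (τ →₀ ℕ)} {c : τ →₀ ℕ} (hc : c ∈ T) (a : A) :
    (monomial c a : MvPolynomial τ A) ∈ restrictSupport A T := by
  classical
  rw [mem_restrictSupport_iff]
  intro d hd
  have := support_monomial_subset hd
  rw [Finset.mem_singleton] at this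
  exact this ▸ hc

/-- one half of the splitting lemma. -/
theorem split_bijective_one (Ψ : MvPolynomial τ A →ₗ[A] C) (Std T₀ : Set (τ →₀ ℕ))
    (p₀ : C →ₗ[A] C₀) (p₁ : C →ₗ[A] C₁)
    (hinj : ∀ b, p₀ b = 0 → p₁ b = 0 → b = 0)
    (hsur₀ : ∀ z, ∃ b, p₀ b = z ∧ p₁ b = 0)
    (hT₀ : ∀ c ∈ T₀, p₁ (Ψ (monomial c 1)) = 0)
    (hT₁ : ∀ c, c ∉ T₀ → p₀ (Ψ (monomial c 1)) = 0)
    (hΨ : Function.Bijective (Ψ.domRestrict (restrictSupport A Std))) :
    Function.Bijective ((p₀ ∘ₗ Ψ).domRestrict (restrictSupport A (Std ∩ T₀))) := by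
  classical
  constructor
  · rw [injective_iff_map_eq_zero]
    rintro ⟨x, hx⟩ h0
    have hx' : (x.support : Set (τ →₀ ℕ)) ⊆ Std ∩ T₀ := (mem_restrictSupport_iff A).mp hx
    have h0' : p₀ (Ψ x) = 0 := h0
    have h1 : p₁ (Ψ x) = 0 := by
      rw [as_sum x, map_sum, map_sum]
      refine Finset.sum_eq_zero fun c hc => ?_
      rw [monomial_eq_smul_one, map_smul, map_smul, hT₀ c (hx' hc).2, smul_zero]
    have h2 : Ψ x = 0 := hinj _ h0' h1
    have hxS : x ∈ restrictSupport A Std :=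
      (mem_restrictSupport_iff A).mpr (fun c hc => (hx' hc).1)
    have h3 : (⟨x, hxS⟩ : restrictSupport A Std) = 0 :=
      (injective_iff_map_eq_zero _).mp hΨ.1 ⟨x, hxS⟩ h2
    have h4 : x = 0 := congrArg Subtype.val h3
    exact Subtype.ext h4
  · intro z
    obtain ⟨b, hb0, hb1⟩ := hsur₀ z
    obtain ⟨⟨x, hx⟩, hxb⟩ := hΨ.2 b
    have hxb' : Ψ x = b := hxb
    have hx' : (x.support : Set (τ →₀ ℕ)) ⊆ Std := (mem_restrictSupport_iff A).mp hx
    let x₀ : MvPolynomial τ A := ∑ c ∈ x.support.filter (· ∈ T₀), monomial c (coeff c x)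
    let x₁ : MvPolynomial τ A := ∑ c ∈ x.support.filter (· ∉ T₀), monomial c (coeff c x)
    have hsum : x = x₀ + x₁ := by
      conv_lhs => rw [as_sum x]
      exact (Finset.sum_filter_add_sum_filter_not _ _ _).symm
    have hx₀ : x₀ ∈ restrictSupport A (Std ∩ T₀) := by
      refine Submodule.sum_mem _ fun c hc => ?_
      rw [Finset.mem_filter] at hc
      exact monomial_mem_restrictSupport (T := Std ∩ T₀) ⟨hx' hc.1, hc.2⟩ _
    have hx₁ : p₀ (Ψ x₁) = 0 := by
      simp only [x₁]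
      rw [map_sum, map_sum]
      refine Finset.sum_eq_zero fun c hc => ?_
      rw [Finset.mem_filter] at hc
      rw [monomial_eq_smul_one, map_smul, map_smul, hT₁ c hc.2, smul_zero]
    refine ⟨⟨x₀, hx₀⟩, ?_⟩
    show p₀ (Ψ x₀) = z
    rw [← hb0, ← hxb', hsum, map_add, map_add, hx₁, add_zero]

end Split

section Triv
open TrivSqZeroExt

variable {R S M : Type u} [CommRing R] [CommRing S] [Algebra R S] [AddCommGroup M] [Module S M]
  [Module R M] [IsScalarTower R S M] [Module Sᵐᵒᵖ M] [IsCentralScalar S M]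
variable {n k : ℕ} (πS : MvPolynomial (Fin n) R →ₐ[R] S) (q : (Fin k → S) →ₗ[S] M)

/-- `R[x, y] → S ⊕ S^k`, `x_i ↦ (s_i, 0)`, `y_j ↦ (0, e_j)`. -/
def epsHom : MvPolynomial (Fin n ⊕ Fin k) R →ₐ[R] TrivSqZeroExt S (Fin k → S) :=
  aeval (Sum.elim (fun i => inl (πS (X i))) (fun j => inr (Pi.single j (1 : S))))

/-- `R[x, y] → S ⊕ M`. -/
def piHom : MvPolynomial (Fin n ⊕ Fin k) R →ₐ[R] TrivSqZeroExt S M :=
  ((TrivSqZeroExt.map q).restrictScalars R).comp (epsHom (k := k) πS)

/-- setting `y = 0`. -/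
def zeta : MvPolynomial (Fin n ⊕ Fin k) R →ₐ[R] MvPolynomial (Fin n) R :=
  aeval (Sum.elim X 0)

theorem zeta_rename_inl (h : MvPolynomial (Fin n) R) :
    zeta (k := k) (rename Sum.inl h) = h := by
  have : (zeta (R := R) (n := n) (k := k)).comp (rename Sum.inl) = AlgHom.id R _ := by
    apply MvPolynomial.algHom_ext
    intro i
    simp [zeta]
  exact DFunLike.congr_fun this h

theorem eps_rename_inl (h : MvPolynomial (Fin n) R) :
    epsHom (k := k) πS (rename Sum.inl h) = inl (πS h) := by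
  have : (epsHom (k := k) πS).comp (rename Sum.inl) =
      (inlAlgHom R S (Fin k → S)).comp πS := by
    apply MvPolynomial.algHom_ext
    intro i
    simp [epsHom]
  exact DFunLike.congr_fun this h

theorem eps_X_inr (j : Fin k) :
    epsHom πS (X (Sum.inr j)) = inr (Pi.single j (1 : S)) := by
  simp [epsHom]

theorem fst_eps (h : MvPolynomial (Fin n ⊕ Fin k) R) :
    fst (epsHom πS h) = πS (zeta h) := by
  have : (fstHom R S (Fin k → S)).comp (epsHom (k := k) πS) = πS.comp zeta := by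
    apply MvPolynomial.algHom_ext
    intro i
    rcases i with i | j
    · simp [epsHom, zeta]
    · simp [epsHom, zeta]
  exact DFunLike.congr_fun this h

theorem fst_pi (h : MvPolynomial (Fin n ⊕ Fin k) R) :
    fst (piHom πS q h) = fst (epsHom πS h) := by
  simp [piHom]

theorem snd_pi (h : MvPolynomial (Fin n ⊕ Fin k) R) :
    snd (piHom πS q h) = q (snd (epsHom πS h)) := by
  simp [piHom]

theorem exists_eps_eq_inr (hπS : Function.Surjective πS) (p : Fin k → S) :
    ∃ h, epsHom πS h = inr p := by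
  choose hj hhj using fun j => hπS (p j)
  refine ⟨∑ j, rename Sum.inl (hj j) * X (Sum.inr j), ?_⟩
  rw [map_sum]
  have : ∀ j, epsHom πS (rename Sum.inl (hj j) * X (Sum.inr j)) =
      inr (Pi.single j (p j)) := by
    intro j
    rw [map_mul, eps_rename_inl, eps_X_inr, hhj, inl_mul_inr]
    congr 1
    ext i
    by_cases hij : i = j
    · subst hij; simp
    · simp [Pi.single_eq_of_ne hij]
  simp_rw [this]
  rw [← inr_sum]
  congr 1
  ext i
  simp [Finset.sum_apply, Pi.single_apply]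

theorem pi_surjective (hπS : Function.Surjective πS) (hq : Function.Surjective q) :
    Function.Surjective (piHom πS q) := by
  intro b
  obtain ⟨u, hu⟩ := hπS (fst b)
  obtain ⟨p, hp⟩ := hq (snd b)
  obtain ⟨h, hh⟩ := exists_eps_eq_inr πS hπS p
  refine ⟨rename Sum.inl u + h, ?_⟩
  apply TrivSqZeroExt.ext
  · rw [fst_pi, map_add, fst_add, eps_rename_inl, hh, fst_inl, fst_inr, add_zero, hu]
  · rw [snd_pi, map_add, snd_add, eps_rename_inl, hh, snd_inl, snd_inr, zero_add, hp]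

/-- the submonoid of homogeneous elements of `S ⊕ M`. -/
def homSub : Submonoid (TrivSqZeroExt S M) where
  carrier := {b | snd b = 0 ∨ fst b = 0}
  one_mem' := Or.inl (snd_one (R := S) (M := M))
  mul_mem' := by
    rintro a b (ha | ha) (hb | hb)
    · left
      rw [snd_mul, ha, hb, smul_zero, smul_zero, add_zero]
    · right
      rw [fst_mul, hb, mul_zero]
    · right
      rw [fst_mul, ha, zero_mul]
    · right
      rw [fst_mul, ha, zero_mul]

theorem pi_X_inl (i : Fin n) : piHom (k := k) πS q (X (Sum.inl i)) = inl (πS (X i)) := by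
  simp [piHom, epsHom]

theorem pi_X_inr (j : Fin k) :
    piHom πS q (X (Sum.inr j)) = inr (q (Pi.single j (1 : S))) := by
  simp [piHom, epsHom]

theorem pi_monomial_mem_homSub (c : Fin n ⊕ Fin k →₀ ℕ) :
    piHom πS q (monomial c 1) ∈ homSub (S := S) (M := M) := by
  rw [monomial_eq, C_1, one_mul, Finsupp.prod, map_prod]
  refine Submonoid.prod_mem _ fun i _ => ?_
  rw [map_pow]
  refine Submonoid.pow_mem _ ?_ _
  rcases i with i | j
  · left
    rw [pi_X_inl, snd_inl]
  · right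
    rw [pi_X_inr, fst_inr]

theorem pi_rename_inl_eq_zero (h₀ : MvPolynomial (Fin n) R) (hh₀ : πS h₀ = 0) :
    piHom (k := k) πS q (rename Sum.inl h₀) = 0 := by
  apply TrivSqZeroExt.ext
  · rw [fst_pi, eps_rename_inl, fst_inl, hh₀, fst_zero]
  · rw [snd_pi, eps_rename_inl, snd_inl, map_zero, snd_zero]

theorem piS_zeta_eq_zero (G : MvPolynomial (Fin n ⊕ Fin k) R) (hG : piHom πS q G = 0) :
    πS (zeta G) = 0 := by
  rw [← fst_eps, ← fst_pi πS q, hG, fst_zero]

theorem q_snd_eps_eq_zero (G : MvPolynomial (Fin n ⊕ Fin k) R) (hG : piHom πS q G = 0) :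
    q (snd (epsHom πS G)) = 0 := by
  rw [← snd_pi, hG, snd_zero]

/-- saturation for the algebra `S`. -/
theorem sat_alg (s : R) (D : Finset (Fin n ⊕ Fin k →₀ ℕ))
    (G : (Fin n ⊕ Fin k →₀ ℕ) → MvPolynomial (Fin n ⊕ Fin k) R)
    (hsat : ∀ h, piHom πS q h = 0 →
      ∃ t : ℕ, s ^ t • h ∈ Ideal.span ((fun d => G d) '' (D : Set (Fin n ⊕ Fin k →₀ ℕ))))
    (h₀ : MvPolynomial (Fin n) R) (hh₀ : πS h₀ = 0) :
    ∃ t : ℕ, s ^ t • h₀ ∈
      Ideal.span ((fun d => zeta (G d)) '' (D : Set (Fin n ⊕ Fin k →₀ ℕ))) := by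
  obtain ⟨t, ht⟩ := hsat _ (pi_rename_inl_eq_zero πS q h₀ hh₀)
  refine ⟨t, ?_⟩
  have h1 := Ideal.mem_map_of_mem (zeta (R := R) (n := n) (k := k)) ht
  rw [Ideal.map_span, map_smul, zeta_rename_inl, Set.image_image] at h1
  exact h1

/-- the ideal of polynomials whose image in `S ⊕ S^k` lies in `0 ⊕ J`. -/
def KIdeal (J : Submodule S (Fin k → S)) : Ideal (MvPolynomial (Fin n ⊕ Fin k) R) where
  carrier := {h | fst (epsHom πS h) = 0 ∧ snd (epsHom πS h) ∈ J}
  zero_mem' := ⟨by rw [map_zero, fst_zero], by rw [map_zero, snd_zero]; exact J.zero_mem⟩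
  add_mem' := by
    rintro a b ⟨ha1, ha2⟩ ⟨hb1, hb2⟩
    exact ⟨by rw [map_add, fst_add, ha1, hb1, add_zero],
      by rw [map_add, snd_add]; exact J.add_mem ha2 hb2⟩
  smul_mem' := by
    rintro a h ⟨h1, h2⟩
    refine ⟨by rw [smul_eq_mul, map_mul, fst_mul, h1, mul_zero], ?_⟩
    rw [smul_eq_mul, map_mul, snd_mul, h1, MulOpposite.op_zero, zero_smul, add_zero]
    exact J.smul_mem _ h2

/-- saturation for the module `M`. -/
theorem sat_mod (hπS : Function.Surjective πS) (s : R) (D : Finset (Fin n ⊕ Fin k →₀ ℕ))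
    (G : (Fin n ⊕ Fin k →₀ ℕ) → MvPolynomial (Fin n ⊕ Fin k) R)
    (hG : ∀ d ∈ D, piHom πS q (G d) = 0)
    (hsat : ∀ h, piHom πS q h = 0 →
      ∃ t : ℕ, s ^ t • h ∈ Ideal.span ((fun d => G d) '' (D : Set (Fin n ⊕ Fin k →₀ ℕ))))
    (p : Fin k → S) (hp : q p = 0) :
    ∃ t : ℕ, (algebraMap R S s) ^ t • p ∈
      Submodule.span S ((fun d => snd (epsHom πS (G d))) '' (D : Set (Fin n ⊕ Fin k →₀ ℕ))) := by
  set J := Submodule.span S
    ((fun d => snd (epsHom πS (G d))) '' (D : Set (Fin n ⊕ Fin k →₀ ℕ))) with hJ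
  obtain ⟨h, hh⟩ := exists_eps_eq_inr πS hπS p
  have hpi : piHom πS q h = 0 := by
    apply TrivSqZeroExt.ext
    · rw [fst_pi, hh, fst_inr, fst_zero]
    · rw [snd_pi, hh, snd_inr, hp, snd_zero]
  obtain ⟨t, ht⟩ := hsat h hpi
  refine ⟨t, ?_⟩
  have hle : Ideal.span ((fun d => G d) '' (D : Set (Fin n ⊕ Fin k →₀ ℕ))) ≤ KIdeal πS J := by
    rw [Ideal.span_le]
    rintro _ ⟨d, hd, rfl⟩
    refine ⟨?_, Submodule.subset_span ⟨d, hd, rfl⟩⟩
    rw [← fst_pi πS q, hG d hd, fst_zero]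
  have h1 := (hle ht).2
  rw [map_smul, snd_smul, hh, snd_inr] at h1
  rw [← map_pow, algebraMap_smul]
  exact h1

end Triv

end Groth.Agent.Helper14.GFR
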