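import Mathlib
import Groth.Agent.Lib.Helper14.GFR2

/-!
# Generic freeness over a reduced ring: finite presentation criteria and the base-changed splitting.
-/

set_option autoImplicit false
set_option linter.style.haveILetI false
universe u v w
open MvPolynomial TensorProduct Groth.Agent.Helper16.GenRF

noncomputable section

namespace Groth.Agent.Helper14.GFR

section FP

variable {R : Type u} [CommRing R]

/-- A finite type algebra `S = P/I` such that `I` is, up to powers of `h`, a finitely generated
ideal `J`, becomes finitely presented after inverting `h`. (Pattern of helper2's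
`exists_fp_alg`.) -/
theorem fp_of_saturated {S : Type u} [CommRing S] [Algebra R S] {n : ℕ}
    (π : MvPolynomial (Fin n) R →ₐ[R] S) (hπ : Function.Surjective π)
    (J : Ideal (MvPolynomial (Fin n) R)) (hJfg : J.FG) (hJI : ∀ x ∈ J, π x = 0) (h : R)
    (hsat : ∀ p, π p = 0 → ∃ t : ℕ, h ^ t • p ∈ J)
    (T : Type u) [CommRing T] [Algebra S T] [Algebra R T] [IsScalarTower R S T]
    [IsLocalization.Away (algebraMap R S h) T] : Algebra.FinitePresentation R T := by
  classical
  set P := MvPolynomial (Fin n) R with hP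
  let ρ : (P ⧸ J) →ₐ[R] S := Ideal.Quotient.liftₐ J π (fun x hx => hJI x hx)
  have hρmk : ∀ p : P, ρ (Ideal.Quotient.mk J p) = π p := fun p => rfl
  have hρsurj : Function.Surjective ρ := by
    intro y
    obtain ⟨p, rfl⟩ := hπ y
    exact ⟨Ideal.Quotient.mk J p, rfl⟩
  have htors : ∀ z : P ⧸ J, ρ z = 0 → ∃ k : ℕ, h ^ k • z = 0 := by
    intro z hz
    obtain ⟨p, rfl⟩ := Ideal.Quotient.mk_surjective z
    have hp : π p = 0 := hz
    obtain ⟨t, ht⟩ := hsat p hp
    refine ⟨t, ?_⟩
    have : h ^ t • (Ideal.Quotient.mk J p) = Ideal.Quotient.mk J (h ^ t • p) :=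
      (map_smul (Ideal.Quotient.mkₐ R J) (h ^ t) p).symm
    rw [this]
    exact Ideal.Quotient.eq_zero_iff_mem.mpr ht
  letI : Algebra (P ⧸ J) T := ((algebraMap S T).comp ρ.toRingHom).toAlgebra
  have halg : ∀ z : P ⧸ J, algebraMap (P ⧸ J) T z = algebraMap S T (ρ z) := fun z => rfl
  haveI : IsScalarTower R (P ⧸ J) T := by
    refine IsScalarTower.of_algebraMap_eq (R := R) (S := P ⧸ J) (A := T) fun r => ?_
    rw [halg, ρ.commutes, ← IsScalarTower.algebraMap_apply]
  haveI : IsLocalization.Away (algebraMap R (P ⧸ J) h) T := by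
    refine (isLocalization_iff _ _).mpr ⟨?_, ?_, ?_⟩
    · rintro ⟨_, k, rfl⟩
      rw [halg, map_pow, ρ.commutes]
      exact IsLocalization.map_units T
        (⟨algebraMap R S h ^ k, k, rfl⟩ : Submonoid.powers (algebraMap R S h))
    · intro z
      obtain ⟨⟨x, ⟨_, k, rfl⟩⟩, hx⟩ := IsLocalization.surj (Submonoid.powers (algebraMap R S h)) z
      obtain ⟨x', rfl⟩ := hρsurj x
      refine ⟨(x', ⟨algebraMap R (P ⧸ J) h ^ k, k, rfl⟩), ?_⟩
      simp only at hx ⊢
      rw [halg, halg, map_pow, ρ.commutes]
      exact hx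
    · intro x y hxy
      rw [halg, halg] at hxy
      obtain ⟨⟨_, k, rfl⟩, hc⟩ :=
        IsLocalization.exists_of_eq (M := Submonoid.powers (algebraMap R S h)) hxy
      simp only at hc
      have h1 : ρ (algebraMap R (P ⧸ J) h ^ k * (x - y)) = 0 := by
        rw [map_mul, map_pow, ρ.commutes, map_sub, mul_sub, hc, sub_self]
      obtain ⟨j, hj⟩ := htors _ h1
      refine ⟨⟨algebraMap R (P ⧸ J) h ^ (j + k), j + k, rfl⟩, ?_⟩
      simp only
      rw [← sub_eq_zero, ← mul_sub, pow_add, mul_assoc, ← map_pow, ← Algebra.smul_def]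
      exact hj
  haveI : Algebra.FinitePresentation R (P ⧸ J) :=
    Algebra.FinitePresentation.quotient hJfg
  exact Algebra.FinitePresentation.of_isLocalizationAway (algebraMap R (P ⧸ J) h)

/-- module analogue (pattern of helper2's `exists_fp_mod`). -/
theorem fp_mod_of_saturated {S M : Type u} [CommRing S] [AddCommGroup M] [Module S M] {k : ℕ}
    (q : (Fin k → S) →ₗ[S] M) (hq : Function.Surjective q) (J : Submodule S (Fin k → S))
    (hJfg : J.FG) (hJN : J ≤ LinearMap.ker q) (s : S)
    (hsat : ∀ p, q p = 0 → ∃ j : ℕ, s ^ j • p ∈ J) :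
    Module.FinitePresentation (Localization.Away s)
      (LocalizedModule (Submonoid.powers s) M) := by
  classical
  let ρ : ((Fin k → S) ⧸ J) →ₗ[S] M := J.liftQ q hJN
  have hρmk : ∀ p, ρ (Submodule.Quotient.mk p) = q p := fun p => rfl
  have hρsurj : Function.Surjective ρ := by
    intro y
    obtain ⟨p, rfl⟩ := hq y
    exact ⟨Submodule.Quotient.mk p, rfl⟩
  have htors : ∀ z : (Fin k → S) ⧸ J, ρ z = 0 → ∃ j : ℕ, s ^ j • z = 0 := by
    intro z hz
    obtain ⟨p, rfl⟩ := Submodule.mkQ_surjective J z
    have hp : q p = 0 := hz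
    obtain ⟨j, hj⟩ := hsat p hp
    refine ⟨j, ?_⟩
    rw [← map_smul, Submodule.mkQ_apply, Submodule.Quotient.mk_eq_zero]
    exact hj
  haveI : Module.FinitePresentation S ((Fin k → S) ⧸ J) :=
    Module.finitePresentation_of_surjective J.mkQ (Submodule.mkQ_surjective J)
      (by rw [Submodule.ker_mkQ]; exact hJfg)
  let l : LocalizedModule (Submonoid.powers s) ((Fin k → S) ⧸ J) →ₗ[Localization.Away s]
      LocalizedModule (Submonoid.powers s) M := LocalizedModule.map (Submonoid.powers s) ρ
  have hl : ∀ (y : (Fin k → S) ⧸ J) (c : Submonoid.powers s),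
      l (LocalizedModule.mk y c) = LocalizedModule.mk (ρ y) c :=
    fun y c => LocalizedModule.map_mk (Submonoid.powers s) ρ y c
  have hlsurj : Function.Surjective l := by
    intro z
    induction z using LocalizedModule.induction_on with
    | h m c =>
      obtain ⟨y, rfl⟩ := hρsurj m
      exact ⟨LocalizedModule.mk y c, hl y c⟩
  have hlinj : Function.Injective l := by
    rw [injective_iff_map_eq_zero]
    intro z hz
    induction z using LocalizedModule.induction_on with
    | h y c =>
      rw [hl, ← LocalizedModule.zero_mk c, LocalizedModule.mk_eq] at hz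
      obtain ⟨⟨_, i, rfl⟩, hi⟩ := hz
      rw [smul_zero, smul_zero, Submonoid.smul_def, Submonoid.smul_def, ← mul_smul,
        ← map_smul] at hi
      obtain ⟨j, hj⟩ := htors _ hi
      rw [← LocalizedModule.zero_mk c, LocalizedModule.mk_eq]
      refine ⟨⟨s ^ j * s ^ i, j + i, (pow_add s j i)⟩, ?_⟩
      rw [smul_zero, smul_zero, Submonoid.smul_def, Submonoid.smul_def]
      simp only
      rw [mul_smul, ← mul_smul (s ^ i)]
      exact hj
  refine Module.finitePresentation_of_surjective l hlsurj ?_
  rw [LinearMap.ker_eq_bot.mpr hlinj]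
  exact Submodule.fg_bot

end FP

end Groth.Agent.Helper14.GFR
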