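import Mathlib
import Groth.Agent.Lib.Helper14.GFR3

/-!
# Generic freeness over a reduced ring: main theorem (Stacks 051Z).
-/

set_option autoImplicit false
set_option linter.style.haveILetI false
universe u v w
open MvPolynomial TensorProduct Groth.Agent.Helper16.GenRF

noncomputable section

namespace Groth.Agent.Helper14.GFR

section Main
open TrivSqZeroExt

variable {R S M : Type u} [CommRing R] [CommRing S] [Algebra R S] [AddCommGroup M] [Module S M]
  [Module R M] [IsScalarTower R S M] [Module Sᵐᵒᵖ M] [IsCentralScalar S M]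
variable {n k : ℕ} (πS : MvPolynomial (Fin n) R →ₐ[R] S) (q : (Fin k → S) →ₗ[S] M)

/-- from a standard-monomial basis of `A' ⊗ (S ⊕ M)` to freeness of `A' ⊗ S` and `A' ⊗ M`. -/
theorem free_of_std (A' : Type u) [CommRing A'] [Algebra R A']
    (Std : Set (Fin n ⊕ Fin k →₀ ℕ))
    (hbij : Function.Bijective ((baseChangeHom A' (piHom πS q)).toLinearMap.domRestrict
      (restrictSupport A' Std))) :
    Module.Free A' (A' ⊗[R] S) ∧ Module.Free A' (A' ⊗[R] M) := by
  classical
  let fstL : TrivSqZeroExt S M →ₗ[R] S := (fstHom R S M).toLinearMap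
  let sndL : TrivSqZeroExt S M →ₗ[R] M := (sndHom S M).restrictScalars R
  let inlL : S →ₗ[R] TrivSqZeroExt S M := (inlAlgHom R S M).toLinearMap
  let inrL : M →ₗ[R] TrivSqZeroExt S M := (inrHom S M).restrictScalars R
  have hbase : inlL ∘ₗ fstL + inrL ∘ₗ sndL = LinearMap.id := by
    refine LinearMap.ext fun b => ?_
    exact inl_fst_add_inr_snd_eq b
  have hfi : fstL ∘ₗ inlL = LinearMap.id := LinearMap.ext fun x => fst_inl M x
  have hsi : sndL ∘ₗ inlL = 0 := LinearMap.ext fun x => snd_inl M x
  have hfr : fstL ∘ₗ inrL = 0 := LinearMap.ext fun x => fst_inr S x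
  have hsr : sndL ∘ₗ inrL = LinearMap.id := LinearMap.ext fun x => snd_inr S x
  let p₀ := fstL.baseChange A'
  let p₁ := sndL.baseChange A'
  let ι₀ := inlL.baseChange A'
  let ι₁ := inrL.baseChange A'
  have hid : ι₀ ∘ₗ p₀ + ι₁ ∘ₗ p₁ = LinearMap.id := by
    simp only [p₀, p₁, ι₀, ι₁]
    rw [← LinearMap.baseChange_comp, ← LinearMap.baseChange_comp, ← LinearMap.baseChange_add,
      hbase, LinearMap.baseChange_id]
  have h00 : p₀ ∘ₗ ι₀ = LinearMap.id := by
    simp only [p₀, ι₀]
    rw [← LinearMap.baseChange_comp, hfi, LinearMap.baseChange_id]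
  have h10 : p₁ ∘ₗ ι₀ = 0 := by
    simp only [p₁, ι₀]
    rw [← LinearMap.baseChange_comp, hsi, LinearMap.baseChange_zero]
  have h01 : p₀ ∘ₗ ι₁ = 0 := by
    simp only [p₀, ι₁]
    rw [← LinearMap.baseChange_comp, hfr, LinearMap.baseChange_zero]
  have h11 : p₁ ∘ₗ ι₁ = LinearMap.id := by
    simp only [p₁, ι₁]
    rw [← LinearMap.baseChange_comp, hsr, LinearMap.baseChange_id]
  have hinj : ∀ b, p₀ b = 0 → p₁ b = 0 → b = 0 := by
    intro b h0 h1
    have := LinearMap.congr_fun hid b
    simp only [LinearMap.add_apply, LinearMap.comp_apply, LinearMap.id_apply] at this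
    rw [← this, h0, h1, map_zero, map_zero, add_zero]
  let Ψ : MvPolynomial (Fin n ⊕ Fin k) A' →ₗ[A'] A' ⊗[R] TrivSqZeroExt S M :=
    (baseChangeHom A' (piHom πS q)).toLinearMap
  have hΨmon : ∀ c, Ψ (monomial c 1) = (1 : A') ⊗ₜ[R] piHom πS q (monomial c 1) := by
    intro c
    have := baseChangeHom_map A' (piHom πS q) (monomial c 1)
    rw [map_monomial, map_one] at this
    exact this
  let T₀ : Set (Fin n ⊕ Fin k →₀ ℕ) := {c | snd (piHom πS q (monomial c 1)) = 0}
  have hT₀ : ∀ c ∈ T₀, p₁ (Ψ (monomial c 1)) = 0 := by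
    intro c hc
    rw [hΨmon]
    simp only [p₁]
    rw [LinearMap.baseChange_tmul]
    have : sndL (piHom πS q (monomial c 1)) = 0 := hc
    rw [this, tmul_zero]
  have hT₁ : ∀ c, c ∉ T₀ → p₀ (Ψ (monomial c 1)) = 0 := by
    intro c hc
    rw [hΨmon]
    simp only [p₀]
    rw [LinearMap.baseChange_tmul]
    have h1 : fst (piHom πS q (monomial c 1)) = 0 :=
      (pi_monomial_mem_homSub πS q c).resolve_left hc
    have : fstL (piHom πS q (monomial c 1)) = 0 := h1
    rw [this, tmul_zero]
  have hb0 := split_bijective_one Ψ Std T₀ p₀ p₁ hinj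
    (fun z => ⟨ι₀ z, LinearMap.congr_fun h00 z, LinearMap.congr_fun h10 z⟩) hT₀ hT₁ hbij
  have hb1 := split_bijective_one Ψ Std T₀ᶜ p₁ p₀ (fun b h1 h0 => hinj b h0 h1)
    (fun z => ⟨ι₁ z, LinearMap.congr_fun h11 z, LinearMap.congr_fun h01 z⟩)
    (fun c hc => hT₁ c hc) (fun c hc => hT₀ c (not_not.mp hc)) hbij
  constructor
  · haveI : Module.Free A' (restrictSupport A' (Std ∩ T₀)) :=
      Module.Free.of_basis (basisRestrictSupport A' _)
    exact Module.Free.of_equiv (LinearEquiv.ofBijective _ hb0)
  · haveI : Module.Free A' (restrictSupport A' (Std ∩ T₀ᶜ)) :=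
      Module.Free.of_basis (basisRestrictSupport A' _)
    exact Module.Free.of_equiv (LinearEquiv.ofBijective _ hb1)

end Main

section Good

/-- Generic freeness over a reduced ring, relative to a non-nilpotent element `g₀`
(the key step of Stacks 051Z). -/
theorem exists_good (R S M : Type u) [CommRing R] [IsReduced R] [CommRing S] [Algebra R S]
    [Algebra.FiniteType R S] [AddCommGroup M] [Module S M] [Module R M] [IsScalarTower R S M]
    [Module.Finite S M] (g₀ : R) (hg₀ : ¬ IsNilpotent g₀) :
    ∃ s : R, g₀ ∣ s ∧ ¬ IsNilpotent s ∧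
      Module.Free (Localization.Away s) (LocalizedModule (Submonoid.powers s) M) ∧
      Module.Free (Localization.Away s) (LocalizedModule (Submonoid.powers s) S) ∧
      (Localization.awayMap (algebraMap R S) s).FinitePresentation ∧
      Module.FinitePresentation (Localization.Away (algebraMap R S s))
        (LocalizedModule (Submonoid.powers (algebraMap R S s)) M) := by
  classical
  letI : Module Sᵐᵒᵖ M := Module.compHom _ ((RingHom.id S).fromOpposite mul_comm)
  haveI : IsCentralScalar S M := ⟨fun _ _ => rfl⟩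
  obtain ⟨n, πS, hπS⟩ := Algebra.FiniteType.iff_quotient_mvPolynomial''.mp
    (inferInstance : Algebra.FiniteType R S)
  obtain ⟨k, q, hq⟩ := Module.Finite.exists_fin' S M
  let lo : LinearOrder (Fin n ⊕ Fin k) :=
    LinearOrder.lift' finSumFinEquiv finSumFinEquiv.injective
  have hwf : @WellFoundedGT (Fin n ⊕ Fin k) lo.toLT :=
    @Finite.to_wellFoundedGT (Fin n ⊕ Fin k) inferInstance lo.toPartialOrder.toPreorder
  obtain ⟨s, D, G, hgs, hs, hG, hker, hbij⟩ :=
    exists_std_away (@MonomialOrder.lex (Fin n ⊕ Fin k) lo hwf) (piHom πS q)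
      (pi_surjective πS q hπS hq) g₀ hg₀
  have hsat := exists_pow_smul_mem_span (piHom πS q) s D G hker
  obtain ⟨hfS, hfM⟩ := free_of_std πS q (Localization.Away s) _ hbij
  refine ⟨s, hgs, hs, ?_, ?_, ?_, ?_⟩
  · exact Module.Free.of_equiv (IsLocalizedModule.isBaseChange (Submonoid.powers s)
      (Localization.Away s) (LocalizedModule.mkLinearMap (Submonoid.powers s) M)).equiv
  · exact Module.Free.of_equiv (IsLocalizedModule.isBaseChange (Submonoid.powers s)
      (Localization.Away s) (LocalizedModule.mkLinearMap (Submonoid.powers s) S)).equiv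
  · have hfp : Algebra.FinitePresentation R (Localization.Away (algebraMap R S s)) :=
      fp_of_saturated πS hπS
        (Ideal.span ((fun d => zeta (G d)) '' (D : Set (Fin n ⊕ Fin k →₀ ℕ))))
        ⟨D.image (fun d => zeta (G d)), by rw [Finset.coe_image]⟩
        (by
          intro x hx
          have hle : Ideal.span ((fun d => zeta (G d)) '' (D : Set (Fin n ⊕ Fin k →₀ ℕ))) ≤
              RingHom.ker πS.toRingHom := by
            rw [Ideal.span_le]
            rintro _ ⟨d, hd, rfl⟩
            exact piS_zeta_eq_zero πS q (G d) (hG d hd)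
          exact hle hx)
        s (sat_alg πS q s D G hsat) _
    letI := (Localization.awayMap (algebraMap R S) s).toAlgebra
    haveI : IsScalarTower R (Localization.Away s) (Localization.Away (algebraMap R S s)) := by
      refine IsScalarTower.of_algebraMap_eq fun r => ?_
      show algebraMap R (Localization.Away (algebraMap R S s)) r =
        Localization.awayMap (algebraMap R S) s (algebraMap R (Localization.Away s) r)
      exact (IsScalarTower.algebraMap_apply R S _ r).trans (IsLocalization.map_eq _ r).symm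
    exact Algebra.FinitePresentation.of_restrict_scalars_finitePresentation R
      (Localization.Away s) _
  · refine fp_mod_of_saturated q hq
      (Submodule.span S ((fun d => TrivSqZeroExt.snd (epsHom πS (G d))) ''
        (D : Set (Fin n ⊕ Fin k →₀ ℕ))))
      ⟨D.image (fun d => TrivSqZeroExt.snd (epsHom πS (G d))), by rw [Finset.coe_image]⟩ ?_
      (algebraMap R S s) (sat_mod πS q hπS s D G hG hsat)
    rw [Submodule.span_le]
    rintro _ ⟨d, hd, rfl⟩
    exact q_snd_eps_eq_zero πS q (G d) (hG d hd)

end Good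

end Groth.Agent.Helper14.GFR
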