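import Mathlib
import Groth.Agent.Lib.Helper14.AmpleLimB
import Groth.Agent.Lib.Helper13.AmpleLocal

/-!
# Relative ampleness is local on the base (helper14; on top of helper13's ample library)
-/

set_option autoImplicit false
universe u
open CategoryTheory CategoryTheory.Limits AlgebraicGeometry TopologicalSpace Opposite

namespace Groth.Agent.Helper14.RelAmpleLim

open Groth.Agent.Helper13

/-- ampleness over the members of an open cover of the base implies ampleness over every affine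
open of the base. -/
theorem isAmple_restrict_preimage_of_cover {X Y : Scheme.{u}} (f : X ⟶ Y) [QuasiCompact f]
    (L : X.Modules) (𝒱 : Set Y.Opens) (hcov : ∀ y : Y, ∃ V ∈ 𝒱, y ∈ V)
    (h : ∀ V ∈ 𝒱, CohB1.IsAmple (L.restrict (f ⁻¹ᵁ V).ι))
    (V : Y.Opens) (hV : IsAffineOpen V) : CohB1.IsAmple (L.restrict (f ⁻¹ᵁ V).ι) := by
  haveI : CompactSpace ((f ⁻¹ᵁ V : X.Opens) : Scheme.{u}) :=
    isCompact_iff_compactSpace.mp (f.isCompact_preimage hV.isCompact)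
  apply Ample.isAmple_of_basicOpen_cover
  intro x
  have hyV : f ((f ⁻¹ᵁ V).ι x) ∈ V := x.2
  obtain ⟨Va, hVa, hyVa⟩ := hcov (f ((f ⁻¹ᵁ V).ι x))
  obtain ⟨g, hgle, hyg⟩ := hV.exists_basicOpen_le ⟨f ((f ⁻¹ᵁ V).ι x), hyVa⟩ hyV
  have e : (⊤ : ((f ⁻¹ᵁ V : X.Opens) : Scheme.{u}).Opens) ≤ ((f ⁻¹ᵁ V).ι ≫ f) ⁻¹ᵁ V := by
    intro z _
    exact z.2
  let φ' : Γ(((f ⁻¹ᵁ V : X.Opens) : Scheme.{u}), ⊤) := (((f ⁻¹ᵁ V).ι ≫ f).appLE V ⊤ e).hom g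
  have hbo : ((f ⁻¹ᵁ V : X.Opens) : Scheme.{u}).basicOpen φ' =
      ((f ⁻¹ᵁ V).ι ≫ f) ⁻¹ᵁ (Y.basicOpen g) := by
    rw [Scheme.basicOpen_appLE, top_inf_eq]
  refine ⟨φ', ?_, ?_⟩
  · rw [hbo]
    exact hyg
  · -- the basic open maps into `f⁻¹ Va`
    have hcpt : IsCompact (((f ⁻¹ᵁ V : X.Opens) : Scheme.{u}).basicOpen φ' :
        Set ((f ⁻¹ᵁ V : X.Opens) : Scheme.{u})) := by
      rw [(f ⁻¹ᵁ V).ι.isOpenEmbedding.isEmbedding.isCompact_iff]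
      have himg : (f ⁻¹ᵁ V).ι '' (((f ⁻¹ᵁ V : X.Opens) : Scheme.{u}).basicOpen φ' :
          Set ((f ⁻¹ᵁ V : X.Opens) : Scheme.{u})) = f ⁻¹' (Y.basicOpen g : Set Y) := by
        rw [hbo]
        ext z
        constructor
        · rintro ⟨w, hw, rfl⟩
          exact hw
        · intro hz
          have hzV : z ∈ f ⁻¹ᵁ V := (Y.basicOpen_le g) hz
          exact ⟨⟨z, hzV⟩, hz, rfl⟩
      rw [himg]
      exact f.isCompact_preimage ((hV.basicOpen g).isCompact)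
    haveI : CompactSpace ((((f ⁻¹ᵁ V : X.Opens) : Scheme.{u}).basicOpen φ' :
        ((f ⁻¹ᵁ V : X.Opens) : Scheme.{u}).Opens) : Scheme.{u}) :=
      isCompact_iff_compactSpace.mp hcpt
    have hr : Set.range ((((f ⁻¹ᵁ V : X.Opens) : Scheme.{u}).basicOpen φ').ι ≫ (f ⁻¹ᵁ V).ι) ⊆
        Set.range (f ⁻¹ᵁ Va).ι := by
      rintro _ ⟨w, rfl⟩
      rw [Scheme.Opens.range_ι]
      have hw : ((((f ⁻¹ᵁ V : X.Opens) : Scheme.{u}).basicOpen φ').ι w) ∈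
          ((f ⁻¹ᵁ V : X.Opens) : Scheme.{u}).basicOpen φ' := w.2
      have hw' : ((((f ⁻¹ᵁ V : X.Opens) : Scheme.{u}).basicOpen φ').ι w) ∈
          ((f ⁻¹ᵁ V).ι ≫ f) ⁻¹ᵁ (Y.basicOpen g) := hbo ▸ hw
      exact (hgle hw' : _)
    have h1 := Ample.isAmple_restrict_of_factor (f ⁻¹ᵁ Va).ι
      ((((f ⁻¹ᵁ V : X.Opens) : Scheme.{u}).basicOpen φ').ι ≫ (f ⁻¹ᵁ V).ι) hr L (h Va hVa)
    exact Ample.isAmple_of_iso (Ample.restrictRestrictIso _ _ _ rfl L).symm h1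

end Groth.Agent.Helper14.RelAmpleLim
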