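import Mathlib
import Groth.Agent.Lib.Helper14.RelAmpleLimB
import Groth.Agent.Lib.Helper13.PullbackLocal
import Groth.Agent.Lib.Helper13.AmpleQA

/-!
# Relative ampleness and base change: restriction lemmas (helper14)
-/

set_option autoImplicit false
universe u
open CategoryTheory CategoryTheory.Limits AlgebraicGeometry TopologicalSpace Opposite

namespace Groth.Agent.Helper14.RelAmpleLim

open Groth.Agent.Helper13 Groth.Agent.Helper14.HomLim Groth.Agent.Helper7.LimBC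

theorem isAmple_restrict_congr {X : Scheme.{u}} (L : X.Modules) {U U' : X.Opens} (h : U = U') :
    CohB1.IsAmple (L.restrict U.ι) ↔ CohB1.IsAmple (L.restrict U'.ι) := by
  subst h; rfl

/-- restriction of a pullback to the preimage of an open is the pullback of the restriction. -/
noncomputable def restrictPullbackIso {X X₀ : Scheme.{u}} (q : X ⟶ X₀) (U₀ : X₀.Opens)
    (L₀ : X₀.Modules) :
    ((Scheme.Modules.pullback q).obj L₀).restrict (q ⁻¹ᵁ U₀).ι ≅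
      (Scheme.Modules.pullback (q ∣_ U₀)).obj (L₀.restrict U₀.ι) :=
  (Pullback.pullbackRestrictIso q (q ⁻¹ᵁ U₀).ι U₀.ι (q ∣_ U₀) (morphismRestrict_ι q U₀).symm).app L₀

/-- the restricted tower of pullback squares. -/
theorem isPullback_restrict {X Y X₀ Y₀ B B' : Scheme.{u}} {f : X ⟶ Y} {g : Y ⟶ B'}
    {f₀ : X₀ ⟶ Y₀} {g₀ : Y₀ ⟶ B} {qX : X ⟶ X₀} {qY : Y ⟶ Y₀} {b : B' ⟶ B}
    (hY : IsPullback qY g g₀ b) (hX : IsPullback qX f f₀ qY) (T : X₀.Opens) :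
    IsPullback (qX ∣_ T) ((qX ⁻¹ᵁ T).ι ≫ f ≫ g) (T.ι ≫ f₀ ≫ g₀) b :=
  (isPullback_morphismRestrict qX T).paste_vert (hX.paste_vert hY)

/-- ampleness of the pullback of the restriction to `f₀⁻¹ V₀` in terms of the restriction of the
pullback. -/
theorem isAmple_pullback_restrict_iff {X Y X₀ Y₀ : Scheme.{u}} {f : X ⟶ Y}
    {f₀ : X₀ ⟶ Y₀} {qX : X ⟶ X₀} {qY : Y ⟶ Y₀} (hw : qX ≫ f₀ = f ≫ qY)
    (L₀ : X₀.Modules) (V₀ : Y₀.Opens) :
    CohB1.IsAmple ((Scheme.Modules.pullback (qX ∣_ (f₀ ⁻¹ᵁ V₀))).obj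
      (L₀.restrict (f₀ ⁻¹ᵁ V₀).ι)) ↔
    CohB1.IsAmple (((Scheme.Modules.pullback qX).obj L₀).restrict (f ⁻¹ᵁ (qY ⁻¹ᵁ V₀)).ι) := by
  have hopen : qX ⁻¹ᵁ (f₀ ⁻¹ᵁ V₀) = f ⁻¹ᵁ (qY ⁻¹ᵁ V₀) := by
    rw [← Scheme.Hom.comp_preimage, ← Scheme.Hom.comp_preimage, hw]
  rw [← isAmple_restrict_congr _ hopen]
  constructor
  · intro h
    exact Ample.isAmple_of_iso (restrictPullbackIso qX (f₀ ⁻¹ᵁ V₀) L₀).symm h
  · intro h
    exact Ample.isAmple_of_iso (restrictPullbackIso qX (f₀ ⁻¹ᵁ V₀) L₀) h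


/-- relative ampleness passes from a stage to any affine base change of the tower. -/
theorem isRelAmple_of_stage {X Y X₀ Y₀ B B₀ Bj Xj Yj : Scheme.{u}} {f : X ⟶ Y} {g : Y ⟶ B}
    {f₀ : X₀ ⟶ Y₀} {g₀ : Y₀ ⟶ B₀} {qX : X ⟶ X₀} {qY : Y ⟶ Y₀} {b : B ⟶ B₀}
    (hY : IsPullback qY g g₀ b) (hX : IsPullback qX f f₀ qY)
    {fj : Xj ⟶ Yj} {gj : Yj ⟶ Bj} {pX : Xj ⟶ X₀} {pY : Yj ⟶ Y₀} {bj : Bj ⟶ B₀}
    (hYj : IsPullback pY gj g₀ bj) (hXj : IsPullback pX fj f₀ pY)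
    (ρ : B ⟶ Bj) [IsAffineHom ρ] (hρ : ρ ≫ bj = b) (L₀ : X₀.Modules)
    (h : RelAmple.IsRelAmple fj ((Scheme.Modules.pullback pX).obj L₀)) :
    RelAmple.IsRelAmple f ((Scheme.Modules.pullback qX).obj L₀) := by
  have hw : qY ≫ g₀ = (g ≫ ρ) ≫ bj := by rw [hY.w, Category.assoc, hρ]
  let r : Y ⟶ Yj := hYj.lift qY (g ≫ ρ) hw
  have hr_pY : r ≫ pY = qY := hYj.lift_fst _ _ _
  have hr_gj : r ≫ gj = g ≫ ρ := hYj.lift_snd _ _ _
  have hr : IsPullback r g gj ρ := by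
    refine IsPullback.of_right ?_ hr_gj hYj
    rw [hr_pY, hρ]
    exact hY
  haveI : IsAffineHom r := MorphismProperty.of_isPullback hr.flip inferInstance
  have hw' : qX ≫ f₀ = (f ≫ r) ≫ pY := by rw [hX.w, Category.assoc, hr_pY]
  let r' : X ⟶ Xj := hXj.lift qX (f ≫ r) hw'
  have hr'_pX : r' ≫ pX = qX := hXj.lift_fst _ _ _
  have hr'_fj : r' ≫ fj = f ≫ r := hXj.lift_snd _ _ _
  have hr' : IsPullback r' f fj r := by
    refine IsPullback.of_right ?_ hr'_fj hXj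
    rw [hr'_pX, hr_pY]
    exact hX
  haveI : QuasiCompact fj := h.1
  haveI : QuasiCompact f := MorphismProperty.of_isPullback hr' h.1
  haveI : IsAffineHom r' := MorphismProperty.of_isPullback hr'.flip inferInstance
  refine ⟨inferInstance, fun V => isAmple_restrict_preimage_of_cover f _
    {U | ∃ W : Yj.Opens, IsAffineOpen W ∧ U = r ⁻¹ᵁ W} ?_ ?_ V.1 V.2⟩
  · intro y
    obtain ⟨_, ⟨W, hW, rfl⟩, hyW, -⟩ :=
      Yj.isBasis_affineOpens.exists_subset_of_mem_open (Set.mem_univ (r y)) isOpen_univ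
    exact ⟨r ⁻¹ᵁ W, ⟨W, hW, rfl⟩, hyW⟩
  · rintro _ ⟨W, hW, rfl⟩
    have h1 := h.2 ⟨W, hW⟩
    haveI : IsAffineHom (r' ∣_ (fj ⁻¹ᵁ W)) :=
      IsZariskiLocalAtTarget.restrict (P := @IsAffineHom) inferInstance _
    have h2 := PbAmple.isAmple_pullback_of_isAffineHom (r' ∣_ (fj ⁻¹ᵁ W)) _ h1
    have h3 := (isAmple_pullback_restrict_iff hr'_fj ((Scheme.Modules.pullback pX).obj L₀) W).mp h2
    exact Ample.isAmple_of_iso ((Scheme.Modules.restrictFunctor _).mapIso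
      ((kap r' pX qX hr'_pX).app L₀)) h3

end Groth.Agent.Helper14.RelAmpleLim
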