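import Mathlib
import Groth.Agent.Lib.Helper14.RelAmpleLimC

/-!
# Relative ampleness over a limit descends to a stage (helper14)
-/

set_option autoImplicit false
universe u
open CategoryTheory CategoryTheory.Limits AlgebraicGeometry TopologicalSpace Opposite

namespace Groth.Agent.Helper14.RelAmpleLim

open Groth.Agent.Helper13 Groth.Agent.Helper14.HomLim Groth.Agent.Helper7.LimBC

variable {I : Type u} [SmallCategory I] [IsCofiltered I] (D : I ⥤ Scheme.{u}) (c : Cone D)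
  (hc : IsLimit c) [∀ {i j : I} (f : i ⟶ j), IsAffineHom (D.map f)]
  (i₀ : I) [CompactSpace (D.obj i₀)]
  {X₀ Y₀ : Scheme.{u}} (f₀ : X₀ ⟶ Y₀) (g₀ : Y₀ ⟶ D.obj i₀)
  [QuasiCompact g₀] [QuasiSeparated g₀] [QuasiCompact (f₀ ≫ g₀)] [QuasiSeparated (f₀ ≫ g₀)]
  (L₀ : X₀.Modules) (hL₀ : PicF.IsInvertible L₀)
  {X Y : Scheme.{u}} (f : X ⟶ Y) (g : Y ⟶ c.pt) (qY : Y ⟶ Y₀) (qX : X ⟶ X₀)
  (hY : IsPullback qY g g₀ (c.π.app i₀)) (hX : IsPullback qX f f₀ qY)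

include hc hL₀ hY hX in
theorem exists_stage_isAmple_over (V₀ : Y₀.Opens) (hV₀ : IsAffineOpen V₀)
    (h : RelAmple.IsRelAmple f ((Scheme.Modules.pullback qX).obj L₀)) :
    ∃ (j : I) (φ : j ⟶ i₀), ∀ (W' : Scheme.{u}) (u' : W' ⟶ ((f₀ ⁻¹ᵁ V₀ : X₀.Opens) : Scheme.{u}))
      (w' : W' ⟶ D.obj j), IsPullback u' w' ((f₀ ⁻¹ᵁ V₀).ι ≫ f₀ ≫ g₀) (D.map φ) →
        CohB1.IsAmple ((Scheme.Modules.pullback u').obj (L₀.restrict (f₀ ⁻¹ᵁ V₀).ι)) := by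
  haveI : QuasiCompact f₀ := QuasiCompact.of_comp f₀ g₀
  haveI : QuasiSeparated f₀ := QuasiSeparated.of_comp f₀ g₀
  haveI : CompactSpace ((f₀ ⁻¹ᵁ V₀ : X₀.Opens) : Scheme.{u}) :=
    isCompact_iff_compactSpace.mp (f₀.isCompact_preimage hV₀.isCompact)
  haveI : QuasiSeparatedSpace ((f₀ ⁻¹ᵁ V₀ : X₀.Opens) : Scheme.{u}) := by
    haveI : IsAffine (V₀ : Scheme.{u}) := hV₀
    exact quasiSeparatedSpace_of_quasiSeparated (f₀ ∣_ V₀)
  haveI : IsAffineHom (c.π.app i₀) := isAffineHom_π_app D c hc i₀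
  haveI : IsAffineHom qY := MorphismProperty.of_isPullback hY.flip inferInstance
  have hamp := h.2 ⟨qY ⁻¹ᵁ V₀, hV₀.preimage qY⟩
  have h1 := (isAmple_pullback_restrict_iff hX.w L₀ V₀).mpr hamp
  exact exists_stage_isAmple_baseChange D c hc i₀ ((f₀ ⁻¹ᵁ V₀).ι ≫ f₀ ≫ g₀)
    (L₀.restrict (f₀ ⁻¹ᵁ V₀).ι) (Inv.isInvertible_restrict _ L₀ hL₀)
    (qX ∣_ (f₀ ⁻¹ᵁ V₀)) ((qX ⁻¹ᵁ (f₀ ⁻¹ᵁ V₀)).ι ≫ f ≫ g) (isPullback_restrict hY hX _) h1


set_option backward.isDefEq.respectTransparency false in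
include hc hL₀ hY hX in
/-- **Relative ampleness descends to a stage.** -/
theorem exists_stage_isRelAmple
    (h : RelAmple.IsRelAmple f ((Scheme.Modules.pullback qX).obj L₀)) :
    ∃ (j : I) (φ : j ⟶ i₀),
      RelAmple.IsRelAmple (pullback.snd f₀ (pullback.fst g₀ (D.map φ)))
        ((Scheme.Modules.pullback (pullback.fst f₀ (pullback.fst g₀ (D.map φ)))).obj L₀) := by
  classical
  haveI : QuasiCompact f₀ := QuasiCompact.of_comp f₀ g₀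
  haveI : CompactSpace Y₀ := QuasiCompact.compactSpace_of_compactSpace g₀
  obtain ⟨S, hSfin, hS⟩ := (isCompact_iff_finite_and_eq_biUnion_affineOpens
    (U := (⊤ : Y₀.Opens))).mp (by rw [Opens.coe_top]; exact CompactSpace.isCompact_univ)
  choose j φ hjφ using fun V : Y₀.affineOpens =>
    exists_stage_isAmple_over D c hc i₀ f₀ g₀ L₀ hL₀ f g qY qX hY hX V.1 V.2 h
  obtain ⟨k, hk⟩ := IsCofiltered.inf_objs_exists
    (hSfin.toFinset.image (fun V => (Over.mk (φ V) : Over i₀)))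
  refine ⟨k.left, k.hom, ?_⟩
  haveI : QuasiCompact (pullback.snd f₀ (pullback.fst g₀ (D.map k.hom))) :=
    MorphismProperty.pullback_snd (P := @QuasiCompact) _ _ inferInstance
  have hYk : IsPullback (pullback.fst g₀ (D.map k.hom)) (pullback.snd g₀ (D.map k.hom)) g₀
      (D.map k.hom) := IsPullback.of_hasPullback _ _
  have hXk : IsPullback (pullback.fst f₀ (pullback.fst g₀ (D.map k.hom)))
      (pullback.snd f₀ (pullback.fst g₀ (D.map k.hom))) f₀ (pullback.fst g₀ (D.map k.hom)) :=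
    IsPullback.of_hasPullback _ _
  refine ⟨inferInstance, fun V => isAmple_restrict_preimage_of_cover _ _
    {U | ∃ V₀ ∈ S, U = pullback.fst g₀ (D.map k.hom) ⁻¹ᵁ V₀.1} ?_ ?_ V.1 V.2⟩
  · intro y
    have hy : pullback.fst g₀ (D.map k.hom) y ∈ (⊤ : Y₀.Opens) := trivial
    rw [hS] at hy
    obtain ⟨V₀, hy⟩ := Opens.mem_iSup.mp hy
    obtain ⟨hV₀S, hyV₀⟩ := Opens.mem_iSup.mp hy
    exact ⟨_, ⟨V₀, hV₀S, rfl⟩, hyV₀⟩
  · rintro _ ⟨V₀, hV₀S, rfl⟩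
    rw [← isAmple_pullback_restrict_iff hXk.w L₀ V₀.1]
    obtain ⟨ψ⟩ := hk (Finset.mem_image_of_mem (fun V => (Over.mk (φ V) : Over i₀))
      (hSfin.mem_toFinset.mpr hV₀S))
    have hcan := hjφ V₀ _ _ _ (IsPullback.of_hasPullback ((f₀ ⁻¹ᵁ V₀.1).ι ≫ f₀ ≫ g₀)
      (D.map (φ V₀)))
    exact isAmple_pullback_of_squares ((f₀ ⁻¹ᵁ V₀.1).ι ≫ f₀ ≫ g₀) _ (D.map (φ V₀)) _ _
      (IsPullback.of_hasPullback _ _) (D.map k.hom) _ _ (isPullback_restrict hYk hXk _)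
      (D.map ψ.left) (by rw [← D.map_comp]; exact congrArg D.map (Over.w ψ)) hcan

end Groth.Agent.Helper14.RelAmpleLim
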