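import Mathlib
import Groth.Agent.Lib.Helper14.RelAmpleLimD
import Groth.Agent.Lib.Helper13.GlobGen2
import Groth.Agent.Lib.Helper13.CounitGen

/-!
# Global generation of pulled back invertible modules on a limit descends to a stage (helper14)
-/

set_option autoImplicit false
universe u
open CategoryTheory CategoryTheory.Limits AlgebraicGeometry TopologicalSpace Opposite

namespace Groth.Agent.Helper14.GGLim

open Groth.Agent.Helper13 Groth.Agent.Helper14.HomLim Groth.Agent.Helper7.LimBC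
  Groth.Agent.Helper13.GlobGen Groth.Agent.Helper13.GenLoc Groth.Agent.Helper13.Inv

section Basic

variable {X : Scheme.{u}}

theorem exists_mem_genLocus_of_gg (N : X.Modules) (hN : PicF.IsInvertible N)
    (h : Curv2.IsGloballyGenerated N) (x : X) :
    ∃ s : Coh.structureModule X ⟶ N, x ∈ CohB1.genLocus N s := by
  rw [isGloballyGenerated_iff] at h
  obtain ⟨t, ht⟩ := exists_isGen_of_ggAt N hN x (h x)
  refine ⟨LocFree.homOfSec N t, ?_⟩
  rw [mem_genLocus_iff_isGen N _ hN, sec_homOfSec]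
  exact ht

theorem gg_of_forall_mem_genLocus (N : X.Modules) (hN : PicF.IsInvertible N)
    (h : ∀ x : X, ∃ s : Coh.structureModule X ⟶ N, x ∈ CohB1.genLocus N s) :
    Curv2.IsGloballyGenerated N := by
  rw [isGloballyGenerated_iff]
  intro x
  obtain ⟨s, hs⟩ := h x
  rw [mem_genLocus_iff_isGen N s hN] at hs
  unfold GGAt
  rw [eq_top_iff]
  intro m _
  obtain ⟨r, rfl⟩ := hs.2 m
  exact Submodule.smul_mem _ r (Submodule.subset_span ⟨sec N s, rfl⟩)

/-- pullback of a globally generated invertible module is globally generated. -/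
theorem gg_pullback {Y : Scheme.{u}} (σ : Y ⟶ X) (N : X.Modules) (hN : PicF.IsInvertible N)
    (h : Curv2.IsGloballyGenerated N) :
    Curv2.IsGloballyGenerated ((Scheme.Modules.pullback σ).obj N) := by
  apply gg_of_forall_mem_genLocus _ (PbInv.isInvertible_pullback σ N hN)
  intro y
  obtain ⟨s, hs⟩ := exists_mem_genLocus_of_gg N hN h (σ y)
  refine ⟨(PbUnit.pullbackUnitIso σ).symm.hom ≫ (Scheme.Modules.pullback σ).map s, ?_⟩
  rw [PbInv.genLocus_pullback σ N hN s (PbUnit.pullbackUnitIso σ).symm]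
  exact hs

end Basic


section Lim

open Groth.Agent.Helper14.LimMod

variable {I : Type u} [SmallCategory I] [IsCofiltered I] (D : I ⥤ Scheme.{u}) (c : Cone D)
  (hc : IsLimit c) [∀ {i j : I} (f : i ⟶ j), IsAffineHom (D.map f)]
  (i₀ : I) [CompactSpace (D.obj i₀)] [QuasiSeparatedSpace (D.obj i₀)]
  (M₀ : (D.obj i₀).Modules) (hM₀ : PicF.IsInvertible M₀)

include hc hM₀ in
/-- the locus of a section of the pullback of an invertible module to the limit is the preimage
of the locus of a section at a stage. -/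
theorem exists_stage_genLocus_inv
    (s : Coh.structureModule c.pt ⟶ (Scheme.Modules.pullback (c.π.app i₀)).obj M₀) :
    ∃ (j : I) (φ : j ⟶ i₀) (t : Coh.structureModule (D.obj j) ⟶
        (Scheme.Modules.pullback (D.map φ)).obj M₀),
      c.π.app j ⁻¹ᵁ CohB1.genLocus _ t = CohB1.genLocus _ s := by
  haveI : M₀.IsQuasicoherent := Inv.isQuasicoherent_of_isInvertible _ hM₀
  haveI : (Coh.structureModule (D.obj i₀)).IsQuasicoherent := QCoh.isQuasicoherent_unit _
  haveI := AmpleLim.isFP_unit (D.obj i₀)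
  obtain ⟨pui₀, -⟩ : ∃ x, x = PbUnit.pullbackUnitIso (c.π.app i₀) := ⟨_, rfl⟩
  obtain ⟨j, φ, hj, heq⟩ := exists_stage_hom D c hc i₀ (Coh.structureModule (D.obj i₀))
    M₀ (pui₀.hom ≫ s)
  obtain ⟨K, hK⟩ : ∃ x, x = kap (c.π.app j) (D.map φ) (c.π.app i₀) (c.w φ) := ⟨_, rfl⟩
  rw [← hK] at heq
  obtain ⟨puiφ, -⟩ : ∃ x, x = PbUnit.pullbackUnitIso (D.map φ) := ⟨_, rfl⟩
  refine ⟨j, φ, puiφ.inv ≫ hj, ?_⟩
  let e : Coh.structureModule c.pt ≅
      (Scheme.Modules.pullback (c.π.app j)).obj (Coh.structureModule (D.obj j)) :=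
    pui₀.symm ≪≫ (K.symm.app _) ≪≫ (Scheme.Modules.pullback (c.π.app j)).mapIso puiφ
  have h1 := PbInv.genLocus_pullback (c.π.app j)
    ((Scheme.Modules.pullback (D.map φ)).obj M₀)
    (PbInv.isInvertible_pullback (D.map φ) _ hM₀) (puiφ.inv ≫ hj) e
  rw [← h1]
  have h2 : e.hom ≫ (Scheme.Modules.pullback (c.π.app j)).map (puiφ.inv ≫ hj) =
      s ≫ (K.app M₀).inv := by
    have heq' : K.inv.app _ ≫ (Scheme.Modules.pullback (c.π.app j)).map hj =
        (pui₀.hom ≫ s) ≫ K.inv.app _ := by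
      rw [← heq]
      simp only [Category.assoc, Iso.hom_inv_id_app]
      erw [Category.comp_id]
    have e_hom : e.hom = pui₀.inv ≫ K.inv.app _ ≫
        (Scheme.Modules.pullback (c.π.app j)).map puiφ.hom := rfl
    rw [e_hom]
    have h3 : (Scheme.Modules.pullback (c.π.app j)).map puiφ.hom ≫
        (Scheme.Modules.pullback (c.π.app j)).map (puiφ.inv ≫ hj) =
        (Scheme.Modules.pullback (c.π.app j)).map hj := by
      rw [← CategoryTheory.Functor.map_comp, Iso.hom_inv_id_assoc]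
    calc (pui₀.inv ≫ K.inv.app _ ≫ (Scheme.Modules.pullback (c.π.app j)).map puiφ.hom) ≫
          (Scheme.Modules.pullback (c.π.app j)).map (puiφ.inv ≫ hj)
        = pui₀.inv ≫ (K.inv.app _ ≫ (Scheme.Modules.pullback (c.π.app j)).map hj) := by
          simp only [Category.assoc, h3]
      _ = pui₀.inv ≫ ((pui₀.hom ≫ s) ≫ K.inv.app _) := by rw [heq']
      _ = s ≫ (K.app M₀).inv := by
          simp only [Category.assoc, Iso.inv_hom_id_assoc]
          rfl
  rw [h2]
  exact GenLoc.genLocus_comp_iso s (K.app M₀).symm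

variable [∀ i, CompactSpace (D.obj i)]

include hc hM₀ in
/-- **Global generation descends to a stage.** -/
theorem exists_stage_isGG
    (h : Curv2.IsGloballyGenerated ((Scheme.Modules.pullback (c.π.app i₀)).obj M₀)) :
    ∃ (i : I) (φ : i ⟶ i₀),
      Curv2.IsGloballyGenerated ((Scheme.Modules.pullback (D.map φ)).obj M₀) := by
  classical
  have hinv := PbInv.isInvertible_pullback (c.π.app i₀) M₀ hM₀
  choose s hs using exists_mem_genLocus_of_gg _ hinv h
  choose j φ t ht using fun x => exists_stage_genLocus_inv D c hc i₀ M₀ hM₀ (s x)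
  haveI : CompactSpace c.pt := Scheme.compactSpace_of_isLimit D c hc
  obtain ⟨T, hT⟩ := isCompact_univ.elim_finite_subcover
    (fun x : c.pt => ((CohB1.genLocus _ (s x) : c.pt.Opens) : Set c.pt))
    (fun x => (CohB1.genLocus _ (s x)).isOpen)
    (fun x _ => Set.mem_iUnion.mpr ⟨x, hs x⟩)
  obtain ⟨l, hl⟩ := IsCofiltered.inf_objs_exists
    (T.image (fun x => (Over.mk (φ x) : Over i₀)))
  have u : ∀ y : T, l ⟶ Over.mk (φ y.1) := fun y =>
    (hl (Finset.mem_image_of_mem (fun x => (Over.mk (φ x) : Over i₀)) y.2)).some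
  let W : (D.obj l.left).Opens := ⨆ y : T, D.map (u y).left ⁻¹ᵁ CohB1.genLocus _ (t y.1)
  have htop : c.π.app l.left ⁻¹ᵁ ⊤ ≤ c.π.app l.left ⁻¹ᵁ W := by
    intro z _
    have hz := hT (Set.mem_univ z)
    simp only [Set.mem_iUnion] at hz
    obtain ⟨x, hxT, hzx⟩ := hz
    change c.π.app l.left z ∈ W
    refine Opens.mem_iSup.mpr ⟨⟨x, hxT⟩, ?_⟩
    change D.map (u ⟨x, hxT⟩).left (c.π.app l.left z) ∈ CohB1.genLocus _ (t x)
    rw [← Scheme.Hom.comp_apply, c.w]
    have : z ∈ c.π.app (j x) ⁻¹ᵁ CohB1.genLocus _ (t x) := by rw [ht]; exact hzx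
    exact this
  obtain ⟨l', v, hv⟩ := exists_map_preimage_le_map_preimage D c hc (i := l.left) (U := ⊤)
    (V := W) (by rw [Opens.coe_top]; exact isCompact_univ) htop
  refine ⟨l', v ≫ l.hom, ?_⟩
  apply gg_of_forall_mem_genLocus _ (PbInv.isInvertible_pullback _ M₀ hM₀)
  intro z
  have hz : z ∈ D.map v ⁻¹ᵁ W := hv (show z ∈ D.map v ⁻¹ᵁ ⊤ from trivial)
  obtain ⟨y, hy⟩ := Opens.mem_iSup.mp (show D.map v z ∈ W from hz)
  -- pull the section `t y` back along `v ≫ (u y).left`
  have hcomp : (v ≫ (u y).left) ≫ φ y.1 = v ≫ l.hom := by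
    rw [Category.assoc]
    congr 1
    exact Over.w (u y)
  have hinvy := PbInv.isInvertible_pullback (D.map (φ y.1)) M₀ hM₀
  refine ⟨((PbUnit.pullbackUnitIso (D.map (v ≫ (u y).left))).symm.hom ≫
    (Scheme.Modules.pullback (D.map (v ≫ (u y).left))).map (t y.1)) ≫
    ((kap (D.map (v ≫ (u y).left)) (D.map (φ y.1)) (D.map (v ≫ l.hom))
      (by rw [← D.map_comp, hcomp])).app M₀).hom, ?_⟩
  rw [GenLoc.genLocus_comp_iso, PbInv.genLocus_pullback _ _ hinvy]
  change D.map (v ≫ (u y).left) z ∈ CohB1.genLocus _ (t y.1)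
  rw [D.map_comp, Scheme.Hom.comp_apply]
  exact hy

end Lim

end Groth.Agent.Helper14.GGLim
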