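import Mathlib
import Groth.Agent.Lib.Helper14.GGLimA

/-!
# Relative global generation over a limit descends to a stage (helper14)
-/

set_option autoImplicit false
universe u
open CategoryTheory CategoryTheory.Limits AlgebraicGeometry TopologicalSpace Opposite

namespace Groth.Agent.Helper14.GGLim

open Groth.Agent.Helper13 Groth.Agent.Helper14.HomLim Groth.Agent.Helper7.LimBC
  Groth.Agent.Helper13.GlobGen Groth.Agent.Helper13.GenLoc Groth.Agent.Helper13.Inv
  Groth.Agent.Helper14.RelAmpleLim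

/-- base change of global generation of a pullback of an invertible module. -/
theorem gg_pullback_of_squares {T B B' B'' W W' : Scheme.{u}} (t : T ⟶ B) (M₀ : T.Modules)
    (hM₀ : PicF.IsInvertible M₀)
    (b : B' ⟶ B) (u : W ⟶ T) (w : W ⟶ B') (hsq : IsPullback u w t b)
    (b' : B'' ⟶ B) (u' : W' ⟶ T) (w' : W' ⟶ B'') (hsq' : IsPullback u' w' t b')
    (ρ : B'' ⟶ B') (hρ : ρ ≫ b = b')
    (h : Curv2.IsGloballyGenerated ((Scheme.Modules.pullback u).obj M₀)) :
    Curv2.IsGloballyGenerated ((Scheme.Modules.pullback u').obj M₀) := by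
  have hw : u' ≫ t = (w' ≫ ρ) ≫ b := by rw [Category.assoc, hρ, hsq'.w]
  let σ : W' ⟶ W := hsq.lift u' (w' ≫ ρ) hw
  have hσu : σ ≫ u = u' := hsq.lift_fst _ _ _
  have h1 := gg_pullback σ _ (PbInv.isInvertible_pullback u M₀ hM₀) h
  exact isGloballyGenerated_of_iso ((kap σ u u' hσu).app M₀) h1

section Gen

variable {I : Type u} [SmallCategory I] [IsCofiltered I] (D : I ⥤ Scheme.{u}) (c : Cone D)
  (hc : IsLimit c) [∀ {i j : I} (f : i ⟶ j), IsAffineHom (D.map f)]
  (i₀ : I) {T : Scheme.{u}} [CompactSpace T] [QuasiSeparatedSpace T] (t : T ⟶ D.obj i₀)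
  (M₀ : T.Modules) (hM₀ : PicF.IsInvertible M₀)

set_option backward.isDefEq.respectTransparency false in
include hc hM₀ in
/-- **Global generation of the base change to the limit descends to a stage.** -/
theorem exists_stage_isGG_baseChange {W : Scheme.{u}} (u : W ⟶ T) (w : W ⟶ c.pt)
    (hsq : IsPullback u w t (c.π.app i₀))
    (h : Curv2.IsGloballyGenerated ((Scheme.Modules.pullback u).obj M₀)) :
    ∃ (j : I) (φ : j ⟶ i₀), ∀ (W' : Scheme.{u}) (u' : W' ⟶ T) (w' : W' ⟶ D.obj j),
      IsPullback u' w' t (D.map φ) →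
        Curv2.IsGloballyGenerated ((Scheme.Modules.pullback u').obj M₀) := by
  have hcE : IsLimit (pbCone D c i₀ t) := isLimitPbCone D c hc i₀ t
  have h0 : Curv2.IsGloballyGenerated
      ((Scheme.Modules.pullback (pullback.snd (c.π.app i₀) t)).obj M₀) :=
    gg_pullback_of_squares t M₀ hM₀ (c.π.app i₀) u w hsq (c.π.app i₀) _ _
      (IsPullback.of_hasPullback (c.π.app i₀) t).flip (𝟙 _) (Category.id_comp _) h
  let base : Over i₀ := Over.mk (𝟙 i₀)
  let M₀' : ((pbDiagram D i₀ t).obj base).Modules :=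
    (Scheme.Modules.pullback (pullback.snd (D.map (𝟙 i₀)) t)).obj M₀
  have hM₀' : PicF.IsInvertible M₀' := PbInv.isInvertible_pullback _ _ hM₀
  have e1 : (pbCone D c i₀ t).π.app base ≫ pullback.snd (D.map (𝟙 i₀)) t =
      pullback.snd (c.π.app i₀) t := by
    simp [base]
  have h' : Curv2.IsGloballyGenerated
      ((Scheme.Modules.pullback ((pbCone D c i₀ t).π.app base)).obj M₀') :=
    isGloballyGenerated_of_iso ((kap _ _ _ e1).app M₀).symm h0
  obtain ⟨l, φ', hl⟩ := exists_stage_isGG (pbDiagram D i₀ t) (pbCone D c i₀ t) hcE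
    base M₀' hM₀' h'
  have e2 : (pbDiagram D i₀ t).map φ' ≫ pullback.snd (D.map (𝟙 i₀)) t =
      pullback.snd (D.map l.hom) t := by
    simp [base]
  have hl' : Curv2.IsGloballyGenerated
      ((Scheme.Modules.pullback (pullback.snd (D.map l.hom) t)).obj M₀) :=
    isGloballyGenerated_of_iso ((kap _ _ _ e2).app M₀) hl
  refine ⟨l.left, l.hom, fun W' u' w' hsq' => ?_⟩
  exact gg_pullback_of_squares t M₀ hM₀ (D.map l.hom) _ _
    (IsPullback.of_hasPullback (D.map l.hom) t).flip (D.map l.hom) u' w' hsq' (𝟙 _)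
    (Category.id_comp _) hl'

end Gen

end Groth.Agent.Helper14.GGLim
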