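import Mathlib
import Groth.Agent.Lib.Helper14.GGLimB

/-!
# Relative global generation over a limit descends to all late stages (helper14)
-/

set_option autoImplicit false
universe u
open CategoryTheory CategoryTheory.Limits AlgebraicGeometry TopologicalSpace Opposite

namespace Groth.Agent.Helper14.GGLim

open Groth.Agent.Helper13 Groth.Agent.Helper14.HomLim Groth.Agent.Helper7.LimBC
  Groth.Agent.Helper13.GlobGen Groth.Agent.Helper13.GenLoc Groth.Agent.Helper13.Inv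
  Groth.Agent.Helper14.RelAmpleLim Groth.Agent.Helper13.CounitGen

theorem gg_restrict_congr {X : Scheme.{u}} (L : X.Modules) {U U' : X.Opens} (h : U = U') :
    Curv2.IsGloballyGenerated (L.restrict U.ι) ↔ Curv2.IsGloballyGenerated (L.restrict U'.ι) := by
  subst h; rfl

theorem gg_pullback_restrict_iff {X Y X₀ Y₀ : Scheme.{u}} {f : X ⟶ Y}
    {f₀ : X₀ ⟶ Y₀} {qX : X ⟶ X₀} {qY : Y ⟶ Y₀} (hw : qX ≫ f₀ = f ≫ qY)
    (L₀ : X₀.Modules) (V₀ : Y₀.Opens) :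
    Curv2.IsGloballyGenerated ((Scheme.Modules.pullback (qX ∣_ (f₀ ⁻¹ᵁ V₀))).obj
      (L₀.restrict (f₀ ⁻¹ᵁ V₀).ι)) ↔
    Curv2.IsGloballyGenerated
      (((Scheme.Modules.pullback qX).obj L₀).restrict (f ⁻¹ᵁ (qY ⁻¹ᵁ V₀)).ι) := by
  have hopen : qX ⁻¹ᵁ (f₀ ⁻¹ᵁ V₀) = f ⁻¹ᵁ (qY ⁻¹ᵁ V₀) := by
    rw [← Scheme.Hom.comp_preimage, ← Scheme.Hom.comp_preimage, hw]
  rw [← gg_restrict_congr _ hopen]
  constructor
  · intro h
    exact isGloballyGenerated_of_iso (restrictPullbackIso qX (f₀ ⁻¹ᵁ V₀) L₀).symm h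
  · intro h
    exact isGloballyGenerated_of_iso (restrictPullbackIso qX (f₀ ⁻¹ᵁ V₀) L₀) h

variable {I : Type u} [SmallCategory I] [IsCofiltered I] (D : I ⥤ Scheme.{u}) (c : Cone D)
  (hc : IsLimit c) [∀ {i j : I} (f : i ⟶ j), IsAffineHom (D.map f)]
  (i₀ : I) [CompactSpace (D.obj i₀)]
  {X₀ Y₀ : Scheme.{u}} (f₀ : X₀ ⟶ Y₀) (g₀ : Y₀ ⟶ D.obj i₀)
  [QuasiCompact g₀] [QuasiSeparated g₀] [QuasiCompact (f₀ ≫ g₀)] [QuasiSeparated (f₀ ≫ g₀)]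
  (L₀ : X₀.Modules) (hL₀ : PicF.IsInvertible L₀)
  {X Y : Scheme.{u}} (f : X ⟶ Y) (g : Y ⟶ c.pt) (qY : Y ⟶ Y₀) (qX : X ⟶ X₀)
  (hY : IsPullback qY g g₀ (c.π.app i₀)) (hX : IsPullback qX f f₀ qY)

include hc hL₀ hY hX in
theorem exists_stage_gg_over (V₀ : Y₀.Opens) (hV₀ : IsAffineOpen V₀)
    (hgen : Epi ((Scheme.Modules.pullbackPushforwardAdjunction f).counit.app
      ((Scheme.Modules.pullback qX).obj L₀))) :
    ∃ (j : I) (φ : j ⟶ i₀), ∀ (W' : Scheme.{u}) (u' : W' ⟶ ((f₀ ⁻¹ᵁ V₀ : X₀.Opens) : Scheme.{u}))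
      (w' : W' ⟶ D.obj j), IsPullback u' w' ((f₀ ⁻¹ᵁ V₀).ι ≫ f₀ ≫ g₀) (D.map φ) →
        Curv2.IsGloballyGenerated
          ((Scheme.Modules.pullback u').obj (L₀.restrict (f₀ ⁻¹ᵁ V₀).ι)) := by
  haveI : QuasiCompact f₀ := QuasiCompact.of_comp f₀ g₀
  haveI : QuasiSeparated f₀ := QuasiSeparated.of_comp f₀ g₀
  haveI : CompactSpace ((f₀ ⁻¹ᵁ V₀ : X₀.Opens) : Scheme.{u}) :=
    isCompact_iff_compactSpace.mp (f₀.isCompact_preimage hV₀.isCompact)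
  haveI : QuasiSeparatedSpace ((f₀ ⁻¹ᵁ V₀ : X₀.Opens) : Scheme.{u}) := by
    haveI : IsAffine (V₀ : Scheme.{u}) := hV₀
    exact quasiSeparatedSpace_of_quasiSeparated (f₀ ∣_ V₀)
  haveI : IsAffineHom (c.π.app i₀) := isAffineHom_π_app D c hc i₀
  haveI : IsAffineHom qY := MorphismProperty.of_isPullback hY.flip inferInstance
  haveI : IsAffineHom qX := MorphismProperty.of_isPullback hX.flip inferInstance
  haveI : IsAffineHom (qX ∣_ (f₀ ⁻¹ᵁ V₀)) :=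
    IsZariskiLocalAtTarget.restrict (P := @IsAffineHom) inferInstance _
  have hC : CompactSpace ((qX ⁻¹ᵁ (f₀ ⁻¹ᵁ V₀) : X.Opens) : Scheme.{u}) :=
    QuasiCompact.compactSpace_of_compactSpace (qX ∣_ (f₀ ⁻¹ᵁ V₀))
  have hQ : QuasiSeparatedSpace ((qX ⁻¹ᵁ (f₀ ⁻¹ᵁ V₀) : X.Opens) : Scheme.{u}) :=
    quasiSeparatedSpace_of_quasiSeparated (qX ∣_ (f₀ ⁻¹ᵁ V₀))
  have hopen : qX ⁻¹ᵁ (f₀ ⁻¹ᵁ V₀) = f ⁻¹ᵁ (qY ⁻¹ᵁ V₀) := by
    rw [← Scheme.Hom.comp_preimage, ← Scheme.Hom.comp_preimage, hX.w]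
  have hcpt' : IsCompact ((qX ⁻¹ᵁ (f₀ ⁻¹ᵁ V₀) : X.Opens) : Set X) :=
    isCompact_iff_compactSpace.mpr hC
  have hqs' : IsQuasiSeparated ((qX ⁻¹ᵁ (f₀ ⁻¹ᵁ V₀) : X.Opens) : Set X) :=
    (isQuasiSeparated_iff_quasiSeparatedSpace _ (qX ⁻¹ᵁ (f₀ ⁻¹ᵁ V₀)).2).mpr hQ
  have hcpt : IsCompact ((f ⁻¹ᵁ (qY ⁻¹ᵁ V₀) : X.Opens) : Set X) := hopen ▸ hcpt'
  have hqs : IsQuasiSeparated ((f ⁻¹ᵁ (qY ⁻¹ᵁ V₀) : X.Opens) : Set X) := hopen ▸ hqs'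
  haveI hqc0 : ((Scheme.Modules.pullback qX).obj L₀).IsQuasicoherent :=
    Inv.isQuasicoherent_of_isInvertible _ (PbInv.isInvertible_pullback qX L₀ hL₀)
  haveI : ((𝟭 X.Modules).obj ((Scheme.Modules.pullback qX).obj L₀)).IsQuasicoherent := hqc0
  have hgg := isGloballyGenerated_restrict_of_epi f _ hgen (qY ⁻¹ᵁ V₀) (hV₀.preimage qY)
    hcpt hqs
  have h1 := (gg_pullback_restrict_iff hX.w L₀ V₀).mpr hgg
  exact exists_stage_isGG_baseChange D c hc i₀ ((f₀ ⁻¹ᵁ V₀).ι ≫ f₀ ≫ g₀)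
    (L₀.restrict (f₀ ⁻¹ᵁ V₀).ι) (Inv.isInvertible_restrict _ L₀ hL₀)
    (qX ∣_ (f₀ ⁻¹ᵁ V₀)) ((qX ⁻¹ᵁ (f₀ ⁻¹ᵁ V₀)).ι ≫ f ≫ g) (isPullback_restrict hY hX _) h1

include hc hL₀ hY hX in
/-- **Relative global generation descends to all late stages.** -/
theorem exists_stage_epi_counit
    (hgen : Epi ((Scheme.Modules.pullbackPushforwardAdjunction f).counit.app
      ((Scheme.Modules.pullback qX).obj L₀))) :
    ∃ (j : I) (φ : j ⟶ i₀), ∀ (k : I) (ψ : k ⟶ j) (Xk Yk : Scheme.{u}) (fk : Xk ⟶ Yk)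
      (gk : Yk ⟶ D.obj k) (pY : Yk ⟶ Y₀) (pX : Xk ⟶ X₀),
      IsPullback pY gk g₀ (D.map (ψ ≫ φ)) → IsPullback pX fk f₀ pY →
        Epi ((Scheme.Modules.pullbackPushforwardAdjunction fk).counit.app
          ((Scheme.Modules.pullback pX).obj L₀)) := by
  classical
  haveI : CompactSpace Y₀ := QuasiCompact.compactSpace_of_compactSpace g₀
  obtain ⟨S, hSfin, hS⟩ := (isCompact_iff_finite_and_eq_biUnion_affineOpens
    (U := (⊤ : Y₀.Opens))).mp (by rw [Opens.coe_top]; exact CompactSpace.isCompact_univ)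
  choose j φ hjφ using fun V : Y₀.affineOpens =>
    exists_stage_gg_over D c hc i₀ f₀ g₀ L₀ hL₀ f g qY qX hY hX V.1 V.2 hgen
  obtain ⟨k₀, hk₀⟩ := IsCofiltered.inf_objs_exists
    (hSfin.toFinset.image (fun V => (Over.mk (φ V) : Over i₀)))
  refine ⟨k₀.left, k₀.hom, fun k ψ Xk Yk fk gk pY pX hYk hXk => ?_⟩
  apply epi_of_isGloballyGenerated_restrict fk
  intro x
  have hy : pY (fk x) ∈ (⊤ : Y₀.Opens) := trivial
  rw [hS] at hy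
  obtain ⟨V₀, hy⟩ := Opens.mem_iSup.mp hy
  obtain ⟨hV₀S, hyV₀⟩ := Opens.mem_iSup.mp hy
  refine ⟨pY ⁻¹ᵁ V₀.1, hyV₀, ?_⟩
  refine (gg_pullback_restrict_iff hXk.w L₀ V₀.1).mp ?_
  obtain ⟨u⟩ := hk₀ (Finset.mem_image_of_mem (fun V => (Over.mk (φ V) : Over i₀))
    (hSfin.mem_toFinset.mpr hV₀S))
  have hcan := hjφ V₀ _ _ _ (IsPullback.of_hasPullback ((f₀ ⁻¹ᵁ V₀.1).ι ≫ f₀ ≫ g₀)
    (D.map (φ V₀)))
  exact gg_pullback_of_squares ((f₀ ⁻¹ᵁ V₀.1).ι ≫ f₀ ≫ g₀) _ (Inv.isInvertible_restrict _ L₀ hL₀)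
    (D.map (φ V₀)) _ _ (IsPullback.of_hasPullback _ _) (D.map (ψ ≫ k₀.hom)) _ _
    (isPullback_restrict hYk hXk _) (D.map (ψ ≫ u.left))
    (by rw [← D.map_comp, Category.assoc]; exact congrArg (fun m => D.map (ψ ≫ m)) (Over.w u))
    hcan

end Groth.Agent.Helper14.GGLim
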