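import Mathlib

/-!
# Galois action on `L ⊗[k] K` (helper14)

For a Galois extension `L/k` (possibly infinite) and any field extension `K/k`, the group
`Gal(L/k)` acts transitively on the primes of `L ⊗[k] K`.
-/

set_option autoImplicit false

namespace Groth.Agent.Helper14.GalTensor

open TensorProduct Function
open scoped Pointwise

universe u v w

variable (k : Type u) [Field k] (L : Type v) [Field L] [Algebra k L]
  (K : Type w) [Field K] [Algebra k K]

theorem smul_def (σ : L ≃ₐ[k] L) (x : L ⊗[k] K) :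
    σ • x = Algebra.TensorProduct.map (σ : L →ₐ[k] L) (AlgHom.id k K) x := by
  induction x using TensorProduct.induction_on with
  | zero => simp
  | tmul a b => rw [TensorProduct.smul_tmul']; rfl
  | add x y hx hy => rw [smul_add, map_add, hx, hy]

noncomputable instance : MulSemiringAction (L ≃ₐ[k] L) (L ⊗[k] K) :=
  { (inferInstance : DistribMulAction (L ≃ₐ[k] L) (L ⊗[k] K)) with
    smul_one := fun σ => by rw [smul_def, map_one]
    smul_mul := fun σ x y => by rw [smul_def, smul_def, smul_def, map_mul] }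

@[simp]
theorem smul_tmul (σ : L ≃ₐ[k] L) (a : L) (b : K) :
    σ • (a ⊗ₜ[k] b) = (σ a) ⊗ₜ[k] b := by
  rw [TensorProduct.smul_tmul']; rfl

attribute [local instance] Algebra.TensorProduct.rightAlgebra

instance : SMulCommClass (L ≃ₐ[k] L) K (L ⊗[k] K) where
  smul_comm σ c x := by
    rw [Algebra.smul_def, Algebra.smul_def, smul_mul']
    congr 1
    show σ • ((1 : L) ⊗ₜ[k] c) = (1 : L) ⊗ₜ[k] c
    rw [smul_tmul, map_one]

/-- Coordinates of `σ • x` with respect to the basis induced from a `k`-basis of `K`. -/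
theorem repr_smul {ι : Type*} (b : Module.Basis ι k K) (σ : L ≃ₐ[k] L) (x : L ⊗[k] K) (i : ι) :
    (Algebra.TensorProduct.basis L b).repr (σ • x) i =
      σ ((Algebra.TensorProduct.basis L b).repr x i) := by
  induction x using TensorProduct.induction_on with
  | zero => simp
  | tmul a c =>
    rw [smul_tmul, Algebra.TensorProduct.basis_repr_tmul, Algebra.TensorProduct.basis_repr_tmul]
    simp
  | add x y hx hy =>
    rw [smul_add, map_add, map_add, Finsupp.add_apply, Finsupp.add_apply, hx, hy, map_add]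

variable [IsGalois k L]

instance : Algebra.IsInvariant K (L ⊗[k] K) (L ≃ₐ[k] L) where
  isInvariant x hx := by
    classical
    let b := Module.Free.chooseBasis k K
    let B := Algebra.TensorProduct.basis L b
    have hfix : ∀ i, ∃ c : k, algebraMap k L c = B.repr x i := by
      intro i
      have : B.repr x i ∈ Set.range (algebraMap k L) := by
        rw [InfiniteGalois.mem_range_algebraMap_iff_fixed]
        intro σ
        have h1 := repr_smul k L K b σ x i
        rw [← h1]
        exact congrArg (fun y => B.repr y i) (hx σ)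
      exact this
    choose c hc using hfix
    refine ⟨∑ i ∈ (B.repr x).support, c i • b i, ?_⟩
    have hx2 : x = ∑ i ∈ (B.repr x).support, (B.repr x i) • B i := by
      conv_lhs => rw [← B.linearCombination_repr x]
      rw [Finsupp.linearCombination_apply, Finsupp.sum]
    conv_rhs => rw [hx2]
    rw [map_sum]
    refine Finset.sum_congr rfl fun i _ => ?_
    rw [← hc i, Algebra.TensorProduct.basis_apply]
    show (1 : L) ⊗ₜ[k] (c i • b i) = algebraMap k L (c i) • ((1 : L) ⊗ₜ[k] b i)
    rw [TensorProduct.tmul_smul, TensorProduct.smul_tmul', TensorProduct.smul_tmul',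
      Algebra.smul_def, mul_one, smul_eq_mul, mul_one]

theorem exists_open_le_stabilizer (x : L ⊗[k] K) :
    ∃ U : Subgroup (L ≃ₐ[k] L), IsOpen (U : Set (L ≃ₐ[k] L)) ∧
      U ≤ MulAction.stabilizer (L ≃ₐ[k] L) x := by
  induction x using TensorProduct.induction_on with
  | zero => exact ⟨⊤, isOpen_univ, fun σ _ => by simp⟩
  | tmul a c =>
    refine ⟨MulAction.stabilizer (L ≃ₐ[k] L) a, stabilizer_isOpen_of_isIntegral a, ?_⟩
    intro σ hσ
    rw [MulAction.mem_stabilizer_iff] at hσ ⊢
    rw [smul_tmul]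
    congr 1
  | add x y hx hy =>
    obtain ⟨U, hU, hUx⟩ := hx
    obtain ⟨V, hV, hVy⟩ := hy
    refine ⟨U ⊓ V, hU.inter hV, ?_⟩
    intro σ hσ
    rw [MulAction.mem_stabilizer_iff, smul_add, (MulAction.mem_stabilizer_iff).mp (hUx hσ.1),
      (MulAction.mem_stabilizer_iff).mp (hVy hσ.2)]

/-- `Gal(L/k)` acts transitively on the primes of `L ⊗[k] K`. -/
theorem exists_smul_eq (P Q : Ideal (L ⊗[k] K)) [P.IsPrime] [Q.IsPrime] :
    ∃ σ : L ≃ₐ[k] L, Q = σ • P := by
  let _ : TopologicalSpace (L ⊗[k] K) := ⊥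
  have : DiscreteTopology (L ⊗[k] K) := ⟨rfl⟩
  have : ContinuousSMul (L ≃ₐ[k] L) (L ⊗[k] K) := by
    rw [continuousSMul_iff_stabilizer_isOpen]
    intro x
    obtain ⟨U, hU, hUx⟩ := exists_open_le_stabilizer k L K x
    exact Subgroup.isOpen_mono hUx hU
  apply Algebra.IsInvariant.exists_smul_of_under_eq_of_profinite (A := K)
  rw [Ideal.eq_bot_of_prime (P.under K), Ideal.eq_bot_of_prime (Q.under K)]

/-- Reformulation with `comap`. -/
theorem exists_comap_eq (P Q : Ideal (L ⊗[k] K)) [P.IsPrime] [Q.IsPrime] :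
    ∃ σ : L ≃ₐ[k] L, Q = P.comap
      (Algebra.TensorProduct.map (σ : L →ₐ[k] L) (AlgHom.id k K)) := by
  obtain ⟨σ, hσ⟩ := exists_smul_eq k L K P Q
  refine ⟨σ⁻¹, ?_⟩
  rw [hσ]
  ext x
  rw [Ideal.mem_comap, Ideal.mem_pointwise_smul_iff_inv_smul_mem, smul_def]

end Groth.Agent.Helper14.GalTensor
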