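import Mathlib
import Groth.Prelude.Def_Cyc
import Groth.Prelude.Def_Flat
import Groth.Agent.Lib.Helper14.FibreDimBC
import Groth.Agent.Lib.Helper14.FibreDimIneq
import Groth.Agent.Lib.Helper14.PointwiseDim
import Groth.Agent.Lib.Helper16.Sch.SmoothLocusBC3

/-!
# Bounding fibre dimensions by generic fibre dimensions (Noetherian local base)
-/

namespace Groth.Agent.Helper14.GenFibBound
universe u
open AlgebraicGeometry CategoryTheory Limits TopologicalSpace

/-- the local ring of the closure of `η` at a proper specialization `z` has dimension `≥ 1`. -/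
theorem one_le_dim_locQuot {X : Scheme.{u}} (z η : X) (h : η ⤳ z) (hne : η ≠ z) :
    1 ≤ ringKrullDim (Cyc.LocQuot z η h) := by
  obtain ⟨U, hU, hzU, -⟩ := exists_isAffineOpen_mem_and_subset (x := z)
    (U := (⊤ : X.Opens)) trivial
  have hηU : η ∈ U := h.mem_open U.isOpen hzU
  rw [LocQuotDim.ringKrullDim_locQuot hU z η hzU hηU h]
  set pz := hU.primeIdealOf ⟨z, hzU⟩ with hpz
  set pη := hU.primeIdealOf ⟨η, hηU⟩ with hpη
  haveI : pη.asIdeal.IsPrime := pη.isPrime
  have hle : pη ≤ pz := by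
    rw [← ResFieldBridge.specializes_fromSpec_iff hU, hU.fromSpec_primeIdealOf ⟨η, hηU⟩,
      hU.fromSpec_primeIdealOf ⟨z, hzU⟩]
    exact h
  have hne' : pz.asIdeal.map (Ideal.Quotient.mk pη.asIdeal) ≠ ⊥ := by
    intro h0
    rw [Ideal.map_eq_bot_iff_le_ker, Ideal.mk_ker] at h0
    have heq : pη = pz := le_antisymm hle h0
    apply hne
    have := congrArg hU.fromSpec heq
    rwa [hU.fromSpec_primeIdealOf ⟨η, hηU⟩, hU.fromSpec_primeIdealOf ⟨z, hzU⟩] at this
  have h1 : (pz.asIdeal.map (Ideal.Quotient.mk pη.asIdeal)).height ≠ 0 := by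
    rw [Ne, Ideal.height_eq_zero_iff_eq_bot]
    exact hne'
  have h2 : 1 ≤ (pz.asIdeal.map (Ideal.Quotient.mk pη.asIdeal)).height :=
    Order.one_le_iff_pos.mpr (pos_iff_ne_zero.mpr h1)
  exact_mod_cast h2

theorem stalk_dim_congr {Y : Scheme.{u}} {a b : Y} (h : a = b) :
    ringKrullDim (Y.presheaf.stalk a) = ringKrullDim (Y.presheaf.stalk b) := by
  subst h; rfl

section noeth

variable {X Y : Scheme.{u}} [IsLocallyNoetherian Y] (f : X ⟶ Y) [LocallyOfFiniteType f]

/-- the core estimate. -/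
theorem core (z η : X) (h : η ⤳ z) (hne : η ≠ z) (n E : ℕ)
    (hn : @Algebra.trdeg (Y.residueField (f z)) (X.residueField z) _ _
      (f.residueFieldMap z).hom.toAlgebra = n)
    (hE : @Algebra.trdeg (Y.residueField (f η)) (X.residueField η) _ _
      (f.residueFieldMap η).hom.toAlgebra = E) :
    (n : WithBot ℕ∞) + 1 ≤ ringKrullDim (Y.presheaf.stalk (f z)) + (E : WithBot ℕ∞) := by
  have h1 := (PointwiseDim.formula_aux f z η h n E hn hE).1
  have h2 := one_le_dim_locQuot z η h hne
  have h3 : ringKrullDim (Cyc.LocQuot (f z) (f η) (h.map f.continuous)) ≤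
      ringKrullDim (Y.presheaf.stalk (f z)) := ringKrullDim_quotient_le _
  calc (n : WithBot ℕ∞) + 1 = 1 + n := add_comm _ _
    _ ≤ ringKrullDim (Cyc.LocQuot z η h) + n := add_le_add_left h2 _
    _ ≤ ringKrullDim (Cyc.LocQuot (f z) (f η) (h.map f.continuous)) + E := h1
    _ ≤ ringKrullDim (Y.presheaf.stalk (f z)) + E := add_le_add_left h3 _

/-- Noetherian-base version of the bound `dim_x X_y + 1 ≤ d + dim O_{Y,y}`. -/
theorem bound (x : X) (d : ℕ)
    (hgen : ∀ η : X, (∀ η' : X, η' ⤳ η → η' = η) → η ⤳ x →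
      f η ≠ f x ∧ FlatMor.fibreDimAt f η = d) :
    FlatMor.fibreDimAt f x + 1 ≤ (d : WithBot ℕ∞) + ringKrullDim (Y.presheaf.stalk (f x)) := by
  haveI : IsLocallyNoetherian X := LocallyOfFiniteType.isLocallyNoetherian f
  obtain ⟨z, n, hzx, hfz, hmax, hn, hdim⟩ := EquidimAt.exists_maximal_trdeg_eq_fibreDimAt f x
  obtain ⟨η, hηmax, hηz, -⟩ := LocQuotLemmas.exists_maximal_locQuot_eq z
  obtain ⟨hfη, hdη⟩ := hgen η hηmax (hηz.trans hzx)
  have hne : η ≠ z := by
    rintro rfl
    exact hfη hfz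
  obtain ⟨E, hE⟩ := ResFieldBridge.exists_nat_trdeg_residueField f η
  have hEd : (E : WithBot ℕ∞) ≤ (d : WithBot ℕ∞) := by
    rw [← hdη]
    exact EquidimAt.trdeg_le_fibreDimAt f η η specializes_rfl E hE
  have h1 := core f z η hηz hne n E hn hE
  rw [stalk_dim_congr hfz] at h1
  rw [hdim]
  calc (n : WithBot ℕ∞) + 1 ≤ ringKrullDim (Y.presheaf.stalk (f x)) + E := h1
    _ ≤ ringKrullDim (Y.presheaf.stalk (f x)) + d := add_le_add_right hEd _
    _ = d + ringKrullDim (Y.presheaf.stalk (f x)) := add_comm _ _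

/-- Noetherian-base version of `dim_x X_y = d` over a base of dimension `≤ 1`. -/
theorem eq_of_dim_le_one (x : X) (hdimY : ringKrullDim (Y.presheaf.stalk (f x)) ≤ 1) (d : ℕ)
    (hgen : ∀ η : X, (∀ η' : X, η' ⤳ η → η' = η) → η ⤳ x → FlatMor.fibreDimAt f η = d) :
    FlatMor.fibreDimAt f x = d := by
  haveI : IsLocallyNoetherian X := LocallyOfFiniteType.isLocallyNoetherian f
  apply le_antisymm
  · obtain ⟨z, n, hzx, hfz, hmax, hn, hdim⟩ := EquidimAt.exists_maximal_trdeg_eq_fibreDimAt f x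
    obtain ⟨η, hηmax, hηz, -⟩ := LocQuotLemmas.exists_maximal_locQuot_eq z
    have hdη := hgen η hηmax (hηz.trans hzx)
    rw [hdim]
    by_cases hne : η = z
    · subst hne
      rw [FibreMax.fibreDimAt_eq_of_maximal f η hmax n hn] at hdη
      rw [hdη]
    · obtain ⟨E, hE⟩ := ResFieldBridge.exists_nat_trdeg_residueField f η
      have hEd : (E : WithBot ℕ∞) ≤ (d : WithBot ℕ∞) := by
        rw [← hdη]
        exact EquidimAt.trdeg_le_fibreDimAt f η η specializes_rfl E hE
      have h1 := core f z η hηz hne n E hn hE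
      rw [stalk_dim_congr hfz] at h1
      have h2 : (n : WithBot ℕ∞) + 1 ≤ 1 + (d : WithBot ℕ∞) :=
        h1.trans (add_le_add hdimY hEd)
      have h3 : n + 1 ≤ 1 + d := by exact_mod_cast h2
      have h4 : n ≤ d := by omega
      exact_mod_cast h4
  · obtain ⟨η, hηmax, hηx, -⟩ := LocQuotLemmas.exists_maximal_locQuot_eq x
    rw [← hgen η hηmax hηx]
    exact SectionComp.fibreDimAt_le_of_specializes f η x hηx

end noeth

section general

variable {X Y : Scheme.{u}} (f : X ⟶ Y) [LocallyOfFiniteType f]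

/-- the dimension of the stalk of `Spec R` at the closed point. -/
theorem ringKrullDim_stalk_closedPoint (R : CommRingCat.{u}) [IsLocalRing R] :
    ringKrullDim ((Spec R).presheaf.stalk (IsLocalRing.closedPoint R)) = ringKrullDim R := by
  rw [AlgebraicGeometry.ringKrullDim_stalk_eq_coheight,
    ← AlgebraicGeometry.idealHeight_eq_coheight R (IsLocalRing.closedPoint R),
    ← IsLocalRing.maximalIdeal_height_eq_ringKrullDim]
  rfl

/-- reduction to the spectrum of the local ring of the base. -/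
theorem reduction (x : X) [IsNoetherianRing (Y.presheaf.stalk (f x))] (P : X → Prop) (d : ℕ)
    (hgen : ∀ Z ∈ irreducibleComponents (X : Type u), x ∈ Z → ∀ η : X, IsGenericPoint η Z →
      P η ∧ FlatMor.fibreDimAt f η = d) :
    ∃ (X' Y' : Scheme.{u}) (f' : X' ⟶ Y') (g' : X' ⟶ X) (x' : X'),
      IsLocallyNoetherian Y' ∧ LocallyOfFiniteType f' ∧ g' x' = x ∧
      FlatMor.fibreDimAt f' x' = FlatMor.fibreDimAt f x ∧
      ringKrullDim (Y'.presheaf.stalk (f' x')) = ringKrullDim (Y.presheaf.stalk (f x)) ∧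
      (∀ η' : X', f' η' = f' x' → f (g' η') = f x) ∧
      ∀ η' : X', (∀ η'' : X', η'' ⤳ η' → η'' = η') → η' ⤳ x' →
        P (g' η') ∧ FlatMor.fibreDimAt f' η' = d := by
  set y := f x with hy
  let g : Spec (Y.presheaf.stalk y) ⟶ Y := Y.fromSpecStalk y
  haveI : Flat g := Groth.Agent.Helper16.SmoothLocusBC.flat_fromSpecStalk Y y
  have hsq : IsPullback (pullback.fst f g) (pullback.snd f g) f g := IsPullback.of_hasPullback f g
  haveI : LocallyOfFiniteType (pullback.snd f g) := MorphismProperty.pullback_snd _ _ inferInstance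
  haveI : Flat (pullback.fst f g) := MorphismProperty.pullback_fst _ _ inferInstance
  have hgenmap : GeneralizingMap (pullback.fst f g) := Flat.generalizingMap _
  have hcl : g (IsLocalRing.closedPoint (Y.presheaf.stalk y)) = y := Scheme.fromSpecStalk_closedPoint
  obtain ⟨x', hx'1, hx'2⟩ := Scheme.Pullback.exists_preimage_pullback (f := f) (g := g) x
    (IsLocalRing.closedPoint (Y.presheaf.stalk y)) (hy.symm.trans hcl.symm)
  have hw : ∀ w' : ↥(pullback f g), f (pullback.fst f g w') = g (pullback.snd f g w') := by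
    intro w'
    rw [← Scheme.Hom.comp_apply, pullback.condition, Scheme.Hom.comp_apply]
  refine ⟨pullback f g, Spec (Y.presheaf.stalk y), pullback.snd f g, pullback.fst f g, x',
    inferInstance, inferInstance, hx'1, ?_, ?_, ?_, ?_⟩
  · rw [FibreDimBC.fibreDimAt_eq hsq x', hx'1]
  · rw [stalk_dim_congr hx'2, ringKrullDim_stalk_closedPoint]
  · intro η' hη'
    rw [hw, hη', ← hw, hx'1]
  · intro η' hη'max hη'x'
    have hηmax : ∀ w : X, w ⤳ pullback.fst f g η' → w = pullback.fst f g η' := by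
      intro w hw'
      obtain ⟨w', hw'1, hw'2⟩ := hgenmap hw'
      rw [← hw'2, hη'max w' hw'1]
    have hηx : pullback.fst f g η' ⤳ x := by
      rw [← hx'1]
      exact hη'x'.map (pullback.fst f g).continuous
    have hZ := FibreClosure.closure_mem_irreducibleComponents_of_maximal _ hηmax
    have hxZ : x ∈ closure ({pullback.fst f g η'} : Set X) := specializes_iff_mem_closure.mp hηx
    obtain ⟨hP, hd⟩ := hgen _ hZ hxZ (pullback.fst f g η') isGenericPoint_closure
    exact ⟨hP, by rw [FibreDimBC.fibreDimAt_eq hsq η', hd]⟩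

end general

end Groth.Agent.Helper14.GenFibBound
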