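import Mathlib
import Groth.Prelude.Def_CohB1
import Groth.Agent.Lib.Helper14.CohFormalT
import Groth.Agent.Lib.Helper13.ExtSheaf
import Groth.Agent.Lib.Helper13.QCohKer
import Groth.Agent.Lib.Helper13.FinTypeEpi
import Groth.Agent.Lib.Helper13.AffSurj
import Groth.Agent.Lib.Helper28.SuppProper

set_option autoImplicit false
set_option linter.style.haveILetI false
set_option linter.unusedSectionVars false
set_option linter.unusedVariables false
universe u
open CategoryTheory CategoryTheory.Limits AlgebraicGeometry Opposite TopologicalSpace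
open Groth.Agent.Helper13.QCoh Groth.Agent.Helper13.FinType Groth.Agent.Helper13.PbInv

namespace Groth.Agent.Helper14.MLSupp

variable {X : Scheme.{u}}

/-- a point is in the support of the image iff the stalk map is nonzero there. -/
lemma mem_support_image_iff {M N : X.Modules} (φ : M ⟶ N) (x : X) :
    x ∈ CohB1.support (image φ) ↔ ∃ t : M.presheaf.stalk x, stalkMap φ x t ≠ 0 := by
  have hfac : factorThruImage φ ≫ image.ι φ = φ := image.fac φ
  have hinj := Groth.Agent.Helper13.Ext.stalkMap_injective_of_mono (image.ι φ) x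
  have hsurj := stalkMap_surjective_of_epi (factorThruImage φ) x
  have hcomp : ∀ t, stalkMap φ x t = stalkMap (image.ι φ) x (stalkMap (factorThruImage φ) x t) := by
    intro t
    rw [← stalkMap_comp, hfac]
  constructor
  · intro hx
    by_contra hcon
    replace hcon : ∀ t : M.presheaf.stalk x, stalkMap φ x t = 0 := by
      intro t
      by_contra h
      exact hcon ⟨t, h⟩
    apply hx
    refine ⟨fun a b => ?_⟩
    obtain ⟨ta, rfl⟩ := hsurj a
    obtain ⟨tb, rfl⟩ := hsurj b
    apply hinj
    rw [← hcomp, ← hcomp, hcon ta, hcon tb]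
  · rintro ⟨t, ht⟩ hx
    apply ht
    rw [hcomp, Subsingleton.elim (stalkMap (factorThruImage φ) x t) 0, map_zero]

lemma support_image_subset_of_range_subset {M M' N : X.Modules} (φ : M ⟶ N) (ψ : M' ⟶ N)
    (h : ∀ U : X.Opens, IsAffineOpen U → Set.range (φ.app U) ⊆ Set.range (ψ.app U)) :
    CohB1.support (image φ) ⊆ CohB1.support (image ψ) := by
  intro x hx
  rw [mem_support_image_iff] at hx ⊢
  obtain ⟨t, ht⟩ := hx
  obtain ⟨W, hxW, s, rfl⟩ := TopCat.Presheaf.exists_germ_eq M.presheaf t
  obtain ⟨_, ⟨V, hV, rfl⟩, hxV, hVW⟩ := X.isBasis_affineOpens.exists_subset_of_mem_open hxW W.2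
  have hV' : IsAffineOpen V := hV
  have hVW' : V ≤ W := hVW
  let s' : Γ(M, V) := M.presheaf.map (homOfLE hVW').op s
  have hs' : M.presheaf.germ V x hxV s' = M.presheaf.germ W x hxW s :=
    TopCat.Presheaf.germ_res_apply _ (homOfLE hVW') x hxV s
  obtain ⟨s'', hs''⟩ := h V hV' ⟨s', rfl⟩
  refine ⟨M'.presheaf.germ V x hxV s'', ?_⟩
  rw [stalkMap_germ, hs'', ← stalkMap_germ, hs']
  exact ht

/-- the image of a morphism of quasi-coherent modules is quasi-coherent. -/
lemma isQuasicoherent_image {M N : X.Modules} [M.IsQuasicoherent] [N.IsQuasicoherent]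
    (φ : M ⟶ N) : (image φ : X.Modules).IsQuasicoherent := by
  haveI : (cokernel φ).IsQuasicoherent :=
    Groth.Agent.Helper13.QCohLocal.isQuasicoherent_cokernel φ
  haveI : (kernel (cokernel.π φ)).IsQuasicoherent :=
    Groth.Agent.Helper13.QCohLocal.isQuasicoherent_kernel (cokernel.π φ)
  exact Groth.Agent.Helper13.QCohLocal.isQuasicoherent_of_iso (Abelian.imageIsoImage φ)

lemma range_subset_of_imageSubobject_le {M M' N : X.Modules} [M.IsQuasicoherent]
    [M'.IsQuasicoherent] [N.IsQuasicoherent] (φ : M ⟶ N) (ψ : M' ⟶ N)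
    (h : imageSubobject φ ≤ imageSubobject ψ) (U : X.Opens) (hU : IsAffineOpen U) :
    Set.range (φ.app U) ⊆ Set.range (ψ.app U) := by
  rintro _ ⟨t, rfl⟩
  let α : image φ ⟶ image ψ := Subobject.ofMkLEMk (image.ι φ) (image.ι ψ) h
  have hα : α ≫ image.ι ψ = image.ι φ := Subobject.ofMkLEMk_comp h
  haveI := isQuasicoherent_image ψ
  obtain ⟨t', ht'⟩ := Groth.Agent.Helper13.AffSurj.surjective_app_of_epi (factorThruImage ψ) hU
    (α.app U ((factorThruImage φ).app U t))
  refine ⟨t', ?_⟩
  have h1 : ψ.app U t' = (image.ι ψ).app U ((factorThruImage ψ).app U t') := by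
    conv_lhs => rw [← image.fac ψ]
    rfl
  have h2 : φ.app U t = (image.ι ψ).app U (α.app U ((factorThruImage φ).app U t)) := by
    conv_lhs => rw [← image.fac φ, ← hα]
    rfl
  rw [h1, h2, ht']

section Tower

variable (G : ℕᵒᵖ ⥤ X.Modules)

lemma tr_app_comp' {a b c : ℕ} (h1 : a ≤ b) (h2 : b ≤ c) (U : X.Opens)
    (s : Γ(G.obj (op c), U)) :
    (ARSys.tr G h1).app U ((ARSys.tr G h2).app U s) = (ARSys.tr G (h1.trans h2)).app U s := by
  have : ARSys.tr G h2 ≫ ARSys.tr G h1 = ARSys.tr G (h1.trans h2) := by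
    unfold ARSys.tr
    rw [← G.map_comp]
    rfl
  rw [← this]
  rfl

/-- lifting sections to the limit along a system of subsets with surjective transitions. -/
theorem exists_limit_section (U : X.Opens) (R : ∀ k, Set Γ(G.obj (op k), U))
    (hstep : ∀ k, ∀ s ∈ R k, ∃ s' ∈ R (k + 1), (ARSys.tr G (Nat.le_succ k)).app U s' = s)
    (n : ℕ) (s : Γ(G.obj (op n), U)) (hs : s ∈ R n) :
    ∃ z : Γ(limit G, U), (limit.π G (op n)).app U z = s := by
  choose st hstR hst using hstep
  let y : ∀ j : ℕ, {y : Γ(G.obj (op (n + j)), U) // y ∈ R (n + j)} := fun j =>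
    Nat.rec (motive := fun j => {y : Γ(G.obj (op (n + j)), U) // y ∈ R (n + j)}) ⟨s, hs⟩
      (fun j yj => ⟨st (n + j) yj.1 yj.2, hstR (n + j) yj.1 yj.2⟩) j
  have hys : ∀ j, (y (j + 1)).1 = st (n + j) (y j).1 (y j).2 := fun j => rfl
  have hyc : ∀ j, (ARSys.tr G (Nat.le_succ (n + j))).app U (y (j + 1)).1 = (y j).1 := fun j => by
    rw [hys]; exact hst _ _ _
  let x : ∀ k, Γ(G.obj (op k), U) := fun k => (ARSys.tr G (Nat.le_add_left k n)).app U (y k).1
  have hx : ∀ k, (ARSys.tr G (Nat.le_succ k)).app U (x (k + 1)) = x k := by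
    intro k
    change (ARSys.tr G (Nat.le_succ k)).app U
      ((ARSys.tr G (Nat.le_add_left (k + 1) n)).app U (y (k + 1)).1) =
      (ARSys.tr G (Nat.le_add_left k n)).app U (y k).1
    rw [tr_app_comp', ← hyc k, tr_app_comp']
  have hyn : ∀ j, (ARSys.tr G (Nat.le_add_right n j)).app U (y j).1 = s := by
    intro j
    induction j with
    | zero =>
      have e : ARSys.tr G (Nat.le_add_right n 0) = 𝟙 _ := G.map_id _
      rw [e]; rfl
    | succ j ih =>
      rw [← ih, ← hyc j, tr_app_comp']
  obtain ⟨z, hz⟩ := Groth.Agent.Helper14.CohFormal.exists_section_of_compatible G U x hx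
  exact ⟨z, (hz n).trans (hyn n)⟩

theorem main [IsLocallyNoetherian X] (hG : ∀ n : ℕᵒᵖ, Coh.IsCoh (G.obj n))
    (hML : ∀ e : ℕ, ∃ (d : ℕ) (hd : e ≤ d), ∀ (d' : ℕ) (hd' : d ≤ d'),
      imageSubobject (G.map (homOfLE (hd.trans hd')).op) = imageSubobject (G.map (homOfLE hd).op))
    (e : ℕ) : IsClosed (CohB1.support (image (limit.π G (op e)))) := by
  choose d hd hst using hML
  haveI hqc : ∀ k : ℕ, (G.obj (op k)).IsQuasicoherent := fun k => (hG (op k)).1
  haveI hft : ∀ k : ℕ, SheafOfModules.IsFiniteType (R := X.ringCatSheaf) (G.obj (op k)) :=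
    fun k => (hG (op k)).2
  -- ranges on affine opens
  have ha : ∀ (U : X.Opens), IsAffineOpen U → ∀ (k d' : ℕ) (hd' : d k ≤ d'),
      Set.range ((ARSys.tr G ((hd k).trans hd')).app U) = Set.range ((ARSys.tr G (hd k)).app U) := by
    intro U hU k d' hd'
    apply Set.Subset.antisymm
    · exact range_subset_of_imageSubobject_le _ _ (hst k d' hd').le U hU
    · exact range_subset_of_imageSubobject_le _ _ (hst k d' hd').ge U hU
  have hrange : ∀ (U : X.Opens), IsAffineOpen U →
      Set.range ((limit.π G (op e)).app U) = Set.range ((ARSys.tr G (hd e)).app U) := by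
    intro U hU
    apply Set.Subset.antisymm
    · rintro _ ⟨z, rfl⟩
      refine ⟨(limit.π G (op (d e))).app U z, ?_⟩
      have : limit.π G (op (d e)) ≫ ARSys.tr G (hd e) = limit.π G (op e) :=
        limit.w G (homOfLE (hd e)).op
      rw [← this]
      rfl
    · rintro _ ⟨t, rfl⟩
      obtain ⟨z, hz⟩ := exists_limit_section G U
        (fun k => Set.range ((ARSys.tr G (hd k)).app U)) (by
          intro k s hs
          let d' := max (d k) (d (k + 1))
          have h1 : d k ≤ d' := le_max_left _ _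
          have h2 : d (k + 1) ≤ d' := le_max_right _ _
          rw [← ha U hU k d' h1] at hs
          obtain ⟨t, rfl⟩ := hs
          refine ⟨(ARSys.tr G ((hd (k + 1)).trans h2)).app U t, ?_, ?_⟩
          · rw [← ha U hU (k + 1) d' h2]
            exact ⟨t, rfl⟩
          · rw [tr_app_comp']) e _ ⟨t, rfl⟩
      exact ⟨z, hz⟩
  have hsupp : CohB1.support (image (limit.π G (op e))) =
      CohB1.support (image (ARSys.tr G (hd e))) := by
    apply Set.Subset.antisymm
    · exact support_image_subset_of_range_subset _ _ (fun U hU => (hrange U hU).le)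
    · exact support_image_subset_of_range_subset _ _ (fun U hU => (hrange U hU).ge)
  rw [hsupp]
  haveI := isQuasicoherent_image (ARSys.tr G (hd e))
  let τ : G.obj (op (d e)) ⟶ G.obj (op e) := ARSys.tr G (hd e)
  haveI hepi : Epi (factorThruImage τ) := inferInstance
  haveI : SheafOfModules.IsFiniteType (R := X.ringCatSheaf) (image τ : X.Modules) :=
    isFiniteType_of_epi (G := G.obj (op (d e))) (factorThruImage τ)
  exact Groth.Agent.Helper28.SuppProper.isClosed_support (image τ : X.Modules)

end Tower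

end Groth.Agent.Helper14.MLSupp
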