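import Mathlib
import Groth.Prelude.Def_Coh
import Groth.Prelude.Def_CohB1
import Groth.Agent.Lib.Helper14.FinSupp
import Groth.Agent.Lib.Helper14.MLSupp
import Groth.Agent.Lib.Helper13.FinPresSec
import Groth.Agent.Lib.Helper13.Qcqs
import Groth.Agent.Lib.Helper6.ThickAffB

set_option autoImplicit false
set_option linter.style.haveILetI false
set_option linter.unusedSectionVars false
set_option linter.unusedVariables false
universe u
open CategoryTheory CategoryTheory.Limits AlgebraicGeometry Opposite TopologicalSpace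
open Groth.Agent.Helper13.QCoh Groth.Agent.Helper13.FinType Groth.Agent.Helper13.LocFree
open Groth.Agent.Helper14.FinSupp

namespace Groth.Agent.Helper14.GenFree

variable {X Y : Scheme.{u}}

lemma quasiCompact_ι [IsNoetherian X] (U : X.Opens) : QuasiCompact U.ι := by
  haveI : NoetherianSpace ↥(U : Scheme.{u}) := inferInstanceAs (NoetherianSpace (U : Set X))
  exact ⟨fun O _ _ => NoetherianSpace.isCompact _⟩

/-- `j_* O_U` is quasi-coherent on a Noetherian scheme. -/
lemma isQuasicoherent_PU_ι [IsNoetherian X] (U : X.Opens) : (PU U.ι).IsQuasicoherent := by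
  haveI := quasiCompact_ι U
  haveI : (Coh.structureModule (U : Scheme.{u})).IsQuasicoherent :=
    Groth.Agent.Helper13.QCoh.isQuasicoherent_unit _
  exact Groth.Agent.Helper13.Qcqs.isQuasicoherent_pushforward_of_qcqs U.ι _

/-- the generic point lies in every nonempty basic open. -/
lemma genericPoint_mem_basicOpen [IsIntegral Y] {V : Y.Opens} (a : Γ(Y, V)) (ha : a ≠ 0) :
    genericPoint Y ∈ Y.basicOpen a := by
  have hne : Y.basicOpen a ≠ ⊥ := fun h => ha ((basicOpen_eq_bot_iff a).1 h)
  have hne' : ((Y.basicOpen a : Y.Opens) : Set Y).Nonempty := by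
    rw [Set.nonempty_iff_ne_empty]
    intro he
    apply hne
    ext z
    simp only [Opens.coe_bot, Set.mem_empty_iff_false, iff_false]
    intro hz
    have : z ∈ ((Y.basicOpen a : Y.Opens) : Set Y) := hz
    rw [he] at this
    exact this
  exact (genericPoint_spec Y).mem_open_set_iff (Y.basicOpen a).2 |>.2
    (by simpa [Set.univ_inter] using hne')

/-- a basic open neighbourhood of the generic point inside a given neighbourhood. -/
lemma exists_basicOpen_le [IsIntegral Y] {V : Y.Opens} (hV : IsAffineOpen V)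
    (hηV : genericPoint Y ∈ V) (D : Y.Opens) (hηD : genericPoint Y ∈ D) :
    ∃ a : Γ(Y, V), a ≠ 0 ∧ Y.basicOpen a ≤ D ∧ Y.basicOpen a ≤ V := by
  obtain ⟨a, ha, hxa⟩ := hV.exists_basicOpen_le (V := D) ⟨genericPoint Y, hηD⟩ hηV
  refine ⟨a, ?_, ha, Y.basicOpen_le a⟩
  rintro rfl
  rw [Scheme.basicOpen_zero] at hxa
  exact hxa

end Groth.Agent.Helper14.GenFree
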