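import Mathlib
import Groth.Agent.Lib.Helper14.GenFree3
import Groth.Agent.Lib.Helper13.QCohLoc

set_option autoImplicit false
set_option linter.style.haveILetI false
set_option linter.unusedSectionVars false
set_option linter.unusedVariables false
universe u
open CategoryTheory CategoryTheory.Limits AlgebraicGeometry Opposite TopologicalSpace
open Groth.Agent.Helper13.QCoh Groth.Agent.Helper13.FinType Groth.Agent.Helper13.LocFree
open Groth.Agent.Helper13.QCohLoc

namespace Groth.Agent.Helper14.GenFree

section Alg

/-- a linearly independent family spanning up to a denominator `g` becomes a basis after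
inverting a multiple of `g`. -/
theorem nonempty_basis_localized {R : Type*} [CommRing R] {P : Type*} [AddCommGroup P]
    [Module R P] {d : ℕ} (y : Fin d → P) (hy : LinearIndependent R y) (g : R)
    (hg : ∀ p : P, g • p ∈ Submodule.span R (Set.range y)) (h : R) (hgh : g ∣ h)
    {R' : Type*} [CommRing R'] [Algebra R R'] [IsLocalization (Submonoid.powers h) R']
    {P' : Type*} [AddCommGroup P'] [Module R P'] [Module R' P'] [IsScalarTower R R' P']
    (φ : P →ₗ[R] P') [IsLocalizedModule (Submonoid.powers h) φ] :
    Nonempty (Module.Basis (Fin d) R' P') := by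
  have hli : LinearIndependent R' (φ ∘ y) := hy.of_isLocalizedModule R' (Submonoid.powers h) φ
  have hunit_h : IsUnit (algebraMap R R' h) :=
    IsLocalization.map_units R' (⟨h, Submonoid.mem_powers h⟩ : Submonoid.powers h)
  have hunit_g : IsUnit (algebraMap R R' g) := by
    obtain ⟨k, rfl⟩ := hgh
    rw [map_mul] at hunit_h
    exact isUnit_of_mul_isUnit_left hunit_h
  have hspan : ⊤ ≤ Submodule.span R' (Set.range (φ ∘ y)) := by
    intro p' _
    obtain ⟨⟨p, s⟩, hps⟩ := IsLocalizedModule.surj (Submonoid.powers h) φ p'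
    have hs : IsUnit (algebraMap R R' (s : R)) := IsLocalization.map_units R' s
    have h1 : φ (g • p) ∈ Submodule.span R' (Set.range (φ ∘ y)) := by
      have h2 := hg p
      have h3 : φ (g • p) ∈ Submodule.map φ (Submodule.span R (Set.range y)) :=
        Submodule.mem_map_of_mem h2
      rw [Submodule.map_span, ← Set.range_comp] at h3
      exact Submodule.span_subset_span R R' _ h3
    rw [map_smul, ← algebraMap_smul R' g (φ p)] at h1
    have h4 : φ p ∈ Submodule.span R' (Set.range (φ ∘ y)) := by
      have := Submodule.smul_mem _ (↑hunit_g.unit⁻¹ : R') h1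
      rwa [smul_smul, IsUnit.val_inv_mul, one_smul] at this
    have h5 : (algebraMap R R' (s : R)) • p' = φ p := by
      rw [algebraMap_smul]
      exact hps
    have h6 : p' = (↑hs.unit⁻¹ : R') • φ p := by
      rw [← h5, smul_smul, IsUnit.val_inv_mul, one_smul]
    rw [h6]
    exact Submodule.smul_mem _ _ h4
  exact ⟨Module.Basis.mk hli hspan⟩

end Alg

variable {Y : Scheme.{u}}

/-- generic freeness of a coherent module on an integral scheme, over basic opens of a fixed
affine open. -/
theorem exists_generic_basis [IsIntegral Y] (Q : Y.Modules) [Q.IsQuasicoherent]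
    [SheafOfModules.IsFiniteType (R := Y.ringCatSheaf) Q] {V : Y.Opens} (hV : IsAffineOpen V)
    (hηV : genericPoint Y ∈ V) :
    ∃ (g : Γ(Y, V)) (d : ℕ), g ≠ 0 ∧ ∀ h : Γ(Y, V), g ∣ h →
      Nonempty (Module.Basis (Fin d) Γ(Y, Y.basicOpen h) Γ(Q, Y.basicOpen h)) := by
  haveI : Nonempty ↥(V : Scheme.{u}) := ⟨⟨genericPoint Y, hηV⟩⟩
  haveI : IsDomain Γ(Y, V) := IsIntegral.component_integral V
  haveI : Module.Finite Γ(Y, V) Γ(Q, V) := finite_sections_of_isFiniteType Q hV
  obtain ⟨d, y, hy, g, hg0, hg⟩ := exists_indep_torsion Γ(Y, V) Γ(Q, V)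
  refine ⟨g, d, hg0, fun h hgh => ?_⟩
  letI := modBasicOpen Q h
  haveI := isScalarTower_basicOpen Q h
  haveI := isLocalizedModule_basicOpen Q hV h
  haveI : IsLocalization (Submonoid.powers h) Γ(Y, Y.basicOpen h) := hV.isLocalization_basicOpen h
  exact nonempty_basis_localized y hy g hg h hgh (resBasicOpen Q h)

end Groth.Agent.Helper14.GenFree
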