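import Mathlib
import Groth.Agent.Lib.Helper14.GenFree4
import Groth.Agent.Lib.Helper14.CohLoc
import Groth.Agent.Lib.Helper14.IdealMulE
import Groth.Agent.Lib.Helper13.GenLocus
import Groth.Agent.Lib.Helper13.PushFinite
import Groth.Agent.Lib.Helper5.QCS1
import Groth.Agent.Lib.Helper26.DevH
import Groth.Agent.S9523
import Groth.Agent.Lib.Helper13.StalkBasis3

set_option autoImplicit false
set_option linter.style.haveILetI false
set_option linter.unusedSectionVars false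
set_option linter.unusedVariables false
universe u
open CategoryTheory CategoryTheory.Limits AlgebraicGeometry Opposite TopologicalSpace
open Groth.Agent.Helper13.QCoh Groth.Agent.Helper13.FinType Groth.Agent.Helper13.LocFree
open Groth.Agent.Helper13.QCohLoc Groth.Agent.Helper14.FinSupp

namespace Groth.Agent.Helper14.GenFree

section Coprod

variable {X : Scheme.{u}} {I : Type u} [Fintype I] [DecidableEq I] (F : X.Modules)

/-- coprojection into a finite coproduct of copies of `F`. -/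
noncomputable def cι (i : I) : F ⟶ ∐ fun _ : I => F := Sigma.ι (fun _ : I => F) i

/-- projection from a finite coproduct of copies of `F`. -/
noncomputable def cπ (i : I) : (∐ fun _ : I => F) ⟶ F :=
  Sigma.desc (fun j : I => if j = i then 𝟙 F else 0)

lemma cι_cπ (i j : I) : cι F i ≫ cπ F j = if i = j then 𝟙 F else 0 := by
  simp [cι, cπ]

lemma ctotal : ∑ i : I, cπ F i ≫ cι F i = 𝟙 (∐ fun _ : I => F) := by
  apply Sigma.hom_ext
  intro j
  change cι F j ≫ _ = cι F j ≫ _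
  rw [Preadditive.comp_sum, Category.comp_id, Finset.sum_eq_single j]
  · rw [← Category.assoc, cι_cπ, if_pos rfl, Category.id_comp]
  · intro i _ hij
    rw [← Category.assoc, cι_cπ, if_neg (Ne.symm hij), zero_comp]
  · intro h
    exact absurd (Finset.mem_univ j) h

/-- sections of a finite coproduct of copies of `F`. -/
noncomputable def secCoprod (W : X.Opens) :
    (I → Γ(F, W)) ≃ₗ[Γ(X, W)] Γ((∐ fun _ : I => F : X.Modules), W) where
  toFun c := ∑ i, (cι F i).app W (c i)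
  invFun t := fun i => (cπ F i).app W t
  map_add' a b := by
    simp only [Pi.add_apply, map_add, Finset.sum_add_distrib]
  map_smul' r a := by
    simp only [Pi.smul_apply, RingHom.id_apply, Finset.smul_sum]
    refine Finset.sum_congr rfl (fun i _ => ?_)
    exact Scheme.Modules.Hom.app_smul (cι F i) r (a i)
  left_inv c := by
    funext j
    simp only [map_sum]
    rw [Finset.sum_eq_single j]
    · rw [← app_comp_apply, cι_cπ, if_pos rfl]
      rfl
    · intro i _ hij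
      rw [← app_comp_apply, cι_cπ, if_neg hij]
      rfl
    · intro h
      exact absurd (Finset.mem_univ j) h
  right_inv t := by
    have h := congrArg (fun φ : (∐ fun _ : I => F) ⟶ (∐ fun _ : I => F) => φ.app W t) (ctotal F)
    simp only [sum_app_apply] at h
    exact h

end Coprod

noncomputable section Main

variable {X Y : Scheme.{u}}

lemma isCoh_freeMod (X : Scheme.{u}) (d : ℕ) : Coh.IsCoh (FlatMod.freeMod X d) :=
  ⟨inferInstance, isFiniteType_freeMod X d⟩

theorem exists_beta_strong [IsIntegral X] [IsNoetherian X] [IsIntegral Y] [IsNoetherian Y]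
    (f : X ⟶ Y) [IsFinite f] [hsurj : Surjective f] (F : Y.Modules) (hF : Coh.IsCoh F) :
    ∃ (r : ℕ) (G : X.Modules)
      (β : (Scheme.Modules.pushforward f).obj G ⟶ ∐ fun _ : ULift.{u} (Fin r) => F)
      (D : Y.Opens),
      0 < r ∧ Coh.IsCoh G ∧ genericPoint Y ∈ D ∧
      IsIso ((Scheme.Modules.restrictFunctor D.ι).map β) ∧
      Module.finrank (Y.presheaf.stalk (genericPoint Y))
        ((PU f).presheaf.stalk (genericPoint Y)) = r := by
  classical
  haveI := hF.1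
  haveI := hF.2
  obtain ⟨_, ⟨V, hV, rfl⟩, hηV, -⟩ := Y.isBasis_affineOpens.exists_subset_of_mem_open
      (Set.mem_univ (genericPoint Y)) isOpen_univ
  have hV' : IsAffineOpen V := hV
  have hηV' : genericPoint Y ∈ V := hηV
  let 𝒜 : Y.Modules := PU f
  haveI : (Coh.structureModule X).IsQuasicoherent := isQuasicoherent_unit X
  haveI := Groth.Agent.Helper26.DevH.isFiniteType_structureModule X
  haveI h𝒜q : 𝒜.IsQuasicoherent :=
    Groth.Agent.Helper13.QCohPush.isQuasicoherent_pushforward f (Coh.structureModule X)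
  haveI h𝒜f : SheafOfModules.IsFiniteType (R := Y.ringCatSheaf) 𝒜 :=
    (Groth.Agent.Helper13.PushFinite.isFiniteType_pushforward_iff f (Coh.structureModule X)).1
      inferInstance
  obtain ⟨g₁, r, hg₁, hb₁⟩ := exists_generic_basis 𝒜 hV' hηV'
  obtain ⟨g₂, d, hg₂, hb₂⟩ := exists_generic_basis F hV' hηV'
  haveI : Nonempty ↥(V : Scheme.{u}) := ⟨⟨genericPoint Y, hηV'⟩⟩
  haveI : IsDomain Γ(Y, V) := IsIntegral.component_integral V
  let h : Γ(Y, V) := g₁ * g₂
  have hh0 : h ≠ 0 := mul_ne_zero hg₁ hg₂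
  obtain ⟨bA⟩ := hb₁ h (Dvd.intro _ rfl)
  obtain ⟨bF⟩ := hb₂ h (Dvd.intro_left _ rfl)
  have hηD : genericPoint Y ∈ Y.basicOpen h := genericPoint_mem_basicOpen h hh0
  have hDaff : IsAffineOpen (Y.basicOpen h) := hV'.basicOpen h
  set D : Y.Opens := Y.basicOpen h with hD
  -- `r > 0`
  obtain ⟨x₀, hx₀⟩ := hsurj.surj (genericPoint Y)
  haveI : Nonempty ↥((f ⁻¹ᵁ D : X.Opens) : Scheme.{u}) :=
    ⟨⟨x₀, by show f x₀ ∈ D; rw [hx₀]; exact hηD⟩⟩
  haveI : IsDomain Γ(X, f ⁻¹ᵁ D) := IsIntegral.component_integral (f ⁻¹ᵁ D)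
  have hr : 0 < r := by
    rcases Nat.eq_zero_or_pos r with h0 | h0
    · subst h0
      exfalso
      have h1 : ∀ t : Γ(𝒜, D), t = 0 := fun t => bA.repr.injective (Subsingleton.elim _ _)
      have h2 : (1 : Γ(X, f ⁻¹ᵁ D)) = 0 := h1 (show Γ(𝒜, D) from (1 : Γ(X, f ⁻¹ᵁ D)))
      exact one_ne_zero h2
    · exact h0
  -- the two modules on `Y`
  let G₁ : X.Modules := FlatMod.freeMod X d
  have hG₁ : Coh.IsCoh G₁ := isCoh_freeMod X d
  haveI := hG₁.1
  haveI := hG₁.2
  let F₁ : Y.Modules := (Scheme.Modules.pushforward f).obj G₁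
  haveI hF₁q : F₁.IsQuasicoherent :=
    Groth.Agent.Helper13.QCohPush.isQuasicoherent_pushforward f G₁
  have hF₁ : Coh.IsCoh F₁ :=
    ⟨hF₁q, (Groth.Agent.Helper13.PushFinite.isFiniteType_pushforward_iff f G₁).1 hG₁.2⟩
  let F₂ : Y.Modules := ∐ fun _ : ULift.{u} (Fin r) => F
  haveI hF₂q : F₂.IsQuasicoherent :=
    Groth.Agent.Helper5.QCS.isQuasicoherent_sigma _ (fun _ => hF.1)
  -- basis of `Γ(F₂, D)`
  let σ₂ : (Σ _ : ULift.{u} (Fin r), Fin d) ≃ Fin (r * d) :=
    (Equiv.sigmaEquivProd _ _).trans ((Equiv.prodCongr Equiv.ulift (Equiv.refl _)).trans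
      finProdFinEquiv)
  let b₂ : Module.Basis (Fin (r * d)) Γ(Y, D) Γ(F₂, D) :=
    ((Pi.basis (fun _ : ULift.{u} (Fin r) => bF)).map (secCoprod F D)).reindex σ₂
  -- basis of `Γ(F₁, D)`
  letI mRS : Module Γ(Y, D) Γ(X, f ⁻¹ᵁ D) := inferInstanceAs (Module Γ(Y, D) Γ(PU f, D))
  letI mRA : Module Γ(Y, D) Γ(FlatMod.freeMod X d, f ⁻¹ᵁ D) :=
    inferInstanceAs (Module Γ(Y, D)
      Γ((Scheme.Modules.pushforward f).obj (FlatMod.freeMod X d), D))
  haveI tower : IsScalarTower Γ(Y, D) Γ(X, f ⁻¹ᵁ D) Γ(G₁, f ⁻¹ᵁ D) :=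
    ⟨fun a s t => mul_smul (f.app D a) s t⟩
  let bX : Module.Basis (Fin d) Γ(X, f ⁻¹ᵁ D) Γ(G₁, f ⁻¹ᵁ D) := basisFreeMod d (f ⁻¹ᵁ D)
  let bA' : Module.Basis (Fin r) Γ(Y, D) Γ(X, f ⁻¹ᵁ D) := bA
  let b₁ : Module.Basis (Fin (r * d)) Γ(Y, D) Γ(F₁, D) :=
    (bA'.smulTower bX).reindex finProdFinEquiv
  obtain ⟨e₁⟩ := restrict_iso_freeMod_of_basis F₁ hDaff b₁
  obtain ⟨e₂⟩ := restrict_iso_freeMod_of_basis F₂ hDaff b₂
  let e : (Scheme.Modules.restrictFunctor D.ι).obj F₁ ≅ (Scheme.Modules.restrictFunctor D.ι).obj F₂ :=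
    e₁ ≪≫ e₂.symm
  -- the ideal of the complement of `D`
  let T : Closeds Y := ⟨(D : Set Y)ᶜ, D.2.isClosed_compl⟩
  let I : Y.IdealSheafData := Scheme.IdealSheafData.vanishingIdeal T
  have hUI : (D : Set Y) = (I.support : Set Y)ᶜ := by
    rw [Scheme.IdealSheafData.coe_support_vanishingIdeal]
    simp [T]
  obtain ⟨n, ψ, hψ⟩ := Groth.Agent.Helper14.IdealMul.exists_hom_idealMul_pow_restrict_eq I D hUI
    F₂ F₁ hF₂q hF₁ e.hom
  have hψiso : IsIso ((Scheme.Modules.restrictFunctor D.ι).map ψ) := by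
    rw [hψ]
    haveI := Groth.Agent.Helper14.CohLoc.isIso_restrict_idealMulι I D hUI F₁ n
    infer_instance
  obtain ⟨ε, hε⟩ := Groth.Agent.Helper14.IdealMul.idealMul_pushforward f G₁ hG₁.1 (I ^ n)
  let G : X.Modules := (Dual3.idealMul ((I ^ n).comap f)).obj G₁
  have hG : Coh.IsCoh G := Groth.Agent.Helper14.CohLoc.isCoh_idealMul _ _ hG₁
  let β : (Scheme.Modules.pushforward f).obj G ⟶ F₂ := ε.inv ≫ ψ
  have hβiso : IsIso ((Scheme.Modules.restrictFunctor D.ι).map β) := by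
    change IsIso ((Scheme.Modules.restrictFunctor D.ι).map (ε.inv ≫ ψ))
    rw [Functor.map_comp]
    infer_instance
  refine ⟨r, G, β, D, hr, hG, hηD, hβiso, ?_⟩
  exact Groth.Agent.Helper13.StalkBasis.finrank_stalk_of_basis 𝒜 hDaff ⟨genericPoint Y, hηD⟩ bA

theorem exists_beta [IsIntegral X] [IsNoetherian X] [IsIntegral Y] [IsNoetherian Y]
    (f : X ⟶ Y) [IsFinite f] [hsurj : Surjective f] (F : Y.Modules) (hF : Coh.IsCoh F) :
    ∃ (r : ℕ) (G : X.Modules)
      (β : (Scheme.Modules.pushforward f).obj G ⟶ ∐ fun _ : ULift.{u} (Fin r) => F),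
      0 < r ∧ Coh.IsCoh G ∧ Function.Bijective (stalkMap β (genericPoint Y)) := by
  obtain ⟨r, G, β, D, hr, hG, hηD, hβiso, -⟩ := exists_beta_strong f F hF
  exact ⟨r, G, β, hr, hG,
    (Groth.Agent.Helper13.GenLoc.isIso_restrict_iff β D).1 hβiso _ hηD⟩

theorem main10949 [IsIntegral X] [IsNoetherian X] [IsIntegral Y] [IsNoetherian Y]
    (f : X ⟶ Y) [IsFinite f] [Surjective f] (F : Y.Modules) (hF : Coh.IsCoh F) :
    ∃ (r : ℕ) (G : X.Modules) (β : (Scheme.Modules.pushforward f).obj G ⟶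
        ∐ fun _ : ULift.{u} (Fin r) => F),
      0 < r ∧ Coh.IsCoh G ∧
      IsIso ((TopCat.Presheaf.stalkFunctor AddCommGrpCat.{u} (genericPoint ↥Y)).map
        ((SheafOfModules.toSheaf Y.ringCatSheaf).map β).hom) := by
  obtain ⟨r, G, β, hr, hG, hβ⟩ := exists_beta f F hF
  refine ⟨r, G, β, hr, hG, ?_⟩
  change IsIso (stalkMap β (genericPoint Y))
  exact (ConcreteCategory.isIso_iff_bijective _).2 hβ

end Main

end Groth.Agent.Helper14.GenFree
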