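import Mathlib
import Groth.Agent.Lib.Helper14.GenFree5

set_option autoImplicit false
set_option linter.style.haveILetI false
set_option linter.unusedSectionVars false
set_option linter.unusedVariables false
universe u
open CategoryTheory CategoryTheory.Limits AlgebraicGeometry Opposite TopologicalSpace
open Groth.Agent.Helper14.FinSupp

namespace Groth.Agent.Helper14.GenFree

theorem main11389
    (k : Type u) [Field k] (X Y : Scheme.{u})
    [X.Over (Spec (CommRingCat.of k))] [Y.Over (Spec (CommRingCat.of k))]
    [LocallyOfFiniteType (Y ↘ (Spec (CommRingCat.of k)))]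
    [QuasiCompact (Y ↘ (Spec (CommRingCat.of k)))]
    [IsIntegral X] [IsIntegral Y] (f : X ⟶ Y) [IsFinite f] [Surjective f]
    (F : Y.Modules) (hF : Coh.IsCoh F) :
    ∃ (G : X.Modules) (u : (Scheme.Modules.pushforward f).obj G ⟶
        ∐ fun _ : Fin (Module.finrank (Y.functionField)
            (((Scheme.Modules.pushforward f).obj (Coh.structureModule X)).presheaf.stalk (genericPoint Y))) => F),
      Coh.IsCoh G ∧ ∃ V : Y.Opens, genericPoint Y ∈ V ∧
        IsIso ((Scheme.Modules.restrictFunctor V.ι).map u) := by
  haveI : IsLocallyNoetherian Y :=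
    LocallyOfFiniteType.isLocallyNoetherian (Y ↘ (Spec (CommRingCat.of k)))
  haveI : CompactSpace Y :=
    QuasiCompact.compactSpace_of_compactSpace (Y ↘ (Spec (CommRingCat.of k)))
  haveI : IsNoetherian Y := {}
  haveI : IsLocallyNoetherian X := LocallyOfFiniteType.isLocallyNoetherian f
  haveI : CompactSpace X := QuasiCompact.compactSpace_of_compactSpace f
  haveI : IsNoetherian X := {}
  obtain ⟨r, G, β, D, hr, hG, hηD, hβiso, hrank⟩ := exists_beta_strong f F hF
  have hmr : Module.finrank (Y.functionField)
      (((Scheme.Modules.pushforward f).obj (Coh.structureModule X)).presheaf.stalk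
        (genericPoint Y)) = r := hrank
  rw [hmr]
  let w : (∐ fun _ : ULift.{u} (Fin r) => F) ≅ ∐ fun _ : Fin r => F :=
    Sigma.whiskerEquiv (Equiv.ulift : ULift.{u} (Fin r) ≃ Fin r) (fun _ => Iso.refl F)
  refine ⟨G, β ≫ w.hom, hG, D, hηD, ?_⟩
  rw [Functor.map_comp]
  infer_instance

end Groth.Agent.Helper14.GenFree
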