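import Mathlib
import Groth.Agent.Lib.Helper14.GeomIrred

/-!
# Connectedness of tensor products over a separably closed field (helper14)
-/

set_option autoImplicit false

namespace Groth.Agent.Helper14.SepClosedConn

open TensorProduct Function Groth.Agent.Helper14 Groth.Agent.Helper14.AlgClosedTensor
  Groth.Agent.Helper14.GeomIrred

universe u

variable {k : Type u} [Field k] [IsSepClosed k]

/-- Over a separably closed field, connectedness of the spectrum is preserved by arbitrary
field extensions of the base. -/
theorem connectedSpace_field_tensor (K : Type u) [Field K] [Algebra k K] (S : Type u)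
    [CommRing S] [Algebra k S] [ConnectedSpace (PrimeSpectrum S)] :
    ConnectedSpace (PrimeSpectrum (K ⊗[k] S)) := by
  have hpi : IsPurelyInseparable k (AlgebraicClosure k) :=
    (isSepClosed_iff_isPurelyInseparable_algebraicClosure k (AlgebraicClosure k)).mp inferInstance
  have h1 : ConnectedSpace (PrimeSpectrum (AlgebraicClosure k ⊗[k] S)) :=
    connectedSpace_tensor_of_purelyInseparable (F := k) (AlgebraicClosure k) S
  let φ : AlgebraicClosure k →ₐ[k] AlgebraicClosure K := IsAlgClosed.lift
  let _ : Algebra (AlgebraicClosure k) (AlgebraicClosure K) := φ.toRingHom.toAlgebra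
  have : IsScalarTower k (AlgebraicClosure k) (AlgebraicClosure K) :=
    IsScalarTower.of_algebraMap_eq (fun x => (φ.commutes x).symm)
  have h2 : ConnectedSpace (PrimeSpectrum
      (AlgebraicClosure K ⊗[AlgebraicClosure k] (AlgebraicClosure k ⊗[k] S))) :=
    connectedSpace_tensor (k := AlgebraicClosure k) (AlgebraicClosure k ⊗[k] S)
      (AlgebraicClosure K)
  let e := Algebra.TensorProduct.cancelBaseChange k (AlgebraicClosure k) (AlgebraicClosure k)
    (AlgebraicClosure K) S
  have h3 : ConnectedSpace (PrimeSpectrum (AlgebraicClosure K ⊗[k] S)) :=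
    connectedSpace_of_injective (B := AlgebraicClosure K ⊗[AlgebraicClosure k]
      (AlgebraicClosure k ⊗[k] S)) (e.symm.toAlgHom.toRingHom) e.symm.injective
  exact connectedSpace_of_injective (B := AlgebraicClosure K ⊗[k] S)
    (Algebra.TensorProduct.map (IsScalarTower.toAlgHom k K (AlgebraicClosure K))
      (AlgHom.id k S)).toRingHom
    (map_injective (k := k) S (IsScalarTower.toAlgHom k K (AlgebraicClosure K)))


/-- Over a separably closed field, the tensor product of two algebras with connected spectra has
connected spectrum. -/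
theorem connectedSpace_tensor_of_isSepClosed (R S : Type u) [CommRing R] [CommRing S]
    [Algebra k R] [Algebra k S] [ConnectedSpace (PrimeSpectrum R)]
    [ConnectedSpace (PrimeSpectrum S)] : ConnectedSpace (PrimeSpectrum (R ⊗[k] S)) := by
  obtain ⟨hntR, -⟩ := (connectedSpace_primeSpectrum_iff (A := R)).mp ‹_›
  obtain ⟨hntS, -⟩ := (connectedSpace_primeSpectrum_iff (A := S)).mp ‹_›
  have hnt : Nontrivial (R ⊗[k] S) :=
    Algebra.TensorProduct.nontrivial_of_algebraMap_injective_of_flat_left k R S
      (algebraMap k S).injective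
  -- fibres are connected
  have hfib : ∀ p : PrimeSpectrum R,
      ConnectedSpace (PrimeSpectrum ((R ⊗[k] S) ⊗[R] p.asIdeal.ResidueField)) := by
    intro p
    have h1 : ConnectedSpace (PrimeSpectrum (p.asIdeal.ResidueField ⊗[k] S)) :=
      connectedSpace_field_tensor (k := k) p.asIdeal.ResidueField S
    let e1 := Algebra.TensorProduct.comm R (R ⊗[k] S) p.asIdeal.ResidueField
    let e2 := Algebra.TensorProduct.cancelBaseChange k R R p.asIdeal.ResidueField S
    exact connectedSpace_of_injective (B := p.asIdeal.ResidueField ⊗[k] S)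
      ((e2.toAlgHom.comp e1.toAlgHom).toRingHom) (e2.injective.comp e1.injective)
  rw [connectedSpace_primeSpectrum_iff]
  refine ⟨hnt, ?_⟩
  intro e he
  have hopen := PrimeSpectrum.isOpenMap_comap_algebraMap_tensorProduct_of_field
    (K := k) (A := R) (B := S)
  -- the value of `e` on each fibre
  have hval : ∀ p : PrimeSpectrum R,
      algebraMap (R ⊗[k] S) ((R ⊗[k] S) ⊗[R] p.asIdeal.ResidueField) e = 0 ∨
      algebraMap (R ⊗[k] S) ((R ⊗[k] S) ⊗[R] p.asIdeal.ResidueField) e = 1 := by
    intro p
    have := hfib p
    obtain ⟨-, hid⟩ := (connectedSpace_primeSpectrum_iff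
      (A := (R ⊗[k] S) ⊗[R] p.asIdeal.ResidueField)).mp this
    exact hid _ (he.map _)
  have hntfib : ∀ p : PrimeSpectrum R,
      Nontrivial ((R ⊗[k] S) ⊗[R] p.asIdeal.ResidueField) := fun p =>
    ((connectedSpace_primeSpectrum_iff
      (A := (R ⊗[k] S) ⊗[R] p.asIdeal.ResidueField)).mp (hfib p)).1
  let U₁ : Set (PrimeSpectrum R) := PrimeSpectrum.comap (algebraMap R (R ⊗[k] S)) ''
    (PrimeSpectrum.basicOpen e : Set (PrimeSpectrum (R ⊗[k] S)))
  let U₀ : Set (PrimeSpectrum R) := PrimeSpectrum.comap (algebraMap R (R ⊗[k] S)) ''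
    (PrimeSpectrum.basicOpen (1 - e) : Set (PrimeSpectrum (R ⊗[k] S)))
  have hU₁ : IsOpen U₁ := hopen _ (PrimeSpectrum.basicOpen e).isOpen
  have hU₀ : IsOpen U₀ := hopen _ (PrimeSpectrum.basicOpen (1 - e)).isOpen
  have hmem₁ : ∀ p, p ∈ U₁ ↔
      algebraMap (R ⊗[k] S) ((R ⊗[k] S) ⊗[R] p.asIdeal.ResidueField) e = 1 := by
    intro p
    have := hntfib p
    rw [PrimeSpectrum.mem_image_comap_basicOpen]
    constructor
    · intro h
      rcases hval p with h0 | h1
      · exact absurd (h0 ▸ IsNilpotent.zero) h
      · exact h1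
    · intro h
      rw [h]
      exact not_isNilpotent_one
  have hmem₀ : ∀ p, p ∈ U₀ ↔
      algebraMap (R ⊗[k] S) ((R ⊗[k] S) ⊗[R] p.asIdeal.ResidueField) e = 0 := by
    intro p
    have := hntfib p
    rw [PrimeSpectrum.mem_image_comap_basicOpen, map_sub, map_one]
    constructor
    · intro h
      rcases hval p with h0 | h1
      · exact h0
      · rw [h1, sub_self] at h
        exact absurd IsNilpotent.zero h
    · intro h
      rw [h, sub_zero]
      exact not_isNilpotent_one
  have hcompl : U₁ᶜ = U₀ := by
    ext p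
    rw [Set.mem_compl_iff, hmem₁, hmem₀]
    have := hntfib p
    constructor
    · intro h
      rcases hval p with h0 | h1
      · exact h0
      · exact absurd h1 h
    · intro h h1
      rw [h] at h1
      exact zero_ne_one h1
  have hclopen : IsClopen U₁ := ⟨by rw [← isOpen_compl_iff, hcompl]; exact hU₀, hU₁⟩
  rcases isClopen_iff.mp hclopen with h | h
  · left
    have h1 : (PrimeSpectrum.basicOpen e : Set (PrimeSpectrum (R ⊗[k] S))) = ∅ :=
      Set.image_eq_empty.mp h
    exact (basicOpen_eq_empty_of_idem he).mp h1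
  · right
    have h0 : U₀ = ∅ := by rw [← hcompl, h, Set.compl_univ]
    have h1 : (PrimeSpectrum.basicOpen (1 - e) : Set (PrimeSpectrum (R ⊗[k] S))) = ∅ :=
      Set.image_eq_empty.mp h0
    have := (basicOpen_eq_empty_of_idem he.one_sub).mp h1
    exact (sub_eq_zero.mp this).symm


section irred

omit [IsSepClosed k]

/-- If `S` is geometrically irreducible over `k` and `R` has irreducible spectrum, then
`R ⊗[k] S` has irreducible spectrum. -/
theorem isPrime_nilradical_tensor_of_geomIrred (R S : Type u) [CommRing R] [CommRing S]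
    [Algebra k R] [Algebra k S]
    (hS : ∀ (k' : Type u) [Field k'] [Algebra k k'], (nilradical (k' ⊗[k] S)).IsPrime)
    (hR : (nilradical R).IsPrime) : (nilradical (R ⊗[k] S)).IsPrime := by
  have hntR : Nontrivial R := by
    by_contra h
    rw [not_nontrivial_iff_subsingleton] at h
    exact hR.ne_top (Ideal.eq_top_iff_one _ |>.mpr
      (by rw [Subsingleton.elim (1 : R) 0]; exact zero_mem _))
  have hntS : Nontrivial S := by
    have h := hS k
    by_contra hsub
    rw [not_nontrivial_iff_subsingleton] at hsub
    apply h.ne_top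
    rw [Ideal.eq_top_iff_one]
    have : (1 : k ⊗[k] S) = 0 := by
      rw [Algebra.TensorProduct.one_def, Subsingleton.elim (1 : S) 0, TensorProduct.tmul_zero]
    rw [this]
    exact zero_mem _
  have hnt : Nontrivial (R ⊗[k] S) :=
    Algebra.TensorProduct.nontrivial_of_algebraMap_injective_of_flat_left k R S
      (algebraMap k S).injective
  have hfib : ∀ p : PrimeSpectrum R,
      (nilradical ((R ⊗[k] S) ⊗[R] p.asIdeal.ResidueField)).IsPrime := by
    intro p
    have h1 := hS p.asIdeal.ResidueField
    let e1 := Algebra.TensorProduct.comm R (R ⊗[k] S) p.asIdeal.ResidueField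
    let e2 := Algebra.TensorProduct.cancelBaseChange k R R p.asIdeal.ResidueField S
    exact isPrime_nilradical_of_injective (B := p.asIdeal.ResidueField ⊗[k] S)
      ((e2.toAlgHom.comp e1.toAlgHom).toRingHom) (e2.injective.comp e1.injective) h1
  have : IrreducibleSpace (PrimeSpectrum R) :=
    PrimeSpectrum.irreducibleSpace_iff_isPrime_nilradical.mpr hR
  have hopen := PrimeSpectrum.isOpenMap_comap_algebraMap_tensorProduct_of_field
    (K := k) (A := R) (B := S)
  rw [Ideal.isPrime_iff]
  refine ⟨?_, ?_⟩
  · rw [Ideal.ne_top_iff_one, mem_nilradical]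
    exact not_isNilpotent_one
  · intro x y hxy
    by_contra hcon
    push Not at hcon
    obtain ⟨hx, hy⟩ := hcon
    rw [mem_nilradical] at hx hy hxy
    have hne : ∀ h : R ⊗[k] S, ¬ IsNilpotent h →
        (PrimeSpectrum.comap (algebraMap R (R ⊗[k] S)) ''
          (PrimeSpectrum.basicOpen h : Set (PrimeSpectrum (R ⊗[k] S)))).Nonempty := by
      intro h hh
      rw [Set.image_nonempty]
      by_contra hemp
      rw [Set.not_nonempty_iff_eq_empty] at hemp
      apply hh
      rw [← PrimeSpectrum.basicOpen_eq_bot_iff]
      exact TopologicalSpace.Opens.ext hemp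
    obtain ⟨p, hpx, hpy⟩ := nonempty_preirreducible_inter
      (hopen _ (PrimeSpectrum.basicOpen x).isOpen) (hopen _ (PrimeSpectrum.basicOpen y).isOpen)
      (hne x hx) (hne y hy)
    rw [PrimeSpectrum.mem_image_comap_basicOpen] at hpx hpy
    have h3 : IsNilpotent (algebraMap (R ⊗[k] S) ((R ⊗[k] S) ⊗[R] p.asIdeal.ResidueField) x *
        algebraMap (R ⊗[k] S) ((R ⊗[k] S) ⊗[R] p.asIdeal.ResidueField) y) := by
      rw [← map_mul]
      exact hxy.map _
    rcases (hfib p).mem_or_mem (mem_nilradical.mpr h3) with h | h
    · exact hpx (mem_nilradical.mp h)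
    · exact hpy (mem_nilradical.mp h)

/-- Uniqueness of the minimal prime is primality of the nilradical. -/
theorem existsUnique_minimalPrimes_iff (A : Type u) [CommRing A] :
    (∃! 𝔭 : Ideal A, 𝔭 ∈ minimalPrimes A) ↔ (nilradical A).IsPrime := by
  constructor
  · rintro ⟨p, hp, huniq⟩
    have : nilradical A = p := by
      rw [nilradical, ← Ideal.sInf_minimalPrimes]
      have : (0 : Ideal A).minimalPrimes = {p} := by
        ext q
        constructor
        · intro hq; exact huniq q hq
        · rintro rfl; exact hp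
      rw [this, sInf_singleton]
    rw [this]
    exact hp.1.1
  · intro h
    refine ⟨nilradical A, ?_, ?_⟩
    · refine ⟨⟨h, bot_le⟩, fun q hq _ => ?_⟩
      exact nilradical_le_prime q (H := hq.1)
    · intro q hq
      have h1 : nilradical A ≤ q := nilradical_le_prime q (H := hq.1.1)
      exact le_antisymm (hq.2 ⟨h, bot_le⟩ h1) h1

end irred

/-- Over a separably closed field, irreducibility is geometric. -/
theorem isPrime_nilradical_field_tensor (S : Type u) [CommRing S] [Algebra k S]
    (hS : (nilradical S).IsPrime) (k' : Type u) [Field k'] [Algebra k k'] :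
    (nilradical (k' ⊗[k] S)).IsPrime := by
  have hpi : IsPurelyInseparable k (AlgebraicClosure k) :=
    (isSepClosed_iff_isPurelyInseparable_algebraicClosure k (AlgebraicClosure k)).mp inferInstance
  have h1 := isPrime_nilradical_tensor_of_purelyInseparable (F := k) (AlgebraicClosure k) S hS
  exact isPrime_nilradical_of_algebraicClosure S h1 k'

end Groth.Agent.Helper14.SepClosedConn
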