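import Mathlib
import Groth.Agent.Lib.Helper14.SepClosedConn

/-!
# Minimal primes of `R ⊗[k] S` for `S` geometrically irreducible
-/

namespace Groth.Agent.Helper14.GeomIrredMin

open TensorProduct Function

universe u

variable {k R S : Type u} [Field k] [CommRing R] [CommRing S] [Algebra k R] [Algebra k S]

variable (k S) in
/-- the map `R ⊗ S → (R/p) ⊗ S`. -/
noncomputable def qmap (p : Ideal R) : R ⊗[k] S →ₐ[k] (R ⧸ p) ⊗[k] S :=
  Algebra.TensorProduct.map (Ideal.Quotient.mkₐ k p) (AlgHom.id k S)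

variable (k S) in
/-- the preimage of the nilradical of `(R/p) ⊗ S`. -/
noncomputable def P (p : Ideal R) : Ideal (R ⊗[k] S) :=
  (nilradical ((R ⧸ p) ⊗[k] S)).comap (qmap k S p).toRingHom

theorem mem_P (p : Ideal R) (x : R ⊗[k] S) : x ∈ P k S p ↔ IsNilpotent (qmap k S p x) := by
  rw [P, Ideal.mem_comap, mem_nilradical]
  rfl

theorem ker_qmap (p : Ideal R) :
    RingHom.ker (qmap k S p) = p.map (algebraMap R (R ⊗[k] S)) := by
  have h := Algebra.TensorProduct.rTensor_ker (R := k) (S := k) (C := S)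
    (Ideal.Quotient.mkₐ k p) (Ideal.Quotient.mkₐ_surjective k p)
  have h2 : RingHom.ker (Ideal.Quotient.mkₐ k p) = p := by
    ext x
    rw [RingHom.mem_ker]
    exact Ideal.Quotient.eq_zero_iff_mem
  rw [h2] at h
  exact h

variable (hS : ∀ (k' : Type u) [Field k'] [Algebra k k'], (nilradical (k' ⊗[k] S)).IsPrime)

include hS in
theorem nontrivial_of_geomIrred : Nontrivial S := by
  have h := hS k
  by_contra hn
  rw [not_nontrivial_iff_subsingleton] at hn
  have : Subsingleton (k ⊗[k] S) := (Algebra.TensorProduct.lid k S).toEquiv.subsingleton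
  exact h.ne_top (Subsingleton.elim _ _)

include hS in
theorem P_isPrime (p : Ideal R) [p.IsPrime] : (P k S p).IsPrime := by
  have h : (nilradical ((R ⧸ p) ⊗[k] S)).IsPrime :=
    SepClosedConn.isPrime_nilradical_tensor_of_geomIrred (R ⧸ p) S hS
      (by rw [nilradical_eq_zero]; exact Ideal.isPrime_bot)
  exact Ideal.comap_isPrime _ _

include hS in
theorem comap_P (p : Ideal R) [p.IsPrime] :
    (P k S p).comap (algebraMap R (R ⊗[k] S)) = p := by
  have hnt : Nontrivial S := nontrivial_of_geomIrred hS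
  ext r
  rw [Ideal.mem_comap, mem_P]
  have h1 : qmap k S p (algebraMap R (R ⊗[k] S) r) =
      (Algebra.TensorProduct.includeLeft : R ⧸ p →ₐ[k] (R ⧸ p) ⊗[k] S)
        (Ideal.Quotient.mk p r) := by
    rw [Algebra.TensorProduct.algebraMap_apply, qmap, Algebra.TensorProduct.map_tmul]
    simp
  rw [h1, IsNilpotent.map_iff (Algebra.TensorProduct.includeLeft_injective
    (FaithfulSMul.algebraMap_injective k S)), isNilpotent_iff_eq_zero,
    Ideal.Quotient.eq_zero_iff_mem]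

theorem P_le (p : Ideal R) (Q : Ideal (R ⊗[k] S)) [Q.IsPrime]
    (h : p ≤ Q.comap (algebraMap R (R ⊗[k] S))) : P k S p ≤ Q := by
  intro x hx
  rw [mem_P] at hx
  obtain ⟨n, hn⟩ := hx
  rw [← map_pow] at hn
  have h1 : x ^ n ∈ RingHom.ker (qmap k S p) := hn
  rw [ker_qmap] at h1
  have h2 : p.map (algebraMap R (R ⊗[k] S)) ≤ Q := Ideal.map_le_iff_le_comap.mpr h
  exact Ideal.IsPrime.mem_of_pow_mem inferInstance n (h2 h1)

include hS in
theorem bijOn_comap_minimalPrimes :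
    Set.BijOn (Ideal.comap (algebraMap R (R ⊗[k] S))) (minimalPrimes (R ⊗[k] S))
      (minimalPrimes R) := by
  refine ⟨?_, ?_, ?_⟩
  · -- MapsTo
    intro Q hQ
    have hQp : Q.IsPrime := hQ.1.1
    have hp : (Q.comap (algebraMap R (R ⊗[k] S))).IsPrime := Ideal.comap_isPrime _ _
    refine ⟨⟨hp, bot_le⟩, ?_⟩
    rintro p' ⟨hp', -⟩ hle
    have h1 : P k S p' ≤ Q := P_le p' Q hle
    have h2 : Q ≤ P k S p' := hQ.2 ⟨P_isPrime hS p', bot_le⟩ h1
    have h3 : P k S p' = Q := le_antisymm h1 h2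
    change Q.comap (algebraMap R (R ⊗[k] S)) ≤ p'
    rw [← h3, comap_P hS]
  · -- InjOn
    intro Q₁ hQ₁ Q₂ hQ₂ heq
    have hQ₁p : Q₁.IsPrime := hQ₁.1.1
    have hQ₂p : Q₂.IsPrime := hQ₂.1.1
    have hp : (Q₁.comap (algebraMap R (R ⊗[k] S))).IsPrime := Ideal.comap_isPrime _ _
    have h1 : P k S (Q₁.comap (algebraMap R (R ⊗[k] S))) ≤ Q₁ := P_le _ Q₁ le_rfl
    have h2 : P k S (Q₁.comap (algebraMap R (R ⊗[k] S))) ≤ Q₂ := P_le _ Q₂ heq.le
    have h3 := hQ₁.2 ⟨P_isPrime hS _, bot_le⟩ h1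
    have h4 := hQ₂.2 ⟨P_isPrime hS _, bot_le⟩ h2
    exact (le_antisymm h3 h1).trans (le_antisymm h2 h4)
  · -- SurjOn
    intro p hp
    have hpp : p.IsPrime := hp.1.1
    have hPp : (P k S p).IsPrime := P_isPrime hS p
    obtain ⟨Q, hQ, hQle⟩ := Ideal.exists_minimalPrimes_le (I := ⊥) (J := P k S p) bot_le
    refine ⟨Q, hQ, ?_⟩
    have hQp : Q.IsPrime := hQ.1.1
    have h1 : Q.comap (algebraMap R (R ⊗[k] S)) ≤ p := by
      calc Q.comap (algebraMap R (R ⊗[k] S)) ≤ (P k S p).comap (algebraMap R (R ⊗[k] S)) :=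
            Ideal.comap_mono hQle
        _ = p := comap_P hS p
    exact le_antisymm h1 (hp.2 ⟨Ideal.comap_isPrime _ _, bot_le⟩ h1)

end Groth.Agent.Helper14.GeomIrredMin
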