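import Mathlib

/-!
# Homogeneous components of integral elements are integral (ℕ-graded rings)
-/

set_option linter.unnecessarySimpa false

namespace Groth.Agent.Helper14.GradedIntegral

open Polynomial DirectSum

variable {S : Type*} [CommRing S] (𝒮 : ℕ → AddSubgroup S) [GradedRing 𝒮]

/-- The "coaction" ring hom `S → S[X]`, `s ↦ ∑ sᵢ Xⁱ`. -/
noncomputable def coact : S →+* S[X] :=
  (DirectSum.toSemiring (A := fun i => 𝒮 i)
    (fun i => (Polynomial.monomial i).toAddMonoidHom.comp (𝒮 i).subtype)
    (by
      show Polynomial.monomial 0 (1 : S) = 1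
      exact Polynomial.monomial_zero_one)
    (by
      intro i j ai aj
      show Polynomial.monomial (i + j) ((ai : S) * (aj : S)) =
        Polynomial.monomial i (ai : S) * Polynomial.monomial j (aj : S)
      rw [Polynomial.monomial_mul_monomial])).comp
    (DirectSum.decomposeRingEquiv 𝒮).toRingHom

lemma coact_of_mem {i : ℕ} {x : S} (hx : x ∈ 𝒮 i) : coact 𝒮 x = Polynomial.monomial i x := by
  unfold coact
  rw [RingHom.comp_apply]
  have : (DirectSum.decomposeRingEquiv 𝒮).toRingHom x = DirectSum.decompose 𝒮 x := rfl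
  rw [this, DirectSum.decompose_of_mem 𝒮 hx, DirectSum.toSemiring_of]
  rfl

lemma coeff_coact (s : S) (i : ℕ) : (coact 𝒮 s).coeff i = (DirectSum.decompose 𝒮 s i : S) := by
  classical
  induction s using DirectSum.Decomposition.inductionOn 𝒮 with
  | zero => simp
  | homogeneous m =>
    rename_i j
    rw [coact_of_mem 𝒮 m.2, Polynomial.coeff_monomial]
    split_ifs with h
    · subst h
      rw [DirectSum.decompose_of_mem_same 𝒮 m.2]
    · rw [DirectSum.decompose_of_mem_ne 𝒮 m.2 h]
  | add m m' h h' =>
    rw [map_add, Polynomial.coeff_add, h, h', DirectSum.decompose_add, DirectSum.add_apply,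
      AddSubgroup.coe_add]

attribute [local instance] Polynomial.algebra in
theorem isIntegral_decompose {R : Type*} [CommRing R] [Algebra R S] (ℛ : ℕ → AddSubgroup R)
    [GradedRing ℛ] (hmap : ∀ i : ℕ, ∀ r ∈ ℛ i, algebraMap R S r ∈ 𝒮 i) (s : S)
    (hs : IsIntegral R s) (i : ℕ) : IsIntegral R ((DirectSum.decompose 𝒮 s i : 𝒮 i) : S) := by
  have hcomp : (algebraMap R[X] S[X]).comp (coact ℛ) = (coact 𝒮).comp (algebraMap R S) := by
    refine RingHom.ext fun r => ?_
    simp only [RingHom.comp_apply]
    induction r using DirectSum.Decomposition.inductionOn ℛ with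
    | zero => simp
    | homogeneous m =>
      rename_i j
      rw [coact_of_mem ℛ m.2, coact_of_mem 𝒮 (hmap j _ m.2)]
      simp [Polynomial.algebraMap_def]
    | add m m' h h' => simp only [map_add, h, h']
  have := IsIntegral.map_of_comp_eq (coact ℛ) (coact 𝒮) hcomp hs
  rw [← coeff_coact]
  exact IsIntegral.coeff this i

end Groth.Agent.Helper14.GradedIntegral
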