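import Mathlib.RingTheory.Henselian
import Mathlib.RingTheory.Jacobson.Ideal
import Mathlib.Algebra.Category.Ring.Limits
import Mathlib.CategoryTheory.Limits.ConcreteCategory.Basic
import Mathlib.CategoryTheory.Limits.Types.Limits
import Mathlib.Algebra.Polynomial.Identities

set_option autoImplicit false
set_option linter.style.haveILetI false
universe u
open CategoryTheory CategoryTheory.Limits Polynomial

namespace Groth.Agent.Helper14
/-- unit mod an ideal contained in the Jacobson radical is a unit -/
theorem isUnit_of_isUnit_mk_of_le_jacobson {R : Type u} [CommRing R] (I : Ideal R)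
    (hI : I ≤ Ideal.jacobson ⊥) (x : R) (hx : IsUnit (Ideal.Quotient.mk I x)) : IsUnit x := by
  obtain ⟨y, hy⟩ := isUnit_iff_exists_inv.1 hx
  obtain ⟨y, rfl⟩ := Ideal.Quotient.mk_surjective y
  have h1 : x * y - 1 ∈ I := by
    rw [← Ideal.Quotient.eq, map_mul, map_one]; exact hy
  have h2 := (Ideal.mem_jacobson_bot.1 (hI h1)) 1
  rw [mul_one, sub_add_cancel] at h2
  exact isUnit_of_mul_isUnit_left h2

/-- Uniqueness of Henselian roots. -/
theorem root_unique_of_le_jacobson {R : Type u} [CommRing R] (I : Ideal R)
    (hI : I ≤ Ideal.jacobson ⊥) (f : R[X]) (a₀ a b : R)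
    (hu : IsUnit (Ideal.Quotient.mk I (f.derivative.eval a₀)))
    (ha : f.IsRoot a) (hb : f.IsRoot b) (ha0 : a - a₀ ∈ I) (hb0 : b - a₀ ∈ I) : a = b := by
  obtain ⟨k, hk⟩ := f.binomExpansion a (b - a)
  have ha' : f.eval a = 0 := ha
  have hb' : f.eval b = 0 := hb
  rw [add_sub_cancel, ha', hb', zero_add] at hk
  -- 0 = (b - a) * (f'(a) + k (b - a))
  have hba : b - a ∈ I := by
    have : b - a = (b - a₀) - (a - a₀) := by ring
    rw [this]; exact I.sub_mem hb0 ha0
  have hunit : IsUnit (f.derivative.eval a + k * (b - a)) := by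
    apply isUnit_of_isUnit_mk_of_le_jacobson I hI
    have h1 : Ideal.Quotient.mk I (f.derivative.eval a + k * (b - a)) =
        Ideal.Quotient.mk I (f.derivative.eval a₀) := by
      rw [Ideal.Quotient.eq]
      have h2 : f.derivative.eval a - f.derivative.eval a₀ ∈ I := by
        obtain ⟨c, hc⟩ := (f.derivative).evalSubFactor a a₀
        rw [hc]; exact I.mul_mem_left _ ha0
      have : f.derivative.eval a + k * (b - a) - f.derivative.eval a₀ =
          (f.derivative.eval a - f.derivative.eval a₀) + k * (b - a) := by ring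
      rw [this]; exact I.add_mem h2 (I.mul_mem_left _ hba)
    rw [h1]; exact hu
  have h0 : (f.derivative.eval a + k * (b - a)) * (b - a) = 0 := by
    have : (f.derivative.eval a + k * (b - a)) * (b - a) =
      f.derivative.eval a * (b - a) + k * (b - a) ^ 2 := by ring
    rw [this, ← hk]
  have := (hunit.mul_right_eq_zero).1 h0
  exact (sub_eq_zero.1 this).symm

theorem commRing_limit_ext {J : Type u} [Category.{u} J] (F : J ⥤ CommRingCat.{u})
    (x y : (limit F : CommRingCat.{u})) (h : ∀ j, (limit.π F j).hom x = (limit.π F j).hom y) : x = y :=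
  Concrete.limit_ext F x y h

theorem commRing_limit_mk {J : Type u} [Category.{u} J] (F : J ⥤ CommRingCat.{u})
    (s : ∀ j, F.obj j) (hs : ∀ (i j : J) (φ : i ⟶ j), (F.map φ).hom (s i) = s j) :
    ∃ a : (limit F : CommRingCat.{u}), ∀ j, (limit.π F j).hom a = s j := by
  let c := (forget CommRingCat).mapCone (limit.cone F)
  let hc : IsLimit c := isLimitOfPreserves (forget CommRingCat) (limit.isLimit F)
  let e := Types.isLimitEquivSections hc
  let sec : (F ⋙ forget CommRingCat).sections := ⟨s, fun {i j} φ => hs i j φ⟩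
  refine ⟨e.symm sec, fun j => ?_⟩
  exact Types.isLimitEquivSections_symm_apply hc sec j

end Groth.Agent.Helper14
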