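import Groth.Agent.Lib.Lead.HomSh2
import Mathlib

/-!
# Calculus of sections of the sheaf Hom `RefHull.homSh`: post-composition, morphisms from global
sections, extensionality on affine opens, gluing (helper14)
-/

set_option autoImplicit false
universe u
open CategoryTheory CategoryTheory.Limits AlgebraicGeometry Opposite TopologicalSpace
open RefHull Groth.Agent.Lead.HomSh

namespace Groth.Agent.Helper14.HomLim

variable {X : Scheme.{u}} {F G G' : X.Modules}

/-- restriction of a section of the sheaf Hom -/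
noncomputable abbrev resH {U W : X.Opens} (h : W ≤ U) (g : Γ(homSh F G, U)) : Γ(homSh F G, W) :=
  (homSh F G).presheaf.map (homOfLE h).op g

theorem resH_apply {U W : X.Opens} (h : W ≤ U) (g : Γ(homSh F G, U)) (y : W) :
    (resH h g).1 y = g.1 ⟨y.1, h y.2⟩ := rfl

theorem resH_resH {U W W' : X.Opens} (h : W ≤ U) (h' : W' ≤ W) (g : Γ(homSh F G, U)) :
    resH h' (resH h g) = resH (h'.trans h) g := rfl

theorem resH_self {U : X.Opens} (g : Γ(homSh F G, U)) : resH (le_refl U) g = g := rfl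

/-- post-composition of a section of the sheaf Hom with a morphism of modules -/
noncomputable def postcomp (τ : G ⟶ G') {U : X.Opens} (g : Γ(homSh F G, U)) : Γ(homSh F G', U) :=
  ⟨fun y => (stalkMapₗ τ y.1).comp (g.1 y), fun V i m x => by
    obtain ⟨W, hxW, j, n, hn⟩ := isLocSect_of_mem g V i m x
    refine ⟨W, hxW, j, τ.app W n, fun y => ?_⟩
    rw [LinearMap.comp_apply, hn y, stalkMapₗ_germ]⟩

theorem postcomp_apply (τ : G ⟶ G') {U : X.Opens} (g : Γ(homSh F G, U)) (y : U) :
    (postcomp τ g).1 y = (stalkMapₗ τ y.1).comp (g.1 y) := rfl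

theorem resH_postcomp (τ : G ⟶ G') {U W : X.Opens} (h : W ≤ U) (g : Γ(homSh F G, U)) :
    resH h (postcomp τ g) = postcomp τ (resH h g) := rfl

theorem evalSec_postcomp (τ : G ⟶ G') {U : X.Opens} (g : Γ(homSh F G, U)) (m : Γ(F, U)) :
    evalSec (postcomp τ g) m = τ.app U (evalSec g m) := by
  apply sec_ext' G'
  intro y
  rw [germ_evalSec, postcomp_apply, LinearMap.comp_apply, ← germ_evalSec, stalkMapₗ_germ]

theorem evalSec_ofHom (φ : F ⟶ G) (U : X.Opens) (m : Γ(F, U)) :
    evalSec (ofHom φ U) m = φ.app U m := by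
  apply sec_ext' G
  intro y
  rw [germ_evalSec, ofHom_apply, stalkMapₗ_germ]

theorem resH_ofHom (φ : F ⟶ G) {U W : X.Opens} (h : W ≤ U) :
    resH h (ofHom φ U) = ofHom φ W := rfl

theorem stalkMapₗ_comp (φ : F ⟶ G) (τ : G ⟶ G') (y : X) :
    stalkMapₗ (φ ≫ τ) y = (stalkMapₗ τ y).comp (stalkMapₗ φ y) := by
  apply LinearMap.ext
  intro v
  obtain ⟨W, hy, m, rfl⟩ := TopCat.Presheaf.exists_germ_eq F.presheaf v
  rw [LinearMap.comp_apply, stalkMapₗ_germ, stalkMapₗ_germ, stalkMapₗ_germ]
  rfl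

theorem ofHom_comp (φ : F ⟶ G) (τ : G ⟶ G') (U : X.Opens) :
    ofHom (φ ≫ τ) U = postcomp τ (ofHom φ U) := by
  apply sec_ext
  intro y
  rw [postcomp_apply, ofHom_apply, ofHom_apply, stalkMapₗ_comp]

/-- evaluation as a linear map -/
noncomputable def evalLin {W : X.Opens} (g : Γ(homSh F G, W)) : Γ(F, W) →ₗ[Γ(X, W)] Γ(G, W) where
  toFun := evalSec g
  map_add' := evalSec_add_right g
  map_smul' r m := evalSec_smul_right g r m

theorem evalLin_apply {W : X.Opens} (g : Γ(homSh F G, W)) (m : Γ(F, W)) :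
    evalLin g m = evalSec g m := rfl

/-- the underlying morphism of abelian presheaves of a global section of the sheaf Hom -/
noncomputable def preHomOfSec (g : Γ(homSh F G, ⊤)) : F.presheaf ⟶ G.presheaf where
  app U := AddCommGrpCat.ofHom
    (AddMonoidHom.mk' (evalSec (resH (le_top : U.unop ≤ ⊤) g))
      (evalSec_add_right (resH (le_top : U.unop ≤ ⊤) g)))
  naturality U V i := by
    ext m
    have h := evalSec_res (F := F) (G := G) i.unop (resH (le_top : U.unop ≤ ⊤) g) m
    exact h.symm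

/-- the morphism of modules defined by a global section of the sheaf Hom -/
noncomputable def homOfSec (g : Γ(homSh F G, ⊤)) : F ⟶ G :=
  ⟨PresheafOfModules.homMk (preHomOfSec g)
    (fun U r m => evalSec_smul_right (resH (le_top : U.unop ≤ ⊤) g) r m)⟩

theorem homOfSec_app (g : Γ(homSh F G, ⊤)) (U : X.Opens) (m : Γ(F, U)) :
    (homOfSec g).app U m = evalSec (resH (le_top : U ≤ ⊤) g) m := rfl

theorem ofHom_homOfSec (g : Γ(homSh F G, ⊤)) (U : X.Opens) :
    ofHom (homOfSec g) U = resH (le_top : U ≤ ⊤) g := by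
  apply sec_ext
  intro y
  rw [ofHom_apply]
  apply LinearMap.ext
  intro v
  obtain ⟨W, hy, m, rfl⟩ := TopCat.Presheaf.exists_germ_eq F.presheaf v
  rw [stalkMapₗ_germ, homOfSec_app, germ_evalSec]
  rfl

/-- morphisms of modules whose sections of the sheaf Hom agree on a cover are equal -/
theorem hom_ext_of_ofHom (α β : F ⟶ G) {ι : Type*} (U : ι → X.Opens)
    (hU : ∀ x : X, ∃ a, x ∈ U a) (h : ∀ a, ofHom α (U a) = ofHom β (U a)) : α = β := by
  apply Scheme.Modules.hom_ext
  intro W
  ext m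
  apply sec_ext' G
  intro y
  obtain ⟨a, ha⟩ := hU y.1
  have h1 := congrArg (fun g : Γ(homSh F G, U a) => g.1 ⟨y.1, ha⟩) (h a)
  simp only [ofHom_apply] at h1
  rw [← stalkMapₗ_germ α y.1 y.2 m, ← stalkMapₗ_germ β y.1 y.2 m, h1]

/-- sections of the sheaf Hom out of a quasi-coherent module, over an open contained in an affine
open `V`, are determined by their values on restrictions of sections over `V`. -/
theorem sec_ext_of_affine [F.IsQuasicoherent] {V W : X.Opens} (hV : IsAffineOpen V) (hWV : W ≤ V)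
    (g g' : Γ(homSh F G, W))
    (h : ∀ m : Γ(F, V), evalSec g (F.presheaf.map (homOfLE hWV).op m) =
      evalSec g' (F.presheaf.map (homOfLE hWV).op m)) : g = g' := by
  apply sec_ext
  intro y
  apply stalkHom_ext hV y.1 (hWV y.2)
  intro m
  rw [← TopCat.Presheaf.germ_res_apply F.presheaf (homOfLE hWV) y.1 y.2 m, ← germ_evalSec,
    ← germ_evalSec, h m]

/-- a linear map on sections over an affine open defines a section of the sheaf Hom. -/
theorem exists_sec_of_linear [F.IsQuasicoherent] {V : X.Opens} (hV : IsAffineOpen V)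
    (lam : Γ(F, V) →ₗ[Γ(X, V)] Γ(G, V)) :
    ∃ g : Γ(homSh F G, V), ∀ m : Γ(F, V), evalSec g m = lam m := by
  obtain ⟨g, hg⟩ := exists_secOfLin (F := F) (G := G) hV (le_refl V) lam.toAddMonoidHom
    (fun a m => by
      have h1 : X.presheaf.map (homOfLE (le_refl V)).op a = a := by
        have : (homOfLE (le_refl V)).op = 𝟙 (op V) := rfl
        rw [this, X.presheaf.map_id]
        rfl
      rw [h1]
      exact lam.map_smul a m)
  refine ⟨g, fun m => ?_⟩
  apply sec_ext' G
  intro y
  rw [germ_evalSec, hg y m]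
  rfl

/-- gluing of sections of the sheaf Hom -/
theorem exists_glue_sec {ι : Type*} (U : ι → X.Opens) (hU : ∀ x : X, ∃ a, x ∈ U a)
    (g : ∀ a, Γ(homSh F G, U a))
    (hg : ∀ a b, resH (inf_le_left : U a ⊓ U b ≤ U a) (g a) =
      resH (inf_le_right : U a ⊓ U b ≤ U b) (g b)) :
    ∃ s : Γ(homSh F G, ⊤), ∀ a, resH (le_top : U a ≤ ⊤) s = g a := by
  obtain ⟨s, hs, -⟩ := TopCat.Sheaf.existsUnique_gluing'
    (⟨(homSh F G).presheaf, (homSh F G).isSheaf⟩ : TopCat.Sheaf Ab X) U ⊤
    (fun a => homOfLE le_top)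
    (fun x _ => by
      obtain ⟨a, ha⟩ := hU x
      exact Opens.mem_iSup.2 ⟨a, ha⟩) g (fun a b => hg a b)
  exact ⟨s, hs⟩

end Groth.Agent.Helper14.HomLim
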