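import Mathlib

/-!
# Linear maps out of a finitely presented module into a directed "colimit": abstract transitions
(helper14)

Variant of `HomLimB` where the transition maps are indexed by an arbitrary family of types
`T j k` (not the morphisms of a filtered category); only directedness is used.
-/

set_option autoImplicit false
universe u v w
open CategoryTheory

namespace Groth.Agent.Helper14.HomLim

section

variable {A : Type u} [CommRing A] {J : Type w} (T : J → J → Type v)
  (hdir : ∀ s : Finset J, ∃ k : J, ∀ j ∈ s, Nonempty (T j k))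
  (Q : J → Type u) [∀ j, AddCommGroup (Q j)] [∀ j, Module A (Q j)]
  (τ : ∀ {j k : J}, T j k → (Q j →ₗ[A] Q k))
  {Q' : Type u} [AddCommGroup Q'] [Module A Q'] (σ : ∀ j, Q j →ₗ[A] Q')
  (hσ : ∀ {j k : J} (u : T j k) (x : Q j), σ k (τ u x) = σ j x)
  (hsurj : ∀ q : Q', ∃ (j : J) (x : Q j), σ j x = q)
  (hker : ∀ (j : J) (x : Q j), σ j x = 0 → ∃ (k : J) (u : T j k), τ u x = 0)

include hdir hσ hsurj in
/-- lifting from a finite free module -/
theorem exists_lift_free' (n : ℕ) (h : (Fin n → A) →ₗ[A] Q') :
    ∃ (j : J) (μ : (Fin n → A) →ₗ[A] Q j), ∀ c, σ j (μ c) = h c := by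
  classical
  choose ji xi hxi using fun i : Fin n => hsurj (h (Pi.single i 1))
  obtain ⟨j, hj⟩ := hdir (Finset.univ.image ji)
  have hu : ∀ i : Fin n, Nonempty (T (ji i) j) := fun i =>
    hj _ (Finset.mem_image_of_mem ji (Finset.mem_univ i))
  let u : ∀ i, T (ji i) j := fun i => (hu i).some
  let μ : (Fin n → A) →ₗ[A] Q j := Fintype.linearCombination A (fun i => τ (u i) (xi i))
  refine ⟨j, μ, fun c => ?_⟩
  have key : (σ j).comp μ = h := by
    apply LinearMap.pi_ext'
    intro i
    apply LinearMap.ext_ring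
    rw [LinearMap.comp_apply, LinearMap.comp_apply, LinearMap.coe_single, LinearMap.comp_apply]
    change σ j (Fintype.linearCombination A (fun i => τ (u i) (xi i)) (Pi.single i 1)) = _
    rw [Fintype.linearCombination_apply_single, one_smul, hσ, hxi]
    rfl
  exact congr($key c)

include hdir hσ hsurj hker in
/-- a linear map from a finitely presented module lifts to some stage. -/
theorem exists_lift_of_finitePresentation' {M : Type u} [AddCommGroup M] [Module A M]
    [Module.FinitePresentation A M] (h : M →ₗ[A] Q') :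
    ∃ (j : J) (l : M →ₗ[A] Q j), ∀ m, σ j (l m) = h m := by
  classical
  obtain ⟨n, m, f, g, hf, hfg⟩ := Module.FinitePresentation.exists_fin' A M
  have hstep : ∀ s : Finset (Fin m), ∃ (j : J) (μ : (Fin n → A) →ₗ[A] Q j),
      (∀ c, σ j (μ c) = h (f c)) ∧ ∀ k ∈ s, μ (g (Pi.single k 1)) = 0 := by
    intro s
    induction s using Finset.induction_on with
    | empty =>
      obtain ⟨j, μ, hμ⟩ := exists_lift_free' T hdir Q τ σ hσ hsurj n (h.comp f)
      exact ⟨j, μ, hμ, by simp⟩
    | insert k s hk ih =>
      obtain ⟨j, μ, hμ, hμs⟩ := ih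
      have h0 : σ j (μ (g (Pi.single k 1))) = 0 := by
        rw [hμ, (hfg _).mpr ⟨_, rfl⟩, map_zero]
      obtain ⟨j', u, hu⟩ := hker j _ h0
      refine ⟨j', (τ u).comp μ, fun c => ?_, fun k' hk' => ?_⟩
      · rw [LinearMap.comp_apply, hσ, hμ]
      · rw [LinearMap.comp_apply]
        rcases Finset.mem_insert.mp hk' with rfl | h'
        · exact hu
        · rw [hμs k' h', map_zero]
  obtain ⟨j, μ, hμ, hμs⟩ := hstep Finset.univ
  have hμg : μ.comp g = 0 := by
    apply LinearMap.pi_ext'
    intro k
    apply LinearMap.ext_ring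
    rw [LinearMap.comp_apply, LinearMap.comp_apply, LinearMap.coe_single, LinearMap.zero_comp,
      LinearMap.zero_apply]
    exact hμs k (Finset.mem_univ k)
  have hle : LinearMap.ker f ≤ LinearMap.ker μ := by
    intro c hc
    obtain ⟨d, rfl⟩ := (hfg c).mp hc
    exact congr($hμg d)
  let l : M →ₗ[A] Q j := ((LinearMap.ker f).liftQ μ hle).comp
    (f.quotKerEquivOfSurjective hf).symm.toLinearMap
  refine ⟨j, l, fun x => ?_⟩
  obtain ⟨c, rfl⟩ := hf x
  have h1 : l (f c) = μ c := by
    change ((LinearMap.ker f).liftQ μ hle) ((f.quotKerEquivOfSurjective hf).symm (f c)) = μ c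
    have h2 : (f.quotKerEquivOfSurjective hf).symm (f c) = (LinearMap.ker f).mkQ c := by
      rw [LinearEquiv.symm_apply_eq]
      rfl
    rw [h2]
    rfl
  rw [h1, hμ]

end

end Groth.Agent.Helper14.HomLim
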