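import Groth.Agent.Lib.Helper18.RecPull
import Groth.Agent.Lib.Helper18.CnDiff
import Mathlib

/-!
# The transfer morphism `f_* f^* K ⟶ p_* p^* K` for a triangle `g ≫ f = p` (helper14)
-/

set_option autoImplicit false
universe u
open CategoryTheory CategoryTheory.Limits AlgebraicGeometry Opposite TopologicalSpace
open OmegaSh Groth.Agent.Helper18.PbCompat Groth.Agent.Helper18.Rec

namespace Groth.Agent.Helper14.HomLim

variable {X X' X'' : Scheme.{u}} (g : X'' ⟶ X') (f : X' ⟶ X) (p : X'' ⟶ X) (hp : g ≫ f = p)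

/-- the canonical isomorphism `g^* f^* ≅ p^*` -/
noncomputable def kap : Scheme.Modules.pullback f ⋙ Scheme.Modules.pullback g ≅
    Scheme.Modules.pullback p :=
  Scheme.Modules.pullbackComp g f ≪≫ Scheme.Modules.pullbackCongr hp

/-- the transfer morphism -/
noncomputable def trHom (K : X.Modules) :
    (Scheme.Modules.pushforward f).obj ((Scheme.Modules.pullback f).obj K) ⟶
      (Scheme.Modules.pushforward p).obj ((Scheme.Modules.pullback p).obj K) :=
  (Scheme.Modules.pushforward f).map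
      ((Scheme.Modules.pullbackPushforwardAdjunction g).unit.app ((Scheme.Modules.pullback f).obj K) ≫
        (Scheme.Modules.pushforward g).map ((kap g f p hp).hom.app K)) ≫
    (Scheme.Modules.pushforwardComp g f).hom.app ((Scheme.Modules.pullback p).obj K) ≫
    (Scheme.Modules.pushforwardCongr hp).hom.app ((Scheme.Modules.pullback p).obj K)

theorem kap_rfl_hom_app (K : X.Modules) :
    (kap g f (g ≫ f) rfl).hom.app K = (Scheme.Modules.pullbackComp g f).hom.app K := by
  simp [kap, Scheme.Modules.pullbackCongr]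

theorem kap_rfl_inv_app (K : X.Modules) :
    (kap g f (g ≫ f) rfl).inv.app K = (Scheme.Modules.pullbackComp g f).inv.app K := by
  simp [kap, Scheme.Modules.pullbackCongr]

/-- sectionwise formula for the transfer morphism -/
theorem trHom_rfl_app (K : X.Modules) (W : X.Opens)
    (x : Γ((Scheme.Modules.pullback f).obj K, f ⁻¹ᵁ W)) :
    ((trHom g f (g ≫ f) rfl K).app W x :
        Γ((Scheme.Modules.pullback (g ≫ f)).obj K, g ⁻¹ᵁ (f ⁻¹ᵁ W))) =
      ((Scheme.Modules.pullbackComp g f).hom.app K).app (g ⁻¹ᵁ (f ⁻¹ᵁ W))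
        (pullSect g ((Scheme.Modules.pullback f).obj K) (f ⁻¹ᵁ W) x) := by
  rw [← kap_rfl_hom_app]
  have h1 : ((Scheme.Modules.pushforwardCongr (rfl : g ≫ f = g ≫ f)).hom.app
      ((Scheme.Modules.pullback (g ≫ f)).obj K)).app W = 𝟙 _ := by
    rw [Scheme.Modules.pushforwardCongr_hom_app_app]
    exact ((Scheme.Modules.pullback (g ≫ f)).obj K).presheaf.map_id _
  unfold trHom
  rw [Scheme.Modules.Hom.comp_app, Scheme.Modules.Hom.comp_app, h1,
    Scheme.Modules.pushforwardComp_hom_app_app]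
  rfl

/-- the transfer morphism on sections, with explicit types -/
noncomputable def trApp (K : X.Modules) (W : X.Opens)
    (x : Γ((Scheme.Modules.pullback f).obj K, f ⁻¹ᵁ W)) :
    Γ((Scheme.Modules.pullback p).obj K, p ⁻¹ᵁ W) :=
  (trHom g f p hp K).app W x

theorem trApp_def (K : X.Modules) (W : X.Opens)
    (x : Γ((Scheme.Modules.pullback f).obj K, f ⁻¹ᵁ W)) :
    trApp g f p hp K W x = (trHom g f p hp K).app W x := rfl

theorem trApp_add (K : X.Modules) (W : X.Opens)
    (x y : Γ((Scheme.Modules.pullback f).obj K, f ⁻¹ᵁ W)) :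
    trApp g f p hp K W (x + y) = trApp g f p hp K W x + trApp g f p hp K W y :=
  map_add ((trHom g f p hp K).app W).hom x y

theorem trApp_zero (K : X.Modules) (W : X.Opens) :
    trApp g f p hp K W 0 = 0 :=
  map_zero ((trHom g f p hp K).app W).hom

/-- (D1) the transfer morphism sends pulled back sections to pulled back sections -/
theorem trApp_pullSect (K : X.Modules) (W : X.Opens) (n : Γ(K, W)) :
    trApp g f p hp K W (pullSect f K W n) = pullSect p K W n := by
  subst hp
  exact (trHom_rfl_app g f K W (pullSect f K W n)).trans (pullbackComp_hom_app g f K W n)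

/-- (D2) the transfer morphism is semilinear -/
theorem trApp_smul (K : X.Modules) (W : X.Opens) (e : p ⁻¹ᵁ W ≤ g ⁻¹ᵁ (f ⁻¹ᵁ W))
    (r : Γ(X', f ⁻¹ᵁ W)) (x : Γ((Scheme.Modules.pullback f).obj K, f ⁻¹ᵁ W)) :
    trApp g f p hp K W (r • x) =
      (g.appLE (f ⁻¹ᵁ W) (p ⁻¹ᵁ W) e).hom r • trApp g f p hp K W x := by
  subst hp
  have h1 : g.appLE (f ⁻¹ᵁ W) ((g ≫ f) ⁻¹ᵁ W) e = g.app (f ⁻¹ᵁ W) :=
    (Scheme.Hom.app_eq_appLE g).symm
  rw [h1]
  refine (trHom_rfl_app g f K W (r • x)).trans ?_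
  have h2 : pullSect g ((Scheme.Modules.pullback f).obj K) (f ⁻¹ᵁ W) (r • x) =
      (g.app (f ⁻¹ᵁ W)).hom r • pullSect g ((Scheme.Modules.pullback f).obj K) (f ⁻¹ᵁ W) x :=
    pullSect_smul g _ (f ⁻¹ᵁ W) r x
  rw [h2]
  refine (Scheme.Modules.Hom.app_smul _ _ _).trans ?_
  exact congrArg _ (trHom_rfl_app g f K W x).symm

/-- the transfer morphism kills exactly the sections killed by pullback along `g` -/
theorem trApp_eq_zero_iff (K : X.Modules) (W : X.Opens)
    (x : Γ((Scheme.Modules.pullback f).obj K, f ⁻¹ᵁ W)) :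
    trApp g f p hp K W x = 0 ↔
      pullSect g ((Scheme.Modules.pullback f).obj K) (f ⁻¹ᵁ W) x = 0 := by
  subst hp
  have h1 := trHom_rfl_app g f K W x
  constructor
  · intro h
    have h2 : ((Scheme.Modules.pullbackComp g f).hom.app K).app (g ⁻¹ᵁ (f ⁻¹ᵁ W))
        (pullSect g ((Scheme.Modules.pullback f).obj K) (f ⁻¹ᵁ W) x) = 0 := h1.symm.trans h
    have h3 := congrArg (((Scheme.Modules.pullbackComp g f).inv.app K).app (g ⁻¹ᵁ (f ⁻¹ᵁ W))) h2
    rw [map_zero] at h3
    refine Eq.trans ?_ h3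
    rw [← ConcreteCategory.comp_apply, ← Scheme.Modules.Hom.comp_app, Iso.hom_inv_id_app]
    rfl
  · intro h
    refine h1.trans ?_
    rw [h, map_zero]
    rfl

/-- (D3) compatibility of the transfer morphism with the adjunctions -/
theorem homEquiv_transport (F₀ G₀ : X.Modules)
    (θ : (Scheme.Modules.pullback f).obj F₀ ⟶ (Scheme.Modules.pullback f).obj G₀) :
    (Scheme.Modules.pullbackPushforwardAdjunction p).homEquiv F₀ ((Scheme.Modules.pullback p).obj G₀)
        ((kap g f p hp).inv.app F₀ ≫ (Scheme.Modules.pullback g).map θ ≫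
          (kap g f p hp).hom.app G₀) =
      (Scheme.Modules.pullbackPushforwardAdjunction f).homEquiv F₀
          ((Scheme.Modules.pullback f).obj G₀) θ ≫ trHom g f p hp G₀ := by
  subst hp
  apply Scheme.Modules.hom_ext
  intro W
  ext m
  have e1 := Groth.Agent.Helper18.DerLib.homEquiv_app (g ≫ f)
    ((kap g f (g ≫ f) rfl).inv.app F₀ ≫ (Scheme.Modules.pullback g).map θ ≫
      (kap g f (g ≫ f) rfl).hom.app G₀) W m
  have e2 := Groth.Agent.Helper18.DerLib.homEquiv_app f θ W m
  have e3 := trHom_rfl_app g f G₀ W (θ.app (f ⁻¹ᵁ W) (pullSect f F₀ W m))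
  have h1 := pullbackComp_inv_app g f F₀ W m
  have h2 := pullback_map_app g θ (f ⁻¹ᵁ W) (pullSect f F₀ W m)
  refine e1.trans ?_
  have e4 : ((Scheme.Modules.pullbackPushforwardAdjunction f).homEquiv F₀
      ((Scheme.Modules.pullback f).obj G₀) θ ≫ trHom g f (g ≫ f) rfl G₀).app W m =
      (trHom g f (g ≫ f) rfl G₀).app W (θ.app (f ⁻¹ᵁ W) (pullSect f F₀ W m)) :=
    congrArg ((trHom g f (g ≫ f) rfl G₀).app W) e2
  refine Eq.trans ?_ (e4.trans e3).symm
  rw [kap_rfl_inv_app, kap_rfl_hom_app]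
  exact congrArg (((Scheme.Modules.pullbackComp g f).hom.app G₀).app (g ⁻¹ᵁ (f ⁻¹ᵁ W)))
    ((congrArg (((Scheme.Modules.pullback g).map θ).app (g ⁻¹ᵁ (f ⁻¹ᵁ W))) h1).trans h2)

end Groth.Agent.Helper14.HomLim
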