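import Groth.Agent.Lib.Helper14.HomLimB2
import Groth.Agent.Lib.Helper14.LimModC
import Mathlib

/-!
# Projectivity of a base change to a filtered colimit of algebras descends to a stage (helper14)
-/

set_option autoImplicit false
universe u
open CategoryTheory TensorProduct

namespace Groth.Agent.Helper14.HomLim

open Groth.Agent.Helper14.LimMod

section Comm

variable {R : Type u} [CommRing R] {N N' P P' : Type u} [AddCommGroup N] [Module R N]
  [AddCommGroup N'] [Module R N'] [AddCommGroup P] [Module R P] [AddCommGroup P'] [Module R P']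

theorem comm_lTensor (f : P →ₗ[R] P') (z : N ⊗[R] P) :
    TensorProduct.comm R N P' (LinearMap.lTensor N f z) =
      LinearMap.rTensor N f (TensorProduct.comm R N P z) := by
  induction z using TensorProduct.induction_on with
  | zero => simp
  | tmul n p => simp
  | add z₁ z₂ h₁ h₂ => simp only [map_add, h₁, h₂]

theorem comm_rTensor (f : N →ₗ[R] N') (z : N ⊗[R] P) :
    TensorProduct.comm R N' P (LinearMap.rTensor P f z) =
      LinearMap.lTensor P f (TensorProduct.comm R N P z) := by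
  induction z using TensorProduct.induction_on with
  | zero => simp
  | tmul n p => simp
  | add z₁ z₂ h₁ h₂ => simp only [map_add, h₁, h₂]

end Comm

section System

variable {J : Type u} [SmallCategory J] [IsFiltered J]
    {A₀ : Type u} [CommRing A₀] {G : J → Type u} [∀ i, CommRing (G i)] [∀ i, Algebra A₀ (G i)]
    (F : ∀ {i j : J}, (i ⟶ j) → (G i →ₐ[A₀] G j)) {A : Type u} [CommRing A] [Algebra A₀ A]
    (g : ∀ i, G i →ₐ[A₀] A)
    (hg : ∀ {i j : J} (u : i ⟶ j), (g j).comp (F u) = g i)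
    (hsurj : ∀ a : A, ∃ i, ∃ x : G i, g i x = a)
    (hker : ∀ i (x : G i), g i x = 0 → ∃ j, ∃ u : i ⟶ j, F u x = 0)
    {M : Type u} [AddCommGroup M] [Module A₀ M] [Module.FinitePresentation A₀ M]

include hg hsurj hker in
/-- if `A ⊗ M` is projective over the colimit `A`, then `G k ⊗ M` is projective for all
sufficiently late stages. -/
theorem exists_stage_projective (hproj : Module.Projective A (A ⊗[A₀] M)) :
    ∃ j : J, ∀ (k : J) (θ : G j →ₐ[A₀] G k), Adm g j k θ →
      Module.Projective (G k) (G k ⊗[A₀] M) := by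
  classical
  obtain ⟨n, p₀, hp₀⟩ := Module.Finite.exists_fin' A₀ M
  set N := Fin n → A₀ with hN
  -- the splitting over `A`
  have hpA : Function.Surjective (LinearMap.baseChange A p₀) := by
    rw [LinearMap.baseChange_eq_ltensor]
    exact LinearMap.lTensor_surjective A hp₀
  obtain ⟨s, hs⟩ := Module.projective_lifting_property (LinearMap.baseChange A p₀)
    (LinearMap.id : A ⊗[A₀] M →ₗ[A] A ⊗[A₀] M) hpA
  let s' : M →ₗ[A₀] N ⊗[A₀] A :=
    (TensorProduct.comm A₀ A N).toLinearMap ∘ₗ (s.restrictScalars A₀) ∘ₗ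
      (TensorProduct.mk A₀ A M 1)
  have hs' : ∀ m, s' m = TensorProduct.comm A₀ A N (s ((1 : A) ⊗ₜ[A₀] m)) := fun m => rfl
  -- lift to a stage
  obtain ⟨i₀⟩ := IsFiltered.nonempty (C := J)
  obtain ⟨j, l, hl⟩ := exists_lift_of_finitePresentation' (A := A₀)
    (fun j k => {θ : G j →ₐ[A₀] G k // Adm g j k θ})
    (fun t => by
      obtain ⟨k, hk⟩ := IsFiltered.sup_objs_exists t
      exact ⟨k, fun j hj => ⟨⟨F (hk hj).some, Adm.of_f F hg _⟩⟩⟩)
    (fun j => N ⊗[A₀] G j) (fun θ => LinearMap.lTensor N θ.1.toLinearMap)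
    (fun j => LinearMap.lTensor N (g j).toLinearMap)
    (fun {j k} θ x => by
      rw [← LinearMap.comp_apply, ← LinearMap.lTensor_comp, θ.2.toLinearMap])
    (fun q => by
      obtain ⟨j, -, ξ', hξ'⟩ := lift_tensor F hg hsurj N i₀ q
      exact ⟨j, ξ', hξ'⟩)
    (fun j x hx => by
      obtain ⟨k, θ, hθ, hk⟩ := kill_tensor F hg hsurj hker N j x hx
      exact ⟨k, ⟨θ, hθ⟩, hk⟩) s'
  -- the defects on generators
  let gen : Fin n → M := fun i => p₀ (Pi.single i 1)
  let δ : Fin n → M ⊗[A₀] G j := fun i =>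
    LinearMap.rTensor (G j) p₀ (l (gen i)) - gen i ⊗ₜ[A₀] (1 : G j)
  have hδ : ∀ z ∈ Finset.univ.image δ, LinearMap.lTensor M (g j).toLinearMap z = 0 := by
    intro z hz
    obtain ⟨i, -, rfl⟩ := Finset.mem_image.mp hz
    change LinearMap.lTensor M (g j).toLinearMap
      (LinearMap.rTensor (G j) p₀ (l (gen i)) - gen i ⊗ₜ[A₀] (1 : G j)) = 0
    rw [map_sub, lTensor_rTensor_comm', hl, hs', LinearMap.lTensor_tmul, AlgHom.toLinearMap_apply,
      map_one, sub_eq_zero]
    have h1 : LinearMap.rTensor A p₀ (TensorProduct.comm A₀ A N (s ((1 : A) ⊗ₜ[A₀] gen i))) =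
        TensorProduct.comm A₀ A M (LinearMap.lTensor A p₀ (s ((1 : A) ⊗ₜ[A₀] gen i))) :=
      (comm_lTensor p₀ _).symm
    rw [h1]
    have h2 : LinearMap.lTensor A p₀ (s ((1 : A) ⊗ₜ[A₀] gen i)) = (1 : A) ⊗ₜ[A₀] gen i := by
      have := congr($hs ((1 : A) ⊗ₜ[A₀] gen i))
      rw [LinearMap.comp_apply, LinearMap.id_apply] at this
      rw [← LinearMap.baseChange_eq_ltensor]
      exact this
    rw [h2, TensorProduct.comm_tmul]
  obtain ⟨j₁, θ₁, hθ₁, hkill⟩ := kill_tensor_finset F hg hsurj hker M j _ hδ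
  refine ⟨j₁, fun k θ hθ => ?_⟩
  set Θ : G j →ₐ[A₀] G k := θ.comp θ₁ with hΘ
  let lk : M →ₗ[A₀] N ⊗[A₀] G k := (LinearMap.lTensor N Θ.toLinearMap) ∘ₗ l
  -- the key identity
  have key : ∀ m, LinearMap.rTensor (G k) p₀ (lk m) = m ⊗ₜ[A₀] (1 : G k) := by
    have h1 : (LinearMap.rTensor (G k) p₀ ∘ₗ lk) ∘ₗ p₀ =
        ((TensorProduct.mk A₀ M (G k)).flip 1) ∘ₗ p₀ := by
      apply LinearMap.pi_ext'
      intro i
      apply LinearMap.ext_ring
      simp only [LinearMap.comp_apply, LinearMap.coe_single, LinearMap.flip_apply,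
        TensorProduct.mk_apply]
      change LinearMap.rTensor (G k) p₀ (LinearMap.lTensor N Θ.toLinearMap (l (gen i))) =
        gen i ⊗ₜ[A₀] (1 : G k)
      rw [← lTensor_rTensor_comm']
      have h2 : LinearMap.rTensor (G j) p₀ (l (gen i)) = δ i + gen i ⊗ₜ[A₀] (1 : G j) := by
        simp only [δ, sub_add_cancel]
      rw [h2, map_add, hΘ, AlgHom.comp_toLinearMap, LinearMap.lTensor_comp, LinearMap.comp_apply,
        hkill _ (Finset.mem_image_of_mem δ (Finset.mem_univ i)), map_zero, zero_add,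
        LinearMap.comp_apply, LinearMap.lTensor_tmul, LinearMap.lTensor_tmul,
        AlgHom.toLinearMap_apply, AlgHom.toLinearMap_apply, map_one, map_one]
    intro m
    obtain ⟨c, rfl⟩ := hp₀ m
    exact congr($h1 c)
  -- the splitting at stage `k`
  let ik : G k ⊗[A₀] M →ₗ[G k] G k ⊗[A₀] N :=
    LinearMap.liftBaseChange (G k) ((TensorProduct.comm A₀ N (G k)).toLinearMap ∘ₗ lk)
  have hsplit : (LinearMap.baseChange (G k) p₀) ∘ₗ ik = LinearMap.id := by
    apply TensorProduct.AlgebraTensorModule.ext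
    intro a m
    rw [LinearMap.comp_apply, LinearMap.id_apply, LinearMap.liftBaseChange_tmul, map_smul]
    have h3 : LinearMap.baseChange (G k) p₀ (TensorProduct.comm A₀ N (G k) (lk m)) =
        (1 : G k) ⊗ₜ[A₀] m := by
      have h4 : LinearMap.baseChange (G k) p₀ (TensorProduct.comm A₀ N (G k) (lk m)) =
          LinearMap.lTensor (G k) p₀ (TensorProduct.comm A₀ N (G k) (lk m)) := by
        rw [LinearMap.baseChange_eq_ltensor]
      rw [h4, ← comm_rTensor, key, TensorProduct.comm_tmul]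
    change a • LinearMap.baseChange (G k) p₀ (TensorProduct.comm A₀ N (G k) (lk m)) = _
    rw [h3, TensorProduct.smul_tmul', smul_eq_mul, mul_one]
  exact Module.Projective.of_split ik (LinearMap.baseChange (G k) p₀) hsplit

end System

end Groth.Agent.Helper14.HomLim
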