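import Groth.Agent.Lib.Helper14.HomLimI
import Groth.Agent.Lib.Helper14.HomLimF
import Groth.Agent.Lib.Helper13.LocFree3
import Groth.Agent.Lib.Helper13.FinPresAffine
import Groth.Agent.Lib.Helper14.LimModH
import Mathlib

/-!
# Local freeness of a pulled back finitely presented module on a cofiltered limit descends to a
stage (helper14)
-/

set_option autoImplicit false
set_option maxRecDepth 8000
universe u
open CategoryTheory CategoryTheory.Limits AlgebraicGeometry Opposite TopologicalSpace TensorProduct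
open Groth.Agent.Helper13.Pullback

namespace Groth.Agent.Helper14.HomLim

open Groth.Agent.Helper14.LimMod

variable {I : Type u} [SmallCategory I] [IsCofiltered I] (D : I ⥤ Scheme.{u}) (c : Cone D)
  (hc : IsLimit c) [∀ {i j : I} (f : i ⟶ j), IsAffineHom (D.map f)]
  (i₀ : I) (F₀ : (D.obj i₀).Modules) [F₀.IsQuasicoherent]
  [SheafOfModules.IsFinitePresentation (R := (D.obj i₀).ringCatSheaf) F₀]

attribute [local instance] stAlg ptAlg

include hc in
theorem exists_stage_projective_sections {V : (D.obj i₀).Opens} (hV : IsAffineOpen V)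
    (hproj : Module.Projective Γ(c.pt, preUpt D c i₀ V)
      Γ((Scheme.Modules.pullback (c.π.app i₀)).obj F₀, preUpt D c i₀ V)) :
    ∃ k : Over i₀, ∀ (l : Over i₀) (_ : l ⟶ k),
      Module.Projective Γ(D.obj l.left, preU D i₀ V l)
        Γ((Scheme.Modules.pullback (D.map l.hom)).obj F₀, preU D i₀ V l) := by
  have hW : IsAffineOpen (preUpt D c i₀ V) := isAffineOpen_preUpt D c hc i₀ hV
  haveI : Module.FinitePresentation Γ(D.obj i₀, V) Γ(F₀, V) :=
    Groth.Agent.Helper13.LocFree.finitePresentation_sections_of_isFinitePresentation F₀ hV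
  have hprojB : Module.Projective Γ(c.pt, preUpt D c i₀ V)
      (Γ(c.pt, preUpt D c i₀ V) ⊗[Γ(D.obj i₀, V)] Γ(F₀, V)) :=
    Module.Projective.of_equiv (sectionsPullbackEquiv (X := c.pt) (c.π.app i₀) F₀ hW hV le_rfl)
  obtain ⟨k, hk⟩ := exists_stage_projective (J := (Over i₀)ᵒᵖ) (A₀ := Γ(D.obj i₀, V))
    (G := fun l => Γ(D.obj l.unop.left, preU D i₀ V l.unop))
    (fun u => rTrAlg D i₀ u.unop) (fun l => rPtAlg D c i₀ l.unop)
    (fun {k l} u => by
      ext r
      exact congr($(rTr_comp_rPt D c i₀ V u.unop).hom r))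
    (fun a => by
      obtain ⟨k, t, ht⟩ := rPt_surj D c hc i₀ hV a
      exact ⟨op k, t, ht⟩)
    (fun k t ht => by
      obtain ⟨l, u, hu⟩ := rPt_ker D c hc i₀ hV k.unop t ht
      exact ⟨op l, u.op, hu⟩) (M := Γ(F₀, V)) hprojB
  refine ⟨k.unop, fun l u => ?_⟩
  have h1 := hk (op l) (rTrAlg D i₀ u) (by
    ext r
    exact congr($(rTr_comp_rPt D c i₀ V u).hom r))
  have hVl : IsAffineOpen (preU D i₀ V l) := isAffineOpen_preU D i₀ hV l
  exact Module.Projective.of_equiv (sectionsPullbackEquiv (D.map l.hom) F₀ hVl hV le_rfl).symm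

include hc in
/-- **Local freeness descends to a stage.** -/
theorem exists_stage_isFinLocFree [CompactSpace (D.obj i₀)]
    (h : FlatMod.IsFinLocFree ((Scheme.Modules.pullback (c.π.app i₀)).obj F₀)) :
    ∃ (j : I) (φ : j ⟶ i₀), FlatMod.IsFinLocFree ((Scheme.Modules.pullback (D.map φ)).obj F₀) := by
  classical
  have hex : ∀ x : D.obj i₀, ∃ V : (D.obj i₀).Opens, IsAffineOpen V ∧ x ∈ V := by
    intro x
    obtain ⟨_, ⟨V, hV, rfl⟩, hxV, -⟩ :=
      (D.obj i₀).isBasis_affineOpens.exists_subset_of_mem_open (Set.mem_univ x) isOpen_univ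
    exact ⟨V, hV, hxV⟩
  choose V hV hxV using hex
  obtain ⟨t, ht⟩ := CompactSpace.elim_nhds_subcover (fun x => (V x : Set (D.obj i₀)))
    (fun x => (V x).2.mem_nhds (hxV x))
  have hprojS := (Groth.Agent.Helper13.LocFree.isFinLocFree_iff_projective_sections
    ((Scheme.Modules.pullback (c.π.app i₀)).obj F₀)).mp h
  choose kx hkx using fun x => exists_stage_projective_sections D c hc i₀ F₀ (hV x)
    (hprojS _ (isAffineOpen_preUpt D c hc i₀ (hV x))).2
  obtain ⟨k, hk⟩ := IsCofiltered.inf_objs_exists (t.image kx)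
  refine ⟨k.left, k.hom, ?_⟩
  haveI : SheafOfModules.IsFiniteType (R := (D.obj k.left).ringCatSheaf)
      ((Scheme.Modules.pullback (D.map k.hom)).obj F₀) :=
    Groth.Agent.Helper13.FittSheaf.isFiniteType_pullback _ _
  apply Groth.Agent.Helper13.LocFree.isFinLocFree_of_projective_sections
  intro y
  have hy : (D.map k.hom).base y ∈ ⋃ x ∈ t, (V x : Set (D.obj i₀)) := by
    rw [ht]; exact Set.mem_univ _
  obtain ⟨x, hx, hyx⟩ := Set.mem_iUnion₂.mp hy
  obtain ⟨v⟩ := hk (Finset.mem_image_of_mem kx hx)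
  refine ⟨preU D i₀ (V x) k, isAffineOpen_preU D i₀ (hV x) k, hyx, ?_, hkx x k v⟩
  exact Groth.Agent.Helper13.FinType.finite_sections_of_isFiniteType _
    (isAffineOpen_preU D i₀ (hV x) k)

end Groth.Agent.Helper14.HomLim
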