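import Mathlib
import Groth.Agent.Lib.Helper14.SpecConn

/-!
# Idempotents of `R ⊗[k] S` for `S` geometrically connected
-/

namespace Groth.Agent.Helper14.IdemTensor

open TensorProduct Function

universe u

section coord

variable {k R S : Type*} [Field k] [CommRing R] [CommRing S] [Algebra k R] [Algebra k S]
variable {ι : Type*} (b : Module.Basis ι k S)

/-- coordinates commute with base change maps -/
theorem repr_map {R' : Type*} [CommRing R'] [Algebra k R'] (φ : R →ₐ[k] R') (x : R ⊗[k] S)
    (i : ι) :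
    (Algebra.TensorProduct.basis R' b).repr (Algebra.TensorProduct.map φ (AlgHom.id k S) x) i
      = φ ((Algebra.TensorProduct.basis R b).repr x i) := by
  induction x using TensorProduct.induction_on with
  | zero => simp
  | tmul r s =>
    rw [Algebra.TensorProduct.map_tmul, Algebra.TensorProduct.basis_repr_tmul,
      Algebra.TensorProduct.basis_repr_tmul]
    simp
  | add x y hx hy => simp [hx, hy]

theorem map_eq_zero_iff {R' : Type*} [CommRing R'] [Algebra k R'] (φ : R →ₐ[k] R')
    (x : R ⊗[k] S) :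
    Algebra.TensorProduct.map φ (AlgHom.id k S) x = 0 ↔
      ∀ i, φ ((Algebra.TensorProduct.basis R b).repr x i) = 0 := by
  rw [← (Algebra.TensorProduct.basis R' b).repr.map_eq_zero_iff, Finsupp.ext_iff]
  simp only [repr_map, Finsupp.coe_zero, Pi.zero_apply]

theorem isNilpotent_of_forall_repr (x : R ⊗[k] S)
    (h : ∀ i, IsNilpotent ((Algebra.TensorProduct.basis R b).repr x i)) : IsNilpotent x := by
  rw [← mem_nilradical, ← (Algebra.TensorProduct.basis R b).linearCombination_repr x,
    Finsupp.linearCombination_apply, Finsupp.sum]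
  refine Ideal.sum_mem _ fun i _ => ?_
  rw [Algebra.smul_def]
  exact Ideal.mul_mem_right _ _ ((h i).map _)

end coord

variable {k R S : Type u} [Field k] [CommRing R] [CommRing S] [Algebra k R] [Algebra k S]

/-- the map to the residue field at a prime -/
noncomputable def toFrac (k : Type u) [Field k] {R : Type u} [CommRing R] [Algebra k R]
    (p : Ideal R) : R →ₐ[k] FractionRing (R ⧸ p) :=
  (IsScalarTower.toAlgHom k (R ⧸ p) (FractionRing (R ⧸ p))).comp (Ideal.Quotient.mkₐ k p)

theorem toFrac_eq_zero_iff (p : Ideal R) [p.IsPrime] (r : R) : toFrac k p r = 0 ↔ r ∈ p := by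
  change algebraMap (R ⧸ p) (FractionRing (R ⧸ p)) (Ideal.Quotient.mk p r) = 0 ↔ _
  rw [_root_.map_eq_zero_iff _ (IsFractionRing.injective (R ⧸ p) (FractionRing (R ⧸ p))),
    Ideal.Quotient.eq_zero_iff_mem]

variable (hS : ∀ (k' : Type u) [Field k'] [Algebra k k'],
  ConnectedSpace (PrimeSpectrum (k' ⊗[k] S)))

include hS in
theorem nontrivial_of_geomConn : Nontrivial S := by
  have h := hS k
  obtain ⟨hnt, -⟩ := (connectedSpace_primeSpectrum_iff (A := k ⊗[k] S)).mp h
  exact (Algebra.TensorProduct.lid k S).symm.toEquiv.nontrivial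

include hS in
theorem exists_idempotent (x : R ⊗[k] S) (hx : IsIdempotentElem x) :
    ∃ e : R, IsIdempotentElem e ∧ algebraMap R (R ⊗[k] S) e = x := by
  classical
  have hntS : Nontrivial S := nontrivial_of_geomConn hS
  let b := Module.Free.chooseBasis k S
  let c : R ⊗[k] S → _ → R := fun y i => (Algebra.TensorProduct.basis R b).repr y i
  -- fibre maps
  let F : ∀ p : PrimeSpectrum R, R ⊗[k] S →ₐ[k] FractionRing (R ⧸ p.asIdeal) ⊗[k] S :=
    fun p => Algebra.TensorProduct.map (toFrac k p.asIdeal) (AlgHom.id k S)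
  have hF0 : ∀ (p : PrimeSpectrum R) (y : R ⊗[k] S), F p y = 0 ↔ ∀ i, c y i ∈ p.asIdeal := by
    intro p y
    rw [map_eq_zero_iff b]
    simp only [toFrac_eq_zero_iff, c]
  have hconn : ∀ p : PrimeSpectrum R, Nontrivial (FractionRing (R ⧸ p.asIdeal) ⊗[k] S) ∧
      ∀ e : FractionRing (R ⧸ p.asIdeal) ⊗[k] S, IsIdempotentElem e → e = 0 ∨ e = 1 :=
    fun p => (connectedSpace_primeSpectrum_iff).mp (hS _)
  have hdich : ∀ p : PrimeSpectrum R, F p x = 0 ∨ F p (1 - x) = 0 := by
    intro p
    rcases (hconn p).2 (F p x) (hx.map (F p)) with h | h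
    · exact Or.inl h
    · right
      rw [map_sub, map_one, h, sub_self]
  have hexcl : ∀ p : PrimeSpectrum R, ¬ (F p x = 0 ∧ F p (1 - x) = 0) := by
    rintro p ⟨h0, h1⟩
    rw [map_sub, map_one, h0, sub_zero] at h1
    have := (hconn p).1
    exact one_ne_zero h1
  let Z₀ : Set (PrimeSpectrum R) := PrimeSpectrum.zeroLocus (Set.range (c x))
  let Z₁ : Set (PrimeSpectrum R) := PrimeSpectrum.zeroLocus (Set.range (c (1 - x)))
  have hZ₀ : ∀ p, p ∈ Z₀ ↔ F p x = 0 := by
    intro p
    rw [hF0]
    simp only [Z₀, PrimeSpectrum.mem_zeroLocus, Set.range_subset_iff, SetLike.mem_coe]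
  have hZ₁ : ∀ p, p ∈ Z₁ ↔ F p (1 - x) = 0 := by
    intro p
    rw [hF0]
    simp only [Z₁, PrimeSpectrum.mem_zeroLocus, Set.range_subset_iff, SetLike.mem_coe]
  have hcompl : Z₁ = Z₀ᶜ := by
    ext p
    rw [Set.mem_compl_iff, hZ₀, hZ₁]
    constructor
    · intro h1 h0
      exact hexcl p ⟨h0, h1⟩
    · intro h0
      exact (hdich p).resolve_left h0
  have hclopen : IsClopen Z₁ := by
    refine ⟨PrimeSpectrum.isClosed_zeroLocus _, ?_⟩
    rw [hcompl]
    exact (PrimeSpectrum.isClosed_zeroLocus _).isOpen_compl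
  obtain ⟨e, he, hZe⟩ := PrimeSpectrum.isClopen_iff.mp hclopen
  refine ⟨e, he, ?_⟩
  have hide : IsIdempotentElem (algebraMap R (R ⊗[k] S) e) := he.map _
  refine (eq_of_isNilpotent_sub_of_isIdempotentElem hx hide ?_).symm
  apply isNilpotent_of_forall_repr b
  intro i
  rw [← mem_nilradical, nilradical_eq_sInf, Ideal.mem_sInf]
  intro J hJ
  have hJ' : J.IsPrime := hJ
  let p : PrimeSpectrum R := ⟨J, hJ'⟩
  have hFe : F p (algebraMap R (R ⊗[k] S) e) =
      (toFrac k p.asIdeal e) ⊗ₜ[k] (1 : S) := by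
    rw [Algebra.TensorProduct.algebraMap_apply]
    simp only [F, Algebra.TensorProduct.map_tmul, map_one, Algebra.algebraMap_self_apply]
  have key : F p (x - algebraMap R (R ⊗[k] S) e) = 0 := by
    by_cases hp : p ∈ Z₁
    · have h1 : F p (1 - x) = 0 := (hZ₁ p).mp hp
      rw [map_sub, map_one, sub_eq_zero] at h1
      have hep : e ∉ p.asIdeal := by
        rw [hZe] at hp
        exact hp
      have h2 : toFrac k p.asIdeal e = 1 := by
        have hid : IsIdempotentElem (toFrac k p.asIdeal e) := he.map _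
        rcases IsIdempotentElem.iff_eq_zero_or_one.mp hid with h | h
        · exact absurd ((toFrac_eq_zero_iff p.asIdeal e).mp h) hep
        · exact h
      rw [map_sub, hFe, h2, ← h1]
      exact sub_self _
    · have h0 : F p x = 0 := by
        rw [hcompl, Set.mem_compl_iff, not_not] at hp
        exact (hZ₀ p).mp hp
      have hep : e ∈ p.asIdeal := by
        rw [hZe] at hp
        by_contra hne
        exact hp hne
      have h2 : toFrac k p.asIdeal e = 0 := (toFrac_eq_zero_iff p.asIdeal e).mpr hep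
      rw [map_sub, hFe, h2, h0, zero_tmul, sub_zero]
  exact (hF0 p _).mp key i

include hS in
theorem existsUnique_idempotent (x : R ⊗[k] S) (hx : IsIdempotentElem x) :
    ∃! e : R, IsIdempotentElem e ∧ algebraMap R (R ⊗[k] S) e = x := by
  have hntS : Nontrivial S := nontrivial_of_geomConn hS
  obtain ⟨e, he, hex⟩ := exists_idempotent hS x hx
  refine ⟨e, ⟨he, hex⟩, ?_⟩
  rintro e' ⟨-, he'x⟩
  have hinj : Injective (algebraMap R (R ⊗[k] S)) :=
    Algebra.TensorProduct.includeLeft_injective (S := R) (A := R) (R := k) (B := S)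
      (FaithfulSMul.algebraMap_injective k S)
  exact hinj (he'x.trans hex.symm)

end Groth.Agent.Helper14.IdemTensor
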