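import Mathlib
import Groth.Agent.Lib.Helper14.ConsFib
import Groth.Agent.Lib.Helper14.DimFT
import Groth.Agent.Lib.Helper14.AffSpEquidim
import Groth.Agent.Lib.Helper14.LocalDimSch
import Groth.Agent.Lib.Helper16.Sch.QFCodim
import Groth.Agent.Lib.Helper16.Sch.FTDim10
import Groth.Agent.S9687

set_option autoImplicit false
universe u
open CategoryTheory CategoryTheory.Limits AlgebraicGeometry Topology TopologicalSpace

namespace Groth.Agent.Helper14.ImageDim

/-- The integral closed subscheme on the closure of a point (no Noetherian hypothesis). -/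
theorem exists_integral_closure' (Y : Scheme.{u}) (z : Y) :
    ∃ (Z : Scheme.{u}) (i : Z ⟶ Y) (_ : IsClosedImmersion i) (_ : IsIntegral Z),
      Set.range i = closure {z} ∧ i (genericPoint Z) = z := by
  obtain ⟨Z, i, hi, hred, hrange⟩ :=
    Groth.Agent.Helper16.GenND.exists_closedImmersion_isReduced_range_eq
      (closure ({z} : Set Y)) isClosed_closure
  have hirr : IsIrreducible (Set.range i) := by
    rw [hrange]; exact isIrreducible_singleton.closure
  haveI : IrreducibleSpace (Set.range i) := Subtype.irreducibleSpace hirr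
  haveI : IrreducibleSpace Z := (i.isEmbedding.toHomeomorph).irreducibleSpace_iff.mpr inferInstance
  haveI : IsIntegral Z := isIntegral_of_irreducibleSpace_of_isReduced Z
  refine ⟨Z, i, hi, inferInstance, hrange, ?_⟩
  obtain ⟨ζ, hζ⟩ : z ∈ Set.range i := by rw [hrange]; exact subset_closure rfl
  have hgen : IsGenericPoint ζ (Set.univ : Set Z) := by
    change closure {ζ} = Set.univ
    rw [i.isEmbedding.isInducing.closure_eq_preimage_closure_image, Set.image_singleton, hζ,
      ← hrange]
    exact Set.preimage_range i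
  have : ζ = genericPoint Z := hgen.eq (genericPoint_spec Z)
  rw [← this, hζ]

/-- The scheme-theoretic image of a reduced scheme under a quasi-compact morphism is reduced. -/
theorem isReduced_image {X Y : Scheme.{u}} (φ : X ⟶ Y) [QuasiCompact φ] [IsReduced X] :
    IsReduced φ.image := by
  rw [IsReduced.iff_of_openCover (X := φ.ker.subscheme) φ.ker.subschemeCover.openCover]
  intro (U : Y.affineOpens)
  have h3 : (φ.ker.ideal U).IsRadical := by
    rw [Scheme.Hom.ker_apply]
    intro a ha
    obtain ⟨n, hn⟩ := ha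
    rw [RingHom.mem_ker, map_pow] at hn
    rw [RingHom.mem_ker]
    exact IsReduced.eq_zero _ ⟨n, hn⟩
  have h2 : _root_.IsReduced (Γ(Y, U) ⧸ φ.ker.ideal U) :=
    (Ideal.isRadical_iff_quotient_reduced _).mp h3
  exact (affine_isReduced_iff (.of (Γ(Y, U) ⧸ φ.ker.ideal U))).mpr h2

/-- The scheme-theoretic image of an integral scheme under a quasi-compact morphism is
integral. -/
theorem isIntegral_image {X Y : Scheme.{u}} (φ : X ⟶ Y) [QuasiCompact φ] [IsIntegral X] :
    IsIntegral φ.image := by
  haveI : IsReduced φ.image := isReduced_image φ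
  have hrange : Set.range φ.imageι = closure (Set.range φ) := by
    rw [Scheme.IdealSheafData.range_subschemeι, Scheme.Hom.support_ker]
  have hirr : IsIrreducible (Set.range φ.imageι) := by
    rw [hrange]
    have : IsIrreducible (Set.range φ) := by
      rw [← Set.image_univ]
      exact (IrreducibleSpace.isIrreducible_univ X).image _ φ.continuous.continuousOn
    exact this.closure
  haveI : IrreducibleSpace (Set.range φ.imageι) := Subtype.irreducibleSpace hirr
  haveI : IrreducibleSpace φ.image :=
    (φ.imageι.isEmbedding.toHomeomorph).irreducibleSpace_iff.mpr inferInstance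
  exact isIntegral_of_irreducibleSpace_of_isReduced _

/-- A generically quasi-finite morphism locally of finite type from an integral scheme to a
locally Noetherian scheme does not raise dimension. -/
theorem dim_le_of_quasiFiniteAt_generic {Z W : Scheme.{u}} [IsIntegral Z] [IsLocallyNoetherian W]
    (ψ : Z ⟶ W) [LocallyOfFiniteType ψ] (hqf : ψ.QuasiFiniteAt (genericPoint Z)) :
    topologicalKrullDim Z ≤ topologicalKrullDim W := by
  rw [LocalDimSch.dim_eq_iSup_stalk]
  refine iSup_le fun z => ?_
  obtain ⟨n, hn⟩ := ResFieldBridge.exists_nat_trdeg_residueField ψ z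
  have h0 := AffSpEquidim.trdeg_eq_zero_of_quasiFiniteAt ψ (genericPoint Z) hqf
  have key := Groth.Agent.S9687.result ψ z n 0 hn (by
    intro ξ hξ _
    have hξ' : closure ({ξ} : Set Z) = Set.univ := by
      rw [irreducibleComponents_eq_singleton] at hξ
      exact hξ
    have hgen : IsGenericPoint ξ (Set.univ : Set Z) := hξ'
    have : ξ = genericPoint Z := hgen.eq (genericPoint_spec Z)
    rw [this]
    exact h0.le)
  have h1 : ringKrullDim (Z.presheaf.stalk z) ≤ ringKrullDim (Z.presheaf.stalk z) + (n : WithBot ℕ∞) := by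
    refine le_add_of_nonneg_right ?_
    exact_mod_cast Nat.zero_le n
  have h2 : ringKrullDim (W.presheaf.stalk (ψ z)) ≤ topologicalKrullDim W := by
    rw [LocalDimSch.dim_eq_iSup_stalk]
    exact le_iSup (fun w => ringKrullDim (W.presheaf.stalk w)) (ψ z)
  refine h1.trans (le_trans key ?_)
  simpa using h2

open Groth.Agent.Helper16 in
/-- **S17653**: a proper morphism between locally Noetherian schemes of the same pure dimension
having a point isolated in its fibre has image of full dimension. -/
theorem main (X Y : Scheme.{u}) [IsLocallyNoetherian X] [IsLocallyNoetherian Y] (π : X ⟶ Y)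
    [IsProper π] (d : WithBot ℕ∞)
    (hX : ∀ Z ∈ irreducibleComponents ↥X, topologicalKrullDim ↥Z = d)
    (hY : ∀ Z ∈ irreducibleComponents ↥Y, topologicalKrullDim ↥Z = d)
    (x : ↥X) (hx : ∃ U : X.Opens, x ∈ U ∧ ∀ x' ∈ U, π x' = π x → x' = x) :
    topologicalKrullDim ↥(Set.range (fun z : ↥X => π z)) = topologicalKrullDim ↥Y := by
  apply le_antisymm (topologicalKrullDim_subspace_le Y _)
  have hYd : topologicalKrullDim Y ≤ d := by
    refine (DimFT.dim_le_iSup_closure Y).trans (iSup_le fun t => ?_)
    obtain ⟨Z, hZ, hsub⟩ := exists_mem_irreducibleComponents_subset_of_isIrreducible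
      (closure ({t} : Set Y)) isIrreducible_singleton.closure
    rw [← hY Z hZ]
    exact FTDim.dim_mono hsub
  refine hYd.trans ?_
  obtain ⟨ξ, hξ⟩ := QuasiSober.sober (isIrreducible_irreducibleComponent (x := x))
    isClosed_irreducibleComponent
  have hcomp : closure ({ξ} : Set X) ∈ irreducibleComponents X := by
    rw [hξ.def]; exact irreducibleComponent_mem_irreducibleComponents x
  obtain ⟨Z', i, hi, hZint, hrange, hgen⟩ := exists_integral_closure' X ξ
  have hxZ : x ∈ Set.range i := by rw [hrange, hξ.def]; exact mem_irreducibleComponent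
  obtain ⟨z₀, hz₀⟩ := hxZ
  obtain ⟨φ, hφ⟩ : ∃ φ : Z' ⟶ Y, φ = i ≫ π := ⟨_, rfl⟩
  haveI : QuasiCompact φ := by rw [hφ]; infer_instance
  haveI : LocallyOfFiniteType φ := by rw [hφ]; infer_instance
  haveI : IsIntegral φ.image := isIntegral_image φ
  haveI : IsLocallyNoetherian φ.image := LocallyOfFiniteType.isLocallyNoetherian φ.imageι
  obtain ⟨ψ, hψ0⟩ : ∃ ψ : Z' ⟶ φ.image, ψ = φ.toImage := ⟨_, rfl⟩
  have hψ : ψ ≫ φ.imageι = φ := by rw [hψ0]; exact φ.toImage_imageι
  haveI : LocallyOfFiniteType ψ := by
    haveI : LocallyOfFiniteType (ψ ≫ φ.imageι) := by rw [hψ]; infer_instance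
    exact locallyOfFiniteType_of_comp ψ φ.imageι
  have hqf0 : ψ.QuasiFiniteAt z₀ := by
    rw [QFCodim.quasiFiniteAt_iff_isOpen_singleton]
    obtain ⟨U, hxU, hU⟩ := hx
    have : ({⟨z₀, rfl⟩} : Set ↥(ψ ⁻¹' {ψ z₀})) = Subtype.val ⁻¹' (i ⁻¹' (U : Set X)) := by
      ext ⟨z', hz'⟩
      simp only [Set.mem_singleton_iff, Subtype.mk.injEq, Set.mem_preimage]
      constructor
      · rintro rfl; rw [hz₀]; exact hxU
      · intro hz'U
        have h1 : ψ z' = ψ z₀ := hz'
        have h2 : φ z' = φ z₀ := by
          rw [← hψ, Scheme.Hom.comp_apply, Scheme.Hom.comp_apply, h1]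
        have h3 : π (i z') = π x := by
          rw [← hz₀]
          rw [hφ] at h2
          exact h2
        exact i.isEmbedding.injective ((hU _ hz'U h3).trans hz₀.symm)
    rw [this]
    exact (U.isOpen.preimage i.continuous).preimage continuous_subtype_val
  have hqf : ψ.QuasiFiniteAt (genericPoint Z') :=
    ConsFib.genericPoint_mem_of_isOpen (U := {z | ψ.QuasiFiniteAt z}) ψ.isOpen_quasiFiniteAt
      ⟨z₀, hqf0⟩
  have h1 := dim_le_of_quasiFiniteAt_generic ψ hqf
  have h2 : topologicalKrullDim Z' = d := by
    rw [← hX _ hcomp, ← hrange]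
    exact IsHomeomorph.topologicalKrullDim_eq _ i.isEmbedding.toHomeomorph.isHomeomorph
  have h3 : topologicalKrullDim φ.image ≤
      topologicalKrullDim ↥(Set.range (fun z : X => π z)) := by
    rw [IsHomeomorph.topologicalKrullDim_eq _ φ.imageι.isEmbedding.toHomeomorph.isHomeomorph]
    apply FTDim.dim_mono
    rw [Scheme.IdealSheafData.range_subschemeι, Scheme.Hom.support_ker]
    have hcl : IsClosed (Set.range π) := π.isClosedMap.isClosed_range
    refine closure_minimal ?_ hcl
    rintro _ ⟨z, rfl⟩
    rw [hφ]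
    exact ⟨i z, rfl⟩
  rw [← h2]
  exact h1.trans h3

end Groth.Agent.Helper14.ImageDim
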