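import Mathlib
import Groth.Agent.S2073

/-!
# The image of `Spec S → Spec R` contains a nonempty open, for `R` a domain and `R → S` injective
of finite type.
-/

namespace Groth.Agent.Helper14.ImageOpen

universe u

/-- For a domain `R` and an injective ring map of finite type `R → S`, some nonzero `f : R` has
`D(f)` contained in the image of `Spec S → Spec R`. -/
theorem exists_ne_zero_forall_prime_over {R S : Type u} [CommRing R] [IsDomain R] [CommRing S]
    [Algebra R S] [Algebra.FiniteType R S] (hinj : Function.Injective (algebraMap R S)) :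
    ∃ f : R, f ≠ 0 ∧ ∀ p : Ideal R, p.IsPrime → f ∉ p →
      ∃ q : Ideal S, q.IsPrime ∧ q.comap (algebraMap R S) = p := by
  classical
  obtain ⟨d, y, S', hy, hyS', -, hint, f, hf0, hf⟩ := Groth.Agent.S2073.result (R := R) (S := S) hinj
  refine ⟨f, hf0, ?_⟩
  intro p hp hfp
  -- the polynomial subalgebra
  set T : Subalgebra R S := Algebra.adjoin R (Set.range y) with hT
  have hTS' : T ≤ S' := Algebra.adjoin_le (by rintro _ ⟨i, rfl⟩; exact hyS' i)
  let e : MvPolynomial (Fin d) R ≃ₐ[R] T := hy.aevalEquiv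
  -- prime of `T` over `p`
  obtain ⟨⟨Pmv, hPmv⟩, hPmvp⟩ := MvPolynomial.comap_C_surjective (σ := Fin d) ⟨p, hp⟩
  have hPmvp' : Pmv.comap (MvPolynomial.C : R →+* MvPolynomial (Fin d) R) = p :=
    congrArg PrimeSpectrum.asIdeal hPmvp
  set P₀ : Ideal T := Pmv.comap (e.symm : T →+* MvPolynomial (Fin d) R) with hP₀
  haveI : P₀.IsPrime := Ideal.comap_isPrime _ _
  have hP₀p : P₀.comap (algebraMap R T) = p := by
    rw [hP₀, Ideal.comap_comap, ← hPmvp']
    congr 1
    ext r
    simp
  -- `S'` as an integral `T`-algebra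
  letI : Algebra T S' := (Subalgebra.inclusion hTS').toRingHom.toAlgebra
  have halgTS' : ∀ t : T, ((algebraMap T S' t : S') : S) = (t : S) := fun t => rfl
  haveI : IsScalarTower R T S' := IsScalarTower.of_algebraMap_eq (fun r => by
    apply Subtype.ext
    rw [halgTS']
    rfl)
  haveI : IsScalarTower T S' S := IsScalarTower.of_algebraMap_eq (fun t => rfl)
  haveI : Algebra.IsIntegral T S' := by
    refine ⟨fun s => ?_⟩
    have h1 : IsIntegral T ((IsScalarTower.toAlgHom T S' S) s) := hint s.1 s.2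
    exact (isIntegral_algHom_iff (IsScalarTower.toAlgHom T S' S)
      (by intro a b hab; exact Subtype.ext hab)).mp h1
  have hinjTS' : Function.Injective (algebraMap T S') := by
    intro a b hab
    apply Subtype.ext
    rw [← halgTS', ← halgTS', hab]
  obtain ⟨P', -, hP'prime, hP'P₀⟩ := Ideal.exists_ideal_over_prime_of_isIntegral P₀
    (⊥ : Ideal S') (by
      rw [← RingHom.ker_eq_comap_bot, (RingHom.injective_iff_ker_eq_bot _).mp hinjTS']
      exact bot_le)
  have hP'p : P'.comap (algebraMap R S') = p := by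
    rw [IsScalarTower.algebraMap_eq R T S', ← Ideal.comap_comap, hP'P₀, hP₀p]
  have hfP' : algebraMap R S' f ∉ P' := by
    intro h
    apply hfp
    rw [← hP'p]
    exact h
  -- key claim
  have hclaim : ∀ x ∈ p.map (algebraMap R S), ∃ n : ℕ, ∃ z ∈ P', (z : S) = f ^ n • x := by
    intro x hx
    induction hx using Submodule.span_induction with
    | mem x hx =>
      obtain ⟨a, ha, rfl⟩ := hx
      refine ⟨0, algebraMap R S' a, ?_, ?_⟩
      · have : a ∈ P'.comap (algebraMap R S') := by rw [hP'p]; exact ha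
        exact this
      · rw [pow_zero, one_smul]; rfl
    | zero => exact ⟨0, 0, zero_mem _, by simp⟩
    | add x y _ _ hx hy =>
      obtain ⟨n, z, hz, hzx⟩ := hx
      obtain ⟨m, w, hw, hwy⟩ := hy
      refine ⟨n + m, algebraMap R S' (f ^ m) * z + algebraMap R S' (f ^ n) * w,
        add_mem (Ideal.mul_mem_left _ _ hz) (Ideal.mul_mem_left _ _ hw), ?_⟩
      push_cast
      rw [hzx, hwy, smul_add, pow_add]
      simp only [Algebra.smul_def, map_mul, map_pow]
      ring
    | smul s x _ hx =>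
      obtain ⟨n, z, hz, hzx⟩ := hx
      obtain ⟨k, hk⟩ := hf s
      refine ⟨n + k, ⟨f ^ k • s, hk⟩ * z, Ideal.mul_mem_left _ _ hz, ?_⟩
      push_cast
      rw [hzx, pow_add]
      simp only [Algebra.smul_def, map_mul, map_pow, Algebra.algebraMap_self, RingHom.id_apply]
      ring
  -- conclude via `comap_map_eq_self_iff_of_isPrime`
  apply (Ideal.comap_map_eq_self_iff_of_isPrime p).mp
  refine le_antisymm ?_ Ideal.le_comap_map
  intro r hr
  obtain ⟨n, z, hz, hzr⟩ := hclaim _ hr
  have hz' : z = algebraMap R S' (f ^ n * r) := by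
    apply Subtype.ext
    rw [hzr, Algebra.smul_def, ← map_mul]
    rfl
  rw [hz'] at hz
  have h2 : f ^ n * r ∈ p := by
    rw [← hP'p]; exact hz
  rcases hp.mem_or_mem h2 with h | h
  · exact absurd (hp.mem_of_pow_mem n h) hfp
  · exact h

/-- Relative version: for `R → S` of finite type, a prime `P` of `S` and `g ∉ P`, the image of
`V(P) ∩ D(g)` in `Spec R` contains `V(p) ∩ D(f)` for some `f ∉ p = P ∩ R`. -/
theorem exists_notMem_forall_prime_over {R S : Type u} [CommRing R] [CommRing S] [Algebra R S]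
    [Algebra.FiniteType R S] (P : Ideal S) [P.IsPrime] (g : S) (hg : g ∉ P) :
    ∃ f : R, f ∉ P.comap (algebraMap R S) ∧ ∀ x : Ideal R, x.IsPrime →
      P.comap (algebraMap R S) ≤ x → f ∉ x →
      ∃ Q : Ideal S, Q.IsPrime ∧ P ≤ Q ∧ g ∉ Q ∧ Q.comap (algebraMap R S) = x := by
  classical
  set p := P.comap (algebraMap R S) with hp
  have hgbar : Ideal.Quotient.mk P g ≠ 0 := by rwa [Ne, Ideal.Quotient.eq_zero_iff_mem]
  let S₂ := Localization.Away (Ideal.Quotient.mk P g)
  haveI : Algebra.FiniteType R (S ⧸ P) :=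
    Algebra.FiniteType.of_surjective (Ideal.Quotient.mkₐ R P) Ideal.Quotient.mk_surjective
  haveI : Algebra.FiniteType (R ⧸ p) (S ⧸ P) :=
    Algebra.FiniteType.of_restrictScalars_finiteType R (R ⧸ p) (S ⧸ P)
  haveI : Algebra.FiniteType (S ⧸ P) S₂ :=
    IsLocalization.finiteType_of_monoid_fg (Submonoid.powers (Ideal.Quotient.mk P g)) S₂
  haveI : Algebra.FiniteType (R ⧸ p) S₂ := Algebra.FiniteType.trans (S := S ⧸ P) inferInstance inferInstance
  have hinj : Function.Injective (algebraMap (R ⧸ p) S₂) := by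
    rw [IsScalarTower.algebraMap_eq (R ⧸ p) (S ⧸ P) S₂, RingHom.coe_comp]
    exact Function.Injective.comp (IsLocalization.injective S₂
      (powers_le_nonZeroDivisors_of_noZeroDivisors hgbar)) Ideal.algebraMap_quotient_injective
  obtain ⟨fbar, hfbar0, hfbar⟩ := exists_ne_zero_forall_prime_over hinj
  obtain ⟨f, rfl⟩ := Ideal.Quotient.mk_surjective fbar
  refine ⟨f, by rwa [Ne, Ideal.Quotient.eq_zero_iff_mem] at hfbar0, ?_⟩
  intro x hx hpx hfx
  have hxbar : (x.map (Ideal.Quotient.mk p)).IsPrime :=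
    Ideal.map_isPrime_of_surjective Ideal.Quotient.mk_surjective (by rwa [Ideal.mk_ker])
  have hcomap : (x.map (Ideal.Quotient.mk p)).comap (Ideal.Quotient.mk p) = x := by
    rw [Ideal.comap_map_of_surjective _ Ideal.Quotient.mk_surjective, ← RingHom.ker_eq_comap_bot,
      Ideal.mk_ker, sup_eq_left.mpr hpx]
  obtain ⟨q, hq, hqx⟩ := hfbar _ hxbar (by intro h; apply hfx; rw [← hcomap]; exact h)
  have halg : ∀ s : S, algebraMap S S₂ s = algebraMap (S ⧸ P) S₂ (Ideal.Quotient.mk P s) :=
    fun s => IsScalarTower.algebraMap_apply S (S ⧸ P) S₂ s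
  refine ⟨q.comap (algebraMap S S₂), Ideal.comap_isPrime _ _, ?_, ?_, ?_⟩
  · intro s hs
    change algebraMap S S₂ s ∈ q
    rw [halg, Ideal.Quotient.eq_zero_iff_mem.mpr hs, map_zero]
    exact zero_mem _
  · intro h
    change algebraMap S S₂ g ∈ q at h
    rw [halg] at h
    exact hq.ne_top (Ideal.eq_top_of_isUnit_mem _ h
      (IsLocalization.Away.algebraMap_isUnit (Ideal.Quotient.mk P g)))
  · rw [Ideal.comap_comap, ← IsScalarTower.algebraMap_eq R S S₂,
      IsScalarTower.algebraMap_eq R (R ⧸ p) S₂, ← Ideal.comap_comap, hqx]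
    exact hcomap

end Groth.Agent.Helper14.ImageOpen
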