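import Mathlib
import Groth.Prelude.Def_Smoothing

/-!
# Ind-smooth algebras: flatness and base change of integral closure
-/

set_option linter.unnecessarySimpa false

namespace Groth.Agent.Helper14.IndSm

open TensorProduct

universe u

variable {R : Type u} [CommRing R] {S : Type u} [CommRing S] [Algebra R S]

/-- Ind-smooth algebras are flat. -/
theorem flat_of_indSmooth (hS : Smoothing.IndSmooth R S) : Module.Flat R S := by
  classical
  rw [Module.Flat.iff_forall_isTrivialRelation]
  intro l f x hfx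
  -- the finitely presented algebra `R[X₁..X_l]/(∑ fᵢ Xᵢ)`
  let rel : MvPolynomial (Fin l) R := ∑ i, MvPolynomial.C (f i) * MvPolynomial.X i
  let I : Ideal (MvPolynomial (Fin l) R) := Ideal.span {rel}
  have hfp : Algebra.FinitePresentation R (MvPolynomial (Fin l) R ⧸ I) :=
    Algebra.FinitePresentation.quotient (Submodule.fg_span_singleton rel)
  let ψ : MvPolynomial (Fin l) R →ₐ[R] S := MvPolynomial.aeval x
  have hψ : ∀ a ∈ I, ψ a = 0 := by
    intro a ha
    have hle : I ≤ RingHom.ker ψ.toRingHom := by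
      rw [Ideal.span_le, Set.singleton_subset_iff]
      show ψ rel = 0
      simp only [rel, ψ, map_sum, map_mul, MvPolynomial.aeval_C, MvPolynomial.aeval_X]
      rw [← hfx]
      exact Finset.sum_congr rfl fun i _ => by rw [Algebra.smul_def]
    exact hle ha
  let φ : (MvPolynomial (Fin l) R ⧸ I) →ₐ[R] S := Ideal.Quotient.liftₐ I ψ hψ
  obtain ⟨B, _, _, hB, g, h, hgh⟩ := hS (MvPolynomial (Fin l) R ⧸ I) hfp φ
  have hflat : Module.Flat R B := inferInstance
  let b : Fin l → B := fun i => g (Ideal.Quotient.mk I (MvPolynomial.X i))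
  have hb : ∑ i, f i • b i = 0 := by
    have : g (Ideal.Quotient.mk I rel) = 0 := by
      have h0 : Ideal.Quotient.mk I rel = 0 :=
        Ideal.Quotient.eq_zero_iff_mem.mpr (Ideal.subset_span (Set.mem_singleton rel))
      rw [h0, map_zero]
    rw [← this]
    simp only [rel, b, map_sum, map_mul]
    refine Finset.sum_congr rfl fun i _ => ?_
    rw [Algebra.smul_def]
    congr 1
    have h1 : (Ideal.Quotient.mk I) (MvPolynomial.C (f i)) =
        algebraMap R (MvPolynomial (Fin l) R ⧸ I) (f i) := rfl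
    rw [h1, AlgHom.commutes]
  obtain ⟨k, a, y, hy1, hy2⟩ := (Module.Flat.iff_forall_isTrivialRelation.mp hflat) hb
  refine ⟨k, a, fun j => h (y j), fun i => ?_, hy2⟩
  have hx : x i = h (b i) := by
    have : h (g (Ideal.Quotient.mk I (MvPolynomial.X i))) = φ (Ideal.Quotient.mk I (MvPolynomial.X i)) := by
      rw [← hgh]; rfl
    rw [this]
    simp [φ, ψ]
  rw [hx, hy1 i, map_sum]
  exact Finset.sum_congr rfl fun j _ => by rw [map_smul]

/-- Descent of the vanishing of a tensor to a finitely presented stage: if `w ∈ A₀ ⊗ B` dies in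
`S ⊗ B` with `S` flat, then it already dies in `A₁ ⊗ B` for some finitely presented `A₁` between
`A₀` and `S`. -/
theorem exists_fp_factor_of_map_eq_zero [Module.Flat R S] {A₀ : Type u} [CommRing A₀] [Algebra R A₀]
    [Algebra.FinitePresentation R A₀] (B : Type u) [CommRing B] [Algebra R B]
    (φ₀ : A₀ →ₐ[R] S) (w : A₀ ⊗[R] B)
    (hw : Algebra.TensorProduct.map φ₀ (AlgHom.id R B) w = 0) :
    ∃ (A₁ : Type u) (_ : CommRing A₁) (_ : Algebra R A₁) (_ : Algebra.FinitePresentation R A₁)
      (g : A₀ →ₐ[R] A₁) (φ₁ : A₁ →ₐ[R] S), φ₁.comp g = φ₀ ∧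
        Algebra.TensorProduct.map g (AlgHom.id R B) w = 0 := by
  classical
  obtain ⟨F, hF⟩ := TensorProduct.exists_finset w
  let m : F → B := fun i => i.1.2
  let n : F → S := fun i => φ₀ i.1.1
  have hmn : ∑ i, m i ⊗ₜ[R] n i = (0 : B ⊗[R] S) := by
    have h1 := congrArg (TensorProduct.comm R S B) hw
    rw [hF, map_sum, map_sum, map_zero] at h1
    rw [← h1, ← Finset.sum_coe_sort F]
    refine Finset.sum_congr rfl fun i _ => ?_
    simp [m, n]
  have hinj : Function.Injective
      (LinearMap.rTensor S (Submodule.span R (Set.range m)).subtype) :=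
    Module.Flat.rTensor_preserves_injective_linearMap _ (Submodule.injective_subtype _)
  obtain ⟨k, a, y, hy1, hy2⟩ :=
    TensorProduct.vanishesTrivially_of_sum_tmul_eq_zero_of_rTensor_injective R hinj hmn
  let gen : F → MvPolynomial (Fin k) A₀ :=
    fun i => MvPolynomial.C i.1.1 - ∑ j, (a i j) • MvPolynomial.X j
  let I : Ideal (MvPolynomial (Fin k) A₀) := Ideal.span (Set.range gen)
  have : Algebra.FinitePresentation R (MvPolynomial (Fin k) A₀) :=
    Algebra.FinitePresentation.trans R A₀ _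
  have hfp : Algebra.FinitePresentation R (MvPolynomial (Fin k) A₀ ⧸ I) :=
    Algebra.FinitePresentation.quotient (Submodule.fg_span (Set.finite_range gen))
  let ψ : MvPolynomial (Fin k) A₀ →ₐ[R] S :=
    { MvPolynomial.eval₂Hom (φ₀ : A₀ →+* S) y with
      commutes' := fun r => by
        show MvPolynomial.eval₂Hom (φ₀ : A₀ →+* S) y (algebraMap R (MvPolynomial (Fin k) A₀) r) =
          algebraMap R S r
        rw [IsScalarTower.algebraMap_apply R A₀ (MvPolynomial (Fin k) A₀),
          MvPolynomial.algebraMap_eq, MvPolynomial.eval₂Hom_C]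
        simp }
  have hψC : ∀ p : A₀, ψ (MvPolynomial.C p) = φ₀ p := fun p => by
    show MvPolynomial.eval₂Hom (φ₀ : A₀ →+* S) y (MvPolynomial.C p) = φ₀ p
    rw [MvPolynomial.eval₂Hom_C]; rfl
  have hψX : ∀ j, ψ (MvPolynomial.X j) = y j := fun j => by
    show MvPolynomial.eval₂Hom (φ₀ : A₀ →+* S) y (MvPolynomial.X j) = y j
    rw [MvPolynomial.eval₂Hom_X']
  have hψ : ∀ p ∈ I, ψ p = 0 := by
    intro p hp
    have hle : I ≤ RingHom.ker ψ.toRingHom := by
      rw [Ideal.span_le]
      rintro _ ⟨i, rfl⟩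
      show ψ (gen i) = 0
      simp only [gen, map_sub, map_sum, map_smul, hψC, hψX]
      rw [sub_eq_zero]
      exact hy1 i
    exact hle hp
  let g : A₀ →ₐ[R] (MvPolynomial (Fin k) A₀ ⧸ I) :=
    (Ideal.Quotient.mkₐ R I).comp (IsScalarTower.toAlgHom R A₀ (MvPolynomial (Fin k) A₀))
  let φ₁ : (MvPolynomial (Fin k) A₀ ⧸ I) →ₐ[R] S := Ideal.Quotient.liftₐ I ψ hψ
  refine ⟨MvPolynomial (Fin k) A₀ ⧸ I, inferInstance, inferInstance, hfp, g, φ₁, ?_, ?_⟩
  · ext p
    show φ₁ (Ideal.Quotient.mk I (algebraMap A₀ _ p)) = φ₀ p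
    rw [MvPolynomial.algebraMap_eq]
    show ψ (MvPolynomial.C p) = φ₀ p
    exact hψC p
  · have hg : ∀ i : F, g i.1.1 = ∑ j, (a i j) • Ideal.Quotient.mk I (MvPolynomial.X j) := by
      intro i
      have h0 : Ideal.Quotient.mk I (gen i) = 0 :=
        Ideal.Quotient.eq_zero_iff_mem.mpr (Ideal.subset_span ⟨i, rfl⟩)
      simp only [gen, map_sub, map_sum, sub_eq_zero] at h0
      show Ideal.Quotient.mk I (algebraMap A₀ _ i.1.1) = _
      rw [MvPolynomial.algebraMap_eq, h0]
      refine Finset.sum_congr rfl fun j _ => ?_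
      exact map_smul (Ideal.Quotient.mkₐ R I) _ _
    rw [hF, map_sum, ← Finset.sum_coe_sort F]
    calc ∑ i : F, (Algebra.TensorProduct.map g (AlgHom.id R B)) (i.1.1 ⊗ₜ[R] i.1.2)
        = ∑ i : F, ∑ j, Ideal.Quotient.mk I (MvPolynomial.X j) ⊗ₜ[R] ((a i j) • m i) := by
          refine Finset.sum_congr rfl fun i _ => ?_
          rw [Algebra.TensorProduct.map_tmul, hg i, TensorProduct.sum_tmul]
          refine Finset.sum_congr rfl fun j _ => ?_
          rw [TensorProduct.smul_tmul]
          rfl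
      _ = ∑ j, Ideal.Quotient.mk I (MvPolynomial.X j) ⊗ₜ[R] (∑ i : F, (a i j) • m i) := by
          rw [Finset.sum_comm]
          refine Finset.sum_congr rfl fun j _ => ?_
          rw [TensorProduct.tmul_sum]
      _ = 0 := by
          refine Finset.sum_eq_zero fun j _ => ?_
          rw [hy2 j, TensorProduct.tmul_zero]

/-- Base change along an ind-smooth algebra commutes with integral closure. -/
theorem toIntegralClosure_bijective_of_indSmooth (hS : Smoothing.IndSmooth R S) (B : Type u)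
    [CommRing B] [Algebra R B] :
    Function.Bijective (TensorProduct.toIntegralClosure R S B) := by
  classical
  have hflat : Module.Flat R S := flat_of_indSmooth hS
  refine ⟨TensorProduct.toIntegralClosure_injective_of_flat, ?_⟩
  rintro ⟨y, hy⟩
  obtain ⟨p, hpm, hpy⟩ := hy
  obtain ⟨F, hF⟩ := TensorProduct.exists_finset y
  let Sg : Finset S := F.image Prod.fst ∪ p.coeffs
  let φ₀ : MvPolynomial Sg R →ₐ[R] S := MvPolynomial.aeval (fun σ => (σ : S))
  have hp_lifts : p ∈ Polynomial.lifts (φ₀ : MvPolynomial Sg R →+* S) := by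
    rw [Polynomial.lifts_iff_coeffs_subset_range]
    intro c hc
    exact ⟨MvPolynomial.X ⟨c, Finset.mem_union_right _ hc⟩, by simp [φ₀]⟩
  obtain ⟨q, hqp, -, hqm⟩ := Polynomial.lifts_and_natDegree_eq_and_monic hp_lifts hpm
  have hmem : ∀ i : F, i.1.1 ∈ Sg := fun i =>
    Finset.mem_union_left _ (Finset.mem_image_of_mem Prod.fst i.2)
  let Y₀ : MvPolynomial Sg R ⊗[R] B := ∑ i : F, MvPolynomial.X ⟨i.1.1, hmem i⟩ ⊗ₜ[R] i.1.2
  have hY₀ : Algebra.TensorProduct.map φ₀ (AlgHom.id R B) Y₀ = y := by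
    rw [hF, ← Finset.sum_coe_sort F]
    simp only [Y₀, map_sum, Algebra.TensorProduct.map_tmul]
    refine Finset.sum_congr rfl fun i _ => ?_
    simp [φ₀]
  let w : MvPolynomial Sg R ⊗[R] B :=
    Polynomial.eval₂ (algebraMap (MvPolynomial Sg R) (MvPolynomial Sg R ⊗[R] B)) Y₀ q
  -- compatibility of `map f id` with `eval₂`
  have hcompat : ∀ {A A' : Type u} [CommRing A] [CommRing A'] [Algebra R A] [Algebra R A']
      (f : A →ₐ[R] A') (Y : A ⊗[R] B) (r : Polynomial A),
      Algebra.TensorProduct.map f (AlgHom.id R B) (Polynomial.eval₂ (algebraMap A (A ⊗[R] B)) Y r) =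
        Polynomial.eval₂ (algebraMap A' (A' ⊗[R] B))
          (Algebra.TensorProduct.map f (AlgHom.id R B) Y) (r.map (f : A →+* A')) := by
    intro A A' _ _ _ _ f Y r
    rw [Polynomial.eval₂_map]
    have := Polynomial.hom_eval₂ r (algebraMap A (A ⊗[R] B))
      ((Algebra.TensorProduct.map f (AlgHom.id R B) : A ⊗[R] B →+* A' ⊗[R] B)) Y
    rw [RingHom.coe_coe] at this
    rw [this]
    congr 1
  have hw : Algebra.TensorProduct.map φ₀ (AlgHom.id R B) w = 0 := by
    rw [hcompat, hY₀, hqp]
    exact hpy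
  obtain ⟨A₁, _, _, hfp, g, φ₁, hφ, hgw⟩ := exists_fp_factor_of_map_eq_zero B φ₀ w hw
  obtain ⟨T, _, _, hT, g', h, hgh⟩ := hS A₁ hfp φ₁
  let YT : T ⊗[R] B := Algebra.TensorProduct.map (g'.comp g) (AlgHom.id R B) Y₀
  have hYT : IsIntegral T YT := by
    refine ⟨q.map ((g'.comp g : MvPolynomial Sg R →ₐ[R] T) : MvPolynomial Sg R →+* T),
      hqm.map _, ?_⟩
    rw [← hcompat]
    have h2 : Algebra.TensorProduct.map (g'.comp g) (AlgHom.id R B) w =
        Algebra.TensorProduct.map g' (AlgHom.id R B)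
          (Algebra.TensorProduct.map g (AlgHom.id R B) w) := by
      rw [← AlgHom.comp_apply, ← Algebra.TensorProduct.map_comp]
      simp
    rw [h2, hgw, map_zero]
  obtain ⟨xT, hxT⟩ := (TensorProduct.toIntegralClosure_bijective_of_smooth (R := R) (S := T)
    (B := B)).2 ⟨YT, hYT⟩
  have hxT' : Algebra.TensorProduct.map (AlgHom.id T T) (integralClosure R B).val xT = YT :=
    congrArg Subtype.val hxT
  have key : ∀ x : T ⊗[R] integralClosure R B,
      Algebra.TensorProduct.map (AlgHom.id S S) (integralClosure R B).val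
        (Algebra.TensorProduct.map h (AlgHom.id R (integralClosure R B)) x) =
      Algebra.TensorProduct.map h (AlgHom.id R B)
        (Algebra.TensorProduct.map (AlgHom.id T T) (integralClosure R B).val x) := by
    intro x
    induction x using TensorProduct.induction_on with
    | zero => simp
    | tmul t a => simp
    | add x₁ x₂ h₁ h₂ => simp only [map_add, h₁, h₂]
  refine ⟨Algebra.TensorProduct.map h (AlgHom.id R _) xT, Subtype.ext ?_⟩
  show Algebra.TensorProduct.map (AlgHom.id S S) (integralClosure R B).val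
    (Algebra.TensorProduct.map h (AlgHom.id R (integralClosure R B)) xT) = y
  rw [key, hxT']
  show Algebra.TensorProduct.map h (AlgHom.id R B)
    (Algebra.TensorProduct.map (g'.comp g) (AlgHom.id R B) Y₀) = y
  rw [← AlgHom.comp_apply, ← Algebra.TensorProduct.map_comp, ← hY₀]
  congr 2
  rw [← AlgHom.comp_assoc, hgh, hφ]

end Groth.Agent.Helper14.IndSm
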