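import Mathlib
import Groth.Agent.Lib.Helper16.Sch.FibIso

set_option autoImplicit false
set_option linter.style.haveILetI false
set_option linter.unusedSectionVars false
set_option linter.unusedVariables false
universe u
open CategoryTheory CategoryTheory.Limits AlgebraicGeometry

namespace Groth.Agent.Helper14.IsoLocus

open Groth.Agent.Helper16

variable {X Y S : Scheme.{u}} (f : X ⟶ Y) (g : X ⟶ S) (h : Y ⟶ S) (w : f ≫ h = g)

/-- the base change of `f` (over `S`) along `a : T ⟶ S`. -/
noncomputable abbrev bc {T : Scheme.{u}} (a : T ⟶ S) : pullback g a ⟶ pullback h a :=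
  pullback.map g a h a f (𝟙 _) (𝟙 _) ((Category.comp_id g).trans w.symm)
    ((Category.comp_id _).trans (Category.id_comp _).symm)

/-- the comparison `Y ×_S T ⟶ Y ×_S T₀` over `c : T ⟶ T₀`. -/
noncomputable abbrev mY {T T₀ : Scheme.{u}} (c : T ⟶ T₀) (b : T₀ ⟶ S) :
    pullback h (c ≫ b) ⟶ pullback h b :=
  pullback.map h (c ≫ b) h b (𝟙 _) c (𝟙 _) (by simp) (by simp)

include w in
theorem bc_fst {T : Scheme.{u}} (a : T ⟶ S) :
    bc f g h w a ≫ pullback.fst h a = pullback.fst g a ≫ f := pullback.lift_fst _ _ _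

include w in
theorem bc_snd {T : Scheme.{u}} (a : T ⟶ S) :
    bc f g h w a ≫ pullback.snd h a = pullback.snd g a :=
  (pullback.lift_snd _ _ _).trans (Category.comp_id _)

theorem mY_fst {T T₀ : Scheme.{u}} (c : T ⟶ T₀) (b : T₀ ⟶ S) :
    mY h c b ≫ pullback.fst h b = pullback.fst h (c ≫ b) :=
  (pullback.lift_fst _ _ _).trans (Category.comp_id _)

theorem mY_snd {T T₀ : Scheme.{u}} (c : T ⟶ T₀) (b : T₀ ⟶ S) :
    mY h c b ≫ pullback.snd h b = pullback.snd h (c ≫ b) ≫ c := pullback.lift_snd _ _ _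

theorem isPullback_mY {T T₀ : Scheme.{u}} (c : T ⟶ T₀) (b : T₀ ⟶ S) :
    IsPullback (mY h c b) (pullback.snd h (c ≫ b)) (pullback.snd h b) c := by
  have right : IsPullback (pullback.fst h b) (pullback.snd h b) h b := IsPullback.of_hasPullback _ _
  have big : IsPullback (pullback.fst h (c ≫ b)) (pullback.snd h (c ≫ b)) h (c ≫ b) :=
    IsPullback.of_hasPullback _ _
  have e1 : mY h c b ≫ pullback.fst h b = pullback.fst h (c ≫ b) :=
    (pullback.lift_fst _ _ _).trans (Category.comp_id _)
  have e2 : mY h c b ≫ pullback.snd h b = pullback.snd h (c ≫ b) ≫ c := pullback.lift_snd _ _ _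
  have big' : IsPullback (mY h c b ≫ pullback.fst h b) (pullback.snd h (c ≫ b)) h (c ≫ b) := by
    rw [e1]; exact big
  exact IsPullback.of_right big' e2 right

include w in
theorem isPullback_bc {T T₀ : Scheme.{u}} (c : T ⟶ T₀) (b : T₀ ⟶ S) :
    IsPullback (mY g c b) (bc f g h w (c ≫ b)) (bc f g h w b) (mY h c b) := by
  have right := FibIso.isPullback_map_over f g h w b
  have big := FibIso.isPullback_map_over f g h w (c ≫ b)
  have e1 : mY g c b ≫ pullback.fst g b = pullback.fst g (c ≫ b) :=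
    (pullback.lift_fst _ _ _).trans (Category.comp_id _)
  have e2 : mY h c b ≫ pullback.fst h b = pullback.fst h (c ≫ b) :=
    (pullback.lift_fst _ _ _).trans (Category.comp_id _)
  have big' : IsPullback (mY g c b ≫ pullback.fst g b) (bc f g h w (c ≫ b)) f
      (mY h c b ≫ pullback.fst h b) := by
    rw [e1, e2]; exact big
  refine IsPullback.of_right big' ?_ right
  apply pullback.hom_ext
  · rw [Category.assoc, Category.assoc, bc_fst, mY_fst, bc_fst, ← Category.assoc, mY_fst]
  · simp only [Category.assoc]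
    rw [bc_snd, mY_snd, mY_snd, ← Category.assoc, bc_snd]

/-- residue field extensions give fpqc maps of spectra. -/
theorem fpqc_residueFieldMap {S' : Scheme.{u}} (a : S' ⟶ S) (s' : S') :
    (@Surjective ⊓ @Flat ⊓ @QuasiCompact : MorphismProperty Scheme.{u})
      (Spec.map (a.residueFieldMap s')) := by
  refine ⟨⟨?_, ?_⟩, inferInstance⟩
  · refine ⟨fun x => ?_⟩
    haveI : Subsingleton (PrimeSpectrum (S.residueField (a s'))) := inferInstance
    exact ⟨(⊥ : PrimeSpectrum (S'.residueField s')), Subsingleton.elim (α := PrimeSpectrum _) _ _⟩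
  · change Flat (Spec.map (a.residueFieldMap s'))
    rw [Flat.SpecMap_iff]
    letI := (a.residueFieldMap s').hom.toAlgebra
    exact RingHom.flat_algebraMap_iff.mpr inferInstance

section Main

variable [IsLocallyNoetherian S] [IsProper g] [IsProper h] [Flat g]

include w in
theorem key (s : S) (hs : IsIso (bc f g h w (S.fromSpecResidueField s))) :
    ∃ U₁ : S.Opens, s ∈ U₁ ∧ (∀ s' ∈ U₁, IsIso (bc f g h w (S.fromSpecResidueField s'))) ∧
      IsIso (f ∣_ (h ⁻¹ᵁ U₁)) := by
  haveI : IsIso (CohIII.fiberMapOver f g h w s) := hs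
  obtain ⟨U₁, hsU₁, hU₁⟩ := FibIso.main_noetherian f g h w s
  refine ⟨U₁, hsU₁, ?_, hU₁⟩
  intro s' hs'
  refine FibIso.isIso_snd_of_isPullback_of_range_subset
    (FibIso.isPullback_map_over f g h w (S.fromSpecResidueField s')) (h ⁻¹ᵁ U₁) ?_ hU₁
  rintro _ ⟨q, rfl⟩
  change h (pullback.fst h (S.fromSpecResidueField s') q) ∈ U₁
  have e1 : h (pullback.fst h (S.fromSpecResidueField s') q) =
      (S.fromSpecResidueField s') (pullback.snd h (S.fromSpecResidueField s') q) :=
    congr($(pullback.condition (f := h) (g := S.fromSpecResidueField s')) q)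
  have e2 : (S.fromSpecResidueField s') (pullback.snd h (S.fromSpecResidueField s') q) = s' := by
    have : (S.fromSpecResidueField s') (pullback.snd h (S.fromSpecResidueField s') q) ∈
        Set.range (S.fromSpecResidueField s') := ⟨_, rfl⟩
    rw [Scheme.range_fromSpecResidueField] at this
    exact this
  rw [e1, e2]
  exact hs'

include w in
theorem main :
    ∃ S₀ : S.Opens, ∀ (S' : Scheme.{u}) (a : S' ⟶ S),
      Set.range a ⊆ (S₀ : Set S) ↔ IsIso (bc f g h w a) := by
  let Uset : Set S := {s | IsIso (bc f g h w (S.fromSpecResidueField s))}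
  have hopen : IsOpen Uset := by
    rw [isOpen_iff_forall_mem_open]
    intro s hs
    obtain ⟨U₁, hsU₁, hU₁sub, -⟩ := key f g h w s hs
    exact ⟨U₁, hU₁sub, U₁.2, hsU₁⟩
  have hiso : IsIso (f ∣_ (h ⁻¹ᵁ ⟨Uset, hopen⟩)) := by
    let 𝒮 : Set Y.Opens := {V | IsIso (f ∣_ V)}
    have hW : IsIso (f ∣_ sSup 𝒮) :=
      Groth.Agent.Helper28.RestrictPB.restrict_sSup (P := MorphismProperty.isomorphisms Scheme)
        f 𝒮 fun V hV => hV
    refine FibNear.restrict_of_le (P := MorphismProperty.isomorphisms Scheme) f ?_ hW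
    intro y hy
    obtain ⟨U₁, hsU₁, -, hU₁⟩ := key f g h w (h y) hy
    exact TopologicalSpace.Opens.mem_sSup.mpr ⟨h ⁻¹ᵁ U₁, hU₁, hsU₁⟩
  refine ⟨⟨Uset, hopen⟩, fun S' a => ⟨fun hr => ?_, fun hi => ?_⟩⟩
  · refine FibIso.isIso_snd_of_isPullback_of_range_subset
      (FibIso.isPullback_map_over f g h w a) (h ⁻¹ᵁ ⟨Uset, hopen⟩) ?_ hiso
    rintro _ ⟨q, rfl⟩
    change h (pullback.fst h a q) ∈ Uset
    have e1 : h (pullback.fst h a q) = a (pullback.snd h a q) :=
      congr($(pullback.condition (f := h) (g := a)) q)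
    rw [e1]
    exact hr ⟨_, rfl⟩
  · rintro _ ⟨s', rfl⟩
    change IsIso (bc f g h w (S.fromSpecResidueField (a s')))
    have hc : Spec.map (a.residueFieldMap s') ≫ S.fromSpecResidueField (a s') =
        S'.fromSpecResidueField s' ≫ a :=
      Scheme.Hom.SpecMap_residueFieldMap_fromSpecResidueField ..
    have h1 : IsIso (bc f g h w (S'.fromSpecResidueField s' ≫ a)) :=
      (MorphismProperty.isomorphisms Scheme).of_isPullback
        (isPullback_bc f g h w (S'.fromSpecResidueField s') a) hi
    have h2 : IsIso (bc f g h w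
        (Spec.map (a.residueFieldMap s') ≫ S.fromSpecResidueField (a s'))) := by
      rw [hc]; exact h1
    have hQ : (@Surjective ⊓ @Flat ⊓ @QuasiCompact : MorphismProperty Scheme.{u})
        (mY h (Spec.map (a.residueFieldMap s')) (S.fromSpecResidueField (a s'))) :=
      MorphismProperty.of_isPullback (isPullback_mY h _ _).flip (fpqc_residueFieldMap a s')
    exact MorphismProperty.DescendsAlong.of_isPullback
      (P := MorphismProperty.isomorphisms Scheme)
      (Q := (@Surjective ⊓ @Flat ⊓ @QuasiCompact : MorphismProperty Scheme.{u}))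
      (isPullback_bc f g h w _ _).flip hQ h2

end Main

/-- the statement of S17076. -/
theorem main_over {S : Scheme.{u}} [IsLocallyNoetherian S] (X Y : Over S) [IsProper X.hom]
    [IsProper Y.hom] [Flat X.hom] (f : X ⟶ Y) :
    ∃ S₀ : S.Opens, ∀ (S' : Scheme.{u}) [IsLocallyNoetherian S'] (h : S' ⟶ S),
      Set.range h ⊆ (S₀ : Set S) ↔ IsIso ((Over.pullback h).map f).left := by
  obtain ⟨S₀, hS₀⟩ := main f.left X.hom Y.hom (Over.w f)
  refine ⟨S₀, fun S' _ a => ?_⟩
  have e : ((Over.pullback a).map f).left = bc f.left X.hom Y.hom (Over.w f) a := by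
    apply pullback.hom_ext
    · rw [bc_fst]; simp only [Over.pullback_map_left]; exact pullback.lift_fst _ _ _
    · rw [bc_snd]; simp only [Over.pullback_map_left]; exact pullback.lift_snd _ _ _
  rw [e]
  exact hS₀ S' a

end Groth.Agent.Helper14.IsoLocus
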