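import Mathlib

set_option autoImplicit false
universe u

namespace Groth.Agent.Helper14

open AlgebraicGeometry CategoryTheory

theorem isOpen_singleton_Spec_aux {F : Scheme.{u}} [IsLocallyNoetherian F] [JacobsonSpace F]
    {R : CommRingCat.{u}} (ι : Spec R ⟶ F) [IsOpenImmersion ι] (y : Spec R)
    (hc : IsClosed ({ι y} : Set F)) (hg : ∀ x' : F, x' ⤳ ι y → x' = ι y) :
    IsOpen ({ι y} : Set F) := by
  have hN : IsNoetherianRing R :=
    isLocallyNoetherian_Spec.mp (isLocallyNoetherian_of_isOpenImmersion ι)
  have hJ : JacobsonSpace (PrimeSpectrum R) :=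
    JacobsonSpace.of_isOpenEmbedding ι.isOpenEmbedding
  have hJR : IsJacobsonRing R := PrimeSpectrum.isJacobsonRing_iff_jacobsonSpace.mpr hJ
  have hinj : Function.Injective ι := ι.isOpenEmbedding.injective
  have hpre : (ι ⁻¹' {ι y} : Set (Spec R)) = {y} := by
    ext z
    simp only [Set.mem_preimage, Set.mem_singleton_iff]
    exact ⟨fun h => hinj h, fun h => by rw [h]⟩
  have hcl : IsClosed ({y} : Set (PrimeSpectrum R)) := by
    have := hc.preimage ι.continuous
    rwa [hpre] at this
  have hst : StableUnderGeneralization ({y} : Set (PrimeSpectrum R)) := by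
    intro a b hab ha
    have ha' : a = y := ha
    subst ha'
    have h1 : ι b ⤳ ι a := hab.map ι.continuous
    exact hinj (hg _ h1)
  have hopen : IsOpen ({y} : Set (PrimeSpectrum R)) := by
    have tf := PrimeSpectrum.isOpen_singleton_tfae_of_isNoetherian_of_isJacobsonRing (R := R) y
    have h := tf.out 2 0
    exact h.mp ⟨hcl, hst⟩
  have h2 : IsOpen (ι '' ({y} : Set (Spec R))) := ι.isOpenEmbedding.isOpenMap _ hopen
  have h3 : ι '' ({y} : Set (Spec R)) = {ι y} := Set.image_singleton
  rwa [h3] at h2

/-- In a locally Noetherian Jacobson scheme, a closed point without proper generizations is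
isolated. -/
theorem isOpen_singleton_of_isClosed_of_generization {F : Scheme.{u}} [IsLocallyNoetherian F]
    [JacobsonSpace F] (x : F) (hc : IsClosed ({x} : Set F)) (hg : ∀ x' : F, x' ⤳ x → x' = x) :
    IsOpen ({x} : Set F) := by
  obtain ⟨i, y, rfl⟩ := F.affineCover.exists_eq x
  have hi : IsOpenImmersion (F.affineCover.f i) := inferInstance
  exact @isOpen_singleton_Spec_aux F _ _ _ (F.affineCover.f i) hi y hc hg

end Groth.Agent.Helper14
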