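import Mathlib
import Groth.Agent.Lib.Helper14.FSSpread

/-!
# The Jacobian criterion with derivations (EGA 0_IV 22.6.5–22.6.7 style)
-/

set_option autoImplicit false
set_option linter.style.haveILetI false
set_option linter.unusedVariables false
universe u

namespace Groth.Agent.Helper14.JacobiDer

open Algebra Algebra.Extension TensorProduct KaehlerDifferential

/-- A finite-dimensional vector space spanned by a set `s` has a basis indexed by `Fin m`
consisting of elements of `s`. -/
theorem exists_basis_fin_of_span {K V : Type*} [Field K] [AddCommGroup V] [Module K V]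
    [FiniteDimensional K V] (s : Set V) (hs : ⊤ ≤ Submodule.span K s) :
    ∃ (m : ℕ) (b : Module.Basis (Fin m) K V), ∀ i, b i ∈ s := by
  classical
  let b₀ := Module.Basis.ofSpan hs
  haveI : Fintype ((linearIndepOn_empty K id).extend (Set.empty_subset s)) :=
    FiniteDimensional.fintypeBasisIndex b₀
  let e := Fintype.equivFin ((linearIndepOn_empty K id).extend (Set.empty_subset s))
  refine ⟨_, b₀.reindex e, fun i => ?_⟩
  rw [Module.Basis.reindex_apply]
  exact Module.Basis.ofSpan_subset hs ⟨_, rfl⟩

/-- Lifting `κ`-valued functionals on a projective module to `B`-valued ones, up to a common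
denominator, so that a prescribed diagonal evaluation matrix has determinant outside `q`. -/
theorem exists_functionals_det_notMem {B : Type*} [CommRing B] (q : Ideal B) [q.IsPrime]
    {κ : Type*} [Field κ] [Algebra B κ] (hker : ∀ x : B, algebraMap B κ x = 0 ↔ x ∈ q)
    (hfrac : ∀ c : κ, ∃ a s : B, s ∉ q ∧ c * algebraMap B κ s = algebraMap B κ a)
    {Ω : Type*} [AddCommGroup Ω] [Module B Ω] [Module.Projective B Ω]
    {m : ℕ} (ω : Fin m → Ω) (Θ : Fin m → Ω →ₗ[B] κ) (γ : κ) (hγ : γ ≠ 0)
    (hΘ : ∀ i j, Θ j (ω i) = if i = j then γ else 0) :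
    ∃ θ : Fin m → Ω →ₗ[B] B, Matrix.det (Matrix.of fun i j => θ j (ω i)) ∉ q := by
  classical
  obtain ⟨s, hs⟩ := Module.projective_def'.mp (inferInstance : Module.Projective B Ω)
  let T : Finset Ω := Finset.univ.biUnion fun i => (s (ω i)).support
  have hrange : ∀ i, s (ω i) ∈ Finsupp.supported B B (T : Set Ω) := by
    intro i
    rw [Finsupp.mem_supported]
    intro n hn
    exact Finset.mem_coe.mpr (Finset.mem_biUnion.mpr ⟨i, Finset.mem_univ i, hn⟩)
  choose nm dn hdn hnd using hfrac
  -- common denominator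
  let c : B := ∏ j : Fin m, ∏ n ∈ T, dn (Θ j n)
  have hcq : c ∉ q := by
    intro hc
    obtain ⟨j, -, hj⟩ := (Ideal.IsPrime.prod_mem_iff).mp hc
    obtain ⟨n, -, hn⟩ := (Ideal.IsPrime.prod_mem_iff).mp hj
    exact hdn _ hn
  have hT : ∀ (j : Fin m), ∀ n ∈ T, ∃ a : B, algebraMap B κ a = algebraMap B κ c * Θ j n := by
    intro j n hn
    obtain ⟨c₁, hc₁⟩ := Finset.dvd_prod_of_mem (fun n => dn (Θ j n)) hn
    obtain ⟨c₂, hc₂⟩ := Finset.dvd_prod_of_mem (fun j : Fin m => ∏ n ∈ T, dn (Θ j n))
      (Finset.mem_univ j)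
    refine ⟨nm (Θ j n) * c₁ * c₂, ?_⟩
    have : c = dn (Θ j n) * c₁ * c₂ := by
      change (∏ j : Fin m, ∏ n ∈ T, dn (Θ j n)) = _
      rw [hc₂, hc₁]
    rw [this, map_mul, map_mul, map_mul, map_mul, ← hnd]
    ring
  let a₀ : Fin m → Ω → B := fun j n => if h : n ∈ T then Classical.choose (hT j n h) else 0
  have ha₀ : ∀ j, ∀ n ∈ T, algebraMap B κ (a₀ j n) = algebraMap B κ c * Θ j n := by
    intro j n hn
    simp only [a₀, dif_pos hn]
    exact Classical.choose_spec (hT j n hn)
  have ha₀' : ∀ j n, n ∉ T → a₀ j n = 0 := by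
    intro j n hn
    simp only [a₀, dif_neg hn]
  let μ : Fin m → (Ω →₀ B) →ₗ[B] B := fun j => Finsupp.linearCombination B (a₀ j)
  have hμ : ∀ j, (Algebra.linearMap B κ) ∘ₗ μ j = (algebraMap B κ c) •
      (Θ j ∘ₗ Finsupp.linearCombination B _root_.id ∘ₗ
      (Finsupp.supported B B (T : Set Ω)).subtype ∘ₗ Finsupp.restrictDom B B (T : Set Ω)) := by
    intro j
    apply Finsupp.lhom_ext
    intro n x
    simp only [LinearMap.comp_apply, LinearMap.smul_apply, μ, Finsupp.linearCombination_single,
      Submodule.subtype_apply, Finsupp.restrictDom_apply, Algebra.linearMap_apply]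
    by_cases hn : n ∈ T
    · rw [Finsupp.filter_single_of_pos _ (by exact Finset.mem_coe.mpr hn),
        Finsupp.linearCombination_single, smul_eq_mul, map_mul, ha₀ j n hn, map_smul, _root_.id]
      simp only [Algebra.smul_def, Algebra.algebraMap_self, RingHom.id_apply]
      ring
    · rw [Finsupp.filter_single_of_neg _ (by exact fun h => hn (Finset.mem_coe.mp h)),
        ha₀' j n hn, smul_zero, map_zero, map_zero, map_zero, smul_zero]
  have hkey : ∀ i j, algebraMap B κ (μ j (s (ω i))) = algebraMap B κ c * Θ j (ω i) := by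
    intro i j
    have h1 := LinearMap.congr_fun (hμ j) (s (ω i))
    simp only [LinearMap.comp_apply, LinearMap.smul_apply, Algebra.linearMap_apply] at h1
    have h2 : ((Finsupp.supported B B (T : Set Ω)).subtype
        (Finsupp.restrictDom B B (T : Set Ω) (s (ω i)))) = s (ω i) := by
      have := LinearMap.congr_fun (Finsupp.restrictDom_comp_subtype (M := B) (R := B) (T : Set Ω))
        ⟨s (ω i), hrange i⟩
      simp only [LinearMap.comp_apply, Submodule.subtype_apply, LinearMap.id_apply] at this
      change ((Finsupp.restrictDom B B (T : Set Ω) (s (ω i)) : _) : Ω →₀ B) = s (ω i)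
      exact congrArg Subtype.val this
    rw [h2] at h1
    have h3 : Finsupp.linearCombination B _root_.id (s (ω i)) = ω i := LinearMap.congr_fun hs (ω i)
    rw [h3, smul_eq_mul] at h1
    exact h1
  refine ⟨fun j => μ j ∘ₗ s, ?_⟩
  intro hdet
  have h1 : algebraMap B κ (Matrix.det (Matrix.of fun i j => (μ j ∘ₗ s) (ω i))) = 0 :=
    (hker _).mpr hdet
  rw [RingHom.map_det] at h1
  have h2 : (algebraMap B κ).mapMatrix (Matrix.of fun i j => (μ j ∘ₗ s) (ω i)) =
      Matrix.diagonal (fun _ : Fin m => algebraMap B κ c * γ) := by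
    ext i j
    simp only [RingHom.mapMatrix_apply, Matrix.map_apply, Matrix.of_apply, LinearMap.comp_apply,
      Matrix.diagonal_apply]
    rw [hkey, hΘ]
    split_ifs <;> simp
  rw [h2, Matrix.det_diagonal, Finset.prod_const] at h1
  have h3 : algebraMap B κ c * γ ≠ 0 :=
    mul_ne_zero (fun h => hcq ((hker c).mp h)) hγ
  exact pow_ne_zero _ h3 h1

section sufficiency

variable {R S : Type u} [CommRing R] [CommRing S] [Algebra R S] (P : Extension.{u} R S)

theorem smul_cotangent_eq_zero (x : P.Ring) (hx : x ∈ P.ker) (c : P.Cotangent) : x • c = 0 := by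
  rw [← algebraMap_smul S x c, RingHom.mem_ker.mp hx, zero_smul]

/-- Sufficiency in the Jacobian criterion: elements `f i` of the kernel generating it up to `s₀`
and derivations `D j` give an element of the retraction ideal. -/
theorem mem_retractionIdeal_of_jacobian {m : ℕ} (f : Fin m → P.Ring) (hf : ∀ i, f i ∈ P.ker)
    (D : Fin m → Derivation R P.Ring P.Ring) (s₀ : P.Ring)
    (hs₀ : ∀ x ∈ P.ker, ∃ b : Fin m → P.Ring, s₀ * x = ∑ i, b i * f i) :
    algebraMap P.Ring S (s₀ * Matrix.det (Matrix.of fun i j => D j (f i))) ∈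
      FSSpread.retractionIdeal P := by
  classical
  set Mx : Matrix (Fin m) (Fin m) P.Ring := Matrix.of fun i j => D j (f i) with hMx
  set Δ := Mx.det with hΔ
  let c : Matrix (Fin m) (Fin m) P.Ring := Mx.transpose.adjugate
  have hc : c * Mx.transpose = Δ • (1 : Matrix (Fin m) (Fin m) P.Ring) := by
    rw [Matrix.adjugate_mul, Matrix.det_transpose]
  let fbar : Fin m → P.Cotangent := fun i => Extension.Cotangent.mk ⟨f i, hf i⟩
  let Dl : Fin m → Ω[P.Ring⁄R] →ₗ[P.Ring] P.Ring := fun j => (D j).liftKaehlerDifferential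
  have hDl : ∀ j x, Dl j (KaehlerDifferential.D R P.Ring x) = D j x := fun j x =>
    Derivation.liftKaehlerDifferential_comp_D (D j) x
  let Λ : Ω[P.Ring⁄R] →ₗ[P.Ring] P.Cotangent :=
    ∑ i, ∑ j, (c i j) • (LinearMap.smulRight (Dl j) (fbar i))
  have hΛ : ∀ w, Λ w = ∑ i, ∑ j, (c i j) • (Dl j w • fbar i) := by
    intro w
    simp only [Λ, LinearMap.sum_apply, LinearMap.smul_apply, LinearMap.smulRight_apply]
  have hΛf : ∀ i₀, Λ (KaehlerDifferential.D R P.Ring (f i₀)) = Δ • fbar i₀ := by
    intro i₀
    rw [hΛ]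
    have h1 : ∀ i, ∑ j, (c i j) • (Dl j (KaehlerDifferential.D R P.Ring (f i₀)) • fbar i) =
        ((c * Mx.transpose) i i₀) • fbar i := by
      intro i
      rw [Matrix.mul_apply, Finset.sum_smul]
      refine Finset.sum_congr rfl fun j _ => ?_
      rw [hDl, smul_smul]
      rfl
    simp only [h1, hc, Matrix.smul_apply, Matrix.one_apply, smul_eq_mul, mul_ite, mul_one,
      mul_zero, ite_smul, zero_smul]
    rw [Finset.sum_ite_eq' Finset.univ i₀]
    simp
  have hker : ∀ (x : P.Ring) (hx : x ∈ P.ker),
      s₀ • Λ (KaehlerDifferential.D R P.Ring x) = (s₀ * Δ) • Extension.Cotangent.mk ⟨x, hx⟩ := by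
    intro x hx
    obtain ⟨b, hb⟩ := hs₀ x hx
    have h1 : s₀ • KaehlerDifferential.D R P.Ring x =
        KaehlerDifferential.D R P.Ring (s₀ * x) - x • KaehlerDifferential.D R P.Ring s₀ := by
      rw [Derivation.leibniz]
      abel
    rw [← map_smul, h1, map_sub, map_smul, smul_cotangent_eq_zero P x hx, sub_zero, hb, map_sum,
      map_sum]
    have h2 : ∀ i, Λ (KaehlerDifferential.D R P.Ring (b i * f i)) = (b i * Δ) • fbar i := by
      intro i
      rw [Derivation.leibniz, map_add, map_smul, map_smul, hΛf,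
        smul_cotangent_eq_zero P (f i) (hf i), add_zero, smul_smul]
    simp only [h2]
    have h3 : Extension.Cotangent.mk (P := P) ⟨x, hx⟩ = Extension.Cotangent.mk ⟨x, hx⟩ := rfl
    have h4 : s₀ • Extension.Cotangent.mk (P := P) ⟨x, hx⟩ = ∑ i, b i • fbar i := by
      have h5 : (∑ i, b i • fbar i) =
          Extension.Cotangent.mk (∑ i, b i • (⟨f i, hf i⟩ : P.ker)) := by
        rw [map_sum]
        refine Finset.sum_congr rfl fun i _ => ?_
        rw [map_smul]
      rw [h5, ← map_smul]
      congr 1
      apply Subtype.ext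
      simp only [SetLike.val_smul, smul_eq_mul, AddSubmonoidClass.coe_finsetSum]
      exact hb
    rw [mul_comm s₀ Δ, mul_smul, h4, Finset.smul_sum]
    refine Finset.sum_congr rfl fun i _ => ?_
    rw [smul_smul, mul_comm]
  refine ⟨algebraMap P.Ring S s₀ • Λ.liftBaseChange S, ?_⟩
  apply LinearMap.ext
  intro y
  obtain ⟨x, rfl⟩ := Extension.Cotangent.mk_surjective y
  simp only [LinearMap.comp_apply, LinearMap.smul_apply, LinearMap.id_apply]
  rw [Extension.cotangentComplex_mk, LinearMap.liftBaseChange_tmul, one_smul, algebraMap_smul,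
    algebraMap_smul]
  exact hker x.1 x.2

end sufficiency

section necessity

variable {R S : Type u} [CommRing R] [CommRing S] [Algebra R S] (P : Extension.{u} R S)

open IsLocalRing in
/-- Choice of `f i ∈ ker` whose images form a basis of `κ ⊗ (ker)_q`. -/
theorem exists_basis_ker [IsNoetherianRing P.Ring] (q : Ideal P.Ring) [q.IsPrime] :
    ∃ (m : ℕ) (f : Fin m → P.ker)
      (b : Module.Basis (Fin m) (ResidueField (Localization.AtPrime q))
        (ResidueField (Localization.AtPrime q) ⊗[Localization.AtPrime q]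
          (P.ker.map (algebraMap P.Ring (Localization.AtPrime q))))),
      ∀ i, b i = 1 ⊗ₜ Algebra.idealMap (Localization.AtPrime q) P.ker (f i) := by
  classical
  haveI : IsNoetherianRing (Localization.AtPrime q) :=
    IsLocalization.isNoetherianRing q.primeCompl _ inferInstance
  haveI : Module.Finite (Localization.AtPrime q)
      (P.ker.map (algebraMap P.Ring (Localization.AtPrime q))) :=
    Module.Finite.of_fg (IsNoetherian.noetherian _)
  let ι := Algebra.idealMap (Localization.AtPrime q) P.ker
  let s : Set (ResidueField (Localization.AtPrime q) ⊗[Localization.AtPrime q]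
      (P.ker.map (algebraMap P.Ring (Localization.AtPrime q)))) :=
    Set.range fun x : P.ker => (1 : ResidueField (Localization.AtPrime q)) ⊗ₜ ι x
  have hs : ⊤ ≤ Submodule.span (ResidueField (Localization.AtPrime q)) s := by
    rintro z -
    induction z using TensorProduct.induction_on with
    | zero => exact Submodule.zero_mem _
    | add a b ha hb => exact Submodule.add_mem _ ha hb
    | tmul c y =>
      obtain ⟨⟨x, t⟩, hxt⟩ := IsLocalizedModule.surj q.primeCompl ι y
      have hunit : IsUnit (algebraMap P.Ring (Localization.AtPrime q) t) :=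
        IsLocalization.map_units _ t
      obtain ⟨u, hu⟩ := hunit
      have hy : y = (u⁻¹ : (Localization.AtPrime q)ˣ).1 • ι x := by
        rw [← hxt, Submonoid.smul_def, ← algebraMap_smul (Localization.AtPrime q) (t : P.Ring) y,
          ← hu, smul_smul, Units.inv_mul, one_smul]
      have h1 : ((u⁻¹ : (Localization.AtPrime q)ˣ).1) • (c ⊗ₜ[Localization.AtPrime q] ι x) =
          (algebraMap (Localization.AtPrime q) (ResidueField (Localization.AtPrime q))
            (u⁻¹ : (Localization.AtPrime q)ˣ).1 * c) •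
            ((1 : ResidueField (Localization.AtPrime q)) ⊗ₜ[Localization.AtPrime q] ι x) := by
        rw [TensorProduct.smul_tmul', TensorProduct.smul_tmul', smul_eq_mul, mul_one,
          Algebra.smul_def]
      rw [hy, TensorProduct.tmul_smul, h1]
      exact Submodule.smul_mem _ _ (Submodule.subset_span ⟨x, rfl⟩)
  obtain ⟨m, b, hb⟩ := exists_basis_fin_of_span s hs
  choose f hf using hb
  exact ⟨m, f, b, fun i => (hf i).symm⟩

open IsLocalRing in
/-- Necessity in the Jacobian criterion. -/
theorem exists_jacobian_of_mem_retractionIdeal [IsNoetherianRing P.Ring]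
    [FormallySmooth R P.Ring] (q : Ideal P.Ring) [q.IsPrime] (hq : P.ker ≤ q) (g' : P.Ring)
    (hgq : g' ∉ q) (hg : algebraMap P.Ring S g' ∈ FSSpread.retractionIdeal P) :
    ∃ (m : ℕ) (f : Fin m → P.Ring) (D : Fin m → Derivation R P.Ring P.Ring),
      (∀ i, f i ∈ P.ker) ∧
      P.ker.map (algebraMap P.Ring (Localization.AtPrime q)) =
        Ideal.span (Set.range fun i => algebraMap P.Ring (Localization.AtPrime q) (f i)) ∧
      Matrix.det (Matrix.of fun i j => D j (f i)) ∉ q := by
  classical
  obtain ⟨lam₀, hlam₀⟩ := hg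
  obtain ⟨m, f, b, hb⟩ := exists_basis_ker P q
  haveI : IsNoetherianRing (Localization.AtPrime q) :=
    IsLocalization.isNoetherianRing q.primeCompl _ inferInstance
  haveI : Module.Finite (Localization.AtPrime q)
      (P.ker.map (algebraMap P.Ring (Localization.AtPrime q))) :=
    Module.Finite.of_fg (IsNoetherian.noetherian _)
  let ι := Algebra.idealMap (Localization.AtPrime q) P.ker
  have hιval : ∀ x : P.ker, ((ι x : P.ker.map (algebraMap P.Ring (Localization.AtPrime q))) :
      Localization.AtPrime q) = algebraMap P.Ring (Localization.AtPrime q) x.1 := fun x => rfl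
  -- (b): the `f i` generate the extended ideal
  have hspan : Submodule.span (Localization.AtPrime q) (Set.range (ι ∘ f)) = ⊤ :=
    IsLocalRing.span_eq_top_of_tmul_eq_basis (ι ∘ f) b (fun i => (hb i).symm)
  have hI : P.ker.map (algebraMap P.Ring (Localization.AtPrime q)) =
      Ideal.span (Set.range fun i => algebraMap P.Ring (Localization.AtPrime q) (f i).1) := by
    have h1 := congrArg (Submodule.map
      (Submodule.subtype (P.ker.map (algebraMap P.Ring (Localization.AtPrime q))))) hspan
    rw [Submodule.map_span, Submodule.map_top, Submodule.range_subtype, ← Set.range_comp] at h1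
    rw [← h1]
    rfl
  -- kernel of `P.Ring → κ`
  have hker : ∀ x : P.Ring,
      algebraMap P.Ring (ResidueField (Localization.AtPrime q)) x = 0 ↔ x ∈ q := by
    intro x
    rw [IsScalarTower.algebraMap_apply P.Ring (Localization.AtPrime q)
      (ResidueField (Localization.AtPrime q))]
    change residue _ _ = 0 ↔ _
    rw [residue_eq_zero_iff, IsLocalization.AtPrime.to_map_mem_maximal_iff _ q]
  have hfrac : ∀ c : ResidueField (Localization.AtPrime q), ∃ a s : P.Ring, s ∉ q ∧
      c * algebraMap P.Ring (ResidueField (Localization.AtPrime q)) s =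
        algebraMap P.Ring (ResidueField (Localization.AtPrime q)) a := by
    intro c
    obtain ⟨l, rfl⟩ := residue_surjective c
    obtain ⟨a, s, rfl⟩ := IsLocalization.exists_mk'_eq q.primeCompl l
    refine ⟨a, s.1, s.2, ?_⟩
    rw [IsScalarTower.algebraMap_apply P.Ring (Localization.AtPrime q)
      (ResidueField (Localization.AtPrime q)),
      IsScalarTower.algebraMap_apply P.Ring (Localization.AtPrime q)
      (ResidueField (Localization.AtPrime q))]
    change residue _ _ * residue _ _ = residue _ _
    rw [← map_mul, IsLocalization.mk'_spec]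
  -- the map `ν : ker/ker² → κ ⊗ I`
  let ν₀ : P.ker →ₗ[P.Ring] (ResidueField (Localization.AtPrime q)) ⊗[Localization.AtPrime q]
      (P.ker.map (algebraMap P.Ring (Localization.AtPrime q))) :=
    ((TensorProduct.mk (Localization.AtPrime q) (ResidueField (Localization.AtPrime q))
      (P.ker.map (algebraMap P.Ring (Localization.AtPrime q))) 1).restrictScalars P.Ring) ∘ₗ ι
  have hν₀ : ∀ x, ν₀ x = (1 : ResidueField (Localization.AtPrime q)) ⊗ₜ ι x := fun x => rfl
  have hν₀kill : P.ker • (⊤ : Submodule P.Ring P.ker) ≤ LinearMap.ker ν₀ := by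
    rw [Submodule.smul_le]
    intro a ha y _
    rw [LinearMap.mem_ker, map_smul, hν₀, TensorProduct.smul_tmul', Algebra.smul_def, mul_one,
      (hker a).mpr (hq ha), TensorProduct.zero_tmul]
  let ν' : P.ker.Cotangent →ₗ[P.Ring] (ResidueField (Localization.AtPrime q))
      ⊗[Localization.AtPrime q] (P.ker.map (algebraMap P.Ring (Localization.AtPrime q))) :=
    Submodule.liftQ _ ν₀ hν₀kill
  let ν : P.Cotangent →ₗ[P.Ring] (ResidueField (Localization.AtPrime q))
      ⊗[Localization.AtPrime q] (P.ker.map (algebraMap P.Ring (Localization.AtPrime q))) :=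
    ν' ∘ₗ P.cotangentEquivCotangentKer.toLinearMap
  have hν : ∀ x : P.ker, ν (Extension.Cotangent.mk x) = ν₀ x := fun x => rfl
  -- the functionals
  let Θ : Fin m → Ω[P.Ring⁄R] →ₗ[P.Ring] ResidueField (Localization.AtPrime q) := fun j =>
    ((b.coord j).restrictScalars P.Ring) ∘ₗ ν ∘ₗ (lam₀.restrictScalars P.Ring) ∘ₗ
      (TensorProduct.mk P.Ring S (Ω[P.Ring⁄R]) 1)
  have hΘ : ∀ i j, Θ j (KaehlerDifferential.D R P.Ring (f i).1) =
      if i = j then algebraMap P.Ring (ResidueField (Localization.AtPrime q)) g' else 0 := by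
    intro i j
    change (b.coord j) (ν (lam₀ ((1 : S) ⊗ₜ[P.Ring] KaehlerDifferential.D R P.Ring (f i).1))) = _
    have h1 : lam₀ ((1 : S) ⊗ₜ[P.Ring] KaehlerDifferential.D R P.Ring (f i).1) =
        g' • Extension.Cotangent.mk (f i) := by
      rw [← Extension.cotangentComplex_mk]
      have := LinearMap.congr_fun hlam₀ (Extension.Cotangent.mk (f i))
      simp only [LinearMap.comp_apply, LinearMap.smul_apply, LinearMap.id_apply] at this
      rw [this, algebraMap_smul]
    rw [h1, map_smul, hν, hν₀, ← hb,
      ← algebraMap_smul (ResidueField (Localization.AtPrime q)) g' (b i), map_smul,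
      Module.Basis.coord_apply, Module.Basis.repr_self, Finsupp.single_apply, smul_eq_mul]
    split_ifs <;> simp
  have hγ : algebraMap P.Ring (ResidueField (Localization.AtPrime q)) g' ≠ 0 :=
    fun h => hgq ((hker g').mp h)
  obtain ⟨θ, hθ⟩ := exists_functionals_det_notMem q hker hfrac
    (fun i => KaehlerDifferential.D R P.Ring (f i).1) Θ _ hγ hΘ
  refine ⟨m, fun i => (f i).1, fun j => (θ j).compDer (KaehlerDifferential.D R P.Ring),
    fun i => (f i).2, hI, ?_⟩
  exact hθ

end necessity

end Groth.Agent.Helper14.JacobiDer
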