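import Mathlib
import Groth.Agent.S9651

/-!
# Closed points and images of constructible sets for finite type maps of Jacobson rings
-/

namespace Groth.Agent.Helper14.JacobsonImage

universe u

open PrimeSpectrum

variable {R S : Type u} [CommRing R] [CommRing S] [Algebra R S]

/-- basic constructible sets are locally closed -/
lemma isLocallyClosed_toSet (C : BasicConstructibleSetData S) : IsLocallyClosed C.toSet := by
  unfold BasicConstructibleSetData.toSet
  rw [Set.diff_eq]
  exact (isClosed_zeroLocus _).isLocallyClosed.inter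
    (isClosed_zeroLocus _).isOpen_compl.isLocallyClosed

/-- In a Jacobson spectrum, a point of a constructible set `E` is closed in `E` iff it is closed. -/
lemma closed_in_iff [IsJacobsonRing S] (E : Set (PrimeSpectrum S))
    (hE : Topology.IsConstructible E) (y : PrimeSpectrum S) (hy : y ∈ E) :
    closure {y} ∩ E = {y} ↔ IsClosed ({y} : Set (PrimeSpectrum S)) := by
  constructor
  · intro h
    obtain ⟨D, rfl⟩ := exists_constructibleSetData_iff.mpr hE
    have hy' := hy
    simp only [ConstructibleSetData.toSet, Set.mem_iUnion, exists_prop] at hy'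
    obtain ⟨C, hCD, hyC⟩ := hy'
    obtain ⟨z, ⟨hz1, hz2⟩, hz3⟩ := nonempty_inter_closedPoints (Z := closure {y} ∩ C.toSet)
      ⟨y, subset_closure rfl, hyC⟩
      (isClosed_closure.isLocallyClosed.inter (isLocallyClosed_toSet C))
    have hz : z ∈ closure {y} ∩ D.toSet := by
      refine ⟨hz1, ?_⟩
      simp only [ConstructibleSetData.toSet, Set.mem_iUnion, exists_prop]
      exact ⟨C, hCD, hz2⟩
    rw [h] at hz
    rw [← Set.mem_singleton_iff.mp hz]
    exact hz3
  · intro h
    rw [h.closure_eq]
    exact Set.inter_eq_left.mpr (Set.singleton_subset_iff.mpr hy)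

/-- Closed points map to closed points for finite type maps out of a Jacobson ring. -/
lemma isClosed_comap [IsJacobsonRing R] [Algebra.FiniteType R S] (y : PrimeSpectrum S)
    (hy : IsClosed ({y} : Set (PrimeSpectrum S))) :
    IsClosed ({comap (algebraMap R S) y} : Set (PrimeSpectrum R)) := by
  rw [isClosed_singleton_iff_isMaximal] at hy ⊢
  haveI := hy
  letI := Ideal.Quotient.field y.asIdeal
  haveI := finite_of_finite_type_of_isJacobsonRing R (S ⧸ y.asIdeal)
  have hint : (algebraMap R (S ⧸ y.asIdeal)).IsIntegral :=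
    algebraMap_isIntegral_iff.mpr inferInstance
  haveI : (⊥ : Ideal (S ⧸ y.asIdeal)).IsMaximal := Ideal.bot_isMaximal
  have := Ideal.isMaximal_comap_of_isIntegral_of_isMaximal' _ hint (⊥ : Ideal (S ⧸ y.asIdeal))
  have h2 : (⊥ : Ideal (S ⧸ y.asIdeal)).comap (algebraMap R (S ⧸ y.asIdeal)) =
      y.asIdeal.comap (algebraMap R S) := by
    rw [IsScalarTower.algebraMap_eq R S (S ⧸ y.asIdeal), ← Ideal.comap_comap]
    congr 1
    rw [Ideal.Quotient.algebraMap_eq, ← RingHom.ker_eq_comap_bot, Ideal.mk_ker]
  rw [h2] at this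
  exact this

/-- A point closed in the image `f(E)` is a closed point. -/
lemma isClosed_of_closed_in_image [IsJacobsonRing R] [Algebra.FiniteType R S]
    (E : Set (PrimeSpectrum S)) (hE : Topology.IsConstructible E) (x : PrimeSpectrum R)
    (hx : x ∈ comap (algebraMap R S) '' E)
    (h : closure {x} ∩ comap (algebraMap R S) '' E = {x}) :
    IsClosed ({x} : Set (PrimeSpectrum R)) := by
  obtain ⟨U, hU, hdense, hsub⟩ := Groth.Agent.S9651.result E hE x hx
  have hne : (U ∩ closure {x}).Nonempty := by
    by_contra hempty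
    rw [Set.not_nonempty_iff_eq_empty] at hempty
    rw [hempty, closure_empty] at hdense
    exact hdense (subset_closure rfl)
  obtain ⟨z, hz1, hz2⟩ := nonempty_inter_closedPoints hne
    (hU.isLocallyClosed.inter isClosed_closure.isLocallyClosed)
  have hz : z ∈ closure {x} ∩ comap (algebraMap R S) '' E := ⟨hz1.2, hsub hz1⟩
  rw [h] at hz
  rw [← Set.mem_singleton_iff.mp hz]
  exact hz2

/-- A closed point in the image `f(E)` is the image of a point closed in `E`. -/
lemma mem_image_closed_of_isClosed [IsJacobsonRing S]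
    (E : Set (PrimeSpectrum S)) (hE : Topology.IsConstructible E) (x : PrimeSpectrum R)
    (hx : x ∈ comap (algebraMap R S) '' E) (hxc : IsClosed ({x} : Set (PrimeSpectrum R))) :
    x ∈ comap (algebraMap R S) '' {y | y ∈ E ∧ closure {y} ∩ E = {y}} := by
  obtain ⟨y, hyE, rfl⟩ := hx
  obtain ⟨D, hD⟩ := exists_constructibleSetData_iff.mpr hE
  have hyD : y ∈ D.toSet := hD ▸ hyE
  simp only [ConstructibleSetData.toSet, Set.mem_iUnion, exists_prop] at hyD
  obtain ⟨C, hCD, hyC⟩ := hyD
  have hcl : IsClosed (comap (algebraMap R S) ⁻¹' {comap (algebraMap R S) y}) :=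
    hxc.preimage (continuous_comap _)
  obtain ⟨z, ⟨hz1, hz2⟩, hz3⟩ := nonempty_inter_closedPoints
    (Z := (comap (algebraMap R S) ⁻¹' {comap (algebraMap R S) y}) ∩ C.toSet)
    ⟨y, rfl, hyC⟩ (hcl.isLocallyClosed.inter (isLocallyClosed_toSet C))
  have hzE : z ∈ E := by
    rw [← hD]
    simp only [ConstructibleSetData.toSet, Set.mem_iUnion, exists_prop]
    exact ⟨C, hCD, hz2⟩
  exact ⟨z, ⟨hzE, (closed_in_iff E hE z hzE).mpr hz3⟩, hz1⟩

end Groth.Agent.Helper14.JacobsonImage
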