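import Mathlib

set_option autoImplicit false
set_option linter.style.haveILetI false
set_option linter.unusedSectionVars false
set_option linter.unusedVariables false

universe u

open CategoryTheory CategoryTheory.Limits AlgebraicGeometry Opposite TopologicalSpace TensorProduct

namespace Groth.Agent.Helper14.K0Aff

section Alg

variable {B A' B'' : Type u} [CommRing B] [CommRing A'] [CommRing B'']

/-- if `A' = B[τ]` is a polynomial ring and `σ : A' → B''` kills `τ` and is injective on `B`, then
`ker σ = (τ)`. -/
theorem ker_le_of_poly (φ : B →+* A') (τ : A')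
    (hbij : Function.Bijective (Polynomial.eval₂RingHom φ τ)) (σ : A' →+* B'')
    (hσφ : Function.Injective (σ.comp φ)) (hστ : σ τ = 0) (a : A') (ha : σ a = 0) :
    ∃ c, a = τ * c := by
  obtain ⟨f, rfl⟩ := hbij.2 a
  have h1 : (σ.comp (Polynomial.eval₂RingHom φ τ)) =
      (σ.comp φ).comp (Polynomial.evalRingHom 0) := by
    apply Polynomial.ringHom_ext
    · intro b
      simp
    · simp [hστ]
  have h2 : (σ.comp φ) (f.eval 0) = 0 := by
    have := congrArg (fun ρ => ρ f) h1
    simp only [RingHom.comp_apply] at this
    rw [RingHom.comp_apply, ← Polynomial.coe_evalRingHom, ← this]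
    exact ha
  have h3 : f.eval 0 = 0 := hσφ (by rw [h2, map_zero])
  have h4 : Polynomial.X ∣ f := by
    rw [Polynomial.X_dvd_iff, Polynomial.coeff_zero_eq_eval_zero, h3]
  obtain ⟨g, rfl⟩ := h4
  refine ⟨Polynomial.eval₂RingHom φ τ g, ?_⟩
  rw [map_mul]
  congr 1
  simp

/-- for a polynomial ring `A' = B[τ]`, multiplication by `τ` has a `B`-linear left inverse. -/
theorem exists_divX (φ : B →+* A') (τ : A')
    (hbij : Function.Bijective (Polynomial.eval₂RingHom φ τ)) :
    ∃ d : A' →+ A', (∀ a, d (τ * a) = a) ∧ (∀ b a, d (φ b * a) = φ b * d a) := by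
  let e : Polynomial B ≃+* A' := RingEquiv.ofBijective _ hbij
  have heC : ∀ b, e (Polynomial.C b) = φ b := fun b => by simp [e]
  have heX : e Polynomial.X = τ := by simp [e]
  let d : A' →+ A' := (e.toAddMonoidHom.comp Polynomial.divX_hom).comp e.symm.toAddMonoidHom
  have hd : ∀ a, d a = e (Polynomial.divX (e.symm a)) := fun a => rfl
  refine ⟨d, ?_, ?_⟩
  · intro a
    rw [hd]
    have : e.symm (τ * a) = Polynomial.X * e.symm a := by
      apply e.injective
      rw [e.apply_symm_apply, map_mul, heX, e.apply_symm_apply]
    have h2 : ∀ q : Polynomial B, Polynomial.divX (Polynomial.X * q) = q := by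
      intro q
      ext n
      rw [Polynomial.coeff_divX, Polynomial.coeff_X_mul]
    rw [this, h2, e.apply_symm_apply]
  · intro b a
    rw [hd, hd]
    have : e.symm (φ b * a) = Polynomial.C b * e.symm a := by
      apply e.injective
      rw [e.apply_symm_apply, map_mul, heC, e.apply_symm_apply]
    rw [this, Polynomial.divX_C_mul, map_mul, heC]

end Alg

section Tensor

variable {B A' : Type u} [CommRing B] [CommRing A'] [Algebra B A']
  (N₀ : Type u) [AddCommGroup N₀] [Module B N₀]

theorem tensor_smul_injective (τ : A') (d : A' →+ A') (hd : ∀ a, d (τ * a) = a)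
    (hlin : ∀ b a, d (algebraMap B A' b * a) = algebraMap B A' b * d a)
    (x : A' ⊗[B] N₀) (hx : τ • x = 0) : x = 0 := by
  let dl : A' →ₗ[B] A' :=
    { toFun := d
      map_add' := map_add d
      map_smul' := fun b a => by
        rw [Algebra.smul_def, hlin, RingHom.id_apply, Algebra.smul_def] }
  have key : ∀ y : A' ⊗[B] N₀, LinearMap.rTensor N₀ dl (τ • y) = y := by
    intro y
    induction y using TensorProduct.induction_on with
    | zero => simp
    | tmul a n =>
      rw [TensorProduct.smul_tmul', LinearMap.rTensor_tmul, smul_eq_mul]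
      change d (τ * a) ⊗ₜ[B] n = _
      rw [hd]
    | add y z hy hz => rw [smul_add, map_add, hy, hz]
  rw [← key x, hx, map_zero]

end Tensor

end Groth.Agent.Helper14.K0Aff
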