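import Mathlib
import Groth.Agent.Lib.Helper14.K0AffA

set_option autoImplicit false
set_option linter.style.haveILetI false
set_option linter.unusedSectionVars false
set_option linter.unusedVariables false

universe u

open CategoryTheory CategoryTheory.Limits AlgebraicGeometry Opposite TopologicalSpace TensorProduct

namespace Groth.Agent.Helper14.K0Aff

section Chart

lemma appLE_congr_hom {X Y : Scheme.{u}} {f f' : X ⟶ Y} (h : f = f') (U : Y.Opens) (V : X.Opens)
    (e : V ≤ f ⁻¹ᵁ U) : f.appLE U V e = f'.appLE U V (h ▸ e) := by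
  subst h; rfl

variable (X : Scheme.{u})

/-- the coordinate of the affine line, restricted to the preimage of `U`. -/
noncomputable def τ (U : X.Opens) :
    Γ(𝔸(ULift.{u} (Fin 1); X), (𝔸(ULift.{u} (Fin 1); X) ↘ X) ⁻¹ᵁ U) :=
  (𝔸(ULift.{u} (Fin 1); X)).presheaf.map (homOfLE le_top).op
    (AffineSpace.coord X (ULift.up (0 : Fin 1)))

variable {X}

theorem chart_mv_bijective {U : X.Opens} (hU : IsAffineOpen U) :
    Function.Bijective (MvPolynomial.eval₂Hom ((𝔸(ULift.{u} (Fin 1); X) ↘ X).app U).hom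
      (fun _ : ULift.{u} (Fin 1) => τ X U)) := by
  haveI : IsAffine U := hU
  let n := ULift.{u} (Fin 1)
  let p : 𝔸(n; X) ⟶ X := 𝔸(n; X) ↘ X
  let pU : 𝔸(n; U) ⟶ U := 𝔸(n; U) ↘ U
  let g : 𝔸(n; U) ⟶ 𝔸(n; X) := AffineSpace.map n U.ι
  have hpb : IsPullback g pU p U.ι := AffineSpace.isPullback_map (n := n) U.ι
  haveI : IsOpenImmersion g := MorphismProperty.of_isPullback (P := @IsOpenImmersion) hpb.flip
    inferInstance
  let W : (𝔸(n; X)).Opens := p ⁻¹ᵁ U
  have hgW : g ⁻¹ᵁ W = ⊤ := by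
    change g ⁻¹ᵁ (p ⁻¹ᵁ U) = ⊤
    rw [← Scheme.Hom.comp_preimage, hpb.w, Scheme.Hom.comp_preimage, Scheme.Opens.ι_preimage_self]
    rfl
  have hWr : W ≤ g.opensRange := by
    intro y hy
    have hy' : p y ∈ Set.range U.ι := by
      rw [Scheme.Opens.range_ι]
      exact hy
    have h1 : Set.range g = p ⁻¹' Set.range U.ι := by
      have h2 : g = hpb.isoPullback.hom ≫ pullback.fst p U.ι := (hpb.isoPullback_hom_fst).symm
      have hs : Function.Surjective ⇑hpb.isoPullback.hom := hpb.isoPullback.hom.surjective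
      rw [h2, Scheme.Hom.comp_base, TopCat.coe_comp, Set.range_comp,
        Set.range_eq_univ.mpr hs, Set.image_univ, Scheme.Pullback.range_fst]
    change y ∈ Set.range g
    rw [h1]
    exact hy'
  have hle : (⊤ : (𝔸(n; U)).Opens) ≤ g ⁻¹ᵁ W := le_of_eq hgW.symm
  let ψ : Γ(𝔸(n; X), W) ⟶ Γ(𝔸(n; U), ⊤) := g.appLE W ⊤ hle
  haveI : IsIso ψ := by
    haveI := Scheme.Hom.isIso_app g W hWr
    have e1 : (homOfLE hle : (⊤ : (𝔸(n; U)).Opens) ⟶ g ⁻¹ᵁ W) = eqToHom hgW.symm :=
      Subsingleton.elim _ _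
    change IsIso (g.app W ≫ (𝔸(n; U)).presheaf.map (homOfLE hle).op)
    rw [e1]
    infer_instance
  let β : Γ(X, U) ⟶ Γ(U, ⊤) := U.ι.appLE U ⊤ U.ι_preimage_self.ge
  -- (a)
  have ha : (p.app U) ≫ ψ = β ≫ pU.appTop := by
    change p.app U ≫ g.appLE W ⊤ hle = U.ι.appLE U ⊤ _ ≫ pU.appTop
    rw [Scheme.Hom.app_eq_appLE, Scheme.Hom.appLE_comp_appLE,
      appLE_congr_hom hpb.w, ← Scheme.Hom.appLE_comp_appLE pU U.ι U ⊤ ⊤ U.ι_preimage_self.ge le_rfl]
    congr 1
    simp [Scheme.Hom.appLE]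
  -- (b)
  have hb : ψ.hom (τ X U) = AffineSpace.coord U (ULift.up (0 : Fin 1)) := by
    have h1 : (𝔸(n; X)).presheaf.map (homOfLE (le_top : W ≤ ⊤)).op ≫ ψ = g.appTop := by
      change _ ≫ g.appLE W ⊤ hle = _
      rw [Scheme.Hom.map_appLE]
      simp [Scheme.Hom.appLE]
    have h2 := congrArg (fun φ => φ.hom (AffineSpace.coord X (ULift.up (0 : Fin 1)))) h1
    simp only [CommRingCat.hom_comp, RingHom.comp_apply] at h2
    refine h2.trans ?_
    exact AffineSpace.map_appTop_coord U.ι _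
  -- the chart of `𝔸(n; U)`
  let FU : MvPolynomial n Γ(U, ⊤) →+* Γ(𝔸(n; U), ⊤) :=
    MvPolynomial.eval₂Hom (pU.appTop).hom (AffineSpace.coord U)
  have hFU : Function.Bijective FU := by
    have h1 := AffineSpace.isoOfIsAffine_hom_appTop (n := n) (S := U)
    haveI : IsIso ((Scheme.ΓSpecIso (CommRingCat.of (MvPolynomial n Γ(U, ⊤)))).hom ≫
        CommRingCat.ofHom FU) := by
      rw [← h1]
      exact inferInstanceAs (IsIso ((AffineSpace.isoOfIsAffine n U).hom.app ⊤))
    haveI : IsIso (CommRingCat.ofHom FU) := IsIso.of_isIso_comp_left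
      (Scheme.ΓSpecIso (CommRingCat.of (MvPolynomial n Γ(U, ⊤)))).hom _
    exact ConcreteCategory.bijective_of_isIso (CommRingCat.ofHom FU)
  have hβ : Function.Bijective β.hom := ConcreteCategory.bijective_of_isIso β
  have hψ : Function.Bijective ψ.hom := ConcreteCategory.bijective_of_isIso ψ
  have hmap : Function.Bijective (MvPolynomial.map (σ := n) β.hom) :=
    ⟨MvPolynomial.map_injective _ hβ.1, MvPolynomial.map_surjective _ hβ.2⟩
  have hcomp : ψ.hom.comp (MvPolynomial.eval₂Hom (p.app U).hom (fun _ : n => τ X U)) =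
      FU.comp (MvPolynomial.map (σ := n) β.hom) := by
    apply MvPolynomial.ringHom_ext
    · intro b
      simp only [RingHom.comp_apply, MvPolynomial.eval₂Hom_C, MvPolynomial.map_C, FU]
      exact congrArg (fun φ => φ.hom b) ha
    · intro i
      simp only [RingHom.comp_apply, MvPolynomial.eval₂Hom_X', MvPolynomial.map_X, FU]
      rw [hb]
      congr 1
      obtain ⟨i⟩ := i
      congr 1
      exact Subsingleton.elim _ _
  have h3 : Function.Bijective (ψ.hom.comp (MvPolynomial.eval₂Hom (p.app U).hom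
      (fun _ : n => τ X U))) := by
    rw [hcomp]
    exact hFU.comp hmap
  exact (Function.Bijective.of_comp_iff' hψ _).mp h3

/-- the chart: `Γ(𝔸¹_X, p⁻¹U)` is the polynomial ring over `Γ(X, U)` in the coordinate. -/
theorem chart_bijective {U : X.Opens} (hU : IsAffineOpen U) :
    Function.Bijective (Polynomial.eval₂RingHom ((𝔸(ULift.{u} (Fin 1); X) ↘ X).app U).hom
      (τ X U)) := by
  have h := chart_mv_bijective hU
  have e : Polynomial.eval₂RingHom ((𝔸(ULift.{u} (Fin 1); X) ↘ X).app U).hom (τ X U) =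
      (MvPolynomial.eval₂Hom ((𝔸(ULift.{u} (Fin 1); X) ↘ X).app U).hom
        (fun _ : ULift.{u} (Fin 1) => τ X U)).comp
      ((MvPolynomial.uniqueAlgEquiv Γ(X, U) (ULift.{u} (Fin 1))).symm :
        Polynomial Γ(X, U) →+* MvPolynomial (ULift.{u} (Fin 1)) Γ(X, U)) := by
    apply Polynomial.ringHom_ext
    · intro b
      simp
    · simp
  rw [e]
  exact h.comp (MvPolynomial.uniqueAlgEquiv Γ(X, U) (ULift.{u} (Fin 1))).symm.bijective

end Chart

end Groth.Agent.Helper14.K0Aff
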