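import Mathlib
import Groth.Agent.Lib.Helper14.K0AffB
import Groth.Agent.Lib.Helper14.FComplC
import Groth.Agent.Lib.Helper13.PullbackSections
import Groth.Agent.Lib.Helper13.FittPullback

set_option autoImplicit false
set_option linter.style.haveILetI false
set_option linter.unusedSectionVars false
set_option linter.unusedVariables false

universe u

open CategoryTheory CategoryTheory.Limits AlgebraicGeometry Opposite TopologicalSpace TensorProduct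
open Groth.Agent.Helper28.UnitGen

namespace Groth.Agent.Helper14.K0Aff

section Zero

variable (X : Scheme.{u})

/-- the zero section of the affine line. -/
noncomputable def s₀ : X ⟶ 𝔸(ULift.{u} (Fin 1); X) :=
  AffineSpace.homOfVector (𝟙 X) (fun _ => 0)

lemma s₀_over : s₀ X ≫ (𝔸(ULift.{u} (Fin 1); X) ↘ X) = 𝟙 X :=
  AffineSpace.homOfVector_over _ _

lemma s₀_appTop_coord :
    (s₀ X).appTop (AffineSpace.coord X (ULift.up (0 : Fin 1))) = 0 :=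
  AffineSpace.homOfVector_appTop_coord _ _ _

instance isClosedImmersion_s₀ : IsClosedImmersion (s₀ X) := by
  haveI : IsClosedImmersion (s₀ X ≫ (𝔸(ULift.{u} (Fin 1); X) ↘ X)) := by
    rw [s₀_over]
    infer_instance
  exact IsClosedImmersion.of_comp (s₀ X) (𝔸(ULift.{u} (Fin 1); X) ↘ X)

variable {X}

lemma s₀_app_τ (U : X.Opens) :
    ((s₀ X).app ((𝔸(ULift.{u} (Fin 1); X) ↘ X) ⁻¹ᵁ U)).hom (τ X U) = 0 := by
  have h := (s₀ X).naturality (homOfLE (le_top :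
    (𝔸(ULift.{u} (Fin 1); X) ↘ X) ⁻¹ᵁ U ≤ ⊤)).op
  have h2 := congrArg (fun φ => φ.hom (AffineSpace.coord X (ULift.up (0 : Fin 1)))) h
  simp only [CommRingCat.hom_comp, RingHom.comp_apply] at h2
  unfold τ
  refine h2.trans ?_
  have h3 := s₀_appTop_coord X
  change ((s₀ X).app ⊤).hom _ = 0 at h3
  rw [h3, map_zero]

lemma s₀_app_comp_injective (U : X.Opens) :
    Function.Injective ((((s₀ X).app ((𝔸(ULift.{u} (Fin 1); X) ↘ X) ⁻¹ᵁ U)).hom).comp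
      ((𝔸(ULift.{u} (Fin 1); X) ↘ X).app U).hom) := by
  have h1 : ((𝔸(ULift.{u} (Fin 1); X) ↘ X).app U) ≫
      ((s₀ X).app ((𝔸(ULift.{u} (Fin 1); X) ↘ X) ⁻¹ᵁ U)) =
      (s₀ X ≫ (𝔸(ULift.{u} (Fin 1); X) ↘ X)).app U := rfl
  rw [← CommRingCat.hom_comp, h1, Scheme.Hom.congr_app (s₀_over X) U]
  haveI : IsIso ((𝟙 X : X ⟶ X).app U) := inferInstanceAs (IsIso (𝟙 Γ(X, U)))
  exact (ConcreteCategory.bijective_of_isIso ((𝟙 X : X ⟶ X).app U ≫
    X.presheaf.map (eqToHom _).op)).1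

end Zero

section Sec

variable {X : Scheme.{u}} (N : X.Modules) [N.IsQuasicoherent]

/-- multiplication by the coordinate is injective on sections of `p^* N` over `p⁻¹ U`. -/
theorem smul_τ_injective {U : X.Opens} (hU : IsAffineOpen U)
    (m : Γ((Scheme.Modules.pullback (𝔸(ULift.{u} (Fin 1); X) ↘ X)).obj N,
      (𝔸(ULift.{u} (Fin 1); X) ↘ X) ⁻¹ᵁ U)) (hm : τ X U • m = 0) : m = 0 := by
  have hW : IsAffineOpen ((𝔸(ULift.{u} (Fin 1); X) ↘ X) ⁻¹ᵁ U) :=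
    hU.preimage (𝔸(ULift.{u} (Fin 1); X) ↘ X)
  letI := ((𝔸(ULift.{u} (Fin 1); X) ↘ X).appLE U
    ((𝔸(ULift.{u} (Fin 1); X) ↘ X) ⁻¹ᵁ U) le_rfl).hom.toAlgebra
  let Φ := Groth.Agent.Helper13.Pullback.sectionsPullbackEquiv
    (𝔸(ULift.{u} (Fin 1); X) ↘ X) N hW hU le_rfl
  obtain ⟨d, hd, hlin⟩ := exists_divX ((𝔸(ULift.{u} (Fin 1); X) ↘ X).app U).hom (τ X U)
    (chart_bijective hU)
  have h0 : Φ m = 0 := by
    refine tensor_smul_injective Γ(N, U) (τ X U) d hd ?_ (Φ m) (by rw [← map_smul, hm, map_zero])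
    intro b a
    have e : algebraMap Γ(X, U) Γ(𝔸(ULift.{u} (Fin 1); X),
        (𝔸(ULift.{u} (Fin 1); X) ↘ X) ⁻¹ᵁ U) b =
        ((𝔸(ULift.{u} (Fin 1); X) ↘ X).app U).hom b := by
      change ((𝔸(ULift.{u} (Fin 1); X) ↘ X).appLE U _ le_rfl).hom b = _
      rw [Scheme.Hom.appLE_eq_app]
    rw [e]
    exact hlin b a
  exact Φ.injective (h0.trans (map_zero _).symm)

variable [SheafOfModules.IsFiniteType (R := X.ringCatSheaf) N]

/-- the kernel of the unit `p^*N ⟶ s₀_* s₀^* p^* N` on sections over `p⁻¹ U` is `τ · p^*N`. -/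
theorem ker_unit {U : X.Opens} (hU : IsAffineOpen U)
    (m : Γ((Scheme.Modules.pullback (𝔸(ULift.{u} (Fin 1); X) ↘ X)).obj N,
      (𝔸(ULift.{u} (Fin 1); X) ↘ X) ⁻¹ᵁ U))
    (hm : ηsec (s₀ X) ((Scheme.Modules.pullback (𝔸(ULift.{u} (Fin 1); X) ↘ X)).obj N)
      ((𝔸(ULift.{u} (Fin 1); X) ↘ X) ⁻¹ᵁ U) m = 0) :
    ∃ m', m = τ X U • m' := by
  have hW : IsAffineOpen ((𝔸(ULift.{u} (Fin 1); X) ↘ X) ⁻¹ᵁ U) :=
    hU.preimage (𝔸(ULift.{u} (Fin 1); X) ↘ X)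
  have h1 := (Groth.Agent.Helper14.FCompl.ηsec_eq_zero_iff (s₀ X)
    ((Scheme.Modules.pullback (𝔸(ULift.{u} (Fin 1); X) ↘ X)).obj N) hW m).1 hm
  have h2 : (s₀ X).ker.ideal ⟨_, hW⟩ ≤ Ideal.span {τ X U} := by
    intro a ha
    have ha' := Scheme.Hom.ideal_ker_le (s₀ X) ⟨_, hW⟩ ha
    rw [RingHom.mem_ker] at ha'
    obtain ⟨c, rfl⟩ := ker_le_of_poly ((𝔸(ULift.{u} (Fin 1); X) ↘ X).app U).hom (τ X U)
      (chart_bijective hU) ((s₀ X).app ((𝔸(ULift.{u} (Fin 1); X) ↘ X) ⁻¹ᵁ U)).hom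
      (s₀_app_comp_injective U) (s₀_app_τ U) a ha'
    exact Ideal.mul_mem_right _ _ (Ideal.mem_span_singleton_self _)
  have h3 := Submodule.smul_mono_left (N := (⊤ : Submodule _ _)) h2 h1
  rw [Submodule.ideal_span_singleton_smul, Submodule.mem_smul_pointwise_iff_exists] at h3
  obtain ⟨m', -, hm'⟩ := h3
  exact ⟨m', hm'.symm⟩

end Sec

end Groth.Agent.Helper14.K0Aff
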