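import Groth.Agent.Lib.Helper14.K0LocC

set_option autoImplicit false
set_option linter.style.haveILetI false
set_option linter.unusedSectionVars false
set_option linter.unusedVariables false

universe u

open CategoryTheory CategoryTheory.Limits AlgebraicGeometry Opposite TopologicalSpace ZeroObject

namespace Groth.Agent.Helper14.K0Dev

lemma isCoh_restrict {Y X : Scheme.{u}} (f : Y ⟶ X) [IsOpenImmersion f] (M : X.Modules)
    (hM : Coh.IsCoh M) : Coh.IsCoh ((Scheme.Modules.restrictFunctor f).obj M) := by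
  haveI := hM.1
  haveI := hM.2
  exact ⟨inferInstance, Groth.Agent.Helper13.FinType.isFiniteType_restrict f M⟩

/-- `mapSub` only depends on the objectwise isomorphism class of the functor. -/
lemma mapSub_eq_of_iso {A B : Type*} [Category A] [Abelian A] [Category B] [Abelian B]
    (F G : A ⥤ B) [F.Additive] [PreservesFiniteLimits F] [PreservesFiniteColimits F]
    [G.Additive] [PreservesFiniteLimits G] [PreservesFiniteColimits G]
    (α : ∀ M, F.obj M ≅ G.obj M) (PA : ObjectProperty A) (PB : ObjectProperty B)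
    (hF : ∀ M, PA M → PB (F.obj M)) (hG : ∀ M, PA M → PB (G.obj M))
    {Z : B} (hZ : IsZero Z) (h0 : PB Z) (x : KZero.K0sub PA) :
    SGA6.mapSub F PA PB hF x = SGA6.mapSub G PA PB hG x := by
  induction x using induction_on PA with
  | h0 => simp
  | hcl M hM =>
    rw [mapSub_clSub F PA PB hF M hM, mapSub_clSub G PA PB hG M hM]
    exact clSub_iso PB hZ h0 (α M) (hF M hM) (hG M hM)
  | hneg x ih => rw [map_neg, map_neg, ih]
  | hadd x y ihx ihy => rw [map_add, map_add, ihx, ihy]

lemma mapSub_comp_apply {A B D : Type*} [Category A] [Abelian A] [Category B] [Abelian B]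
    [Category D] [Abelian D]
    (F : A ⥤ B) [F.Additive] [PreservesFiniteLimits F] [PreservesFiniteColimits F]
    (G : B ⥤ D) [G.Additive] [PreservesFiniteLimits G] [PreservesFiniteColimits G]
    (PA : ObjectProperty A) (PB : ObjectProperty B) (PD : ObjectProperty D)
    (hF : ∀ M, PA M → PB (F.obj M)) (hG : ∀ M, PB M → PD (G.obj M))
    (x : KZero.K0sub PA) :
    SGA6.mapSub G PB PD hG (SGA6.mapSub F PA PB hF x) =
      SGA6.mapSub (F ⋙ G) PA PD (fun M hM => hG _ (hF M hM)) x := by
  induction x using induction_on PA with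
  | h0 => simp
  | hcl M hM =>
    rw [mapSub_clSub F PA PB hF M hM, mapSub_clSub G PB PD hG _ (hF M hM),
      mapSub_clSub (F ⋙ G) PA PD _ M hM]
    rfl
  | hneg x ih => rw [map_neg, map_neg, map_neg, ih]
  | hadd x y ihx ihy => rw [map_add, map_add, map_add, ihx, ihy]

lemma mapSub_id_apply {A : Type*} [Category A] [Abelian A] (PA : ObjectProperty A)
    (x : KZero.K0sub PA) : SGA6.mapSub (𝟭 A) PA PA (fun M hM => hM) x = x := by
  induction x using induction_on PA with
  | h0 => simp
  | hcl M hM =>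
    rw [mapSub_clSub (𝟭 A) PA PA _ M hM]
    rfl
  | hneg x ih => rw [map_neg, ih]
  | hadd x y ihx ihy => rw [map_add, ihx, ihy]

theorem loc_general {X X' U : Scheme.{u}} [AlgebraicGeometry.IsNoetherian X] (i : X' ⟶ X)
    [IsClosedImmersion i] (j : U ⟶ X) [IsOpenImmersion j] (hU : Set.range j = (Set.range i)ᶜ)
    [(Scheme.Modules.pushforward i).Additive]
    [PreservesFiniteLimits (Scheme.Modules.pushforward i)]
    [PreservesFiniteColimits (Scheme.Modules.pushforward i)]
    [PreservesFiniteLimits (Scheme.Modules.restrictFunctor j)]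
    (hi : ∀ M : X'.Modules, Coh.IsCoh M → Coh.IsCoh ((Scheme.Modules.pushforward i).obj M))
    (hj : ∀ M : X.Modules, Coh.IsCoh M → Coh.IsCoh ((Scheme.Modules.restrictFunctor j).obj M)) :
    Function.Surjective (SGA6.mapSub (Scheme.Modules.restrictFunctor j)
        (fun M : X.Modules => Coh.IsCoh M) (fun M : U.Modules => Coh.IsCoh M) hj) ∧
      (SGA6.mapSub (Scheme.Modules.restrictFunctor j)
        (fun M : X.Modules => Coh.IsCoh M) (fun M : U.Modules => Coh.IsCoh M) hj).ker =
      (SGA6.mapSub (Scheme.Modules.pushforward i) (fun M : X'.Modules => Coh.IsCoh M)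
        (fun M : X.Modules => Coh.IsCoh M) hi).range := by
  let V := j.opensRange
  let e := j.isoOpensRange
  have hje : e.hom ≫ V.ι = j := j.isoOpensRange_hom_ι
  have hVi : (V : Set X) = (Set.range i)ᶜ := by
    rw [← hU]
    exact Scheme.Hom.coe_opensRange j
  have hr : ∀ M : X.Modules, Coh.IsCoh M →
      Coh.IsCoh ((Scheme.Modules.restrictFunctor V.ι).obj M) := fun M hM => isCoh_restrict V.ι M hM
  obtain ⟨hsurj, hker⟩ := loc_opens i V hVi hi hr
  let CX : ObjectProperty X.Modules := fun M => Coh.IsCoh M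
  let CV : ObjectProperty (V : Scheme.{u}).Modules := fun M => Coh.IsCoh M
  let CU : ObjectProperty U.Modules := fun M => Coh.IsCoh M
  let Rj := Scheme.Modules.restrictFunctor j
  let RV := Scheme.Modules.restrictFunctor V.ι
  let E := Scheme.Modules.restrictFunctor e.hom
  let E' := Scheme.Modules.restrictFunctor e.inv
  have hE : ∀ N, CV N → CU (E.obj N) := fun N hN => isCoh_restrict e.hom N hN
  have hE' : ∀ N, CU N → CV (E'.obj N) := fun N hN => isCoh_restrict e.inv N hN
  have z0U : CU (0 : U.Modules) := Groth.Agent.Helper5.K0Coh.isCoh_of_isZero (isZero_zero _)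
  have z0V : CV (0 : (V : Scheme.{u}).Modules) :=
    Groth.Agent.Helper5.K0Coh.isCoh_of_isZero (isZero_zero _)
  let α : Rj ≅ RV ⋙ E :=
    Scheme.Modules.restrictFunctorCongr hje.symm ≪≫ Scheme.Modules.restrictFunctorComp e.hom V.ι
  let β : E ⋙ E' ≅ 𝟭 _ :=
    (Scheme.Modules.restrictFunctorComp e.inv e.hom).symm ≪≫
      Scheme.Modules.restrictFunctorCongr e.inv_hom_id ≪≫ Scheme.Modules.restrictFunctorId
  let γ : E' ⋙ E ≅ 𝟭 _ :=
    (Scheme.Modules.restrictFunctorComp e.hom e.inv).symm ≪≫
      Scheme.Modules.restrictFunctorCongr e.hom_inv_id ≪≫ Scheme.Modules.restrictFunctorId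
  have key1 : ∀ x, SGA6.mapSub Rj CX CU hj x =
      SGA6.mapSub E CV CU hE (SGA6.mapSub RV CX CV hr x) := by
    intro x
    rw [mapSub_comp_apply RV E CX CV CU hr hE x]
    exact mapSub_eq_of_iso Rj (RV ⋙ E) (fun M => α.app M) CX CU hj _ (isZero_zero _) z0U x
  have key2 : ∀ y, SGA6.mapSub E' CU CV hE' (SGA6.mapSub E CV CU hE y) = y := by
    intro y
    rw [mapSub_comp_apply E E' CV CU CV hE hE' y,
      mapSub_eq_of_iso (E ⋙ E') (𝟭 _) (fun N => β.app N) CV CV _ (fun M hM => hM)
        (isZero_zero _) z0V y, mapSub_id_apply]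
  have key3 : ∀ z, SGA6.mapSub E CV CU hE (SGA6.mapSub E' CU CV hE' z) = z := by
    intro z
    rw [mapSub_comp_apply E' E CU CV CU hE' hE z,
      mapSub_eq_of_iso (E' ⋙ E) (𝟭 _) (fun N => γ.app N) CU CU _ (fun M hM => hM)
        (isZero_zero _) z0U z, mapSub_id_apply]
  refine ⟨?_, ?_⟩
  · intro z
    obtain ⟨x, hx⟩ := hsurj (SGA6.mapSub E' CU CV hE' z)
    refine ⟨x, ?_⟩
    change SGA6.mapSub Rj CX CU hj x = z
    rw [key1, hx, key3]
  · rw [← hker]
    ext x
    rw [AddMonoidHom.mem_ker, AddMonoidHom.mem_ker]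
    change SGA6.mapSub Rj CX CU hj x = 0 ↔ SGA6.mapSub RV CX CV hr x = 0
    rw [key1]
    constructor
    · intro h
      have := congrArg (SGA6.mapSub E' CU CV hE') h
      rwa [key2, map_zero] at this
    · intro h
      rw [h, map_zero]

end Groth.Agent.Helper14.K0Dev
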