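import Mathlib
import Groth.Agent.Lib.Helper14.K0AffC
import Groth.Agent.Lib.Helper14.K0LocD
import Groth.Agent.Lib.Helper5.K0Coh
import Groth.Agent.Lib.Helper26.DevI
import Groth.Agent.Lib.Helper28.AffIso
import Groth.Agent.Lib.Helper13.LocLift
import Groth.Agent.Lib.Helper13.QCohKer
import Groth.Agent.Lib.Helper13.AssMono2
import Groth.Prelude.Def_KLin

set_option autoImplicit false
set_option linter.style.haveILetI false
set_option linter.unusedSectionVars false
set_option linter.unusedVariables false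

universe u

open CategoryTheory CategoryTheory.Limits AlgebraicGeometry Opposite TopologicalSpace TensorProduct
open Groth.Agent.Helper28.UnitGen

namespace Groth.Agent.Helper14.K0Aff

section Sheaf

variable {X : Scheme.{u}}

/-- multiplication by the coordinate. -/
noncomputable def tMul (M : (𝔸(ULift.{u} (Fin 1); X)).Modules) : M ⟶ M :=
  Formal.smulModΓ M (AffineSpace.coord X (ULift.up (0 : Fin 1)))

lemma tMul_app (M : (𝔸(ULift.{u} (Fin 1); X)).Modules) (V : (𝔸(ULift.{u} (Fin 1); X)).Opens)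
    (m : Γ(M, V)) :
    (tMul M).app V m = (𝔸(ULift.{u} (Fin 1); X)).presheaf.map (homOfLE (le_top : V ≤ ⊤)).op
      (AffineSpace.coord X (ULift.up (0 : Fin 1))) • m := rfl

lemma s₀_app_coord (V : (𝔸(ULift.{u} (Fin 1); X)).Opens) :
    ((s₀ X).app V).hom ((𝔸(ULift.{u} (Fin 1); X)).presheaf.map (homOfLE (le_top : V ≤ ⊤)).op
      (AffineSpace.coord X (ULift.up (0 : Fin 1)))) = 0 := by
  have h := (s₀ X).naturality (homOfLE (le_top : V ≤ ⊤)).op
  have h2 := congrArg (fun φ => φ.hom (AffineSpace.coord X (ULift.up (0 : Fin 1)))) h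
  simp only [CommRingCat.hom_comp, RingHom.comp_apply] at h2
  refine h2.trans ?_
  have h3 := s₀_appTop_coord X
  change ((s₀ X).app ⊤).hom _ = 0 at h3
  rw [h3, map_zero]

lemma tMul_push_eq_zero (F : X.Modules) :
    tMul ((Scheme.Modules.pushforward (s₀ X)).obj F) = 0 := by
  refine Scheme.Modules.hom_ext _ _ fun V => ?_
  ext m
  change (tMul ((Scheme.Modules.pushforward (s₀ X)).obj F)).app V m = 0
  rw [tMul_app]
  change (((s₀ X).app V).hom _) • (show Γ(F, (s₀ X) ⁻¹ᵁ V) from m) = 0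
  rw [s₀_app_coord, zero_smul]

lemma tMul_comp_unit (M : (𝔸(ULift.{u} (Fin 1); X)).Modules) :
    tMul M ≫ η (s₀ X) M = 0 := by
  have h := KLin.comp_smulModΓ (η (s₀ X) M) (AffineSpace.coord X (ULift.up (0 : Fin 1)))
  change η (s₀ X) M ≫ tMul _ = tMul M ≫ η (s₀ X) M at h
  rw [← h, tMul_push_eq_zero, comp_zero]

variable (N : X.Modules) [N.IsQuasicoherent] [SheafOfModules.IsFiniteType (R := X.ringCatSheaf) N]

/-- `p^* N` -/
noncomputable abbrev MM : (𝔸(ULift.{u} (Fin 1); X)).Modules :=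
  (Scheme.Modules.pullback (𝔸(ULift.{u} (Fin 1); X) ↘ X)).obj N

/-- multiplication by the coordinate, as a map to the kernel of the unit. -/
noncomputable def kerLift : MM N ⟶ kernel (η (s₀ X) (MM N)) :=
  kernel.lift _ (tMul (MM N)) (tMul_comp_unit (MM N))

lemma kerLift_ι : kerLift N ≫ kernel.ι (η (s₀ X) (MM N)) = tMul (MM N) :=
  kernel.lift_ι _ _ _

instance : ((Scheme.Modules.pushforward (s₀ X)).obj (pb (s₀ X) (MM N))).IsQuasicoherent :=
  Groth.Agent.Helper13.QCohPush.isQuasicoherent_pushforward (s₀ X) _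

instance : (kernel (η (s₀ X) (MM N))).IsQuasicoherent :=
  Groth.Agent.Helper13.QCohLocal.isQuasicoherent_kernel _

theorem isIso_kerLift : IsIso (kerLift N) := by
  apply Groth.Agent.Helper28.AffIso.isIso_of_app_bijective_affine
  intro x
  obtain ⟨_, ⟨U, hU, rfl⟩, hxU, -⟩ := X.isBasis_affineOpens.exists_subset_of_mem_open
    (Set.mem_univ ((𝔸(ULift.{u} (Fin 1); X) ↘ X) x)) isOpen_univ
  have hU' : IsAffineOpen U := hU
  refine ⟨(𝔸(ULift.{u} (Fin 1); X) ↘ X) ⁻¹ᵁ U, hU'.preimage _, hxU, ?_, ?_⟩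
  · intro a b hab
    have h1 : (tMul (MM N)).app ((𝔸(ULift.{u} (Fin 1); X) ↘ X) ⁻¹ᵁ U) a =
        (tMul (MM N)).app ((𝔸(ULift.{u} (Fin 1); X) ↘ X) ⁻¹ᵁ U) b := by
      rw [← kerLift_ι N]
      change (kernel.ι (η (s₀ X) (MM N))).app _ ((kerLift N).app _ a) =
        (kernel.ι (η (s₀ X) (MM N))).app _ ((kerLift N).app _ b)
      rw [hab]
    rw [tMul_app, tMul_app] at h1
    have h2 : τ X U • (a - b) = 0 := by
      rw [smul_sub, sub_eq_zero]
      exact h1
    exact sub_eq_zero.mp (smul_τ_injective N hU' (a - b) h2)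
  · intro k
    let m := (kernel.ι (η (s₀ X) (MM N))).app ((𝔸(ULift.{u} (Fin 1); X) ↘ X) ⁻¹ᵁ U) k
    have hm : ηsec (s₀ X) (MM N) ((𝔸(ULift.{u} (Fin 1); X) ↘ X) ⁻¹ᵁ U) m = 0 := by
      change (η (s₀ X) (MM N)).app _ ((kernel.ι (η (s₀ X) (MM N))).app _ k) = 0
      rw [← ConcreteCategory.comp_apply, ← Scheme.Modules.Hom.comp_app, kernel.condition]
      rfl
    obtain ⟨m', hm'⟩ := ker_unit N hU' m hm
    refine ⟨m', ?_⟩
    apply Groth.Agent.Helper13.LocLift.app_injective_of_mono (kernel.ι (η (s₀ X) (MM N)))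
    change (kernel.ι (η (s₀ X) (MM N))).app _ ((kerLift N).app _ m') = m
    rw [← ConcreteCategory.comp_apply, ← Scheme.Modules.Hom.comp_app, kerLift_ι, tMul_app, hm']
    rfl

theorem epi_unit : Epi (η (s₀ X) (MM N)) := by
  apply Groth.Agent.Helper13.AssMono.epi_of_app_surjective
  intro V hV
  exact Groth.Agent.Helper28.UnitClosed.ηsec_surjective (s₀ X) (MM N) hV

end Sheaf

end Groth.Agent.Helper14.K0Aff
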