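import Mathlib
import Groth.Agent.Lib.Helper14.K0AffD
import Groth.Agent.Lib.Helper5.CI4

set_option autoImplicit false
set_option linter.style.haveILetI false
set_option linter.unusedSectionVars false
set_option linter.unusedVariables false

universe u

open CategoryTheory CategoryTheory.Limits AlgebraicGeometry Opposite TopologicalSpace TensorProduct
open Groth.Agent.Helper28.UnitGen Groth.Agent.Helper14.K0Dev

namespace Groth.Agent.Helper14.K0Aff

section K0

variable {X : Scheme.{u}}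

/-- the class of the direct image along the zero section of a coherent module vanishes in
`K₀(Coh 𝔸¹_X)`. -/
theorem clSub_push_eq_zero (N : X.Modules) (hN : Coh.IsCoh N) :
    KZero.clSub (fun M : (𝔸(ULift.{u} (Fin 1); X)).Modules => Coh.IsCoh M)
      ((Scheme.Modules.pushforward (s₀ X)).obj N) = 0 := by
  haveI := hN.1
  haveI := hN.2
  have hM : Coh.IsCoh (MM N) := ⟨inferInstance, inferInstance⟩
  have hN' : Coh.IsCoh (pb (s₀ X) (MM N)) := ⟨inferInstance, inferInstance⟩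
  have hpush : Coh.IsCoh ((Scheme.Modules.pushforward (s₀ X)).obj (pb (s₀ X) (MM N))) :=
    Groth.Agent.Helper26.DevI.isCoh_push (s₀ X) _ hN'
  haveI := isIso_kerLift N
  haveI := epi_unit N
  let e : MM N ≅ kernel (η (s₀ X) (MM N)) := asIso (kerLift N)
  have hK : Coh.IsCoh (kernel (η (s₀ X) (MM N))) :=
    Groth.Agent.Helper5.K0Coh.isCoh_of_iso e hM
  have hS : (ShortComplex.mk (kernel.ι (η (s₀ X) (MM N))) (η (s₀ X) (MM N))
      (kernel.condition _)).ShortExact :=
    ShortComplex.ShortExact.mk' (ShortComplex.exact_kernel _) inferInstance inferInstance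
  have h1 := clSub_shortExact (fun M : (𝔸(ULift.{u} (Fin 1); X)).Modules => Coh.IsCoh M)
    _ hS hK hM hpush
  have h2 := clSub_iso (fun M : (𝔸(ULift.{u} (Fin 1); X)).Modules => Coh.IsCoh M)
    (isZero_zero _) (Groth.Agent.Helper5.K0Coh.isCoh_of_isZero (isZero_zero _)) e hM hK
  dsimp only at h1
  have h3 : KZero.clSub (fun M : (𝔸(ULift.{u} (Fin 1); X)).Modules => Coh.IsCoh M)
      ((Scheme.Modules.pushforward (s₀ X)).obj (pb (s₀ X) (MM N))) = 0 := by
    rw [h2] at h1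
    exact left_eq_add.mp h1
  let i1 : N ≅ pb (s₀ X) (MM N) :=
    ((Scheme.Modules.pullbackId X).app N).symm ≪≫
      ((Scheme.Modules.pullbackCongr (s₀_over X).symm).app N) ≪≫
      ((Scheme.Modules.pullbackComp (s₀ X) (𝔸(ULift.{u} (Fin 1); X) ↘ X)).app N).symm
  have h4 := clSub_iso (fun M : (𝔸(ULift.{u} (Fin 1); X)).Modules => Coh.IsCoh M)
    (isZero_zero _) (Groth.Agent.Helper5.K0Coh.isCoh_of_isZero (isZero_zero _))
    ((Scheme.Modules.pushforward (s₀ X)).mapIso i1)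
    (Groth.Agent.Helper26.DevI.isCoh_push (s₀ X) _ hN) hpush
  rw [h4, h3]

theorem range_s₀ : Set.range (s₀ X) =
    (((𝔸(ULift.{u} (Fin 1); X)).basicOpen (AffineSpace.coord X (ULift.up (0 : Fin 1))) :
      Set (𝔸(ULift.{u} (Fin 1); X))))ᶜ := by
  ext y
  constructor
  · rintro ⟨x, rfl⟩ hy
    have h1 : x ∈ (s₀ X) ⁻¹ᵁ ((𝔸(ULift.{u} (Fin 1); X)).basicOpen
        (AffineSpace.coord X (ULift.up (0 : Fin 1)))) := hy
    have h3 : (s₀ X).app ⊤ (AffineSpace.coord X (ULift.up (0 : Fin 1))) = 0 := s₀_appTop_coord X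
    rw [Scheme.preimage_basicOpen, h3, Scheme.basicOpen_zero] at h1
    exact h1
  · intro hy
    have hcl : IsClosed (Set.range (s₀ X)) := (s₀ X).isClosedEmbedding.isClosed_range
    have hsupp : ((s₀ X).ker.support : Set _) = Set.range (s₀ X) := by
      rw [Scheme.Hom.support_ker, hcl.closure_eq]
    rw [← hsupp]
    obtain ⟨_, ⟨U, hU, rfl⟩, hyU, -⟩ := X.isBasis_affineOpens.exists_subset_of_mem_open
      (Set.mem_univ ((𝔸(ULift.{u} (Fin 1); X) ↘ X) y)) isOpen_univ
    have hU' : IsAffineOpen U := hU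
    have hW : IsAffineOpen ((𝔸(ULift.{u} (Fin 1); X) ↘ X) ⁻¹ᵁ U) := hU'.preimage _
    have hyW : y ∈ (𝔸(ULift.{u} (Fin 1); X) ↘ X) ⁻¹ᵁ U := hyU
    rw [SetLike.mem_coe, Scheme.IdealSheafData.mem_support_iff_of_mem (U := ⟨_, hW⟩) hyW,
      Scheme.mem_zeroLocus_iff]
    intro a ha hya
    have ha' := Scheme.Hom.ideal_ker_le (s₀ X) ⟨_, hW⟩ ha
    rw [RingHom.mem_ker] at ha'
    obtain ⟨c, rfl⟩ := ker_le_of_poly ((𝔸(ULift.{u} (Fin 1); X) ↘ X).app U).hom (τ X U)
      (chart_bijective hU') ((s₀ X).app ((𝔸(ULift.{u} (Fin 1); X) ↘ X) ⁻¹ᵁ U)).hom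
      (s₀_app_comp_injective U) (s₀_app_τ U) a ha'
    rw [Scheme.basicOpen_mul] at hya
    have h5 := hya.1
    unfold τ at h5
    rw [Scheme.basicOpen_res] at h5
    exact hy h5.2

end K0

section Main

variable (X : Scheme.{u}) [AlgebraicGeometry.IsNoetherian X]

instance isNoetherian_affineLine : AlgebraicGeometry.IsNoetherian (𝔸(ULift.{u} (Fin 1); X)) := by
  haveI : IsLocallyNoetherian (𝔸(ULift.{u} (Fin 1); X)) :=
    LocallyOfFiniteType.isLocallyNoetherian (𝔸(ULift.{u} (Fin 1); X) ↘ X)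
  haveI : CompactSpace (𝔸(ULift.{u} (Fin 1); X)) :=
    QuasiCompact.compactSpace_of_compactSpace (𝔸(ULift.{u} (Fin 1); X) ↘ X)
  exact {}

theorem main {U : Scheme.{u}}
    (j : U ⟶ 𝔸(ULift.{u} (Fin 1); X)) [IsOpenImmersion j]
    (hU : Set.range j = ((𝔸(ULift.{u} (Fin 1); X)).basicOpen
      (AffineSpace.coord X (ULift.up (0 : Fin 1))) : Set (𝔸(ULift.{u} (Fin 1); X))))
    [PreservesFiniteLimits (Scheme.Modules.restrictFunctor j)]
    (hj : ∀ M : (𝔸(ULift.{u} (Fin 1); X)).Modules, Coh.IsCoh M →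
      Coh.IsCoh ((Scheme.Modules.restrictFunctor j).obj M)) :
    Function.Bijective (SGA6.mapSub (Scheme.Modules.restrictFunctor j)
      (fun M : (𝔸(ULift.{u} (Fin 1); X)).Modules => Coh.IsCoh M)
      (fun M : (U).Modules => Coh.IsCoh M) hj) := by
  obtain ⟨hsurj, hker⟩ := loc_general (s₀ X) j (by rw [range_s₀, compl_compl, hU])
    (Groth.Agent.Helper26.DevI.isCoh_push (s₀ X)) hj
  refine ⟨?_, hsurj⟩
  rw [← AddMonoidHom.ker_eq_bot_iff, hker, eq_bot_iff]
  rintro _ ⟨x, rfl⟩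
  rw [AddSubgroup.mem_bot]
  induction x using induction_on (fun M : X.Modules => Coh.IsCoh M) with
  | h0 => simp
  | hcl M hM =>
    rw [mapSub_clSub (Scheme.Modules.pushforward (s₀ X)) _ _ _ M hM]
    exact clSub_push_eq_zero M hM
  | hneg x ih => rw [map_neg, ih, neg_zero]
  | hadd x y ihx ihy => rw [map_add, ihx, ihy, add_zero]

end Main

end Groth.Agent.Helper14.K0Aff
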