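import Groth.Agent.Lib.Helper14.K0DevA

set_option autoImplicit false
set_option linter.style.haveILetI false
set_option linter.unusedSectionVars false
set_option linter.unusedVariables false

universe v' u' v u

open CategoryTheory CategoryTheory.Limits

namespace Groth.Agent.Helper14.K0Dev

variable {A : Type u} [Category.{v} A] [Abelian A] {B : Type u'} [Category.{v'} B] [Abelian B]

/-- `[A] - [B] = [ker ψ] - [coker ψ]`. -/
theorem clSub_sub_eq_ker_sub_coker (P : ObjectProperty A)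
    (hker : ∀ {M N : A} (f : M ⟶ N), P M → P N → P (kernel f))
    (hcok : ∀ {M N : A} (f : M ⟶ N), P M → P N → P (cokernel f))
    {M N : A} (ψ : M ⟶ N) (hM : P M) (hN : P N) :
    KZero.clSub P M - KZero.clSub P N =
      KZero.clSub P (kernel ψ) - KZero.clSub P (cokernel ψ) := by
  have pK := hker ψ hM hN
  have pC := hcok ψ hM hN
  have pI : P (Abelian.image ψ) := hker (cokernel.π ψ) hN pC
  have h1 : (ShortComplex.mk (kernel.ι ψ) (Abelian.factorThruImage ψ) (by
      rw [← cancel_mono (Abelian.image.ι ψ)]; simp)).ShortExact := by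
    refine ShortComplex.ShortExact.mk' ?_ inferInstance inferInstance
    apply ShortComplex.exact_of_f_is_kernel
    refine KernelFork.IsLimit.ofι' _ _ (fun {W} k hk => ?_)
    have hk' : k ≫ ψ = 0 := by
      dsimp at hk
      rw [← Abelian.image.fac ψ, ← Category.assoc, hk, zero_comp]
    exact ⟨kernel.lift ψ k hk', kernel.lift_ι _ _ _⟩
  have h2 : (ShortComplex.mk (Abelian.image.ι ψ) (cokernel.π ψ) (by simp)).ShortExact :=
    ShortComplex.ShortExact.mk' (ShortComplex.exact_kernel _) inferInstance inferInstance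
  have e1 := clSub_shortExact P _ h1 pK hM pI
  have e2 := clSub_shortExact P _ h2 pI hN pC
  dsimp at e1 e2
  rw [e1, e2]
  abel

theorem loc_exact (R : A ⥤ B) [R.Additive] [PreservesFiniteLimits R] [PreservesFiniteColimits R]
    (PA : ObjectProperty A) (PB : ObjectProperty B) (hR : ∀ M, PA M → PB (R.obj M))
    (H : AddSubgroup (KZero.K0sub PA))
    (L1 : ∀ F, PB F → ∃ M, PA M ∧ Nonempty (R.obj M ≅ F))
    (L2 : ∀ M M', PA M → PA M' → Nonempty (R.obj M ≅ R.obj M') →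
      KZero.clSub PA M - KZero.clSub PA M' ∈ H)
    (L3 : ∀ S : ShortComplex B, S.ShortExact → PB S.X₁ → PB S.X₂ → PB S.X₃ →
      ∃ S' : ShortComplex A, S'.ShortExact ∧ PA S'.X₁ ∧ PA S'.X₂ ∧ PA S'.X₃ ∧
        Nonempty (R.obj S'.X₁ ≅ S.X₁) ∧ Nonempty (R.obj S'.X₂ ≅ S.X₂) ∧
        Nonempty (R.obj S'.X₃ ≅ S.X₃))
    (L4 : H ≤ (SGA6.mapSub R PA PB hR).ker)
    {ZB : B} (hZB : IsZero ZB) (h0B : PB ZB) :
    Function.Surjective (SGA6.mapSub R PA PB hR) ∧ (SGA6.mapSub R PA PB hR).ker = H := by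
  classical
  choose ext hextP hextI using L1
  have hmk : ∀ M M', PA M → PA M' → Nonempty (R.obj M ≅ R.obj M') →
      (QuotientAddGroup.mk (KZero.clSub PA M) : KZero.K0sub PA ⧸ H) =
        QuotientAddGroup.mk (KZero.clSub PA M') := by
    intro M M' hM hM' e
    rw [QuotientAddGroup.eq_iff_sub_mem]
    exact L2 M M' hM hM' e
  let χ : Subtype PB → KZero.K0sub PA ⧸ H := fun F =>
    QuotientAddGroup.mk (KZero.clSub PA (ext F.1 F.2))
  have hadd : ∀ (S : ShortComplex B) (h₁ : PB S.X₁) (h₂ : PB S.X₂) (h₃ : PB S.X₃), S.ShortExact →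
      χ ⟨S.X₂, h₂⟩ = χ ⟨S.X₁, h₁⟩ + χ ⟨S.X₃, h₃⟩ := by
    intro S h₁ h₂ h₃ hS
    obtain ⟨S', hS', p₁, p₂, p₃, ⟨e₁⟩, ⟨e₂⟩, ⟨e₃⟩⟩ := L3 S hS h₁ h₂ h₃
    have a₁ := hmk _ _ (hextP _ h₁) p₁ ⟨(hextI _ h₁).some ≪≫ e₁.symm⟩
    have a₂ := hmk _ _ (hextP _ h₂) p₂ ⟨(hextI _ h₂).some ≪≫ e₂.symm⟩
    have a₃ := hmk _ _ (hextP _ h₃) p₃ ⟨(hextI _ h₃).some ≪≫ e₃.symm⟩
    change (QuotientAddGroup.mk (KZero.clSub PA (ext S.X₂ h₂)) : KZero.K0sub PA ⧸ H) =
      QuotientAddGroup.mk (KZero.clSub PA (ext S.X₁ h₁)) +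
        QuotientAddGroup.mk (KZero.clSub PA (ext S.X₃ h₃))
    rw [a₁, a₂, a₃, clSub_shortExact PA S' hS' p₁ p₂ p₃]
    rfl
  let σ : KZero.K0sub PB →+ KZero.K0sub PA ⧸ H := lift PB χ hadd
  have key : ∀ x : KZero.K0sub PA, σ (SGA6.mapSub R PA PB hR x) = QuotientAddGroup.mk x := by
    intro x
    induction x using induction_on PA with
    | h0 => simp
    | hcl M hM =>
      rw [mapSub_clSub R PA PB hR M hM, lift_clSub PB χ hadd _ (hR M hM)]
      exact hmk _ _ (hextP _ (hR M hM)) hM ⟨(hextI _ (hR M hM)).some⟩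
    | hneg x ih => rw [map_neg, map_neg, ih]; rfl
    | hadd x y ihx ihy => rw [map_add, map_add, ihx, ihy]; rfl
  refine ⟨?_, le_antisymm ?_ L4⟩
  · intro y
    have : y ∈ (SGA6.mapSub R PA PB hR).range := by
      induction y using induction_on PB with
      | h0 => exact zero_mem _
      | hcl F hF =>
        refine ⟨KZero.clSub PA (ext F hF), ?_⟩
        rw [mapSub_clSub R PA PB hR _ (hextP F hF)]
        exact clSub_iso PB hZB h0B (hextI F hF).some (hR _ (hextP F hF)) hF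
      | hneg x ih => exact neg_mem ih
      | hadd x y ihx ihy => exact add_mem ihx ihy
    exact this
  · intro x hx
    have h1 : σ (SGA6.mapSub R PA PB hR x) = 0 := by
      rw [AddMonoidHom.mem_ker] at hx
      rw [hx, map_zero]
    rw [key x, QuotientAddGroup.eq_zero_iff] at h1
    exact h1

end Groth.Agent.Helper14.K0Dev
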