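import Groth.Agent.Lib.Helper14.K0DevF
import Groth.Agent.Lib.Helper14.K0LocA
import Groth.Agent.Lib.Helper14.IdealMulE
import Groth.Agent.Lib.Helper14.GenFree2
import Groth.Agent.Lib.Helper13.ExtMain3
import Groth.Agent.Lib.Helper13.FinTypeRestrict
import Groth.Prelude.Def_CxOX

set_option autoImplicit false
set_option linter.style.haveILetI false
set_option linter.unusedSectionVars false
set_option linter.unusedVariables false

universe v u

open CategoryTheory CategoryTheory.Limits AlgebraicGeometry Opposite TopologicalSpace ZeroObject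

namespace Groth.Agent.Helper14.K0Dev

section Abs

variable {A : Type u} [Category.{v} A] [Abelian A]
variable (T : A ⥤ A) (ι : T ⟶ 𝟭 A) [hι : ∀ M, Mono (ι.app M)]

include ι hι in
theorem clSub_mem_of_filt (C : ObjectProperty A)
    (ccok : ∀ {M N : A} (f : M ⟶ N), C M → C N → C (cokernel f))
    (cT : ∀ M, C M → C (T.obj M))
    (cepi : ∀ {M M'' : A} (g : M ⟶ M'') [Epi g], C M → C M'' → Epi (T.map g))
    (H : AddSubgroup (KZero.K0sub C)) (hH1 : ∀ Z, filt T C 1 Z → KZero.clSub C Z ∈ H) :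
    ∀ (n : ℕ) (Z : A), filt T C n Z → KZero.clSub C Z ∈ H := by
  intro n
  induction n with
  | zero =>
    intro Z h
    have hz : IsZero Z := h.2
    rw [clSub_isZero C hz h.1]
    exact zero_mem _
  | succ n ih =>
    intro Z h
    have pT := cT Z h.1
    have pC := ccok (ι.app Z) pT h.1
    have e1 : KZero.clSub C Z = KZero.clSub C (T.obj Z) + KZero.clSub C (cokernel (ι.app Z)) :=
      clSub_shortExact C _ (shortExact_ι T ι Z) pT h.1 pC
    rw [e1]
    refine add_mem (ih (T.obj Z) ⟨pT, h.2⟩) (hH1 _ ⟨pC, ?_⟩)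
    exact isZero_T_cokernel T ι C cT ccok cepi Z h.1

end Abs

section Conc

open Groth.Agent.Helper14.IdealMul Groth.Agent.Helper14.CohFormal

variable {X : Scheme.{u}} [AlgebraicGeometry.IsNoetherian X] (I : X.IdealSheafData) (V : X.Opens)
  (hV : (V : Set X) = (I.support : Set X)ᶜ)

include hV in
lemma exists_isZero_Tn_of_isZero_restrict (Z : X.Modules) (hZ : Coh.IsCoh Z)
    (h : IsZero ((Scheme.Modules.restrictFunctor V.ι).obj Z)) :
    ∃ n : ℕ, IsZero ((Tn (Dual3.idealMul I) n).obj Z) := by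
  classical
  haveI := hZ.1
  haveI := hZ.2
  have hψ : (Scheme.Modules.restrictFunctor V.ι).map (𝟙 Z) = 0 := h.eq_of_src _ _
  have hex : ∀ W : X.affineOpens, ∃ K : ℕ, ∀ b ∈ (I.ideal W) ^ K, ∀ s : Γ(Z, W.1), b • s = 0 := by
    intro W
    haveI : Module.Finite Γ(X, W.1) Γ(Z, W.1) :=
      Groth.Agent.Helper13.FinType.finite_sections_of_isFiniteType Z W.2
    obtain ⟨K, hK⟩ := exists_pow_smul_app_eq_zero I V hV (𝟙 Z) hψ W
    exact ⟨K, fun b hb s => hK b hb s⟩
  choose KW hKW using hex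
  obtain ⟨t, ht⟩ := isCompact_univ.elim_finite_subcover
    (fun W : X.affineOpens => ((W.1 : X.Opens) : Set X)) (fun W => W.1.isOpen) (by
      intro x _
      obtain ⟨W, hW, hxW, -⟩ := X.isBasis_affineOpens.exists_subset_of_mem_open
        (Set.mem_univ x) isOpen_univ
      obtain ⟨W', hW', rfl⟩ := hW
      exact Set.mem_iUnion.2 ⟨⟨W', hW'⟩, hxW⟩)
  let N := ∑ W ∈ t, KW W
  have hle : ∀ W ∈ t, KW W ≤ N := fun W hW =>
    Finset.single_le_sum (f := KW) (fun _ _ => Nat.zero_le _) hW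
  refine ⟨N, ?_⟩
  haveI := isQuasicoherent_Tn I N Z
  have h0 : ιn I N Z = 0 := by
    apply hom_eq_zero_of_affine_cover (ιn I N Z) (fun W : t => (W.1.1 : X.Opens))
      (fun W => W.1.2)
    · intro x
      have hx := ht (Set.mem_univ x)
      rw [Set.mem_iUnion₂] at hx
      obtain ⟨W, hW, hxW⟩ := hx
      exact ⟨⟨W, hW⟩, hxW⟩
    · intro W s
      have h1 := ιn_app_mem I N Z W.1 s
      have h3 : (I.ideal W.1) ^ N • (⊤ : Submodule Γ(X, W.1.1) Γ(Z, W.1.1)) ≤ ⊥ := by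
        rw [Submodule.smul_le]
        intro b hb m _
        rw [Submodule.mem_bot]
        exact hKW W.1 b (Ideal.pow_le_pow_right (hle W.1 W.2) hb) m
      exact (Submodule.mem_bot _).1 (h3 h1)
  haveI := mono_ιn I N Z
  exact IsZero.of_mono_eq_zero _ h0

include hV in
theorem clSub_sub_mem_of_restrict_iso
    (H : AddSubgroup (KZero.K0sub (fun M : X.Modules => Coh.IsCoh M)))
    (hH : ∀ Z : X.Modules, Coh.IsCoh Z → IsZero ((Scheme.Modules.restrictFunctor V.ι).obj Z) →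
      KZero.clSub (fun M : X.Modules => Coh.IsCoh M) Z ∈ H)
    (M M' : X.Modules) (hM : Coh.IsCoh M) (hM' : Coh.IsCoh M')
    (e : (Scheme.Modules.restrictFunctor V.ι).obj M ≅ (Scheme.Modules.restrictFunctor V.ι).obj M') :
    KZero.clSub (fun M : X.Modules => Coh.IsCoh M) M -
      KZero.clSub (fun M : X.Modules => Coh.IsCoh M) M' ∈ H := by
  let R := Scheme.Modules.restrictFunctor V.ι
  let C : ObjectProperty X.Modules := fun M => Coh.IsCoh M
  haveI := hM.1
  haveI := hM'.1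
  obtain ⟨n, ψ, hψ⟩ := exists_hom_idealMul_pow_restrict_eq I V hV M' M hM'.1 hM e.hom
  haveI h1 : IsIso (R.map (Dual3.idealMulι (I ^ n) M)) :=
    Groth.Agent.Helper14.CohLoc.isIso_restrict_idealMulι I V hV M n
  haveI h2 : IsIso (R.map ψ) := by
    change IsIso ((Scheme.Modules.restrictFunctor V.ι).map ψ)
    rw [hψ]
    infer_instance
  have pT : C ((Dual3.idealMul (I ^ n)).obj M) :=
    Groth.Agent.Helper14.CohLoc.isCoh_idealMul (I ^ n) M hM
  have cker : ∀ {M N : X.Modules} (f : M ⟶ N), C M → C N → C (kernel f) := fun f h h' =>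
    (Groth.Agent.S9514.result X h h' f).1
  have ccok : ∀ {M N : X.Modules} (f : M ⟶ N), C M → C N → C (cokernel f) := fun f h h' =>
    (Groth.Agent.S9514.result X h h' f).2
  have pQ : C (cokernel (Dual3.idealMulι (I ^ n) M)) := ccok _ pT hM
  have e1 : KZero.clSub C M = KZero.clSub C ((Dual3.idealMul (I ^ n)).obj M) +
      KZero.clSub C (cokernel (Dual3.idealMulι (I ^ n) M)) :=
    clSub_shortExact C _ (shortExact_ι (Dual3.idealMul (I ^ n)) (Tι (I ^ n)) M) pT hM pQ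
  have e2 := clSub_sub_eq_ker_sub_coker C cker ccok ψ pT hM'
  have z1 : IsZero (R.obj (cokernel (Dual3.idealMulι (I ^ n) M))) :=
    (isZero_cokernel_of_epi (R.map (Dual3.idealMulι (I ^ n) M))).of_iso (PreservesCokernel.iso R _)
  have z2 : IsZero (R.obj (kernel ψ)) :=
    (isZero_kernel_of_mono (R.map ψ)).of_iso (PreservesKernel.iso R _)
  have z3 : IsZero (R.obj (cokernel ψ)) :=
    (isZero_cokernel_of_epi (R.map ψ)).of_iso (PreservesCokernel.iso R _)
  have hsum : KZero.clSub C M - KZero.clSub C M' =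
      KZero.clSub C (cokernel (Dual3.idealMulι (I ^ n) M)) +
        (KZero.clSub C (kernel ψ) - KZero.clSub C (cokernel ψ)) := by
    rw [← e2, e1]
    abel
  change KZero.clSub C M - KZero.clSub C M' ∈ H
  rw [hsum]
  exact add_mem (hH _ pQ z1) (sub_mem (hH _ (cker ψ pT hM') z2) (hH _ (ccok ψ pT hM') z3))

theorem exists_coh_extension (F : (V : Scheme.{u}).Modules) (hF : Coh.IsCoh F) :
    ∃ M : X.Modules, Coh.IsCoh M ∧
      Nonempty ((Scheme.Modules.restrictFunctor V.ι).obj M ≅ F) := by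
  haveI := hF.1
  haveI := hF.2
  haveI := Groth.Agent.Helper14.GenFree.quasiCompact_ι V
  obtain ⟨n, W, hW, hUW⟩ := Groth.Agent.Helper13.Ext.exists_goodCover_of_qcqs (X := X)
  have hVc : IsCompact (V : Set X) := NoetherianSpace.isCompact _
  obtain ⟨M, h1, h2, h3⟩ :=
    Groth.Agent.Helper13.Ext.exists_extension_of_module W hW V (hUW V hVc) F
  exact ⟨M, ⟨h1, h2⟩, h3⟩

theorem exists_shortExact_extension (S : ShortComplex (V : Scheme.{u}).Modules) (hS : S.ShortExact)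
    (h₁ : Coh.IsCoh S.X₁) (h₂ : Coh.IsCoh S.X₂) (h₃ : Coh.IsCoh S.X₃) :
    ∃ S' : ShortComplex X.Modules, S'.ShortExact ∧ Coh.IsCoh S'.X₁ ∧ Coh.IsCoh S'.X₂ ∧
      Coh.IsCoh S'.X₃ ∧
      Nonempty ((Scheme.Modules.restrictFunctor V.ι).obj S'.X₁ ≅ S.X₁) ∧
      Nonempty ((Scheme.Modules.restrictFunctor V.ι).obj S'.X₂ ≅ S.X₂) ∧
      Nonempty ((Scheme.Modules.restrictFunctor V.ι).obj S'.X₃ ≅ S.X₃) := by
  let R := Scheme.Modules.restrictFunctor V.ι
  haveI := hS.mono_f
  obtain ⟨M₂, hM₂, ⟨e₂⟩⟩ := exists_coh_extension V S.X₂ h₂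
  haveI := hM₂.1
  haveI := h₁.2
  let i : S.X₁ ⟶ R.obj M₂ := S.f ≫ e₂.inv
  haveI : Mono i := mono_comp _ _
  obtain ⟨n, W, hW, hUW⟩ := Groth.Agent.Helper13.Ext.exists_goodCover_of_qcqs (X := X)
  have hVc : IsCompact (V : Set X) := NoetherianSpace.isCompact _
  obtain ⟨M₁, i', e, hmono, hq, hft, he⟩ :=
    Groth.Agent.Helper13.Ext.exists_extension_of_wellOrdered_cover W hW.1 hW.2.1 hW.2.2 V
      (hUW V hVc) M₂ i
  haveI := hmono
  have hM₁ : Coh.IsCoh M₁ := ⟨hq, hft⟩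
  have hM₃ : Coh.IsCoh (cokernel i') := (Groth.Agent.S9514.result X hM₁ hM₂ i').2
  refine ⟨ShortComplex.mk i' (cokernel.π i') (cokernel.condition i'),
    ShortComplex.ShortExact.mk' (ShortComplex.exact_cokernel _) hmono inferInstance,
    hM₁, hM₂, hM₃, ⟨e⟩, ⟨e₂⟩, ⟨?_⟩⟩
  have w1 : R.map i' ≫ (Iso.refl (R.obj M₂)).hom = e.hom ≫ i := by
    rw [Iso.refl_hom, Category.comp_id]
    exact he.symm
  have w2 : i ≫ e₂.hom = (Iso.refl S.X₁).hom ≫ S.f := by
    simp [i]
  exact PreservesCokernel.iso R i' ≪≫ cokernel.mapIso (R.map i') i e (Iso.refl _) w1 ≪≫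
    cokernel.mapIso i S.f (Iso.refl _) e₂ w2 ≪≫
    IsColimit.coconePointUniqueUpToIso (cokernelIsCokernel S.f) hS.gIsCokernel

end Conc

end Groth.Agent.Helper14.K0Dev
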