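import Groth.Agent.Lib.Helper14.K0LocB

set_option autoImplicit false
set_option linter.style.haveILetI false
set_option linter.unusedSectionVars false
set_option linter.unusedVariables false

universe u

open CategoryTheory CategoryTheory.Limits AlgebraicGeometry Opposite TopologicalSpace ZeroObject

namespace Groth.Agent.Helper14.K0Dev

open Groth.Agent.Helper14.IdealMul Groth.Agent.Helper14.CohFormal

section Sub

variable {Y : Scheme.{u}}

lemma subsingleton_sections_bot (N : Y.Modules) : Subsingleton Γ(N, (⊥ : Y.Opens)) := by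
  refine ⟨fun s t => ?_⟩
  apply TopCat.Sheaf.eq_of_locally_eq' ⟨N.presheaf, N.isSheaf⟩ (fun k : PEmpty.{1} => (⊥ : Y.Opens))
    (⊥ : Y.Opens) (fun k => k.elim)
  · exact bot_le
  · intro k
    exact k.elim

lemma subsingleton_sections_of_eq_bot (N : Y.Modules) (O : Y.Opens) (h : O = ⊥) :
    Subsingleton Γ(N, O) := by
  subst h
  exact subsingleton_sections_bot N

lemma isZero_of_subsingleton_sections (M : Y.Modules) (h : ∀ O : Y.Opens, Subsingleton Γ(M, O)) :
    IsZero M := by
  rw [IsZero.iff_id_eq_zero]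
  apply Scheme.Modules.hom_ext
  intro O
  ext s
  haveI := h O
  exact Subsingleton.elim _ _

end Sub

section Opens

variable {X X' : Scheme.{u}} [AlgebraicGeometry.IsNoetherian X] (i : X' ⟶ X) [IsClosedImmersion i]

omit [AlgebraicGeometry.IsNoetherian X] in
lemma isZero_restrict_pushforward (V : X.Opens) (hVi : (V : Set X) = (Set.range i)ᶜ)
    (N : X'.Modules) :
    IsZero ((Scheme.Modules.restrictFunctor V.ι).obj ((Scheme.Modules.pushforward i).obj N)) := by
  apply isZero_of_subsingleton_sections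
  intro O
  apply subsingleton_sections_of_eq_bot N (i ⁻¹ᵁ (V.ι ''ᵁ O))
  rw [eq_bot_iff]
  intro x hx
  obtain ⟨y, -, hy⟩ := hx
  have h1 : i x ∈ (V : Set X) := by
    rw [← hy]
    exact y.2
  rw [hVi] at h1
  exact h1 ⟨x, rfl⟩

/-- filt-1 objects are direct images. -/
lemma clSub_mem_range_of_filt_one [(Scheme.Modules.pushforward i).Additive]
    [PreservesFiniteLimits (Scheme.Modules.pushforward i)]
    [PreservesFiniteColimits (Scheme.Modules.pushforward i)]
    (hi : ∀ M : X'.Modules, Coh.IsCoh M → Coh.IsCoh ((Scheme.Modules.pushforward i).obj M))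
    (Z : X.Modules)
    (hZ : filt (Dual3.idealMul i.ker) (fun M : X.Modules => Coh.IsCoh M) 1 Z) :
    KZero.clSub (fun M : X.Modules => Coh.IsCoh M) Z ∈
      (SGA6.mapSub (Scheme.Modules.pushforward i) (fun M : X'.Modules => Coh.IsCoh M)
        (fun M : X.Modules => Coh.IsCoh M) hi).range := by
  haveI := hZ.1.1
  haveI := hZ.1.2
  have hz : IsZero ((Dual3.idealMul i.ker).obj Z) := hZ.2
  haveI : IsIso ((Scheme.Modules.pullbackPushforwardAdjunction i).unit.app Z) := by
    apply Groth.Agent.Helper28.UnitClosed.isIso_unit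
    intro U a ha m
    refine smul_eq_zero_of_isZero_idealMul i.ker Z hz U a ?_ m
    rw [Scheme.Hom.ker_apply]
    exact ha
  have hZ' : Coh.IsCoh ((Scheme.Modules.pullback i).obj Z) := ⟨inferInstance, inferInstance⟩
  refine ⟨KZero.clSub (fun M : X'.Modules => Coh.IsCoh M) ((Scheme.Modules.pullback i).obj Z), ?_⟩
  rw [mapSub_clSub _ _ _ hi _ hZ']
  exact (clSub_iso (fun M : X.Modules => Coh.IsCoh M) (isZero_zero X.Modules)
    (Groth.Agent.Helper5.K0Coh.isCoh_of_isZero (isZero_zero _))
    (asIso ((Scheme.Modules.pullbackPushforwardAdjunction i).unit.app Z)) hZ.1 (hi _ hZ')).symm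

theorem loc_opens (V : X.Opens) (hVi : (V : Set X) = (Set.range i)ᶜ)
    [(Scheme.Modules.pushforward i).Additive]
    [PreservesFiniteLimits (Scheme.Modules.pushforward i)]
    [PreservesFiniteColimits (Scheme.Modules.pushforward i)]
    (hi : ∀ M : X'.Modules, Coh.IsCoh M → Coh.IsCoh ((Scheme.Modules.pushforward i).obj M))
    (hr : ∀ M : X.Modules, Coh.IsCoh M →
      Coh.IsCoh ((Scheme.Modules.restrictFunctor V.ι).obj M)) :
    Function.Surjective (SGA6.mapSub (Scheme.Modules.restrictFunctor V.ι)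
        (fun M : X.Modules => Coh.IsCoh M) (fun M : (V : Scheme.{u}).Modules => Coh.IsCoh M) hr) ∧
      (SGA6.mapSub (Scheme.Modules.restrictFunctor V.ι)
        (fun M : X.Modules => Coh.IsCoh M) (fun M : (V : Scheme.{u}).Modules => Coh.IsCoh M) hr).ker =
      (SGA6.mapSub (Scheme.Modules.pushforward i) (fun M : X'.Modules => Coh.IsCoh M)
        (fun M : X.Modules => Coh.IsCoh M) hi).range := by
  let T := Dual3.idealMul i.ker
  let C : ObjectProperty X.Modules := fun M => Coh.IsCoh M
  have hV : (V : Set X) = (i.ker.support : Set X)ᶜ := by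
    rw [Scheme.Hom.support_ker, i.isClosedEmbedding.isClosed_range.closure_eq]
    exact hVi
  have ccok : ∀ {M N : X.Modules} (f : M ⟶ N), C M → C N → C (cokernel f) := fun f h h' =>
    (Groth.Agent.S9514.result X h h' f).2
  have cT : ∀ M, C M → C (T.obj M) := fun M h =>
    Groth.Agent.Helper14.CohLoc.isCoh_idealMul i.ker M h
  have cepi : ∀ {M M'' : X.Modules} (g : M ⟶ M'') [Epi g], C M → C M'' → Epi (T.map g) := by
    intro M M'' g _ h h''
    haveI := h.1
    haveI := h''.1
    exact epi_idealMul_map i.ker g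
  have hH : ∀ Z : X.Modules, Coh.IsCoh Z →
      IsZero ((Scheme.Modules.restrictFunctor V.ι).obj Z) →
      KZero.clSub C Z ∈ (SGA6.mapSub (Scheme.Modules.pushforward i)
        (fun M : X'.Modules => Coh.IsCoh M) (fun M : X.Modules => Coh.IsCoh M) hi).range := by
    intro Z hZ hz
    obtain ⟨n, hn⟩ := exists_isZero_Tn_of_isZero_restrict i.ker V hV Z hZ hz
    exact clSub_mem_of_filt T (Tι i.ker) C ccok cT cepi _
      (fun Z' hZ' => clSub_mem_range_of_filt_one i hi Z' hZ') n Z ⟨hZ, hn⟩
  refine loc_exact (Scheme.Modules.restrictFunctor V.ι) C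
    (fun M : (V : Scheme.{u}).Modules => Coh.IsCoh M) hr _ ?_ ?_ ?_ ?_
    (isZero_zero _) (Groth.Agent.Helper5.K0Coh.isCoh_of_isZero (isZero_zero _))
  · intro F hF
    exact exists_coh_extension V F hF
  · intro M M' hM hM' e
    exact clSub_sub_mem_of_restrict_iso i.ker V hV _ hH M M' hM hM' e.some
  · intro S hS h₁ h₂ h₃
    exact exists_shortExact_extension V S hS h₁ h₂ h₃
  · rintro x ⟨y, rfl⟩
    rw [AddMonoidHom.mem_ker]
    induction y using induction_on (fun M : X'.Modules => Coh.IsCoh M) with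
    | h0 => simp
    | hcl N hN =>
      rw [mapSub_clSub _ _ _ hi N hN, mapSub_clSub _ _ _ hr _ (hi N hN)]
      exact clSub_isZero _ (isZero_restrict_pushforward i V hVi N) (hr _ (hi N hN))
    | hneg x ih => rw [map_neg, map_neg, ih, neg_zero]
    | hadd x y ihx ihy => rw [map_add, map_add, ihx, ihy, add_zero]

end Opens

end Groth.Agent.Helper14.K0Dev
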