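import Mathlib
import Groth.Prelude
import Groth.Agent.Lib.Helper14.AdicFSRegular2

/-!
# Length and flat local homomorphisms; Artinian local formally smooth algebras over a field
-/

set_option autoImplicit false
set_option linter.unusedSectionVars false
set_option linter.style.haveILetI false
set_option linter.unusedVariables false

universe u v w

namespace Groth.Agent.Helper14.LengthFlat

open IsLocalRing TensorProduct Function

/-- An Artinian local ring formally smooth over a field is a field (same universe). -/
theorem maximalIdeal_eq_bot_same (k C : Type u) [Field k] [CommRing C] [IsLocalRing C]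
    [IsArtinianRing C] [Algebra k C] [Algebra.FormallySmooth k C] : maximalIdeal C = ⊥ := by
  have hfs : CAlgX.IsAdicFormallySmooth k C (maximalIdeal C) := by
    intro T _ _ J hJ ψ _
    exact Algebra.FormallySmooth.comp_surjective k C J hJ ψ
  obtain ⟨hreg, -⟩ := Groth.Agent.Helper14.AdicFSRegular.general k C hfs
  have h0 : ringKrullDim C = 0 := ringKrullDimZero_iff_ringKrullDim_eq_zero.mp inferInstance
  have h1 := hreg.spanFinrank_maximalIdeal
  rw [h0] at h1
  exact (Submodule.spanFinrank_eq_zero_iff_eq_bot (IsNoetherian.noetherian _)).mp
    (by exact_mod_cast h1)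

attribute [local instance] ULift.algebra' in
/-- An Artinian local ring formally smooth over a field is a field. -/
theorem maximalIdeal_eq_bot (k : Type u) (C : Type v) [Field k] [CommRing C] [IsLocalRing C]
    [IsArtinianRing C] [Algebra k C] [Algebra.FormallySmooth k C] : maximalIdeal C = ⊥ := by
  let k' := ULift.{v} k
  let C' := ULift.{u} C
  let eC : C' ≃+* C := ULift.ringEquiv
  haveI : IsScalarTower k' k C := IsScalarTower.of_algebraMap_eq fun x => rfl
  haveI : Algebra.FormallySmooth k' k :=
    Algebra.FormallySmooth.of_equiv (A := k')
      (AlgEquiv.ofRingEquiv (f := (ULift.ringEquiv : k' ≃+* k)) fun x => rfl)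
  haveI : Algebra.FormallySmooth k' C := Algebra.FormallySmooth.comp k' k C
  haveI : Algebra.FormallySmooth k' C' :=
    Algebra.FormallySmooth.of_equiv (A := C) (ULift.algEquiv (R := k') (A := C)).symm
  haveI : IsLocalRing C' := eC.symm.isLocalRing
  haveI : IsArtinianRing C' := eC.symm.isArtinianRing
  have h := maximalIdeal_eq_bot_same k' C'
  rw [← isField_iff_maximalIdeal_eq] at h ⊢
  exact eC.symm.toMulEquiv.isField h

end Groth.Agent.Helper14.LengthFlat
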