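import Mathlib

set_option autoImplicit false
set_option linter.style.haveILetI false
set_option linter.unusedSectionVars false
set_option linter.unusedVariables false
set_option maxRecDepth 8000

universe u v

open CategoryTheory CategoryTheory.Limits MonoidalCategory CartesianMonoidalCategory MonObj GrpObj AlgebraicGeometry

namespace Groth.Agent.Helper14.LftGrp

section LT
variable {C : Type u} [Category.{v} C] [CartesianMonoidalCategory C] {G : C} [GrpObj G]

/-- left translation of `G` by the global point `c`. -/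
noncomputable def lt (c : 𝟙_ C ⟶ G) : G ⟶ G := (toUnit G ≫ c) * 𝟙 G

theorem lt_comp (c d : 𝟙_ C ⟶ G) : lt c ≫ lt d = lt (d * c) := by
  unfold lt
  rw [MonObj.comp_mul, Category.comp_id, MonObj.comp_mul, ← Category.assoc,
    toUnit_unique (((toUnit G ≫ c) * 𝟙 G) ≫ toUnit G) (toUnit G), _root_.mul_assoc]

theorem lt_one : lt (1 : 𝟙_ C ⟶ G) = 𝟙 G := by
  unfold lt
  rw [MonObj.comp_one, _root_.one_mul]

theorem pt_lt (c d : 𝟙_ C ⟶ G) : c ≫ lt d = d * c := by
  unfold lt
  rw [MonObj.comp_mul, Category.comp_id, ← Category.assoc,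
    toUnit_unique (c ≫ toUnit G) (𝟙 _), Category.id_comp]

instance (c : 𝟙_ C ⟶ G) : IsIso (lt c) :=
  ⟨lt c⁻¹, by rw [lt_comp, inv_mul_cancel, lt_one], by rw [lt_comp, mul_inv_cancel, lt_one]⟩

end LT

section Jac

theorem exists_closed_mem {K : Type u} [Field K] {X : Scheme.{u}}
    (f : X ⟶ Spec (CommRingCat.of K)) [LocallyOfFiniteType f] (W : X.Opens)
    (hW : (W : Set X).Nonempty) : ∃ z ∈ W, IsClosed ({z} : Set X) := by
  have : JacobsonSpace X := LocallyOfFiniteType.jacobsonSpace f
  by_contra hcon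
  push Not at hcon
  have h1 : closedPoints X ⊆ (W : Set X)ᶜ := fun z hz hzW => hcon z hzW hz
  have h2 : closure (closedPoints X) = Set.univ := by
    have := JacobsonSpace.closure_inter_closedPoints (X := X) isClosed_univ
    simpa using this
  have h3 : (Set.univ : Set X) ⊆ (W : Set X)ᶜ := by
    rw [← h2]
    exact closure_minimal h1 W.isOpen.isClosed_compl
  obtain ⟨w, hw⟩ := hW
  exact h3 (Set.mem_univ w) hw

theorem eq_top_of_closed_mem {K : Type u} [Field K] {X : Scheme.{u}}
    (f : X ⟶ Spec (CommRingCat.of K)) [LocallyOfFiniteType f] (U : X.Opens)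
    (hU : ∀ z : X, IsClosed ({z} : Set X) → z ∈ U) : U = ⊤ := by
  have : JacobsonSpace X := LocallyOfFiniteType.jacobsonSpace f
  have h1 : closedPoints X ⊆ (U : Set X) := fun z hz => hU z hz
  by_contra hne
  have : ((U : Set X)ᶜ).Nonempty := by
    by_contra h
    rw [Set.not_nonempty_iff_eq_empty, Set.compl_empty_iff] at h
    exact hne (TopologicalSpace.Opens.ext (by simpa using h))
  have h2 := JacobsonSpace.closure_inter_closedPoints (X := X) U.isOpen.isClosed_compl
  have h3 : (U : Set X)ᶜ ∩ closedPoints X = ∅ := by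
    ext z
    simp only [Set.mem_inter_iff, Set.mem_compl_iff, Set.mem_empty_iff_false, iff_false, not_and]
    intro hz hz2
    exact hz (h1 hz2)
  rw [h3, closure_empty] at h2
  rw [← h2] at this
  exact Set.not_nonempty_empty this

end Jac

section Hom

/-- the statement of (RAT), as a hypothesis. -/
def RATStatement : Prop :=
  ∀ {K : Type u} [Field K] [IsAlgClosed K] {X : Scheme.{u}}
    (f : X ⟶ Spec (CommRingCat.of K)) [LocallyOfFiniteType f] (z : X)
    (_ : IsClosed ({z} : Set X)),
    ∃ σ : Spec (CommRingCat.of K) ⟶ X, σ ≫ f = 𝟙 _ ∧ ∀ p, σ p = z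

theorem hom_case (hRAT : RATStatement.{u}) (P : MorphismProperty Scheme.{u})
    [IsZariskiLocalAtSource P]
    (K : Type u) [Field K] [IsAlgClosed K] (H : Over (Spec (CommRingCat.of K))) [GrpObj H]
    [LocallyOfFiniteType H.hom]
    (W : H.left.Opens) (hW : (W : Set H.left).Nonempty) (hP : P (W.ι ≫ H.hom)) : P H.hom := by
  obtain ⟨w0, hw0W, hw0⟩ := exists_closed_mem H.hom W hW
  obtain ⟨σ0, hσ0, hσ0p⟩ := hRAT H.hom w0 hw0
  let c0 : 𝟙_ (Over (Spec (CommRingCat.of K))) ⟶ H := Over.homMk σ0 (by simpa using hσ0)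
  have hpt : ∀ z : H.left, IsClosed ({z} : Set H.left) →
      ∃ U : H.left.Opens, z ∈ U ∧ P (U.ι ≫ H.hom) := by
    intro z hz
    obtain ⟨σz, hσz, hσzp⟩ := hRAT H.hom z hz
    let cz : 𝟙_ (Over (Spec (CommRingCat.of K))) ⟶ H := Over.homMk σz (by simpa using hσz)
    let L : H ⟶ H := lt (cz * c0⁻¹)
    have hL : IsIso L.left := inferInstanceAs (IsIso ((Over.forget _).map L))
    let j : (W : Scheme) ⟶ H.left := W.ι ≫ L.left
    have hj : IsOpenImmersion j := inferInstance
    have hjw : j ≫ H.hom = W.ι ≫ H.hom := by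
      simp only [j, Category.assoc, Over.w]
    have hc : c0 ≫ L = cz := by
      rw [pt_lt, inv_mul_cancel_right]
    have hc' : σ0 ≫ L.left = σz := congrArg CommaMorphism.left hc
    refine ⟨j.opensRange, ?_, ?_⟩
    · have p0 : Spec (CommRingCat.of K) := Classical.arbitrary _
      refine ⟨⟨w0, hw0W⟩, ?_⟩
      change L.left (W.ι ⟨w0, hw0W⟩) = z
      have : W.ι ⟨w0, hw0W⟩ = σ0 p0 := (hσ0p p0).symm
      rw [this, ← hσzp p0, ← hc']
      rfl
    · rw [← IsOpenImmersion.isoOfRangeEq_inv_fac j (Scheme.Opens.ι _)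
        (congr_arg TopologicalSpace.Opens.carrier j.opensRange.opensRange_ι.symm), Category.assoc,
        P.cancel_left_of_respectsIso, hjw]
      exact hP
  choose U hU hUP using hpt
  refine IsZariskiLocalAtSource.of_iSup_eq_top (P := P)
    (fun z : {z : H.left // IsClosed ({z} : Set H.left)} => U z.1 z.2) ?_ (fun z => hUP z.1 z.2)
  apply eq_top_of_closed_mem H.hom
  intro z hz
  exact TopologicalSpace.Opens.mem_iSup.2 ⟨⟨z, hz⟩, hU z hz⟩

end Hom

end Groth.Agent.Helper14.LftGrp
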