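import Mathlib

set_option autoImplicit false
set_option linter.style.haveILetI false
set_option linter.unusedSectionVars false
set_option linter.unusedVariables false
set_option maxRecDepth 8000

universe u v w

open CategoryTheory CategoryTheory.Limits MonoidalCategory CartesianMonoidalCategory MonObj GrpObj

namespace Groth.Agent.Helper14.LftGrp

section TR
variable {C : Type u} [Category.{v} C] [CartesianMonoidalCategory C] {G : C} [GrpObj G] {T : C}

/-- translation of `T ⊗ G` over `T` by the `T`-point `c`. -/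
noncomputable def tr (c : T ⟶ G) : T ⊗ G ⟶ T ⊗ G :=
  lift (fst T G) ((fst T G ≫ c) * snd T G)

@[reassoc (attr := simp)]
theorem tr_fst (c : T ⟶ G) : tr c ≫ fst T G = fst T G := by
  simp [tr]

@[reassoc]
theorem tr_snd (c : T ⟶ G) : tr c ≫ snd T G = (fst T G ≫ c) * snd T G := by
  simp [tr]

theorem tr_comp (c d : T ⟶ G) : tr c ≫ tr d = tr (d * c) := by
  apply CartesianMonoidalCategory.hom_ext
  · simp
  · rw [Category.assoc, tr_snd, MonObj.comp_mul, tr_fst_assoc, tr_snd, tr_snd, MonObj.comp_mul,
      _root_.mul_assoc]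

theorem tr_one : tr (1 : T ⟶ G) = 𝟙 (T ⊗ G) := by
  apply CartesianMonoidalCategory.hom_ext
  · simp
  · rw [tr_snd, MonObj.comp_one, _root_.one_mul, Category.id_comp]

theorem lift_tr (c b : T ⟶ G) : lift (𝟙 T) b ≫ tr c = lift (𝟙 T) (c * b) := by
  apply CartesianMonoidalCategory.hom_ext
  · simp
  · rw [Category.assoc, tr_snd, MonObj.comp_mul, lift_fst_assoc, Category.id_comp, lift_snd,
      lift_snd]

instance (c : T ⟶ G) : IsIso (tr c) :=
  ⟨tr c⁻¹, by rw [tr_comp, inv_mul_cancel, tr_one], by rw [tr_comp, mul_inv_cancel, tr_one]⟩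

end TR

end Groth.Agent.Helper14.LftGrp
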