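import Mathlib
import Groth.Agent.Lib.Helper14.LftGrpTR
import Groth.Agent.Lib.Helper10.PDSch
import Groth.Agent.Lib.Helper13.PDesc

set_option autoImplicit false
set_option linter.style.haveILetI false
set_option linter.unusedSectionVars false
set_option linter.unusedVariables false
set_option maxRecDepth 8000

universe u

open CategoryTheory CategoryTheory.Limits MonoidalCategory CartesianMonoidalCategory MonObj GrpObj AlgebraicGeometry

namespace Groth.Agent.Helper14.LftGrp

theorem hPD : Groth.Agent.Helper10.PDSch.PDStatement.{u} :=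
  fun f' q' hq' hft => Groth.Agent.Helper13.PDesc.PD f' q' hq' hft

theorem field_case (k : Type u) [Field k] (G : Over (Spec (CommRingCat.of k))) [GrpObj G]
    (W : G.left.Opens) (hW : (W : Set G.left).Nonempty) [LocallyOfFiniteType (W.ι ≫ G.hom)] :
    LocallyOfFiniteType G.hom := by
  -- the objects
  let Wobj : Over (Spec (CommRingCat.of k)) := Over.mk (W.ι ≫ G.hom)
  let ιW : Wobj ⟶ G := Over.homMk W.ι rfl
  let T : Over (Spec (CommRingCat.of k)) := G ⊗ Wobj
  let a : T ⟶ G := fst G Wobj
  let bW : T ⟶ Wobj := snd G Wobj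
  let b : T ⟶ G := bW ≫ ιW
  -- the open immersion
  let j : T ⊗ Wobj ⟶ T ⊗ G := (T ◁ ιW) ≫ tr (a * b⁻¹)
  have hj : IsOpenImmersion j.left := by
    have h1 : IsOpenImmersion (T ◁ ιW).left := by
      rw [Over.whiskerLeft_left]
      have : IsOpenImmersion ιW.left := inferInstanceAs (IsOpenImmersion W.ι)
      infer_instance
    have h2 : IsIso (tr (a * b⁻¹)).left :=
      inferInstanceAs (IsIso ((Over.forget _).map (tr (a * b⁻¹))))
    change IsOpenImmersion ((T ◁ ιW).left ≫ (tr (a * b⁻¹)).left)
    infer_instance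
  have hjfst : j.left ≫ pullback.fst T.hom G.hom = pullback.fst T.hom Wobj.hom := by
    have : j ≫ fst T G = fst T Wobj := by
      simp only [j, Category.assoc, tr_fst, whiskerLeft_fst]
    exact congrArg CommaMorphism.left this
  have hlft : LocallyOfFiniteType (j.left ≫ pullback.fst T.hom G.hom) := by
    rw [hjfst]
    have : LocallyOfFiniteType Wobj.hom := inferInstanceAs (LocallyOfFiniteType (W.ι ≫ G.hom))
    infer_instance
  -- surjectivity of a
  have hsurj : Function.Surjective a.left := by
    have h1 : Surjective Wobj.hom := by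
      constructor
      intro s
      obtain ⟨w, hw⟩ := hW
      refine ⟨⟨w, hw⟩, Subsingleton.elim _ _⟩
    have : Surjective (pullback.fst G.hom Wobj.hom) := inferInstance
    exact this.surj
  -- key identity
  have hkey : lift (𝟙 T) bW ≫ j = lift (𝟙 T) a := by
    have e1 : lift (𝟙 T) bW ≫ (T ◁ ιW) = lift (𝟙 T) b := by
      apply CartesianMonoidalCategory.hom_ext <;> simp [b]
    simp only [j]
    rw [← Category.assoc, e1, lift_tr, inv_mul_cancel_right]
  have hpt : ∀ x : G.left, ∃ U : G.left.Opens, x ∈ U ∧ LocallyOfFiniteType (U.ι ≫ G.hom) := by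
    intro x
    obtain ⟨t, rfl⟩ := hsurj x
    obtain ⟨U, hU, hUl⟩ := Groth.Agent.Helper10.PDSch.PDS_aux hPD (k := k) G.hom T.hom j.left ((lift (𝟙 T) bW).left t)
    refine ⟨U, ?_, hUl⟩
    have e2 : (lift (𝟙 T) bW).left ≫ j.left ≫ pullback.snd T.hom G.hom = a.left := by
      have : (lift (𝟙 T) bW ≫ j) ≫ snd T G = a := by rw [hkey, lift_snd]
      exact congrArg CommaMorphism.left this
    have e3 : (pullback.snd T.hom G.hom) (j.left ((lift (𝟙 T) bW).left t)) = a.left t := by
      rw [← e2]; rfl
    rw [← e3]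
    exact hU
  choose U hU hUl using hpt
  refine IsZariskiLocalAtSource.of_iSup_eq_top (P := @LocallyOfFiniteType) U ?_ hUl
  rw [eq_top_iff]
  intro x _
  exact TopologicalSpace.Opens.mem_iSup.2 ⟨x, hU x⟩

end Groth.Agent.Helper14.LftGrp
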