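import Mathlib
import Groth.Agent.Lib.Helper14.LftGrpField
import Groth.Agent.Lib.Helper12.RedLFT

set_option autoImplicit false
set_option linter.style.haveILetI false
set_option linter.unusedSectionVars false
set_option linter.unusedVariables false
set_option maxRecDepth 8000

universe u

open CategoryTheory CategoryTheory.Limits MonoidalCategory CartesianMonoidalCategory MonObj GrpObj AlgebraicGeometry

namespace Groth.Agent.Helper14.LftGrp

theorem main5340 (A : Type u) [CommRing A] [IsArtinianRing A] [IsLocalRing A]
    (G : Over (Spec (CommRingCat.of A))) [GrpObj G]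
    (W : G.left.Opens) (hW : (W : Set G.left).Nonempty) [LocallyOfFiniteType (W.ι ≫ G.hom)] :
    LocallyOfFiniteType G.hom := by
  let φ : Spec (CommRingCat.of (IsLocalRing.ResidueField A)) ⟶ Spec (CommRingCat.of A) :=
    Spec.map (CommRingCat.ofHom (IsLocalRing.residue A))
  let Gk : Over (Spec (CommRingCat.of (IsLocalRing.ResidueField A))) := (Over.pullback φ).obj G
  letI : GrpObj Gk := Functor.grpObjObj (F := Over.pullback φ) (G := G)
  let Wk : Gk.left.Opens := (pullback.fst G.hom φ) ⁻¹ᵁ W
  have hφ : Surjective φ := by
    constructor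
    intro s
    have hsub : Subsingleton (PrimeSpectrum A) := by
      constructor
      intro p q
      ext1
      have hp : p.asIdeal.IsMaximal := IsArtinianRing.isMaximal_of_isPrime p.asIdeal
      have hq : q.asIdeal.IsMaximal := IsArtinianRing.isMaximal_of_isPrime q.asIdeal
      rw [IsLocalRing.eq_maximalIdeal hp, IsLocalRing.eq_maximalIdeal hq]
    have : Nonempty (Spec (CommRingCat.of (IsLocalRing.ResidueField A))) :=
      inferInstanceAs (Nonempty (PrimeSpectrum (IsLocalRing.ResidueField A)))
    obtain ⟨t⟩ := this
    exact ⟨t, hsub.elim _ _⟩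
  have hWk : (Wk : Set Gk.left).Nonempty := by
    obtain ⟨w, hw⟩ := hW
    have : Surjective (pullback.fst G.hom φ) := inferInstance
    obtain ⟨z, hz⟩ := this.surj w
    exact ⟨z, by change (pullback.fst G.hom φ) z ∈ W; rw [hz]; exact hw⟩
  have sq : IsPullback (pullback.fst G.hom φ ∣_ W) (Wk.ι ≫ pullback.snd G.hom φ)
      (W.ι ≫ G.hom) φ :=
    (isPullback_morphismRestrict (pullback.fst G.hom φ) W).paste_vert
      (IsPullback.of_hasPullback G.hom φ)
  have hl : LocallyOfFiniteType (Wk.ι ≫ Gk.hom) :=
    MorphismProperty.of_isPullback (P := @LocallyOfFiniteType) sq inferInstance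
  have := field_case (IsLocalRing.ResidueField A) Gk Wk hWk
  exact Groth.Agent.Helper12.RedLFT.RED G.hom this

end Groth.Agent.Helper14.LftGrp
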