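import Mathlib
import Groth.Agent.Lib.Helper14.LftGrpP
import Groth.Agent.Lib.Helper3.RatPt
import Groth.Agent.Lib.Helper19.RedKSmooth
import Groth.Agent.Lib.Helper11.RedKLqf
import Groth.Agent.Lib.Helper3.RedFU

set_option autoImplicit false
set_option linter.style.haveILetI false
set_option linter.unusedSectionVars false
set_option linter.unusedVariables false
set_option maxRecDepth 8000

universe u

open CategoryTheory CategoryTheory.Limits MonoidalCategory CartesianMonoidalCategory MonObj GrpObj AlgebraicGeometry

namespace Groth.Agent.Helper14.LftGrp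

theorem RAT : RATStatement.{u} :=
  fun f _ z hz => Groth.Agent.Lib.Helper3.RatPt.RAT f z hz

theorem main5339 (A : Type u) [CommRing A] [IsArtinianRing A] [IsLocalRing A]
    (G : Over (Spec (CommRingCat.of A))) [GrpObj G] [Flat G.hom]
    (W : G.left.Opens) (hW : (W : Set G.left).Nonempty) :
    (LocallyQuasiFinite (W.ι ≫ G.hom) → LocallyOfFiniteType (W.ι ≫ G.hom) →
      LocallyQuasiFinite G.hom ∧ LocallyOfFiniteType G.hom) ∧
    (FormallyUnramified (W.ι ≫ G.hom) → LocallyOfFinitePresentation (W.ι ≫ G.hom) →
      FormallyUnramified G.hom ∧ LocallyOfFinitePresentation G.hom) ∧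
    (Smooth (W.ι ≫ G.hom) → Smooth G.hom) ∧ (Etale (W.ι ≫ G.hom) → Etale G.hom) := by
  have hlfp : LocallyOfFiniteType G.hom → LocallyOfFinitePresentation G.hom := fun h =>
    LocallyOfFinitePresentation.iff_locallyOfFiniteType.mpr h
  have h2 : FormallyUnramified (W.ι ≫ G.hom) → LocallyOfFinitePresentation (W.ι ≫ G.hom) →
      FormallyUnramified G.hom ∧ LocallyOfFinitePresentation G.hom := by
    intro hfu hfp
    have hG : LocallyOfFiniteType G.hom := main5340 A G W hW
    have := core RAT @FormallyUnramified A G W hW hfu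
    exact ⟨Groth.Agent.Lib.Helper3.RedFU.REDK_fu (toAC A) G.hom this, hlfp hG⟩
  refine ⟨?_, h2, ?_, ?_⟩
  · intro hqf hft
    have hG : LocallyOfFiniteType G.hom := main5340 A G W hW
    have := core RAT @LocallyQuasiFinite A G W hW hqf
    exact ⟨Groth.Agent.Helper11.RedKLqf.REDK_lqf (toAC A) G.hom this, hG⟩
  · intro hsm
    have hG : LocallyOfFiniteType G.hom := main5340 A G W hW
    have := hlfp hG
    have := core RAT @Smooth A G W hW hsm
    exact Groth.Agent.Helper19.RedKSmooth.REDK_smooth (toAC A) G.hom this
  · intro het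
    obtain ⟨hfu, hfp⟩ := h2 inferInstance inferInstance
    exact Etale.of_formallyUnramified_of_flat G.hom

end Groth.Agent.Helper14.LftGrp
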