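import Mathlib
import Groth.Agent.Lib.Helper4.LimStage

/-!
# Re-basing the "stage" form of limit statements to a later stage
-/

set_option autoImplicit false
universe u
open AlgebraicGeometry CategoryTheory CategoryTheory.Limits

namespace Groth.Agent.Helper14.LimRebase

variable {I : Type u} [SmallCategory I] (D : I ⥤ Scheme.{u})
  [∀ {i j} (f : i ⟶ j), IsAffineHom (D.map f)] (c : Cone D)

section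

variable {i₀ i₁ : I} (φ₁ : i₁ ⟶ i₀) {X₀ Y₀ X₁ Y₁ : Scheme.{u}} {f₀ : X₀ ⟶ Y₀} {g₀ : Y₀ ⟶ D.obj i₀}
  {f₁ : X₁ ⟶ Y₁} {g₁ : Y₁ ⟶ D.obj i₁} {pY₁ : Y₁ ⟶ Y₀} {pX₁ : X₁ ⟶ X₀}
  (hY₁ : IsPullback pY₁ g₁ g₀ (D.map φ₁)) (hX₁ : IsPullback pX₁ f₁ f₀ pY₁)

include hY₁ in
theorem isAffineHom_pY : IsAffineHom pY₁ :=
  MorphismProperty.of_isPullback (P := @IsAffineHom) hY₁.flip inferInstance

include hY₁ hX₁ in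
theorem isAffineHom_pX : IsAffineHom pX₁ :=
  haveI := isAffineHom_pY D φ₁ hY₁
  MorphismProperty.of_isPullback (P := @IsAffineHom) hX₁.flip inferInstance

omit [∀ {i j} (f : i ⟶ j), IsAffineHom (D.map f)] in
theorem compactSpace_of_isAffineHom {X Y : Scheme.{u}} (p : X ⟶ Y) [IsAffineHom p]
    [CompactSpace Y] : CompactSpace X :=
  QuasiCompact.compactSpace_of_compactSpace p

omit [∀ {i j} (f : i ⟶ j), IsAffineHom (D.map f)] in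
theorem quasiSeparatedSpace_of_isAffineHom {X Y : Scheme.{u}} (p : X ⟶ Y) [IsAffineHom p]
    [QuasiSeparatedSpace Y] : QuasiSeparatedSpace X :=
  quasiSeparatedSpace_of_quasiSeparated p

variable {X Y : Scheme.{u}} {f : X ⟶ Y} {g : Y ⟶ c.pt} {qY : Y ⟶ Y₀} {qX : X ⟶ X₀}
  (hY : IsPullback qY g g₀ (c.π.app i₀)) (hX : IsPullback qX f f₀ qY)

omit [∀ {i j} (f : i ⟶ j), IsAffineHom (D.map f)] in
include hY₁ hY in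
/-- the limit-level square over the later stage -/
theorem exists_rebase_Y : ∃ qY₁ : Y ⟶ Y₁, qY₁ ≫ pY₁ = qY ∧ IsPullback qY₁ g g₁ (c.π.app i₁) := by
  have hw : qY ≫ g₀ = (g ≫ c.π.app i₁) ≫ D.map φ₁ := by
    rw [Category.assoc, c.w φ₁, hY.w]
  refine ⟨hY₁.lift qY (g ≫ c.π.app i₁) hw, hY₁.lift_fst _ _ _, ?_⟩
  have hbig : IsPullback (hY₁.lift qY (g ≫ c.π.app i₁) hw ≫ pY₁) g g₀
      (c.π.app i₁ ≫ D.map φ₁) := by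
    rw [hY₁.lift_fst, c.w φ₁]
    exact hY
  exact IsPullback.of_right hbig (hY₁.lift_snd _ _ _) hY₁

omit [∀ {i j} (f : i ⟶ j), IsAffineHom (D.map f)] in
include hX₁ hX in
theorem exists_rebase_X {qY₁ : Y ⟶ Y₁} (hq : qY₁ ≫ pY₁ = qY) :
    ∃ qX₁ : X ⟶ X₁, qX₁ ≫ pX₁ = qX ∧ IsPullback qX₁ f f₁ qY₁ := by
  have hw : qX ≫ f₀ = (f ≫ qY₁) ≫ pY₁ := by
    rw [Category.assoc, hq, hX.w]
  refine ⟨hX₁.lift qX (f ≫ qY₁) hw, hX₁.lift_fst _ _ _, ?_⟩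
  have hbig : IsPullback (hX₁.lift qX (f ≫ qY₁) hw ≫ pX₁) f f₀ (qY₁ ≫ pY₁) := by
    rw [hX₁.lift_fst, hq]
    exact hX
  exact IsPullback.of_right hbig (hX₁.lift_snd _ _ _) hX₁

end

section compose

variable {i₀ i₁ i₂ : I} (φ₁ : i₁ ⟶ i₀) (φ₂ : i₂ ⟶ i₁) {X₀ Y₀ X₁ Y₁ X₂ Y₂ : Scheme.{u}}
  {f₀ : X₀ ⟶ Y₀} {g₀ : Y₀ ⟶ D.obj i₀}
  {f₁ : X₁ ⟶ Y₁} {g₁ : Y₁ ⟶ D.obj i₁} {pY₁ : Y₁ ⟶ Y₀} {pX₁ : X₁ ⟶ X₀}
  {f₂ : X₂ ⟶ Y₂} {g₂ : Y₂ ⟶ D.obj i₂} {pY₂ : Y₂ ⟶ Y₁} {pX₂ : X₂ ⟶ X₁}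
  (hY₁ : IsPullback pY₁ g₁ g₀ (D.map φ₁)) (hX₁ : IsPullback pX₁ f₁ f₀ pY₁)
  (hY₂ : IsPullback pY₂ g₂ g₁ (D.map φ₂)) (hX₂ : IsPullback pX₂ f₂ f₁ pY₂)

omit [∀ {i j} (f : i ⟶ j), IsAffineHom (D.map f)] in
include hY₁ hY₂ in
theorem compose_Y : IsPullback (pY₂ ≫ pY₁) g₂ g₀ (D.map (φ₂ ≫ φ₁)) := by
  rw [D.map_comp]
  exact hY₂.paste_horiz hY₁

omit [∀ {i j} (f : i ⟶ j), IsAffineHom (D.map f)] in
include hX₁ hX₂ in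
theorem compose_X : IsPullback (pX₂ ≫ pX₁) f₂ f₀ (pY₂ ≫ pY₁) :=
  hX₂.paste_horiz hX₁

end compose

end Groth.Agent.Helper14.LimRebase
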