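import Mathlib
import Groth.Prelude
import Groth.Agent.S2075
import Groth.Agent.S9187
import Groth.Agent.Lib.Helper14.LimRebase

/-!
# Finite locally free morphisms of degree `d` descend to a stage
-/

set_option autoImplicit false
universe u
open AlgebraicGeometry CategoryTheory CategoryTheory.Limits

namespace Groth.Agent.Helper14.LimFinLocFree

open Groth.Agent.Helper14.LimRebase

set_option maxHeartbeats 1000000 in
theorem main {I : Type u} [SmallCategory I] [IsCofiltered I]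
    (D : I ⥤ Scheme.{u}) (c : Limits.Cone D) (hc : Limits.IsLimit c)
    [∀ (i j : I) (f : i ⟶ j), IsAffineHom (D.map f)] (i₀ : I) [CompactSpace (D.obj i₀)]
    [QuasiSeparatedSpace (D.obj i₀)] {X₀ Y₀ : Scheme.{u}} (f₀ : X₀ ⟶ Y₀) (g₀ : Y₀ ⟶ D.obj i₀)
    [CompactSpace X₀] [QuasiSeparatedSpace X₀] [CompactSpace Y₀] [QuasiSeparatedSpace Y₀]
    [LocallyOfFinitePresentation f₀] (d : ℕ)
    {X Y : Scheme.{u}} (f : X ⟶ Y) (g : Y ⟶ c.pt) (qY : Y ⟶ Y₀) (qX : X ⟶ X₀)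
    (hY : IsPullback qY g g₀ (c.π.app i₀)) (hX : IsPullback qX f f₀ qY)
    (hf : Mor2.IsFinLocFreeOfDeg d f) :
    ∃ (i : I) (φ : i ⟶ i₀) (Xi Yi : Scheme.{u}) (fi : Xi ⟶ Yi) (gi : Yi ⟶ D.obj i) (pY : Yi ⟶ Y₀)
      (pX : Xi ⟶ X₀), IsPullback pY gi g₀ (D.map φ) ∧ IsPullback pX fi f₀ pY ∧
        Mor2.IsFinLocFreeOfDeg d fi := by
  haveI hA : ∀ {i j : I} (f : i ⟶ j), IsAffineHom (D.map f) := fun f => inferInstance
  obtain ⟨⟨hfin, hflat, hlfp⟩, hrk⟩ := hf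
  haveI := hfin
  haveI := hflat
  -- Step 1: flatness at a stage
  obtain ⟨i₁, φ₁, X₁, Y₁, f₁, g₁, pY₁, pX₁, hY₁, hX₁, hfl₁⟩ :=
    Groth.Agent.S2075.result D c hc i₀ f₀ g₀ f g qY qX hY hX
  haveI := hfl₁
  haveI : IsAffineHom pY₁ := isAffineHom_pY D φ₁ hY₁
  haveI : IsAffineHom pX₁ := isAffineHom_pX D φ₁ hY₁ hX₁
  haveI : CompactSpace (D.obj i₁) := compactSpace_of_isAffineHom (D.map φ₁)
  haveI : QuasiSeparatedSpace (D.obj i₁) := quasiSeparatedSpace_of_isAffineHom (D.map φ₁)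
  haveI : CompactSpace X₁ := compactSpace_of_isAffineHom pX₁
  haveI : QuasiSeparatedSpace X₁ := quasiSeparatedSpace_of_isAffineHom pX₁
  haveI : CompactSpace Y₁ := compactSpace_of_isAffineHom pY₁
  haveI : QuasiSeparatedSpace Y₁ := quasiSeparatedSpace_of_isAffineHom pY₁
  haveI : LocallyOfFinitePresentation f₁ :=
    MorphismProperty.of_isPullback (P := @LocallyOfFinitePresentation) hX₁ inferInstance
  obtain ⟨qY₁, hqY₁, hYl₁⟩ := exists_rebase_Y D c φ₁ hY₁ hY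
  obtain ⟨qX₁, hqX₁, hXl₁⟩ := exists_rebase_X hX₁ hX hqY₁
  -- Step 2: finiteness at a stage
  obtain ⟨i₂, φ₂, X₂, Y₂, f₂, g₂, pY₂, pX₂, hY₂, hX₂, hfin₂⟩ :=
    Groth.Agent.S9187.result D c hc i₁ f₁ g₁ f g qY₁ qX₁ hYl₁ hXl₁
  haveI := hfin₂
  haveI : Flat f₂ := MorphismProperty.of_isPullback (P := @Flat) hX₂ inferInstance
  haveI : LocallyOfFinitePresentation f₂ :=
    MorphismProperty.of_isPullback (P := @LocallyOfFinitePresentation) hX₂ inferInstance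
  haveI : IsAffineHom pY₂ := isAffineHom_pY D φ₂ hY₂
  haveI : IsAffineHom pX₂ := isAffineHom_pX D φ₂ hY₂ hX₂
  haveI : CompactSpace (D.obj i₂) := compactSpace_of_isAffineHom (D.map φ₂)
  haveI : QuasiSeparatedSpace (D.obj i₂) := quasiSeparatedSpace_of_isAffineHom (D.map φ₂)
  haveI : CompactSpace Y₂ := compactSpace_of_isAffineHom pY₂
  haveI : QuasiSeparatedSpace Y₂ := quasiSeparatedSpace_of_isAffineHom pY₂
  obtain ⟨qY₂, hqY₂, hYl₂⟩ := exists_rebase_Y D c φ₂ hY₂ hYl₁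
  obtain ⟨qX₂, hqX₂, hXl₂⟩ := exists_rebase_X hX₂ hXl₁ hqY₂
  -- Step 3: the rank
  let C : Set Y₂ := {y | f₂.finrank y ≠ d}
  have hlc := Scheme.Hom.isLocallyConstant_finrank f₂
  have hopen : IsOpen C := hlc {n | n ≠ d}
  have hclosed : IsClosed C := by
    rw [← isOpen_compl_iff]
    have : Cᶜ = f₂.finrank ⁻¹' {d} := by
      ext y
      simp [C]
    rw [this]
    exact hlc {d}
  have hC : Topology.IsConstructible C := hclosed.isCompact.isConstructible hopen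
  have h1 : qY₂ ⁻¹' C = ∅ := by
    rw [Set.eq_empty_iff_forall_notMem]
    intro y hy
    apply hy
    change f₂.finrank (qY₂ y) = d
    rw [← Scheme.Hom.finrank_of_isPullback qX₂ f f₂ qY₂ hXl₂ y]
    exact hrk y
  haveI : QuasiCompact g₂ := quasiCompact_of_compactSpace _
  obtain ⟨j, φ₃, hj⟩ := Groth.Agent.Helper4.LimStage.exists_preimage_eq_empty_stage D c hc i₂ g₂ hC
    g qY₂ hYl₂ h1
  have hY₃ : IsPullback (pullback.snd (D.map φ₃) g₂) (pullback.fst (D.map φ₃) g₂) g₂ (D.map φ₃) :=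
    (IsPullback.of_hasPullback (D.map φ₃) g₂).flip
  have hX₃ : IsPullback (pullback.fst f₂ (pullback.snd (D.map φ₃) g₂)) (pullback.snd f₂ _) f₂
      (pullback.snd (D.map φ₃) g₂) := IsPullback.of_hasPullback _ _
  refine ⟨j, φ₃ ≫ φ₂ ≫ φ₁, pullback f₂ (pullback.snd (D.map φ₃) g₂), pullback (D.map φ₃) g₂,
    pullback.snd f₂ _, pullback.fst (D.map φ₃) g₂, pullback.snd (D.map φ₃) g₂ ≫ pY₂ ≫ pY₁,
    pullback.fst f₂ _ ≫ pX₂ ≫ pX₁, ?_, ?_, ⟨⟨inferInstance, inferInstance, inferInstance⟩, ?_⟩⟩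
  · exact compose_Y D (φ₂ ≫ φ₁) φ₃ (compose_Y D φ₁ φ₂ hY₁ hY₂) hY₃
  · exact compose_X (compose_X hX₁ hX₂) hX₃
  · intro y
    rw [Scheme.Hom.finrank_pullback_snd]
    by_contra h
    have hmem : y ∈ (pullback.snd (D.map φ₃) g₂) ⁻¹' C := h
    rw [hj] at hmem
    exact hmem

end Groth.Agent.Helper14.LimFinLocFree
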