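import Mathlib
import Groth.Agent.Lib.Helper14.LimModH

/-!
# Right exact sequences and factorisations through quotients, under right exact functors (helper14)
-/

open CategoryTheory AlgebraicGeometry Limits Opposite TopologicalSpace

universe u

namespace Groth.Agent.Helper14.LimMod

section Abstract

variable {C C' : Type*} [Category C] [Category C'] [Abelian C] [Abelian C']

/-- `F ⟶ G ⟶ H ⟶ 0` is exact. -/
def RightExact {F G H : C} (f : F ⟶ G) (g : G ⟶ H) : Prop :=
  ∃ w : f ≫ g = 0, (ShortComplex.mk f g w).Exact ∧ Epi g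

lemma rightExact_iff {F G H : C} (f : F ⟶ G) (g : G ⟶ H) :
    RightExact f g ↔ ∃ w : f ≫ g = 0, Nonempty (IsColimit (CokernelCofork.ofπ g w)) := by
  constructor
  · rintro ⟨w, h⟩
    exact ⟨w, (ShortComplex.exact_and_epi_g_iff_g_is_cokernel (ShortComplex.mk f g w)).1 h⟩
  · rintro ⟨w, h⟩
    exact ⟨w, (ShortComplex.exact_and_epi_g_iff_g_is_cokernel (ShortComplex.mk f g w)).2 h⟩

variable (L : C ⥤ C') [L.Additive] [PreservesFiniteColimits L]

/-- For a right exact functor `L` and `f ≫ g = 0`, the sequence `L f, L g` is right exact iff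
`L` inverts the comparison `coker f ⟶ H`. -/
lemma rightExact_map_iff {F G H : C} (f : F ⟶ G) (g : G ⟶ H) (w : f ≫ g = 0) :
    RightExact (L.map f) (L.map g) ↔ IsIso (L.map (cokernel.desc f g w)) := by
  have w' : L.map f ≫ L.map g = 0 := by rw [← L.map_comp, w, L.map_zero]
  have hcπ : IsColimit ((CokernelCofork.ofπ (cokernel.π f) (cokernel.condition f)).map L) :=
    CokernelCofork.mapIsColimit _ (cokernelIsCokernel f) L
  have hd : L.map (cokernel.π f) ≫ L.map (cokernel.desc f g w) = L.map g := by
    rw [← L.map_comp, cokernel.π_desc]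
  rw [rightExact_iff]
  constructor
  · rintro ⟨_, ⟨hcg⟩⟩
    let e := hcπ.coconePointUniqueUpToIso hcg
    have he : e.hom = L.map (cokernel.desc f g w) := by
      apply Cofork.IsColimit.hom_ext hcπ
      exact (hcπ.comp_coconePointUniqueUpToIso_hom hcg WalkingParallelPair.one).trans hd.symm
    rw [← he]
    infer_instance
  · intro h
    let e : L.obj (cokernel f) ≅ L.obj H := @asIso _ _ _ _ (L.map (cokernel.desc f g w)) h
    refine ⟨w', ⟨IsColimit.ofIsoColimit hcπ (Cofork.ext e ?_)⟩⟩
    exact hd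

lemma RightExact.cokernel_desc_isIso {F G H : C} {f : F ⟶ G} {g : G ⟶ H} (h : RightExact f g) :
    IsIso (cokernel.desc f g h.choose) := by
  have := (rightExact_map_iff (𝟭 C) f g h.choose).1 h
  exact this

/-- Right exact functors preserve right exact sequences. -/
lemma RightExact.map {F G H : C} {f : F ⟶ G} {g : G ⟶ H} (h : RightExact f g) :
    RightExact (L.map f) (L.map g) := by
  rw [rightExact_map_iff L f g h.choose]
  haveI := h.cokernel_desc_isIso
  infer_instance

omit [L.Additive] [PreservesFiniteColimits L] in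
/-- Right exactness of the image of a pair of morphisms transfers along natural isomorphisms. -/
lemma rightExact_map_iff_of_iso {L' : C ⥤ C'} (e : L ≅ L') {F G H : C} (f : F ⟶ G) (g : G ⟶ H) :
    RightExact (L.map f) (L.map g) ↔ RightExact (L'.map f) (L'.map g) := by
  have key : ∀ {L₁ L₂ : C ⥤ C'} (e : L₁ ≅ L₂), RightExact (L₁.map f) (L₁.map g) →
      RightExact (L₂.map f) (L₂.map g) := by
    rintro L₁ L₂ e ⟨w, hex, hepi⟩
    have w' : L₂.map f ≫ L₂.map g = 0 := by
      rw [← NatIso.naturality_1 e f, ← NatIso.naturality_1 e g]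
      simp only [Category.assoc, Iso.hom_inv_id_app_assoc, reassoc_of% w, zero_comp, comp_zero]
    refine ⟨w', ?_, ?_⟩
    · refine (ShortComplex.exact_iff_of_iso (ShortComplex.isoMk (e.app F) (e.app G) (e.app H)
        ?_ ?_)).1 hex
      · simp
      · simp
    · have : L₂.map g = e.inv.app G ≫ L₁.map g ≫ e.hom.app H := (NatIso.naturality_1 e g).symm
      rw [this]
      infer_instance
  exact ⟨key e, key e.symm⟩

/-- For a right exact functor `L` and an epimorphism `p₁`, the map `L p₂` factors through `L p₁`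
iff `L` kills the composite `ker p₁ ⟶ F ⟶ G₂`. -/
lemma exists_factor_iff {F G₁ G₂ : C} (p₁ : F ⟶ G₁) [Epi p₁] (p₂ : F ⟶ G₂) :
    (∃ k : L.obj G₁ ⟶ L.obj G₂, L.map p₁ ≫ k = L.map p₂) ↔
      L.map (kernel.ι p₁ ≫ p₂) = 0 := by
  constructor
  · rintro ⟨k, hk⟩
    rw [L.map_comp, ← hk, ← L.map_comp_assoc, kernel.condition, L.map_zero, zero_comp]
  · intro h
    have hcok := Abelian.epiIsCokernelOfKernel (f := p₁) _ (kernelIsKernel p₁)
    have h2 := CokernelCofork.mapIsColimit _ hcok L
    rw [L.map_comp] at h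
    exact ⟨h2.desc (CokernelCofork.ofπ (L.map p₂) h), Cofork.IsColimit.π_desc h2⟩

end Abstract

end Groth.Agent.Helper14.LimMod
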