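import Mathlib
import Groth.Agent.Lib.Helper14.LimModI
import Groth.Agent.Lib.Helper13.FinTypeEpi

/-!
# Right exact sequences and factorisations on a cofiltered limit of schemes (helper14)
-/

open CategoryTheory AlgebraicGeometry Limits Opposite TopologicalSpace

universe u

namespace Groth.Agent.Helper14.LimMod

instance pullback_preservesFiniteColimits {X Y : Scheme.{u}} (g : X ⟶ Y) :
    PreservesFiniteColimits (Scheme.Modules.pullback g) := by
  haveI := (Scheme.Modules.pullbackPushforwardAdjunction g).leftAdjoint_preservesColimits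
  infer_instance

section Main

variable {I : Type u} [SmallCategory I] [IsCofiltered I] (D : I ⥤ Scheme.{u}) (c : Cone D)
  (hc : IsLimit c) [∀ {i j : I} (f : i ⟶ j), IsAffineHom (D.map f)] (i₀ : I)
  [CompactSpace (D.obj i₀)]

section Factor

variable {F₀ G₁ G₂ : (D.obj i₀).Modules} [F₀.IsQuasicoherent] [G₁.IsQuasicoherent]
  [G₂.IsQuasicoherent] [SheafOfModules.IsFiniteType (R := (D.obj i₀).ringCatSheaf) F₀]
  [SheafOfModules.IsFinitePresentation (R := (D.obj i₀).ringCatSheaf) G₁]

include hc in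
theorem exists_factor_iff_eventually (p₁ : F₀ ⟶ G₁) (p₂ : F₀ ⟶ G₂) [Epi p₁] :
    (∃ k : (Scheme.Modules.pullback (c.π.app i₀)).obj G₁ ⟶
        (Scheme.Modules.pullback (c.π.app i₀)).obj G₂,
      (Scheme.Modules.pullback (c.π.app i₀)).map p₁ ≫ k =
        (Scheme.Modules.pullback (c.π.app i₀)).map p₂) ↔
    ∃ (j : I) (φ : j ⟶ i₀) (k : (Scheme.Modules.pullback (D.map φ)).obj G₁ ⟶
        (Scheme.Modules.pullback (D.map φ)).obj G₂),
      (Scheme.Modules.pullback (D.map φ)).map p₁ ≫ k =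
        (Scheme.Modules.pullback (D.map φ)).map p₂ := by
  haveI : SheafOfModules.IsFiniteType (R := (D.obj i₀).ringCatSheaf)
      (kernel p₁ : (D.obj i₀).Modules) := isFiniteType_kernel_of_epi p₁
  haveI : (kernel p₁ : (D.obj i₀).Modules).IsQuasicoherent :=
    Groth.Agent.Helper13.QCohLocal.isQuasicoherent_kernel p₁
  constructor
  · intro h
    rw [exists_factor_iff] at h
    obtain ⟨j, φ, hj⟩ := exists_stage_pullback_map_eq D c hc i₀ (kernel.ι p₁ ≫ p₂) 0
      (by rw [h, Functor.map_zero])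
    refine ⟨j, φ, ?_⟩
    rw [exists_factor_iff, hj, Functor.map_zero]
  · rintro ⟨j, φ, h⟩
    rw [exists_factor_iff] at h ⊢
    have := pullback_map_eq_of_stage D c i₀ (kernel.ι p₁ ≫ p₂) 0 φ (by rw [h, Functor.map_zero])
    rw [this, Functor.map_zero]

end Factor

section RightExact

variable {F₀ G₀ H₀ : (D.obj i₀).Modules} [F₀.IsQuasicoherent] [G₀.IsQuasicoherent]
  [H₀.IsQuasicoherent] [SheafOfModules.IsFiniteType (R := (D.obj i₀).ringCatSheaf) F₀]
  [SheafOfModules.IsFiniteType (R := (D.obj i₀).ringCatSheaf) G₀]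
  [SheafOfModules.IsFinitePresentation (R := (D.obj i₀).ringCatSheaf) H₀]

include hc in
theorem rightExact_iff_eventually (f₀ : F₀ ⟶ G₀) (g₀ : G₀ ⟶ H₀) :
    RightExact ((Scheme.Modules.pullback (c.π.app i₀)).map f₀)
        ((Scheme.Modules.pullback (c.π.app i₀)).map g₀) ↔
      ∃ (j : I) (φ : j ⟶ i₀), RightExact ((Scheme.Modules.pullback (D.map φ)).map f₀)
        ((Scheme.Modules.pullback (D.map φ)).map g₀) := by
  constructor
  · intro h
    have w := h.choose
    obtain ⟨j₁, φ₁, hj₁⟩ := exists_stage_pullback_map_eq D c hc i₀ (f₀ ≫ g₀) 0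
      (by rw [Functor.map_comp, w, Functor.map_zero])
    set f₁ := (Scheme.Modules.pullback (D.map φ₁)).map f₀ with hf₁
    set g₁ := (Scheme.Modules.pullback (D.map φ₁)).map g₀ with hg₁
    have w₁ : f₁ ≫ g₁ = 0 := by
      rw [hf₁, hg₁, ← Functor.map_comp, hj₁, Functor.map_zero]
    have h₁ : RightExact ((Scheme.Modules.pullback (c.π.app j₁)).map f₁)
        ((Scheme.Modules.pullback (c.π.app j₁)).map g₁) :=
      (rightExact_map_iff_of_iso _ (pullbackStageIso D c i₀ φ₁) f₀ g₀).2 h
    have hiso₁ := (rightExact_map_iff (Scheme.Modules.pullback (c.π.app j₁)) f₁ g₁ w₁).1 h₁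
    haveI : CompactSpace (D.obj j₁) := QuasiCompact.compactSpace_of_compactSpace (D.map φ₁)
    haveI : ((Scheme.Modules.pullback (D.map φ₁)).obj F₀).IsQuasicoherent :=
      Groth.Agent.Helper13.Pullback.isQuasicoherent_pullback _ _
    haveI : ((Scheme.Modules.pullback (D.map φ₁)).obj G₀).IsQuasicoherent :=
      Groth.Agent.Helper13.Pullback.isQuasicoherent_pullback _ _
    haveI : ((Scheme.Modules.pullback (D.map φ₁)).obj H₀).IsQuasicoherent :=
      Groth.Agent.Helper13.Pullback.isQuasicoherent_pullback _ _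
    haveI : SheafOfModules.IsFiniteType (R := (D.obj j₁).ringCatSheaf)
        ((Scheme.Modules.pullback (D.map φ₁)).obj G₀) :=
      Groth.Agent.Helper13.FittSheaf.isFiniteType_pullback _ _
    haveI : SheafOfModules.IsFinitePresentation (R := (D.obj j₁).ringCatSheaf)
        ((Scheme.Modules.pullback (D.map φ₁)).obj H₀) :=
      Groth.Agent.Helper9.PrinPart4.isFinitePresentation_pullback _ _
    haveI : (cokernel f₁ : (D.obj j₁).Modules).IsQuasicoherent :=
      Groth.Agent.Helper13.QCohLocal.isQuasicoherent_cokernel f₁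
    haveI hepi : Epi (cokernel.π f₁) := coequalizer.π_epi
    haveI : SheafOfModules.IsFiniteType (R := (D.obj j₁).ringCatSheaf)
        (cokernel f₁ : (D.obj j₁).Modules) :=
      @Groth.Agent.Helper13.FinType.isFiniteType_of_epi _ _ _ (cokernel.π f₁) hepi _
    obtain ⟨j₂, φ₂, hiso₂⟩ := exists_stage_isIso_pullback_map D c hc j₁
      (cokernel.desc f₁ g₁ w₁) hiso₁
    have h₂ := (rightExact_map_iff (Scheme.Modules.pullback (D.map φ₂)) f₁ g₁ w₁).2 hiso₂
    exact ⟨j₂, φ₂ ≫ φ₁, (rightExact_map_iff_of_iso _ (pullbackMapCompIso D i₀ φ₁ φ₂) f₀ g₀).1 h₂⟩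
  · rintro ⟨j, φ, h⟩
    exact (rightExact_map_iff_of_iso _ (pullbackStageIso D c i₀ φ) f₀ g₀).1
      (h.map (Scheme.Modules.pullback (c.π.app j)))

end RightExact

end Main

end Groth.Agent.Helper14.LimMod
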