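import Mathlib
import Groth.Agent.Lib.Helper13.IdealComap
import Groth.Agent.Lib.Helper13.FittPullback
import Groth.Agent.Lib.Helper13.FinPresAffine
import Groth.Agent.Lib.Helper13.PullbackLocal
import Groth.Agent.Lib.Helper28.FittStratum
import Groth.Agent.Lib.Helper9.PrinPart4

/-!
# Ideal sheaves and locally free modules on cofiltered limits of schemes (helper14)
-/

open CategoryTheory AlgebraicGeometry Limits Opposite TopologicalSpace

universe u

namespace Groth.Agent.Helper14.LimMod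

lemma app_eq_zero_of_comp {X Y Z : Scheme.{u}} (f : X ⟶ Y) (g : Y ⟶ Z) (h : X ⟶ Z)
    (e : h = f ≫ g) (V : Z.Opens) (a : Γ(Z, V)) (ha : g.app V a = 0) : h.app V a = 0 := by
  subst e
  have h1 : (f ≫ g).app V = g.app V ≫ f.app (g ⁻¹ᵁ V) := Scheme.Hom.comp_app f g V
  have h2 : (f ≫ g).app V a = (f.app (g ⁻¹ᵁ V)) (g.app V a) := by
    rw [h1]
    rfl
  rw [h2, ha]
  exact map_zero _

section Ideal

variable {I : Type u} [SmallCategory I] [IsCofiltered I] (D : I ⥤ Scheme.{u}) (c : Cone D)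
  (hc : IsLimit c) [∀ {i j : I} (f : i ⟶ j), IsAffineHom (D.map f)] (i₀ : I)
  [CompactSpace (D.obj i₀)] (J : (D.obj i₀).IdealSheafData)

include hc in
/-- If the inverse image of an ideal sheaf on the limit is the unit ideal, the same holds at some
stage. -/
theorem exists_stage_comap_eq_top (h : J.comap (c.π.app i₀) = ⊤) :
    ∃ (j : I) (φ : j ⟶ i₀), J.comap (D.map φ) = ⊤ := by
  classical
  by_contra hcon
  push Not at hcon
  set Z₀ : Set (D.obj i₀) := (J.support : Set (D.obj i₀)) with hZ₀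
  have hZ : IsClosed Z₀ := J.support.isClosed
  have hne : ∀ (i : I) (hij : i ⟶ i₀), ((D.map hij).base ⁻¹' Z₀).Nonempty := by
    intro i hij
    have h1 := hcon i hij
    rw [Ne, ← Scheme.IdealSheafData.support_eq_bot_iff, Scheme.IdealSheafData.support_comap] at h1
    by_contra hemp
    apply h1
    ext x
    simp only [TopologicalSpace.Closeds.coe_preimage, TopologicalSpace.Closeds.coe_bot,
      Set.mem_empty_iff_false, iff_false]
    intro hx
    exact hemp ⟨x, hx⟩
  have hcpt : ∀ (i : I) (hij : i ⟶ i₀), CompactSpace (D.obj i) := fun i hij =>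
    QuasiCompact.compactSpace_of_compactSpace (D.map hij)
  obtain ⟨s, hs⟩ := exists_mem_of_isClosed_of_nonempty' D c hc (j := i₀)
    (fun i hij => (D.map hij).base ⁻¹' Z₀)
    (fun i hij => hZ.preimage (D.map hij).continuous)
    hne
    (fun i hij => by
      haveI := hcpt i hij
      exact (hZ.preimage (D.map hij).continuous).isCompact)
    (fun i i' hi'i hij x hx => by
      simp only [Set.mem_preimage] at hx ⊢
      rw [D.map_comp] at hx
      exact hx)
  have h2 := hs i₀ (𝟙 i₀)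
  simp only [Set.mem_preimage, D.map_id] at h2
  have h3 : (c.π.app i₀).base s ∈ Z₀ := h2
  rw [← Scheme.IdealSheafData.support_eq_bot_iff, Scheme.IdealSheafData.support_comap] at h
  have h4 : s ∈ ((J.support.preimage (c.π.app i₀).continuous : Closeds c.pt) : Set c.pt) := h3
  rw [h] at h4
  exact h4

include hc in
/-- If the inverse image of an ideal sheaf of finite type on the limit is zero, the same holds at
some stage. -/
theorem exists_stage_comap_eq_bot (hJ : ∀ U : (D.obj i₀).affineOpens, (J.ideal U).FG)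
    (h : J.comap (c.π.app i₀) = ⊥) :
    ∃ (j : I) (φ : j ⟶ i₀), J.comap (D.map φ) = ⊥ := by
  classical
  haveI := isAffineHom_π_app D c hc i₀
  have hex : ∀ x : D.obj i₀, ∃ V : (D.obj i₀).Opens, IsAffineOpen V ∧ x ∈ V := by
    intro x
    obtain ⟨_, ⟨V, hV, rfl⟩, hxV, -⟩ :=
      (D.obj i₀).isBasis_affineOpens.exists_subset_of_mem_open (Set.mem_univ x) isOpen_univ
    exact ⟨V, hV, hxV⟩
  choose V hV hxV using hex
  obtain ⟨t, ht⟩ := CompactSpace.elim_nhds_subcover (fun x => (V x : Set (D.obj i₀)))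
    (fun x => (V x).2.mem_nhds (hxV x))
  choose gen hgen using fun x => hJ ⟨V x, hV x⟩
  -- each generator dies at some stage
  have key : ∀ (x : D.obj i₀) (a : Γ(D.obj i₀, V x)), a ∈ gen x →
      ∃ (o : Over i₀), (D.map o.hom).app (V x) a = 0 := by
    intro x a ha
    suffices hsuff : ∃ (j : I) (f : j ⟶ i₀), (D.map f).app (V x) a = 0 by
      obtain ⟨j, f, hf⟩ := hsuff
      exact ⟨Over.mk f, hf⟩
    apply exists_app_map_eq_zero_of_isLimit D c hc (hV x).isCompact
    have hmem : a ∈ J.ideal ⟨V x, hV x⟩ := by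
      rw [← hgen x]
      exact Ideal.subset_span ha
    have h1 := Groth.Agent.Helper13.IdealComap.ideal_comap (c.π.app i₀) J ⟨V x, hV x⟩
      ⟨c.π.app i₀ ⁻¹ᵁ V x, (hV x).preimage (c.π.app i₀)⟩ le_rfl
    rw [h] at h1
    have h2 : (c.π.app i₀).appLE (V x) (c.π.app i₀ ⁻¹ᵁ V x) le_rfl a ∈
        (J.ideal ⟨V x, hV x⟩).map ((c.π.app i₀).appLE (V x) (c.π.app i₀ ⁻¹ᵁ V x) le_rfl).hom :=
      Ideal.mem_map_of_mem _ hmem
    rw [← h1] at h2
    rw [Scheme.Hom.app_eq_appLE]
    exact h2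
  haveI : Nonempty (Over i₀) := ⟨Over.mk (𝟙 i₀)⟩
  choose! oo hoo using key
  let O : Finset (Over i₀) := t.biUnion fun x => (gen x).image fun a => oo x a
  obtain ⟨k, hk⟩ := IsCofiltered.inf_objs_exists O
  refine ⟨k.left, k.hom, ?_⟩
  have hcov : ⨆ x : t, ((⟨D.map k.hom ⁻¹ᵁ V x.1, (hV x.1).preimage (D.map k.hom)⟩ :
      (D.obj k.left).affineOpens) : (D.obj k.left).Opens) = ⊤ := by
    rw [eq_top_iff]
    intro y _
    have hy : (D.map k.hom).base y ∈ ⋃ x ∈ t, (V x : Set (D.obj i₀)) := by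
      rw [ht]; exact Set.mem_univ _
    obtain ⟨x, hx, hyx⟩ := Set.mem_iUnion₂.mp hy
    exact Opens.mem_iSup.2 ⟨⟨x, hx⟩, hyx⟩
  refine Scheme.IdealSheafData.ext_of_iSup_eq_top
    (fun x : t => (⟨D.map k.hom ⁻¹ᵁ V x.1, (hV x.1).preimage (D.map k.hom)⟩ :
      (D.obj k.left).affineOpens)) hcov (fun x => ?_)
  rw [Groth.Agent.Helper13.IdealComap.ideal_comap (D.map k.hom) J ⟨V x.1, hV x.1⟩ _ le_rfl,
    ← hgen x.1, Ideal.map_span]
  change _ = (⊥ : Ideal _)
  rw [Ideal.span_eq_bot]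
  rintro _ ⟨a, ha, rfl⟩
  have hmemO : oo x.1 a ∈ O :=
    Finset.mem_biUnion.2 ⟨x.1, x.2, Finset.mem_image_of_mem _ ha⟩
  obtain ⟨v⟩ := hk hmemO
  have hw : v.left ≫ (oo x.1 a).hom = k.hom := Over.w v
  have h0 := hoo x.1 a ha
  change (D.map k.hom).appLE (V x.1) (D.map k.hom ⁻¹ᵁ V x.1) le_rfl a = 0
  rw [← Scheme.Hom.app_eq_appLE]
  exact app_eq_zero_of_comp (D.map v.left) (D.map (oo x.1 a).hom) (D.map k.hom)
    (by rw [← D.map_comp, hw]) (V x.1) a h0

end Ideal

section Rank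

open Groth.Agent.Helper13.FittSheaf Groth.Agent.Lib.Helper10.Fitting Groth.Agent.Helper28.FittStratum

lemma comap_eq_of_eq {X Y Z : Scheme.{u}} (J : Z.IdealSheafData) (f : X ⟶ Z) (g : X ⟶ Y)
    (k : Y ⟶ Z) (h : f = g ≫ k) : J.comap f = (J.comap k).comap g := by
  subst h
  exact Scheme.IdealSheafData.comap_comp J g k

variable {I : Type u} [SmallCategory I] [IsCofiltered I] (D : I ⥤ Scheme.{u}) (c : Cone D)
  (hc : IsLimit c) [∀ {i j : I} (f : i ⟶ j), IsAffineHom (D.map f)] (i₀ : I)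
  [CompactSpace (D.obj i₀)] (F₀ : (D.obj i₀).Modules) [F₀.IsQuasicoherent]
  [SheafOfModules.IsFinitePresentation (R := (D.obj i₀).ringCatSheaf) F₀] (n : ℕ)

omit [IsCofiltered I] [∀ {i j : I} (f : i ⟶ j), IsAffineHom (D.map f)]
  [CompactSpace (D.obj i₀)] in
lemma fittIdeal_fg (k : ℕ) (U : (D.obj i₀).affineOpens) :
    ((Fitt.sheafIdeal F₀ k).ideal U).FG := by
  rw [sheafIdeal_ideal]
  haveI : Module.FinitePresentation Γ(D.obj i₀, U.1) Γ(F₀, U.1) :=
    Groth.Agent.Helper13.LocFree.finitePresentation_sections_of_isFinitePresentation F₀ U.2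
  exact fitt_fg k

include hc in
theorem isFinLocFreeOfRank_pullback_iff_eventually :
    FlatMod.IsFinLocFreeOfRank n ((Scheme.Modules.pullback (c.π.app i₀)).obj F₀) ↔
      ∃ (j : I) (φ : j ⟶ i₀),
        FlatMod.IsFinLocFreeOfRank n ((Scheme.Modules.pullback (D.map φ)).obj F₀) := by
  classical
  constructor
  · intro h
    obtain ⟨h1, h0⟩ := fitt_of_isFinLocFreeOfRank ((Scheme.Modules.pullback (c.π.app i₀)).obj F₀) n h
    rw [← sheafIdeal_comap] at h1
    obtain ⟨jn, φn, en⟩ := exists_stage_comap_eq_top D c hc i₀ (Fitt.sheafIdeal F₀ n) h1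
    have hk : ∀ k : Fin n, ∃ (j : I) (φ : j ⟶ i₀),
        (Fitt.sheafIdeal F₀ k.1).comap (D.map φ) = ⊥ := by
      intro k
      apply exists_stage_comap_eq_bot D c hc i₀ (Fitt.sheafIdeal F₀ k.1) (fittIdeal_fg D i₀ F₀ k.1)
      rw [sheafIdeal_comap]
      exact h0 k.1 k.2
    choose jk φk ek using hk
    let O : Finset (Over i₀) := insert (Over.mk φn) (Finset.univ.image fun k : Fin n => Over.mk (φk k))
    obtain ⟨m, hm⟩ := IsCofiltered.inf_objs_exists O
    refine ⟨m.left, m.hom, ?_⟩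
    apply isFinLocFreeOfRank_of_fitt
    · rw [← sheafIdeal_comap]
      obtain ⟨v⟩ := hm (Finset.mem_insert_self _ _)
      rw [comap_eq_of_eq _ (D.map m.hom) (D.map v.left) (D.map φn)
        (by rw [← D.map_comp]; congr 1; exact (Over.w v).symm), en,
        Scheme.IdealSheafData.comap_top]
    · intro k hk
      rw [← sheafIdeal_comap]
      obtain ⟨v⟩ := hm (Finset.mem_insert_of_mem
        (Finset.mem_image_of_mem (fun k : Fin n => Over.mk (φk k)) (Finset.mem_univ ⟨k, hk⟩)))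
      rw [comap_eq_of_eq _ (D.map m.hom) (D.map v.left) (D.map (φk ⟨k, hk⟩))
        (by rw [← D.map_comp]; congr 1; exact (Over.w v).symm), ek ⟨k, hk⟩,
        Scheme.IdealSheafData.comap_bot]
  · rintro ⟨j, φ, h⟩
    obtain ⟨h1, h0⟩ := fitt_of_isFinLocFreeOfRank ((Scheme.Modules.pullback (D.map φ)).obj F₀) n h
    apply isFinLocFreeOfRank_of_fitt
    · rw [← sheafIdeal_comap, comap_eq_of_eq _ (c.π.app i₀) (c.π.app j) (D.map φ) (c.w φ).symm,
        sheafIdeal_comap, h1, Scheme.IdealSheafData.comap_top]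
    · intro k hk
      rw [← sheafIdeal_comap, comap_eq_of_eq _ (c.π.app i₀) (c.π.app j) (D.map φ) (c.w φ).symm,
        sheafIdeal_comap, h0 k hk, Scheme.IdealSheafData.comap_bot]

end Rank

end Groth.Agent.Helper14.LimMod
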