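import Mathlib
import Groth.Agent.Lib.Helper14.LimModO

/-!
# Exactness of pulled back sequences on a cofiltered limit with flat transition maps, main theorem
(helper14)
-/

open CategoryTheory AlgebraicGeometry Limits Opposite TopologicalSpace

universe u

namespace Groth.Agent.Helper14.LimMod

open Groth.Agent.Helper13.QCohLocal Groth.Agent.Helper13.Pullback

section Main

variable {I : Type u} [SmallCategory I] [IsCofiltered I] (D : I ⥤ Scheme.{u}) (c : Cone D)
  (hc : IsLimit c) [∀ {i j : I} (f : i ⟶ j), IsAffineHom (D.map f)] (i₀ : I)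
  (hfl : ∀ (i j : I) (φ : i ⟶ j), Flat (D.map φ))
  {F₀ G₀ H₀ : (D.obj i₀).Modules} [F₀.IsQuasicoherent] [G₀.IsQuasicoherent]
  [H₀.IsQuasicoherent]

omit [IsCofiltered I] [∀ {i j : I} (f : i ⟶ j), IsAffineHom (D.map f)] in
/-- Equality at a stage implies equality at all later stages. -/
lemma pullback_map_eq_of_later {A B : (D.obj i₀).Modules} (a b : A ⟶ B) {j₁ j₂ : I}
    (φ₁ : j₁ ⟶ i₀) (φ₂ : j₂ ⟶ j₁)
    (h : (Scheme.Modules.pullback (D.map φ₁)).map a = (Scheme.Modules.pullback (D.map φ₁)).map b) :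
    (Scheme.Modules.pullback (D.map (φ₂ ≫ φ₁))).map a =
      (Scheme.Modules.pullback (D.map (φ₂ ≫ φ₁))).map b :=
  map_eq_of_map_eq_comp (pullbackMapCompIso D i₀ φ₁ φ₂).symm a b h

/-- For any functor preserving epimorphisms, vanishing of `L (f ≫ g)` can be tested after
replacing `f` by the inclusion of its image. -/
lemma map_comp_eq_zero_iff_image {C C' : Type*} [Category C] [Category C'] [Abelian C]
    [Abelian C'] (L : C ⥤ C') [L.PreservesEpimorphisms] [L.PreservesZeroMorphisms]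
    {F G H : C} (f : F ⟶ G) (g : G ⟶ H) :
    L.map (f ≫ g) = 0 ↔ L.map (Abelian.image.ι f ≫ g) = 0 := by
  have h : f ≫ g = Abelian.factorThruImage f ≫ Abelian.image.ι f ≫ g := by
    rw [← Category.assoc, Abelian.image.fac]
  rw [h, L.map_comp]
  constructor
  · intro h0
    exact (cancel_epi (L.map (Abelian.factorThruImage f))).1 (by rw [h0, comp_zero])
  · intro h0
    rw [h0, comp_zero]

variable [CompactSpace (D.obj i₀)]

include hc hfl in
theorem exact_pullback_iff_eventually (f₀ : F₀ ⟶ G₀) (g₀ : G₀ ⟶ H₀)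
    (hIm : SheafOfModules.IsFiniteType (R := (D.obj i₀).ringCatSheaf)
      (Abelian.image f₀ : (D.obj i₀).Modules))
    (hKer : SheafOfModules.IsFiniteType (R := (D.obj i₀).ringCatSheaf)
      (kernel g₀ : (D.obj i₀).Modules)) :
    (∃ w : (Scheme.Modules.pullback (c.π.app i₀)).map f₀ ≫
        (Scheme.Modules.pullback (c.π.app i₀)).map g₀ = 0, (ShortComplex.mk _ _ w).Exact) ↔
      ∃ (j : I) (φ : j ⟶ i₀) (w : (Scheme.Modules.pullback (D.map φ)).map f₀ ≫
        (Scheme.Modules.pullback (D.map φ)).map g₀ = 0), (ShortComplex.mk _ _ w).Exact := by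
  haveI : (cokernel f₀ : (D.obj i₀).Modules).IsQuasicoherent := isQuasicoherent_cokernel f₀
  haveI : (kernel g₀ : (D.obj i₀).Modules).IsQuasicoherent := isQuasicoherent_kernel g₀
  haveI : (Abelian.image f₀ : (D.obj i₀).Modules).IsQuasicoherent :=
    isQuasicoherent_kernel (cokernel.π f₀)
  haveI := hIm
  haveI := hKer
  have hπ := hasFlatAtlas_π D c hc i₀ hfl
  constructor
  · intro h
    obtain ⟨h1, h2⟩ := (exact_pullback_iff (c.π.app i₀) hπ f₀ g₀).1 h
    rw [map_comp_eq_zero_iff_image] at h1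
    obtain ⟨j₁, φ₁, e1⟩ := exists_stage_pullback_map_eq D c hc i₀ (Abelian.image.ι f₀ ≫ g₀) 0
      (by rw [h1, Functor.map_zero])
    obtain ⟨j₂, φ₂, e2⟩ := exists_stage_pullback_map_eq D c hc i₀
      (kernel.ι g₀ ≫ cokernel.π f₀) 0 (by rw [h2, Functor.map_zero])
    obtain ⟨j, a, b, hab⟩ := IsCofiltered.cospan φ₁ φ₂
    haveI : Flat (D.map (a ≫ φ₁)) := hfl _ _ _
    refine ⟨j, a ≫ φ₁, ?_⟩
    rw [exact_pullback_iff (D.map (a ≫ φ₁)) (hasFlatAtlas_of_flat _) f₀ g₀,
      map_comp_eq_zero_iff_image]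
    constructor
    · rw [pullback_map_eq_of_later D i₀ _ _ φ₁ a e1, Functor.map_zero]
    · rw [hab, pullback_map_eq_of_later D i₀ _ _ φ₂ b e2, Functor.map_zero]
  · rintro ⟨j, φ, h⟩
    haveI : Flat (D.map φ) := hfl _ _ _
    obtain ⟨h1, h2⟩ := (exact_pullback_iff (D.map φ) (hasFlatAtlas_of_flat _) f₀ g₀).1 h
    rw [exact_pullback_iff (c.π.app i₀) hπ f₀ g₀]
    constructor
    · rw [pullback_map_eq_of_stage D c i₀ (f₀ ≫ g₀) 0 φ (by rw [h1, Functor.map_zero]),
        Functor.map_zero]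
    · rw [pullback_map_eq_of_stage D c i₀ (kernel.ι g₀ ≫ cokernel.π f₀) 0 φ
        (by rw [h2, Functor.map_zero]), Functor.map_zero]

end Main

end Groth.Agent.Helper14.LimMod
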