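import Groth.Agent.Lib.Helper14.WeakAss
import Mathlib.Algebra.Module.LocalizedModule.Basic
import Mathlib.RingTheory.Localization.Ideal
import Mathlib.RingTheory.Localization.AtPrime.Basic

set_option autoImplicit false
universe u v

namespace Groth.Agent.Helper14

variable {R : Type u} [CommRing R] (S : Submonoid R) {M : Type v} [AddCommGroup M] [Module R M]

theorem locmk_eq_zero_iff (m : M) (s : S) :
    LocalizedModule.mk m s = 0 ↔ ∃ u : S, (u : R) • m = 0 := by
  rw [IsLocalizedModule.mk_eq_mk', IsLocalizedModule.mk'_eq_zero']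
  rfl

theorem mem_annElt_locmk (a : R) (m : M) (s : S) :
    a ∈ annElt R (LocalizedModule.mk m s) ↔ ∃ u : S, ((u : R) * a) • m = 0 := by
  rw [mem_annElt, LocalizedModule.smul'_mk, locmk_eq_zero_iff]
  simp only [mul_smul]

theorem annElt_R_locmk_eq_one (m : M) (s : S) :
    annElt R (LocalizedModule.mk m s) = annElt R (LocalizedModule.mk m (1 : S)) := by
  ext a
  rw [mem_annElt_locmk, mem_annElt_locmk]

theorem annElt_R_loc (z : LocalizedModule S M) :
    annElt R z = Ideal.comap (algebraMap R (Localization S)) (annElt (Localization S) z) := by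
  ext a
  rw [Ideal.mem_comap, mem_annElt, mem_annElt, algebraMap_smul]

theorem annElt_loc_locmk (m : M) (s : S) :
    annElt (Localization S) (LocalizedModule.mk m s) =
      Ideal.map (algebraMap R (Localization S)) (annElt R m) := by
  apply le_antisymm
  · intro x hx
    obtain ⟨a, t, rfl⟩ := IsLocalization.exists_mk'_eq S x
    rw [mem_annElt, ← Localization.mk_eq_mk', LocalizedModule.mk_smul_mk, locmk_eq_zero_iff] at hx
    obtain ⟨u, hu⟩ := hx
    have h1 : (u : R) * a ∈ annElt R m := by rw [mem_annElt, mul_smul]; exact hu
    have h2 : IsLocalization.mk' (Localization S) a t =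
        IsLocalization.mk' (Localization S) ((u : R) * a) (u * t) := by
      rw [IsLocalization.mk'_eq_iff_eq]
      simp only [Submonoid.coe_mul]
      congr 1
      ring
    rw [h2, IsLocalization.mk'_mem_map_algebraMap_iff S]
    exact ⟨1, S.one_mem, by simpa using h1⟩
  · rw [Ideal.map_le_iff_le_comap]
    intro a ha
    rw [Ideal.mem_comap, mem_annElt, algebraMap_smul, LocalizedModule.smul'_mk,
      mem_annElt.mp ha, LocalizedModule.zero_mk]

theorem weakAss_loc_iff (p : Ideal R) [p.IsPrime] (hS : Disjoint (S : Set R) (p : Set R)) :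
    p ∈ FlatCA.weakAss R M ↔
      Ideal.map (algebraMap R (Localization S)) p ∈
        FlatCA.weakAss (Localization S) (LocalizedModule S M) := by
  have hcm : Ideal.comap (algebraMap R (Localization S))
      (Ideal.map (algebraMap R (Localization S)) p) = p :=
    IsLocalization.under_map_of_isPrime_disjoint S (Localization S) ‹_› hS
  constructor
  · rintro ⟨m, hp⟩
    refine ⟨LocalizedModule.mk m 1, ?_⟩
    change _ ∈ (annElt (Localization S) (LocalizedModule.mk m (1 : S))).minimalPrimes
    rw [annElt_loc_locmk, IsLocalization.minimalPrimes_map S, Set.mem_preimage]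
    change Ideal.comap _ _ ∈ _
    rw [hcm]
    exact hp
  · rintro ⟨z, hz⟩
    induction z using LocalizedModule.induction_on with
    | h m s =>
      change _ ∈ (annElt (Localization S) (LocalizedModule.mk m s)).minimalPrimes at hz
      rw [annElt_loc_locmk, IsLocalization.minimalPrimes_map S, Set.mem_preimage] at hz
      change Ideal.comap _ _ ∈ _ at hz
      rw [hcm] at hz
      exact ⟨m, hz⟩

end Groth.Agent.Helper14

namespace Groth.Agent.Helper14

variable {R : Type u} [CommRing R] (S : Submonoid R) {M : Type v} [AddCommGroup M] [Module R M]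

theorem annElt_R_locmk_of_regular (hS : ∀ s ∈ S, IsSMulRegular M s) (m : M) (s : S) :
    annElt R (LocalizedModule.mk m s) = annElt R m := by
  ext a
  rw [mem_annElt_locmk, mem_annElt]
  constructor
  · rintro ⟨u, hu⟩
    rw [mul_smul] at hu
    apply hS u u.2
    simp only [smul_zero]
    exact hu
  · intro h
    exact ⟨1, by rw [mul_smul, h, smul_zero]⟩

end Groth.Agent.Helper14
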