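import Mathlib
import Groth.Prelude.Def_CAlgX

/-!
# McCoy's rank theorem for matrices over commutative rings
-/

set_option linter.unnecessarySimpa false

namespace Groth.Agent.Helper14.McCoy

open Matrix

universe u

variable {R : Type u} [CommRing R]

lemma exists_ne_eq_of_not_injective {α β : Type*} {g : α → β} (hg : ¬ Function.Injective g) :
    ∃ i j, i ≠ j ∧ g i = g j := by
  by_contra hcon
  push Not at hcon
  exact hg fun i j h => by_contra fun hne => hcon i j hne h

/-- Minors of size larger than the number of columns vanish. -/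
lemma minorIdeal_eq_bot_of_lt {m n : ℕ} (M : Matrix (Fin n) (Fin m) R) {r : ℕ} (h : m < r) :
    CAlgX.minorIdeal M r = ⊥ := by
  rw [CAlgX.minorIdeal, Ideal.span_eq_bot]
  rintro _ ⟨⟨f, g⟩, rfl⟩
  have hg : ¬ Function.Injective g := by
    intro hinj
    have := Fintype.card_le_of_injective g hinj
    simp at this
    omega
  obtain ⟨i, j, hij, hgg⟩ := exists_ne_eq_of_not_injective hg
  exact Matrix.det_zero_of_column_eq hij (fun k => by simp [hgg])

lemma one_mem_minorIdeal_zero {m n : ℕ} (M : Matrix (Fin n) (Fin m) R) :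
    (1 : R) ∈ CAlgX.minorIdeal M 0 :=
  Ideal.subset_span ⟨(Fin.elim0, Fin.elim0), by simp⟩

lemma det_mul_eq_zero_of_mulVec_eq_zero {m : ℕ} (N : Matrix (Fin m) (Fin m) R) (w : Fin m → R)
    (h : N.mulVec w = 0) : ∀ j, N.det * w j = 0 := by
  have h1 : (N.adjugate * N).mulVec w = 0 := by
    rw [← Matrix.mulVec_mulVec, h, Matrix.mulVec_zero]
  rw [Matrix.adjugate_mul, Matrix.smul_mulVec, Matrix.one_mulVec] at h1
  intro j
  exact congrFun h1 j

/-- McCoy, easy direction. -/
lemma injective_of_annihilator_eq_bot {m n : ℕ} (M : Matrix (Fin n) (Fin m) R)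
    (h : (CAlgX.minorIdeal M m).annihilator = ⊥) : Function.Injective (Matrix.mulVecLin M) := by
  rw [injective_iff_map_eq_zero]
  intro v hv
  have hv' : M.mulVec v = 0 := hv
  funext j
  have hmem : v j ∈ (CAlgX.minorIdeal M m).annihilator := by
    rw [CAlgX.minorIdeal, Submodule.mem_annihilator_span]
    rintro ⟨_, ⟨f, g⟩, rfl⟩
    simp only [smul_eq_mul]
    by_cases hg : Function.Injective g
    · have hbij : Function.Bijective g := Finite.injective_iff_bijective.mp hg
      let e := Equiv.ofBijective g hbij
      have h0 : (M.submatrix f g).mulVec (v ∘ g) = 0 := by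
        funext i
        have h1 := congrFun hv' (f i)
        simp only [Matrix.mulVec, dotProduct, Pi.zero_apply] at h1 ⊢
        rw [← h1]
        exact e.sum_comp (fun j => M (f i) j * v j)
      obtain ⟨k, rfl⟩ := hbij.2 j
      have h2 := det_mul_eq_zero_of_mulVec_eq_zero _ _ h0 k
      simpa [mul_comm] using h2
    · obtain ⟨i, j', hij, hgg⟩ := exists_ne_eq_of_not_injective hg
      rw [Matrix.det_zero_of_column_eq hij (fun k => by simp [hgg]), mul_zero]
  rw [h] at hmem
  exact hmem

/-- McCoy, hard direction. -/
lemma annihilator_eq_bot_of_injective {m n : ℕ} (M : Matrix (Fin n) (Fin m) R)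
    (h : Function.Injective (Matrix.mulVecLin M)) : (CAlgX.minorIdeal M m).annihilator = ⊥ := by
  classical
  rw [eq_bot_iff]
  intro a ha
  rw [Ideal.mem_bot]
  by_contra hne
  have hex : ∃ s, a ∈ (CAlgX.minorIdeal M s).annihilator := ⟨m, ha⟩
  have hs : a ∈ (CAlgX.minorIdeal M (Nat.find hex)).annihilator := Nat.find_spec hex
  have hsm : Nat.find hex ≤ m := Nat.find_min' hex ha
  have hs0 : Nat.find hex ≠ 0 := by
    intro h0
    rw [h0] at hs
    have := (Submodule.mem_annihilator.mp hs) 1 (one_mem_minorIdeal_zero M)
    exact hne (by simpa using this)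
  obtain ⟨r, hr⟩ : ∃ r, Nat.find hex = r + 1 := Nat.exists_eq_succ_of_ne_zero hs0
  have hr' : a ∉ (CAlgX.minorIdeal M r).annihilator := Nat.find_min hex (by omega)
  rw [hr] at hs
  rw [CAlgX.minorIdeal, Submodule.mem_annihilator_span] at hr'
  push Not at hr'
  obtain ⟨⟨_, ⟨f, g⟩, rfl⟩, hfg⟩ := hr'
  simp only [smul_eq_mul] at hfg
  have hrm : r < m := by omega
  obtain ⟨j₀, hj₀⟩ : ∃ j₀, j₀ ∉ Set.range g := by
    by_contra hcon
    push Not at hcon
    have hsurj : Function.Surjective g := hcon
    have := Fintype.card_le_of_surjective g hsurj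
    simp at this
    omega
  let g' : Fin (r + 1) → Fin m := Fin.cons j₀ g
  let c : Fin (r + 1) → R := fun k => (-1) ^ (k : ℕ) * (M.submatrix f (g' ∘ k.succAbove)).det
  let v : Fin m → R := ∑ k, (a * c k) • Pi.single (g' k) 1
  have hMv : M.mulVec v = 0 := by
    funext i
    have hdet : a * (M.submatrix (Fin.cons i f : Fin (r + 1) → Fin n) g').det = 0 := by
      have hmem : (M.submatrix (Fin.cons i f : Fin (r + 1) → Fin n) g').det ∈
          CAlgX.minorIdeal M (r + 1) := Ideal.subset_span ⟨(Fin.cons i f, g'), rfl⟩
      simpa using (Submodule.mem_annihilator.mp hs) _ hmem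
    rw [Matrix.det_succ_row_zero] at hdet
    simp only [v, Matrix.mulVec_sum, Matrix.mulVec_smul, Matrix.mulVec_single_one,
      Finset.sum_apply, Pi.smul_apply, Matrix.col_apply, smul_eq_mul, Pi.zero_apply]
    rw [← hdet, Finset.mul_sum]
    refine Finset.sum_congr rfl fun k _ => ?_
    simp only [c, Matrix.submatrix_apply, Fin.cons_zero]
    have : (M.submatrix (Fin.cons i f : Fin (r + 1) → Fin n) g').submatrix Fin.succ k.succAbove =
        M.submatrix f (g' ∘ k.succAbove) := by
      ext x y
      simp [Matrix.submatrix_apply]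
    rw [this]
    ring
  have hv0 : v = 0 := h (by simpa using hMv)
  have hvj : v j₀ = a * (M.submatrix f g).det := by
    simp only [v, Finset.sum_apply, Pi.smul_apply, smul_eq_mul]
    rw [Fin.sum_univ_succ]
    have hrest : ∀ k : Fin r, (a * c k.succ) * (Pi.single (g' k.succ) (1 : R) : Fin m → R) j₀ = 0 := by
      intro k
      have : g' k.succ ≠ j₀ := by
        simp only [g', Fin.cons_succ]
        exact fun hk => hj₀ ⟨k, hk⟩
      rw [Pi.single_eq_of_ne' this, mul_zero]
    rw [Finset.sum_eq_zero (fun k _ => hrest k), add_zero]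
    have hc0 : c 0 = (M.submatrix f g).det := by
      simp only [c, Fin.val_zero, pow_zero, one_mul]
      congr 2
    simp [g', hc0]
  exact hfg (by rw [← hvj, hv0]; rfl)

/-- **McCoy's theorem**: a matrix defines an injective map iff the annihilator of the ideal of
maximal minors vanishes. -/
theorem injective_iff_annihilator_eq_bot {m n : ℕ} (M : Matrix (Fin n) (Fin m) R) :
    Function.Injective (Matrix.mulVecLin M) ↔ (CAlgX.minorIdeal M m).annihilator = ⊥ :=
  ⟨annihilator_eq_bot_of_injective M, injective_of_annihilator_eq_bot M⟩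

/-- Reformulation in terms of `matrixRank` and `detIdeal`. -/
theorem rank_and_annihilator_iff [Nontrivial R] {m n : ℕ} (M : Matrix (Fin n) (Fin m) R) :
    (CAlgX.matrixRank M = m ∧ (CAlgX.detIdeal M).annihilator = ⊥) ↔
      (CAlgX.minorIdeal M m).annihilator = ⊥ := by
  constructor
  · rintro ⟨h1, h2⟩
    rw [CAlgX.detIdeal, h1] at h2
    exact h2
  · intro h
    have hbdd : BddAbove {r : ℕ | CAlgX.minorIdeal M r ≠ ⊥} := by
      refine ⟨m, fun r hr => ?_⟩
      by_contra hlt
      exact hr (minorIdeal_eq_bot_of_lt M (by omega))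
    have hm : m ∈ {r : ℕ | CAlgX.minorIdeal M r ≠ ⊥} := by
      intro hbot
      rw [hbot, Submodule.annihilator_bot] at h
      exact top_ne_bot h
    have hrank : CAlgX.matrixRank M = m := by
      apply le_antisymm
      · apply csSup_le ⟨m, hm⟩
        intro r hr
        by_contra hlt
        exact hr (minorIdeal_eq_bot_of_lt M (by omega))
      · exact le_csSup hbdd hm
    refine ⟨hrank, ?_⟩
    rw [CAlgX.detIdeal, hrank]
    exact h

/-- In a Noetherian ring an ideal has trivial annihilator iff it is the unit ideal or contains a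
regular element. -/
theorem annihilator_eq_bot_iff_of_noetherian [IsNoetherianRing R] (I : Ideal R) :
    I.annihilator = ⊥ ↔ (I = ⊤ ∨ ∃ a ∈ I, IsRegular a) := by
  classical
  constructor
  · intro h
    right
    by_contra hcon
    push Not at hcon
    have hsub : (I : Set R) ⊆ ⋃ p ∈ ((associatedPrimes.finite R R).toFinset : Set (Ideal R)),
        ((id p : Ideal R) : Set R) := by
      intro a ha
      have hnr : ¬ IsSMulRegular R a := fun hreg =>
        hcon a ha ((Commute.isRegular_iff (fun b => Commute.all a b)).mpr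
          (isLeftRegular_iff.mpr hreg))
      have hmem : a ∈ ({r | IsSMulRegular R r}ᶜ : Set R) := hnr
      rw [← biUnion_associatedPrimes_eq_compl_regular R R] at hmem
      simpa using hmem
    rw [Ideal.subset_union_prime (⊥ : Ideal R) ⊥] at hsub
    · obtain ⟨p, hp, hIp⟩ := hsub
      have hp' : IsAssociatedPrime p R := by
        have : p ∈ associatedPrimes R R := by simpa using hp
        exact this
      obtain ⟨hprime, x, hx⟩ := isAssociatedPrime_iff.mp hp'
      have hxI : x ∈ I.annihilator := by
        rw [Submodule.mem_annihilator]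
        intro i hi
        have : i ∈ Submodule.colon (⊥ : Submodule R R) {x} := hx ▸ hIp hi
        rw [Submodule.mem_colon_singleton] at this
        simpa [mul_comm] using this
      rw [h] at hxI
      have hx0 : x = 0 := hxI
      apply hprime.ne_top
      rw [hx, hx0]
      ext r
      simp [Submodule.mem_colon_singleton]
    · intro p hp _ _
      have hp' : IsAssociatedPrime p R := by
        have : p ∈ associatedPrimes R R := by simpa using hp
        exact this
      exact hp'.isPrime
  · rintro (h | ⟨a, ha, hreg⟩)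
    · rw [h, eq_bot_iff]
      intro x hx
      have := (Submodule.mem_annihilator.mp hx) 1 trivial
      simpa using this
    · rw [eq_bot_iff]
      intro x hx
      have h0 : x * a = 0 := by simpa using (Submodule.mem_annihilator.mp hx) a ha
      exact hreg.right (by simpa using h0)

end Groth.Agent.Helper14.McCoy
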