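import Mathlib
import Groth.Agent.Lib.Helper14.MorGlueDef

/-!
# Zariski gluing over the base, part 1: the total presheaf of a presheaf on `Over S`
-/

set_option autoImplicit false
set_option linter.style.haveILetI false
set_option linter.unusedSectionVars false
set_option linter.unusedVariables false
set_option maxRecDepth 8000

universe u
open CategoryTheory CategoryTheory.Limits AlgebraicGeometry Opposite

namespace Groth.Agent.Helper14.MorGlue

variable {S : Scheme.{u}} (F : (Over S)ᵒᵖ ⥤ Type u)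

/-- restriction of a section along a morphism of schemes -/
def res {T T' : Scheme.{u}} (φ : T' ⟶ T) {t : T ⟶ S} {t' : T' ⟶ S} (h : φ ≫ t = t')
    (x : F.obj (op (Over.mk t))) : F.obj (op (Over.mk t')) :=
  F.map (Over.homMk φ h : Over.mk t' ⟶ Over.mk t).op x

theorem res_id {T : Scheme.{u}} {t : T ⟶ S} (x : F.obj (op (Over.mk t))) :
    res F (𝟙 T) (Category.id_comp t) x = x := by
  have : (Over.homMk (𝟙 T) (Category.id_comp t) : Over.mk t ⟶ Over.mk t) = 𝟙 _ := rfl
  simp only [res, this, op_id, Functor.map_id_apply]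

theorem res_res {T T' T'' : Scheme.{u}} (φ : T' ⟶ T) (ψ : T'' ⟶ T') {t : T ⟶ S} {t' : T' ⟶ S}
    {t'' : T'' ⟶ S} (h : φ ≫ t = t') (h' : ψ ≫ t' = t'') (x : F.obj (op (Over.mk t))) :
    res F ψ h' (res F φ h x) = res F (ψ ≫ φ) (by rw [Category.assoc, h, h']) x := by
  have : (Over.homMk (ψ ≫ φ) (by simp only [Over.mk_hom, Category.assoc, h, h']) :
      Over.mk t'' ⟶ Over.mk t) =
      (Over.homMk ψ h' : Over.mk t'' ⟶ Over.mk t') ≫ (Over.homMk φ h : Over.mk t' ⟶ Over.mk t) :=
    rfl
  simp only [res, this, op_comp, Functor.map_comp_apply]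

theorem res_congr {T T' : Scheme.{u}} {φ φ' : T' ⟶ T} (e : φ = φ') {t : T ⟶ S} {t' : T' ⟶ S}
    (h : φ ≫ t = t') (x : F.obj (op (Over.mk t))) :
    res F φ h x = res F φ' (e ▸ h) x := by
  subst e
  rfl

theorem sigma_ext {T : Scheme.{u}} (a b : Σ t : T ⟶ S, F.obj (op (Over.mk t))) (h1 : a.1 = b.1)
    (h2 : res F (𝟙 T) (by rw [Category.id_comp, h1]) a.2 = b.2) : a = b := by
  obtain ⟨t, x⟩ := a
  obtain ⟨t', y⟩ := b
  dsimp only at h1
  subst h1
  rw [res_id] at h2
  dsimp only at h2
  subst h2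
  rfl

/-- the total presheaf on schemes: pairs of a structure morphism and a section -/
def tot : Scheme.{u}ᵒᵖ ⥤ Type u where
  obj T := Σ t : T.unop ⟶ S, F.obj (op (Over.mk t))
  map {T T'} φ := ↾(fun a => ⟨φ.unop ≫ a.1, res F φ.unop rfl a.2⟩)
  map_id T := by
    apply ConcreteCategory.hom_ext
    rintro ⟨t, x⟩
    refine sigma_ext F _ _ (Category.id_comp t) ?_
    change res F (𝟙 _) _ (res F (𝟙 _) _ x) = x
    rw [res_res]
    have h := res_id F x
    convert h using 2
    exact Category.comp_id _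
  map_comp {T T' T''} φ ψ := by
    apply ConcreteCategory.hom_ext
    rintro ⟨t, x⟩
    refine sigma_ext F _ _ (Category.assoc _ _ _) ?_
    change res F (𝟙 _) _ (res F (ψ.unop ≫ φ.unop) _ x) = res F ψ.unop _ (res F φ.unop _ x)
    rw [res_res, res_res]
    congr 1

end Groth.Agent.Helper14.MorGlue
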