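import Mathlib
import Groth.Agent.Lib.Helper14.MorGlue1

/-!
# Zariski gluing over the base, part 2: from the total presheaf back to `Over S`
-/

set_option autoImplicit false
set_option linter.style.haveILetI false
set_option linter.unusedSectionVars false
set_option linter.unusedVariables false
set_option maxRecDepth 8000

universe u
open CategoryTheory CategoryTheory.Limits AlgebraicGeometry Opposite

namespace Groth.Agent.Helper14.MorGlue

variable {S : Scheme.{u}} (F : (Over S)ᵒᵖ ⥤ Type u)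

theorem tot_map_apply {T T' : Scheme.{u}} (φ : T' ⟶ T) (t : T ⟶ S) (x : F.obj (op (Over.mk t))) :
    (tot F).map φ.op (⟨t, x⟩ : Σ t : T ⟶ S, F.obj (op (Over.mk t))) =
      (⟨φ ≫ t, res F φ rfl x⟩ : Σ t : T' ⟶ S, F.obj (op (Over.mk t))) := rfl

theorem sigma_fst_eq {T : Scheme.{u}} {a b : Σ t : T ⟶ S, F.obj (op (Over.mk t))} (h : a = b) :
    a.1 = b.1 := by rw [h]

theorem sigma_snd_eq {T : Scheme.{u}} {a b : Σ t : T ⟶ S, F.obj (op (Over.mk t))} (h : a = b) :
    res F (𝟙 T) (by rw [Category.id_comp, h]) a.2 = b.2 := by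
  subst h
  exact res_id F _

theorem representableBy_of_tot {W₀ : Scheme.{u}} (R : (tot F).RepresentableBy W₀) :
    ∃ w : W₀ ⟶ S, Nonempty (F.RepresentableBy (Over.mk w)) := by
  let ξ : Σ t : W₀ ⟶ S, F.obj (op (Over.mk t)) := R.homEquiv (𝟙 W₀)
  have hcomp : ∀ {T : Scheme.{u}} (a : T ⟶ W₀),
      (R.homEquiv a : Σ t : T ⟶ S, F.obj (op (Over.mk t))) = ⟨a ≫ ξ.1, res F a rfl ξ.2⟩ := by
    intro T a
    have h := R.homEquiv_comp a (𝟙 W₀)
    rw [Category.comp_id] at h
    exact h
  have hex : ∀ (T : Scheme.{u}) (t : T ⟶ S) (x : F.obj (op (Over.mk t))),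
      ∃ a : T ⟶ W₀, ∃ h : a ≫ ξ.1 = t, res F a h ξ.2 = x := by
    intro T t x
    refine ⟨R.homEquiv.symm ⟨t, x⟩, ?_⟩
    have h := hcomp (R.homEquiv.symm ⟨t, x⟩)
    rw [Equiv.apply_symm_apply] at h
    have h1 := sigma_fst_eq F h
    have h2 := sigma_snd_eq F h.symm
    refine ⟨h1.symm, ?_⟩
    dsimp only at h2
    rw [res_res] at h2
    exact (res_congr F (Category.id_comp _).symm _ _).trans h2
  have huniq : ∀ (T : Scheme.{u}) (t : T ⟶ S) (a a' : T ⟶ W₀) (h : a ≫ ξ.1 = t)
      (h' : a' ≫ ξ.1 = t), res F a h ξ.2 = res F a' h' ξ.2 → a = a' := by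
    intro T t a a' h h' hres
    apply R.homEquiv.injective
    rw [hcomp, hcomp]
    refine sigma_ext F _ _ (h.trans h'.symm) ?_
    dsimp only
    rw [res_res]
    have e1 : res F (𝟙 T ≫ a) (by rw [Category.id_comp]; exact h.trans h'.symm) ξ.2 =
        res F a (h.trans h'.symm) ξ.2 := res_congr F (Category.id_comp a) _ _
    rw [e1]
    subst h'
    exact hres
  refine ⟨ξ.1, ⟨?_⟩⟩
  exact
    { homEquiv := fun {T} => Equiv.ofBijective
        (fun φ : T ⟶ Over.mk ξ.1 => F.map φ.op ξ.2)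
        ⟨by
          intro φ φ' hφ
          apply Over.OverMorphism.ext
          exact huniq T.left T.hom φ.left φ'.left (Over.w φ) (Over.w φ') hφ,
         by
          intro x
          obtain ⟨a, h, hx⟩ := hex T.left T.hom x
          exact ⟨Over.homMk a h, hx⟩⟩
      homEquiv_comp := by
        intro T T' f g
        simp only [Equiv.ofBijective_apply, op_comp, Functor.map_comp_apply] }

end Groth.Agent.Helper14.MorGlue
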