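import Mathlib
import Groth.Agent.Lib.Helper14.MorGlueDef2
import Groth.Agent.Lib.Helper14.MorGlue2

/-!
# Zariski gluing over the base, part 3: the total presheaf is a Zariski sheaf
-/

set_option autoImplicit false
set_option linter.style.haveILetI false
set_option linter.unusedSectionVars false
set_option linter.unusedVariables false
set_option maxRecDepth 8000

universe u
open CategoryTheory CategoryTheory.Limits AlgebraicGeometry Opposite

namespace Groth.Agent.Helper14.MorGlue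

variable {S : Scheme.{u}} (F : (Over S)ᵒᵖ ⥤ Type u)

/-- transport of sections along an equality of structure morphisms -/
def tr {T : Scheme.{u}} {t t' : T ⟶ S} (h : t = t') (x : F.obj (op (Over.mk t))) :
    F.obj (op (Over.mk t')) :=
  res F (𝟙 T) (by rw [Category.id_comp, h]) x

theorem tr_rfl {T : Scheme.{u}} {t : T ⟶ S} (x : F.obj (op (Over.mk t))) : tr F rfl x = x :=
  res_id F x

theorem tr_tr {T : Scheme.{u}} {t t' t'' : T ⟶ S} (h : t = t') (h' : t' = t'')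
    (x : F.obj (op (Over.mk t))) : tr F h' (tr F h x) = tr F (h.trans h') x := by
  subst h; subst h'; simp only [tr_rfl]

theorem res_tr {T T' : Scheme.{u}} (φ : T' ⟶ T) {t₁ t₂ : T ⟶ S} {t' : T' ⟶ S} (e : t₁ = t₂)
    (h : φ ≫ t₂ = t') (x : F.obj (op (Over.mk t₁))) :
    res F φ h (tr F e x) = res F φ (by rw [e, h]) x := by
  subst e; rw [tr_rfl]

theorem tr_res {T T' : Scheme.{u}} (φ : T' ⟶ T) {t : T ⟶ S} {t₁ t₂ : T' ⟶ S} (e : t₁ = t₂)
    (h : φ ≫ t = t₁) (x : F.obj (op (Over.mk t))) :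
    tr F e (res F φ h x) = res F φ (h.trans e) x := by
  subst e; rw [tr_rfl]

theorem tr_injective {T : Scheme.{u}} {t t' : T ⟶ S} (h : t = t') :
    Function.Injective (tr F h) := by
  subst h
  intro a b hab
  rwa [tr_rfl, tr_rfl] at hab

theorem tot_isSheaf (hF : IsZarSheafW.{u + 1} F) :
    Presieve.IsSheaf Scheme.zariskiTopology (tot F) := by
  rw [Precoverage.isSheaf_toGrothendieck_iff_of_isStableUnderBaseChange]
  rintro Y R hR
  obtain ⟨(𝓤 : Scheme.OpenCover.{u + 1} Y), rfl⟩ := Scheme.exists_cover_of_mem_pretopology hR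
  rw [Presieve.isSheafFor_arrows_iff]
  intro x hx
  let a : ∀ i, Σ t : 𝓤.X i ⟶ S, F.obj (op (Over.mk t)) := x
  have hcompat : ∀ i j,
      (⟨pullback.fst (𝓤.f i) (𝓤.f j) ≫ (a i).1, res F (pullback.fst (𝓤.f i) (𝓤.f j)) rfl (a i).2⟩ :
        Σ t : pullback (𝓤.f i) (𝓤.f j) ⟶ S, F.obj (op (Over.mk t))) =
      ⟨pullback.snd (𝓤.f i) (𝓤.f j) ≫ (a j).1,
        res F (pullback.snd (𝓤.f i) (𝓤.f j)) rfl (a j).2⟩ :=
    fun i j => hx i j _ (pullback.fst _ _) (pullback.snd _ _) pullback.condition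
  have hfst : ∀ i j, pullback.fst (𝓤.f i) (𝓤.f j) ≫ (a i).1 =
      pullback.snd (𝓤.f i) (𝓤.f j) ≫ (a j).1 := fun i j => sigma_fst_eq F (hcompat i j)
  have hsnd : ∀ i j, tr F (hfst i j) (res F (pullback.fst (𝓤.f i) (𝓤.f j)) rfl (a i).2) =
      res F (pullback.snd (𝓤.f i) (𝓤.f j)) rfl (a j).2 := fun i j => sigma_snd_eq F (hcompat i j)
  let t : Y ⟶ S := 𝓤.glueMorphisms (fun i => (a i).1) (fun i j => hfst i j)
  have ht : ∀ i, 𝓤.f i ≫ t = (a i).1 := fun i => 𝓤.ι_glueMorphisms _ _ i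
  let x' : ∀ i, F.obj (op (Over.mk (𝓤.f i ≫ t))) := fun i => tr F (ht i).symm (a i).2
  have hx' : ∀ i j, F.map (Over.homMk (pullback.fst (𝓤.f i) (𝓤.f j)) rfl :
          Over.mk (pullback.fst (𝓤.f i) (𝓤.f j) ≫ 𝓤.f i ≫ t) ⟶ Over.mk (𝓤.f i ≫ t)).op (x' i) =
        F.map (Over.homMk (pullback.snd (𝓤.f i) (𝓤.f j))
          (by simp only [Over.mk_hom]
              exact (pullback.condition_assoc _).symm) :
          Over.mk (pullback.fst (𝓤.f i) (𝓤.f j) ≫ 𝓤.f i ≫ t) ⟶ Over.mk (𝓤.f j ≫ t)).op (x' j) := by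
    intro i j
    have e : pullback.snd (𝓤.f i) (𝓤.f j) ≫ (a j).1 =
        pullback.fst (𝓤.f i) (𝓤.f j) ≫ 𝓤.f i ≫ t := by rw [← hfst i j, ht i]
    have e2 : pullback.snd (𝓤.f i) (𝓤.f j) ≫ 𝓤.f j ≫ t =
        pullback.fst (𝓤.f i) (𝓤.f j) ≫ 𝓤.f i ≫ t := (pullback.condition_assoc _).symm
    change res F (pullback.fst (𝓤.f i) (𝓤.f j)) rfl (tr F (ht i).symm (a i).2) =
      res F (pullback.snd (𝓤.f i) (𝓤.f j)) e2 (tr F (ht j).symm (a j).2)
    rw [res_tr, res_tr]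
    have h' := congrArg (tr F e) (hsnd i j)
    rw [tr_tr, tr_res, tr_res] at h'
    exact h'
  obtain ⟨y, hy, hyu⟩ := hF Y t 𝓤 x' hx'
  have hy' : ∀ i, res F (𝓤.f i) rfl y = tr F (ht i).symm (a i).2 := hy
  refine ⟨(⟨t, y⟩ : Σ t : Y ⟶ S, F.obj (op (Over.mk t))), ?_, ?_⟩
  · intro i
    change (⟨𝓤.f i ≫ t, res F (𝓤.f i) rfl y⟩ : Σ t : 𝓤.X i ⟶ S, F.obj (op (Over.mk t))) = a i
    refine sigma_ext F _ _ (ht i) ?_
    change tr F (ht i) (res F (𝓤.f i) rfl y) = (a i).2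
    rw [hy' i, tr_tr, tr_rfl]
  · intro b hb
    obtain ⟨t', y'⟩ : Σ t : Y ⟶ S, F.obj (op (Over.mk t)) := b
    have hb' : ∀ i, (⟨𝓤.f i ≫ t', res F (𝓤.f i) rfl y'⟩ :
        Σ t : 𝓤.X i ⟶ S, F.obj (op (Over.mk t))) = a i := hb
    have htt : t' = t :=
      𝓤.hom_ext _ _ (fun i => (sigma_fst_eq F (hb' i)).trans (ht i).symm)
    subst htt
    congr 1
    apply hyu
    intro i
    change res F (𝓤.f i) rfl y' = tr F (ht i).symm (a i).2
    have h2 := sigma_snd_eq F (hb' i)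
    change tr F (sigma_fst_eq F (hb' i)) (res F (𝓤.f i) rfl y') = (a i).2 at h2
    rw [← h2, tr_tr, tr_rfl]

end Groth.Agent.Helper14.MorGlue
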