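import Mathlib
import Groth.Agent.Lib.Helper14.MorGlue3

/-!
# Zariski gluing over the base, part 4: charts
-/

set_option autoImplicit false
set_option linter.style.haveILetI false
set_option linter.unusedSectionVars false
set_option linter.unusedVariables false
set_option maxRecDepth 8000

universe u
open CategoryTheory CategoryTheory.Limits AlgebraicGeometry Opposite

namespace Groth.Agent.Helper14.MorGlue

variable {S : Scheme.{u}} (F : (Over S)ᵒᵖ ⥤ Type u)

/-- a representing object for `F` restricted to schemes over the open `U` of `S` -/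
structure Chart (U : S.Opens) where
  W : Scheme.{u}
  p : W ⟶ U.toScheme
  ξ : F.obj (op (Over.mk (p ≫ U.ι)))
  ex : ∀ (T : Scheme.{u}) (τ : T ⟶ U.toScheme) (x : F.obj (op (Over.mk (τ ≫ U.ι)))),
    ∃ a : T ⟶ W, ∃ h : a ≫ p = τ, res F a (by rw [← h, Category.assoc]) ξ = x
  uniq : ∀ (T : Scheme.{u}) (a a' : T ⟶ W) (h : a ≫ p = a' ≫ p),
    res F a rfl ξ = res F a' (by rw [← Category.assoc, ← h, Category.assoc]) ξ → a = a'

variable {F}

namespace Chart

variable {U : S.Opens} (c : Chart F U)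

/-- the chart as a map of presheaves -/
noncomputable def map : yoneda.obj c.W ⟶ tot F :=
  yonedaEquiv.symm (⟨c.p ≫ U.ι, c.ξ⟩ : Σ t : c.W ⟶ S, F.obj (op (Over.mk t)))

theorem map_app {T : Scheme.{u}} (a : T ⟶ c.W) :
    (c.map.app (op T) a : Σ t : T ⟶ S, F.obj (op (Over.mk t))) =
      ⟨a ≫ c.p ≫ U.ι, res F a rfl c.ξ⟩ := rfl

theorem exists_classify {T : Scheme.{u}} (t : T ⟶ S) (x : F.obj (op (Over.mk t)))
    (hT : ∀ q : T, t q ∈ U) :
    ∃ a : T ⟶ c.W, ∃ h : a ≫ c.p ≫ U.ι = t, res F a h c.ξ = x := by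
  have hrange : Set.range t.base ⊆ Set.range U.ι.base := by
    rintro _ ⟨q, rfl⟩
    rw [Scheme.Opens.range_ι]
    exact hT q
  let τ : T ⟶ U.toScheme := IsOpenImmersion.lift U.ι t hrange
  have hτ : τ ≫ U.ι = t := IsOpenImmersion.lift_fac _ _ _
  obtain ⟨a, h, hx⟩ := c.ex T τ (tr F hτ.symm x)
  refine ⟨a, by rw [← Category.assoc, h, hτ], ?_⟩
  have h2 := congrArg (tr F hτ) hx
  rw [tr_res, tr_tr, tr_rfl] at h2
  exact h2

theorem classify_unique {T : Scheme.{u}} (a a' : T ⟶ c.W) (t : T ⟶ S)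
    (h : a ≫ c.p ≫ U.ι = t) (h' : a' ≫ c.p ≫ U.ι = t)
    (hres : res F a h c.ξ = res F a' h' c.ξ) : a = a' := by
  have hp : a ≫ c.p = a' ≫ c.p := by
    rw [← cancel_mono U.ι, Category.assoc, Category.assoc, h, h']
  subst h
  exact c.uniq T a a' hp hres

theorem openImm : IsOpenImmersion.presheaf c.map := by
  apply MorphismProperty.relative.of_exists
  intro T g
  obtain ⟨s, rfl⟩ := yonedaEquiv.symm.surjective g
  obtain ⟨t, x⟩ : Σ t : T ⟶ S, F.obj (op (Over.mk t)) := s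
  let V : T.Opens := t ⁻¹ᵁ U
  have hV : ∀ q : V.toScheme, (V.ι ≫ t) q ∈ U := by
    intro q
    have h1 : V.ι q ∈ V := by
      have h : V.ι q ∈ Set.range V.ι := ⟨q, rfl⟩
      rw [Scheme.Opens.range_ι] at h
      exact h
    rw [Scheme.Hom.comp_apply]
    exact h1
  obtain ⟨z, hz, hzx⟩ := c.exists_classify (V.ι ≫ t) (res F V.ι rfl x) hV
  refine ⟨V.toScheme, yoneda.map z, V.ι, ?_, inferInstance⟩
  apply IsPullback.of_forall_isPullback_app
  intro Q
  rw [Types.isPullback_iff]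
  refine ⟨?_, ?_, ?_⟩
  · apply ConcreteCategory.hom_ext
    intro (v : unop Q ⟶ V.toScheme)
    change (⟨(v ≫ z) ≫ c.p ≫ U.ι, res F (v ≫ z) rfl c.ξ⟩ :
      Σ t : unop Q ⟶ S, F.obj (op (Over.mk t))) = ⟨(v ≫ V.ι) ≫ t, res F (v ≫ V.ι) rfl x⟩
    have e : (v ≫ z) ≫ c.p ≫ U.ι = (v ≫ V.ι) ≫ t := by
      rw [Category.assoc, hz, Category.assoc]
    refine sigma_ext F _ _ e ?_
    change tr F e (res F (v ≫ z) rfl c.ξ) = res F (v ≫ V.ι) rfl x
    rw [tr_res, ← res_res F z v hz (Category.assoc _ _ _).symm, hzx, res_res]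
  · intro (v : unop Q ⟶ V.toScheme) (v' : unop Q ⟶ V.toScheme) h
    have h2 : v ≫ V.ι = v' ≫ V.ι := h.2
    exact (cancel_mono V.ι).mp h2
  · intro (a : unop Q ⟶ c.W) (b : unop Q ⟶ T) hab
    have hab' : (⟨a ≫ c.p ≫ U.ι, res F a rfl c.ξ⟩ :
      Σ t : unop Q ⟶ S, F.obj (op (Over.mk t))) = ⟨b ≫ t, res F b rfl x⟩ := hab
    have h1 : a ≫ c.p ≫ U.ι = b ≫ t := sigma_fst_eq F hab'
    have h2 : tr F h1 (res F a rfl c.ξ) = res F b rfl x := sigma_snd_eq F hab'
    have hbV : ∀ q : (unop Q : Scheme.{u}), b q ∈ V := by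
      intro q
      show t (b q) ∈ U
      rw [← Scheme.Hom.comp_apply, ← h1, ← Category.assoc, Scheme.Hom.comp_apply]
      have h : U.ι ((a ≫ c.p) q) ∈ Set.range U.ι := ⟨_, rfl⟩
      rw [Scheme.Opens.range_ι] at h
      exact h
    obtain ⟨v, hv⟩ : ∃ v : (unop Q : Scheme.{u}) ⟶ V.toScheme, v ≫ V.ι = b :=
      ⟨IsOpenImmersion.lift V.ι b (by
        rw [Scheme.Opens.range_ι]
        rintro _ ⟨q, rfl⟩
        exact hbV q), IsOpenImmersion.lift_fac _ _ _⟩
    refine ⟨v, ?_, hv⟩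
    show v ≫ z = a
    have e : (v ≫ z) ≫ c.p ≫ U.ι = b ≫ t := by
      rw [Category.assoc, hz, ← Category.assoc, hv]
    refine c.classify_unique (v ≫ z) a (b ≫ t) e h1 ?_
    rw [tr_res] at h2
    rw [h2, ← res_res F z v hz (by rw [← Category.assoc, hv]), hzx, res_res]
    exact res_congr F hv _ _

end Chart

end Groth.Agent.Helper14.MorGlue
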