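import Mathlib
import Groth.Agent.Lib.Helper14.MorGlue4

/-!
# Zariski gluing over the base, part 5: representability from charts over an open cover of the base
-/

set_option autoImplicit false
set_option linter.style.haveILetI false
set_option linter.unusedSectionVars false
set_option linter.unusedVariables false
set_option maxRecDepth 8000

universe u
open CategoryTheory CategoryTheory.Limits AlgebraicGeometry Opposite

namespace Groth.Agent.Helper14.MorGlue

variable {S : Scheme.{u}} {F : (Over S)ᵒᵖ ⥤ Type u}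

theorem locSurj {ι : Type u} (U : ι → S.Opens) (hU : ∀ s : S, ∃ i, s ∈ U i)
    (c : ∀ i, Chart F (U i)) :
    Presheaf.IsLocallySurjective Scheme.zariskiTopology
      (Sigma.desc (fun i => (c i).map)) := by
  constructor
  intro T s
  obtain ⟨t, x⟩ : Σ t : T ⟶ S, F.obj (op (Over.mk t)) := s
  rw [Scheme.mem_grothendieckTopology_iff]
  let V : ι → T.Opens := fun i => t ⁻¹ᵁ (U i)
  have hV : TopologicalSpace.IsOpenCover V := by
    refine TopologicalSpace.IsOpenCover.mk (eq_top_iff.mpr fun q _ => ?_)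
    rw [TopologicalSpace.Opens.mem_iSup]
    obtain ⟨i, hi⟩ := hU (t q)
    exact ⟨i, hi⟩
  refine ⟨T.openCoverOfIsOpenCover V hV, ?_⟩
  rintro Y g ⟨(i : ι)⟩
  change Presheaf.imageSieve _ _ ((V i).ι)
  have hVi : ∀ q : (V i).toScheme, ((V i).ι ≫ t) q ∈ U i := by
    intro q
    have h1 : (V i).ι q ∈ V i := by
      have h : (V i).ι q ∈ Set.range (V i).ι := ⟨q, rfl⟩
      rw [Scheme.Opens.range_ι] at h
      exact h
    rw [Scheme.Hom.comp_apply]
    exact h1
  obtain ⟨z, hz, hzx⟩ := (c i).exists_classify ((V i).ι ≫ t) (res F (V i).ι rfl x) hVi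
  refine ⟨(Sigma.ι (fun i => yoneda.obj (c i).W) i).app _ z, ?_⟩
  have e1 : (Sigma.desc (fun i => (c i).map)).app _
      ((Sigma.ι (fun i => yoneda.obj (c i).W) i).app _ z) = (c i).map.app _ z := by
    have := congrArg (fun σ => σ.app (op ((V i).toScheme)) z)
      (Sigma.ι_desc (fun i => (c i).map) i)
    exact this
  refine e1.trans ?_
  change (⟨z ≫ (c i).p ≫ (U i).ι, res F z rfl (c i).ξ⟩ :
      Σ t : (V i).toScheme ⟶ S, F.obj (op (Over.mk t))) = ⟨(V i).ι ≫ t, res F (V i).ι rfl x⟩
  refine sigma_ext F _ _ hz ?_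
  change tr F hz (res F z rfl (c i).ξ) = res F (V i).ι rfl x
  rw [tr_res]
  exact hzx

theorem exists_representableBy {ι : Type u} (hF : IsZarSheafW.{u + 1} F) (U : ι → S.Opens)
    (hU : ∀ s : S, ∃ i, s ∈ U i) (c : ∀ i, Chart F (U i)) :
    ∃ W : Over S, Nonempty (F.RepresentableBy W) := by
  haveI := locSurj U hU c
  have h := Scheme.LocalRepresentability.isRepresentable
    (F := ⟨tot F, (isSheaf_iff_isSheaf_of_type _ _).mpr (tot_isSheaf F hF)⟩)
    (f := fun i => (c i).map) (fun i => (c i).openImm)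
  obtain ⟨W₀, ⟨R⟩⟩ := h
  obtain ⟨w, hR⟩ := representableBy_of_tot F R
  exact ⟨Over.mk w, hR⟩

end Groth.Agent.Helper14.MorGlue
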