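import Mathlib
import Groth.Agent.Lib.Helper14.MorGlue5

/-!
# Zariski gluing over the base, part 6: charts from representability of the restricted functor
-/

set_option autoImplicit false
set_option linter.style.haveILetI false
set_option linter.unusedSectionVars false
set_option linter.unusedVariables false
set_option maxRecDepth 8000

universe u
open CategoryTheory CategoryTheory.Limits AlgebraicGeometry Opposite

namespace Groth.Agent.Helper14.MorGlue

variable {S : Scheme.{u}} {F : (Over S)ᵒᵖ ⥤ Type u}

noncomputable def Chart.ofRepresentableBy {U : S.Opens} {W' : Over U.toScheme}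
    (R : ((Over.map U.ι).op ⋙ F).RepresentableBy W') : Chart F U where
  W := W'.left
  p := W'.hom
  ξ := R.homEquiv (𝟙 W')
  ex := by
    intro T τ x
    let φ : Over.mk τ ⟶ W' := R.homEquiv.symm x
    refine ⟨φ.left, Over.w φ, ?_⟩
    have h := R.homEquiv_comp φ (𝟙 W')
    rw [Category.comp_id, Equiv.apply_symm_apply] at h
    exact h.symm
  uniq := by
    intro T a a' h hres
    let φ : Over.mk (a ≫ W'.hom) ⟶ W' := Over.homMk a rfl
    let φ' : Over.mk (a ≫ W'.hom) ⟶ W' := Over.homMk a' h.symm
    have : φ = φ' := by
      apply R.homEquiv.injective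
      have e1 := R.homEquiv_comp φ (𝟙 W')
      have e2 := R.homEquiv_comp φ' (𝟙 W')
      rw [Category.comp_id] at e1 e2
      rw [e1, e2]
      exact hres
    exact congrArg (fun q => q.left) this

end Groth.Agent.Helper14.MorGlue
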