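import Mathlib
import Groth.Agent.Lib.Helper14.MorGlue6

/-!
# Zariski gluing over the base, part 7: the glued object restricts to the charts
-/

set_option autoImplicit false
set_option linter.style.haveILetI false
set_option linter.unusedSectionVars false
set_option linter.unusedVariables false
set_option maxRecDepth 8000

universe u
open CategoryTheory CategoryTheory.Limits AlgebraicGeometry Opposite

namespace Groth.Agent.Helper14.MorGlue

variable {S : Scheme.{u}} {F : (Over S)ᵒᵖ ⥤ Type u}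

section Rep

variable {W₀ : Scheme.{u}} {w : W₀ ⟶ S} (R₀ : F.RepresentableBy (Over.mk w))

theorem rep_ex {T : Scheme.{u}} (t : T ⟶ S) (x : F.obj (op (Over.mk t))) :
    ∃ a : T ⟶ W₀, ∃ h : a ≫ w = t, res F a h (R₀.homEquiv (𝟙 (Over.mk w))) = x := by
  let φ : Over.mk t ⟶ Over.mk w := R₀.homEquiv.symm x
  refine ⟨φ.left, Over.w φ, ?_⟩
  have h := R₀.homEquiv_comp φ (𝟙 _)
  rw [Category.comp_id, Equiv.apply_symm_apply] at h
  exact h.symm

theorem rep_uniq {T : Scheme.{u}} (t : T ⟶ S) (a a' : T ⟶ W₀) (h : a ≫ w = t) (h' : a' ≫ w = t)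
    (hres : res F a h (R₀.homEquiv (𝟙 (Over.mk w))) = res F a' h' (R₀.homEquiv (𝟙 (Over.mk w)))) :
    a = a' := by
  have : (Over.homMk a h : Over.mk t ⟶ Over.mk w) = Over.homMk a' h' := by
    apply R₀.homEquiv.injective
    have e1 := R₀.homEquiv_comp (Over.homMk a h : Over.mk t ⟶ Over.mk w) (𝟙 _)
    have e2 := R₀.homEquiv_comp (Over.homMk a' h' : Over.mk t ⟶ Over.mk w) (𝟙 _)
    rw [Category.comp_id] at e1 e2
    rw [e1, e2]
    exact hres
  exact congrArg (fun q => q.left) this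

include R₀ in
theorem chart_iso {U : S.Opens} (c : Chart F U) :
    ∃ e : pullback w U.ι ≅ c.W, e.hom ≫ c.p = pullback.snd w U.ι := by
  set η := R₀.homEquiv (𝟙 (Over.mk w)) with hη
  have hcond : pullback.fst w U.ι ≫ w = pullback.snd w U.ι ≫ U.ι := pullback.condition
  have hT : ∀ q : ↥(pullback w U.ι), (pullback.fst w U.ι ≫ w) q ∈ U := by
    intro q
    rw [hcond, Scheme.Hom.comp_apply]
    have h : U.ι ((pullback.snd w U.ι) q) ∈ Set.range U.ι := ⟨_, rfl⟩
    rw [Scheme.Opens.range_ι] at h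
    exact h
  obtain ⟨a, ha, hax⟩ := c.exists_classify (pullback.fst w U.ι ≫ w)
    (res F (pullback.fst w U.ι) rfl η) hT
  obtain ⟨b₀, hb₀, hbx⟩ := rep_ex R₀ (c.p ≫ U.ι) c.ξ
  let b : c.W ⟶ pullback w U.ι := pullback.lift b₀ c.p hb₀
  have hb1 : b ≫ pullback.fst w U.ι = b₀ := pullback.lift_fst _ _ _
  have hb2 : b ≫ pullback.snd w U.ι = c.p := pullback.lift_snd _ _ _
  have hap : a ≫ c.p = pullback.snd w U.ι := by
    rw [← cancel_mono U.ι, Category.assoc, ha, hcond]
  have hab : a ≫ b = 𝟙 _ := by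
    apply pullback.hom_ext
    · rw [Category.assoc, hb1, Category.id_comp]
      refine rep_uniq R₀ (pullback.fst w U.ι ≫ w) (a ≫ b₀) (pullback.fst w U.ι)
        (by rw [Category.assoc, hb₀, ha]) rfl ?_
      rw [← res_res F b₀ a hb₀ ha, hbx, hax]
    · rw [Category.assoc, hb2, Category.id_comp, hap]
  have hba : b ≫ a = 𝟙 _ := by
    refine c.classify_unique (b ≫ a) (𝟙 _) (c.p ≫ U.ι)
      (by rw [Category.assoc, ha, ← Category.assoc, hb1, hb₀]) (Category.id_comp _) ?_
    rw [res_id, ← res_res F a b ha (by rw [← Category.assoc, hb1, hb₀]), hax, res_res]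
    rw [← hbx]
    exact res_congr F hb1 _ _
  exact ⟨⟨a, b, hab, hba⟩, hap⟩

end Rep

theorem prop_of_charts (P : MorphismProperty Scheme.{u}) [IsZariskiLocalAtTarget P]
    {ι : Type u} (U : ι → S.Opens) (hU : ∀ s : S, ∃ i, s ∈ U i) (c : ∀ i, Chart F (U i))
    (hc : ∀ i, P (c i).p) {W₀ : Scheme.{u}} {w : W₀ ⟶ S} (R₀ : F.RepresentableBy (Over.mk w)) :
    P w := by
  have hV : TopologicalSpace.IsOpenCover U := by
    refine TopologicalSpace.IsOpenCover.mk (eq_top_iff.mpr fun q _ => ?_)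
    rw [TopologicalSpace.Opens.mem_iSup]
    exact hU q
  refine IsZariskiLocalAtTarget.of_openCover (S.openCoverOfIsOpenCover U hV) ?_
  intro (i : ι)
  change P (pullback.snd w (U i).ι)
  obtain ⟨e, he⟩ := chart_iso R₀ (c i)
  rw [← he]
  exact (MorphismProperty.cancel_left_of_respectsIso P e.hom (c i).p).mpr (hc i)

end Groth.Agent.Helper14.MorGlue
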