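import Mathlib
import Groth.Agent.Lib.Helper18.Rigid4

/-!
# Sections of `T ×_S Z` for `Z → S` affine and finite free (any `T`)
-/

set_option autoImplicit false
set_option linter.style.haveILetI false
set_option linter.unusedSectionVars false
set_option linter.unusedVariables false
set_option maxRecDepth 8000

universe u

open CategoryTheory CategoryTheory.Limits AlgebraicGeometry TopologicalSpace TensorProduct

namespace Groth.Agent.Helper14.WeilAff

/-- coordinates in a pushout of commutative rings along a free algebra -/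
theorem pushout_coord {R A' D X : CommRingCat.{u}} (f : R ⟶ A') (g : R ⟶ D) (a : A' ⟶ X)
    (b : D ⟶ X) (H : IsPushout f g a b) {ι : Type u} [Fintype ι]
    (e : letI := f.hom.toAlgebra; Module.Basis ι R A') (x : X) :
    ∃! d : ι → D, x = ∑ k, b.hom (d k) * a.hom (e k) := by
  letI := f.hom.toAlgebra
  letI := g.hom.toAlgebra
  classical
  let E : D ⊗[R] A' ≃+* X :=
    ((CommRingCat.isPushout_tensorProduct R D A').isoIsPushout D A' H.flip).commRingCatIsoToRingEquiv
  have hEl : ∀ d : D, E (d ⊗ₜ 1) = b.hom d := by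
    intro d
    have := (CommRingCat.isPushout_tensorProduct R D A').inl_isoIsPushout_hom D A' H.flip
    exact congrArg (fun φ : D ⟶ X => φ.hom d) this
  have hEr : ∀ a' : A', E (1 ⊗ₜ a') = a.hom a' := by
    intro a'
    have := (CommRingCat.isPushout_tensorProduct R D A').inr_isoIsPushout_hom D A' H.flip
    exact congrArg (fun φ : A' ⟶ X => φ.hom a') this
  have hE : ∀ (d : D) (a' : A'), E (d ⊗ₜ a') = b.hom d * a.hom a' := by
    intro d a'
    have : (d ⊗ₜ[R] a' : D ⊗[R] A') = (d ⊗ₜ 1) * (1 ⊗ₜ a') := by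
      rw [Algebra.TensorProduct.tmul_mul_tmul, mul_one, one_mul]
    rw [this, map_mul, hEl, hEr]
  let 𝔟 : Module.Basis ι D (D ⊗[R] A') := Algebra.TensorProduct.basis D e
  have h𝔟 : ∀ d : ι → D, E (∑ k, d k • 𝔟 k) = ∑ k, b.hom (d k) * a.hom (e k) := by
    intro d
    rw [map_sum]
    refine Finset.sum_congr rfl fun k _ => ?_
    have : d k • 𝔟 k = d k ⊗ₜ[R] e k := by
      rw [Algebra.TensorProduct.basis_apply, TensorProduct.smul_tmul', smul_eq_mul, mul_one]
    rw [this, hE]
  refine ⟨fun k => 𝔟.repr (E.symm x) k, ?_, ?_⟩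
  · show x = _
    rw [← h𝔟, 𝔟.sum_repr, RingEquiv.apply_symm_apply]
  · intro d hd
    rw [← h𝔟] at hd
    have : E.symm x = ∑ k, d k • 𝔟 k := by rw [hd, RingEquiv.symm_apply_apply]
    funext k
    rw [this, 𝔟.repr_sum_self]


section Sections

open Groth.Agent.Helper18.Rigid

theorem le_preimage_top {X Y : Scheme.{u}} (f : X ⟶ Y) (V : X.Opens) : V ≤ f ⁻¹ᵁ ⊤ :=
  fun _ _ => trivial

variable {T S Z : Scheme.{u}} [IsAffine S] [IsAffine Z] (t : T ⟶ S) (g : Z ⟶ S)
  {ι : Type u} [Fintype ι]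
  (e : letI := (g.appTop).hom.toAlgebra; Module.Basis ι Γ(S, ⊤) Γ(Z, ⊤))

/-- the comparison map on opens -/
noncomputable def theta (U : T.Opens) (V : (pullback t g).Opens)
    (hV : V ≤ pullback.fst t g ⁻¹ᵁ U) (d : ι → Γ(T, U)) : Γ(pullback t g, V) :=
  ∑ k, ((pullback.fst t g).appLE U V hV).hom (d k) *
    ((pullback.snd t g).appLE ⊤ V (le_preimage_top _ V)).hom (e k)

theorem theta_res (U U' : T.Opens) (V V' : (pullback t g).Opens)
    (hV : V ≤ pullback.fst t g ⁻¹ᵁ U) (hV' : V' ≤ pullback.fst t g ⁻¹ᵁ U') (hU : U' ≤ U)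
    (hVV : V' ≤ V) (d : ι → Γ(T, U)) :
    ((pullback t g).presheaf.map (homOfLE hVV).op).hom (theta t g e U V hV d) =
      theta t g e U' V' hV' (fun k => (T.presheaf.map (homOfLE hU).op).hom (d k)) := by
  unfold theta
  rw [map_sum]
  refine Finset.sum_congr rfl fun k _ => ?_
  rw [map_mul]
  congr 1
  · have h1 := Scheme.Hom.appLE_map (pullback.fst t g) hV (homOfLE hVV).op
    have h2 := Scheme.Hom.map_appLE (pullback.fst t g) hV' (homOfLE hU).op
    have h1' := congrArg (fun φ => φ.hom (d k)) h1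
    have h2' := congrArg (fun φ => φ.hom (d k)) h2
    exact h1'.trans h2'.symm
  · have h1 := Scheme.Hom.appLE_map (pullback.snd t g) (le_preimage_top _ V) (homOfLE hVV).op
    exact congrArg (fun φ => φ.hom (e k)) h1

theorem theta_affine (U : T.Opens) (hU : IsAffineOpen U)
    (y : Γ(pullback t g, pullback.fst t g ⁻¹ᵁ U)) :
    ∃! d : ι → Γ(T, U), y = theta t g e U (pullback.fst t g ⁻¹ᵁ U) le_rfl d := by
  have H : IsPullback (pullback.snd t g) (pullback.fst t g) g t :=
    (IsPullback.of_hasPullback t g).flip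
  have hUST : U ≤ t ⁻¹ᵁ ⊤ := le_preimage_top t U
  have hUSX : (⊤ : Z.Opens) ≤ g ⁻¹ᵁ ⊤ := le_preimage_top g ⊤
  have hUY : pullback.fst t g ⁻¹ᵁ U =
      pullback.snd t g ⁻¹ᵁ ⊤ ⊓ pullback.fst t g ⁻¹ᵁ U := by
    ext z
    simp
  have hiso := isIso_pushoutSection_of_isAffineOpen H hUST hUSX hUY (isAffineOpen_top S) hU
    (isAffineOpen_top Z)
  have hpo := (isIso_pushoutSection_iff H hUST hUSX hUY).mp hiso
  rw [appLE_top_top g hUSX] at hpo
  exact pushout_coord g.appTop (t.appLE ⊤ U hUST) _ _ hpo e y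

theorem theta_top_existsUnique (x : Γ(pullback t g, ⊤)) :
    ∃! d : ι → Γ(T, ⊤), x = ∑ k, (pullback.fst t g).appTop.hom (d k) *
      (pullback.snd t g).appTop.hom (e k) := by
  -- reformulate with `theta`
  have hform : ∀ d : ι → Γ(T, ⊤), theta t g e ⊤ ⊤ (le_preimage_top _ ⊤) d =
      ∑ k, (pullback.fst t g).appTop.hom (d k) * (pullback.snd t g).appTop.hom (e k) := by
    intro d
    unfold theta
    rw [appLE_top_top, appLE_top_top]
  simp_rw [← hform]
  -- restrictions of `x`
  let xr : ∀ U : T.Opens, Γ(pullback t g, pullback.fst t g ⁻¹ᵁ U) := fun U =>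
    ((pullback t g).presheaf.map (homOfLE le_top).op).hom x
  have hxr : ∀ (U U' : T.Opens) (h : U' ≤ U),
      ((pullback t g).presheaf.map
        (homOfLE ((Opens.map (pullback.fst t g).base).map (homOfLE h)).le).op).hom (xr U) =
        xr U' := by
    intro U U' h
    show ((pullback t g).presheaf.map _).hom (((pullback t g).presheaf.map _).hom x) = _
    rw [← CommRingCat.comp_apply, ← Functor.map_comp]
    rfl
  choose dj hdj hdju using fun j : T.affineOpens => theta_affine t g e j.1 j.2 (xr j.1)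
  -- compatibility with restriction to smaller affine opens
  have hres : ∀ (j W : T.affineOpens) (h : W.1 ≤ j.1) (k : ι),
      (T.presheaf.map (homOfLE h).op).hom (dj j k) = dj W k := by
    intro j W h k
    have h1 : xr W.1 = theta t g e W.1 (pullback.fst t g ⁻¹ᵁ W.1) le_rfl
        (fun k => (T.presheaf.map (homOfLE h).op).hom (dj j k)) := by
      rw [← theta_res t g e j.1 W.1 (pullback.fst t g ⁻¹ᵁ j.1) (pullback.fst t g ⁻¹ᵁ W.1) le_rfl
        le_rfl h ((Opens.map (pullback.fst t g).base).map (homOfLE h)).le (dj j), ← hdj j]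
      exact (hxr j.1 W.1 h).symm
    exact congrFun (hdju W _ h1) k
  have hcovT : ∀ (V : T.Opens) (z : T), z ∈ V → ∃ W : T.affineOpens, z ∈ W.1 ∧ W.1 ≤ V := by
    intro V z hz
    obtain ⟨_, ⟨W, hW, rfl⟩, hzW, hWV⟩ :=
      (T.isBasis_affineOpens).exists_subset_of_mem_open hz V.isOpen
    exact ⟨⟨W, hW⟩, hzW, hWV⟩
  -- glue
  have hglue : ∀ k : ι, ∃ s : Γ(T, ⊤), ∀ j : T.affineOpens,
      (T.presheaf.map (homOfLE (le_top : j.1 ≤ ⊤)).op).hom s = dj j k := by
    intro k
    have hcompat : TopCat.Presheaf.IsCompatible T.presheaf (fun j : T.affineOpens => j.1)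
        (fun j => dj j k) := by
      intro j j'
      let I := {W : T.affineOpens // W.1 ≤ j.1 ⊓ j'.1}
      apply TopCat.Sheaf.eq_of_locally_eq' T.sheaf (fun W : I => W.1.1) (j.1 ⊓ j'.1)
        (fun W => homOfLE W.2)
      · intro z hz
        obtain ⟨W, hzW, hWV⟩ := hcovT (j.1 ⊓ j'.1) z hz
        exact Opens.mem_iSup.mpr ⟨⟨W, hWV⟩, hzW⟩
      · intro W
        have e1 : (T.presheaf.map (homOfLE W.2).op).hom
            ((T.presheaf.map (Opens.infLELeft j.1 j'.1).op).hom (dj j k)) = dj W.1 k := by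
          rw [← CommRingCat.comp_apply, ← Functor.map_comp]
          exact hres j W.1 (W.2.trans inf_le_left) k
        have e2 : (T.presheaf.map (homOfLE W.2).op).hom
            ((T.presheaf.map (Opens.infLERight j.1 j'.1).op).hom (dj j' k)) = dj W.1 k := by
          rw [← CommRingCat.comp_apply, ← Functor.map_comp]
          exact hres j' W.1 (W.2.trans inf_le_right) k
        exact e1.trans e2.symm
    obtain ⟨s, hs, -⟩ := TopCat.Sheaf.existsUnique_gluing' T.sheaf
      (fun j : T.affineOpens => j.1) ⊤ (fun j => homOfLE le_top)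
      (fun z _ => by
        obtain ⟨W, hzW, -⟩ := hcovT ⊤ z trivial
        exact Opens.mem_iSup.mpr ⟨W, hzW⟩) (fun j => dj j k) hcompat
    exact ⟨s, hs⟩
  choose d hd using hglue
  have hcovP : (⊤ : (pullback t g).Opens) ≤
      ⨆ j : T.affineOpens, pullback.fst t g ⁻¹ᵁ j.1 := by
    intro z _
    obtain ⟨W, hzW, -⟩ := hcovT ⊤ ((pullback.fst t g) z) trivial
    exact Opens.mem_iSup.mpr ⟨W, hzW⟩
  refine ⟨d, ?_, ?_⟩
  · show x = theta t g e ⊤ ⊤ _ d
    apply TopCat.Sheaf.eq_of_locally_eq' (pullback t g).sheaf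
      (fun j : T.affineOpens => pullback.fst t g ⁻¹ᵁ j.1) ⊤ (fun j => homOfLE le_top) hcovP
    intro j
    show xr j.1 = ((pullback t g).presheaf.map (homOfLE le_top).op).hom (theta t g e ⊤ ⊤ _ d)
    rw [theta_res t g e ⊤ j.1 ⊤ (pullback.fst t g ⁻¹ᵁ j.1) (le_preimage_top _ ⊤) le_rfl le_top
      le_top d, hdj j]
    congr 1
    funext k
    exact (hd k j).symm
  · intro d' hd'
    have hd'' : x = theta t g e ⊤ ⊤ (le_preimage_top _ ⊤) d' := hd'
    funext k
    apply TopCat.Sheaf.eq_of_locally_eq' T.sheaf (fun j : T.affineOpens => j.1) ⊤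
      (fun j => homOfLE le_top)
      (fun z _ => by
        obtain ⟨W, hzW, -⟩ := hcovT ⊤ z trivial
        exact Opens.mem_iSup.mpr ⟨W, hzW⟩)
    intro j
    show (T.presheaf.map (homOfLE le_top).op).hom (d' k) =
      (T.presheaf.map (homOfLE le_top).op).hom (d k)
    rw [hd k j]
    have h1 : xr j.1 = theta t g e j.1 (pullback.fst t g ⁻¹ᵁ j.1) le_rfl
        (fun k => (T.presheaf.map (homOfLE (le_top : j.1 ≤ ⊤)).op).hom (d' k)) := by
      rw [← theta_res t g e ⊤ j.1 ⊤ (pullback.fst t g ⁻¹ᵁ j.1) (le_preimage_top _ ⊤) le_rfl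
        le_top le_top d', ← hd'']
    exact congrFun (hdju j _ h1) k

end Sections

end Groth.Agent.Helper14.WeilAff
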