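import Mathlib
import Groth.Prelude.Def_Flatn
import Groth.Prelude.Def_Mor2
import Groth.Agent.Lib.Helper14.WeilAff3
import Groth.Agent.Lib.Helper14.MorGlue7

/-!
# `Mor_S(Z, X)` for `Z → S` finite locally free and `X → S` affine: assembly
-/

set_option autoImplicit false
set_option linter.style.haveILetI false
set_option linter.unusedSectionVars false
set_option linter.unusedVariables false
set_option maxRecDepth 8000

universe u
open CategoryTheory CategoryTheory.Limits AlgebraicGeometry Opposite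

namespace Groth.Agent.Helper14.MorGlue

theorem main7194 {Z X S : Scheme.{u}} (g : Z ⟶ S) (f : X ⟶ S) (hg : Mor2.IsFinLocFree g)
    [IsAffineHom f]
    (hS : IsZarSheafW.{u + 1} (Flatn.morS g f))
    (hC : ∀ (U : S.Opens) (W' : Over U.toScheme),
      Nonempty ((Flatn.morS (pullback.fst U.ι g) (pullback.fst U.ι f)).RepresentableBy W') →
      Nonempty (((Over.map U.ι).op ⋙ Flatn.morS g f).RepresentableBy W'))
    (hL : ∀ s : S, ∃ U : S.Opens, IsAffineOpen U ∧ s ∈ U ∧
      letI := ((pullback.fst U.ι g).appTop).hom.toAlgebra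
      Module.Finite Γ(U.toScheme, ⊤) Γ(pullback U.ι g, ⊤) ∧
        Module.Free Γ(U.toScheme, ⊤) Γ(pullback U.ι g, ⊤)) :
    ∃ W : Over S, IsAffineHom W.hom ∧ Nonempty ((Flatn.morS g f).RepresentableBy W) := by
  obtain ⟨hfin, -, -⟩ := hg
  haveI := hfin
  choose U hUaff hsU hfree using hL
  have hchart : ∀ s : S, ∃ c : Chart (Flatn.morS g f) (U s), IsAffineHom c.p := by
    intro s
    haveI : IsAffine (U s).toScheme := hUaff s
    haveI : IsAffine (pullback (U s).ι g) := isAffine_of_isAffineHom (pullback.fst (U s).ι g)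
    haveI : IsAffine (pullback (U s).ι f) := isAffine_of_isAffineHom (pullback.fst (U s).ι f)
    obtain ⟨W', hW', ⟨R'⟩⟩ := Groth.Agent.Helper14.WeilAff.main (pullback.fst (U s).ι g)
      (pullback.fst (U s).ι f) (hfree s)
    obtain ⟨R⟩ := hC (U s) W' ⟨R'⟩
    refine ⟨Chart.ofRepresentableBy R, ?_⟩
    change IsAffineHom W'.hom
    haveI := hW'
    infer_instance
  choose c hc using hchart
  obtain ⟨W, ⟨R⟩⟩ := exists_representableBy hS U (fun s => ⟨s, hsU s⟩) c
  refine ⟨W, ?_, ⟨R⟩⟩
  have R₀ : (Flatn.morS g f).RepresentableBy (Over.mk W.hom) := R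
  exact prop_of_charts @IsAffineHom U (fun s => ⟨s, hsU s⟩) c hc R₀

end Groth.Agent.Helper14.MorGlue
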