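import Mathlib

/-!
# `H¹` of the naive cotangent complex: classes of elements of the kernel (helper14)
-/

set_option autoImplicit false
set_option linter.style.haveILetI false
set_option linter.unusedSectionVars false
set_option linter.unusedVariables false
universe u

namespace Groth.Agent.Helper14.NLImm

open Algebra

section Kap

variable (A B : Type u) [CommRing A] [CommRing B] [Algebra A B]

/-- the standard extension -/
noncomputable abbrev PE : Extension.{u} A B := (Generators.self A B).toExtension

theorem cst_mem_ker (s : A) (hs : algebraMap A B s = 0) :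
    algebraMap A (PE A B).Ring s ∈ (PE A B).ker := by
  change algebraMap A (PE A B).Ring s ∈ RingHom.ker (algebraMap (PE A B).Ring B)
  rw [RingHom.mem_ker, ← IsScalarTower.algebraMap_apply A (PE A B).Ring B, hs]

/-- the class in `H¹(L_{B/A})` of an element of the kernel of `A → B`. -/
noncomputable def kap (s : A) (hs : algebraMap A B s = 0) : Algebra.H1Cotangent A B :=
  ⟨Extension.Cotangent.mk ⟨algebraMap A (PE A B).Ring s, cst_mem_ker A B s hs⟩, by
    rw [LinearMap.mem_ker, Extension.cotangentComplex_mk]
    have : KaehlerDifferential.D A (PE A B).Ring (algebraMap A (PE A B).Ring s) = 0 :=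
      Derivation.map_algebraMap _ _
    change (1 : B) ⊗ₜ[(PE A B).Ring]
      KaehlerDifferential.D A (PE A B).Ring (algebraMap A (PE A B).Ring s) = 0
    rw [this, TensorProduct.tmul_zero]⟩

theorem kap_val (s : A) (hs : algebraMap A B s = 0) :
    (kap A B s hs).1 =
      Extension.Cotangent.mk ⟨algebraMap A (PE A B).Ring s, cst_mem_ker A B s hs⟩ := rfl

theorem kap_congr {s t : A} (h : s = t) (hs : algebraMap A B s = 0) :
    kap A B s hs = kap A B t (h ▸ hs) := by
  subst h; rfl

theorem kap_zero : kap A B 0 (map_zero _) = 0 := by
  apply Extension.h1Cotangentι_ext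
  rw [kap_val]
  have : (⟨algebraMap A (PE A B).Ring 0, cst_mem_ker A B 0 (map_zero _)⟩ : (PE A B).ker) = 0 := by
    apply Subtype.ext
    exact map_zero _
  rw [this, map_zero]
  rfl

theorem kap_add (s t : A) (hs : algebraMap A B s = 0) (ht : algebraMap A B t = 0) :
    kap A B (s + t) (by rw [map_add, hs, ht, add_zero]) = kap A B s hs + kap A B t ht := by
  apply Extension.h1Cotangentι_ext
  rw [Extension.H1Cotangent.val_add, kap_val, kap_val, kap_val]
  have h1 : (⟨algebraMap A (PE A B).Ring (s + t),
      cst_mem_ker A B (s + t) (by rw [map_add, hs, ht, add_zero])⟩ : (PE A B).ker) =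
      ⟨algebraMap A (PE A B).Ring s, cst_mem_ker A B s hs⟩ +
        ⟨algebraMap A (PE A B).Ring t, cst_mem_ker A B t ht⟩ := by
    apply Subtype.ext
    exact map_add _ _ _
  rw [h1, map_add]

theorem kap_smul (a s : A) (hs : algebraMap A B s = 0) :
    kap A B (a * s) (by rw [map_mul, hs, mul_zero]) = algebraMap A B a • kap A B s hs := by
  apply Extension.h1Cotangentι_ext
  rw [Extension.H1Cotangent.val_smul, kap_val, kap_val]
  have h1 : (⟨algebraMap A (PE A B).Ring (a * s),
      cst_mem_ker A B (a * s) (by rw [map_mul, hs, mul_zero])⟩ : (PE A B).ker) =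
      (algebraMap A (PE A B).Ring a) • ⟨algebraMap A (PE A B).Ring s, cst_mem_ker A B s hs⟩ := by
    apply Subtype.ext
    change algebraMap A (PE A B).Ring (a * s) =
      algebraMap A (PE A B).Ring a * algebraMap A (PE A B).Ring s
    exact map_mul _ _ _
  rw [h1, map_smul]
  have h2 : algebraMap A B a = algebraMap (PE A B).Ring B (algebraMap A (PE A B).Ring a) :=
    IsScalarTower.algebraMap_apply A (PE A B).Ring B a
  rw [h2]
  simp only [algebraMap_smul]

end Kap


section Map

variable (R R' S S' : Type u) [CommRing R] [CommRing R'] [CommRing S] [CommRing S']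
  [Algebra R S] [Algebra R' S'] [Algebra R R'] [Algebra S S'] [Algebra R S']
  [IsScalarTower R R' S'] [IsScalarTower R S S']

theorem map_eq_zero_of (s : R) (hs : algebraMap R S s = 0) :
    algebraMap R' S' (algebraMap R R' s) = 0 := by
  rw [← IsScalarTower.algebraMap_apply R R' S', IsScalarTower.algebraMap_apply R S S', hs,
    map_zero]

/-- naturality of the classes. -/
theorem kap_map (s : R) (hs : algebraMap R S s = 0) :
    Algebra.H1Cotangent.map R R' S S' (kap R S s hs) =
      kap R' S' (algebraMap R R' s) (map_eq_zero_of R R' S S' s hs) := by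
  apply Extension.h1Cotangentι_ext
  rw [kap_val]
  change Extension.Cotangent.map _ (kap R S s hs).1 = _
  rw [kap_val, Extension.Cotangent.map_mk]
  congr 1
  apply Subtype.ext
  exact Extension.Hom.toRingHom_algebraMap _ s

end Map


section Surj

variable (A B : Type u) [CommRing A] [CommRing B] [Algebra A B]
  (hsurj : Function.Surjective (algebraMap A B))

/-- the extension `A → B` itself, for a surjective structure map. -/
noncomputable def P0 : Extension.{u} A B where
  Ring := A
  σ x := (hsurj x).choose
  algebraMap_σ x := (hsurj x).choose_spec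

/-- the inclusion of constants as a hom of extensions. -/
noncomputable def h0 : (P0 A B hsurj).Hom (PE A B) where
  toRingHom := algebraMap A (PE A B).Ring
  toRingHom_algebraMap x := rfl
  algebraMap_toRingHom x := by
    change algebraMap (PE A B).Ring B (algebraMap A (PE A B).Ring x) = algebraMap A B x
    rw [← IsScalarTower.algebraMap_apply A (PE A B).Ring B]

instance : Algebra.FormallySmooth A (P0 A B hsurj).Ring :=
  inferInstanceAs (Algebra.FormallySmooth A A)

instance : Algebra.FormallySmooth A (PE A B).Ring :=
  inferInstanceAs (Algebra.FormallySmooth A (MvPolynomial B A))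

theorem map_h0_bijective :
    Function.Bijective (Extension.H1Cotangent.map (h0 A B hsurj)) := by
  have h := Extension.H1Cotangent.equivOfFormallySmooth_toLinearMap (h0 A B hsurj)
  have h2 : ⇑(Extension.H1Cotangent.map (h0 A B hsurj)) =
      ⇑(Extension.H1Cotangent.equivOfFormallySmooth (P0 A B hsurj) (PE A B)) := by
    rw [← h]
    rfl
  rw [h2]
  exact (Extension.H1Cotangent.equivOfFormallySmooth (P0 A B hsurj) (PE A B)).bijective

theorem mk_mem_ker_P0 (x : (P0 A B hsurj).ker) :
    Extension.Cotangent.mk x ∈ LinearMap.ker (P0 A B hsurj).cotangentComplex := by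
  rw [LinearMap.mem_ker, Extension.cotangentComplex_mk]
  have : KaehlerDifferential.D A (P0 A B hsurj).Ring x.1 = 0 := by
    have h1 : x.1 = algebraMap A (P0 A B hsurj).Ring x.1 := rfl
    rw [h1]
    exact Derivation.map_algebraMap _ _
  change (1 : B) ⊗ₜ[(P0 A B hsurj).Ring] KaehlerDifferential.D A (P0 A B hsurj).Ring x.1 = 0
  rw [this, TensorProduct.tmul_zero]

include hsurj in
/-- in the surjective case every class is the class of an element of the kernel. -/
theorem kap_surjective (y : Algebra.H1Cotangent A B) :
    ∃ (s : A) (hs : algebraMap A B s = 0), kap A B s hs = y := by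
  obtain ⟨x, rfl⟩ := (map_h0_bijective A B hsurj).2 y
  obtain ⟨z, hz⟩ := Extension.Cotangent.mk_surjective x.1
  have hz0 : algebraMap A B z.1 = 0 := z.2
  refine ⟨z.1, hz0, ?_⟩
  apply Extension.h1Cotangentι_ext
  rw [kap_val]
  change _ = Extension.Cotangent.map (h0 A B hsurj) x.1
  rw [← hz, Extension.Cotangent.map_mk]
  rfl

include hsurj in
theorem kap_eq_zero_iff (s : A) (hs : algebraMap A B s = 0) :
    kap A B s hs = 0 ↔ s ∈ (RingHom.ker (algebraMap A B)) ^ 2 := by
  let z : (P0 A B hsurj).ker := ⟨s, hs⟩
  let x : (P0 A B hsurj).H1Cotangent := ⟨Extension.Cotangent.mk z, mk_mem_ker_P0 A B hsurj z⟩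
  have hx : Extension.H1Cotangent.map (h0 A B hsurj) x = kap A B s hs := by
    apply Extension.h1Cotangentι_ext
    rw [kap_val]
    change Extension.Cotangent.map (h0 A B hsurj) (Extension.Cotangent.mk z) = _
    rw [Extension.Cotangent.map_mk]
    rfl
  have hiff : kap A B s hs = 0 ↔ x = 0 := by
    rw [← hx]
    constructor
    · intro h
      apply (map_h0_bijective A B hsurj).1
      rw [h, map_zero]
    · intro h
      rw [h, map_zero]
  rw [hiff]
  have h2 : x = 0 ↔ Extension.Cotangent.mk z = 0 := by
    constructor
    · intro h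
      exact congrArg Subtype.val h
    · intro h
      exact Subtype.ext h
  rw [h2, Extension.Cotangent.mk_eq_zero_iff]
  rfl

end Surj


section LA

variable (R R' S : Type u) [CommRing R] [CommRing R'] [CommRing S] [Algebra R R'] [Algebra R S]
  [Algebra R' S] [IsScalarTower R R' S] [Algebra.FormallySmooth R R']

/-- the standard extension of `S` over `R'`, viewed over `R`. -/
noncomputable def P2 : Extension.{u} R S where
  Ring := (PE R' S).Ring
  σ := (PE R' S).σ
  algebraMap_σ := (PE R' S).algebraMap_σ

instance : Algebra.FormallySmooth R (P2 R R' S).Ring := by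
  haveI : Algebra.FormallySmooth R' (PE R' S).Ring :=
    inferInstanceAs (Algebra.FormallySmooth R' (MvPolynomial S R'))
  exact Algebra.FormallySmooth.comp R R' (PE R' S).Ring

/-- the default hom of standard extensions -/
noncomputable def f0 : (PE R S).Hom (PE R' S) :=
  ((Generators.self R S).defaultHom (Generators.self R' S)).toExtensionHom

noncomputable def hh : (PE R S).Hom (P2 R R' S) where
  toRingHom := (f0 R R' S).toRingHom
  toRingHom_algebraMap x := (f0 R R' S).toRingHom_algebraMap x
  algebraMap_toRingHom x := (f0 R R' S).algebraMap_toRingHom x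

noncomputable def gg : (P2 R R' S).Hom (PE R' S) where
  toRingHom := RingHom.id _
  toRingHom_algebraMap x := rfl
  algebraMap_toRingHom x := rfl

theorem cotangent_map_gg_injective :
    Function.Injective (Extension.Cotangent.map (gg R R' S)) := by
  rw [injective_iff_map_eq_zero]
  intro y hy
  obtain ⟨z, rfl⟩ := Extension.Cotangent.mk_surjective y
  rw [Extension.Cotangent.map_mk, Extension.Cotangent.mk_eq_zero_iff] at hy
  rw [Extension.Cotangent.mk_eq_zero_iff]
  exact hy

theorem map_injective_of_formallySmooth :
    Function.Injective (Algebra.H1Cotangent.map R R' S S) := by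
  have h1 : Algebra.H1Cotangent.map R R' S S = Extension.H1Cotangent.map (f0 R R' S) := rfl
  have h2 : Extension.H1Cotangent.map (f0 R R' S) =
      Extension.H1Cotangent.map ((gg R R' S).comp (hh R R' S)) :=
    Extension.H1Cotangent.map_eq _ _
  have hbij : Function.Bijective (Extension.H1Cotangent.map (hh R R' S)) := by
    have h := Extension.H1Cotangent.equivOfFormallySmooth_toLinearMap (hh R R' S)
    have h3 : ⇑(Extension.H1Cotangent.map (hh R R' S)) =
        ⇑(Extension.H1Cotangent.equivOfFormallySmooth (PE R S) (P2 R R' S)) := by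
      rw [← h]
      rfl
    rw [h3]
    exact (Extension.H1Cotangent.equivOfFormallySmooth (PE R S) (P2 R R' S)).bijective
  have hinj : Function.Injective (Extension.H1Cotangent.map (gg R R' S)) := by
    intro x y hxy
    apply Extension.h1Cotangentι_ext
    apply cotangent_map_gg_injective R R' S
    exact congrArg Subtype.val hxy
  rw [h1, h2]
  intro x y hxy
  rw [Extension.H1Cotangent.map_comp_apply, Extension.H1Cotangent.map_comp_apply] at hxy
  exact hbij.1 (hinj hxy)

end LA


section Unr

variable (R R' S : Type u) [CommRing R] [CommRing R'] [CommRing S] [Algebra R R'] [Algebra R S]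
  [Algebra R' S] [IsScalarTower R R' S] [Algebra.FormallyUnramified R R']

theorem map_surjective_of_formallyUnramified :
    Function.Surjective (Algebra.H1Cotangent.map R R' S S) := by
  intro y
  have h := Algebra.H1Cotangent.exact_map_δ R R' S
  have h0 : Algebra.H1Cotangent.δ R R' S y = 0 := Subsingleton.elim _ _
  exact (h y).1 h0

end Unr

section Loc

variable (A A' B B' : Type u) [CommRing A] [CommRing A'] [CommRing B] [CommRing B']
  [Algebra A B] [Algebra A' B'] [Algebra A A'] [Algebra B B'] [Algebra A B']
  [IsScalarTower A A' B'] [IsScalarTower A B B']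

theorem map_eq_comp (x : Algebra.H1Cotangent A B) :
    Algebra.H1Cotangent.map A A' B B' x =
      Algebra.H1Cotangent.map A A' B' B' (Algebra.H1Cotangent.map A A B B' x) := by
  unfold Algebra.H1Cotangent.map
  rw [← Extension.H1Cotangent.map_comp_apply]
  exact congr($(Extension.H1Cotangent.map_eq _ _) x)

theorem isLocalizedModule_map (r : B) [IsLocalization.Away r B'] [Algebra.FormallyEtale A A'] :
    IsLocalizedModule (Submonoid.powers r) (Algebra.H1Cotangent.map A A' B B') := by
  have hε : Function.Bijective (Algebra.H1Cotangent.map A A' B' B') :=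
    ⟨map_injective_of_formallySmooth A A' B', map_surjective_of_formallyUnramified A A' B'⟩
  let εB : Algebra.H1Cotangent A B' →ₗ[B] Algebra.H1Cotangent A' B' :=
    (Algebra.H1Cotangent.map A A' B' B').restrictScalars B
  have h1 : Algebra.H1Cotangent.map A A' B B' = εB ∘ₗ Algebra.H1Cotangent.map A A B B' :=
    LinearMap.ext (map_eq_comp A A' B B')
  rw [h1]
  haveI : IsLocalizedModule (Submonoid.powers r) (Algebra.H1Cotangent.map A A B B') :=
    Algebra.H1Cotangent.isLocalizedModule (R := A) (S := B) (T := B') (Submonoid.powers r)
  exact (IsLocalizedModule.comp_iff_of_bijective_left (Submonoid.powers r) εB hε).2 this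

end Loc

end Groth.Agent.Helper14.NLImm
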