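import Mathlib
import Groth.Agent.Lib.Helper14.NLImm1
import Groth.Agent.Lib.Helper14.CnH1E
import Groth.Agent.Lib.Helper18.RecPull

/-!
# `H¹(NL)` of an immersion: the comparison map on a chart (helper14)
-/

set_option autoImplicit false
set_option linter.style.haveILetI false
set_option linter.unusedSectionVars false
set_option linter.unusedVariables false
set_option maxRecDepth 8000
universe u
open CategoryTheory CategoryTheory.Limits AlgebraicGeometry TopologicalSpace Opposite TensorProduct

namespace Groth.Agent.Helper14.NLImm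

open OmegaSh Groth.Agent.Helper18.ConormalImm Groth.Agent.Helper18.CnSeq
  Groth.Agent.Helper18.NrmSeq Groth.Agent.Helper18.Rec Groth.Agent.Helper13.EffCartier
  Groth.Agent.Helper13.Pullback

variable {Z X : Scheme.{u}} (i : Z ⟶ X) [IsImmersion i] [QuasiCompact i]

instance qcIdeal : (ClSub.idealMod i.ker).IsQuasicoherent :=
  (SheafOfModules.isQuasicoherent X.ringCatSheaf).prop_of_iso (idealModIso i.ker).symm
    inferInstance

section Chart

variable {U : Z.Opens} {V : X.Opens} (e : U ≤ i ⁻¹ᵁ V)

/-- algebra structure of a chart -/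
@[reducible] noncomputable def chartAlg : Algebra Γ(X, V) Γ(Z, U) := (i.appLE V U e).hom.toAlgebra

theorem appLE_idealSect (s : Γ(ClSub.idealMod i.ker, V)) :
    i.appLE V U e (ιlin i V s) = 0 := by
  have h1 : i.appLE V U e = i.app V ≫ Z.presheaf.map (homOfLE e).op := rfl
  rw [h1, CommRingCat.comp_apply]
  have h2 : i.app V (ιlin i V s) = 0 := Groth.Agent.Helper18.RecCS.app_idealSect i V s
  rw [h2, map_zero]

/-- the classes of the sections of the ideal over `V`, in `H¹` of the chart. -/
noncomputable def kapLin :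
    letI := chartAlg i e
    Γ(ClSub.idealMod i.ker, V) →ₗ[Γ(X, V)] Algebra.H1Cotangent Γ(X, V) Γ(Z, U) :=
  letI := chartAlg i e
  { toFun := fun s => kap Γ(X, V) Γ(Z, U) (ιlin i V s) (appLE_idealSect i e s)
    map_add' := fun s t => by
      rw [kap_congr Γ(X, V) Γ(Z, U) (map_add (ιlin i V) s t)]
      exact kap_add Γ(X, V) Γ(Z, U) _ _ _ _
    map_smul' := fun a s => by
      have h1 : ιlin i V (a • s) = a * ιlin i V s := by rw [map_smul, smul_eq_mul]
      rw [kap_congr Γ(X, V) Γ(Z, U) h1]
      have h2 := kap_smul Γ(X, V) Γ(Z, U) a (ιlin i V s) (appLE_idealSect i e s)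
      rw [RingHom.id_apply]
      refine h2.trans ?_
      exact algebraMap_smul Γ(Z, U) a _ }

theorem kapLin_apply (s : Γ(ClSub.idealMod i.ker, V)) :
    letI := chartAlg i e
    kapLin i e s = kap Γ(X, V) Γ(Z, U) (ιlin i V s) (appLE_idealSect i e s) := rfl

variable (hU : IsAffineOpen U) (hV : IsAffineOpen V)

/-- the comparison map from the sections of the conormal sheaf to `H¹` of the chart. -/
noncomputable def cmap :
    letI := chartAlg i e
    Γ(Omega.conormal i, U) →ₗ[Γ(Z, U)] Algebra.H1Cotangent Γ(X, V) Γ(Z, U) :=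
  letI := chartAlg i e
  (LinearMap.liftBaseChange Γ(Z, U) (kapLin i e)) ∘ₗ
    (sectionsPullbackEquiv i (ClSub.idealMod i.ker) hU hV e).toLinearMap

theorem cmap_pullRes (s : Γ(ClSub.idealMod i.ker, V)) :
    letI := chartAlg i e
    cmap i e hU hV (pullRes i (ClSub.idealMod i.ker) e s) =
      kap Γ(X, V) Γ(Z, U) (ιlin i V s) (appLE_idealSect i e s) := by
  letI := chartAlg i e
  change (LinearMap.liftBaseChange Γ(Z, U) (kapLin i e))
    (sectionsPullbackEquiv i (ClSub.idealMod i.ker) hU hV e
      (pullRes i (ClSub.idealMod i.ker) e s)) = _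
  rw [sectionsPullbackEquiv_pullRes, LinearMap.liftBaseChange_tmul, one_smul]
  rfl

end Chart

end Groth.Agent.Helper14.NLImm
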