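import Mathlib
import Groth.Agent.Lib.Helper14.NLImm2
import Groth.Agent.Lib.Helper18.CnDiff
import Groth.Prelude.Def_SheafNL

/-!
# `H¹(NL)` of an immersion: naturality of the comparison map (helper14)
-/

set_option autoImplicit false
set_option linter.style.haveILetI false
set_option linter.unusedSectionVars false
set_option linter.unusedVariables false
set_option maxRecDepth 8000
universe u
open CategoryTheory CategoryTheory.Limits AlgebraicGeometry TopologicalSpace Opposite TensorProduct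

namespace Groth.Agent.Helper14.NLImm

open OmegaSh Groth.Agent.Helper18.ConormalImm Groth.Agent.Helper18.CnSeq
  Groth.Agent.Helper18.NrmSeq Groth.Agent.Helper18.Rec Groth.Agent.Helper13.EffCartier
  Groth.Agent.Helper13.Pullback Groth.Agent.Helper18.CnDiff

variable {Z X : Scheme.{u}} (i : Z ⟶ X) [IsImmersion i] [QuasiCompact i]

section Nat

variable {U U' : Z.Opens} {V V' : X.Opens} (e : U ≤ i ⁻¹ᵁ V) (e' : U' ≤ i ⁻¹ᵁ V')
  (hUU : U' ≤ U) (hVV : V' ≤ V)

omit [IsImmersion i] [QuasiCompact i] in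
theorem pullRes_res (G : X.Modules) (s : Γ(G, V)) :
    ((Scheme.Modules.pullback i).obj G).presheaf.map (homOfLE hUU).op (pullRes i G e s) =
      pullRes i G e' (G.presheaf.map (homOfLE hVV).op s) := by
  unfold pullRes
  rw [Groth.Agent.Helper18.CnDiff.pullSect_map]
  simp only [← ConcreteCategory.comp_apply]
  rw [Category.assoc, Category.assoc, ← Functor.map_comp, ← Functor.map_comp]
  rfl

omit [IsImmersion i] [QuasiCompact i] in
theorem ιlin_res (s : Γ(ClSub.idealMod i.ker, V)) :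
    ιlin i V' ((ClSub.idealMod i.ker).presheaf.map (homOfLE hVV).op s) =
      X.presheaf.map (homOfLE hVV).op (ιlin i V s) :=
  idealSect_map i.ker hVV s

variable (hU : IsAffineOpen U) (hU' : IsAffineOpen U') (hV : IsAffineOpen V)
  (hV' : IsAffineOpen V')

include hUU in
theorem appLE_res_eq_zero (s : Γ(X, V)) (hs : i.appLE V U e s = 0) :
    i.appLE V' U' e' (X.presheaf.map (homOfLE hVV).op s) = 0 := by
  have h1 : X.presheaf.map (homOfLE hVV).op ≫ i.appLE V' U' e' =
      i.appLE V U e ≫ Z.presheaf.map (homOfLE hUU).op := by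
    rw [Scheme.Hom.map_appLE, Scheme.Hom.appLE_map]
  have h2 := congr($h1 s)
  rw [CommRingCat.comp_apply, CommRingCat.comp_apply, hs, map_zero] at h2
  exact h2

/-- the restriction maps of `H¹` on the classes -/
theorem chartRes_kap (s : Γ(X, V)) (hs : i.appLE V U e s = 0) :
    NLCx.chartRes (f := i) (U := ⟨U, hU⟩) (U' := ⟨U', hU'⟩) (V := ⟨V, hV⟩) (V' := ⟨V', hV'⟩)
      e e' hUU hVV (@kap Γ(X, V) Γ(Z, U) _ _ (chartAlg i e) s hs) =
      @kap Γ(X, V') Γ(Z, U') _ _ (chartAlg i e') (X.presheaf.map (homOfLE hVV).op s)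
        (appLE_res_eq_zero i e e' hUU hVV s hs) := by
  letI a1 : Algebra Γ(X, V) Γ(Z, U) := (i.appLE V U e).hom.toAlgebra
  letI a2 : Algebra Γ(X, V') Γ(Z, U') := (i.appLE V' U' e').hom.toAlgebra
  letI a3 : Algebra Γ(X, V) Γ(Z, U') := (i.appLE V U' (hUU.trans e)).hom.toAlgebra
  letI a4 : Algebra Γ(Z, U) Γ(Z, U') := (Z.presheaf.map (homOfLE hUU).op).hom.toAlgebra
  letI a5 : Algebra Γ(X, V) Γ(X, V') := (X.presheaf.map (homOfLE hVV).op).hom.toAlgebra
  haveI t1 : IsScalarTower Γ(X, V) Γ(X, V') Γ(Z, U') :=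
    IsScalarTower.of_algebraMap_eq' (by
      change (i.appLE _ _ _).hom = (i.appLE _ _ _).hom.comp (X.presheaf.map _).hom
      rw [← CommRingCat.hom_comp, Scheme.Hom.map_appLE])
  haveI t2 : IsScalarTower Γ(X, V) Γ(Z, U) Γ(Z, U') :=
    IsScalarTower.of_algebraMap_eq' (by
      change (i.appLE _ _ _).hom = (Z.presheaf.map _).hom.comp (i.appLE _ _ _).hom
      rw [← CommRingCat.hom_comp, Scheme.Hom.appLE_map])
  exact kap_map Γ(X, V) Γ(X, V') Γ(Z, U) Γ(Z, U') s hs

/-- semilinearity of the restriction maps of `H¹` -/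
theorem chartRes_smul (b : Γ(Z, U))
    (x : @Algebra.H1Cotangent Γ(X, V) Γ(Z, U) _ _ (chartAlg i e)) :
    NLCx.chartRes (f := i) (U := ⟨U, hU⟩) (U' := ⟨U', hU'⟩) (V := ⟨V, hV⟩) (V' := ⟨V', hV'⟩)
      e e' hUU hVV (b • x) =
      (Z.presheaf.map (homOfLE hUU).op b) •
        NLCx.chartRes (f := i) (U := ⟨U, hU⟩) (U' := ⟨U', hU'⟩) (V := ⟨V, hV⟩) (V' := ⟨V', hV'⟩)
          e e' hUU hVV x := by
  letI a1 : Algebra Γ(X, V) Γ(Z, U) := (i.appLE V U e).hom.toAlgebra
  letI a2 : Algebra Γ(X, V') Γ(Z, U') := (i.appLE V' U' e').hom.toAlgebra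
  letI a3 : Algebra Γ(X, V) Γ(Z, U') := (i.appLE V U' (hUU.trans e)).hom.toAlgebra
  letI a4 : Algebra Γ(Z, U) Γ(Z, U') := (Z.presheaf.map (homOfLE hUU).op).hom.toAlgebra
  letI a5 : Algebra Γ(X, V) Γ(X, V') := (X.presheaf.map (homOfLE hVV).op).hom.toAlgebra
  haveI t1 : IsScalarTower Γ(X, V) Γ(X, V') Γ(Z, U') :=
    IsScalarTower.of_algebraMap_eq' (by
      change (i.appLE _ _ _).hom = (i.appLE _ _ _).hom.comp (X.presheaf.map _).hom
      rw [← CommRingCat.hom_comp, Scheme.Hom.map_appLE])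
  haveI t2 : IsScalarTower Γ(X, V) Γ(Z, U) Γ(Z, U') :=
    IsScalarTower.of_algebraMap_eq' (by
      change (i.appLE _ _ _).hom = (Z.presheaf.map _).hom.comp (i.appLE _ _ _).hom
      rw [← CommRingCat.hom_comp, Scheme.Hom.appLE_map])
  have h1 := (Algebra.H1Cotangent.map Γ(X, V) Γ(X, V') Γ(Z, U) Γ(Z, U')).map_smul b x
  refine h1.trans ?_
  exact (algebraMap_smul Γ(Z, U') b _).symm

/-- naturality of the comparison map. -/
theorem cmap_res (m : Γ(Omega.conormal i, U)) :
    cmap i e' hU' hV' ((Omega.conormal i).presheaf.map (homOfLE hUU).op m) =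
      NLCx.chartRes (f := i) (U := ⟨U, hU⟩) (U' := ⟨U', hU'⟩) (V := ⟨V, hV⟩) (V' := ⟨V', hV'⟩)
        e e' hUU hVV (cmap i e hU hV m) := by
  have hspan := span_pullRes i (ClSub.idealMod i.ker) hU hV e Set.univ (by simp)
  have hm : m ∈ Submodule.span Γ(Z, U)
      ((fun t => pullRes i (ClSub.idealMod i.ker) e t) '' Set.univ) := by
    rw [hspan]; trivial
  induction hm using Submodule.span_induction with
  | mem x hx =>
    obtain ⟨s, -, rfl⟩ := hx
    change cmap i e' hU' hV' (((Scheme.Modules.pullback i).obj (ClSub.idealMod i.ker)).presheaf.map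
      (homOfLE hUU).op (pullRes i (ClSub.idealMod i.ker) e s)) = _
    rw [pullRes_res i e e' hUU hVV, cmap_pullRes, cmap_pullRes, chartRes_kap]
    exact (@kap_congr _ _ _ _ (chartAlg i e') _ _ (ιlin_res i hVV s) _)
  | zero => rw [map_zero, map_zero, map_zero, map_zero]
  | add x y _ _ hx hy =>
    rw [map_add, map_add, map_add, hx, hy]
    exact (map_add _ _ _).symm
  | smul b x _ hx =>
    have h1 := Scheme.Modules.map_smul (Omega.conormal i) (homOfLE hUU) b x
    have h2 : cmap i e' hU' hV' ((Omega.conormal i).presheaf.map (homOfLE hUU).op (b • x)) =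
        (Z.presheaf.map (homOfLE hUU).op b) •
          cmap i e' hU' hV' ((Omega.conormal i).presheaf.map (homOfLE hUU).op x) := by
      rw [h1, map_smul]
    have h3 : cmap i e hU hV (b • x) = b • cmap i e hU hV x := map_smul _ _ _
    refine h2.trans ?_
    rw [hx]
    refine Eq.trans ?_ (congrArg _ h3.symm)
    exact (chartRes_smul i e e' hUU hVV hU hU' hV hV' b _).symm

end Nat

end Groth.Agent.Helper14.NLImm
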