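import Mathlib
import Groth.Agent.Lib.Helper14.NLImm3
import Groth.Agent.Lib.Helper18.NrmSeq

/-!
# `H¹(NL)` of an immersion: the comparison map is bijective on good charts (helper14)
-/

set_option autoImplicit false
set_option linter.style.haveILetI false
set_option linter.unusedSectionVars false
set_option linter.unusedVariables false
set_option maxRecDepth 8000
universe u
open CategoryTheory CategoryTheory.Limits AlgebraicGeometry TopologicalSpace Opposite TensorProduct

namespace Groth.Agent.Helper14.NLImm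

open OmegaSh Groth.Agent.Helper18.ConormalImm Groth.Agent.Helper18.CnSeq
  Groth.Agent.Helper18.NrmSeq Groth.Agent.Helper18.Rec Groth.Agent.Helper13.EffCartier
  Groth.Agent.Helper13.Pullback Groth.Agent.Helper18.CnDiff

variable {Z X : Scheme.{u}} (i : Z ⟶ X) [IsImmersion i] [QuasiCompact i]

section Good

variable {V : X.Opens} (hV : IsAffineOpen V) (hle : V ≤ i.coborderRange)

theorem cmap_bijective_good :
    Function.Bijective (cmap i (le_refl (i ⁻¹ᵁ V)) (isAffineOpen_preimage i hV hle) hV) := by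
  have hT : IsAffineOpen (i ⁻¹ᵁ V) := isAffineOpen_preimage i hV hle
  letI alg : Algebra Γ(X, V) Γ(Z, i ⁻¹ᵁ V) := chartAlg i (le_refl (i ⁻¹ᵁ V))
  have halg : ∀ b : Γ(X, V), algebraMap Γ(X, V) Γ(Z, i ⁻¹ᵁ V) b = i.app V b := fun b => by
    change i.appLE V (i ⁻¹ᵁ V) le_rfl b = _
    rw [Scheme.Hom.appLE_eq_app]
  have hsurj : Function.Surjective (algebraMap Γ(X, V) Γ(Z, i ⁻¹ᵁ V)) := by
    intro c
    obtain ⟨b, hb⟩ := app_surjective i hV hle c
    exact ⟨b, (halg b).trans hb⟩
  have hker : RingHom.ker (algebraMap Γ(X, V) Γ(Z, i ⁻¹ᵁ V)) = RingHom.ker (i.app V).hom := by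
    ext b
    rw [RingHom.mem_ker, RingHom.mem_ker, halg]
  constructor
  · rw [injective_iff_map_eq_zero]
    intro m hm
    obtain ⟨s, rfl⟩ := exists_conormalSect_eq i hV hle m
    have h1 : conormalSect i V s = pullRes i (ClSub.idealMod i.ker) (le_refl (i ⁻¹ᵁ V)) s :=
      (pullRes_refl i (ClSub.idealMod i.ker) s).symm
    rw [h1, cmap_pullRes] at hm
    rw [kap_eq_zero_iff _ _ hsurj, hker] at hm
    exact conormalSect_eq_zero_of_sq i hV s hm
  · intro y
    obtain ⟨a, ha, rfl⟩ := kap_surjective _ _ hsurj y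
    have ha' : a ∈ RingHom.ker (i.app V).hom := by
      rw [← hker]; exact ha
    rw [← Groth.Agent.Helper18.CnSeq.map_ιlin_top i hV] at ha'
    obtain ⟨s, -, hs⟩ := ha'
    refine ⟨pullRes i (ClSub.idealMod i.ker) (le_refl (i ⁻¹ᵁ V)) s, ?_⟩
    rw [cmap_pullRes]
    exact kap_congr _ _ hs _

include hle in
theorem cmap_bijective_of_eq {U : Z.Opens} (hU : IsAffineOpen U) (h : U = i ⁻¹ᵁ V)
    (e : U ≤ i ⁻¹ᵁ V) : Function.Bijective (cmap i e hU hV) := by
  subst h
  exact cmap_bijective_good i hV hle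

end Good

end Groth.Agent.Helper14.NLImm
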