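import Mathlib

/-!
# a local criterion of bijectivity (helper14)
-/

set_option autoImplicit false
set_option linter.style.haveILetI false
set_option linter.unusedSectionVars false
set_option linter.unusedVariables false
universe u

namespace Groth.Agent.Helper14.NLImm

theorem bijective_of_local {B M N : Type u} [CommRing B] [AddCommGroup M] [Module B M]
    [AddCommGroup N] [Module B N] (F : M →ₗ[B] N) (s : Set B) (spn : Ideal.span s = ⊤)
    (H : ∀ r : s, ∃ (Mr Nr : Type u) (_ : AddCommGroup Mr) (_ : Module B Mr)
      (_ : AddCommGroup Nr) (_ : Module B Nr) (f : M →ₗ[B] Mr) (g : N →ₗ[B] Nr)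
      (_ : IsLocalizedModule (Submonoid.powers r.1) f)
      (_ : IsLocalizedModule (Submonoid.powers r.1) g)
      (Fr : Mr →ₗ[B] Nr), Function.Bijective Fr ∧ ∀ m, Fr (f m) = g (F m)) :
    Function.Bijective F := by
  choose Mr Nr iM1 iM2 iN1 iN2 f g hf hg Fr hFr hcomm using H
  refine bijective_of_isLocalized_span s spn Mr f Nr g F (fun r => ?_)
  have h1 : IsLocalizedModule.map (Submonoid.powers r.1) (f r) (g r) F = Fr r := by
    apply IsLocalizedModule.linearMap_ext (Submonoid.powers r.1) (f r) (g r)
    ext m
    rw [LinearMap.comp_apply, LinearMap.comp_apply, IsLocalizedModule.map_apply, hcomm]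
  rw [h1]
  exact hFr r

end Groth.Agent.Helper14.NLImm
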