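import Mathlib
import Groth.Agent.Lib.Helper14.NLImm4
import Groth.Agent.Lib.Helper14.NLImm5
import Groth.Agent.Lib.Helper13.QCohLoc

/-!
# `H¹(NL)` of an immersion: the comparison map is bijective on all charts (helper14)
-/

set_option autoImplicit false
set_option linter.style.haveILetI false
set_option linter.unusedSectionVars false
set_option linter.unusedVariables false
set_option maxRecDepth 8000
universe u
open CategoryTheory CategoryTheory.Limits AlgebraicGeometry TopologicalSpace Opposite TensorProduct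

namespace Groth.Agent.Helper14.NLImm

open OmegaSh Groth.Agent.Helper18.ConormalImm Groth.Agent.Helper18.CnSeq
  Groth.Agent.Helper18.NrmSeq Groth.Agent.Helper18.Rec Groth.Agent.Helper13.EffCartier
  Groth.Agent.Helper13.Pullback Groth.Agent.Helper18.CnDiff Groth.Agent.Helper13.QCohLoc

variable {Z X : Scheme.{u}} (i : Z ⟶ X) [IsImmersion i] [QuasiCompact i]

section General

variable {U : Z.Opens} {V : X.Opens} (e : U ≤ i ⁻¹ᵁ V)

/-- the functions on `U` coming from functions on `V` whose nonvanishing locus is a good chart. -/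
def goodSet : Set Γ(Z, U) :=
  {r | ∃ a : Γ(X, V), i.appLE V U e a = r ∧ X.basicOpen a ≤ i.coborderRange ∧
    i ⁻¹ᵁ X.basicOpen a ≤ U}

variable (hU : IsAffineOpen U) (hV : IsAffineOpen V)

include hU hV in
theorem span_goodSet : Ideal.span (goodSet i e) = ⊤ := by
  rw [← hU.self_le_iSup_basicOpen_iff]
  intro z hz
  -- `U` is the preimage of an open `W`
  have hemb : Topology.IsEmbedding i := i.isEmbedding
  obtain ⟨W, hW, hWU⟩ := (hemb.isInducing.isOpen_iff).1 U.2
  let W' : X.Opens := (⟨W, hW⟩ ⊓ V) ⊓ i.coborderRange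
  have hzV : i z ∈ V := e hz
  have hzW : i z ∈ W := by
    have : z ∈ i ⁻¹' W := by rw [hWU]; exact hz
    exact this
  have hzC : i z ∈ i.coborderRange := subset_coborder ⟨z, rfl⟩
  have hzW' : i z ∈ W' := ⟨⟨hzW, hzV⟩, hzC⟩
  obtain ⟨a, ha1, ha2⟩ := hV.exists_basicOpen_le (V := W') ⟨i z, hzW'⟩ hzV
  have hr : i.appLE V U e a ∈ goodSet i e := by
    refine ⟨a, rfl, ha1.trans inf_le_right, ?_⟩
    intro y hy
    have h1 : i y ∈ W := (ha1 hy).1.1
    have : y ∈ i ⁻¹' W := h1
    rw [hWU] at this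
    exact this
  have hzr : z ∈ Z.basicOpen (i.appLE V U e a) := by
    rw [Scheme.basicOpen_appLE]
    exact ⟨hz, ha2⟩
  exact (le_iSup (fun f : goodSet i e => Z.basicOpen f.1) ⟨_, hr⟩) hzr

include hU hV in
/-- the comparison map is bijective on every chart. -/
theorem cmap_bijective : Function.Bijective (cmap i e hU hV) := by
  letI algAB : Algebra Γ(X, V) Γ(Z, U) := chartAlg i e
  refine bijective_of_local (cmap i e hU hV) (goodSet i e) (span_goodSet i e hU hV) ?_
  rintro ⟨r, a, har, hac, haU⟩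
  have hUr : IsAffineOpen (Z.basicOpen r) := hU.basicOpen r
  have hVa : IsAffineOpen (X.basicOpen a) := hV.basicOpen a
  have hpre : Z.basicOpen r = i ⁻¹ᵁ X.basicOpen a := by
    rw [← har, Scheme.basicOpen_appLE]
    exact inf_eq_right.2 haU
  have er : Z.basicOpen r ≤ i ⁻¹ᵁ X.basicOpen a := hpre.le
  letI algA'B' : Algebra Γ(X, X.basicOpen a) Γ(Z, Z.basicOpen r) := chartAlg i er
  letI algAB' : Algebra Γ(X, V) Γ(Z, Z.basicOpen r) :=
    (i.appLE V (Z.basicOpen r) ((Z.basicOpen_le r).trans e)).hom.toAlgebra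
  haveI t1 : IsScalarTower Γ(X, V) Γ(X, X.basicOpen a) Γ(Z, Z.basicOpen r) :=
    IsScalarTower.of_algebraMap_eq' (by
      change (i.appLE _ _ _).hom = (i.appLE _ _ _).hom.comp (X.presheaf.map _).hom
      rw [← CommRingCat.hom_comp, Scheme.Hom.map_appLE])
  haveI t2 : IsScalarTower Γ(X, V) Γ(Z, U) Γ(Z, Z.basicOpen r) :=
    IsScalarTower.of_algebraMap_eq' (by
      change (i.appLE _ _ _).hom = (Z.presheaf.map _).hom.comp (i.appLE _ _ _).hom
      rw [← CommRingCat.hom_comp, Scheme.Hom.appLE_map])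
  haveI locB : IsLocalization.Away r Γ(Z, Z.basicOpen r) := hU.isLocalization_basicOpen r
  haveI locA : IsLocalization.Away a Γ(X, X.basicOpen a) := hV.isLocalization_basicOpen a
  haveI etA : Algebra.FormallyEtale Γ(X, V) Γ(X, X.basicOpen a) :=
    Algebra.FormallyEtale.of_isLocalization (Submonoid.powers a)
  haveI qc := isQuasicoherent_conormal i
  letI modM := modBasicOpen (Omega.conormal i) r
  let Fr : Γ(Omega.conormal i, Z.basicOpen r) →ₗ[Γ(Z, U)]
      Algebra.H1Cotangent Γ(X, X.basicOpen a) Γ(Z, Z.basicOpen r) :=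
    { toFun := cmap i er hUr hVa
      map_add' := map_add _
      map_smul' := fun b m => by
        change cmap i er hUr hVa (algebraMap Γ(Z, U) Γ(Z, Z.basicOpen r) b • m) =
          b • cmap i er hUr hVa m
        rw [map_smul]
        exact algebraMap_smul _ _ _ }
  refine ⟨Γ(Omega.conormal i, Z.basicOpen r),
    Algebra.H1Cotangent Γ(X, X.basicOpen a) Γ(Z, Z.basicOpen r), inferInstance, modM,
    inferInstance, inferInstance, resBasicOpen (Omega.conormal i) r,
    Algebra.H1Cotangent.map Γ(X, V) Γ(X, X.basicOpen a) Γ(Z, U) Γ(Z, Z.basicOpen r),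
    isLocalizedModule_basicOpen (Omega.conormal i) hU r,
    isLocalizedModule_map _ _ _ _ r, Fr, ?_, ?_⟩
  · exact cmap_bijective_of_eq i hVa hac hUr hpre er
  · intro m
    exact cmap_res i e er (Z.basicOpen_le r) (X.basicOpen_le a) hU hUr hV hVa m

end General

end Groth.Agent.Helper14.NLImm
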