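import Mathlib
import Groth.Agent.Lib.Helper14.NLImm6

/-!
# `H¹(NL)` of an immersion is the conormal sheaf (helper14)
-/

set_option autoImplicit false
set_option linter.style.haveILetI false
set_option linter.unusedSectionVars false
set_option linter.unusedVariables false
set_option maxRecDepth 8000
universe u
open CategoryTheory CategoryTheory.Limits AlgebraicGeometry TopologicalSpace Opposite TensorProduct

namespace Groth.Agent.Helper14.NLImm

variable {Z X : Scheme.{u}} (i : Z ⟶ X) [IsImmersion i] [QuasiCompact i]

/-- the conormal sheaf of a quasi-compact immersion is `H⁻¹(NL)`. -/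
noncomputable def h1Sheaf : NLCx.H1Sheaf i (Omega.conormal i) where
  iso U V e := AddEquiv.ofBijective (cmap i e U.2 V.2).toAddMonoidHom (cmap_bijective i e U.2 V.2)
  map_smul U V e a m := (cmap i e U.2 V.2).map_smul a m
  map_res {U U' V V'} e e' hU hV m := cmap_res i e e' hU hV U.2 U'.2 V.2 V'.2 m

omit [QuasiCompact i] in
theorem kaehler_subsingleton :
    NLCx.OnCharts i (fun A B _ _ _ => Subsingleton (Ω[B⁄A])) := by
  intro U V e
  letI := (i.appLE V.1 U.1 e).hom.toAlgebra
  haveI : Mono i := inferInstance
  haveI : IsIso (pullback.diagonal i) := inferInstance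
  haveI : FormallyUnramified i := inferInstance
  have h1 : (i.appLE V.1 U.1 e).hom.FormallyUnramified :=
    HasRingHomProperty.appLE @FormallyUnramified i inferInstance V U e
  haveI : Algebra.FormallyUnramified Γ(X, V.1) Γ(Z, U.1) := h1
  change Subsingleton (Ω[Γ(Z, U.1)⁄Γ(X, V.1)])
  infer_instance

end Groth.Agent.Helper14.NLImm
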