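import Mathlib
import Groth.Agent.Lib.Helper14.NLImm1

/-!
# `H¹` of the naive cotangent complex: functoriality, localization, gluing (helper14)
-/

set_option autoImplicit false
set_option linter.style.haveILetI false
set_option linter.unusedSectionVars false
set_option linter.unusedVariables false
universe u

open Algebra

namespace Groth.Agent.Helper14.NLSh

open Groth.Agent.Helper14.NLImm

section Functoriality

variable (R R' R'' S S' S'' : Type u) [CommRing R] [CommRing R'] [CommRing R''] [CommRing S]
  [CommRing S'] [CommRing S'']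
  [Algebra R S] [Algebra R' S'] [Algebra R'' S'']
  [Algebra R R'] [Algebra S S'] [Algebra R S'] [IsScalarTower R R' S'] [IsScalarTower R S S']
  [Algebra R R''] [Algebra S S''] [Algebra R S''] [IsScalarTower R R'' S'']
  [IsScalarTower R S S'']
  [Algebra R' R''] [Algebra S' S''] [Algebra R' S''] [IsScalarTower R' R'' S'']
  [IsScalarTower R' S' S'']
  [IsScalarTower R R' R''] [IsScalarTower S S' S'']

theorem map_map (x : Algebra.H1Cotangent R S) :
    Algebra.H1Cotangent.map R' R'' S' S'' (Algebra.H1Cotangent.map R R' S S' x) =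
      Algebra.H1Cotangent.map R R'' S S'' x := by
  unfold Algebra.H1Cotangent.map
  rw [← Extension.H1Cotangent.map_comp_apply]
  exact congr($(Extension.H1Cotangent.map_eq _ _) x)

end Functoriality

section Loc

variable (A A' B B' : Type u) [CommRing A] [CommRing A'] [CommRing B] [CommRing B']
  [Algebra A B] [Algebra A' B'] [Algebra A A'] [Algebra B B'] [Algebra A B']
  [IsScalarTower A A' B'] [IsScalarTower A B B']

theorem isLocalizedModule_map' (M : Submonoid B) [IsLocalization M B']
    [Algebra.FormallyEtale A A'] :
    IsLocalizedModule M (Algebra.H1Cotangent.map A A' B B') := by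
  have hε : Function.Bijective (Algebra.H1Cotangent.map A A' B' B') :=
    ⟨map_injective_of_formallySmooth A A' B', map_surjective_of_formallyUnramified A A' B'⟩
  let εB : Algebra.H1Cotangent A B' →ₗ[B] Algebra.H1Cotangent A' B' :=
    (Algebra.H1Cotangent.map A A' B' B').restrictScalars B
  have h1 : Algebra.H1Cotangent.map A A' B B' = εB ∘ₗ Algebra.H1Cotangent.map A A B B' :=
    LinearMap.ext (map_eq_comp A A' B B')
  rw [h1]
  haveI : IsLocalizedModule M (Algebra.H1Cotangent.map A A B B') :=
    Algebra.H1Cotangent.isLocalizedModule (R := A) (S := B) (T := B') M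
  exact (IsLocalizedModule.comp_iff_of_bijective_left M εB hε).2 this

end Loc

section Et

variable (R R' S : Type u) [CommRing R] [CommRing R'] [CommRing S] [Algebra R R'] [Algebra R S]
  [Algebra R' S] [IsScalarTower R R' S]

theorem map_bijective_of_formallyEtale [Algebra.FormallyEtale R R'] :
    Function.Bijective (Algebra.H1Cotangent.map R R' S S) :=
  ⟨map_injective_of_formallySmooth R R' S, map_surjective_of_formallyUnramified R R' S⟩

end Et

section Glue

variable {B N : Type u} [CommRing B] [AddCommGroup N] [Module B N]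

theorem glue_of_local {ι : Type u} [Fintype ι] (r : ι → B) (n : ι → N) (K : ℕ)
    (hspan : Ideal.span (Set.range r) = ⊤)
    (hcompat : ∀ i j, (r i * r j) ^ K • (r j • n i - r i • n j) = 0) :
    ∃ m : N, ∀ j, r j ^ (K + 1) • m = r j ^ K • n j := by
  have hspan' : Ideal.span (Set.range fun i => r i ^ (K + 1)) = ⊤ := by
    have := Ideal.span_pow_eq_top (Set.range r) hspan (K + 1)
    convert this using 2
    ext x
    constructor
    · rintro ⟨i, rfl⟩; exact ⟨r i, ⟨i, rfl⟩, rfl⟩
    · rintro ⟨_, ⟨i, rfl⟩, rfl⟩; exact ⟨i, rfl⟩
  have h1 : (1 : B) ∈ Ideal.span (Set.range fun i => r i ^ (K + 1)) := by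
    rw [hspan']; trivial
  rw [Ideal.mem_span_range_iff_exists_fun] at h1
  obtain ⟨c, hc⟩ := h1
  refine ⟨∑ i, c i • (r i ^ K • n i), fun j => ?_⟩
  have key : ∀ i, r j ^ (K + 1) • (c i • (r i ^ K • n i)) =
      (c i * r i ^ (K + 1)) • (r j ^ K • n j) := by
    intro i
    have h2 := hcompat i j
    rw [smul_sub, sub_eq_zero] at h2
    calc r j ^ (K + 1) • (c i • (r i ^ K • n i))
        = c i • ((r i * r j) ^ K • (r j • n i)) := by
          simp only [smul_smul]
          congr 1
          ring
      _ = c i • ((r i * r j) ^ K • (r i • n j)) := by rw [h2]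
      _ = (c i * r i ^ (K + 1)) • (r j ^ K • n j) := by
          simp only [smul_smul]
          congr 1
          ring
  rw [Finset.smul_sum]
  simp only [key]
  rw [← Finset.sum_smul, hc, one_smul]

end Glue

end Groth.Agent.Helper14.NLSh
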