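import Mathlib
import Groth.Agent.Lib.Helper14.NLSh1
import Groth.Prelude.Def_SheafNL

/-!
# `H¹(NL)` of charts and of stalks of a morphism of schemes (helper14)
-/

set_option autoImplicit false
set_option linter.style.haveILetI false
set_option linter.unusedSectionVars false
set_option linter.unusedVariables false
set_option maxRecDepth 8000
universe u
open CategoryTheory CategoryTheory.Limits AlgebraicGeometry TopologicalSpace Opposite

namespace Groth.Agent.Helper14.NLSh

variable {X Y : Scheme.{u}} (f : X ⟶ Y)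

/-- the algebra structure of a stalk of `X` over the stalk of `Y` -/
@[reducible] noncomputable def stalkAlg (x : X) :
    Algebra (Y.presheaf.stalk (f x)) (X.presheaf.stalk x) := (f.stalkMap x).hom.toAlgebra

/-- `H¹(NL)` of the local rings -/
abbrev TS (x : X) : Type u :=
  @Algebra.H1Cotangent (Y.presheaf.stalk (f x)) (X.presheaf.stalk x) _ _ (stalkAlg f x)

/-- the algebra structure of a chart -/
@[reducible] noncomputable def chAlg {U : X.Opens} {V : Y.Opens} (e : U ≤ f ⁻¹ᵁ V) :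
    Algebra Γ(Y, V) Γ(X, U) := (f.appLE V U e).hom.toAlgebra

/-- `H¹(NL)` of a chart (any opens) -/
abbrev CH {U : X.Opens} {V : Y.Opens} (e : U ≤ f ⁻¹ᵁ V) : Type u :=
  @Algebra.H1Cotangent Γ(Y, V) Γ(X, U) _ _ (chAlg f e)

section Germ

variable {U : X.Opens} {V : Y.Opens} (e : U ≤ f ⁻¹ᵁ V) (x : X) (hx : x ∈ U)

theorem germ_comm : Y.presheaf.germ V (f x) (e hx) ≫ f.stalkMap x =
    f.appLE V U e ≫ X.presheaf.germ U x hx := by
  rw [Scheme.Hom.germ_stalkMap, Scheme.Hom.appLE, Category.assoc]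
  congr 1
  exact (TopCat.Presheaf.germ_res X.presheaf (homOfLE e) x hx).symm

/-- the map from `H¹` of a chart to `H¹` of the local rings at a point of the chart -/
noncomputable def gam : CH f e →+ TS f x :=
  letI a1 : Algebra Γ(Y, V) Γ(X, U) := chAlg f e
  letI a2 := stalkAlg f x
  letI a3 : Algebra Γ(Y, V) (Y.presheaf.stalk (f x)) :=
    (Y.presheaf.germ V (f x) (e hx)).hom.toAlgebra
  letI a4 : Algebra Γ(X, U) (X.presheaf.stalk x) := (X.presheaf.germ U x hx).hom.toAlgebra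
  letI a5 : Algebra Γ(Y, V) (X.presheaf.stalk x) :=
    (f.appLE V U e ≫ X.presheaf.germ U x hx).hom.toAlgebra
  haveI t1 : IsScalarTower Γ(Y, V) (Y.presheaf.stalk (f x)) (X.presheaf.stalk x) :=
    IsScalarTower.of_algebraMap_eq' (by
      change (f.appLE V U e ≫ X.presheaf.germ U x hx).hom =
        (f.stalkMap x).hom.comp (Y.presheaf.germ V (f x) (e hx)).hom
      rw [← CommRingCat.hom_comp, germ_comm])
  haveI t2 : IsScalarTower Γ(Y, V) Γ(X, U) (X.presheaf.stalk x) :=
    IsScalarTower.of_algebraMap_eq' rfl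
  (Algebra.H1Cotangent.map Γ(Y, V) (Y.presheaf.stalk (f x)) Γ(X, U)
    (X.presheaf.stalk x)).toAddMonoidHom

theorem gam_smul (b : Γ(X, U)) (h : CH f e) :
    gam f e x hx (b • h) = (X.presheaf.germ U x hx b) • gam f e x hx h := by
  letI a1 : Algebra Γ(Y, V) Γ(X, U) := chAlg f e
  letI a2 := stalkAlg f x
  letI a3 : Algebra Γ(Y, V) (Y.presheaf.stalk (f x)) :=
    (Y.presheaf.germ V (f x) (e hx)).hom.toAlgebra
  letI a4 : Algebra Γ(X, U) (X.presheaf.stalk x) := (X.presheaf.germ U x hx).hom.toAlgebra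
  letI a5 : Algebra Γ(Y, V) (X.presheaf.stalk x) :=
    (f.appLE V U e ≫ X.presheaf.germ U x hx).hom.toAlgebra
  haveI t1 : IsScalarTower Γ(Y, V) (Y.presheaf.stalk (f x)) (X.presheaf.stalk x) :=
    IsScalarTower.of_algebraMap_eq' (by
      change (f.appLE V U e ≫ X.presheaf.germ U x hx).hom =
        (f.stalkMap x).hom.comp (Y.presheaf.germ V (f x) (e hx)).hom
      rw [← CommRingCat.hom_comp, germ_comm])
  haveI t2 : IsScalarTower Γ(Y, V) Γ(X, U) (X.presheaf.stalk x) :=
    IsScalarTower.of_algebraMap_eq' rfl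
  have h1 := (Algebra.H1Cotangent.map Γ(Y, V) (Y.presheaf.stalk (f x)) Γ(X, U)
    (X.presheaf.stalk x)).map_smul b h
  refine h1.trans ?_
  exact (algebraMap_smul (X.presheaf.stalk x) b _).symm

end Germ

section Res

variable {U U' : X.Opens} {V V' : Y.Opens} (e : U ≤ f ⁻¹ᵁ V) (e' : U' ≤ f ⁻¹ᵁ V')
  (hUU : U' ≤ U) (hVV : V' ≤ V)

/-- restriction between the `H¹` of nested charts (any opens); for affine opens this is
`NLCx.chartRes`. -/
noncomputable def cres : CH f e →+ CH f e' :=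
  letI := (f.appLE V U e).hom.toAlgebra
  letI := (f.appLE V' U' e').hom.toAlgebra
  letI := (f.appLE V U' (hUU.trans e)).hom.toAlgebra
  letI := (X.presheaf.map (homOfLE hUU).op).hom.toAlgebra
  letI := (Y.presheaf.map (homOfLE hVV).op).hom.toAlgebra
  haveI : IsScalarTower Γ(Y, V) Γ(Y, V') Γ(X, U') :=
    IsScalarTower.of_algebraMap_eq' (by
      change (f.appLE _ _ _).hom = (f.appLE _ _ _).hom.comp (Y.presheaf.map _).hom
      rw [← CommRingCat.hom_comp, Scheme.Hom.map_appLE])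
  haveI : IsScalarTower Γ(Y, V) Γ(X, U) Γ(X, U') :=
    IsScalarTower.of_algebraMap_eq' (by
      change (f.appLE _ _ _).hom = (X.presheaf.map _).hom.comp (f.appLE _ _ _).hom
      rw [← CommRingCat.hom_comp, Scheme.Hom.appLE_map])
  (Algebra.H1Cotangent.map Γ(Y, V) Γ(Y, V') Γ(X, U) Γ(X, U')).toAddMonoidHom

theorem cres_smul (b : Γ(X, U)) (h : CH f e) :
    cres f e e' hUU hVV (b • h) =
      (X.presheaf.map (homOfLE hUU).op b) • cres f e e' hUU hVV h := by
  letI a1 : Algebra Γ(Y, V) Γ(X, U) := (f.appLE V U e).hom.toAlgebra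
  letI a2 : Algebra Γ(Y, V') Γ(X, U') := (f.appLE V' U' e').hom.toAlgebra
  letI a3 : Algebra Γ(Y, V) Γ(X, U') := (f.appLE V U' (hUU.trans e)).hom.toAlgebra
  letI a4 : Algebra Γ(X, U) Γ(X, U') := (X.presheaf.map (homOfLE hUU).op).hom.toAlgebra
  letI a5 : Algebra Γ(Y, V) Γ(Y, V') := (Y.presheaf.map (homOfLE hVV).op).hom.toAlgebra
  haveI t1 : IsScalarTower Γ(Y, V) Γ(Y, V') Γ(X, U') :=
    IsScalarTower.of_algebraMap_eq' (by
      change (f.appLE _ _ _).hom = (f.appLE _ _ _).hom.comp (Y.presheaf.map _).hom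
      rw [← CommRingCat.hom_comp, Scheme.Hom.map_appLE])
  haveI t2 : IsScalarTower Γ(Y, V) Γ(X, U) Γ(X, U') :=
    IsScalarTower.of_algebraMap_eq' (by
      change (f.appLE _ _ _).hom = (X.presheaf.map _).hom.comp (f.appLE _ _ _).hom
      rw [← CommRingCat.hom_comp, Scheme.Hom.appLE_map])
  have h1 := (Algebra.H1Cotangent.map Γ(Y, V) Γ(Y, V') Γ(X, U) Γ(X, U')).map_smul b h
  refine h1.trans ?_
  exact (algebraMap_smul Γ(X, U') b _).symm

/-- compatibility of the maps to the stalks with restriction of charts -/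
theorem gam_cres (x : X) (hx : x ∈ U') (h : CH f e) :
    gam f e' x hx (cres f e e' hUU hVV h) = gam f e x (hUU hx) h := by
  letI a1 : Algebra Γ(Y, V) Γ(X, U) := (f.appLE V U e).hom.toAlgebra
  letI a2 : Algebra Γ(Y, V') Γ(X, U') := (f.appLE V' U' e').hom.toAlgebra
  letI a3 : Algebra Γ(Y, V) Γ(X, U') := (f.appLE V U' (hUU.trans e)).hom.toAlgebra
  letI a4 : Algebra Γ(X, U) Γ(X, U') := (X.presheaf.map (homOfLE hUU).op).hom.toAlgebra
  letI a5 : Algebra Γ(Y, V) Γ(Y, V') := (Y.presheaf.map (homOfLE hVV).op).hom.toAlgebra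
  haveI t1 : IsScalarTower Γ(Y, V) Γ(Y, V') Γ(X, U') :=
    IsScalarTower.of_algebraMap_eq' (by
      change (f.appLE _ _ _).hom = (f.appLE _ _ _).hom.comp (Y.presheaf.map _).hom
      rw [← CommRingCat.hom_comp, Scheme.Hom.map_appLE])
  haveI t2 : IsScalarTower Γ(Y, V) Γ(X, U) Γ(X, U') :=
    IsScalarTower.of_algebraMap_eq' (by
      change (f.appLE _ _ _).hom = (X.presheaf.map _).hom.comp (f.appLE _ _ _).hom
      rw [← CommRingCat.hom_comp, Scheme.Hom.appLE_map])
  -- the stalk level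
  letI b2 := stalkAlg f x
  letI b3 : Algebra Γ(Y, V') (Y.presheaf.stalk (f x)) :=
    (Y.presheaf.germ V' (f x) (e' hx)).hom.toAlgebra
  letI b4 : Algebra Γ(X, U') (X.presheaf.stalk x) := (X.presheaf.germ U' x hx).hom.toAlgebra
  letI b5 : Algebra Γ(Y, V') (X.presheaf.stalk x) :=
    (f.appLE V' U' e' ≫ X.presheaf.germ U' x hx).hom.toAlgebra
  haveI s1 : IsScalarTower Γ(Y, V') (Y.presheaf.stalk (f x)) (X.presheaf.stalk x) :=
    IsScalarTower.of_algebraMap_eq' (by
      change (f.appLE V' U' e' ≫ X.presheaf.germ U' x hx).hom =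
        (f.stalkMap x).hom.comp (Y.presheaf.germ V' (f x) (e' hx)).hom
      rw [← CommRingCat.hom_comp, germ_comm])
  haveI s2 : IsScalarTower Γ(Y, V') Γ(X, U') (X.presheaf.stalk x) :=
    IsScalarTower.of_algebraMap_eq' rfl
  letI c3 : Algebra Γ(Y, V) (Y.presheaf.stalk (f x)) :=
    (Y.presheaf.germ V (f x) (e (hUU hx))).hom.toAlgebra
  letI c4 : Algebra Γ(X, U) (X.presheaf.stalk x) := (X.presheaf.germ U x (hUU hx)).hom.toAlgebra
  letI c5 : Algebra Γ(Y, V) (X.presheaf.stalk x) :=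
    (f.appLE V U e ≫ X.presheaf.germ U x (hUU hx)).hom.toAlgebra
  haveI u1 : IsScalarTower Γ(Y, V) (Y.presheaf.stalk (f x)) (X.presheaf.stalk x) :=
    IsScalarTower.of_algebraMap_eq' (by
      change (f.appLE V U e ≫ X.presheaf.germ U x (hUU hx)).hom =
        (f.stalkMap x).hom.comp (Y.presheaf.germ V (f x) (e (hUU hx))).hom
      rw [← CommRingCat.hom_comp, germ_comm])
  haveI u2 : IsScalarTower Γ(Y, V) Γ(X, U) (X.presheaf.stalk x) :=
    IsScalarTower.of_algebraMap_eq' rfl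
  haveI v1 : IsScalarTower Γ(Y, V) Γ(Y, V') (Y.presheaf.stalk (f x)) :=
    IsScalarTower.of_algebraMap_eq' (by
      change (Y.presheaf.germ V (f x) (e (hUU hx))).hom =
        (Y.presheaf.germ V' (f x) (e' hx)).hom.comp (Y.presheaf.map (homOfLE hVV).op).hom
      rw [← CommRingCat.hom_comp, TopCat.Presheaf.germ_res])
  haveI v2 : IsScalarTower Γ(X, U) Γ(X, U') (X.presheaf.stalk x) :=
    IsScalarTower.of_algebraMap_eq' (by
      change (X.presheaf.germ U x (hUU hx)).hom =
        (X.presheaf.germ U' x hx).hom.comp (X.presheaf.map (homOfLE hUU).op).hom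
      rw [← CommRingCat.hom_comp, TopCat.Presheaf.germ_res])
  haveI v3 : IsScalarTower Γ(Y, V) Γ(X, U') (X.presheaf.stalk x) :=
    IsScalarTower.of_algebraMap_eq' (by
      change (f.appLE V U e ≫ X.presheaf.germ U x (hUU hx)).hom =
        (X.presheaf.germ U' x hx).hom.comp (f.appLE V U' (hUU.trans e)).hom
      rw [← CommRingCat.hom_comp, ← Scheme.Hom.appLE_map f e (homOfLE hUU).op, Category.assoc,
        TopCat.Presheaf.germ_res])
  haveI v4 : IsScalarTower Γ(Y, V) Γ(Y, V') (X.presheaf.stalk x) :=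
    IsScalarTower.of_algebraMap_eq' (by
      change (f.appLE V U e ≫ X.presheaf.germ U x (hUU hx)).hom =
        (f.appLE V' U' e' ≫ X.presheaf.germ U' x hx).hom.comp
          (Y.presheaf.map (homOfLE hVV).op).hom
      rw [← CommRingCat.hom_comp, ← Category.assoc, Scheme.Hom.map_appLE,
        ← Scheme.Hom.appLE_map f e (homOfLE hUU).op, Category.assoc, TopCat.Presheaf.germ_res])
  exact map_map Γ(Y, V) Γ(Y, V') (Y.presheaf.stalk (f x)) Γ(X, U) Γ(X, U') (X.presheaf.stalk x) h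

end Res

end Groth.Agent.Helper14.NLSh
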