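import Mathlib
import Groth.Agent.Lib.Helper14.NLSh2

/-!
# `H¹(NL)` of affine charts: localization properties (helper14)
-/

set_option autoImplicit false
set_option linter.style.haveILetI false
set_option linter.unusedSectionVars false
set_option linter.unusedVariables false
set_option maxRecDepth 8000
universe u
open CategoryTheory CategoryTheory.Limits AlgebraicGeometry TopologicalSpace Opposite

namespace Groth.Agent.Helper14.NLSh

variable {X Y : Scheme.{u}} (f : X ⟶ Y)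

theorem formallyEtale_res {V V' : Y.Opens} (hV : IsAffineOpen V) (hV' : IsAffineOpen V')
    (hVV : V' ≤ V) :
    @Algebra.FormallyEtale Γ(Y, V) Γ(Y, V') _ _ (Y.presheaf.map (homOfLE hVV).op).hom.toAlgebra := by
  letI : Algebra Γ(Y, V) Γ(Y, V') := (Y.presheaf.map (homOfLE hVV).op).hom.toAlgebra
  have h1 : ((𝟙 Y : Y ⟶ Y).appLE V V' hVV).hom.Etale :=
    HasRingHomProperty.appLE @Etale (𝟙 Y) inferInstance ⟨V, hV⟩ ⟨V', hV'⟩ hVV
  have h2 : (𝟙 Y : Y ⟶ Y).appLE V V' hVV = Y.presheaf.map (homOfLE hVV).op := by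
    simp [Scheme.Hom.appLE]
    exact Category.id_comp _
  rw [h2] at h1
  have h3 : Algebra.Etale Γ(Y, V) Γ(Y, V') := h1
  infer_instance

section Stalk

variable {U : X.Opens} {V : Y.Opens} (e : U ≤ f ⁻¹ᵁ V) (hU : IsAffineOpen U)
  (hV : IsAffineOpen V) (x : X) (hx : x ∈ U)

include hU hV in
/-- a class of a chart vanishing in the local ring at `x` is killed by a function invertible at
`x`. -/
theorem exists_smul_eq_zero_of_gam_eq_zero (h : CH f e) (h0 : gam f e x hx h = 0) :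
    ∃ s : Γ(X, U), x ∈ X.basicOpen s ∧ s • h = 0 := by
  letI a1 : Algebra Γ(Y, V) Γ(X, U) := chAlg f e
  letI a2 := stalkAlg f x
  letI a3 : Algebra Γ(Y, V) (Y.presheaf.stalk (f x)) :=
    (Y.presheaf.germ V (f x) (e hx)).hom.toAlgebra
  letI a4 : Algebra Γ(X, U) (X.presheaf.stalk x) := (X.presheaf.germ U x hx).hom.toAlgebra
  letI a5 : Algebra Γ(Y, V) (X.presheaf.stalk x) :=
    (f.appLE V U e ≫ X.presheaf.germ U x hx).hom.toAlgebra
  haveI t1 : IsScalarTower Γ(Y, V) (Y.presheaf.stalk (f x)) (X.presheaf.stalk x) :=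
    IsScalarTower.of_algebraMap_eq' (by
      change (f.appLE V U e ≫ X.presheaf.germ U x hx).hom =
        (f.stalkMap x).hom.comp (Y.presheaf.germ V (f x) (e hx)).hom
      rw [← CommRingCat.hom_comp, germ_comm])
  haveI t2 : IsScalarTower Γ(Y, V) Γ(X, U) (X.presheaf.stalk x) :=
    IsScalarTower.of_algebraMap_eq' rfl
  haveI l1 : IsLocalization.AtPrime (Y.presheaf.stalk (f x))
      (hV.primeIdealOf ⟨f x, e hx⟩).asIdeal := hV.isLocalization_stalk ⟨f x, e hx⟩
  haveI l2 : IsLocalization.AtPrime (X.presheaf.stalk x)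
      (hU.primeIdealOf ⟨x, hx⟩).asIdeal := hU.isLocalization_stalk ⟨x, hx⟩
  haveI et : Algebra.FormallyEtale Γ(Y, V) (Y.presheaf.stalk (f x)) :=
    Algebra.FormallyEtale.of_isLocalization (hV.primeIdealOf ⟨f x, e hx⟩).asIdeal.primeCompl
  haveI loc := isLocalizedModule_map' Γ(Y, V) (Y.presheaf.stalk (f x)) Γ(X, U)
    (X.presheaf.stalk x) (hU.primeIdealOf ⟨x, hx⟩).asIdeal.primeCompl
  have h1 : (Algebra.H1Cotangent.map Γ(Y, V) (Y.presheaf.stalk (f x)) Γ(X, U)
    (X.presheaf.stalk x)) h = 0 := h0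
  rw [IsLocalizedModule.eq_zero_iff (hU.primeIdealOf ⟨x, hx⟩).asIdeal.primeCompl] at h1
  obtain ⟨⟨s, hs1⟩, hs⟩ := h1
  refine ⟨s, ?_, hs⟩
  have hs2 : s ∉ (hU.primeIdealOf ⟨x, hx⟩).asIdeal := hs1
  rw [hU.primeIdealOf_eq_map_closedPoint ⟨x, hx⟩] at hs2
  rw [Scheme.mem_basicOpen _ _ _ hx]
  by_contra hnu
  apply hs2
  change (X.presheaf.germ U x hx) s ∈ IsLocalRing.maximalIdeal (X.presheaf.stalk x)
  rw [IsLocalRing.mem_maximalIdeal]
  exact hnu

end Stalk

section Loc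

variable {U : X.Opens} {V V' : Y.Opens} (e : U ≤ f ⁻¹ᵁ V) (hU : IsAffineOpen U)
  (hV : IsAffineOpen V) (hV' : IsAffineOpen V') (hVV : V' ≤ V) (r : Γ(X, U))
  (e' : X.basicOpen r ≤ f ⁻¹ᵁ V')

include hU hV hV' in
/-- restriction to a basic open of the source (and a smaller affine open of the target) is
surjective up to powers of `r`. -/
theorem cres_surj (h' : CH f e') :
    ∃ (k : ℕ) (n : CH f e),
      (X.presheaf.map (homOfLE (X.basicOpen_le r)).op r) ^ k • h' =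
        cres f e e' (X.basicOpen_le r) hVV n := by
  letI a1 : Algebra Γ(Y, V) Γ(X, U) := (f.appLE V U e).hom.toAlgebra
  letI a2 : Algebra Γ(Y, V') Γ(X, X.basicOpen r) := (f.appLE V' (X.basicOpen r) e').hom.toAlgebra
  letI a3 : Algebra Γ(Y, V) Γ(X, X.basicOpen r) :=
    (f.appLE V (X.basicOpen r) ((X.basicOpen_le r).trans e)).hom.toAlgebra
  letI a4 : Algebra Γ(X, U) Γ(X, X.basicOpen r) :=
    (X.presheaf.map (homOfLE (X.basicOpen_le r)).op).hom.toAlgebra
  letI a5 : Algebra Γ(Y, V) Γ(Y, V') := (Y.presheaf.map (homOfLE hVV).op).hom.toAlgebra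
  haveI t1 : IsScalarTower Γ(Y, V) Γ(Y, V') Γ(X, X.basicOpen r) :=
    IsScalarTower.of_algebraMap_eq' (by
      change (f.appLE _ _ _).hom = (f.appLE _ _ _).hom.comp (Y.presheaf.map _).hom
      rw [← CommRingCat.hom_comp, Scheme.Hom.map_appLE])
  haveI t2 : IsScalarTower Γ(Y, V) Γ(X, U) Γ(X, X.basicOpen r) :=
    IsScalarTower.of_algebraMap_eq' (by
      change (f.appLE _ _ _).hom = (X.presheaf.map _).hom.comp (f.appLE _ _ _).hom
      rw [← CommRingCat.hom_comp, Scheme.Hom.appLE_map])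
  haveI locB : IsLocalization.Away r Γ(X, X.basicOpen r) := hU.isLocalization_basicOpen r
  haveI etA : Algebra.FormallyEtale Γ(Y, V) Γ(Y, V') := formallyEtale_res hV hV' hVV
  haveI loc := isLocalizedModule_map' Γ(Y, V) Γ(Y, V') Γ(X, U) Γ(X, X.basicOpen r)
    (Submonoid.powers r)
  obtain ⟨⟨n, ⟨_, k, rfl⟩⟩, hn⟩ := IsLocalizedModule.surj (Submonoid.powers r)
    (Algebra.H1Cotangent.map Γ(Y, V) Γ(Y, V') Γ(X, U) Γ(X, X.basicOpen r)) h'
  refine ⟨k, n, ?_⟩
  refine Eq.trans ?_ hn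
  change _ = (r ^ k) • h'
  rw [← algebraMap_smul Γ(X, X.basicOpen r) (r ^ k) h', map_pow]
  rfl

include hU hV hV' in
/-- a class restricting to zero on a basic open is killed by a power of `r`. -/
theorem cres_eq_zero (n : CH f e) (h0 : cres f e e' (X.basicOpen_le r) hVV n = 0) :
    ∃ k : ℕ, r ^ k • n = 0 := by
  letI a1 : Algebra Γ(Y, V) Γ(X, U) := (f.appLE V U e).hom.toAlgebra
  letI a2 : Algebra Γ(Y, V') Γ(X, X.basicOpen r) := (f.appLE V' (X.basicOpen r) e').hom.toAlgebra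
  letI a3 : Algebra Γ(Y, V) Γ(X, X.basicOpen r) :=
    (f.appLE V (X.basicOpen r) ((X.basicOpen_le r).trans e)).hom.toAlgebra
  letI a4 : Algebra Γ(X, U) Γ(X, X.basicOpen r) :=
    (X.presheaf.map (homOfLE (X.basicOpen_le r)).op).hom.toAlgebra
  letI a5 : Algebra Γ(Y, V) Γ(Y, V') := (Y.presheaf.map (homOfLE hVV).op).hom.toAlgebra
  haveI t1 : IsScalarTower Γ(Y, V) Γ(Y, V') Γ(X, X.basicOpen r) :=
    IsScalarTower.of_algebraMap_eq' (by
      change (f.appLE _ _ _).hom = (f.appLE _ _ _).hom.comp (Y.presheaf.map _).hom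
      rw [← CommRingCat.hom_comp, Scheme.Hom.map_appLE])
  haveI t2 : IsScalarTower Γ(Y, V) Γ(X, U) Γ(X, X.basicOpen r) :=
    IsScalarTower.of_algebraMap_eq' (by
      change (f.appLE _ _ _).hom = (X.presheaf.map _).hom.comp (f.appLE _ _ _).hom
      rw [← CommRingCat.hom_comp, Scheme.Hom.appLE_map])
  haveI locB : IsLocalization.Away r Γ(X, X.basicOpen r) := hU.isLocalization_basicOpen r
  haveI etA : Algebra.FormallyEtale Γ(Y, V) Γ(Y, V') := formallyEtale_res hV hV' hVV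
  haveI loc := isLocalizedModule_map' Γ(Y, V) Γ(Y, V') Γ(X, U) Γ(X, X.basicOpen r)
    (Submonoid.powers r)
  have h1 : (Algebra.H1Cotangent.map Γ(Y, V) Γ(Y, V') Γ(X, U) Γ(X, X.basicOpen r)) n = 0 := h0
  rw [IsLocalizedModule.eq_zero_iff (Submonoid.powers r)] at h1
  obtain ⟨⟨_, k, rfl⟩, hk⟩ := h1
  exact ⟨k, hk⟩

end Loc

end Groth.Agent.Helper14.NLSh
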