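import Mathlib
import Groth.Agent.Lib.Helper14.NLSh3
import Groth.Prelude.Def_MeroSh

/-!
# The sheaf `H⁻¹(NL_{X/Y})` as a sheaf of compatible germs (helper14)
-/

set_option autoImplicit false
set_option linter.style.haveILetI false
set_option linter.unusedSectionVars false
set_option linter.unusedVariables false
set_option maxRecDepth 8000
universe u
open CategoryTheory CategoryTheory.Limits AlgebraicGeometry TopologicalSpace Opposite

namespace Groth.Agent.Helper14.NLSh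

variable {X Y : Scheme.{u}} (f : X ⟶ Y)

theorem exists_chart (W : X.Opens) (V₀ : Y.Opens) (x : X) (hxW : x ∈ W) (hxV : f x ∈ V₀) :
    ∃ (U : X.Opens) (V : Y.Opens), IsAffineOpen U ∧ IsAffineOpen V ∧ V ≤ V₀ ∧ U ≤ W ∧
      U ≤ f ⁻¹ᵁ V ∧ x ∈ U := by
  obtain ⟨_, ⟨V, hV, rfl⟩, hxV', hVV⟩ := Y.isBasis_affineOpens.exists_subset_of_mem_open
    hxV V₀.2
  have hx2 : x ∈ W ⊓ f ⁻¹ᵁ V := ⟨hxW, hxV'⟩
  obtain ⟨_, ⟨U, hU, rfl⟩, hxU, hUU⟩ := X.isBasis_affineOpens.exists_subset_of_mem_open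
    hx2 (W ⊓ f ⁻¹ᵁ V).2
  exact ⟨U, V, hU, hV, hVV, fun y hy => (hUU hy).1, fun y hy => (hUU hy).2, hxU⟩

/-- a family of classes in the local rings comes locally from classes of charts. -/
def IsLoc {W : X.Opens} (t : ∀ x : W, TS f x.1) : Prop :=
  ∀ x : W, ∃ (U : X.Opens) (V : Y.Opens) (_ : IsAffineOpen U) (_ : IsAffineOpen V)
    (e : U ≤ f ⁻¹ᵁ V) (hUW : U ≤ W) (_ : x.1 ∈ U) (h : CH f e),
    ∀ (x' : X) (hx' : x' ∈ U), t ⟨x', hUW hx'⟩ = gam f e x' hx' h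

/-- the local predicate -/
def locPred : TopCat.LocalPredicate (fun x : X => TS f x) where
  pred {W} t := IsLoc f t
  res {W' W} i t ht := fun x => by
    obtain ⟨U, V, hU, hV, e, hUW, hxU, h, hh⟩ := ht ⟨x.1, i.le x.2⟩
    obtain ⟨r, hr1, hr2⟩ := hU.exists_basicOpen_le (V := U ⊓ W') ⟨x.1, ⟨hxU, x.2⟩⟩ hxU
    refine ⟨X.basicOpen r, V, hU.basicOpen r, hV, (X.basicOpen_le r).trans e,
      hr1.trans inf_le_right, hr2,
      cres f e ((X.basicOpen_le r).trans e) (X.basicOpen_le r) le_rfl h, fun x' hx' => ?_⟩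
    rw [gam_cres]
    exact hh x' (X.basicOpen_le r hx')
  locality {W} t ht := fun x => by
    obtain ⟨W', hxW', i, h'⟩ := ht x
    obtain ⟨U, V, hU, hV, e, hUW, hxU, h, hh⟩ := h' ⟨x.1, hxW'⟩
    exact ⟨U, V, hU, hV, e, hUW.trans i.le, hxU, h, fun x' hx' => hh x' hx'⟩

instance : Mero.IsModPred (locPred f) where
  zero W := fun x => by
    obtain ⟨U, V, hU, hV, -, hUW, e, hxU⟩ := exists_chart f W ⊤ x.1 x.2 trivial
    exact ⟨U, V, hU, hV, e, hUW, hxU, 0, fun x' hx' => by rw [map_zero]; rfl⟩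
  add W t₁ t₂ h₁ h₂ := fun x => by
    obtain ⟨U₁, V₁, hU₁, hV₁, e₁, hUW₁, hxU₁, k₁, hk₁⟩ := h₁ x
    obtain ⟨U₂, V₂, hU₂, hV₂, e₂, hUW₂, hxU₂, k₂, hk₂⟩ := h₂ x
    obtain ⟨U, V, hU, hV, hVV, hUU, e, hxU⟩ := exists_chart f (U₁ ⊓ U₂) (V₁ ⊓ V₂) x.1
      ⟨hxU₁, hxU₂⟩ ⟨e₁ hxU₁, e₂ hxU₂⟩
    refine ⟨U, V, hU, hV, e, (hUU.trans inf_le_left).trans hUW₁, hxU,
      cres f e₁ e (hUU.trans inf_le_left) (hVV.trans inf_le_left) k₁ +
        cres f e₂ e (hUU.trans inf_le_right) (hVV.trans inf_le_right) k₂, fun x' hx' => ?_⟩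
    rw [map_add, gam_cres, gam_cres, Pi.add_apply]
    exact congrArg₂ (· + ·) (hk₁ x' ((hUU hx').1)) (hk₂ x' ((hUU hx').2))
  smul W a t ht := fun x => by
    obtain ⟨U, V, hU, hV, e, hUW, hxU, k, hk⟩ := ht x
    refine ⟨U, V, hU, hV, e, hUW, hxU, (X.presheaf.map (homOfLE hUW).op a) • k,
      fun x' hx' => ?_⟩
    rw [gam_smul, TopCat.Presheaf.germ_res_apply, ← hk x' hx']

/-- the sheaf `H⁻¹(NL_{X/Y})`. -/
noncomputable def HSh : X.Modules := Mero.modOf (locPred f)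

section Psi

variable {U : X.Opens} {V : Y.Opens} (e : U ≤ f ⁻¹ᵁ V) (hU : IsAffineOpen U)
  (hV : IsAffineOpen V)

/-- the section of the sheaf defined by a class of an affine chart. -/
noncomputable def psi (h : CH f e) : Γ(HSh f, U) :=
  ⟨fun x => gam f e x.1 x.2 h, fun x => ⟨U, V, hU, hV, e, le_rfl, x.2, h, fun x' hx' => rfl⟩⟩

theorem psi_apply (h : CH f e) (x : U) : (psi f e hU hV h).1 x = gam f e x.1 x.2 h := rfl

theorem psi_add (h k : CH f e) :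
    psi f e hU hV (h + k) = psi f e hU hV h + psi f e hU hV k := by
  refine Subtype.ext (funext fun x => ?_)
  change gam f e x.1 x.2 (h + k) = gam f e x.1 x.2 h + gam f e x.1 x.2 k
  rw [map_add]

theorem psi_smul (b : Γ(X, U)) (h : CH f e) :
    psi f e hU hV (b • h) = b • psi f e hU hV h := by
  refine Subtype.ext (funext fun x => ?_)
  change gam f e x.1 x.2 (b • h) = X.presheaf.germ U x.1 x.2 b • gam f e x.1 x.2 h
  rw [gam_smul]

end Psi

theorem psi_res {U U' : X.Opens} {V V' : Y.Opens} (e : U ≤ f ⁻¹ᵁ V) (e' : U' ≤ f ⁻¹ᵁ V')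
    (hUU : U' ≤ U) (hVV : V' ≤ V) (hU : IsAffineOpen U) (hU' : IsAffineOpen U')
    (hV : IsAffineOpen V) (hV' : IsAffineOpen V') (h : CH f e) :
    (HSh f).presheaf.map (homOfLE hUU).op (psi f e hU hV h) =
      psi f e' hU' hV' (cres f e e' hUU hVV h) := by
  refine Subtype.ext (funext fun x => ?_)
  change gam f e x.1 (hUU x.2) h = gam f e' x.1 x.2 (cres f e e' hUU hVV h)
  rw [gam_cres]

end Groth.Agent.Helper14.NLSh
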