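import Mathlib
import Groth.Agent.Lib.Helper14.NLSh4

/-!
# Sections of the germ sheaf `H⁻¹(NL_{X/Y})` over affine charts (helper14)
-/

set_option autoImplicit false
set_option linter.style.haveILetI false
set_option linter.unusedSectionVars false
set_option linter.unusedVariables false
set_option maxRecDepth 8000
universe u
open CategoryTheory CategoryTheory.Limits AlgebraicGeometry TopologicalSpace Opposite

namespace Groth.Agent.Helper14.NLSh

variable {X Y : Scheme.{u}} (f : X ⟶ Y)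

section Inj

variable {U : X.Opens} {V : Y.Opens} (e : U ≤ f ⁻¹ᵁ V) (hU : IsAffineOpen U)
  (hV : IsAffineOpen V)

include hU hV in
/-- a class of an affine chart vanishing in all local rings is zero. -/
theorem eq_zero_of_forall_gam (h : CH f e) (h0 : ∀ x (hx : x ∈ U), gam f e x hx h = 0) :
    h = 0 := by
  let J : Ideal Γ(X, U) := LinearMap.ker (LinearMap.toSpanSingleton Γ(X, U) (CH f e) h)
  have hJ : ∀ s, s ∈ J ↔ s • h = 0 := fun s => by
    change LinearMap.toSpanSingleton Γ(X, U) (CH f e) h s = 0 ↔ _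
    rw [LinearMap.toSpanSingleton_apply]
  have hspan : Ideal.span (J : Set Γ(X, U)) = ⊤ := by
    rw [← hU.self_le_iSup_basicOpen_iff]
    intro x hx
    obtain ⟨s, hxs, hs⟩ := exists_smul_eq_zero_of_gam_eq_zero f e hU hV x hx h (h0 x hx)
    exact (le_iSup (fun t : (J : Set Γ(X, U)) => X.basicOpen t.1) ⟨s, (hJ s).2 hs⟩) hxs
  rw [Ideal.span_eq] at hspan
  have h1 : (1 : Γ(X, U)) ∈ J := by rw [hspan]; trivial
  rw [hJ, one_smul] at h1
  exact h1

include hU hV in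
/-- a class vanishing in the local rings of the points of `D(r)` is killed by a power of `r`. -/
theorem exists_pow_smul_eq_zero (r : Γ(X, U)) (n : CH f e)
    (h0 : ∀ x (hx : x ∈ U), x ∈ X.basicOpen r → gam f e x hx n = 0) :
    ∃ k : ℕ, r ^ k • n = 0 := by
  have e' : X.basicOpen r ≤ f ⁻¹ᵁ V := (X.basicOpen_le r).trans e
  apply cres_eq_zero f e hU hV hV le_rfl r e' n
  apply eq_zero_of_forall_gam f e' (hU.basicOpen r) hV
  intro x hx
  rw [gam_cres]
  exact h0 x (X.basicOpen_le r hx) hx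

include hU hV in
theorem psi_injective : Function.Injective (psi f e hU hV) := by
  intro h k hhk
  rw [← sub_eq_zero]
  apply eq_zero_of_forall_gam f e hU hV
  intro x hx
  rw [map_sub, sub_eq_zero]
  have := congrArg (fun t : Γ(HSh f, U) => t.1 ⟨x, hx⟩) hhk
  exact this

end Inj

section Surj

variable {U : X.Opens} {V : Y.Opens} (e : U ≤ f ⁻¹ᵁ V) (hU : IsAffineOpen U)
  (hV : IsAffineOpen V)

/-- the functions `r` on `U` such that `r • τ` comes from a class of the chart on `D(r)`. -/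
def goodFun (τ : ∀ x : U, TS f x.1) : Set Γ(X, U) :=
  {r | ∃ n : CH f e, ∀ x' (hx' : x' ∈ U), x' ∈ X.basicOpen r →
    X.presheaf.germ U x' hx' r • τ ⟨x', hx'⟩ = gam f e x' hx' n}

include hU hV in
theorem exists_goodFun (τ : ∀ x : U, TS f x.1) (hτ : IsLoc f τ) (x : X) (hx : x ∈ U) :
    ∃ r ∈ goodFun f e τ, x ∈ X.basicOpen r := by
  obtain ⟨U₁, V₁, hU₁, hV₁, e₁, hU₁U, hxU₁, k₁, hk₁⟩ := hτ ⟨x, hx⟩
  obtain ⟨_, ⟨V₂, hV₂, rfl⟩, hxV₂, hV₂V⟩ := Y.isBasis_affineOpens.exists_subset_of_mem_open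
    (show f x ∈ V ⊓ V₁ from ⟨e hx, e₁ hxU₁⟩) (V ⊓ V₁).2
  obtain ⟨r, hr1, hr2⟩ := hU.exists_basicOpen_le (V := U₁ ⊓ f ⁻¹ᵁ V₂) ⟨x, ⟨hxU₁, hxV₂⟩⟩ hx
  have e₂ : X.basicOpen r ≤ f ⁻¹ᵁ V₂ := hr1.trans inf_le_right
  have hrU₁ : X.basicOpen r ≤ U₁ := hr1.trans inf_le_left
  have hV₂V' : V₂ ≤ V := fun y hy => (hV₂V hy).1
  have hV₂V₁ : V₂ ≤ V₁ := fun y hy => (hV₂V hy).2
  -- the class on the small chart
  let k₂ : CH f e₂ := cres f e₁ e₂ hrU₁ hV₂V₁ k₁
  obtain ⟨k, n, hn⟩ := cres_surj f e hU hV hV₂ hV₂V' r e₂ k₂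
  refine ⟨r ^ (k + 1), ⟨r • n, fun x' hx' hx'r => ?_⟩, ?_⟩
  · rw [X.basicOpen_pow r (Nat.succ_pos k)] at hx'r
    have h2 : gam f e₂ x' hx'r k₂ = τ ⟨x', hx'⟩ := by
      change gam f e₂ x' hx'r (cres f e₁ e₂ hrU₁ hV₂V₁ k₁) = _
      rw [gam_cres]
      exact (hk₁ x' (hrU₁ hx'r)).symm
    have h3 : gam f e₂ x' hx'r (cres f e e₂ (X.basicOpen_le r) hV₂V' n) = gam f e x' hx' n :=
      gam_cres f e e₂ (X.basicOpen_le r) hV₂V' x' hx'r n
    have h1 := congrArg (gam f e₂ x' hx'r) hn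
    rw [gam_smul, h3, h2, map_pow, TopCat.Presheaf.germ_res_apply] at h1
    rw [gam_smul, ← h1, map_pow, pow_succ', mul_smul]
  · rw [X.basicOpen_pow r (Nat.succ_pos k)]
    exact hr2

include hU hV in
theorem psi_surjective : Function.Surjective (psi f e hU hV) := by
  rintro ⟨τ, hτ⟩
  have hτ' : IsLoc f τ := hτ
  -- a finite family of good functions
  have hspan : Ideal.span (goodFun f e τ) = ⊤ := by
    rw [← hU.self_le_iSup_basicOpen_iff]
    intro x hx
    obtain ⟨r, hr, hxr⟩ := exists_goodFun f e hU hV τ hτ' x hx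
    exact (le_iSup (fun t : goodFun f e τ => X.basicOpen t.1) ⟨r, hr⟩) hxr
  obtain ⟨s', hs'S, hs'⟩ := (Ideal.span_eq_top_iff_finite _).1 hspan
  let ι : Type u := ↥s'
  let r : ι → Γ(X, U) := fun i => i.1
  have hr : ∀ i : ι, r i ∈ goodFun f e τ := fun i => hs'S i.2
  choose n hn using hr
  have hrange : Set.range r = (s' : Set Γ(X, U)) := by
    ext y
    constructor
    · rintro ⟨i, rfl⟩; exact i.2
    · intro hy; exact ⟨⟨y, hy⟩, rfl⟩
  have hspan' : Ideal.span (Set.range r) = ⊤ := by rw [hrange]; exact hs'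
  -- compatibility
  have hcomp : ∀ i j : ι, ∃ K : ℕ, (r i * r j) ^ K • (r j • n i - r i • n j) = 0 := by
    intro i j
    apply exists_pow_smul_eq_zero f e hU hV
    intro x hx hxr
    rw [X.basicOpen_mul] at hxr
    rw [map_sub, gam_smul, gam_smul, ← hn i x hx hxr.1, ← hn j x hx hxr.2, smul_smul, smul_smul,
      mul_comm, sub_self]
  choose K hK using hcomp
  let K₀ : ℕ := ∑ i, ∑ j, K i j
  have hK₀ : ∀ i j : ι, (r i * r j) ^ K₀ • (r j • n i - r i • n j) = 0 := by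
    intro i j
    have hle : K i j ≤ K₀ := by
      refine le_trans ?_ (Finset.single_le_sum (f := fun i => ∑ j, K i j)
        (fun _ _ => Nat.zero_le _) (Finset.mem_univ i))
      exact Finset.single_le_sum (f := fun j => K i j) (fun _ _ => Nat.zero_le _)
        (Finset.mem_univ j)
    obtain ⟨d, hd⟩ := Nat.exists_eq_add_of_le hle
    rw [hd, pow_add, mul_comm, mul_smul, hK i j, smul_zero]
  obtain ⟨m, hm⟩ := glue_of_local r n K₀ hspan' hK₀
  refine ⟨m, Subtype.ext (funext fun x => ?_)⟩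
  change gam f e x.1 x.2 m = τ x
  -- a member of the family invertible at `x`
  have hcov : U ≤ ⨆ t : Set.range r, X.basicOpen t.1 := hU.self_le_iSup_basicOpen_iff.2 hspan'
  have hx := hcov x.2
  rw [Opens.mem_iSup] at hx
  obtain ⟨⟨_, ⟨j, rfl⟩⟩, hxj⟩ := hx
  have hunit : IsUnit (X.presheaf.germ U x.1 x.2 (r j)) := (X.mem_basicOpen _ x.1 x.2).1 hxj
  have h1 := congrArg (gam f e x.1 x.2) (hm j)
  rw [gam_smul, gam_smul, map_pow, map_pow, ← hn j x.1 x.2 hxj, ← mul_smul, ← pow_succ] at h1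
  exact (hunit.pow (K₀ + 1)).smul_left_cancel.1 h1

end Surj

end Groth.Agent.Helper14.NLSh
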