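import Mathlib
import Groth.Agent.Lib.Helper14.NLSh5
import Groth.Agent.Lib.Helper13.QCohOfLoc

/-!
# The sheaf `H⁻¹(NL_{X/Y})` exists and is quasi-coherent (helper14)
-/

set_option autoImplicit false
set_option linter.style.haveILetI false
set_option linter.unusedSectionVars false
set_option linter.unusedVariables false
set_option maxRecDepth 8000
universe u
open CategoryTheory CategoryTheory.Limits AlgebraicGeometry TopologicalSpace Opposite

namespace Groth.Agent.Helper14.NLSh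

variable {X Y : Scheme.{u}} (f : X ⟶ Y)

section Ex

variable {U : X.Opens} {V : Y.Opens} (e : U ≤ f ⁻¹ᵁ V) (hU : IsAffineOpen U)
  (hV : IsAffineOpen V)

/-- `psi` as an additive equivalence. -/
noncomputable def psiEquiv : CH f e ≃+ Γ(HSh f, U) :=
  AddEquiv.ofBijective (AddMonoidHom.mk' (psi f e hU hV) (psi_add f e hU hV))
    ⟨psi_injective f e hU hV, psi_surjective f e hU hV⟩

theorem psiEquiv_apply (h : CH f e) : psiEquiv f e hU hV h = psi f e hU hV h := rfl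

end Ex

/-- the germ sheaf carries the structure of `H⁻¹(NL_{X/Y})`. -/
noncomputable def h1SheafHSh : NLCx.H1Sheaf f (HSh f) where
  iso U V e := (psiEquiv f e U.2 V.2).symm
  map_smul U V e a m := by
    have h1 : psiEquiv f e U.2 V.2 (a • (psiEquiv f e U.2 V.2).symm m) = a • m := by
      change psi f e U.2 V.2 (a • (psiEquiv f e U.2 V.2).symm m) = a • m
      rw [psi_smul]
      congr 1
      exact (psiEquiv f e U.2 V.2).apply_symm_apply m
    exact (AddEquiv.symm_apply_eq _).2 h1.symm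
  map_res {U U' V V'} e e' hUU hVV m := by
    have h1 : psiEquiv f e' U'.2 V'.2 (cres f e e' hUU hVV ((psiEquiv f e U.2 V.2).symm m)) =
        (HSh f).presheaf.map (homOfLE hUU).op m := by
      change psi f e' U'.2 V'.2 (cres f e e' hUU hVV ((psiEquiv f e U.2 V.2).symm m)) = _
      rw [← psi_res f e e' hUU hVV U.2 U'.2 V.2 V'.2]
      congr 1
      exact (psiEquiv f e U.2 V.2).apply_symm_apply m
    exact (AddEquiv.symm_apply_eq _).2 h1.symm

/-- any module carrying the structure of `H⁻¹(NL_{X/Y})` is quasi-coherent. -/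
theorem isQuasicoherent_of_h1Sheaf (F : X.Modules) (c : NLCx.H1Sheaf f F) :
    F.IsQuasicoherent := by
  let ι : Type u := {U : X.affineOpens // ∃ V : Y.affineOpens, U.1 ≤ f ⁻¹ᵁ V.1}
  refine Groth.Agent.Helper13.QCohLocal.isQuasicoherent_of_affine_family F
    (fun U : ι => Γ(X, U.1.1)) (fun U => U.1.2.fromSpec) (fun x => ?_) (fun U => ?_)
  · obtain ⟨U, V, hU, hV, -, -, e, hxU⟩ := exists_chart f ⊤ ⊤ x trivial trivial
    refine ⟨⟨⟨U, hU⟩, ⟨V, hV⟩, e⟩, ?_⟩
    rw [IsAffineOpen.opensRange_fromSpec]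
    exact hxU
  · obtain ⟨⟨U, hU0⟩, ⟨V, hV0⟩, e⟩ := U
    have hU : IsAffineOpen U := hU0
    have hV : IsAffineOpen V := hV0
    change IsIso (F.restrict hU.fromSpec).fromTildeΓ
    refine Groth.Agent.Helper13.QCohOfLoc.isIso_fromTildeΓ_of_loc F hU (fun r s => ?_)
      (fun r t ht => ?_)
    · have e' : X.basicOpen r ≤ f ⁻¹ᵁ V := (X.basicOpen_le r).trans e
      obtain ⟨k, n, hn⟩ := cres_surj f e hU hV hV le_rfl r e'
        (c.iso ⟨X.basicOpen r, hU.basicOpen r⟩ ⟨V, hV⟩ e' s)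
      refine ⟨k, (c.iso ⟨U, hU⟩ ⟨V, hV⟩ e).symm n, ?_⟩
      apply (c.iso ⟨X.basicOpen r, hU.basicOpen r⟩ ⟨V, hV⟩ e').injective
      have h1 := c.map_res (U := ⟨U, hU⟩) (U' := ⟨X.basicOpen r, hU.basicOpen r⟩)
        (V := ⟨V, hV⟩) (V' := ⟨V, hV⟩) e e' (X.basicOpen_le r) le_rfl
        ((c.iso ⟨U, hU⟩ ⟨V, hV⟩ e).symm n)
      have h1' : NLCx.chartRes (f := f) (U := ⟨U, hU⟩) (U' := ⟨X.basicOpen r, hU.basicOpen r⟩)
          (V := ⟨V, hV⟩) (V' := ⟨V, hV⟩) e e' (X.basicOpen_le r) le_rfl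
          (c.iso ⟨U, hU⟩ ⟨V, hV⟩ e ((c.iso ⟨U, hU⟩ ⟨V, hV⟩ e).symm n)) =
          cres f e e' (X.basicOpen_le r) le_rfl n :=
        congrArg _ ((c.iso ⟨U, hU⟩ ⟨V, hV⟩ e).apply_symm_apply n)
      refine h1.trans (h1'.trans ?_)
      have h2 := c.map_smul ⟨X.basicOpen r, hU.basicOpen r⟩ ⟨V, hV⟩ e'
        ((X.presheaf.map (homOfLE (X.basicOpen_le r)).op r) ^ k) s
      exact hn.symm.trans h2.symm
    · have e' : X.basicOpen r ≤ f ⁻¹ᵁ V := (X.basicOpen_le r).trans e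
      have h1 := c.map_res (U := ⟨U, hU⟩) (U' := ⟨X.basicOpen r, hU.basicOpen r⟩)
        (V := ⟨V, hV⟩) (V' := ⟨V, hV⟩) e e' (X.basicOpen_le r) le_rfl t
      have h0 : c.iso ⟨X.basicOpen r, hU.basicOpen r⟩ ⟨V, hV⟩ e'
          (F.val.map (homOfLE (X.basicOpen_le r)).op t) = 0 := by
        have h3 : (F.val.map (homOfLE (X.basicOpen_le r)).op t) = 0 := ht
        exact (congrArg _ h3).trans (map_zero _)
      have h4 : cres f e e' (X.basicOpen_le r) le_rfl (c.iso ⟨U, hU⟩ ⟨V, hV⟩ e t) = 0 :=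
        h1.symm.trans h0
      obtain ⟨k, hk⟩ := cres_eq_zero f e hU hV hV le_rfl r e' _ h4
      refine ⟨k, ?_⟩
      apply (c.iso ⟨U, hU⟩ ⟨V, hV⟩ e).injective
      exact (c.map_smul ⟨U, hU⟩ ⟨V, hV⟩ e (r ^ k) t).trans (hk.trans (map_zero _).symm)

end Groth.Agent.Helper14.NLSh
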