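import Mathlib
import Groth.Agent.Lib.Helper14.NerA
import Groth.Agent.Lib.Helper21.FL9

/-!
# Flat birational morphisms are local isomorphisms
-/

set_option autoImplicit false
universe u
open CategoryTheory AlgebraicGeometry TopologicalSpace Limits

namespace Groth.Agent.Helper14.Ner

variable {X S T : Scheme.{u}}

theorem mono_ι_comp (f : X ⟶ S) (U : S.Opens) (hiso : IsIso (f ∣_ U)) :
    Mono ((f ⁻¹ᵁ U).ι ≫ f) := by
  rw [← morphismRestrict_ι]
  infer_instance

/-- two morphisms into `X` with the same composite to `S`, one of which lands over an open `U`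
over which `f` is a monomorphism, are equal. -/
theorem eq_of_comp_eq (f : X ⟶ S) (U : S.Opens) (hmono : Mono ((f ⁻¹ᵁ U).ι ≫ f))
    (c d : T ⟶ X) (h : c ≫ f = d ≫ f) (hc : ∀ t : T, f (c t) ∈ U) : c = d := by
  have hd : ∀ t : T, f (d t) ∈ U := by
    intro t
    have : f (d t) = f (c t) := by
      rw [← Scheme.Hom.comp_apply, ← Scheme.Hom.comp_apply, h]
    rw [this]; exact hc t
  have hrc : Set.range c ⊆ Set.range (f ⁻¹ᵁ U).ι := by
    rintro _ ⟨t, rfl⟩
    rw [Scheme.Opens.range_ι]
    exact hc t
  have hrd : Set.range d ⊆ Set.range (f ⁻¹ᵁ U).ι := by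
    rintro _ ⟨t, rfl⟩
    rw [Scheme.Opens.range_ι]
    exact hd t
  have h1 : IsOpenImmersion.lift (f ⁻¹ᵁ U).ι c hrc = IsOpenImmersion.lift (f ⁻¹ᵁ U).ι d hrd := by
    rw [← cancel_mono ((f ⁻¹ᵁ U).ι ≫ f), ← Category.assoc, ← Category.assoc,
      IsOpenImmersion.lift_fac, IsOpenImmersion.lift_fac, h]
  rw [← IsOpenImmersion.lift_fac (f ⁻¹ᵁ U).ι c hrc, h1, IsOpenImmersion.lift_fac]

set_option backward.isDefEq.respectTransparency false in
/-- a flat, separated morphism locally of finite presentation to a locally Noetherian scheme which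
is a monomorphism over an open `U` whose preimage is schematically dense is an open immersion. -/
theorem isOpenImmersion_of_flat [IsLocallyNoetherian X] (f : X ⟶ S) (U : S.Opens)
    (hiso : IsIso (f ∣_ U)) (hdense : CInt.IsSchematicallyDense (f ⁻¹ᵁ U))
    (W : X.Opens) [IsSeparated (W.ι ≫ f)] [Flat (W.ι ≫ f)]
    [LocallyOfFinitePresentation (W.ι ≫ f)] : IsOpenImmersion (W.ι ≫ f) := by
  set g := W.ι ≫ f with hg
  have hmono := mono_ι_comp f U hiso
  let j := X.homOfLE (inf_le_left : W ⊓ f ⁻¹ᵁ U ≤ W)
  haveI : IsSchemeTheoreticallyDominant j := isSchemeTheoreticallyDominant_homOfLE hdense W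
  let ι := pullback.fst (pullback.fst g g) j
  haveI : IsSchemeTheoreticallyDominant ι := inferInstance
  have hι : ι ≫ pullback.fst g g = ι ≫ pullback.snd g g := by
    rw [← cancel_mono W.ι, Category.assoc, Category.assoc]
    refine eq_of_comp_eq f U hmono _ _ ?_ ?_
    · rw [Category.assoc, Category.assoc, Category.assoc, Category.assoc, ← hg, pullback.condition]
    · intro t
      have h1 : ι ≫ pullback.fst g g ≫ W.ι = pullback.snd (pullback.fst g g) j ≫ (W ⊓ f ⁻¹ᵁ U).ι := by
        rw [← Category.assoc, pullback.condition, Category.assoc, Scheme.homOfLE_ι]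
      rw [h1, Scheme.Hom.comp_apply]
      exact ((pullback.snd (pullback.fst g g) j) t).2.2
  have hfs : pullback.fst g g = pullback.snd g g :=
    ext_of_isSchemeTheoreticallyDominant g pullback.condition ι hι
  haveI : Mono g := by
    constructor
    intro T' a b hab
    have h1 : a = pullback.lift a b hab ≫ pullback.fst g g := (pullback.lift_fst _ _ _).symm
    have h2 : b = pullback.lift a b hab ≫ pullback.snd g g := (pullback.lift_snd _ _ _).symm
    rw [h1, hfs, ← h2]
  exact IsOpenImmersion.of_flat_of_mono g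

end Groth.Agent.Helper14.Ner
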