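import Mathlib
import Groth.Agent.Lib.Helper14.NerB

/-!
# Sections through a point of a birational morphism
-/

set_option autoImplicit false
universe u
open CategoryTheory AlgebraicGeometry TopologicalSpace Limits

namespace Groth.Agent.Helper14.Ner

variable {X S : Scheme.{u}}

set_option backward.isDefEq.respectTransparency false in
/-- a section through `x` of a morphism which is an isomorphism over a schematically dense open
makes the morphism an open immersion near `x`. -/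
theorem exists_isOpenImmersion_of_section (f : X ⟶ S) (U : S.Opens)
    (hiso : IsIso (f ∣_ U)) (hdense : CInt.IsSchematicallyDense (f ⁻¹ᵁ U)) (x : X)
    (V : S.Opens) (hV : f x ∈ V) (σ : (V : Scheme.{u}) ⟶ X) (hσ : σ ≫ f = V.ι)
    (hσx : σ ⟨f x, hV⟩ = x) :
    ∃ W : X.Opens, x ∈ W ∧ IsOpenImmersion (W.ι ≫ f) := by
  have hmono := mono_ι_comp f U hiso
  obtain ⟨W, hW, hxW⟩ : ∃ W : X.Opens, IsAffineOpen W ∧ x ∈ W := by
    obtain ⟨_, ⟨W, hW, rfl⟩, hxW, -⟩ :=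
      X.isBasis_affineOpens.exists_subset_of_mem_open (Set.mem_univ x) isOpen_univ
    exact ⟨W, hW, hxW⟩
  haveI : IsAffine W := hW
  -- general facts about opens of the form `V.ι ''ᵁ σ ⁻¹ᵁ O`
  have hle : ∀ O : X.Opens, V.ι ''ᵁ (σ ⁻¹ᵁ O) ≤ V := by
    rintro O _ ⟨v, -, rfl⟩; exact v.2
  have hrange : ∀ O : X.Opens, Set.range (S.homOfLE (hle O) ≫ σ) ⊆ Set.range O.ι := by
    rintro O _ ⟨v, rfl⟩
    rw [Scheme.Opens.range_ι, Scheme.Hom.comp_apply]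
    obtain ⟨v', hv', hvv'⟩ := v.2
    have h1 : S.homOfLE (hle O) v = ⟨v.1, hle O v.2⟩ := Scheme.homOfLE_apply' (hle O) v.1 v.2
    have h2 : (⟨v.1, hle O v.2⟩ : V) = v' := Subtype.ext hvv'.symm
    rw [h1, h2]; exact hv'
  have hfσ : ∀ v : V, f (σ v) = v.1 := by
    intro v
    rw [← Scheme.Hom.comp_apply, hσ]; rfl
  have hmem : ∀ O : X.Opens, x ∈ O → f x ∈ V.ι ''ᵁ (σ ⁻¹ᵁ O) := by
    intro O hxO
    exact ⟨⟨f x, hV⟩, by show σ ⟨f x, hV⟩ ∈ O; rw [hσx]; exact hxO, rfl⟩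
  -- first step: `σ ∘ f = id` near `x`
  set V₁ : S.Opens := V.ι ''ᵁ (σ ⁻¹ᵁ W) with hV₁
  let σ₁ : (V₁ : Scheme.{u}) ⟶ W := IsOpenImmersion.lift W.ι (S.homOfLE (hle W) ≫ σ) (hrange W)
  have hσ₁ : σ₁ ≫ W.ι = S.homOfLE (hle W) ≫ σ := IsOpenImmersion.lift_fac _ _ _
  set W₁ : X.Opens := W ⊓ f ⁻¹ᵁ V₁ with hW₁
  have hxW₁ : x ∈ W₁ := ⟨hxW, hmem W hxW⟩
  let f₁ : (W₁ : Scheme.{u}) ⟶ V₁ := f.resLE V₁ W₁ inf_le_right
  have hf₁ : f₁ ≫ V₁.ι = W₁.ι ≫ f := Scheme.Hom.resLE_comp_ι f inf_le_right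
  let a : (W₁ : Scheme.{u}) ⟶ W := X.homOfLE inf_le_left
  let b : (W₁ : Scheme.{u}) ⟶ W := f₁ ≫ σ₁
  have hb : b ≫ W.ι ≫ f = W₁.ι ≫ f := by
    show (f₁ ≫ σ₁) ≫ W.ι ≫ f = _
    rw [Category.assoc, ← Category.assoc σ₁, hσ₁, Category.assoc, hσ, Scheme.homOfLE_ι, hf₁]
  have hab : a ≫ W.ι ≫ f = b ≫ W.ι ≫ f := by
    rw [hb, ← Category.assoc, Scheme.homOfLE_ι]
  let ι := X.homOfLE (inf_le_left : W₁ ⊓ f ⁻¹ᵁ U ≤ W₁)
  haveI : IsSchemeTheoreticallyDominant ι := isSchemeTheoreticallyDominant_homOfLE hdense W₁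
  have hι : ι ≫ a = ι ≫ b := by
    rw [← cancel_mono W.ι, Category.assoc, Category.assoc]
    refine eq_of_comp_eq f U hmono _ _ ?_ ?_
    · rw [Category.assoc, Category.assoc, Category.assoc, Category.assoc, hab]
    · intro t
      have h1 : ι ≫ a ≫ W.ι = (W₁ ⊓ f ⁻¹ᵁ U).ι := by
        rw [Scheme.homOfLE_ι, Scheme.homOfLE_ι]
      rw [h1]
      exact t.2.2
  have habeq : a = b := ext_of_isSchemeTheoreticallyDominant (W.ι ≫ f) hab ι hι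
  have key : W₁.ι = f₁ ≫ S.homOfLE (hle W) ≫ σ := by
    have := congrArg (· ≫ W.ι) habeq
    simp only [a, b] at this
    rw [Scheme.homOfLE_ι, Category.assoc, hσ₁] at this
    exact this
  -- second step: the inverse isomorphisms
  set V₂ : S.Opens := V.ι ''ᵁ (σ ⁻¹ᵁ W₁) with hV₂
  set W₂ : X.Opens := W₁ ⊓ f ⁻¹ᵁ V₂ with hW₂
  have hxW₂ : x ∈ W₂ := ⟨hxW₁, hmem W₁ hxW₁⟩
  let α : (W₂ : Scheme.{u}) ⟶ V₂ := f.resLE V₂ W₂ inf_le_right
  have hα : α ≫ V₂.ι = W₂.ι ≫ f := Scheme.Hom.resLE_comp_ι f inf_le_right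
  have hrange₂ : Set.range (S.homOfLE (hle W₁) ≫ σ) ⊆ Set.range W₂.ι := by
    rintro _ ⟨v, rfl⟩
    rw [Scheme.Opens.range_ι]
    have h1 : (S.homOfLE (hle W₁) ≫ σ) v ∈ W₁ := by
      have := hrange W₁ ⟨v, rfl⟩
      rwa [Scheme.Opens.range_ι] at this
    refine ⟨h1, ?_⟩
    show f ((S.homOfLE (hle W₁) ≫ σ) v) ∈ V₂
    have h2 : S.homOfLE (hle W₁) v = ⟨v.1, hle W₁ v.2⟩ :=
      Scheme.homOfLE_apply' (hle W₁) v.1 v.2
    rw [Scheme.Hom.comp_apply, hfσ, h2]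
    exact v.2
  let β : (V₂ : Scheme.{u}) ⟶ W₂ := IsOpenImmersion.lift W₂.ι (S.homOfLE (hle W₁) ≫ σ) hrange₂
  have hβ : β ≫ W₂.ι = S.homOfLE (hle W₁) ≫ σ := IsOpenImmersion.lift_fac _ _ _
  have hαβ : α ≫ β = 𝟙 _ := by
    rw [← cancel_mono W₂.ι, Category.assoc, hβ, Category.id_comp]
    have h1 : α ≫ S.homOfLE (hle W₁) =
        X.homOfLE (inf_le_left : W₂ ≤ W₁) ≫ f₁ ≫ S.homOfLE (hle W) := by
      rw [← cancel_mono V.ι, Category.assoc, Category.assoc, Category.assoc, Scheme.homOfLE_ι,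
        Scheme.homOfLE_ι, hα, hf₁, ← Category.assoc, Scheme.homOfLE_ι]
    rw [← Category.assoc, h1, Category.assoc, Category.assoc, ← key, Scheme.homOfLE_ι]
  have hβα : β ≫ α = 𝟙 _ := by
    rw [← cancel_mono V₂.ι, Category.assoc, hα, ← Category.assoc, hβ, Category.assoc, hσ,
      Scheme.homOfLE_ι, Category.id_comp]
  haveI : IsIso α := ⟨β, hαβ, hβα⟩
  refine ⟨W₂, hxW₂, ?_⟩
  rw [← hα]
  infer_instance

end Groth.Agent.Helper14.Ner
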