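import Mathlib
import Groth.Agent.Lib.Helper14.NerC

/-!
# Étale / flat / section criteria for a birational morphism (S17728)
-/

set_option autoImplicit false
universe u
open CategoryTheory AlgebraicGeometry TopologicalSpace Limits

namespace Groth.Agent.Helper14.Ner

variable {X S : Scheme.{u}}

set_option backward.isDefEq.respectTransparency false in
theorem flat_stalkMap_of_flat_ι_comp (f : X ⟶ S) (W : X.Opens) [Flat (W.ι ≫ f)] (x : X)
    (hx : x ∈ W) : (f.stalkMap x).hom.Flat := by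
  have h := Flat.stalkMap (W.ι ≫ f) ⟨x, hx⟩
  rw [Scheme.Hom.stalkMap_comp, CommRingCat.hom_comp,
    RingHom.Flat.comp_iff_of_bijective_left
      (ConcreteCategory.bijective_of_isIso (W.ι.stalkMap ⟨x, hx⟩))] at h
  exact h

set_option backward.isDefEq.respectTransparency false in
theorem flat_ι_comp_of_forall (f : X ⟶ S) (W : X.Opens)
    (h : ∀ y ∈ W, (f.stalkMap y).hom.Flat) : Flat (W.ι ≫ f) := by
  apply Flat.of_stalkMap
  intro y
  rw [Scheme.Hom.stalkMap_comp, CommRingCat.hom_comp,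
    RingHom.Flat.comp_iff_of_bijective_left
      (ConcreteCategory.bijective_of_isIso (W.ι.stalkMap y))]
  exact h _ y.2

set_option backward.isDefEq.respectTransparency false in
theorem main [IsNoetherian S] (f : X ⟶ S) [LocallyOfFiniteType f]
    (U : S.Opens)
    (hiso : IsIso (morphismRestrict f U)) (hdense : CInt.IsSchematicallyDense (f ⁻¹ᵁ U))
    (x : X) :
    List.TFAE [
      ∃ W : X.Opens, x ∈ W ∧ Etale (W.ι ≫ f),
      (f.stalkMap x).hom.Flat,
      ∃ (V : S.Opens) (hV : f.base x ∈ V) (σ : (V : Scheme.{u}) ⟶ X),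
        σ ≫ f = V.ι ∧ σ.base ⟨f.base x, hV⟩ = x] := by
  haveI : IsLocallyNoetherian X := LocallyOfFiniteType.isLocallyNoetherian f
  tfae_have 1 → 2 := by
    rintro ⟨W, hx, hW⟩
    haveI : Flat (W.ι ≫ f) := inferInstance
    exact flat_stalkMap_of_flat_ι_comp f W x hx
  tfae_have 2 → 3 := by
    intro hflat
    have hopen := Groth.Agent.Helper21.FL.isOpen_flatLocus_scheme f
    obtain ⟨W, hW, hxW, hWsub⟩ : ∃ W : X.Opens, IsAffineOpen W ∧ x ∈ W ∧
        (W : Set X) ⊆ {y | (f.stalkMap y).hom.Flat} := by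
      obtain ⟨_, ⟨W, hW, rfl⟩, hxW, hsub⟩ :=
        X.isBasis_affineOpens.exists_subset_of_mem_open
          (show x ∈ {y : X | (f.stalkMap y).hom.Flat} from hflat) hopen
      exact ⟨W, hW, hxW, hsub⟩
    haveI : IsAffine W := hW
    haveI : Flat (W.ι ≫ f) := flat_ι_comp_of_forall f W (fun y hy => hWsub hy)
    haveI : IsOpenImmersion (W.ι ≫ f) := isOpenImmersion_of_flat f U hiso hdense W
    let V : S.Opens := (W.ι ≫ f).opensRange
    have hV : f x ∈ V := ⟨⟨x, hxW⟩, rfl⟩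
    have hr : Set.range V.ι ⊆ Set.range (W.ι ≫ f) := by
      rw [Scheme.Opens.range_ι]; exact fun _ h => h
    let τ : (V : Scheme.{u}) ⟶ W := IsOpenImmersion.lift (W.ι ≫ f) V.ι hr
    have hτ : τ ≫ W.ι ≫ f = V.ι := IsOpenImmersion.lift_fac _ _ _
    refine ⟨V, hV, τ ≫ W.ι, by rw [Category.assoc, hτ], ?_⟩
    have h1 : (W.ι ≫ f) (τ ⟨f x, hV⟩) = (W.ι ≫ f) ⟨x, hxW⟩ := by
      rw [← Scheme.Hom.comp_apply, hτ]; rfl
    have h2 := (W.ι ≫ f).isOpenEmbedding.injective h1
    show (τ ≫ W.ι) ⟨f x, hV⟩ = x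
    rw [Scheme.Hom.comp_apply, h2]; rfl
  tfae_have 3 → 1 := by
    rintro ⟨V, hV, σ, hσ, hσx⟩
    obtain ⟨W, hxW, hW⟩ := exists_isOpenImmersion_of_section f U hiso hdense x V hV σ hσ hσx
    exact ⟨W, hxW, inferInstance⟩
  tfae_finish

end Groth.Agent.Helper14.Ner
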