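import Mathlib
import Groth.Agent.Lib.Helper14.SqZeroEtale

/-!
# Nakayama-type arguments for locally nilpotent ideals
-/

namespace Groth.Agent.Helper14.NilNak

open Function

variable {R : Type*} [CommRing R]

theorem isNilpotent_of_fg_of_le (I I₀ : Ideal R) (hI : ∀ x ∈ I, IsNilpotent x) (h0 : I₀.FG)
    (hle : I₀ ≤ I) : IsNilpotent I₀ := by
  rw [Ideal.FG.isNilpotent_iff_le_nilradical h0]
  intro x hx
  exact hI x (hle hx)

theorem exists_fg_le_mem_smul {M : Type*} [AddCommGroup M] [Module R M] (I : Ideal R)
    (N : Submodule R M) (x : M) (hx : x ∈ I • N) :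
    ∃ I₀ : Ideal R, I₀.FG ∧ I₀ ≤ I ∧ x ∈ I₀ • N := by
  refine Submodule.smul_induction_on hx ?_ ?_
  · intro r hr n hn
    refine ⟨Ideal.span {r}, ⟨{r}, by simp⟩, (Ideal.span_singleton_le_iff_mem I).mpr hr, ?_⟩
    exact Submodule.smul_mem_smul (Ideal.mem_span_singleton_self r) hn
  · rintro x y ⟨I₁, h1, h1', h1x⟩ ⟨I₂, h2, h2', h2y⟩
    refine ⟨I₁ ⊔ I₂, Submodule.FG.sup h1 h2, sup_le h1' h2', ?_⟩
    exact add_mem (Submodule.smul_mono_left le_sup_left h1x)
      (Submodule.smul_mono_left le_sup_right h2y)

theorem exists_fg_le_forall_mem_smul {M : Type*} [AddCommGroup M] [Module R M] (I : Ideal R)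
    (N : Submodule R M) (t : Finset M) (ht : ∀ x ∈ t, x ∈ I • N) :
    ∃ I₀ : Ideal R, I₀.FG ∧ I₀ ≤ I ∧ ∀ x ∈ t, x ∈ I₀ • N := by
  classical
  induction t using Finset.induction_on with
  | empty => exact ⟨⊥, Submodule.fg_bot, bot_le, by simp⟩
  | insert a s _ ih =>
    obtain ⟨I₁, h1, h1', h1x⟩ := ih (fun x hx => ht x (Finset.mem_insert_of_mem hx))
    obtain ⟨I₂, h2, h2', h2a⟩ := exists_fg_le_mem_smul I N a (ht a (Finset.mem_insert_self a s))
    refine ⟨I₁ ⊔ I₂, Submodule.FG.sup h1 h2, sup_le h1' h2', ?_⟩
    intro x hx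
    rcases Finset.mem_insert.mp hx with rfl | hx
    · exact Submodule.smul_mono_left le_sup_right h2a
    · exact Submodule.smul_mono_left le_sup_left (h1x x hx)

variable {S S' : Type*} [CommRing S] [CommRing S'] [Algebra R S] [Algebra R S']

/-- Surjectivity modulo a locally nilpotent ideal implies surjectivity, for a finite type target. -/
theorem surjective_of_surjective_mod [Algebra.FiniteType R S'] (I : Ideal R)
    (hI : ∀ x ∈ I, IsNilpotent x) (f : S →ₐ[R] S')
    (hsurj : ∀ y : S', ∃ s, y - f s ∈ I.map (algebraMap R S')) : Surjective f := by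
  classical
  obtain ⟨t, ht⟩ := Algebra.FiniteType.out (R := R) (A := S')
  choose σ hσ using hsurj
  have hmem : ∀ y ∈ t.image (fun y => y - f (σ y)), y ∈ I • (⊤ : Submodule R S') := by
    intro y hy
    obtain ⟨z, -, rfl⟩ := Finset.mem_image.mp hy
    rw [Ideal.smul_top_eq_map]
    exact hσ z
  obtain ⟨I₀, hfg, hle, hI₀⟩ := exists_fg_le_forall_mem_smul I ⊤ _ hmem
  have hnil : IsNilpotent I₀ := isNilpotent_of_fg_of_le I I₀ hI hfg hle
  set J : Ideal S' := I₀.map (algebraMap R S') with hJ
  have key : ∀ z : S', ∃ s : S, z - f s ∈ J := by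
    intro z
    have hz : z ∈ Algebra.adjoin R (t : Set S') := by rw [ht]; trivial
    induction hz using Algebra.adjoin_induction with
    | mem y hy =>
      refine ⟨σ y, ?_⟩
      have := hI₀ (y - f (σ y)) (Finset.mem_image_of_mem _ hy)
      rw [Ideal.smul_top_eq_map] at this
      exact this
    | algebraMap r => exact ⟨algebraMap R S r, by rw [f.commutes, sub_self]; exact zero_mem _⟩
    | add z w _ _ hz hw =>
      obtain ⟨s, hs⟩ := hz
      obtain ⟨s', hs'⟩ := hw
      refine ⟨s + s', ?_⟩
      have : z + w - f (s + s') = (z - f s) + (w - f s') := by rw [map_add]; ring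
      rw [this]
      exact add_mem hs hs'
    | mul z w _ _ hz hw =>
      obtain ⟨s, hs⟩ := hz
      obtain ⟨s', hs'⟩ := hw
      refine ⟨s * s', ?_⟩
      have : z * w - f (s * s') = (z - f s) * w + f s * (w - f s') := by rw [map_mul]; ring
      rw [this]
      exact add_mem (Ideal.mul_mem_right _ _ hs) (Ideal.mul_mem_left _ _ hs')
  have htop : LinearMap.range f.toLinearMap ⊔ I₀ • (⊤ : Submodule R S') = ⊤ := by
    rw [eq_top_iff]
    intro z _
    obtain ⟨s, hs⟩ := key z
    have : z = f s + (z - f s) := by ring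
    rw [this]
    refine Submodule.add_mem_sup ⟨s, rfl⟩ ?_
    rw [Ideal.smul_top_eq_map]
    exact hs
  have := SqZeroEtale.eq_top_of_sup_smul_eq_top I₀ hnil _ htop
  intro y
  have hy : y ∈ LinearMap.range f.toLinearMap := by rw [this]; trivial
  exact hy

/-- A surjection onto a flat finitely presented algebra from a finite type algebra, whose kernel
is contained in `I S` with `I` locally nilpotent, is injective. -/
theorem injective_of_flat [Algebra.FiniteType R S] [Algebra.FinitePresentation R S']
    [Module.Flat R S'] (I : Ideal R) (hI : ∀ x ∈ I, IsNilpotent x) (f : S →ₐ[R] S')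
    (hf : Surjective f) (hker : ∀ s : S, f s = 0 → s ∈ I.map (algebraMap R S)) :
    Injective f := by
  classical
  -- the kernel is finitely generated
  obtain ⟨n, g, hg⟩ := Algebra.FiniteType.iff_quotient_mvPolynomial''.mp
    (inferInstance : Algebra.FiniteType R S)
  have hfg0 := Algebra.FinitePresentation.ker_fg_of_mvPolynomial (f.comp g) (hf.comp hg)
  have hK : (RingHom.ker f.toRingHom).FG := by
    have h1 := hfg0.map g.toRingHom
    have h2 : Ideal.map g.toRingHom (RingHom.ker (f.comp g).toRingHom) =
        RingHom.ker f.toRingHom := by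
      simp_rw [RingHom.ker_eq_comap_bot, AlgHom.toRingHom_eq_coe, AlgHom.comp_toRingHom]
      rw [← Ideal.comap_comap,
        Ideal.map_comap_of_surjective (g : MvPolynomial (Fin n) R →+* S) hg]
    rwa [h2] at h1
  obtain ⟨t, ht⟩ := hK
  set Km : Submodule R S := LinearMap.ker f.toLinearMap with hKm
  have hmem : ∀ x ∈ t, x ∈ I • Km := by
    intro x hx
    have hxK : x ∈ RingHom.ker f.toRingHom := by
      rw [← ht]; exact Ideal.subset_span hx
    have hx0 : f x = 0 := hxK
    apply SqZeroEtale.mem_smul_ker_of_flat f.toLinearMap hf I x hx0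
    rw [Ideal.smul_top_eq_map]
    exact hker x hx0
  obtain ⟨I₀, hfg, hle, hI₀⟩ := exists_fg_le_forall_mem_smul I Km t hmem
  have hnil : IsNilpotent I₀ := isNilpotent_of_fg_of_le I I₀ hI hfg hle
  have hclosed : ∀ (s : S) (x : S), x ∈ I₀ • Km → s * x ∈ I₀ • Km := by
    intro s x hx
    refine Submodule.smul_induction_on hx ?_ ?_
    · intro a ha κ hκ
      rw [mul_smul_comm]
      refine Submodule.smul_mem_smul ha ?_
      change f (s * κ) = 0
      have : f κ = 0 := hκ
      rw [map_mul, this, mul_zero]
    · intro x y hx hy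
      rw [mul_add]
      exact add_mem hx hy
  have hle' : Km ≤ I₀ • Km := by
    intro d hd
    have hdK : d ∈ Ideal.span (t : Set S) := by
      rw [ht]; exact hd
    induction hdK using Submodule.span_induction with
    | mem x hx => exact hI₀ x hx
    | zero => exact zero_mem _
    | add x y _ _ hx hy =>
      have hx' : x ∈ Km := by
        change f x = 0
        have : x ∈ RingHom.ker f.toRingHom := by rw [← ht]; assumption
        exact this
      have hy' : y ∈ Km := by
        change f y = 0
        have : y ∈ RingHom.ker f.toRingHom := by rw [← ht]; assumption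
        exact this
      exact add_mem (hx hx') (hy hy')
    | smul s x hxs hx =>
      have hx' : x ∈ Km := by
        change f x = 0
        have : x ∈ RingHom.ker f.toRingHom := by rw [← ht]; assumption
        exact this
      exact hclosed s x (hx hx')
  have hbot : Km ≤ ⊥ := SqZeroEtale.le_of_le_sup_smul I₀ hnil Km ⊥ (by rw [bot_sup_eq]; exact hle')
  rw [injective_iff_map_eq_zero]
  intro x hx
  have : x ∈ Km := hx
  exact (Submodule.mem_bot R).mp (hbot this)

end Groth.Agent.Helper14.NilNak
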