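import Mathlib
import Groth.Prelude.Def_Coh
import Groth.Prelude.Def_QCohCat
import Groth.Agent.Lib.Helper13.QCohKer
import Groth.Agent.Lib.Helper13.FTSub
import Groth.Agent.Lib.Helper13.FinTypeEpi
import Groth.Agent.Lib.Helper13.AssMono2
import Groth.Agent.Lib.Helper28.CohACC

set_option autoImplicit false
set_option linter.style.haveILetI false
set_option linter.unusedSectionVars false
universe u
open CategoryTheory CategoryTheory.Limits AlgebraicGeometry Opposite TopologicalSpace

namespace Groth.Agent.Helper14.NoethQC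

open Groth.Agent.Helper13.QCohLocal

variable {Y : Scheme.{u}}

/-- the inclusion `QCoh Y ⥤ Y.Modules`. -/
abbrev inc (Y : Scheme.{u}) : QCohCat.QCoh Y ⥤ Y.Modules := ObjectProperty.ι (QCohCat.isQCoh Y)

instance (M : QCohCat.QCoh Y) : ((inc Y).obj M).IsQuasicoherent := M.property

/-- monomorphisms of `QCoh Y` are monomorphisms of modules. -/
lemma mono_inc_map {N M : QCohCat.QCoh Y} (φ : N ⟶ M) [Mono φ] : Mono ((inc Y).map φ) := by
  haveI hK : (kernel ((inc Y).map φ)).IsQuasicoherent := isQuasicoherent_kernel _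
  let K' : QCohCat.QCoh Y := ⟨kernel ((inc Y).map φ), hK⟩
  let k : K' ⟶ N := (inc Y).preimage (kernel.ι ((inc Y).map φ))
  let z : K' ⟶ N := (inc Y).preimage (0 : kernel ((inc Y).map φ) ⟶ (inc Y).obj N)
  have h : k ≫ φ = z ≫ φ := by
    apply (inc Y).map_injective
    rw [Functor.map_comp, Functor.map_comp, Functor.map_preimage, Functor.map_preimage,
      kernel.condition, zero_comp]
  have h2 : k = z := (cancel_mono φ).1 h
  have h3 : kernel.ι ((inc Y).map φ) = 0 := by
    have := congrArg (inc Y).map h2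
    rwa [Functor.map_preimage, Functor.map_preimage] at this
  exact Preadditive.mono_of_kernel_zero h3

lemma mono_of_mono_inc_map {N M : QCohCat.QCoh Y} (φ : N ⟶ M) [Mono ((inc Y).map φ)] : Mono φ :=
  (inc Y).mono_of_mono_map inferInstance

section ACC

variable [IsNoetherian Y]

theorem isNoetherianObject_of_isCoh (M : QCohCat.QCoh Y) (hM : Coh.IsCoh M.obj) :
    IsNoetherianObject M := by
  rw [isNoetherianObject_iff_monotone_chain_condition]
  intro f
  haveI : ∀ k, Mono ((inc Y).map (f k).arrow) := fun k => mono_inc_map _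
  let g : ℕ →o Subobject M.obj :=
    { toFun := fun k => Subobject.mk ((inc Y).map (f k).arrow)
      monotone' := by
        intro k l hkl
        have h := f.monotone hkl
        refine Subobject.mk_le_mk_of_comm ((inc Y).map (Subobject.ofLE _ _ h)) ?_
        rw [← Functor.map_comp, Subobject.ofLE_arrow] }
  have hq : ∀ n, Coh.IsQCoh ((g n : Subobject M.obj) : Y.Modules) := by
    intro n
    haveI : ((inc Y).obj (f n : QCohCat.QCoh Y)).IsQuasicoherent := (f n : QCohCat.QCoh Y).property
    exact isQuasicoherent_of_iso (Subobject.underlyingIso ((inc Y).map (f n).arrow)).symm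
  obtain ⟨n, hn⟩ := Groth.Agent.Helper28.CohACC.acc Y M.obj hM g hq
  refine ⟨n, fun m hm => ?_⟩
  apply le_antisymm (f.monotone hm)
  have hle : g m ≤ g n := (hn m hm).le
  let b : (f m : QCohCat.QCoh Y) ⟶ (f n : QCohCat.QCoh Y) :=
    (inc Y).preimage (Subobject.ofMkLEMk _ _ hle)
  refine Subobject.le_of_comm b ?_
  apply (inc Y).map_injective
  rw [Functor.map_comp, Functor.map_preimage, Subobject.ofMkLEMk_comp]

theorem isFiniteType_of_isNoetherianObject (M : QCohCat.QCoh Y) [IsNoetherianObject M] :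
    SheafOfModules.IsFiniteType (R := Y.ringCatSheaf) M.obj := by
  classical
  haveI : M.obj.IsQuasicoherent := M.property
  let 𝒮 : Set (Subobject M) :=
    {N | SheafOfModules.IsFiniteType (R := Y.ringCatSheaf) (N : QCohCat.QCoh Y).obj}
  -- nonempty
  have hne : 𝒮.Nonempty := by
    obtain ⟨J, φ, hφ, hJq, hJf, -⟩ := Groth.Agent.Helper13.FTSub.exists_ft_sub_through_sections
      M.obj PEmpty.{u+1} (fun c => c.elim) (fun c => c.elim) (fun c => c.elim)
    let J' : QCohCat.QCoh Y := ⟨J, hJq⟩
    let φ' : J' ⟶ M := (inc Y).preimage φ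
    haveI : Mono ((inc Y).map φ') := by rw [Functor.map_preimage]; exact hφ
    haveI : Mono φ' := mono_of_mono_inc_map φ'
    refine ⟨Subobject.mk φ', ?_⟩
    show SheafOfModules.IsFiniteType (R := Y.ringCatSheaf) ((Subobject.mk φ' : Subobject M) : QCohCat.QCoh Y).obj
    haveI : SheafOfModules.IsFiniteType (R := Y.ringCatSheaf) ((inc Y).obj J') := hJf
    exact Groth.Agent.Helper13.FinType.isFiniteType_of_iso
      ((inc Y).mapIso (Subobject.underlyingIso φ').symm)
  obtain ⟨N₀, hN₀, hmax⟩ := (wellFounded_gt (α := Subobject M)).has_min 𝒮 hne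
  haveI hN₀f : SheafOfModules.IsFiniteType (R := Y.ringCatSheaf) (N₀ : QCohCat.QCoh Y).obj := hN₀
  haveI hN₀q : ((N₀ : QCohCat.QCoh Y).obj).IsQuasicoherent := (N₀ : QCohCat.QCoh Y).property
  haveI hmono : Mono ((inc Y).map N₀.arrow) := mono_inc_map _
  have hepi : Epi ((inc Y).map N₀.arrow) := by
    apply Groth.Agent.Helper13.AssMono.epi_of_app_surjective
    intro V hV s
    obtain ⟨J', φ', a, hφ', hJq, hJf, hcomp, g, hg⟩ := Groth.Agent.Helper13.FTSub.exists_enlarge
      M.obj (N₀ : QCohCat.QCoh Y).obj ((inc Y).map N₀.arrow) V hV.isCompact s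
    let J'' : QCohCat.QCoh Y := ⟨J', hJq⟩
    let φ'' : J'' ⟶ M := (inc Y).preimage φ'
    haveI : Mono ((inc Y).map φ'') := by rw [Functor.map_preimage]; exact hφ'
    haveI : Mono φ'' := mono_of_mono_inc_map φ''
    let a' : (N₀ : QCohCat.QCoh Y) ⟶ J'' := (inc Y).preimage a
    have hle : N₀ ≤ Subobject.mk φ'' := by
      refine Subobject.le_mk_of_comm a' ?_
      apply (inc Y).map_injective
      rw [Functor.map_comp, Functor.map_preimage, Functor.map_preimage, hcomp]
    have hmem : Subobject.mk φ'' ∈ 𝒮 := by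
      show SheafOfModules.IsFiniteType (R := Y.ringCatSheaf)
        ((Subobject.mk φ'' : Subobject M) : QCohCat.QCoh Y).obj
      haveI : SheafOfModules.IsFiniteType (R := Y.ringCatSheaf) ((inc Y).obj J'') := hJf
      exact Groth.Agent.Helper13.FinType.isFiniteType_of_iso
        ((inc Y).mapIso (Subobject.underlyingIso φ'').symm)
    have heq : Subobject.mk φ'' = N₀ := by
      by_contra hne'
      exact hmax _ hmem (lt_of_le_of_ne hle (Ne.symm hne'))
    have hle' : Subobject.mk φ'' ≤ N₀ := heq.le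
    let b : J'' ⟶ (N₀ : QCohCat.QCoh Y) := Subobject.ofMkLE φ'' N₀ hle'
    have hb : b ≫ N₀.arrow = φ'' := Subobject.ofMkLE_arrow hle'
    have hb' : (inc Y).map b ≫ (inc Y).map N₀.arrow = φ' := by
      rw [← Functor.map_comp, hb, Functor.map_preimage]
    refine ⟨((inc Y).map b).app V g, ?_⟩
    rw [← hg, ← hb']
    rfl
  haveI : SheafOfModules.IsFiniteType (R := Y.ringCatSheaf)
      ((inc Y).obj (N₀ : QCohCat.QCoh Y)) := hN₀f
  exact Groth.Agent.Helper13.FinType.isFiniteType_of_epi ((inc Y).map N₀.arrow)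

end ACC

/-- S11129. -/
theorem main11129 (Y : Scheme.{u}) [IsNoetherian Y] (M : QCohCat.QCoh Y) :
    IsNoetherianObject M ↔ Coh.IsCoh M.obj :=
  ⟨fun h => ⟨M.property, @isFiniteType_of_isNoetherianObject _ _ M h⟩,
    isNoetherianObject_of_isCoh M⟩

end Groth.Agent.Helper14.NoethQC
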