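import Mathlib

/-!
# Universal property of the normalization: algebra
-/

set_option autoImplicit false
universe u v

namespace Groth.Agent.Helper14.NormUP

/-- `B` is integrally closed in its total ring of fractions. -/
def IntClosedTotal (B : Type u) [CommRing B] : Prop :=
  ∀ x : FractionRing B, IsIntegral B x → ∃ b : B, algebraMap B (FractionRing B) b = x

/-- a ring whose localizations at maximal ideals are integrally closed domains is integrally
closed in its total ring of fractions. -/
theorem intClosedTotal_of_local (B : Type u) [CommRing B]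
    (hB : ∀ (m : Ideal B) [m.IsPrime], ∃ (R : Type u) (_ : CommRing R) (_ : Algebra B R),
      IsLocalization.AtPrime R m ∧ IsDomain R ∧ IsIntegrallyClosed R) :
    IntClosedTotal B := by
  intro x hx
  obtain ⟨⟨u, s⟩, hus⟩ := IsLocalization.surj (nonZeroDivisors B) x
  dsimp only at hus
  let I : Ideal B :=
    { carrier := {t | ∃ c, t * u = c * (s : B)}
      add_mem' := by
        rintro t₁ t₂ ⟨c₁, h₁⟩ ⟨c₂, h₂⟩
        exact ⟨c₁ + c₂, by rw [add_mul, add_mul, h₁, h₂]⟩
      zero_mem' := ⟨0, by simp⟩
      smul_mem' := by
        rintro r t ⟨c, h⟩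
        exact ⟨r * c, by rw [smul_eq_mul, mul_assoc, h, mul_assoc]⟩ }
  have hI : I = ⊤ := by
    by_contra hne
    obtain ⟨m, hm, hIm⟩ := Ideal.exists_le_maximal I hne
    haveI := hm.isPrime
    obtain ⟨R, _, _, hloc, hdom, hic⟩ := hB m
    let L := FractionRing R
    let g : B →+* L := (algebraMap R L).comp (algebraMap B R)
    have hg : ∀ y : nonZeroDivisors B, IsUnit (g y) := by
      intro y
      have h1 : algebraMap B R (y : B) ≠ 0 := by
        intro h0
        obtain ⟨t, ht⟩ := (IsLocalization.map_eq_zero_iff m.primeCompl R (y : B)).mp h0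
        have : (t : B) = 0 := by
          have := y.2
          rw [mem_nonZeroDivisors_iff] at this
          exact this.1 _ (by rw [mul_comm]; exact ht)
        exact t.2 (this ▸ m.zero_mem)
      have h2 : g y ≠ 0 := by
        intro h0
        exact h1 ((IsFractionRing.injective R L) (by rw [map_zero]; exact h0))
      exact isUnit_iff_ne_zero.mpr h2
    let lam : FractionRing B →+* L := IsLocalization.lift (M := nonZeroDivisors B) hg
    have hlam : lam.comp (algebraMap B (FractionRing B)) = g := IsLocalization.lift_comp hg
    have hint : IsIntegral R (lam x) :=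
      IsIntegral.map_of_comp_eq (algebraMap B R) lam hlam.symm hx
    obtain ⟨r, hr⟩ := IsIntegrallyClosed.algebraMap_eq_of_integral hint
    obtain ⟨⟨b, t⟩, hbt⟩ := IsLocalization.surj m.primeCompl r
    dsimp only at hbt
    -- in L: g u * g t = g b * g s
    have hlam' : ∀ y : B, lam (algebraMap B (FractionRing B) y) = g y := fun y =>
      congrArg (fun φ : B →+* L => φ y) hlam
    have e1 : lam x * g s = g u := by
      rw [← hlam', ← hlam', ← map_mul, hus]
    have e2 : lam x * g t = g b := by
      rw [← hr]
      change algebraMap R L r * algebraMap R L (algebraMap B R t) = algebraMap R L (algebraMap B R b)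
      rw [← map_mul, hbt]
    have e3 : g (t * u) = g (b * s) := by
      rw [map_mul, map_mul, ← e1, ← e2]; ring
    have e4 : algebraMap B R ((t : B) * u) = algebraMap B R (b * (s : B)) :=
      (IsFractionRing.injective R L) e3
    obtain ⟨t', ht'⟩ := (IsLocalization.eq_iff_exists m.primeCompl R).mp e4
    have hmem : (t' : B) * (t : B) ∈ I := ⟨t' * b, by rw [mul_assoc, ht', mul_assoc]⟩
    have : (t' : B) * (t : B) ∈ m := hIm hmem
    rcases hm.isPrime.mem_or_mem this with h | h
    · exact t'.2 h
    · exact t.2 h
  have h1 : (1 : B) ∈ I := hI ▸ Submodule.mem_top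
  obtain ⟨c, hc⟩ := h1
  rw [one_mul] at hc
  refine ⟨c, ?_⟩
  have hs : IsUnit (algebraMap B (FractionRing B) (s : B)) := IsLocalization.map_units _ s
  apply hs.mul_right_cancel
  rw [hus, hc, map_mul]

/-- existence of the extension to the integral closure -/
theorem exists_extension {A : Type u} [CommRing A] {C : Type u} [CommRing C] [Algebra A C]
    [IsLocalization (nonZeroDivisors A) C] {B : Type u} [CommRing B] (β : A →+* B)
    (hβ : ∀ s ∈ nonZeroDivisors A, β s ∈ nonZeroDivisors B) (hB : IntClosedTotal B) :
    ∃ β' : integralClosure A C →+* B, β'.comp (algebraMap A (integralClosure A C)) = β := by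
  let Q := FractionRing B
  let g : A →+* Q := (algebraMap B Q).comp β
  have hg : ∀ y : nonZeroDivisors A, IsUnit (g y) := fun y =>
    IsLocalization.map_units Q (⟨β y, hβ y y.2⟩ : nonZeroDivisors B)
  let γ : C →+* Q := IsLocalization.lift hg
  have hγ : γ.comp (algebraMap A C) = g := IsLocalization.lift_comp hg
  have hγ' : ∀ a : A, γ (algebraMap A C a) = algebraMap B Q (β a) := fun a =>
    congrArg (fun φ : A →+* Q => φ a) hγ
  have hint : ∀ a' : integralClosure A C, IsIntegral B (γ a'.1) := fun a' =>
    IsIntegral.map_of_comp_eq β γ hγ.symm a'.2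
  have hex : ∀ a' : integralClosure A C, ∃ b : B, algebraMap B Q b = γ a'.1 := fun a' =>
    hB _ (hint a')
  have hinj : Function.Injective (algebraMap B Q) := IsLocalization.injective Q (le_refl _)
  choose f hf using hex
  refine ⟨{ toFun := f, map_one' := ?_, map_mul' := ?_, map_zero' := ?_, map_add' := ?_ }, ?_⟩
  · apply hinj; rw [hf]; simp
  · intro x y; apply hinj; rw [hf, map_mul, hf, hf]; simp
  · apply hinj; rw [hf]; simp
  · intro x y; apply hinj; rw [hf, map_add, hf, hf]; simp
  · ext a
    apply hinj
    change algebraMap B Q (f (algebraMap A (integralClosure A C) a)) = _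
    rw [hf]
    exact hγ' a

/-- uniqueness of the extension to the integral closure -/
theorem extension_unique {A : Type u} [CommRing A] {C : Type u} [CommRing C] [Algebra A C]
    [IsLocalization (nonZeroDivisors A) C] {B : Type u} [CommRing B]
    (β₁ β₂ : integralClosure A C →+* B)
    (h : β₁.comp (algebraMap A (integralClosure A C)) =
      β₂.comp (algebraMap A (integralClosure A C)))
    (hβ : ∀ s ∈ nonZeroDivisors A,
      β₁ (algebraMap A (integralClosure A C) s) ∈ nonZeroDivisors B) : β₁ = β₂ := by
  ext a'
  obtain ⟨⟨a, s⟩, has⟩ := IsLocalization.surj (nonZeroDivisors A) (a' : C)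
  dsimp only at has
  have h' : ∀ a : A, β₁ (algebraMap A (integralClosure A C) a) =
      β₂ (algebraMap A (integralClosure A C) a) := fun a =>
    congrArg (fun φ : A →+* B => φ a) h
  have e : a' * algebraMap A (integralClosure A C) (s : A) =
      algebraMap A (integralClosure A C) a := Subtype.ext has
  have e1 := congrArg β₁ e
  have e2 := congrArg β₂ e
  rw [map_mul] at e1 e2
  rw [← h', ← h'] at e2
  have e3 : (β₁ a' - β₂ a') * β₁ (algebraMap A (integralClosure A C) (s : A)) = 0 := by
    rw [sub_mul, e1, e2, sub_self]
  have := (mem_nonZeroDivisors_iff.mp (hβ s s.2)).2 _ e3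
  exact sub_eq_zero.mp this

end Groth.Agent.Helper14.NormUP
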