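import Mathlib
import Groth.Prelude
import Groth.Agent.Lib.Helper14.NormUPA
import Groth.Agent.Lib.Helper14.MaxPoints

/-!
# Universal property of the normalization: scheme-theoretic lemmas
-/

set_option autoImplicit false
universe u
open CategoryTheory AlgebraicGeometry TopologicalSpace

namespace Groth.Agent.Helper14.NormUP

variable {X : Scheme.{u}} [IsIntegral X]

/-- hypotheses on `t : T ⟶ X`: `T` is normal and its maximal points map to the generic point. -/
structure Good {T : Scheme.{u}} (t : T ⟶ X) : Prop where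
  dom : ∀ x : T, IsDomain (T.presheaf.stalk x)
  ic : ∀ x : T, IsIntegrallyClosed (T.presheaf.stalk x)
  gen : ∀ ζ : T, (∀ ζ' : T, ζ' ⤳ ζ → ζ' = ζ) → t.base ζ = genericPoint X

theorem Good.comp {T T' : Scheme.{u}} {t : T ⟶ X} (ht : Good t) (e : T' ⟶ T)
    [IsOpenImmersion e] : Good (e ≫ t) := by
  have heq : ∀ x : T', T'.presheaf.stalk x ≃+* T.presheaf.stalk (e.base x) := fun x =>
    (asIso (e.stalkMap x)).commRingCatIsoToRingEquiv.symm
  refine ⟨fun x => ?_, fun x => ?_, fun ζ hζ => ?_⟩
  · haveI := ht.dom (e.base x)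
    exact (heq x).toMulEquiv.isDomain _
  · haveI := ht.ic (e.base x)
    exact IsIntegrallyClosed.of_equiv (heq x).symm
  · have hmax : ∀ z' : T, z' ⤳ e.base ζ → z' = e.base ζ := by
      intro z' hz'
      have hmem : z' ∈ Set.range e.base :=
        hz'.mem_open e.isOpenEmbedding.isOpen_range ⟨ζ, rfl⟩
      obtain ⟨ζ', rfl⟩ := hmem
      have : ζ' ⤳ ζ := e.isOpenEmbedding.isInducing.specializes_iff.mp hz'
      rw [hζ ζ' this]
    have := ht.gen (e.base ζ) hmax
    simpa using this

theorem Good.isReduced {T : Scheme.{u}} {t : T ⟶ X} (ht : Good t) : IsReduced T := by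
  haveI : ∀ x : T, _root_.IsReduced (T.presheaf.stalk x) := fun x => by
    haveI := ht.dom x
    infer_instance
  exact isReduced_of_isReduced_stalk T

/-- nonzero functions on `X` pull back to nonzerodivisors. -/
theorem Good.appLE_mem_nonZeroDivisors {T : Scheme.{u}} {t : T ⟶ X} (ht : Good t)
    (U : X.Opens) (V : T.Opens) (e : V ≤ t ⁻¹ᵁ U) (s : Γ(X, U)) (hs : s ≠ 0) :
    (t.appLE U V e).hom s ∈ nonZeroDivisors Γ(T, V) := by
  haveI := ht.isReduced
  rw [mem_nonZeroDivisors_iff_right]
  intro c hc
  rw [← basicOpen_eq_bot_iff]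
  by_contra hne
  obtain ⟨z, hz⟩ : ∃ z : T, z ∈ T.basicOpen c := by
    by_contra hcon
    apply hne
    ext z
    simp only [TopologicalSpace.Opens.coe_bot, Set.mem_empty_iff_false, iff_false]
    exact fun hz => hcon ⟨z, hz⟩
  obtain ⟨ζ, hζmax, hζz⟩ := MaxPoints.exists_maximal_specializes z
  have hζc : ζ ∈ T.basicOpen c := hζz.mem_open (T.basicOpen c).isOpen hz
  have hζV : ζ ∈ V := T.basicOpen_le c hζc
  have hgen : t.base ζ = genericPoint X := ht.gen ζ hζmax
  have hη : genericPoint X ∈ X.basicOpen s := by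
    show genericPoint X ∈ (X.basicOpen s : Set X)
    rw [(genericPoint_spec X).mem_open_set_iff (X.basicOpen s).isOpen]
    have : X.basicOpen s ≠ ⊥ := fun h => hs ((basicOpen_eq_bot_iff s).mp h)
    rw [Set.univ_inter]
    by_contra hemp
    apply this
    ext y
    simp only [TopologicalSpace.Opens.coe_bot, Set.mem_empty_iff_false, iff_false]
    exact fun hy => hemp ⟨y, hy⟩
  have hζs : ζ ∈ T.basicOpen ((t.appLE U V e).hom s) := by
    rw [Scheme.basicOpen_appLE]
    exact ⟨hζV, by show t.base ζ ∈ X.basicOpen s; rw [hgen]; exact hη⟩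
  have hmul : ζ ∈ T.basicOpen (c * (t.appLE U V e).hom s) := by
    rw [Scheme.basicOpen_mul]; exact ⟨hζc, hζs⟩
  rw [hc, Scheme.basicOpen_zero] at hmul
  exact hmul

/-- sections of a normal scheme over an affine open are integrally closed in their total ring of
fractions -/
theorem Good.intClosedTotal {T : Scheme.{u}} {t : T ⟶ X} (ht : Good t) (V : T.Opens)
    (hV : IsAffineOpen V) : IntClosedTotal Γ(T, V) := by
  apply intClosedTotal_of_local
  intro m _
  let y : PrimeSpectrum Γ(T, V) := ⟨m, inferInstance⟩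
  have hy : hV.fromSpec.base y ∈ V := by
    have : hV.fromSpec.base y ∈ Set.range hV.fromSpec.base := ⟨y, rfl⟩
    rw [hV.range_fromSpec] at this
    exact this
  exact ⟨T.presheaf.stalk (hV.fromSpec.base y), inferInstance,
    TopCat.Presheaf.algebra_section_stalk T.presheaf ⟨hV.fromSpec.base y, hy⟩,
    hV.isLocalization_stalk' y hy, ht.dom _, ht.ic _⟩

/-- the preimage of an open containing the generic point under `Spec K(X) ⟶ X` is everything -/
theorem fromSpecStalk_preimage_eq_top (U : X.Opens) (hη : genericPoint X ∈ U) :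
    (X.fromSpecStalk (genericPoint X)) ⁻¹ᵁ U = ⊤ := by
  rw [eq_top_iff]
  intro p _
  have h1 : (X.fromSpecStalk (genericPoint X)).base p ∈
      Set.range (X.fromSpecStalk (genericPoint X)).base := ⟨p, rfl⟩
  rw [Scheme.range_fromSpecStalk] at h1
  exact h1.mem_open U.isOpen hη

set_option backward.isDefEq.respectTransparency false in
/-- sections of `Spec K(X)` over the preimage of an affine open form the fraction field -/
theorem isLocalization_app_fromSpecStalk (U : X.Opens) (hU : IsAffineOpen U)
    (hη : genericPoint X ∈ U) :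
    letI := ((X.fromSpecStalk (genericPoint X)).app U).hom.toAlgebra
    IsLocalization (nonZeroDivisors Γ(X, U))
      Γ(Spec (X.presheaf.stalk (genericPoint X)), (X.fromSpecStalk (genericPoint X)) ⁻¹ᵁ U) := by
  haveI : Nonempty U := ⟨⟨genericPoint X, hη⟩⟩
  haveI : IsFractionRing Γ(X, U) X.functionField :=
    functionField_isFractionRing_of_isAffineOpen X U hU
  have htop := fromSpecStalk_preimage_eq_top U hη
  let ι : X.presheaf.stalk (genericPoint X) ⟶
      Γ(Spec (X.presheaf.stalk (genericPoint X)), (X.fromSpecStalk (genericPoint X)) ⁻¹ᵁ U) :=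
    (Scheme.ΓSpecIso (X.presheaf.stalk (genericPoint X))).inv ≫
      (Spec (X.presheaf.stalk (genericPoint X))).presheaf.map (homOfLE le_top).op
  haveI : IsIso ((Spec (X.presheaf.stalk (genericPoint X))).presheaf.map
      (homOfLE (le_top : (X.fromSpecStalk (genericPoint X)) ⁻¹ᵁ U ≤ ⊤)).op) := by
    have : (homOfLE (le_top : (X.fromSpecStalk (genericPoint X)) ⁻¹ᵁ U ≤ ⊤)) =
        eqToHom htop := Subsingleton.elim _ _
    rw [this]
    infer_instance
  haveI : IsIso ι := by dsimp only [ι]; infer_instance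
  let e : X.functionField ≃+* Γ(Spec (X.presheaf.stalk (genericPoint X)),
      (X.fromSpecStalk (genericPoint X)) ⁻¹ᵁ U) := (asIso ι).commRingCatIsoToRingEquiv
  have key : ((X.fromSpecStalk (genericPoint X)).app U).hom =
      e.toRingHom.comp (algebraMap Γ(X, U) X.functionField) := by
    rw [Scheme.fromSpecStalk_app hη]
    rfl
  rw [key]
  exact (IsLocalization.isLocalization_iff_of_ringEquiv (nonZeroDivisors Γ(X, U)) e).mp
    inferInstance

end Groth.Agent.Helper14.NormUP
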