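import Mathlib
import Groth.Agent.Lib.Helper14.NormUPB
import Groth.Agent.Lib.Helper12.NormLoc
import Groth.Agent.Lib.Helper16.Sch.SmoothLocusBC3

/-!
# Generic fibre of the normalization in a finite field extension (helper14)
-/

set_option autoImplicit false
set_option linter.unusedSectionVars false
set_option linter.unusedVariables false
set_option linter.style.haveILetI false
universe u
open CategoryTheory CategoryTheory.Limits AlgebraicGeometry TopologicalSpace

namespace Groth.Agent.Helper14.NormGen

variable {X : Scheme.{u}} [IsIntegral X]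

/-- the generic point `Spec K(X) ⟶ X` is affine-locally a localization -/
theorem fromSpecStalk_locHyp (y : ↥(Spec (X.presheaf.stalk (genericPoint X)))) :
    ∃ (U : X.Opens) (V : (Spec (X.presheaf.stalk (genericPoint X))).Opens)
      (_ : IsAffineOpen U) (_ : IsAffineOpen V)
      (hVU : V ≤ (X.fromSpecStalk (genericPoint X)) ⁻¹ᵁ U), y ∈ V ∧
      ∃ M : Submonoid Γ(X, U),
        letI := ((X.fromSpecStalk (genericPoint X)).appLE U V hVU).hom.toAlgebra
        IsLocalization M Γ(Spec (X.presheaf.stalk (genericPoint X)), V) := by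
  obtain ⟨U, hU, hηU, -⟩ :=
    exists_isAffineOpen_mem_and_subset (X := X) (x := genericPoint X) (U := ⊤) trivial
  have htop := Groth.Agent.Helper14.NormUP.fromSpecStalk_preimage_eq_top U hηU
  have hV : IsAffineOpen ((X.fromSpecStalk (genericPoint X)) ⁻¹ᵁ U) := by
    rw [htop]; exact isAffineOpen_top _
  refine ⟨U, (X.fromSpecStalk (genericPoint X)) ⁻¹ᵁ U, hU, hV, le_rfl, ?_,
    nonZeroDivisors Γ(X, U), ?_⟩
  · rw [htop]; trivial
  · have := Groth.Agent.Helper14.NormUP.isLocalization_app_fromSpecStalk U hU hηU
    rw [← Scheme.Hom.app_eq_appLE]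
    exact this

section Fibre

variable (L : Type u) [Field L] [Algebra X.functionField L]
  [FiniteDimensional X.functionField L]
  [QuasiCompact (Spec.map (CommRingCat.ofHom (algebraMap X.functionField L)) ≫
    X.fromSpecStalk (genericPoint X))]
  [QuasiSeparated (Spec.map (CommRingCat.ofHom (algebraMap X.functionField L)) ≫
    X.fromSpecStalk (genericPoint X))]

local notation "𝔪" => Spec.map (CommRingCat.ofHom (algebraMap X.functionField L))
local notation "sK" => Scheme.fromSpecStalk X (genericPoint X)
local notation "sL" => (Spec.map (CommRingCat.ofHom (algebraMap X.functionField L)) ≫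
    Scheme.fromSpecStalk X (genericPoint X))

/-- the canonical map from `Spec L` to the generic fibre of the normalization -/
noncomputable def c : Spec (CommRingCat.of L) ⟶ pullback (Scheme.Hom.fromNormalization sL) sK :=
  pullback.lift (Scheme.Hom.toNormalization sL) 𝔪
    (Scheme.Hom.toNormalization_fromNormalization _)

theorem c_fst : c L ≫ pullback.fst _ _ = Scheme.Hom.toNormalization sL := pullback.lift_fst _ _ _

theorem c_snd : c L ≫ pullback.snd _ _ = 𝔪 := pullback.lift_snd _ _ _

instance isFinite_m : IsFinite 𝔪 := by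
  rw [IsFinite.SpecMap_iff]
  show (algebraMap X.functionField L).Finite
  exact RingHom.finite_algebraMap.mpr inferInstance

instance isIso_c : IsIso (c (X := X) L) := by
  haveI : Flat sK := Groth.Agent.Helper16.SmoothLocusBC.flat_fromSpecStalk X (genericPoint X)
  haveI hnp : IsIso (Scheme.Hom.normalizationPullback sL sK) :=
    Groth.Agent.Helper12.NormLoc.isIso_normalizationPullback_of_isLocalization _ _
      (fromSpecStalk_locHyp (X := X))
  let p₁ := pullback.fst sL sK
  let p₂ := pullback.snd sL sK
  let i : Spec (CommRingCat.of L) ⟶ pullback sL sK :=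
    pullback.lift (𝟙 _) 𝔪 (Category.id_comp _)
  have hi1 : i ≫ p₁ = 𝟙 _ := pullback.lift_fst _ _ _
  have hi2 : i ≫ p₂ = 𝔪 := pullback.lift_snd _ _ _
  have hp₂ : p₂ = p₁ ≫ 𝔪 := by
    rw [← cancel_mono sK, Category.assoc]
    exact pullback.condition.symm
  have hi3 : p₁ ≫ i = 𝟙 _ := by
    apply pullback.hom_ext
    · rw [Category.assoc, hi1, Category.comp_id, Category.id_comp]
    · rw [Category.assoc, hi2, Category.id_comp]
      exact hp₂.symm
  haveI : IsIso p₁ := ⟨i, hi3, hi1⟩
  haveI : IsFinite p₂ := by rw [hp₂]; infer_instance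
  haveI : IsIso (Scheme.Hom.toNormalization p₂) := inferInstance
  have hc : c L = i ≫ Scheme.Hom.toNormalization p₂ ≫ Scheme.Hom.normalizationPullback sL sK := by
    apply pullback.hom_ext
    · rw [c_fst]
      simp only [Category.assoc]
      rw [Scheme.Hom.toNormalization_normalizationPullback_fst, ← Category.assoc]
      show _ = (i ≫ p₁) ≫ _
      rw [hi1, Category.id_comp]
    · rw [c_snd]
      simp only [Category.assoc]
      rw [Scheme.Hom.normalizationPullback_snd, Scheme.Hom.toNormalization_fromNormalization]
      exact hi2.symm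
  have hiiso : IsIso i := ⟨p₁, hi1, hi3⟩
  rw [hc]
  infer_instance

end Fibre

end Groth.Agent.Helper14.NormGen
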