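import Mathlib
import Groth.Agent.Lib.Helper14.NormGen1
import Groth.Agent.Lib.Helper14.AffStrat
import Groth.Agent.Lib.Helper14.DomMax
import Groth.Agent.Lib.Helper1.NAff15
import Groth.Agent.Lib.Helper1.NAff12
import Groth.Agent.Lib.Helper18.StalkBC
import Groth.Agent.Lib.Helper7.ZMT1
import Groth.Agent.Lib.Helper16.Sch.NormalEtaleSch

/-!
# A finite étale cover with generic fibre `Spec L` is the normalization in `L` (helper14)
-/

set_option autoImplicit false
set_option linter.unusedSectionVars false
set_option linter.unusedVariables false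
set_option linter.style.haveILetI false
universe u
open CategoryTheory CategoryTheory.Limits AlgebraicGeometry TopologicalSpace

namespace Groth.Agent.Helper14.NormGen

variable {X : Scheme.{u}} [IsIntegral X]

section Desc

variable (L : Type u) [Field L] [Algebra X.functionField L]
  [FiniteDimensional X.functionField L]
  [QuasiCompact (Spec.map (CommRingCat.ofHom (algebraMap X.functionField L)) ≫
    X.fromSpecStalk (genericPoint X))]
  [QuasiSeparated (Spec.map (CommRingCat.ofHom (algebraMap X.functionField L)) ≫
    X.fromSpecStalk (genericPoint X))]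

local notation "𝔪" => Spec.map (CommRingCat.ofHom (algebraMap X.functionField L))
local notation "sK" => Scheme.fromSpecStalk X (genericPoint X)
local notation "sL" => (Spec.map (CommRingCat.ofHom (algebraMap X.functionField L)) ≫
    Scheme.fromSpecStalk X (genericPoint X))
set_option quotPrecheck false in
local notation "cp" => (IsLocalRing.closedPoint (CommRingCat.of L) : ↥(Spec (CommRingCat.of L)))

/-- `O_{N, η} ⟶ L` is bijective for `L/K` finite -/
theorem bijective_stalkClosedPointTo_toNormalization :
    Function.Bijective (Scheme.stalkClosedPointTo (Scheme.Hom.toNormalization sL)).hom := by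
  obtain ⟨_, -, -, -, hinj, hrange⟩ :=
    Groth.Agent.Helper1.NAff.main4448 X L (algebraMap X.functionField L)
  refine ⟨hinj, ?_⟩
  rw [← Set.range_eq_univ, hrange, Set.eq_univ_iff_forall]
  intro y
  have hy : IsIntegral X.functionField y := Algebra.IsIntegral.isIntegral y
  obtain ⟨q, hq, hq0⟩ := hy
  exact ⟨q, hq, hq0⟩

theorem bijective_stalkClosedPointTo_of_flat_preimm {Z : Scheme.{u}}
    (t : Spec (CommRingCat.of L) ⟶ Z) [Flat t] [IsPreimmersion t] :
    Function.Bijective (Scheme.stalkClosedPointTo t).hom := by
  have h1 := Groth.Agent.Helper18.StalkBC.bijective_stalkMap t cp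
  have h2 : Function.Bijective (stalkClosedPointIso (CommRingCat.of L)).hom.hom :=
    (ConcreteCategory.isIso_iff_bijective _).mp inferInstance
  show Function.Bijective (t.stalkMap cp ≫ (stalkClosedPointIso (CommRingCat.of L)).hom).hom
  rw [CommRingCat.hom_comp]
  exact h2.comp h1

theorem exists_iso_of_generic_fibre (hX : Pi1.IsNormalScheme X) {Z : Scheme.{u}} (g : Z ⟶ X)
    [IsFinite g] [Etale g] (t : Spec (CommRingCat.of L) ⟶ Z)
    (hpb : IsPullback t 𝔪 g sK) :
    ∃ d : Scheme.Hom.normalization sL ≅ Z, d.hom ≫ g = Scheme.Hom.fromNormalization sL := by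
  have ht : t ≫ g = sL := hpb.w
  haveI : Flat sK := Groth.Agent.Helper16.SmoothLocusBC.flat_fromSpecStalk X (genericPoint X)
  haveI : Flat t := MorphismProperty.of_isPullback (P := @Flat) hpb.flip inferInstance
  haveI : IsPreimmersion t := MorphismProperty.of_isPullback (P := @IsPreimmersion) hpb.flip
    inferInstance
  -- `Z` is normal
  have hZn : Pi1.IsNormalScheme Z := by
    intro z
    haveI := (hX (g z)).1
    haveI := (hX (g z)).2
    exact Groth.Agent.Helper16.NormalEtale.stalk_normal_of_etale g z
  -- the only point over the generic point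
  let ζ : Z := t cp
  have hfib : ∀ z : Z, g z = genericPoint X → z = ζ := by
    intro z hz
    have hz' : g z = sK (IsLocalRing.closedPoint (X.presheaf.stalk (genericPoint X))) := by
      rw [hz]; exact Scheme.fromSpecStalk_closedPoint.symm
    obtain ⟨w, hw, -⟩ := Scheme.Pullback.exists_preimage_pullback (f := g) (g := sK) z _ hz'
    have hw' : hpb.isoPullback.hom (hpb.isoPullback.inv w) = w := by
      rw [← Scheme.Hom.comp_apply, Iso.inv_hom_id]; rfl
    have hsub : hpb.isoPullback.inv w = cp :=
      Subsingleton.elim (α := PrimeSpectrum L) _ _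
    rw [← hw, ← hw', hsub, ← Scheme.Hom.comp_apply, hpb.isoPullback_hom_fst]
  have hmax : ∀ z : Z, (∀ z', z' ⤳ z → z' = z) → z = ζ := by
    intro z hz
    apply hfib
    have h1 : genericPoint X ⤳ g z := genericPoint_specializes _
    obtain ⟨z', hz', hgz'⟩ := Flat.generalizingMap g h1
    rw [← hgz', hz z' hz']
  have hgen : ∀ z : Z, ζ ⤳ z := by
    intro z
    obtain ⟨η', hη', hη'z⟩ := Groth.Agent.Helper14.AffStrat.exists_gen_specializes z
    have : η' = ζ := hmax η' (fun z' hz' =>
      Groth.Agent.Helper14.DomMax.eq_of_specializes_of_mem_irreducibleComponents hη' hz')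
    rw [← this]; exact hη'z
  have hcl : closure ({ζ} : Set Z) = Set.univ := by
    rw [Set.eq_univ_iff_forall]
    intro z
    exact specializes_iff_mem_closure.mp (hgen z)
  haveI : IrreducibleSpace Z := by
    rw [irreducibleSpace_def, Set.top_eq_univ, ← hcl]
    exact isIrreducible_singleton.closure
  haveI : IsIntegral Z := Groth.Agent.Helper1.NAff.isIntegral_of_normal_irreducible hZn
  have hζ : genericPoint Z = ζ := (genericPoint_spec Z).eq hcl
  -- the comparison map
  let τ := Scheme.Hom.toNormalization sL
  let d : Scheme.Hom.normalization sL ⟶ Z := Scheme.Hom.normalizationDesc sL t g ht.symm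
  have hd : d ≫ g = Scheme.Hom.fromNormalization sL := Scheme.Hom.normalizationDesc_comp _ _ _ _
  have hτd : τ ≫ d = t := Scheme.Hom.toNormalization_normalizationDesc _ _ _ _
  have hτcp : τ cp = genericPoint (Scheme.Hom.normalization sL) :=
    Groth.Agent.Helper1.NAff.toNormalization_closedPoint X L (algebraMap X.functionField L)
  have hdgen : d (genericPoint (Scheme.Hom.normalization sL)) = genericPoint Z := by
    rw [← hτcp, ← Scheme.Hom.comp_apply, hτd, hζ]
  haveI : Flat (τ ≫ d) := hτd ▸ inferInstance
  haveI : IsPreimmersion (τ ≫ d) := hτd ▸ inferInstance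
  have h1 := bijective_stalkClosedPointTo_of_flat_preimm L (τ ≫ d)
  rw [Scheme.stalkClosedPointTo_comp] at h1
  have h1' : Function.Bijective (fun x => (Scheme.stalkClosedPointTo τ).hom
      ((d.stalkMap (τ cp)).hom x)) := h1
  have h2 := bijective_stalkClosedPointTo_toNormalization (X := X) L
  have h3 : Function.Bijective (d.stalkMap (τ cp)).hom := by
    refine ⟨?_, ?_⟩
    · intro a b hab
      exact h1'.1 (congrArg (Scheme.stalkClosedPointTo τ).hom hab)
    · intro y
      obtain ⟨x, hx⟩ := h1'.2 ((Scheme.stalkClosedPointTo τ).hom y)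
      exact ⟨x, h2.1 hx⟩
  have h4 : IsIso (d.stalkMap (τ cp)) := (ConcreteCategory.isIso_iff_bijective _).mpr h3
  have hbir : IsIso (d.stalkMap (genericPoint (Scheme.Hom.normalization sL))) :=
    (Groth.Agent.Helper7.ZMT1.isIso_stalkMap_congr_point d hτcp).mp h4
  haveI : IsIso d := Groth.Agent.Helper7.ZMT1.isIso_of_integral_birational
    (fun y => (hZn y).2) d hdgen hbir
  exact ⟨asIso d, hd⟩

end Desc

end Groth.Agent.Helper14.NormGen
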