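import Mathlib
import Groth.Agent.Lib.Helper12.NormNormal

/-!
# Normalization in a normal integral scheme (no Noetherian hypothesis) (helper14)
-/

set_option autoImplicit false
set_option linter.unusedSectionVars false
set_option linter.unusedVariables false
set_option linter.style.haveILetI false
universe u
open CategoryTheory CategoryTheory.Limits AlgebraicGeometry TopologicalSpace

namespace Groth.Agent.Helper14.NormLF1

variable (X : Scheme.{u})

/-- copy of `Helper7.NormalSections.exists_local_div` with the non-vanishing of germs of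
nonzerodivisors as a hypothesis. -/
theorem exists_local_div (hX : Pi1.IsNormalScheme X) (W : X.Opens)
    (hnz : ∀ s ∈ nonZeroDivisors Γ(X, W), ∀ (w : X) (hw : w ∈ W),
      (X.presheaf.germ W w hw).hom s ≠ 0)
    (x : FractionRing Γ(X, W)) (hx : IsIntegral Γ(X, W) x) (a s : Γ(X, W))
    (hxas : x * algebraMap Γ(X, W) (FractionRing Γ(X, W)) s =
      algebraMap Γ(X, W) (FractionRing Γ(X, W)) a) (w : X) (hw : w ∈ W) :
    ∃ (U : X.Opens) (_ : w ∈ U) (hUW : U ≤ W) (c : Γ(X, U)),
      (X.presheaf.map (homOfLE hUW).op).hom a = (X.presheaf.map (homOfLE hUW).op).hom s * c := by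
  have hdom : ∀ x : X, IsDomain (X.presheaf.stalk x) := fun x => (hX x).1
  haveI := hdom w
  haveI := (hX w).2
  let g : Γ(X, W) →+* X.presheaf.stalk w := (X.presheaf.germ W w hw).hom
  let K := FractionRing (X.presheaf.stalk w)
  have hinj : Function.Injective (algebraMap (X.presheaf.stalk w) K) :=
    IsFractionRing.injective _ K
  have hg : ∀ t : nonZeroDivisors Γ(X, W),
      IsUnit (((algebraMap (X.presheaf.stalk w) K).comp g) t) := by
    intro t
    apply IsUnit.mk0
    rw [RingHom.comp_apply]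
    intro h0
    exact hnz t.1 t.2 w hw (hinj (h0.trans (map_zero _).symm))
  let ψ : FractionRing Γ(X, W) →+* K := IsLocalization.lift hg
  have hψ : ∀ r, ψ (algebraMap _ _ r) = algebraMap _ K (g r) := fun r =>
    IsLocalization.lift_eq hg r
  have hint : IsIntegral (X.presheaf.stalk w) (ψ x) := by
    refine IsIntegral.map_of_comp_eq g ψ ?_ hx
    ext r
    simp only [RingHom.comp_apply]
    exact (hψ r).symm
  obtain ⟨c₀, hc₀⟩ := IsIntegrallyClosed.isIntegral_iff.mp hint
  have hdiv : g a = g s * c₀ := by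
    apply hinj
    rw [map_mul, hc₀, ← hψ, ← hψ, ← map_mul, mul_comm, hxas]
  obtain ⟨U₀, hwU₀, c₁, hc₁⟩ := X.presheaf.exists_germ_eq c₀
  have hwU₀W : w ∈ U₀ ⊓ W := ⟨hwU₀, hw⟩
  let t : Γ(X, U₀ ⊓ W) := (X.presheaf.map (homOfLE (inf_le_right : U₀ ⊓ W ≤ W)).op).hom s *
    (X.presheaf.map (homOfLE (inf_le_left : U₀ ⊓ W ≤ U₀)).op).hom c₁
  have hgerm : (X.presheaf.germ W w hw).hom a = (X.presheaf.germ (U₀ ⊓ W) w hwU₀W).hom t := by
    simp only [t, map_mul]
    rw [TopCat.Presheaf.germ_res_apply, TopCat.Presheaf.germ_res_apply, hc₁]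
    exact hdiv
  obtain ⟨U, hwU, i₁, i₂, heq⟩ := X.presheaf.germ_eq w hw hwU₀W a t hgerm
  refine ⟨U, hwU, i₁.le, (X.presheaf.map (i₂ ≫ homOfLE (inf_le_left : U₀ ⊓ W ≤ U₀)).op).hom c₁, ?_⟩
  have heq' : (X.presheaf.map i₁.op).hom a = (X.presheaf.map i₂.op).hom t := heq
  have e1 : (X.presheaf.map (homOfLE i₁.le).op).hom a = (X.presheaf.map i₁.op).hom a := rfl
  rw [e1, heq']
  simp only [t, map_mul]
  congr 1
  · rw [← RingHom.comp_apply, ← CommRingCat.hom_comp, ← X.presheaf.map_comp]
    rfl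
  · rw [← RingHom.comp_apply, ← CommRingCat.hom_comp, ← X.presheaf.map_comp]
    rfl

/-- copy of `Helper7.NormalSections.intClosedInTotal_sections` with the non-vanishing of germs of
nonzerodivisors as a hypothesis. -/
theorem intClosedInTotal_sections (hX : Pi1.IsNormalScheme X) (W : X.Opens)
    (hnz : ∀ s ∈ nonZeroDivisors Γ(X, W), ∀ (w : X) (hw : w ∈ W),
      (X.presheaf.germ W w hw).hom s ≠ 0) :
    Groth.Agent.Lib.Helper26.NormInt2.IntClosedInTotal Γ(X, W) := by
  intro x hx
  have hdom : ∀ x : X, IsDomain (X.presheaf.stalk x) := fun x => (hX x).1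
  obtain ⟨⟨a, ⟨s, hs⟩⟩, hxas⟩ := IsLocalization.surj (nonZeroDivisors Γ(X, W)) x
  have hxas' : x * algebraMap Γ(X, W) (FractionRing Γ(X, W)) s =
      algebraMap Γ(X, W) (FractionRing Γ(X, W)) a := hxas
  have loc : ∀ w : W, ∃ (U : X.Opens) (_ : w.1 ∈ U) (hUW : U ≤ W) (c : Γ(X, U)),
      (X.presheaf.map (homOfLE hUW).op).hom a = (X.presheaf.map (homOfLE hUW).op).hom s * c :=
    fun w => exists_local_div X hX W hnz x hx a s hxas' w.1 w.2
  choose U hwU hUW c hc using loc
  have compat : TopCat.Presheaf.IsCompatible X.sheaf.1 U c := by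
    intro w w'
    apply TopCat.Presheaf.section_ext X.sheaf (U w ⊓ U w')
    intro z hz
    haveI := hdom z
    have hzW : z ∈ W := hUW w hz.1
    have hsz : (X.presheaf.germ W z hzW).hom s ≠ 0 := hnz s hs z hzW
    have key : ∀ (w₁ : W) (hz₁ : z ∈ U w₁), (X.presheaf.germ W z hzW).hom a =
        (X.presheaf.germ W z hzW).hom s * (X.presheaf.germ (U w₁) z hz₁).hom (c w₁) := by
      intro w₁ hz₁
      have h1 := congrArg (X.presheaf.germ (U w₁) z hz₁).hom (hc w₁)
      rw [map_mul, TopCat.Presheaf.germ_res_apply, TopCat.Presheaf.germ_res_apply] at h1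
      exact h1
    have h2 := (key w hz.1).symm.trans (key w' hz.2)
    have h3 := mul_left_cancel₀ hsz h2
    have e1 := TopCat.Presheaf.germ_res_apply X.presheaf (Opens.infLELeft (U w) (U w')) z hz (c w)
    have e2 := TopCat.Presheaf.germ_res_apply X.presheaf (Opens.infLERight (U w) (U w')) z hz
      (c w')
    exact e1.trans (h3.trans e2.symm)
  obtain ⟨d, hd, -⟩ : ∃! d : Γ(X, W), ∀ w : W,
      (X.presheaf.map (homOfLE (hUW w)).op).hom d = c w :=
    X.sheaf.existsUnique_gluing' U W (fun w => homOfLE (hUW w))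
      (fun z hz => Opens.mem_iSup.mpr ⟨⟨z, hz⟩, hwU ⟨z, hz⟩⟩) c compat
  have had : a = s * d := by
    apply TopCat.Presheaf.section_ext X.sheaf W
    intro z hz
    change (X.presheaf.germ W z hz).hom a = (X.presheaf.germ W z hz).hom (s * d)
    have h1 := congrArg (X.presheaf.germ (U ⟨z, hz⟩) z (hwU ⟨z, hz⟩)).hom (hc ⟨z, hz⟩)
    rw [map_mul, TopCat.Presheaf.germ_res_apply, TopCat.Presheaf.germ_res_apply] at h1
    rw [map_mul, h1, ← hd ⟨z, hz⟩, TopCat.Presheaf.germ_res_apply]
  refine ⟨d, ?_⟩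
  have hu : IsUnit (algebraMap Γ(X, W) (FractionRing Γ(X, W)) s) :=
    IsLocalization.map_units _ (⟨s, hs⟩ : nonZeroDivisors Γ(X, W))
  apply hu.mul_right_cancel
  rw [hxas', had, map_mul, mul_comm]

/-- sections of a normal integral scheme over a nonempty open form an integrally closed domain -/
theorem isIntegrallyClosed_sections {X : Scheme.{u}} [IsIntegral X]
    (hX : Pi1.IsNormalScheme X) (W : X.Opens) [Nonempty W] : IsIntegrallyClosed Γ(X, W) := by
  rw [isIntegrallyClosed_iff (FractionRing Γ(X, W))]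
  intro x hx
  refine intClosedInTotal_sections X hX W ?_ x hx
  intro s hs w hw h0
  have hinj := germ_injective_of_isIntegral X w hw
  have : s = 0 := hinj (h0.trans (map_zero _).symm)
  exact nonZeroDivisors.ne_zero hs this

set_option backward.isDefEq.respectTransparency false in
/-- the relative normalization of `Y` in a normal integral scheme `X` is normal
(copy of helper12's proof without the Noetherian hypothesis) -/
theorem stalk_normal_normalization_of_isIntegral {X Y : Scheme.{u}} [IsIntegral X]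
    (hX : Pi1.IsNormalScheme X) (f : X ⟶ Y) [QuasiCompact f]
    [QuasiSeparated f] (z : f.normalization) :
    IsDomain (f.normalization.presheaf.stalk z) ∧
      IsIntegrallyClosed (f.normalization.presheaf.stalk z) := by
  refine ⟨inferInstance, ?_⟩
  obtain ⟨_, ⟨U, hU, rfl⟩, hxU, -⟩ := Y.isBasis_affineOpens.exists_subset_of_mem_open
    (Set.mem_univ (f.fromNormalization z)) isOpen_univ
  have hW : IsAffineOpen (f.fromNormalization ⁻¹ᵁ U) := hU.preimage f.fromNormalization
  have hz : z ∈ f.fromNormalization ⁻¹ᵁ U := hxU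
  haveI hdomW : IsDomain Γ(f.normalization, f.fromNormalization ⁻¹ᵁ U) :=
    @IsIntegral.component_integral _ _ (f.fromNormalization ⁻¹ᵁ U) ⟨⟨z, hz⟩⟩
  letI := (f.app U).hom.toAlgebra
  let eC := (f.normalizationObjIso hU).commRingCatIsoToRingEquiv
  haveI : Nontrivial (integralClosure Γ(Y, U) Γ(X, f ⁻¹ᵁ U)) := eC.symm.symm.injective.nontrivial
  haveI : Nontrivial Γ(X, f ⁻¹ᵁ U) :=
    (Subtype.val_injective : Function.Injective
      (Subtype.val : integralClosure Γ(Y, U) Γ(X, f ⁻¹ᵁ U) → Γ(X, f ⁻¹ᵁ U))).nontrivial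
  haveI : Nonempty (f ⁻¹ᵁ U) := by
    by_contra hemp
    rw [not_nonempty_iff] at hemp
    have hbot : f ⁻¹ᵁ U = ⊥ := by
      rw [eq_bot_iff]
      intro x hx
      exact (hemp.false ⟨x, hx⟩).elim
    have : Subsingleton Γ(X, f ⁻¹ᵁ U) := by rw [hbot]; infer_instance
    exact not_subsingleton _ this
  haveI : IsDomain Γ(X, f ⁻¹ᵁ U) := inferInstance
  haveI : IsIntegrallyClosed Γ(X, f ⁻¹ᵁ U) := isIntegrallyClosed_sections hX _
  haveI := Groth.Agent.Helper12.NormNormal.isIntegrallyClosed_integralClosure Γ(Y, U) Γ(X, f ⁻¹ᵁ U)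
  haveI : IsIntegrallyClosed Γ(f.normalization, f.fromNormalization ⁻¹ᵁ U) :=
    IsIntegrallyClosed.of_equiv eC.symm
  letI := f.normalization.presheaf.algebra_section_stalk ⟨z, hz⟩
  haveI := hW.isLocalization_stalk ⟨z, hz⟩
  exact isIntegrallyClosed_of_isLocalization _ (hW.primeIdealOf ⟨z, hz⟩).asIdeal.primeCompl
    (Ideal.primeCompl_le_nonZeroDivisors _)

end Groth.Agent.Helper14.NormLF1
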