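import Mathlib
import Groth.Agent.Lib.Helper14.NormLF1
import Groth.Agent.Lib.Helper14.DomMax
import Groth.Agent.Lib.Helper4.NormalDecomp

/-!
# Normalization in a normal scheme with locally finitely many irreducible components (helper14)
-/

set_option autoImplicit false
set_option linter.unusedSectionVars false
set_option linter.unusedVariables false
set_option linter.style.haveILetI false
universe u
open CategoryTheory CategoryTheory.Limits AlgebraicGeometry TopologicalSpace

namespace Groth.Agent.Helper14.NormLF2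

section Top

/-- a point without proper generizations generates an irreducible component -/
theorem closure_mem_irreducibleComponents {T : Type u} [TopologicalSpace T] [QuasiSober T]
    {x : T} (hx : ∀ z : T, z ⤳ x → z = x) : closure {x} ∈ irreducibleComponents T := by
  obtain ⟨η, hη, hηx⟩ := Groth.Agent.Helper14.AffStrat.exists_gen_specializes x
  have := hx η hηx
  subst this
  exact hη

end Top

section Comp

variable {Y : Scheme.{u}} (hdom : ∀ y : Y, IsDomain (Y.presheaf.stalk y))
  (hfin : LocallyFinite (fun Z : ↥(irreducibleComponents ↥Y) => (Z : Set ↥Y)))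

include hdom hfin in
theorem isOpen_comp {Z : Set Y} (hZ : Z ∈ irreducibleComponents Y) : IsOpen Z := by
  have h : Zᶜ = ⋃ Z' : {Z' : irreducibleComponents Y // Z'.1 ≠ Z}, (Z'.1.1 : Set Y) := by
    ext y
    simp only [Set.mem_compl_iff, Set.mem_iUnion]
    constructor
    · intro hy
      have hy' : y ∈ ⋃₀ irreducibleComponents Y := by
        rw [sUnion_irreducibleComponents]; trivial
      obtain ⟨Z', hZ', hyZ'⟩ := hy'
      exact ⟨⟨⟨Z', hZ'⟩, fun h => hy (h ▸ hyZ')⟩, hyZ'⟩
    · rintro ⟨⟨⟨Z', hZ'⟩, hne⟩, hyZ'⟩ hyZ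
      haveI := hdom y
      exact hne (Groth.Agent.Helper4.NormalDecomp.eq_of_mem_irreducibleComponents Y y hZ' hZ
        hyZ' hyZ)
  rw [← isClosed_compl_iff, h]
  exact (hfin.comp_injective Subtype.val_injective).isClosed_iUnion
    (fun Z' => isClosed_of_mem_irreducibleComponents _ Z'.1.2)

theorem quasiCompact_ι_of_isClosed (U : Y.Opens) (hU : IsClosed (U : Set Y)) :
    QuasiCompact U.ι := by
  constructor
  intro V hV hVc
  have hce : Topology.IsClosedEmbedding U.ι :=
    ⟨U.ι.isOpenEmbedding.isEmbedding, by rw [Scheme.Opens.range_ι]; exact hU⟩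
  exact hce.isCompact_preimage hVc

end Comp

section Split

variable {X Y : Scheme.{u}} (f : Y ⟶ X) [QuasiCompact f] [QuasiSeparated f]

theorem exists_split (Y₁ Y₂ : Y.Opens) (hc : (Y₂ : Set Y) = (Y₁ : Set Y)ᶜ) :
    ∃ (_ : QuasiCompact (Y₁.ι ≫ f)) (_ : QuasiCompact (Y₂.ι ≫ f))
      (ι₁ : (Y₁.ι ≫ f).normalization ⟶ f.normalization)
      (ι₂ : (Y₂.ι ≫ f).normalization ⟶ f.normalization),
      IsOpenImmersion ι₁ ∧ IsOpenImmersion ι₂ ∧
      (Y₁.ι ≫ f).toNormalization ≫ ι₁ = Y₁.ι ≫ f.toNormalization ∧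
      (Y₂.ι ≫ f).toNormalization ≫ ι₂ = Y₂.ι ≫ f.toNormalization ∧
      Set.range ι₁ ∪ Set.range ι₂ = Set.univ ∧ Disjoint (Set.range ι₁) (Set.range ι₂) := by
  have hcl1 : IsClosed (Y₁ : Set Y) := by
    rw [← isOpen_compl_iff, ← hc]; exact Y₂.2
  have hcl2 : IsClosed (Y₂ : Set Y) := by
    rw [hc]; exact Y₁.2.isClosed_compl
  haveI : QuasiCompact Y₁.ι := quasiCompact_ι_of_isClosed Y₁ hcl1
  haveI : QuasiCompact Y₂.ι := quasiCompact_ι_of_isClosed Y₂ hcl2
  have hcompl : IsCompl Y₁.ι.opensRange Y₂.ι.opensRange := by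
    rw [Scheme.Opens.opensRange_ι, Scheme.Opens.opensRange_ι]
    constructor
    · rw [disjoint_iff, eq_bot_iff]
      rintro x ⟨h1, h2⟩
      have h2' : x ∈ (Y₂ : Set Y) := h2
      rw [hc] at h2'
      exact h2' h1
    · rw [codisjoint_iff, eq_top_iff]
      intro x _
      by_cases hx : x ∈ (Y₁ : Set Y)
      · exact Or.inl hx
      · refine Or.inr ?_
        show x ∈ (Y₂ : Set Y)
        rw [hc]; exact hx
  obtain ⟨e⟩ := nonempty_isColimit_binaryCofanMk_of_isCompl Y₁.ι Y₂.ι hcompl
  let iso := f.normalizationCoprodIso e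
  have hinj : Function.Injective iso.hom := iso.hom.isOpenEmbedding.injective
  have hsurj : Function.Surjective iso.hom := by
    intro z
    refine ⟨iso.inv z, ?_⟩
    rw [← Scheme.Hom.comp_apply, iso.inv_hom_id]; rfl
  have hr1 : Set.range (coprod.inl ≫ iso.hom : (Y₁.ι ≫ f).normalization ⟶ f.normalization) =
      iso.hom '' Set.range (coprod.inl : (Y₁.ι ≫ f).normalization ⟶
        (Y₁.ι ≫ f).normalization ⨿ (Y₂.ι ≫ f).normalization) := by
    rw [← Set.range_comp]; rfl
  have hr2 : Set.range (coprod.inr ≫ iso.hom : (Y₂.ι ≫ f).normalization ⟶ f.normalization) =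
      iso.hom '' Set.range (coprod.inr : (Y₂.ι ≫ f).normalization ⟶
        (Y₁.ι ≫ f).normalization ⨿ (Y₂.ι ≫ f).normalization) := by
    rw [← Set.range_comp]; rfl
  have hcc := isCompl_range_inl_inr (Y₁.ι ≫ f).normalization (Y₂.ι ≫ f).normalization
  refine ⟨inferInstance, inferInstance, coprod.inl ≫ iso.hom, coprod.inr ≫ iso.hom,
    inferInstance, inferInstance, f.toNormalization_inl_normalizationCoprodIso_hom e,
    f.toNormalization_inr_normalizationCoprodIso_hom e, ?_, ?_⟩
  · rw [hr1, hr2, ← Set.image_union]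
    have : Set.range (coprod.inl : (Y₁.ι ≫ f).normalization ⟶ _) ∪
        Set.range (coprod.inr : (Y₂.ι ≫ f).normalization ⟶ _) = Set.univ := by
      have := hcc.2
      rw [codisjoint_iff] at this
      exact this
    rw [this, Set.image_univ]
    exact hsurj.range_eq
  · rw [hr1, hr2]
    exact (Set.disjoint_image_iff hinj).mpr hcc.1

end Split

end Groth.Agent.Helper14.NormLF2
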