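import Mathlib
import Groth.Agent.Lib.Helper14.NormLF2

/-!
# Normalization in a normal scheme with locally finitely many irreducible components, II (helper14)
-/

set_option autoImplicit false
set_option linter.unusedSectionVars false
set_option linter.unusedVariables false
set_option linter.style.haveILetI false
universe u
open CategoryTheory CategoryTheory.Limits AlgebraicGeometry TopologicalSpace

namespace Groth.Agent.Helper14.NormLF3
open Groth.Agent.Helper14.NormLF2

variable {X Y : Scheme.{u}} (f : Y ⟶ X) [QuasiCompact f] [QuasiSeparated f]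
  (hY : Pi1.IsNormalScheme Y)
  (hfin : LocallyFinite (fun Z : ↥(irreducibleComponents ↥Y) => (Z : Set ↥Y)))

include hY hfin in
theorem split_at {Z : Set Y} (hZ : Z ∈ irreducibleComponents Y) :
    ∃ (Y₁ Y₂ : Y.Opens) (_ : (Y₁ : Set Y) = Z) (_ : (Y₂ : Set Y) = Zᶜ)
      (_ : IsIntegral (Y₁ : Scheme.{u})) (_ : Pi1.IsNormalScheme (Y₁ : Scheme.{u}))
      (_ : QuasiCompact (Y₁.ι ≫ f)) (_ : QuasiCompact (Y₂.ι ≫ f))
      (ι₁ : (Y₁.ι ≫ f).normalization ⟶ f.normalization)
      (ι₂ : (Y₂.ι ≫ f).normalization ⟶ f.normalization),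
      IsOpenImmersion ι₁ ∧ IsOpenImmersion ι₂ ∧
      (Y₁.ι ≫ f).toNormalization ≫ ι₁ = Y₁.ι ≫ f.toNormalization ∧
      (Y₂.ι ≫ f).toNormalization ≫ ι₂ = Y₂.ι ≫ f.toNormalization ∧
      Set.range ι₁ ∪ Set.range ι₂ = Set.univ ∧ Disjoint (Set.range ι₁) (Set.range ι₂) := by
  have hdom : ∀ y : Y, IsDomain (Y.presheaf.stalk y) := fun y => (hY y).1
  let Y₁ : Y.Opens := ⟨Z, isOpen_comp hdom hfin hZ⟩
  let Y₂ : Y.Opens := ⟨Zᶜ, (isClosed_of_mem_irreducibleComponents Z hZ).isOpen_compl⟩
  haveI : ∀ x : Y, _root_.IsReduced (Y.presheaf.stalk x) := fun x => by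
    haveI := hdom x
    infer_instance
  haveI : IsReduced Y := isReduced_of_isReduced_stalk Y
  haveI : IrreducibleSpace ↥(Y₁ : Scheme.{u}) := Subtype.irreducibleSpace hZ.1
  have hint : IsIntegral (Y₁ : Scheme.{u}) := isIntegral_of_irreducibleSpace_of_isReduced _
  have hY₁ : Pi1.IsNormalScheme (Y₁ : Scheme.{u}) := by
    intro v
    haveI := (hY v.1).1
    haveI := (hY v.1).2
    let ev := (Y₁.stalkIso v).commRingCatIsoToRingEquiv
    exact ⟨ev.toMulEquiv.isDomain _, IsIntegrallyClosed.of_equiv ev.symm⟩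
  obtain ⟨q1, q2, ι₁, ι₂, h⟩ := exists_split f Y₁ Y₂ rfl
  exact ⟨Y₁, Y₂, rfl, rfl, hint, hY₁, q1, q2, ι₁, ι₂, h⟩

include hY hfin in
/-- every point of the normalization lies in the clopen piece attached to some component -/
theorem exists_generic_specializes (z : f.normalization) :
    ∃ y : Y, closure {y} ∈ irreducibleComponents Y ∧ f.toNormalization y ⤳ z := by
  obtain ⟨η, hη, hηz⟩ := Groth.Agent.Helper14.AffStrat.exists_gen_specializes z
  obtain ⟨y, hy, hyη⟩ := Groth.Agent.Helper14.DomMax.exists_generic_preimage f.toNormalization η hη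
  exact ⟨y, hy, hyη ▸ hηz⟩

include hY hfin in
/-- (1) the normalization is normal -/
theorem normal : Pi1.IsNormalScheme f.normalization := by
  intro z
  obtain ⟨y, hy, hyz⟩ := exists_generic_specializes f hY hfin z
  obtain ⟨Y₁, Y₂, h1, h2, hint, hnorm, q1, q2, ι₁, ι₂, ho1, ho2, hc1, hc2, hun, hdisj⟩ :=
    split_at f hY hfin hy
  have hyY₁ : y ∈ Y₁ := by
    show y ∈ (Y₁ : Set Y)
    rw [h1]; exact subset_closure rfl
  have hty : f.toNormalization y ∈ Set.range ι₁ := by
    refine ⟨(Y₁.ι ≫ f).toNormalization ⟨y, hyY₁⟩, ?_⟩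
    rw [← Scheme.Hom.comp_apply, hc1]
    rfl
  have hclosed : IsClosed (Set.range ι₁) := by
    have : Set.range ι₁ = (Set.range ι₂)ᶜ := by
      ext w
      constructor
      · intro hw hw2
        exact Set.disjoint_iff.mp hdisj ⟨hw, hw2⟩
      · intro hw
        have : w ∈ Set.range ι₁ ∪ Set.range ι₂ := by rw [hun]; trivial
        rcases this with h | h
        · exact h
        · exact (hw h).elim
    rw [this]
    exact ι₂.isOpenEmbedding.isOpen_range.isClosed_compl
  obtain ⟨z₁, rfl⟩ : z ∈ Set.range ι₁ := hyz.mem_closed hclosed hty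
  obtain ⟨hd, hic⟩ := Groth.Agent.Helper14.NormLF1.stalk_normal_normalization_of_isIntegral
    hnorm (Y₁.ι ≫ f) z₁
  let eι := (asIso (ι₁.stalkMap z₁)).commRingCatIsoToRingEquiv
  exact ⟨eι.toMulEquiv.isDomain _, IsIntegrallyClosed.of_equiv eι.symm⟩

include hY hfin in
/-- (3) generic points go to generic points -/
theorem generic_map (y : Y) (hy : closure {y} ∈ irreducibleComponents ↥Y) :
    closure {f.toNormalization y} ∈ irreducibleComponents ↥f.normalization := by
  apply closure_mem_irreducibleComponents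
  intro z hz
  obtain ⟨Y₁, Y₂, h1, h2, hint, hnorm, q1, q2, ι₁, ι₂, ho1, ho2, hc1, hc2, hun, hdisj⟩ :=
    split_at f hY hfin hy
  have hyY₁ : y ∈ Y₁ := by
    show y ∈ (Y₁ : Set Y)
    rw [h1]; exact subset_closure rfl
  let y₁ : ↥(Y₁ : Scheme.{u}) := ⟨y, hyY₁⟩
  have hty : f.toNormalization y = ι₁ ((Y₁.ι ≫ f).toNormalization y₁) := by
    rw [← Scheme.Hom.comp_apply, hc1]
    rfl
  have hzr : z ∈ Set.range ι₁ := hz.mem_open ι₁.isOpenEmbedding.isOpen_range ⟨_, hty.symm⟩
  obtain ⟨z₁, rfl⟩ := hzr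
  rw [hty] at hz ⊢
  have hz1 : z₁ ⤳ (Y₁.ι ≫ f).toNormalization y₁ :=
    ι₁.isOpenEmbedding.isInducing.specializes_iff.mp hz
  -- `y₁` is the generic point of `Y₁`
  have hy₁ : closure ({y₁} : Set ↥(Y₁ : Scheme.{u})) = Set.univ := by
    rw [Set.eq_univ_iff_forall]
    intro w
    have hw : w.1 ∈ closure ({y} : Set Y) := by
      rw [← h1]; exact w.2
    have hsp : Y₁.ι y₁ ⤳ Y₁.ι w := specializes_iff_mem_closure.mpr hw
    have : y₁ ⤳ w := Y₁.ι.isOpenEmbedding.isInducing.specializes_iff.mp hsp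
    exact specializes_iff_mem_closure.mp this
  have hgen : (Y₁.ι ≫ f).toNormalization y₁ ⤳ z₁ := by
    rw [specializes_iff_mem_closure]
    have hdense : DenseRange (Y₁.ι ≫ f).toNormalization := (Y₁.ι ≫ f).toNormalization.denseRange
    have hsub : Set.range (Y₁.ι ≫ f).toNormalization ⊆
        closure {(Y₁.ι ≫ f).toNormalization y₁} := by
      rintro _ ⟨w, rfl⟩
      have hw : w ∈ closure ({y₁} : Set ↥(Y₁ : Scheme.{u})) := by rw [hy₁]; trivial
      have := image_closure_subset_closure_image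
        ((Y₁.ι ≫ f).toNormalization.continuous) ⟨w, hw, rfl⟩
      rwa [Set.image_singleton] at this
    have := closure_minimal hsub isClosed_closure
    exact this (hdense z₁)
  have : z₁ = (Y₁.ι ≫ f).toNormalization y₁ := (hz1.antisymm hgen).eq
  rw [this]

include hY hfin in
/-- (4) uniqueness of the generic point over a generic point -/
theorem generic_unique (y₁ y₂ : Y) (hy₁ : closure {y₁} ∈ irreducibleComponents ↥Y)
    (hy₂ : closure {y₂} ∈ irreducibleComponents ↥Y)
    (h : f.toNormalization y₁ = f.toNormalization y₂) : y₁ = y₂ := by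
  obtain ⟨Y₁, Y₂, h1, h2, hint, hnorm, q1, q2, ι₁, ι₂, ho1, ho2, hc1, hc2, hun, hdisj⟩ :=
    split_at f hY hfin hy₁
  by_cases hmem : y₂ ∈ closure ({y₁} : Set Y)
  · exact Groth.Agent.Helper14.DomMax.eq_of_specializes_of_mem_irreducibleComponents hy₂
      (specializes_iff_mem_closure.mpr hmem)
  · exfalso
    have hyY₁ : y₁ ∈ Y₁ := by
      show y₁ ∈ (Y₁ : Set Y)
      rw [h1]; exact subset_closure rfl
    have hyY₂ : y₂ ∈ Y₂ := by
      show y₂ ∈ (Y₂ : Set Y)
      rw [h2]; exact hmem
    have ht1 : f.toNormalization y₁ ∈ Set.range ι₁ := by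
      refine ⟨(Y₁.ι ≫ f).toNormalization ⟨y₁, hyY₁⟩, ?_⟩
      rw [← Scheme.Hom.comp_apply, hc1]
      rfl
    have ht2 : f.toNormalization y₂ ∈ Set.range ι₂ := by
      refine ⟨(Y₂.ι ≫ f).toNormalization ⟨y₂, hyY₂⟩, ?_⟩
      rw [← Scheme.Hom.comp_apply, hc2]
      rfl
    rw [← h] at ht2
    exact Set.disjoint_iff.mp hdisj ⟨ht1, ht2⟩

include hY hfin in
/-- (2) the irreducible components of the normalization are locally finite -/
theorem locallyFinite : LocallyFinite
    (fun Z : ↥(irreducibleComponents ↥f.normalization) => (Z : Set ↥f.normalization)) := by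
  intro z
  obtain ⟨_, ⟨U, hU, rfl⟩, hzU, -⟩ := X.isBasis_affineOpens.exists_subset_of_mem_open
    (Set.mem_univ (f.fromNormalization z)) isOpen_univ
  let W : f.normalization.Opens := f.fromNormalization ⁻¹ᵁ U
  refine ⟨W, W.2.mem_nhds hzU, ?_⟩
  have hK : IsCompact ((f ⁻¹ᵁ U : Y.Opens) : Set Y) :=
    QuasiCompact.isCompact_preimage (f := f) _ U.2 hU.isCompact
  have hS := hfin.finite_nonempty_inter_compact hK
  let g : irreducibleComponents Y → Set f.normalization :=
    fun Z => closure (f.toNormalization '' Z.1)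
  have hsub : (fun Z' : irreducibleComponents f.normalization => (Z' : Set f.normalization)) ''
      {Z' | ((Z' : Set f.normalization) ∩ W).Nonempty} ⊆
      g '' {Z | ((Z : Set Y) ∩ ((f ⁻¹ᵁ U : Y.Opens) : Set Y)).Nonempty} := by
    rintro _ ⟨Z', ⟨w, hwZ', hwW⟩, rfl⟩
    obtain ⟨η', hη'⟩ := QuasiSober.sober Z'.2.1
      (isClosed_of_mem_irreducibleComponents Z'.1 Z'.2)
    have hcl : closure ({η'} : Set f.normalization) = Z'.1 := hη'.def
    have hη'comp : closure ({η'} : Set f.normalization) ∈ irreducibleComponents f.normalization := by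
      rw [hcl]; exact Z'.2
    have hη'w : η' ⤳ w := by
      rw [specializes_iff_mem_closure, hcl]; exact hwZ'
    have hη'W : η' ∈ W := hη'w.mem_open W.2 hwW
    obtain ⟨y, hy, hyη⟩ :=
      Groth.Agent.Helper14.DomMax.exists_generic_preimage f.toNormalization η' hη'comp
    have hyK : y ∈ ((f ⁻¹ᵁ U : Y.Opens) : Set Y) := by
      show f y ∈ U
      have h1 : f y = f.fromNormalization (f.toNormalization y) := by
        rw [← Scheme.Hom.comp_apply, f.toNormalization_fromNormalization]
      rw [h1, hyη]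
      exact hη'W
    refine ⟨⟨closure {y}, hy⟩, ⟨y, subset_closure rfl, hyK⟩, ?_⟩
    show closure (f.toNormalization '' closure {y}) = Z'.1
    rw [closure_image_closure f.toNormalization.continuous, Set.image_singleton, hyη, hcl]
  exact Set.Finite.of_finite_image ((hS.image g).subset hsub) Subtype.val_injective.injOn

include hY hfin in
theorem main :
    Pi1.IsNormalScheme f.normalization ∧
    LocallyFinite (fun Z : ↥(irreducibleComponents ↥f.normalization) => (Z : Set ↥f.normalization)) ∧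
    (∀ y : Y, closure {y} ∈ irreducibleComponents ↥Y →
      closure {f.toNormalization.base y} ∈ irreducibleComponents ↥f.normalization) ∧
    (∀ x' : ↥f.normalization, closure {x'} ∈ irreducibleComponents ↥f.normalization →
      ∃! y : Y, closure {y} ∈ irreducibleComponents ↥Y ∧ f.toNormalization.base y = x') := by
  refine ⟨normal f hY hfin, locallyFinite f hY hfin, fun y hy => generic_map f hY hfin y hy,
    fun x' hx' => ?_⟩
  obtain ⟨y, hy, hyx⟩ :=
    Groth.Agent.Helper14.DomMax.exists_generic_preimage f.toNormalization x' hx'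
  refine ⟨y, ⟨hy, hyx⟩, ?_⟩
  rintro y' ⟨hy', hy'x⟩
  exact generic_unique f hY hfin y' y hy' hy (hy'x.trans hyx.symm)

end Groth.Agent.Helper14.NormLF3
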