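import Mathlib
import Groth.Prelude
import Groth.Agent.Lib.Helper14.NormUPB
import Groth.Agent.Lib.Helper14.DedFlat

/-!
# Universal property of the normalization: local existence and uniqueness
-/

set_option autoImplicit false
universe u
open CategoryTheory CategoryTheory.Limits AlgebraicGeometry TopologicalSpace

namespace Groth.Agent.Helper14.NormUP

variable {X : Scheme.{u}} [IsIntegral X]
  [QuasiCompact (X.fromSpecStalk (genericPoint X))]
  [QuasiSeparated (X.fromSpecStalk (genericPoint X))]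

set_option backward.isDefEq.respectTransparency false in
/-- local existence of the lift -/
theorem exists_lift_affine {T : Scheme.{u}} {t : T ⟶ X} (ht : Good t) (V : T.Opens)
    (hV : IsAffineOpen V) (U : X.Opens) (hU : IsAffineOpen U) (hη : genericPoint X ∈ U)
    (e : V ≤ t ⁻¹ᵁ U) :
    ∃ l : V.toScheme ⟶ (X.fromSpecStalk (genericPoint X)).normalization,
      l ≫ (X.fromSpecStalk (genericPoint X)).fromNormalization = V.ι ≫ t := by
  set j := X.fromSpecStalk (genericPoint X) with hj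
  letI := (j.app U).hom.toAlgebra
  haveI := isLocalization_app_fromSpecStalk U hU hη
  haveI : Nonempty U := ⟨⟨_, hη⟩⟩
  have hB : IntClosedTotal Γ(T, V) := ht.intClosedTotal V hV
  obtain ⟨β', hβ'⟩ := exists_extension (C := Γ(Spec (X.presheaf.stalk (genericPoint X)), j ⁻¹ᵁ U))
    (t.appLE U V e).hom
    (fun s hs => ht.appLE_mem_nonZeroDivisors U V e s (nonZeroDivisors.ne_zero hs)) hB
  let O := j.fromNormalization ⁻¹ᵁ U
  have hO : IsAffineOpen O := hU.preimage j.fromNormalization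
  let objIso := j.normalizationObjIso hU
  refine ⟨V.toSpecΓ ≫ Spec.map (objIso.hom ≫ CommRingCat.ofHom β') ≫ hO.fromSpec, ?_⟩
  rw [Category.assoc, Category.assoc,
    ← IsAffineOpen.SpecMap_appLE_fromSpec j.fromNormalization hU hO le_rfl,
    ← Spec.map_comp_assoc]
  have key : j.fromNormalization.appLE U O le_rfl ≫ objIso.hom ≫ CommRingCat.ofHom β' =
      t.appLE U V e := by
    rw [← Scheme.Hom.app_eq_appLE, j.fromNormalization_app hU]
    simp only [Category.assoc, Iso.inv_hom_id_assoc, objIso]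
    rw [← CommRingCat.ofHom_comp, hβ']
    rfl
  rw [key, Scheme.Opens.toSpecΓ_SpecMap_appLE_assoc, IsAffineOpen.toSpecΓ_fromSpec,
    Scheme.Hom.resLE_comp_ι]

set_option backward.isDefEq.respectTransparency false in
/-- local uniqueness of the lift -/
theorem lift_unique_affine {T : Scheme.{u}} {t : T ⟶ X} (ht : Good t)
    (U : X.Opens) (hU : IsAffineOpen U) (hη : genericPoint X ∈ U) (htop : t ⁻¹ᵁ U = ⊤)
    (l₁ l₂ : T ⟶ (X.fromSpecStalk (genericPoint X)).normalization)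
    (h₁ : l₁ ≫ (X.fromSpecStalk (genericPoint X)).fromNormalization = t)
    (h₂ : l₂ ≫ (X.fromSpecStalk (genericPoint X)).fromNormalization = t) : l₁ = l₂ := by
  set j := X.fromSpecStalk (genericPoint X) with hj
  letI := (j.app U).hom.toAlgebra
  haveI := isLocalization_app_fromSpecStalk U hU hη
  haveI : Nonempty U := ⟨⟨_, hη⟩⟩
  let O := j.fromNormalization ⁻¹ᵁ U
  have hO : IsAffineOpen O := hU.preimage j.fromNormalization
  let objIso := j.normalizationObjIso hU
  have hi₁ : (⊤ : T.Opens) ≤ l₁ ⁻¹ᵁ O := by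
    rw [← Scheme.Hom.comp_preimage, h₁, htop]
  have hi₂ : (⊤ : T.Opens) ≤ l₂ ⁻¹ᵁ O := by
    rw [← Scheme.Hom.comp_preimage, h₂, htop]
  have hU' : (⊤ : T.Opens) ≤ t ⁻¹ᵁ U := htop.ge
  have hc₁ : j.fromNormalization.appLE U O le_rfl ≫ l₁.appLE O ⊤ hi₁ = t.appLE U ⊤ hU' := by
    subst h₁
    exact Scheme.Hom.appLE_comp_appLE _ _ _ _ _ _ _
  have hc₂ : j.fromNormalization.appLE U O le_rfl ≫ l₂.appLE O ⊤ hi₂ = t.appLE U ⊤ hU' := by
    subst h₂
    exact Scheme.Hom.appLE_comp_appLE _ _ _ _ _ _ _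
  have hk₁ : CommRingCat.ofHom (algebraMap Γ(X, U)
      (integralClosure Γ(X, U) Γ(Spec (X.presheaf.stalk (genericPoint X)), j ⁻¹ᵁ U))) ≫
      objIso.inv ≫ l₁.appLE O ⊤ hi₁ = t.appLE U ⊤ hU' := by
    rw [← Category.assoc, ← j.fromNormalization_app hU, Scheme.Hom.app_eq_appLE, hc₁]
  have hk₂ : CommRingCat.ofHom (algebraMap Γ(X, U)
      (integralClosure Γ(X, U) Γ(Spec (X.presheaf.stalk (genericPoint X)), j ⁻¹ᵁ U))) ≫
      objIso.inv ≫ l₂.appLE O ⊤ hi₂ = t.appLE U ⊤ hU' := by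
    rw [← Category.assoc, ← j.fromNormalization_app hU, Scheme.Hom.app_eq_appLE, hc₂]
  have happ : l₁.appLE O ⊤ hi₁ = l₂.appLE O ⊤ hi₂ := by
    have : (objIso.inv ≫ l₁.appLE O ⊤ hi₁).hom = (objIso.inv ≫ l₂.appLE O ⊤ hi₂).hom := by
      apply extension_unique
      · ext s
        exact congrArg (fun φ => φ.hom s) (hk₁.trans hk₂.symm)
      · intro s hs
        have : (objIso.inv ≫ l₁.appLE O ⊤ hi₁).hom (algebraMap Γ(X, U)
            (integralClosure Γ(X, U) Γ(Spec (X.presheaf.stalk (genericPoint X)), j ⁻¹ᵁ U)) s) =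
            (t.appLE U ⊤ hU').hom s := congrArg (fun φ => φ.hom s) hk₁
        rw [this]
        exact ht.appLE_mem_nonZeroDivisors U ⊤ hU' s (nonZeroDivisors.ne_zero hs)
    have h3 : objIso.inv ≫ l₁.appLE O ⊤ hi₁ = objIso.inv ≫ l₂.appLE O ⊤ hi₂ :=
      CommRingCat.hom_ext this
    exact (cancel_epi objIso.inv).mp h3
  have e₁ : (⊤ : T.Opens).ι ≫ l₁ =
      (⊤ : T.Opens).toSpecΓ ≫ Spec.map (l₁.appLE O ⊤ hi₁) ≫ hO.fromSpec := by
    rw [Scheme.Opens.toSpecΓ_SpecMap_appLE_assoc, IsAffineOpen.toSpecΓ_fromSpec,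
      Scheme.Hom.resLE_comp_ι]
  have e₂ : (⊤ : T.Opens).ι ≫ l₂ =
      (⊤ : T.Opens).toSpecΓ ≫ Spec.map (l₂.appLE O ⊤ hi₂) ≫ hO.fromSpec := by
    rw [Scheme.Opens.toSpecΓ_SpecMap_appLE_assoc, IsAffineOpen.toSpecΓ_fromSpec,
      Scheme.Hom.resLE_comp_ι]
  haveI : IsIso (⊤ : T.Opens).ι := inferInstanceAs (IsIso T.topIso.hom)
  rw [← cancel_epi (⊤ : T.Opens).ι, e₁, e₂, happ]

omit [QuasiCompact (X.fromSpecStalk (genericPoint X))]
  [QuasiSeparated (X.fromSpecStalk (genericPoint X))] in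
theorem genericPoint_mem_of_mem (U : X.Opens) (x : X) (hx : x ∈ U) : genericPoint X ∈ U :=
  ((genericPoint_spec X).mem_open_set_iff U.isOpen).mpr ⟨x, trivial, hx⟩

omit [IsIntegral X] [QuasiCompact (X.fromSpecStalk (genericPoint X))]
  [QuasiSeparated (X.fromSpecStalk (genericPoint X))] in
theorem exists_affine_nhd (x : X) : ∃ U : X.Opens, IsAffineOpen U ∧ x ∈ U := by
  obtain ⟨_, ⟨V, hV : IsAffineOpen V, rfl⟩, hxV, -⟩ :=
    (X.isBasis_affineOpens).exists_subset_of_mem_open (Set.mem_univ x) isOpen_univ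
  exact ⟨V, hV, hxV⟩

/-- uniqueness of the lift -/
theorem lift_unique {T : Scheme.{u}} {t : T ⟶ X} (ht : Good t)
    (l₁ l₂ : T ⟶ (X.fromSpecStalk (genericPoint X)).normalization)
    (h₁ : l₁ ≫ (X.fromSpecStalk (genericPoint X)).fromNormalization = t)
    (h₂ : l₂ ≫ (X.fromSpecStalk (genericPoint X)).fromNormalization = t) : l₁ = l₂ := by
  apply Scheme.hom_ext_of_forall
  intro x
  obtain ⟨U, hU, hxU⟩ := exists_affine_nhd (t.base x)
  have hη : genericPoint X ∈ U := genericPoint_mem_of_mem U _ hxU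
  refine ⟨t ⁻¹ᵁ U, hxU, ?_⟩
  have hgood : Good ((t ⁻¹ᵁ U).ι ≫ t) := ht.comp (t ⁻¹ᵁ U).ι
  refine lift_unique_affine hgood U hU hη ?_ _ _ (by rw [Category.assoc, h₁])
    (by rw [Category.assoc, h₂])
  rw [Scheme.Hom.comp_preimage]
  exact Scheme.Opens.ι_preimage_self _

/-- existence of the lift -/
theorem exists_lift {Z : Scheme.{u}} {g : Z ⟶ X} (hg : Good g) :
    ∃ h : Z ⟶ (X.fromSpecStalk (genericPoint X)).normalization,
      h ≫ (X.fromSpecStalk (genericPoint X)).fromNormalization = g := by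
  have hloc : ∀ z : Z, ∃ V : Z.Opens, z ∈ V ∧
      ∃ l : V.toScheme ⟶ (X.fromSpecStalk (genericPoint X)).normalization,
        l ≫ (X.fromSpecStalk (genericPoint X)).fromNormalization = V.ι ≫ g := by
    intro z
    obtain ⟨U, hU, hzU⟩ := exists_affine_nhd (g.base z)
    obtain ⟨_, ⟨V, hV : IsAffineOpen V, rfl⟩, hzV, hVU⟩ :=
      (Z.isBasis_affineOpens).exists_subset_of_mem_open (show z ∈ ((g ⁻¹ᵁ U : Z.Opens) : Set Z)
        from hzU) (g ⁻¹ᵁ U).isOpen
    have hη : genericPoint X ∈ U := genericPoint_mem_of_mem U _ hzU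
    exact ⟨V, hzV, exists_lift_affine hg V hV U hU hη hVU⟩
  choose V hzV l hl using hloc
  have hcov : TopologicalSpace.IsOpenCover V := by
    rw [TopologicalSpace.IsOpenCover, eq_top_iff]
    intro z _
    exact TopologicalSpace.Opens.mem_iSup.mpr ⟨z, hzV z⟩
  have compat : ∀ z z' : Z, pullback.fst (V z).ι (V z').ι ≫ l z =
      pullback.snd (V z).ι (V z').ι ≫ l z' := by
    intro z z'
    have hgood : Good ((pullback.fst (V z).ι (V z').ι ≫ (V z).ι) ≫ g) :=
      hg.comp (pullback.fst (V z).ι (V z').ι ≫ (V z).ι)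
    apply lift_unique hgood
    · rw [Category.assoc, hl, Category.assoc]
    · rw [Category.assoc, hl, Category.assoc]
      exact (pullback.condition_assoc _).symm
  refine ⟨(Z.openCoverOfIsOpenCover V hcov).glueMorphisms l compat, ?_⟩
  apply (Z.openCoverOfIsOpenCover V hcov).hom_ext
  intro z
  rw [← Category.assoc, (Z.openCoverOfIsOpenCover V hcov).ι_glueMorphisms]
  exact hl z

/-- **S9690** -/
theorem main (X : Scheme.{u}) [IsIntegral X]
    [QuasiCompact (X.fromSpecStalk (genericPoint ↥X))]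
    [QuasiSeparated (X.fromSpecStalk (genericPoint ↥X))]
    {Z : Scheme.{u}} (g : Z ⟶ X) (hZ : Pi1.IsNormalScheme Z)
    (hdom : ∀ z : Z, closure {z} ∈ irreducibleComponents ↥Z → g.base z = genericPoint ↥X) :
    ∃! h : Z ⟶ Curv2.normalization X, h ≫ Curv2.normalizationι X = g := by
  have hg : Good g := ⟨fun x => (hZ x).1, fun x => (hZ x).2, fun ζ hζ =>
    hdom ζ (DedFlat.closure_mem_irreducibleComponents ζ hζ)⟩
  obtain ⟨h, hh⟩ := exists_lift hg
  exact ⟨h, hh, fun h' hh' => lift_unique hg h' h hh' hh⟩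

end Groth.Agent.Helper14.NormUP
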