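import Mathlib
import Groth.Agent.Lib.Helper14.NormUPC
import Groth.Agent.Lib.Helper14.DomMax
import Groth.Agent.Lib.Helper1.NAff5
import Groth.Agent.Lib.Helper16.Sch.NormalSmoothSch
import Groth.Agent.Lib.Helper16.Sch.SmoothLocusBC3
import Groth.Agent.Lib.Helper7.StalkNormal2

/-!
# Normalization commutes with smooth base change, integral case (helper14)
-/

set_option autoImplicit false
set_option linter.unusedSectionVars false
set_option linter.unusedVariables false
set_option linter.style.haveILetI false
universe u
open CategoryTheory CategoryTheory.Limits AlgebraicGeometry TopologicalSpace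

namespace Groth.Agent.Helper14.NormSm

/-- a flat morphism of irreducible schemes maps the generic point to the generic point -/
theorem map_genericPoint {X Y : Scheme.{u}} (f : X ⟶ Y) [Flat f] [IrreducibleSpace X]
    [IrreducibleSpace Y] : f (genericPoint X) = genericPoint Y := by
  have h1 : genericPoint Y ⤳ f (genericPoint X) := genericPoint_specializes _
  obtain ⟨x', hx', hfx'⟩ := Flat.generalizingMap f h1
  have : x' = genericPoint X := ((genericPoint_specializes x').antisymm hx').eq.symm
  rw [← hfx', this]

/-- the spectrum of a field is a normal scheme -/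
theorem isNormalScheme_Spec_field (K : Type u) [Field K] :
    Pi1.IsNormalScheme (Spec (CommRingCat.of K)) := by
  apply Groth.Agent.Helper7.StalkNormal.isNormalScheme_Spec
  intro p hp
  refine ⟨IsLocalization.isDomain_localization (Ideal.primeCompl_le_nonZeroDivisors p), ?_⟩
  exact isIntegrallyClosed_of_isLocalization _ p.primeCompl
    (Ideal.primeCompl_le_nonZeroDivisors p)

section Main

variable {X Y : Scheme.{u}} (f : X ⟶ Y) [Smooth f] [IsIntegral X] [IsIntegral Y]
  [QuasiCompact (X.fromSpecStalk (genericPoint X))]
  [QuasiSeparated (X.fromSpecStalk (genericPoint X))]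
  [QuasiCompact (Y.fromSpecStalk (genericPoint Y))]
  [QuasiSeparated (Y.fromSpecStalk (genericPoint Y))]

/-- uniqueness of lifts to the normalization from the spectrum of the function field -/
theorem lift_field_unique (a b : Spec (X.presheaf.stalk (genericPoint X)) ⟶ Curv2.normalization X)
    (ha : a ≫ Curv2.normalizationι X = X.fromSpecStalk (genericPoint X))
    (hb : b ≫ Curv2.normalizationι X = X.fromSpecStalk (genericPoint X)) : a = b := by
  have hn : Pi1.IsNormalScheme (Spec (X.presheaf.stalk (genericPoint X))) :=
    isNormalScheme_Spec_field (X.functionField)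
  have hdom : ∀ z : ↥(Spec (X.presheaf.stalk (genericPoint X))),
      closure {z} ∈ irreducibleComponents ↥(Spec (X.presheaf.stalk (genericPoint X))) →
      (X.fromSpecStalk (genericPoint X)).base z = genericPoint X := by
    intro z _
    have hz : z = IsLocalRing.closedPoint (X.presheaf.stalk (genericPoint X)) :=
      Subsingleton.elim (α := PrimeSpectrum (X.functionField)) _ _
    rw [hz]
    exact Scheme.fromSpecStalk_closedPoint
  obtain ⟨h, -, huniq⟩ := Groth.Agent.Helper14.NormUP.main X (X.fromSpecStalk (genericPoint X))
    hn hdom
  rw [huniq a ha, huniq b hb]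

set_option maxHeartbeats 800000 in
theorem main :
    ∃! e : Curv2.normalization X ≅ pullback f (Curv2.normalizationι Y),
      e.hom ≫ pullback.fst f (Curv2.normalizationι Y) = Curv2.normalizationι X := by
  -- notation
  let sX := X.fromSpecStalk (genericPoint X)
  let sY := Y.fromSpecStalk (genericPoint Y)
  haveI : Flat sY := Groth.Agent.Helper16.SmoothLocusBC.flat_fromSpecStalk Y (genericPoint Y)
  let p : pullback sY f ⟶ X := pullback.snd sY f
  let q : pullback sY f ⟶ Spec (Y.presheaf.stalk (genericPoint Y)) := pullback.fst sY f
  have hfη : f (genericPoint X) = genericPoint Y := map_genericPoint f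
  -- the generic fibre is normal
  have hXη : Pi1.IsNormalScheme (pullback sY f) := by
    intro z
    have hz : z ∈ q.smoothLocus := by rw [q.smoothLocus_eq_top]; trivial
    exact (Groth.Agent.Helper16.NormalSmooth.stalk_ascent_of_mem_smoothLocus q z hz).2
      (isNormalScheme_Spec_field (Y.functionField) (q z))
  haveI : ∀ z : ↥(pullback sY f), _root_.IsReduced ((pullback sY f).presheaf.stalk z) :=
    fun z => by
      haveI := (hXη z).1
      infer_instance
  haveI hred : IsReduced (pullback sY f) := isReduced_of_isReduced_stalk _
  -- maximal points of the generic fibre map to the generic point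
  have hmax : ∀ z : ↥(pullback sY f), (∀ z', z' ⤳ z → z' = z) → p z = genericPoint X := by
    intro z hz
    have h1 : genericPoint X ⤳ p z := genericPoint_specializes _
    obtain ⟨z', hz', hpz'⟩ := Flat.generalizingMap p h1
    rw [← hpz', hz z' hz']
  have hdomp : ∀ z : ↥(pullback sY f), closure {z} ∈ irreducibleComponents ↥(pullback sY f) →
      p.base z = genericPoint X := fun z hz => hmax z (fun z' hz' =>
    Groth.Agent.Helper14.DomMax.eq_of_specializes_of_mem_irreducibleComponents hz hz')
  obtain ⟨u, hu⟩ : ∃ u : pullback sY f ⟶ sX.normalization, u ≫ sX.fromNormalization = p := by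
    obtain ⟨u, hu, -⟩ := Groth.Agent.Helper14.NormUP.main X p hXη hdomp
    exact ⟨u, hu⟩
  -- the generic point of the generic fibre
  have hsp : f (genericPoint X) ⤳ genericPoint Y := specializes_of_eq hfη
  let a : Spec (X.presheaf.stalk (genericPoint X)) ⟶ Spec (Y.presheaf.stalk (genericPoint Y)) :=
    Spec.map (f.stalkMap (genericPoint X)) ≫ Spec.map (Y.presheaf.stalkSpecializes hsp)
  have ha : a ≫ sY = sX ≫ f := by
    simp only [a, sY, sX, Category.assoc]
    rw [Scheme.SpecMap_stalkSpecializes_fromSpecStalk, Scheme.SpecMap_stalkMap_fromSpecStalk]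
  let j : Spec (X.presheaf.stalk (genericPoint X)) ⟶ pullback sY f := pullback.lift a sX ha
  have hj : j ≫ p = sX := pullback.lift_snd _ _ _
  haveI : IsDominant j := by
    constructor
    let ζ₀ := j (IsLocalRing.closedPoint (X.presheaf.stalk (genericPoint X)))
    have hζ₀ : p ζ₀ = genericPoint X := by
      show p (j _) = _
      rw [← Scheme.Hom.comp_apply, hj]
      exact Scheme.fromSpecStalk_closedPoint
    have hind : Topology.IsInducing p := (inferInstance : IsPreimmersion p).isEmbedding.isInducing
    intro z
    have : ζ₀ ⤳ z := by
      apply hind.specializes_iff.mp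
      rw [hζ₀]
      exact genericPoint_specializes _
    have hmem : ζ₀ ∈ Set.range j := ⟨_, rfl⟩
    exact closure_mono (Set.singleton_subset_iff.mpr hmem)
      (specializes_iff_mem_closure.mp this)
  -- the two normalizations
  have hνX : Curv2.normalizationι X = sX.fromNormalization := rfl
  have hνY : Curv2.normalizationι Y = sY.fromNormalization := rfl
  have hju : j ≫ u = sX.toNormalization := by
    refine lift_field_unique (X := X) (j ≫ u) sX.toNormalization ?_ ?_
    · show (j ≫ u) ≫ sX.fromNormalization = sX
      rw [Category.assoc, hu, hj]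
    · exact sX.toNormalization_fromNormalization
  let a₁ : p.normalization ⟶ sX.normalization :=
    p.normalizationDesc u sX.fromNormalization hu.symm
  have ha₁ : a₁ ≫ sX.fromNormalization = p.fromNormalization := p.normalizationDesc_comp _ _ _
  have ha₁' : p.toNormalization ≫ a₁ = u := p.toNormalization_normalizationDesc _ _ _
  have hH : sX = (j ≫ p.toNormalization) ≫ p.fromNormalization := by
    rw [Category.assoc, p.toNormalization_fromNormalization, hj]
  let b₁ : sX.normalization ⟶ p.normalization :=
    sX.normalizationDesc (j ≫ p.toNormalization) p.fromNormalization hH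
  have hb₁ : b₁ ≫ p.fromNormalization = sX.fromNormalization := sX.normalizationDesc_comp _ _ _
  have hb₁' : sX.toNormalization ≫ b₁ = j ≫ p.toNormalization :=
    sX.toNormalization_normalizationDesc _ _ _
  have hub : u ≫ b₁ = p.toNormalization := by
    refine ext_of_isDominant_of_isSeparated p.fromNormalization ?_ j ?_
    · rw [Category.assoc, hb₁, p.toNormalization_fromNormalization]
      exact hu
    · rw [← Category.assoc, hju, hb₁']
  have hab : a₁ ≫ b₁ = 𝟙 _ := by
    refine Scheme.Hom.normalization.hom_ext p _ _ p.fromNormalization ?_ ?_ (Category.id_comp _)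
    · rw [← Category.assoc, ha₁', hub, Category.comp_id]
    · rw [Category.assoc, hb₁, ha₁]
  have hba : b₁ ≫ a₁ = 𝟙 _ := by
    refine Scheme.Hom.normalization.hom_ext sX _ _ sX.fromNormalization ?_ ?_ (Category.id_comp _)
    · rw [← Category.assoc, hb₁', Category.assoc, ha₁', hju, Category.comp_id]
    · rw [Category.assoc, ha₁, hb₁]
  let e₁ : sX.normalization ≅ p.normalization := ⟨b₁, a₁, hba, hab⟩
  let e₂ : p.normalization ≅ pullback sY.fromNormalization f :=
    asIso (sY.normalizationPullback f)
  let e₃ : pullback sY.fromNormalization f ≅ pullback f sY.fromNormalization :=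
    pullbackSymmetry _ _
  let e : Curv2.normalization X ≅ pullback f (Curv2.normalizationι Y) := e₁ ≪≫ e₂ ≪≫ e₃
  have he : e.hom ≫ pullback.fst f (Curv2.normalizationι Y) = Curv2.normalizationι X := by
    show (b₁ ≫ sY.normalizationPullback f ≫ (pullbackSymmetry _ _).hom) ≫
      pullback.fst f sY.fromNormalization = sX.fromNormalization
    rw [Category.assoc, Category.assoc, pullbackSymmetry_hom_comp_fst,
      Scheme.Hom.normalizationPullback_snd, hb₁]
  refine ⟨e, he, ?_⟩
  intro e' he'
  -- uniqueness
  have hnX : Pi1.IsNormalScheme (Curv2.normalization X) :=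
    Groth.Agent.Helper1.NAff.isNormalScheme_normalization X
  haveI := Groth.Agent.Helper1.NAff.isIntegral_normalization X
  obtain ⟨z₀, hz₀, hz₀η, -⟩ := Groth.Agent.Helper1.NAff.exists_generic X
  have hdomX : ∀ z : ↥(Curv2.normalization X),
      closure {z} ∈ irreducibleComponents ↥(Curv2.normalization X) →
      (Curv2.normalizationι X ≫ f).base z = genericPoint Y := by
    intro z hz
    have : z = genericPoint (Curv2.normalization X) :=
      Groth.Agent.Helper14.DomMax.eq_of_specializes_of_mem_irreducibleComponents
        (η := z) (z := genericPoint (Curv2.normalization X)) hz (genericPoint_specializes z)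
        |>.symm
    rw [this, ← hz₀]
    show f ((Curv2.normalizationι X) z₀) = _
    rw [hz₀η, hfη]
  obtain ⟨_, -, huniq⟩ := Groth.Agent.Helper14.NormUP.main Y (Curv2.normalizationι X ≫ f)
    hnX hdomX
  apply Iso.ext
  apply pullback.hom_ext
  · rw [he', he]
  · have h1 : (e'.hom ≫ pullback.snd f (Curv2.normalizationι Y)) ≫ Curv2.normalizationι Y =
        Curv2.normalizationι X ≫ f := by
      rw [Category.assoc, ← pullback.condition, ← Category.assoc, he']
    have h2 : (e.hom ≫ pullback.snd f (Curv2.normalizationι Y)) ≫ Curv2.normalizationι Y =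
        Curv2.normalizationι X ≫ f := by
      rw [Category.assoc, ← pullback.condition, ← Category.assoc, he]
    rw [huniq _ h1, huniq _ h2]

end Main

end Groth.Agent.Helper14.NormSm
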