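import Mathlib
import Groth.Agent.Lib.Helper2.KosDescent
import Groth.Agent.Lib.Helper26.H1QR5

/-!
# Adapted minimal generators in a local ring (helper14)
-/

set_option autoImplicit false
set_option linter.style.haveILetI false
set_option linter.unusedSectionVars false
set_option linter.unusedVariables false
set_option maxRecDepth 8000
universe u

namespace Groth.Agent.Helper14.SplitReg

open Groth.Agent.Helper2.KosDescent Groth.Agent.Helper26.H1QR

section Drop

variable {R : Type u} [CommRing R]

theorem exists_coeff_of_mem_mul {n : ℕ} (𝔞 : Ideal R) (f : Fin n → R) (x : R)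
    (hx : x ∈ 𝔞 * Ideal.span (Set.range f)) :
    ∃ q : Fin n → R, (∀ i, q i ∈ 𝔞) ∧ x = ∑ i, q i * f i := by
  refine Submodule.smul_induction_on hx ?_ ?_
  · intro a ha y hy
    obtain ⟨c, rfl⟩ := Ideal.mem_span_range_iff_exists_fun.1 hy
    refine ⟨fun i => a * c i, fun i => Ideal.mul_mem_right _ _ ha, ?_⟩
    rw [smul_eq_mul, Finset.mul_sum]
    exact Finset.sum_congr rfl fun i _ => (mul_assoc _ _ _).symm
  · rintro x y ⟨q, hq, rfl⟩ ⟨q', hq', rfl⟩
    refine ⟨q + q', fun i => Ideal.add_mem _ (hq i) (hq' i), ?_⟩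
    simp only [Pi.add_apply, add_mul, Finset.sum_add_distrib]

/-- dropping a generator which is a combination of the others -/
theorem mem_span_succAbove {s : ℕ} (F : Fin (s + 1) → R) (c : Fin (s + 1) → R)
    (hc : ∑ i, c i * F i = 0) (k : Fin (s + 1)) (hk : IsUnit (c k)) :
    F k ∈ Ideal.span (Set.range (fun i => F (k.succAbove i))) := by
  rw [Fin.sum_univ_succAbove _ k] at hc
  have h1 : c k * F k = - ∑ i, c (k.succAbove i) * F (k.succAbove i) :=
    eq_neg_of_add_eq_zero_left hc
  have h2 : F k = ↑hk.unit⁻¹ * (c k * F k) := by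
    rw [← mul_assoc, IsUnit.val_inv_mul, one_mul]
  rw [h2, h1]
  refine Ideal.mul_mem_left _ _ ((Ideal.neg_mem_iff _).2 (Ideal.sum_mem _ fun i _ => ?_))
  exact Ideal.mul_mem_left _ _ (Ideal.subset_span ⟨i, rfl⟩)

theorem span_succAbove {s : ℕ} (F : Fin (s + 1) → R) (c : Fin (s + 1) → R)
    (hc : ∑ i, c i * F i = 0) (k : Fin (s + 1)) (hk : IsUnit (c k)) :
    Ideal.span (Set.range (fun i => F (k.succAbove i))) = Ideal.span (Set.range F) := by
  apply le_antisymm
  · apply Ideal.span_mono
    rintro _ ⟨i, rfl⟩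
    exact ⟨_, rfl⟩
  · rw [Ideal.span_le]
    rintro _ ⟨i, rfl⟩
    by_cases hik : i = k
    · subst hik
      exact mem_span_succAbove F c hc i hk
    · obtain ⟨i', rfl⟩ := Fin.exists_succAbove_eq hik
      exact Ideal.subset_span ⟨i', rfl⟩

end Drop

section Local

variable {L : Type u} [CommRing L] [IsLocalRing L]

theorem isUnit_of_notMem {x : L} (hx : x ∉ IsLocalRing.maximalIdeal L) : IsUnit x := by
  by_contra hnu
  exact hx ((IsLocalRing.mem_maximalIdeal _).2 hnu)

/-- a finite generating family contains a minimal generating subfamily -/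
theorem exists_minimal_gen : ∀ (s : ℕ) (e : Fin s → L),
    ∃ (n : ℕ) (ι : Fin n → Fin s),
      Ideal.span (Set.range (fun i => e (ι i))) = Ideal.span (Set.range e) ∧
      Rel (fun i => e (ι i)) ≤ IsLocalRing.maximalIdeal L := by
  intro s
  induction s with
  | zero =>
    intro e
    refine ⟨0, Fin.elim0, ?_, ?_⟩
    · congr 1
      ext x
      constructor <;> rintro ⟨i, _⟩ <;> exact i.elim0
    · rw [rel_le_iff]
      intro c _ j
      exact j.elim0
  | succ s ih =>
    intro e
    by_cases h : Rel e ≤ IsLocalRing.maximalIdeal L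
    · exact ⟨s + 1, id, rfl, h⟩
    · rw [rel_le_iff] at h
      push_neg at h
      obtain ⟨c, hc, k, hk⟩ := h
      have hku : IsUnit (c k) := isUnit_of_notMem hk
      obtain ⟨n, ι, h1, h2⟩ := ih (fun i => e (k.succAbove i))
      exact ⟨n, fun i => k.succAbove (ι i), h1.trans (span_succAbove e c hc k hku), h2⟩

variable {n N : ℕ} (f : Fin n → L) (I' J' : Ideal L)
  (hf : Ideal.span (Set.range f) = I') (hfmin : Rel f ≤ IsLocalRing.maximalIdeal L)
  (hstar : I' ⊓ IsLocalRing.maximalIdeal L * J' ≤ IsLocalRing.maximalIdeal L * I')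

include hf hfmin hstar in
/-- a relation with a unit coefficient on one of the `g`s -/
theorem rel_arg {m : ℕ} (g : Fin m → L) (h : Fin N → L)
    (hh : Ideal.span (Set.range h) = J')
    (hg : Ideal.span (Set.range f) ⊔ Ideal.span (Set.range g) = J') (hgt : N < n + m) :
    ∃ c : Fin (n + m) → L, ∑ k, c k * Fin.append f g k = 0 ∧
      ∃ j : Fin m, IsUnit (c (Fin.natAdd n j)) := by
  have hsp : Ideal.span (Set.range (Fin.append f g)) = Ideal.span (Set.range h) := by
    rw [span_range_append, hg, hh]
  have htop := rel_eq_top (Fin.append f g) h hsp hgt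
  have hnot : ¬ Rel (Fin.append f g) ≤ IsLocalRing.maximalIdeal L := by
    rw [htop]
    intro hle
    exact (IsLocalRing.maximalIdeal.isMaximal L).ne_top (top_le_iff.1 hle)
  rw [rel_le_iff] at hnot
  push_neg at hnot
  obtain ⟨c, hc, k, hk⟩ := hnot
  refine ⟨c, hc, ?_⟩
  by_contra hno
  push_neg at hno
  have hcm : ∀ j : Fin m, c (Fin.natAdd n j) ∈ IsLocalRing.maximalIdeal L := fun j =>
    (IsLocalRing.mem_maximalIdeal _).2 (hno j)
  rw [Fin.sum_univ_add] at hc
  simp only [Fin.append_left, Fin.append_right] at hc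
  have hxI : (∑ i : Fin n, c (Fin.castAdd m i) * f i) ∈ I' := by
    rw [← hf]
    exact Ideal.sum_mem _ fun i _ => Ideal.mul_mem_left _ _ (Ideal.subset_span ⟨i, rfl⟩)
  have hgJ : ∀ j, g j ∈ J' := fun j => by
    rw [← hg]
    exact Ideal.mem_sup_right (Ideal.subset_span ⟨j, rfl⟩)
  have hxJ : (∑ i : Fin n, c (Fin.castAdd m i) * f i) ∈ IsLocalRing.maximalIdeal L * J' := by
    have : (∑ i : Fin n, c (Fin.castAdd m i) * f i) =
        - ∑ j : Fin m, c (Fin.natAdd n j) * g j := eq_neg_of_add_eq_zero_left hc
    rw [this]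
    exact (Ideal.neg_mem_iff _).2
      (Ideal.sum_mem _ fun j _ => Ideal.mul_mem_mul (hcm j) (hgJ j))
  have hx2 := hstar ⟨hxI, hxJ⟩
  rw [← hf] at hx2
  obtain ⟨q, hq, hqx⟩ := exists_coeff_of_mem_mul _ f _ hx2
  have hrel : ∑ i, (c (Fin.castAdd m i) - q i) * f i = 0 := by
    simp only [sub_mul, Finset.sum_sub_distrib]
    rw [hqx, sub_self]
  have hmem : ∀ i, c (Fin.castAdd m i) ∈ IsLocalRing.maximalIdeal L := fun i => by
    have h1 := hfmin (mem_rel f _ hrel i)
    have h2 := Ideal.add_mem _ h1 (hq i)
    rwa [sub_add_cancel] at h2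
  induction k using Fin.addCases with
  | left i => exact hk (hmem i)
  | right j => exact hk (hcm j)

include hf hfmin hstar in
/-- completing minimal generators of `I'` to generators of `J'` by a subfamily of the given
minimal generators of `J'`. -/
theorem exists_adapted (h : Fin N → L) (hh : Ideal.span (Set.range h) = J')
    (hhmin : Rel h ≤ IsLocalRing.maximalIdeal L) (hIJ : I' ≤ J') :
    ∃ (m : ℕ) (ι : Fin m → Fin N), n + m = N ∧
      Ideal.span (Set.range f) ⊔ Ideal.span (Set.range (fun j => h (ι j))) = J' := by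
  have key : ∀ (m : ℕ) (ι : Fin m → Fin N),
      Ideal.span (Set.range f) ⊔ Ideal.span (Set.range (fun j => h (ι j))) = J' →
      ∃ (m' : ℕ) (ι' : Fin m' → Fin N), n + m' = N ∧
        Ideal.span (Set.range f) ⊔ Ideal.span (Set.range (fun j => h (ι' j))) = J' := by
    have hltcase : ∀ (m : ℕ) (g : Fin m → L),
        Ideal.span (Set.range f) ⊔ Ideal.span (Set.range g) = J' → ¬ n + m < N := by
      intro m g hg hlt
      have hsp : Ideal.span (Set.range h) = Ideal.span (Set.range (Fin.append f g)) := by
        rw [span_range_append, hg, hh]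
      have htop := rel_eq_top h (Fin.append f g) hsp hlt
      rw [htop] at hhmin
      exact (IsLocalRing.maximalIdeal.isMaximal L).ne_top (top_le_iff.1 hhmin)
    intro m
    induction m with
    | zero =>
      intro ι hι
      rcases lt_trichotomy (n + 0) N with hlt | heq | hgt
      · exact absurd hlt (hltcase 0 _ hι)
      · exact ⟨0, ι, heq, hι⟩
      · obtain ⟨c, hc, j, hj⟩ := rel_arg f I' J' hf hfmin hstar (fun j => h (ι j)) h hh hι hgt
        exact j.elim0
    | succ m ih =>
      intro ι hι
      rcases lt_trichotomy (n + (m + 1)) N with hlt | heq | hgt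
      · exact absurd hlt (hltcase (m + 1) _ hι)
      · exact ⟨m + 1, ι, heq, hι⟩
      · obtain ⟨c, hc, j, hj⟩ := rel_arg f I' J' hf hfmin hstar (fun j => h (ι j)) h hh hι hgt
        apply ih (fun i => ι (j.succAbove i))
        rw [← hι]
        apply le_antisymm
        · apply sup_le_sup_left
          apply Ideal.span_mono
          rintro _ ⟨i, rfl⟩
          exact ⟨_, rfl⟩
        · apply sup_le le_sup_left
          rw [Ideal.span_le]
          rintro _ ⟨j', rfl⟩
          by_cases hjj : j' = j
          · subst hjj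
            rw [Fin.sum_univ_add] at hc
            simp only [Fin.append_left, Fin.append_right] at hc
            rw [Fin.sum_univ_succAbove (fun j => c (Fin.natAdd n j) * h (ι j)) j'] at hc
            have h1 : c (Fin.natAdd n j') * h (ι j') =
                - (∑ i : Fin n, c (Fin.castAdd (m + 1) i) * f i +
                  ∑ i : Fin m, c (Fin.natAdd n (j'.succAbove i)) * h (ι (j'.succAbove i))) := by
              have : c (Fin.natAdd n j') * h (ι j') +
                  (∑ i : Fin n, c (Fin.castAdd (m + 1) i) * f i +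
                  ∑ i : Fin m, c (Fin.natAdd n (j'.succAbove i)) * h (ι (j'.succAbove i))) = 0 := by
                rw [← hc]
                ring
              exact eq_neg_of_add_eq_zero_left this
            have h2 : h (ι j') = ↑hj.unit⁻¹ * (c (Fin.natAdd n j') * h (ι j')) := by
              rw [← mul_assoc, IsUnit.val_inv_mul, one_mul]
            change h (ι j') ∈ _
            rw [h2, h1]
            refine Ideal.mul_mem_left _ _ ((Ideal.neg_mem_iff _).2 (Ideal.add_mem _ ?_ ?_))
            · exact Ideal.mem_sup_left (Ideal.sum_mem _ fun i _ =>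
                Ideal.mul_mem_left _ _ (Ideal.subset_span ⟨i, rfl⟩))
            · exact Ideal.mem_sup_right (Ideal.sum_mem _ fun i _ =>
                Ideal.mul_mem_left _ _ (Ideal.subset_span ⟨i, rfl⟩))
          · obtain ⟨i', rfl⟩ := Fin.exists_succAbove_eq hjj
            exact Ideal.mem_sup_right (Ideal.subset_span ⟨i', rfl⟩)
  apply key N id
  change Ideal.span (Set.range f) ⊔ Ideal.span (Set.range h) = J'
  rw [hf, hh]
  exact sup_eq_right.2 hIJ

end Local

end Groth.Agent.Helper14.SplitReg
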