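import Mathlib
import Groth.Agent.Lib.Helper14.SplitReg1

/-!
# Adapted generators near a prime (helper14)
-/

set_option autoImplicit false
set_option linter.style.haveILetI false
set_option linter.unusedSectionVars false
set_option linter.unusedVariables false
set_option maxRecDepth 8000
universe u

namespace Groth.Agent.Helper14.SplitReg

open Groth.Agent.Helper2.KosDescent

variable {A : Type u} [CommRing A] (p : Ideal A) [hp : p.IsPrime]

/-- spreading out -/
theorem exists_common_denominator {t : ℕ} (E : Fin t → A) (K : Ideal A)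
    (hE : ∀ i, ∃ s, s ∉ p ∧ s * E i ∈ K) :
    ∃ d, d ∉ p ∧ ∀ x ∈ Ideal.span (Set.range E), d * x ∈ K := by
  classical
  choose s hs hsE using hE
  refine ⟨∏ i, s i, ?_, ?_⟩
  · rw [Ideal.IsPrime.prod_mem_iff]
    rintro ⟨i, -, hi⟩
    exact hs i hi
  · intro x hx
    induction hx using Submodule.span_induction with
    | mem y hy =>
      obtain ⟨i, rfl⟩ := hy
      rw [← Finset.mul_prod_erase Finset.univ s (Finset.mem_univ i)]
      rw [mul_comm (s i), mul_assoc]
      exact Ideal.mul_mem_left _ _ (hsE i)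
    | zero => rw [mul_zero]; exact Ideal.zero_mem _
    | add a b _ _ ha hb => rw [mul_add]; exact Ideal.add_mem _ ha hb
    | smul c a _ ha => rw [smul_eq_mul, mul_left_comm]; exact Ideal.mul_mem_left _ _ ha

variable (L : Type u) [CommRing L] [Algebra A L] [IsLocalization.AtPrime L p]

theorem star_localize (I J : Ideal A) (hstar : I ⊓ p * J ≤ p * I) :
    I.map (algebraMap A L) ⊓ (p.map (algebraMap A L)) * J.map (algebraMap A L) ≤
      (p.map (algebraMap A L)) * I.map (algebraMap A L) := by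
  rintro x ⟨hxI, hxJ⟩
  obtain ⟨⟨⟨a, ha⟩, ⟨s, hs⟩⟩, hx⟩ :=
    (IsLocalization.mem_map_algebraMap_iff p.primeCompl L).1 hxI
  simp only at hx
  rw [← Ideal.map_mul] at hxJ ⊢
  have h1 : algebraMap A L a ∈ (p * J).map (algebraMap A L) := by
    rw [← hx]
    exact Ideal.mul_mem_right _ _ hxJ
  obtain ⟨u, hu, hua⟩ :=
    (IsLocalization.algebraMap_mem_map_algebraMap_iff p.primeCompl L _ _).1 h1
  have h2 : u * a ∈ p * I := hstar ⟨Ideal.mul_mem_left _ _ ha, hua⟩
  have h3 : algebraMap A L (u * a) ∈ (p * I).map (algebraMap A L) := Ideal.mem_map_of_mem _ h2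
  have hunit : IsUnit (algebraMap A L (u * s)) :=
    IsLocalization.map_units L (⟨u * s, p.primeCompl.mul_mem hu hs⟩ : p.primeCompl)
  have h4 : algebraMap A L (u * s) * x = algebraMap A L (u * a) := by
    rw [map_mul, map_mul, mul_assoc, mul_comm (algebraMap A L s) x, hx]
  rw [← Ideal.unit_mul_mem_iff_mem _ hunit, h4]
  exact h3

theorem span_map_eq (I : Ideal A) {n : ℕ} (f : Fin n → A) (hfI : ∀ i, f i ∈ I)
    (hfgen : ∀ x ∈ I, ∃ s, s ∉ p ∧ s * x ∈ Ideal.span (Set.range f)) :
    Ideal.span (Set.range (fun i => algebraMap A L (f i))) = I.map (algebraMap A L) := by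
  apply le_antisymm
  · rw [Ideal.span_le]
    rintro _ ⟨i, rfl⟩
    exact Ideal.mem_map_of_mem _ (hfI i)
  · rw [Ideal.map_le_iff_le_comap]
    intro x hx
    obtain ⟨s, hs, hsx⟩ := hfgen x hx
    rw [Ideal.mem_comap]
    have h1 : algebraMap A L (s * x) ∈ (Ideal.span (Set.range f)).map (algebraMap A L) :=
      Ideal.mem_map_of_mem _ hsx
    rw [Ideal.map_span, ← Set.range_comp, map_mul] at h1
    exact (Ideal.unit_mul_mem_iff_mem _
      (IsLocalization.map_units L (⟨s, hs⟩ : p.primeCompl))).1 h1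

omit [IsLocalization.AtPrime L p] hp in
theorem span_map_eq' {n : ℕ} (f : Fin n → A) :
    Ideal.span (Set.range (fun i => algebraMap A L (f i))) =
      (Ideal.span (Set.range f)).map (algebraMap A L) := by
  rw [Ideal.map_span, ← Set.range_comp]
  rfl

/-- completing local minimal generators of `I` to local generators of `J`. -/
theorem exists_adapted_global (I J : Ideal A) {n N : ℕ} (f : Fin n → A) (h : Fin N → A)
    (hfI : ∀ i, f i ∈ I) (hfgen : ∀ x ∈ I, ∃ s, s ∉ p ∧ s * x ∈ Ideal.span (Set.range f))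
    (hfmin : Rel f ≤ p) (hh : Ideal.span (Set.range h) = J) (hhmin : Rel h ≤ p)
    (hIJ : I ≤ J) (hstar : I ⊓ p * J ≤ p * I) :
    ∃ (m : ℕ) (ι : Fin m → Fin N) (d : A), n + m = N ∧ d ∉ p ∧
      ∀ x ∈ J, d * x ∈ Ideal.span (Set.range f) ⊔
        Ideal.span (Set.range (fun j => h (ι j))) := by
  let L := Localization.AtPrime p
  have hm : p.map (algebraMap A L) = IsLocalRing.maximalIdeal L :=
    IsLocalization.AtPrime.map_eq_maximalIdeal p L
  have hf' := span_map_eq p L I f hfI hfgen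
  have hfmin' : Rel (fun i => algebraMap A L (f i)) ≤ IsLocalRing.maximalIdeal L := by
    rw [rel_baseChange L f, ← hm]
    exact Ideal.map_mono hfmin
  have hh' : Ideal.span (Set.range (fun i => algebraMap A L (h i))) =
      J.map (algebraMap A L) := by
    rw [span_map_eq' L h, hh]
  have hhmin' : Rel (fun i => algebraMap A L (h i)) ≤ IsLocalRing.maximalIdeal L := by
    rw [rel_baseChange L h, ← hm]
    exact Ideal.map_mono hhmin
  have hstar' := star_localize p L I J hstar
  rw [hm] at hstar'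
  obtain ⟨m, ι, hnm, hsp⟩ := exists_adapted (fun i => algebraMap A L (f i))
    (I.map (algebraMap A L)) (J.map (algebraMap A L)) hf' hfmin' hstar'
    (fun i => algebraMap A L (h i)) hh' hhmin' (Ideal.map_mono hIJ)
  have hE : ∀ k : Fin N, ∃ s, s ∉ p ∧ s * h k ∈
      Ideal.span (Set.range f) ⊔ Ideal.span (Set.range (fun j => h (ι j))) := by
    intro k
    have h1 : algebraMap A L (h k) ∈ (Ideal.span (Set.range f) ⊔
        Ideal.span (Set.range (fun j => h (ι j)))).map (algebraMap A L) := by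
      rw [Ideal.map_sup, ← span_map_eq' L f, ← span_map_eq' L (fun j => h (ι j)), hsp]
      exact Ideal.mem_map_of_mem _ (by rw [← hh]; exact Ideal.subset_span ⟨k, rfl⟩)
    obtain ⟨s, hs, hsx⟩ :=
      (IsLocalization.algebraMap_mem_map_algebraMap_iff p.primeCompl L _ _).1 h1
    exact ⟨s, hs, hsx⟩
  obtain ⟨d, hd, hdx⟩ := exists_common_denominator p h _ hE
  exact ⟨m, ι, d, hnm, hd, fun x hx => hdx x (by rw [hh]; exact hx)⟩

/-- local minimal generators of a finitely generated ideal -/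
theorem exists_minimal_global (I : Ideal A) (hI : I.FG) :
    ∃ (n : ℕ) (f : Fin n → A), (∀ i, f i ∈ I) ∧
      (∃ d, d ∉ p ∧ ∀ x ∈ I, d * x ∈ Ideal.span (Set.range f)) ∧ Rel f ≤ p := by
  let L := Localization.AtPrime p
  obtain ⟨s, e, he0⟩ := Submodule.fg_iff_exists_fin_generating_family.1 hI
  have he : Ideal.span (Set.range e) = I := he0
  obtain ⟨n, ι, h1, h2⟩ := exists_minimal_gen s (fun i => algebraMap A L (e i))
  have heI : ∀ i, e i ∈ I := fun i => by rw [← he]; exact Ideal.subset_span ⟨i, rfl⟩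
  refine ⟨n, fun i => e (ι i), fun i => heI _, ?_, ?_⟩
  · have hE : ∀ k : Fin s, ∃ t, t ∉ p ∧ t * e k ∈ Ideal.span (Set.range (fun i => e (ι i))) := by
      intro k
      have h3 : algebraMap A L (e k) ∈
          (Ideal.span (Set.range (fun i => e (ι i)))).map (algebraMap A L) := by
        rw [← span_map_eq' L (fun i => e (ι i)), h1]
        exact Ideal.subset_span ⟨k, rfl⟩
      obtain ⟨t, ht, htx⟩ :=
        (IsLocalization.algebraMap_mem_map_algebraMap_iff p.primeCompl L _ _).1 h3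
      exact ⟨t, ht, htx⟩
    obtain ⟨d, hd, hdx⟩ := exists_common_denominator p e _ hE
    exact ⟨d, hd, fun x hx => hdx x (by rw [he]; exact hx)⟩
  · intro x hx
    have h3 : algebraMap A L x ∈ Rel (fun i => algebraMap A L (e (ι i))) := by
      rw [rel_baseChange L (fun i => e (ι i))]
      exact Ideal.mem_map_of_mem _ hx
    exact (IsLocalization.AtPrime.to_map_mem_maximal_iff L p x).1 (h2 h3)

/-- the final package -/
theorem exists_adapted_final (I J : Ideal A) {N : ℕ} (h : Fin N → A)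
    (hh : Ideal.span (Set.range h) = J) (hhmin : Rel h ≤ p) (hIJ : I ≤ J)
    (hstar : I ⊓ p * J ≤ p * I) {n : ℕ} (f : Fin n → A) (hfI : ∀ i, f i ∈ I) (dI : A)
    (hdI : dI ∉ p) (hfgen : ∀ x ∈ I, dI * x ∈ Ideal.span (Set.range f)) (hfmin : Rel f ≤ p) :
    ∃ (m : ℕ) (g : Fin m → A) (d : A), n + m = N ∧ d ∉ p ∧ (∀ j, g j ∈ J) ∧
      (∀ x ∈ I, d * x ∈ Ideal.span (Set.range f)) ∧
      (∀ x ∈ J, d * x ∈ Ideal.span (Set.range f) ⊔ Ideal.span (Set.range g)) := by
  obtain ⟨m, ι, dJ, hnm, hdJ, hgen⟩ := exists_adapted_global p I J f h hfI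
    (fun x hx => ⟨dI, hdI, hfgen x hx⟩) hfmin hh hhmin hIJ hstar
  refine ⟨m, fun j => h (ι j), dI * dJ, hnm, ?_, ?_, ?_, ?_⟩
  · intro hmem
    rcases hp.mem_or_mem hmem with h1 | h1
    · exact hdI h1
    · exact hdJ h1
  · intro j
    rw [← hh]
    exact Ideal.subset_span ⟨_, rfl⟩
  · intro x hx
    rw [mul_comm dI dJ, mul_assoc]
    exact Ideal.mul_mem_left _ _ (hfgen x hx)
  · intro x hx
    rw [mul_assoc]
    exact Ideal.mul_mem_left _ _ (hgen x hx)

end Groth.Agent.Helper14.SplitReg
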