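import Mathlib
import Groth.Agent.Lib.Helper14.SplitReg2
import Groth.Agent.Lib.Helper2.KosComp
import Groth.Agent.Lib.Helper2.H1Desc1
import Groth.Agent.Lib.Helper2.KindDesc
import Groth.Agent.Lib.Helper6.QRegGen
import Groth.Agent.Lib.Helper6.QRNilA
import Groth.Agent.Lib.Helper28.RegBC4
import Groth.Agent.S5803
import Groth.Agent.S18935

/-!
# Quotient of a sequence of kind `k` by an initial segment (helper14)
-/

set_option autoImplicit false
set_option linter.style.haveILetI false
set_option linter.unusedSectionVars false
set_option linter.unusedVariables false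
set_option maxRecDepth 8000
universe u

open CategoryTheory CategoryTheory.Limits

namespace Groth.Agent.Helper14.SplitReg

section H1

variable {A' B : Type u} [CommRing A'] [CommRing B] (π : A' →+* B) {n m : ℕ}

/-- restriction to the last `m` coordinates, followed by `π` -/
def restr (v : Fin (n + m) → A') : Fin m → B := fun j => π (v (Fin.natAdd n j))

theorem restr_single_left [DecidableEq (Fin (n + m))] (i : Fin n) (x : A') :
    restr π (Pi.single (Fin.castAdd m i) x : Fin (n + m) → A') = 0 := by
  funext j
  unfold restr
  have hne : Fin.natAdd n j ≠ Fin.castAdd m i := by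
    intro h
    have := congrArg Fin.val h
    simp only [Fin.val_natAdd, Fin.val_castAdd] at this
    omega
  rw [Pi.single_eq_of_ne hne, map_zero]
  rfl

theorem restr_single_right [DecidableEq (Fin (n + m))] [DecidableEq (Fin m)] (j₁ : Fin m)
    (x : A') :
    restr π (Pi.single (Fin.natAdd n j₁) x : Fin (n + m) → A') = Pi.single j₁ (π x) := by
  funext j
  unfold restr
  by_cases h : j = j₁
  · subst h
    rw [Pi.single_eq_same, Pi.single_eq_same]
  · have hne : Fin.natAdd n j ≠ Fin.natAdd n j₁ := fun h' => h ((Fin.natAdd_inj n).1 h')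
    rw [Pi.single_eq_of_ne hne, Pi.single_eq_of_ne h, map_zero]

theorem h1_quot (hπ : Function.Surjective π) (f : Fin n → A') (g : Fin m → A')
    (hker : RingHom.ker π = Ideal.span (Set.range f))
    (h : CAlgX.IsH1Regular (Fin.append f g)) : CAlgX.IsH1Regular (fun j => π (g j)) := by
  classical
  have hf0 : ∀ i, π (f i) = 0 := fun i => by
    have : f i ∈ RingHom.ker π := by
      rw [hker]
      exact Ideal.subset_span ⟨i, rfl⟩
    exact this
  intro ā hā
  choose a ha using fun j => hπ (ā j)
  have h1 : ∑ j, a j * g j ∈ RingHom.ker π := by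
    rw [RingHom.mem_ker, map_sum, ← hā]
    exact Finset.sum_congr rfl fun j _ => by rw [map_mul, ha]
  rw [hker] at h1
  obtain ⟨b, hb⟩ := Ideal.mem_span_range_iff_exists_fun.1 h1
  have hc : ∑ k, (Fin.append (fun i => - b i) a) k * Fin.append f g k = 0 := by
    rw [Fin.sum_univ_add]
    simp only [Fin.append_left, Fin.append_right, neg_mul, Finset.sum_neg_distrib]
    rw [hb, neg_add_cancel]
  have hmem := h _ hc
  have key : ∀ v : Fin (n + m) → A', v ∈ Submodule.span A'
      {v | ∃ i j, v = Pi.single i (Fin.append f g j) - Pi.single j (Fin.append f g i)} →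
      restr π v ∈ Submodule.span B {w : Fin m → B | ∃ i j : Fin m,
        w = Pi.single i (π (g j)) - Pi.single j (π (g i))} := by
    intro v hv
    induction hv using Submodule.span_induction with
    | mem v hv =>
      obtain ⟨k, l, rfl⟩ := hv
      have hsub : ∀ v w : Fin (n + m) → A', restr π (v - w) = restr π v - restr π w := by
        intro v w
        funext j
        simp only [restr, Pi.sub_apply, map_sub]
      rw [hsub]
      induction k using Fin.addCases with
      | left i =>
        induction l using Fin.addCases with
        | left i' =>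
          rw [restr_single_left, restr_single_left, sub_zero]
          exact Submodule.zero_mem _
        | right j' =>
          rw [restr_single_left, restr_single_right, Fin.append_left, hf0, Pi.single_zero,
            sub_zero]
          exact Submodule.zero_mem _
      | right j₁ =>
        induction l using Fin.addCases with
        | left i' =>
          rw [restr_single_left, restr_single_right, Fin.append_left, hf0, Pi.single_zero,
            sub_zero]
          exact Submodule.zero_mem _
        | right j₂ =>
          rw [restr_single_right, restr_single_right, Fin.append_right, Fin.append_right]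
          exact Submodule.subset_span ⟨j₁, j₂, rfl⟩
    | zero =>
      have : restr π (0 : Fin (n + m) → A') = 0 := by
        funext j
        simp only [restr, Pi.zero_apply, map_zero]
      rw [this]
      exact Submodule.zero_mem _
    | add x y _ _ hx hy =>
      have : restr π (x + y) = restr π x + restr π y := by
        funext j
        simp only [restr, Pi.add_apply, map_add]
      rw [this]
      exact Submodule.add_mem _ hx hy
    | smul r x _ hx =>
      have : restr π (r • x) = π r • restr π x := by
        funext j
        simp only [restr, Pi.smul_apply, smul_eq_mul, map_mul]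
      rw [this]
      exact Submodule.smul_mem _ _ hx
  have h2 := key _ hmem
  have hc' : restr π (Fin.append (fun i => - b i) a) = ā := by
    funext j
    simp only [restr, Fin.append_right, ha]
  rwa [hc'] at h2

end H1

section Quasi

open Groth.Agent.Helper28.RegBC

theorem qr_quot_list : ∀ (n : ℕ) (A' B : Type u) [CommRing A'] [CommRing B] (π : A' →+* B),
    Function.Surjective π → ∀ (fs gs : List A'), fs.length = n →
    RingHom.ker π = Ideal.ofList fs → CAlgX.IsQuasiRegular (fs ++ gs).get →
    CAlgX.IsQuasiRegular (gs.map π).get := by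
  intro n
  induction n with
  | zero =>
    intro A' B _ _ π hπ fs gs hlen hker h
    obtain rfl : fs = [] := List.length_eq_zero_iff.1 hlen
    rw [Ideal.ofList_nil] at hker
    have hinj : Function.Injective π := (RingHom.injective_iff_ker_eq_bot π).2 hker
    let e : A' ≃+* B := RingEquiv.ofBijective π ⟨hinj, hπ⟩
    have h1 : CAlgX.IsQuasiRegular gs.get := h
    have h2 := Groth.Agent.Helper6.QRNil.isQuasiRegular_ringEquiv e gs.get h1
    exact transport_get π gs (fun c f => CAlgX.IsQuasiRegular f) h2
  | succ n ih =>
    intro A' B _ _ π hπ fs gs hlen hker h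
    obtain ⟨a, fs', rfl⟩ : ∃ a fs', fs = a :: fs' := by
      cases fs with
      | nil => simp at hlen
      | cons a fs' => exact ⟨a, fs', rfl⟩
    have hlen' : fs'.length = n := by simpa using hlen
    have ha0 : π a = 0 := by
      have : a ∈ RingHom.ker π := by
        rw [hker]
        exact Ideal.subset_span List.mem_cons_self
      exact this
    have hle : Ideal.span {a} ≤ RingHom.ker π := by
      rw [Ideal.span_le]
      intro x hx
      rw [Set.mem_singleton_iff] at hx
      rw [hx]
      exact ha0
    let mk := Ideal.Quotient.mk (Ideal.span {a})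
    let π' : A' ⧸ Ideal.span {a} →+* B := Ideal.Quotient.lift (Ideal.span {a}) π
      (fun x hx => hle hx)
    have hπ'mk : ∀ x, π' (mk x) = π x := fun x => Ideal.Quotient.lift_mk _ _ _
    have hπ' : Function.Surjective π' := by
      intro b
      obtain ⟨x, rfl⟩ := hπ b
      exact ⟨mk x, hπ'mk x⟩
    have hker' : RingHom.ker π' = Ideal.ofList (fs'.map mk) := by
      rw [← Ideal.map_ofList]
      apply le_antisymm
      · intro y hy
        obtain ⟨x, rfl⟩ := Ideal.Quotient.mk_surjective y
        have hx : x ∈ RingHom.ker π := by
          rw [RingHom.mem_ker, ← hπ'mk]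
          exact hy
        rw [hker, Ideal.ofList_cons] at hx
        obtain ⟨y₁, hy₁, y₂, hy₂, rfl⟩ := Submodule.mem_sup.1 hx
        have : mk (y₁ + y₂) = mk y₂ := by
          rw [map_add, Ideal.Quotient.eq_zero_iff_mem.2 hy₁, zero_add]
        change mk (y₁ + y₂) ∈ _
        rw [this]
        exact Ideal.mem_map_of_mem _ hy₂
      · rw [Ideal.map_le_iff_le_comap]
        intro x hx
        rw [Ideal.mem_comap, RingHom.mem_ker, hπ'mk]
        have : x ∈ RingHom.ker π := by
          rw [hker, Ideal.ofList_cons]
          exact Ideal.mem_sup_right hx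
        exact this
    have h1 : CAlgX.IsQuasiRegular (a :: (fs' ++ gs)).get := h
    have h2 := Groth.Agent.S5803.isQuasiRegular_tail (a :: (fs' ++ gs)).get h1
    have h3 : CAlgX.IsQuasiRegular (fun i => mk ((fs' ++ gs).get i)) := h2
    have h4 := transport_get mk (fs' ++ gs) (fun c f => CAlgX.IsQuasiRegular f) h3
    rw [List.map_append] at h4
    have h5 := ih (A' ⧸ Ideal.span {a}) B π' hπ' (fs'.map mk) (gs.map mk)
      (by rw [List.length_map]; exact hlen') hker' h4
    have h6 : (gs.map mk).map π' = gs.map π := by
      rw [List.map_map]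
      apply List.map_congr_left
      intro x _
      exact hπ'mk x
    rw [h6] at h5
    exact h5

end Quasi

section Koszul

open Groth.Agent.Helper21.KL Groth.Agent.Helper21.KT Groth.Agent.Helper2.KosReg
  Groth.Agent.S15822 Groth.Agent.Helper2.KosComp HomologicalComplex

variable {A : Type u} [CommRing A]

/-- converse of transitivity of Koszul-regularity -/
theorem kr_quot (rs ts : List A) (hrs : LCI.IsKoszulRegularSeq A rs)
    (h : LCI.IsKoszulRegularSeq A (ts ++ rs)) :
    LCI.IsKoszulRegularSeq (A ⧸ Ideal.ofList rs)
      (ts.map (Ideal.Quotient.mk (Ideal.ofList rs))) := by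
  rw [isKoszulRegularSeq_iff] at h ⊢
  intro i hi
  obtain ⟨β, hβ⟩ := exists_aug_quasiIso rs hrs
  haveI := quasiIso_KzMap β ts
  have e := isoOfQuasiIsoAt (KzMap β ts) i
  have h1 : CohIII.koszulCx (ModuleCat.of A A) (ts ++ rs) =
      Kz (CohIII.koszulCx (ModuleCat.of A A) rs) ts := by
    rw [koszulCx_eq_Kz, Kz_append, ← koszulCx_eq_Kz]
  have h2 : CohIII.koszulCx (ModuleCat.of A (A ⧸ Ideal.ofList rs)) ts =
      Kz ((single (ModuleCat.{u} A) (ComplexShape.up ℤ) 0).obj
        (ModuleCat.of A (A ⧸ Ideal.ofList rs))) ts := koszulCx_eq_Kz _ _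
  refine (acycAt_restrict_iff (Ideal.Quotient.mk (Ideal.ofList rs)) (A ⧸ Ideal.ofList rs)
    (fun b m => rfl) ts i).mpr ?_
  unfold AcycAt
  rw [transfer h2 i]
  refine IsZero.of_iso ?_ e.symm
  rw [← transfer h1 i]
  exact h i hi

theorem kr_quot_surj {B : Type u} [CommRing B] (π : A →+* B) (hπ : Function.Surjective π)
    (rs ts : List A) (hker : RingHom.ker π = Ideal.ofList rs)
    (hrs : LCI.IsKoszulRegularSeq A rs) (h : LCI.IsKoszulRegularSeq A (ts ++ rs)) :
    LCI.IsKoszulRegularSeq B (ts.map π) := by
  have h1 := kr_quot rs ts hrs h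
  let e₁ : A ⧸ Ideal.ofList rs ≃+* A ⧸ RingHom.ker π := Ideal.quotEquivOfEq hker.symm
  let e₂ : A ⧸ RingHom.ker π ≃+* B := RingHom.quotientKerEquivOfSurjective hπ
  have h2 := isKoszulRegularSeq_ringEquiv (e₁.trans e₂) _ h1
  have h3 : (ts.map (Ideal.Quotient.mk (Ideal.ofList rs))).map (e₁.trans e₂) = ts.map π := by
    rw [List.map_map]
    apply List.map_congr_left
    intro x _
    rfl
  rw [h3] at h2
  exact h2

end Koszul

end Groth.Agent.Helper14.SplitReg
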