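import Mathlib
import Groth.Prelude.Def_RegImm
import Groth.Agent.Lib.Helper21.KoszDepth
import Groth.Agent.Lib.Helper21.KL5
import Groth.Agent.Lib.Helper2.KosReg
import Groth.Agent.Lib.Helper14.SplitReg3
import Groth.Agent.S18935

/-!
# Koszul-regular sequences become regular after adjoining variables (ring level, part 1)

The generic combination `gen (a :: l) = C a + X * gen l` of a list in `A[X]`, McCoy's theorem,
and the passage to `A[X] / (gen)`.
-/

set_option autoImplicit false
set_option linter.style.haveILetI false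
set_option linter.unusedSectionVars false
set_option linter.unusedVariables false
set_option maxRecDepth 8000

universe u

open CategoryTheory CategoryTheory.Limits Polynomial RingTheory.Sequence

namespace Groth.Agent.Helper14.PolyReg

open Groth.Agent.Helper21.KL Groth.Agent.Helper21.KF Groth.Agent.Helper21.KD
  Groth.Agent.Helper2.KosReg

variable {A : Type u} [CommRing A]

/-- the joint annihilator of a nonempty Koszul-regular sequence is zero -/
theorem ann_eq_zero_of_kr (xs : List A) (hne : xs ≠ []) (h : LCI.IsKoszulRegularSeq A xs)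
    (a : A) (ha : ∀ x ∈ xs, x * a = 0) : a = 0 := by
  by_contra hne0
  have hlen : 0 < xs.length := List.length_pos_iff.mpr hne
  obtain ⟨b, hb1, hb2⟩ := exists_bot (ModuleCat.of A A) xs (-(xs.length : ℤ)) rfl
  have hK := (isKoszulRegularSeq_iff xs).mp h (-(xs.length : ℤ)) (by omega)
  refine not_isZero_homology_of_cycle _ (-(xs.length : ℤ)) ?_ (b a) ?_ ?_ hK
  · exact isZero_X_of_lt (ModuleCat.of A A) xs _ (by omega)
  · intro h0
    exact hne0 (hb1 (h0.trans (map_zero b).symm))
  · exact hb2 a (fun x hx => by simpa [smul_eq_mul] using ha x hx) _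

/-- the generic combination `a₀ + a₁ X + a₂ X² + …` of a list -/
noncomputable def gen : List A → A[X]
  | [] => 0
  | a :: l => C a + X * gen l

theorem gen_nil : gen ([] : List A) = 0 := rfl

theorem gen_cons (a : A) (l : List A) : gen (a :: l) = C a + X * gen l := rfl

theorem gen_mem : ∀ l : List A, gen l ∈ Ideal.ofList (l.map (C : A →+* A[X]))
  | [] => by rw [gen_nil]; exact Ideal.zero_mem _
  | a :: l => by
    rw [gen_cons, List.map_cons, Ideal.ofList_cons]
    refine Ideal.add_mem _ (Ideal.mem_sup_left (Ideal.mem_span_singleton_self _))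
      (Ideal.mem_sup_right (Ideal.mul_mem_left _ _ (gen_mem l)))

theorem smul_gen (a : A) : ∀ l : List A, a • gen l = 0 → ∀ x ∈ l, x * a = 0
  | [], _, x, hx => by simp at hx
  | b :: l, h, x, hx => by
    have h0 : a * b = 0 := by
      have := congrArg (fun p => Polynomial.coeff p 0) h
      simpa [gen_cons] using this
    have h1 : a • gen l = 0 := by
      ext n
      have := congrArg (fun p => Polynomial.coeff p (n + 1)) h
      simpa [gen_cons, coeff_C_succ] using this
    rcases List.mem_cons.mp hx with rfl | hx'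
    · rw [mul_comm]; exact h0
    · exact smul_gen a l h1 x hx'

theorem gen_mem_nonZeroDivisors (a : A) (fs : List A)
    (h : LCI.IsKoszulRegularSeq A (a :: fs)) : gen (a :: fs) ∈ nonZeroDivisors A[X] :=
  Polynomial.mem_nonZeroDivisors_iff.mpr fun c hc =>
    ann_eq_zero_of_kr _ (List.cons_ne_nil _ _) h c (smul_gen c _ hc)

theorem C_head_mem (a : A) (fs : List A) :
    (C a : A[X]) ∈ Ideal.span {gen (a :: fs)} ⊔ Ideal.ofList (fs.map (C : A →+* A[X])) := by
  have h : (C a : A[X]) = gen (a :: fs) - X * gen fs := by rw [gen_cons]; ring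
  rw [h]
  exact Ideal.sub_mem _ (Ideal.mem_sup_left (Ideal.mem_span_singleton_self _))
    (Ideal.mem_sup_right (Ideal.mul_mem_left _ _ (gen_mem fs)))

theorem isSMulRegular_of_mem_nonZeroDivisors {R : Type u} [CommRing R] {r : R}
    (hr : r ∈ nonZeroDivisors R) : IsSMulRegular R r := by
  intro x y hxy
  have h1 : r * (x - y) = 0 := by
    have : r * x = r * y := hxy
    rw [mul_sub, this, sub_self]
  have h2 := (mem_nonZeroDivisors_iff.mp hr).1 _ h1
  exact sub_eq_zero.mp h2

theorem kr_singleton_of_mem_nonZeroDivisors {R : Type u} [CommRing R] {r : R}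
    (hr : r ∈ nonZeroDivisors R) : LCI.IsKoszulRegularSeq R [r] := by
  rw [isKoszulRegularSeq_iff]
  intro i hi
  exact homology_isZero_of_weaklyRegular [r] R
    ((isWeaklyRegular_singleton_iff R r).mpr (isSMulRegular_of_mem_nonZeroDivisors hr)) i hi

/-- `fs.map C ++ [gen (a :: fs)]` is Koszul-regular in `A[X]` -/
theorem kr_append_gen (a : A) (fs : List A) (h : LCI.IsKoszulRegularSeq A (a :: fs)) :
    LCI.IsKoszulRegularSeq A[X] (fs.map (C : A →+* A[X]) ++ [gen (a :: fs)]) := by
  have h0 : LCI.IsKoszulRegularSeq A[X] ((a :: fs).map (algebraMap A A[X])) :=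
    isKoszulRegularSeq_baseChange A[X] (a :: fs) h
  rw [isKoszulRegularSeq_iff] at h0 ⊢
  refine Groth.Agent.S18935.lemmaK _ _ ?_ ?_ ?_ h0
  · simp
  · intro x hx
    change x ∈ Ideal.ofList (fs.map (C : A →+* A[X]) ++ [gen (a :: fs)])
    rw [Ideal.ofList_append, Ideal.ofList_singleton, sup_comm]
    rw [List.map_cons, List.mem_cons] at hx
    rcases hx with rfl | hx
    · exact C_head_mem a fs
    · exact Ideal.mem_sup_right (Ideal.subset_span hx)
  · intro y hy
    change y ∈ Ideal.ofList ((a :: fs).map (algebraMap A A[X]))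
    rw [List.mem_append, List.mem_singleton] at hy
    rcases hy with hy | rfl
    · exact Ideal.subset_span (by
        show y ∈ (a :: fs).map (algebraMap A A[X])
        rw [List.map_cons]
        exact List.mem_cons_of_mem _ hy)
    · exact gen_mem (a :: fs)

/-- the images of `fs` in `A[X] / (gen (a :: fs))` form a Koszul-regular sequence -/
theorem kr_quot_gen (a : A) (fs : List A) (h : LCI.IsKoszulRegularSeq A (a :: fs)) :
    LCI.IsKoszulRegularSeq (A[X] ⧸ Ideal.span {gen (a :: fs)})
      ((fs.map (C : A →+* A[X])).map (Ideal.Quotient.mk (Ideal.span {gen (a :: fs)}))) := by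
  refine Groth.Agent.Helper14.SplitReg.kr_quot_surj (Ideal.Quotient.mk (Ideal.span {gen (a :: fs)}))
    Ideal.Quotient.mk_surjective [gen (a :: fs)] (fs.map (C : A →+* A[X])) ?_ ?_ ?_
  · rw [Ideal.mk_ker, Ideal.ofList_singleton]
  · exact kr_singleton_of_mem_nonZeroDivisors (gen_mem_nonZeroDivisors a fs h)
  · exact kr_append_gen a fs h

end Groth.Agent.Helper14.PolyReg
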