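import Mathlib
import Groth.Agent.Lib.Helper14.PolyReg1

/-!
# Koszul-regular sequences become regular after adjoining variables (ring level, part 2)

Induction on the length: if `f` is Koszul-regular in `A`, there are finitely many variables `σ`
and a weakly regular sequence in `MvPolynomial σ A` generating the extension of `(f)`.
-/

set_option autoImplicit false
set_option linter.style.haveILetI false
set_option linter.unusedSectionVars false
set_option linter.unusedVariables false
set_option maxRecDepth 8000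

universe u

open CategoryTheory CategoryTheory.Limits Polynomial RingTheory.Sequence Pointwise

namespace Groth.Agent.Helper14.PolyReg

theorem isSMulRegular_mvC {R : Type u} [CommRing R] (σ : Type) {r : R}
    (hr : r ∈ nonZeroDivisors R) :
    IsSMulRegular (MvPolynomial σ R) (MvPolynomial.C r : MvPolynomial σ R) := by
  intro p q hpq
  ext m
  have h := congrArg (MvPolynomial.coeff m) hpq
  simp only [smul_eq_mul, MvPolynomial.coeff_C_mul] at h
  exact isSMulRegular_of_mem_nonZeroDivisors hr h

theorem isWeaklyRegular_ringEquiv {R S : Type u} [CommRing R] [CommRing S] (e : R ≃+* S)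
    (rs : List R) (h : IsWeaklyRegular R rs) : IsWeaklyRegular S (rs.map e) :=
  (e.toAddEquiv.isWeaklyRegular_congr (List.forall₂_map_right_iff.mpr
    (List.forall₂_same.mpr fun r _ x => map_mul e r x))).mp h

theorem eq_of_ker_le_of_map_eq {R S : Type u} [CommRing R] [CommRing S] (ψ : R →+* S)
    (hψ : Function.Surjective ψ) (J₁ J₂ : Ideal R) (h1 : RingHom.ker ψ ≤ J₁)
    (h2 : RingHom.ker ψ ≤ J₂) (h : J₁.map ψ = J₂.map ψ) : J₁ = J₂ := by
  have key : ∀ J : Ideal R, RingHom.ker ψ ≤ J → (J.map ψ).comap ψ = J := by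
    intro J hJ
    rw [Ideal.comap_map_of_surjective ψ hψ, ← RingHom.ker_eq_comap_bot]
    exact sup_eq_left.mpr hJ
  rw [← key J₁ h1, ← key J₂ h2, h]

theorem wr_quot {R S : Type u} [CommRing R] [CommRing S] (ψ : R →+* S)
    (hψ : Function.Surjective ψ) (r : R) (hker : RingHom.ker ψ = Ideal.span {r}) (ht : List R)
    (hw : IsWeaklyRegular S (ht.map ψ)) : IsWeaklyRegular (QuotSMulTop r R) ht := by
  letI : Algebra R S := ψ.toAlgebra
  have hsurj : Function.Surjective (Algebra.linearMap R S) := hψ
  have hkerl : LinearMap.ker (Algebra.linearMap R S) = (r • ⊤ : Submodule R R) := by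
    ext x
    rw [LinearMap.mem_ker, Submodule.mem_smul_pointwise_iff_exists]
    change ψ x = 0 ↔ _
    rw [← RingHom.mem_ker, hker, Ideal.mem_span_singleton']
    constructor
    · rintro ⟨y, rfl⟩
      exact ⟨y, Submodule.mem_top, by rw [smul_eq_mul, mul_comm]⟩
    · rintro ⟨y, _, rfl⟩
      exact ⟨y, by rw [smul_eq_mul, mul_comm]⟩
  let e : QuotSMulTop r R ≃ₗ[R] S :=
    (Submodule.quotEquivOfEq _ _ hkerl.symm).trans
      ((Algebra.linearMap R S).quotKerEquivOfSurjective hsurj)
  refine (e.isWeaklyRegular_congr ht).mpr ?_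
  exact (isWeaklyRegular_map_algebraMap_iff S S ht).mp hw

/-- lifting a weakly regular sequence from `(B₁/g₀)[σ]` to `B₁[σ]` -/
theorem step_abs {B₁ B₂ : Type u} [CommRing B₁] [CommRing B₂] (π : B₁ →+* B₂)
    (hπ : Function.Surjective π) (g₀ : B₁) (hg₀ : g₀ ∈ nonZeroDivisors B₁)
    (hkerπ : RingHom.ker π = Ideal.span {g₀}) (σ : Type) (J : Ideal B₁) (hgJ : g₀ ∈ J)
    (hs : List (MvPolynomial σ B₂)) (hw : IsWeaklyRegular (MvPolynomial σ B₂) hs)
    (hI : Ideal.ofList hs = (J.map π).map MvPolynomial.C) :
    ∃ G : List (MvPolynomial σ B₁), IsWeaklyRegular (MvPolynomial σ B₁) G ∧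
      Ideal.ofList G = J.map MvPolynomial.C := by
  have hψ : Function.Surjective (MvPolynomial.map π : MvPolynomial σ B₁ →+* MvPolynomial σ B₂) :=
    MvPolynomial.map_surjective π hπ
  have hker : RingHom.ker (MvPolynomial.map π : MvPolynomial σ B₁ →+* MvPolynomial σ B₂) =
      Ideal.span {(MvPolynomial.C g₀ : MvPolynomial σ B₁)} := by
    rw [MvPolynomial.ker_map, hkerπ, Ideal.map_span, Set.image_singleton]
  obtain ⟨ht, hht⟩ : ∃ ht : List (MvPolynomial σ B₁), ht.map (MvPolynomial.map π) = hs :=
    List.map_surjective_iff.mpr hψ hs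
  subst hht
  refine ⟨MvPolynomial.C g₀ :: ht, ?_, ?_⟩
  · refine (isWeaklyRegular_cons_iff _ _ _).mpr ⟨isSMulRegular_mvC σ hg₀, ?_⟩
    exact wr_quot (MvPolynomial.map π) hψ _ hker ht hw
  · refine eq_of_ker_le_of_map_eq (MvPolynomial.map π) hψ _ _ ?_ ?_ ?_
    · rw [hker, Ideal.span_singleton_le_iff_mem, Ideal.ofList_cons]
      exact Ideal.mem_sup_left (Ideal.mem_span_singleton_self _)
    · rw [hker, Ideal.span_singleton_le_iff_mem]
      exact Ideal.mem_map_of_mem _ hgJ
    · have hC0 : (MvPolynomial.map π) (MvPolynomial.C g₀ : MvPolynomial σ B₁) = 0 := by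
        have : π g₀ = 0 := by
          rw [← RingHom.mem_ker, hkerπ]; exact Ideal.mem_span_singleton_self g₀
        rw [MvPolynomial.map_C, this, map_zero]
      have hcomp : (MvPolynomial.map π : MvPolynomial σ B₁ →+* MvPolynomial σ B₂).comp
          (MvPolynomial.C : B₁ →+* MvPolynomial σ B₁) =
          (MvPolynomial.C : B₂ →+* MvPolynomial σ B₂).comp π := by
        refine RingHom.ext fun x => ?_
        simp
      rw [Ideal.map_ofList, List.map_cons, Ideal.ofList_cons, hC0,
        Ideal.span_singleton_eq_bot.mpr rfl, bot_sup_eq, hI, Ideal.map_map, Ideal.map_map,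
        hcomp]

/-- a Koszul-regular sequence becomes (weakly) regular, up to change of generators, after
adjoining finitely many variables -/
theorem exists_poly_weaklyRegular : ∀ (r : ℕ) (A : Type u) [CommRing A] (f : List A),
    f.length = r → LCI.IsKoszulRegularSeq A f →
    ∃ (σ : Type) (_ : Finite σ) (g : List (MvPolynomial σ A)),
      IsWeaklyRegular (MvPolynomial σ A) g ∧
        Ideal.ofList g = (Ideal.ofList f).map MvPolynomial.C
  | 0, A, _, f, hlen, _ => by
    obtain rfl := List.length_eq_zero_iff.mp hlen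
    exact ⟨PEmpty, inferInstance, [], IsWeaklyRegular.nil _ _, by
      rw [Ideal.ofList_nil, Ideal.ofList_nil, Ideal.map_bot]⟩
  | r + 1, A, _, f, hlen, hf => by
    obtain ⟨a, fs, rfl⟩ := List.exists_cons_of_length_eq_add_one hlen
    have hlen' : fs.length = r := by simpa using hlen
    have hq := kr_quot_gen a fs hf
    obtain ⟨σ, hfin, hs, hw, hI⟩ := exists_poly_weaklyRegular r _ _
      (by rw [List.length_map, List.length_map]; exact hlen') hq
    have hmem : Ideal.Quotient.mk (Ideal.span {gen (a :: fs)}) (C a) ∈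
        Ideal.ofList ((fs.map (C : A →+* A[X])).map
          (Ideal.Quotient.mk (Ideal.span {gen (a :: fs)}))) := by
      have h1 := Ideal.mem_map_of_mem (Ideal.Quotient.mk (Ideal.span {gen (a :: fs)}))
        (C_head_mem a fs)
      rw [Ideal.map_sup, (Ideal.map_eq_bot_iff_le_ker _).mpr (by rw [Ideal.mk_ker]),
        bot_sup_eq, Ideal.map_ofList] at h1
      exact h1
    have hJ : (Ideal.ofList ((a :: fs).map (C : A →+* A[X]))).map
        (Ideal.Quotient.mk (Ideal.span {gen (a :: fs)})) =
        Ideal.ofList ((fs.map (C : A →+* A[X])).map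
          (Ideal.Quotient.mk (Ideal.span {gen (a :: fs)}))) := by
      rw [Ideal.map_ofList, List.map_cons, List.map_cons, Ideal.ofList_cons,
        sup_eq_right.mpr ((Ideal.span_singleton_le_iff_mem _).mpr hmem)]
    obtain ⟨G, hG1, hG2⟩ := step_abs (Ideal.Quotient.mk (Ideal.span {gen (a :: fs)}))
      Ideal.Quotient.mk_surjective (gen (a :: fs)) (gen_mem_nonZeroDivisors a fs hf)
      Ideal.mk_ker σ (Ideal.ofList ((a :: fs).map (C : A →+* A[X]))) (gen_mem (a :: fs)) hs hw
      (by rw [hI, hJ])
    refine ⟨Option σ, inferInstance,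
      G.map (MvPolynomial.optionEquivRight A σ).symm.toRingEquiv, ?_, ?_⟩
    · exact isWeaklyRegular_ringEquiv _ G hG1
    · have hcomp : (((MvPolynomial.optionEquivRight A σ).symm.toRingEquiv : _ →+* _).comp
          (MvPolynomial.C : A[X] →+* MvPolynomial σ A[X])).comp (C : A →+* A[X]) =
          (MvPolynomial.C : A →+* MvPolynomial (Option σ) A) := by
        refine RingHom.ext fun x => ?_
        have := MvPolynomial.optionEquivRight_C A σ x
        change (MvPolynomial.optionEquivRight A σ).symm (MvPolynomial.C (C x)) = MvPolynomial.C x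
        rw [← this, AlgEquiv.symm_apply_apply]
      have h1 : Ideal.ofList (G.map (MvPolynomial.optionEquivRight A σ).symm.toRingEquiv) =
          (Ideal.ofList G).map
            ((MvPolynomial.optionEquivRight A σ).symm.toRingEquiv : _ →+* _) := by
        rw [Ideal.map_ofList]
        rfl
      rw [h1, hG2, ← Ideal.map_ofList (C : A →+* A[X]), Ideal.map_map, Ideal.map_map, hcomp]

end Groth.Agent.Helper14.PolyReg
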