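import Mathlib
import Groth.Prelude.Def_RegImm
import Groth.Agent.Lib.Helper14.PolyReg2
import Groth.Agent.Lib.Helper28.RegBC7
import Groth.Agent.Lib.Helper16.Sch.GenGS10
import Groth.Agent.Lib.Helper18.Rigid4

/-!
# Koszul-regular closed immersions become regular after a smooth surjective base change
-/

set_option autoImplicit false
set_option linter.style.haveILetI false
set_option linter.unusedSectionVars false
set_option linter.unusedVariables false
set_option maxRecDepth 8000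

universe u

open CategoryTheory CategoryTheory.Limits AlgebraicGeometry TopologicalSpace RingTheory.Sequence

namespace Groth.Agent.Helper14.PolyReg

variable {Z X : Scheme.{u}}

/-- chart data around every point of `X` (also away from the image) -/
theorem exists_chart (i : Z ⟶ X) [IsClosedImmersion i]
    (hi : RegImm.IsRegularImmersion RegImm.Kind.koszul i) (x : X) :
    ∃ U : X.Opens, IsAffineOpen U ∧ x ∈ U ∧ ∃ rs : List Γ(X, U),
      LCI.IsKoszulRegularSeq Γ(X, U) rs ∧ RingHom.ker (i.app U).hom = Ideal.ofList rs := by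
  by_cases hx : x ∈ Set.range i
  · obtain ⟨z, rfl⟩ := hx
    obtain ⟨⟨U, hU⟩, hzU, _, rs, hrs, hker⟩ := hi.2 z
    exact ⟨U, hU, hzU, rs, hrs, hker⟩
  · have hcl : IsClosed (Set.range i) := i.isClosedEmbedding.isClosed_range
    obtain ⟨_, ⟨W, hW, rfl⟩, hxW, hWle⟩ :=
      (X.isBasis_affineOpens).exists_subset_of_mem_open
        (show x ∈ (Set.range i)ᶜ from hx) hcl.isOpen_compl
    have hbot : i ⁻¹ᵁ W = ⊥ := by
      rw [eq_bot_iff]
      intro z hz
      have hz' : i z ∈ (W : Set X) := hz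
      exact (hWle hz' ⟨z, rfl⟩).elim
    have hsub : Subsingleton Γ(Z, i ⁻¹ᵁ W) := by rw [hbot]; infer_instance
    refine ⟨W, hW, hxW, [1], kr_singleton_of_mem_nonZeroDivisors (one_mem _), ?_⟩
    rw [Ideal.ofList_singleton, Ideal.span_singleton_one, Ideal.eq_top_iff_one, RingHom.mem_ker]
    exact Subsingleton.elim _ _

theorem smooth_specMap_C {A : Type u} [CommRing A] (σ : Type) [Finite σ] :
    Smooth (Spec.map (CommRingCat.ofHom (MvPolynomial.C : A →+* MvPolynomial σ A))) := by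
  rw [HasRingHomProperty.Spec_iff (P := @Smooth)]
  have h : (MvPolynomial.C : A →+* MvPolynomial σ A) = algebraMap A (MvPolynomial σ A) :=
    rfl
  rw [CommRingCat.hom_ofHom, h, RingHom.smooth_algebraMap]
  exact ⟨inferInstance, inferInstance⟩

theorem mem_range_chart {U : X.Opens} (hU : IsAffineOpen U) (σ : Type) (x : X) (hx : x ∈ U) :
    x ∈ Set.range (Spec.map (CommRingCat.ofHom
      (MvPolynomial.C : Γ(X, U) →+* MvPolynomial σ Γ(X, U))) ≫ hU.fromSpec) := by
  have hx' : x ∈ Set.range hU.fromSpec := by rw [hU.range_fromSpec]; exact hx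
  obtain ⟨y, rfl⟩ := hx'
  have hcc : (MvPolynomial.constantCoeff : MvPolynomial σ Γ(X, U) →+* Γ(X, U)).comp
      MvPolynomial.C = RingHom.id _ := by
    refine RingHom.ext fun a => ?_
    simp
  have hid : Spec.map (CommRingCat.ofHom
      (MvPolynomial.constantCoeff : MvPolynomial σ Γ(X, U) →+* Γ(X, U))) ≫
      Spec.map (CommRingCat.ofHom (MvPolynomial.C : Γ(X, U) →+* MvPolynomial σ Γ(X, U))) =
      𝟙 _ := by
    rw [← Spec.map_comp, ← CommRingCat.ofHom_comp, hcc]
    exact Spec.map_id _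
  refine ⟨Spec.map (CommRingCat.ofHom
      (MvPolynomial.constantCoeff : MvPolynomial σ Γ(X, U) →+* Γ(X, U))) y, ?_⟩
  rw [← Scheme.Hom.comp_apply, ← Category.assoc, hid, Category.id_comp]

theorem regularAt_of_chart {X' : Scheme.{u}} (i : Z ⟶ X) [IsClosedImmersion i] (g : X' ⟶ X)
    (U : X.Opens) (hU : IsAffineOpen U) (rs : List Γ(X, U))
    (hker : RingHom.ker (i.app U).hom = Ideal.ofList rs)
    {P : Type u} [CommRing P] (ι : Spec (CommRingCat.of P) ⟶ X') [IsOpenImmersion ι]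
    (φ : Γ(X, U) →+* P) (hιg : ι ≫ g = Spec.map (CommRingCat.ofHom φ) ≫ hU.fromSpec)
    (G : List P) (hG : IsWeaklyRegular P G) (hGI : Ideal.ofList G = (Ideal.ofList rs).map φ)
    (z' : ↥(pullback i g)) (y : ↥(Spec (CommRingCat.of P)))
    (hy : ι y = (pullback.snd i g) z') :
    RegImm.IsRegularImmersionAt RegImm.Kind.regular (pullback.snd i g) z' := by
  have hU' : IsAffineOpen (ι ''ᵁ ⊤) := (isAffineOpen_top _).image_of_isOpenImmersion ι
  have hc : (⊤ : (Spec (CommRingCat.of P)).Opens) ≤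
      (Spec.map (CommRingCat.ofHom φ) ≫ hU.fromSpec) ⁻¹ᵁ U :=
    Groth.Agent.Helper16.GenGS.le_preimage_specMap_fromSpec U hU φ
  have hle : ι ''ᵁ ⊤ ≤ g ⁻¹ᵁ U := by
    rintro _ ⟨w, -, rfl⟩
    show g (ι w) ∈ U
    rw [← Scheme.Hom.comp_apply, hιg]
    exact hc (Set.mem_univ w)
  obtain ⟨hcl, hker'⟩ := Groth.Agent.Helper28.RegBC.ker_of_isPullback i g (pullback.snd i g)
    (pullback.fst i g) (IsPullback.of_hasPullback i g) U hU (ι ''ᵁ ⊤) hU' hle
  let ec : Γ(X', ι ''ᵁ ⊤) ≅ CommRingCat.of P :=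
    ι.appIso ⊤ ≪≫ Scheme.ΓSpecIso (CommRingCat.of P)
  let e : Γ(X', ι ''ᵁ ⊤) ≃+* P := ec.commRingCatIsoToRingEquiv
  have hcompat : g.appLE U (ι ''ᵁ ⊤) hle ≫ ec.hom = CommRingCat.ofHom φ := by
    show g.appLE U (ι ''ᵁ ⊤) hle ≫ (ι.appIso ⊤).hom ≫ (Scheme.ΓSpecIso _).hom = _
    rw [Scheme.Hom.appIso_hom', ← Category.assoc, Scheme.Hom.appLE_comp_appLE,
      Groth.Agent.Helper18.Rigid.appLE_congr_hom hιg]
    exact CommRingCat.hom_ext
      (Groth.Agent.Helper16.GenGS.appLE_specMap_fromSpec' U hU φ _)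
  have hcompat' : ∀ a, e (g.appLE U (ι ''ᵁ ⊤) hle a) = φ a := fun a => by
    have := congrArg (fun f => f.hom a) hcompat
    exact this
  have hz'U' : (pullback.snd i g) z' ∈ ι ''ᵁ ⊤ := by
    rw [← hy]
    exact ⟨y, trivial, rfl⟩
  have hkeq : RingHom.ker ((pullback.snd i g).app (ι ''ᵁ ⊤)).hom =
      Ideal.ofList (G.map e.symm) := by
    have h1 : Ideal.ofList (G.map e.symm) =
        (Ideal.ofList G).map (e.symm : P →+* Γ(X', ι ''ᵁ ⊤)) := by
      rw [Ideal.map_ofList]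
      rfl
    rw [hker', hker, h1, hGI, Ideal.map_map]
    congr 1
    refine RingHom.ext fun a => ?_
    show (g.appLE U (ι ''ᵁ ⊤) hle) a = e.symm (φ a)
    rw [← hcompat' a, RingEquiv.symm_apply_apply]
  refine ⟨⟨ι ''ᵁ ⊤, hU'⟩, hz'U', hcl, G.map e.symm, ?_, hkeq⟩
  show RingTheory.Sequence.IsRegular Γ(X', ι ''ᵁ ⊤) (G.map e.symm)
  refine ⟨isWeaklyRegular_ringEquiv e.symm G hG, fun htop => ?_⟩
  rw [smul_eq_mul, Ideal.mul_top] at htop
  exact Groth.Agent.Helper28.RegBC.ker_ne_top (pullback.snd i g) (ι ''ᵁ ⊤) z' hz'U'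
    (by rw [hkeq]; exact htop.symm)

theorem main (i : Z ⟶ X) [IsClosedImmersion i]
    (hi : RegImm.IsRegularImmersion RegImm.Kind.koszul i) :
    ∃ (X' : Scheme.{u}) (g : X' ⟶ X), Smooth g ∧ Surjective g ∧
      RegImm.IsRegularImmersion RegImm.Kind.regular (pullback.snd i g) := by
  choose U hU hxU rs hrs hker using exists_chart i hi
  have hex := fun x => exists_poly_weaklyRegular (rs x).length Γ(X, U x) (rs x) rfl (hrs x)
  choose σ hσ G hG hGI using hex
  let Y : X → Scheme.{u} := fun x => Spec (CommRingCat.of (MvPolynomial (σ x) Γ(X, U x)))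
  let q : ∀ x, Y x ⟶ X := fun x =>
    Spec.map (CommRingCat.ofHom (MvPolynomial.C : Γ(X, U x) →+* MvPolynomial (σ x) Γ(X, U x))) ≫
      (hU x).fromSpec
  refine ⟨∐ Y, Sigma.desc q, ?_, ?_, ?_⟩
  · refine IsZariskiLocalAtSource.sigmaDesc (fun x => ?_)
    haveI := hσ x
    haveI := smooth_specMap_C (A := Γ(X, U x)) (σ x)
    show Smooth (Spec.map (CommRingCat.ofHom
      (MvPolynomial.C : Γ(X, U x) →+* MvPolynomial (σ x) Γ(X, U x))) ≫ (hU x).fromSpec)
    infer_instance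
  · exact Surjective.sigmaDesc_of_union_range_eq_univ (Set.eq_univ_iff_forall.mpr fun x =>
      Set.mem_iUnion.mpr ⟨x, mem_range_chart (hU x) (σ x) x (hxU x)⟩)
  · refine ⟨inferInstance, fun z' => ?_⟩
    obtain ⟨⟨x, y⟩, hy⟩ := (sigmaMk Y).surjective ((pullback.snd i (Sigma.desc q)) z')
    rw [sigmaMk_mk] at hy
    exact regularAt_of_chart i (Sigma.desc q) (U x) (hU x) (rs x) (hker x) (Sigma.ι Y x)
      MvPolynomial.C (Sigma.ι_desc q x) (G x) (hG x) (hGI x) z' y hy

end Groth.Agent.Helper14.PolyReg
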