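import Mathlib

set_option autoImplicit false
set_option linter.style.haveILetI false
universe u
namespace Groth.Agent.Helper14

/-- (L1) Under property (P), a torsion-free element of a projective module splits off. -/
theorem exists_functional_eq_one {R : Type u} [CommRing R]
    (hP : ∀ I : Ideal R, I.FG → I ≠ ⊤ → I.annihilator ≠ ⊥)
    {M : Type u} [AddCommGroup M] [Module R M] [Module.Projective R M] (v : M)
    (hv : ∀ r : R, r • v = 0 → r = 0) : ∃ s : M →ₗ[R] R, s v = 1 := by
  classical
  obtain ⟨σ, hσ⟩ := (Module.projective_def'.1 (inferInstance : Module.Projective R M))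
  have hσ' : ∀ m, Finsupp.linearCombination R id (σ m) = m := fun m => LinearMap.congr_fun hσ m
  have hσinj : Function.Injective σ := fun a b hab => by rw [← hσ' a, ← hσ' b, hab]
  set c : M →₀ R := σ v with hc
  let I : Ideal R := Ideal.span (Set.range fun j : c.support => c j)
  have hIfg : I.FG := Submodule.fg_span (Set.finite_range _)
  have hann : I.annihilator = ⊥ := by
    rw [eq_bot_iff]
    intro r hr
    rw [Submodule.mem_annihilator_span] at hr
    apply hv r
    apply hσinj
    rw [map_smul, map_zero]
    ext j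
    rw [Finsupp.smul_apply, Finsupp.zero_apply, smul_eq_mul]
    by_cases hj : j ∈ c.support
    · exact hr ⟨c j, ⟨⟨j, hj⟩, rfl⟩⟩
    · rw [Finsupp.notMem_support_iff.1 hj, mul_zero]
  have hItop : I = ⊤ := by
    by_contra hne
    exact hP I hIfg hne hann
  have h1 : (1 : R) ∈ Submodule.span R (Set.range fun j : c.support => c j) := by
    show (1 : R) ∈ I
    rw [hItop]; trivial
  obtain ⟨b, hb⟩ := (Submodule.mem_span_range_iff_exists_fun R).1 h1
  refine ⟨∑ j : c.support, b j • ((Finsupp.lapply (j : M)).comp σ), ?_⟩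
  rw [LinearMap.sum_apply, ← hb]
  refine Finset.sum_congr rfl fun j _ => ?_
  rw [LinearMap.smul_apply, LinearMap.comp_apply, Finsupp.lapply_apply]

/-- (L2') Under property (P), a finite linearly independent family in a projective module
admits a dual family. -/
theorem exists_dual_of_linearIndependent {R : Type u} [CommRing R]
    (hP : ∀ I : Ideal R, I.FG → I ≠ ⊤ → I.annihilator ≠ ⊥)
    {M : Type u} [AddCommGroup M] [Module R M] [Module.Projective R M] :
    ∀ (n : ℕ) (v : Fin n → M), LinearIndependent R v →
      ∃ L : M →ₗ[R] (Fin n → R), ∀ i, L (v i) = Pi.single i 1 := by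
  classical
  intro n
  induction n with
  | zero => intro v _; exact ⟨0, fun i => i.elim0⟩
  | succ n ih =>
    intro v hv
    rw [Fintype.linearIndependent_iff] at hv
    have hv0 : ∀ r : R, r • v 0 = 0 → r = 0 := by
      intro r hr
      have := hv (Pi.single 0 r) (by
        rw [Finset.sum_eq_single 0]
        · rw [Pi.single_eq_same]; exact hr
        · intro k _ hk; rw [Pi.single_eq_of_ne hk, zero_smul]
        · intro h; exact absurd (Finset.mem_univ _) h) 0
      rwa [Pi.single_eq_same] at this
    obtain ⟨s, hs⟩ := exists_functional_eq_one hP (v 0) hv0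
    let w : Fin n → M := fun i => v i.succ - s (v i.succ) • v 0
    have hsw : ∀ i, s (w i) = 0 := by
      intro i
      simp only [w, map_sub, map_smul, hs, smul_eq_mul, mul_one, sub_self]
    have hw : LinearIndependent R w := by
      rw [Fintype.linearIndependent_iff]
      intro g hg
      have key := hv (Fin.cons (-(∑ i, g i * s (v i.succ))) g) (by
        rw [Fin.sum_univ_succ]
        simp only [Fin.cons_zero, Fin.cons_succ]
        rw [← hg]
        simp only [w, smul_sub, Finset.sum_sub_distrib, neg_smul, Finset.sum_smul, smul_smul]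
        abel)
      intro i
      have := key i.succ
      rwa [Fin.cons_succ] at this
    obtain ⟨L', hL'⟩ := ih w hw
    let L'' : M →ₗ[R] (Fin n → R) := L' - LinearMap.smulRight s (L' (v 0))
    have hL''0 : L'' (v 0) = 0 := by
      simp [L'', hs]
    have hL''w : ∀ i, L'' (w i) = Pi.single i 1 := by
      intro i
      simp [L'', hsw, hL']
    have hL''v : ∀ i : Fin n, L'' (v i.succ) = Pi.single i 1 := by
      intro i
      have : v i.succ = w i + s (v i.succ) • v 0 := by simp [w]
      rw [this, map_add, map_smul, hL''0, smul_zero, add_zero, hL''w]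
    let c : M →ₗ[R] R := s - ∑ i : Fin n, s (v i.succ) • ((LinearMap.proj i).comp L'')
    have hc0 : c (v 0) = 1 := by
      simp [c, hs, hL''0]
    have hcs : ∀ i : Fin n, c (v i.succ) = 0 := by
      intro i
      simp [c, hL''v, Pi.single_apply]
    refine ⟨LinearMap.pi (fun k => Fin.cases c (fun i : Fin n => (LinearMap.proj i).comp L'') k), ?_⟩
    intro k
    induction k using Fin.cases with
    | zero =>
      ext j
      induction j using Fin.cases with
      | zero => simp [hc0]
      | succ j => simp [hL''0, Fin.succ_ne_zero]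
    | succ i =>
      ext j
      induction j using Fin.cases with
      | zero => simp [hcs, (Fin.succ_ne_zero i).symm]
      | succ j => simp [hL''v, Pi.single_apply]

theorem exists_dual_of_linearIndependent' {R : Type u} [CommRing R]
    (hP : ∀ I : Ideal R, I.FG → I ≠ ⊤ → I.annihilator ≠ ⊥)
    {M : Type u} [AddCommGroup M] [Module R M] [Module.Projective R M]
    {ι : Type*} [Fintype ι] [DecidableEq ι] (v : ι → M) (hv : LinearIndependent R v) :
    ∃ L : M →ₗ[R] (ι → R), ∀ i, L (v i) = Pi.single i 1 := by
  classical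
  let e : ι ≃ Fin (Fintype.card ι) := Fintype.equivFin ι
  obtain ⟨L₀, hL₀⟩ := exists_dual_of_linearIndependent hP (Fintype.card ι) (v ∘ e.symm)
    (hv.comp _ e.symm.injective)
  refine ⟨(LinearMap.funLeft R R e).comp L₀, fun i => ?_⟩
  have h1 := hL₀ (e i)
  simp only [Function.comp_apply, Equiv.symm_apply_apply] at h1
  ext k
  simp only [LinearMap.comp_apply, LinearMap.funLeft_apply, h1, Pi.single_apply, e.injective.eq_iff]

/-- the equational criterion for universal injectivity (same as Helper3's `EqCrit`) -/
def EqCrit' {R : Type u} [CommRing R] {M₁ M₂ : Type u} [AddCommGroup M₁] [Module R M₁]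
    [AddCommGroup M₂] [Module R M₂] (f : M₁ →ₗ[R] M₂) : Prop :=
  ∀ (n m : ℕ) (x : Fin n → M₁) (y : Fin m → M₂) (a : Fin n → Fin m → R),
    (∀ i, f (x i) = ∑ j, a i j • y j) → ∃ z : Fin m → M₁, ∀ i, x i = ∑ j, a i j • z j

theorem eqCrit_of_injective_of_projective {R : Type u} [CommRing R]
    (hP : ∀ I : Ideal R, I.FG → I ≠ ⊤ → I.annihilator ≠ ⊥)
    {N M : Type u} [AddCommGroup N] [Module R N] [Module.Projective R N] [AddCommGroup M]
    [Module R M] [Module.Projective R M] (u : N →ₗ[R] M) (hu : Function.Injective u) : EqCrit' u := by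
  classical
  intro n m x y a hxy
  obtain ⟨σ, hσ⟩ := (Module.projective_def'.1 (inferInstance : Module.Projective R N))
  let p : (N →₀ R) →ₗ[R] N := Finsupp.linearCombination R id
  have hσ' : ∀ z, p (σ z) = z := fun z => LinearMap.congr_fun hσ z
  let u' : (N →₀ R) →ₗ[R] M × (N →₀ R) := LinearMap.prod (u.comp p) (LinearMap.id - σ.comp p)
  have hu' : Function.Injective u' := by
    rw [injective_iff_map_eq_zero]
    intro f hf
    have h1 : u (p f) = 0 := congrArg Prod.fst hf
    have h2 : f - σ (p f) = 0 := congrArg Prod.snd hf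
    have h3 : p f = 0 := hu (by rw [h1, map_zero])
    rw [h3, map_zero, sub_zero] at h2
    exact h2
  let T : Finset N := Finset.univ.biUnion fun i => (σ (x i)).support
  have hT : ∀ i, (σ (x i)).support ⊆ T := fun i =>
    Finset.subset_biUnion_of_mem (fun i => (σ (x i)).support) (Finset.mem_univ i)
  let v : T → (N →₀ R) := fun t => Finsupp.single (t : N) 1
  have hv : LinearIndependent R v :=
    ((Finsupp.basisSingleOne (R := R) (ι := N)).linearIndependent).comp _ Subtype.val_injective
  have hv' : LinearIndependent R (u' ∘ v) := hv.map' u' (LinearMap.ker_eq_bot.2 hu')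
  obtain ⟨L, hL⟩ := exists_dual_of_linearIndependent' hP (u' ∘ v) hv'
  -- u' (σ (x i)) = (u (x i), 0)
  have hux : ∀ i, u' (σ (x i)) = ∑ j, a i j • ((y j, 0) : M × (N →₀ R)) := by
    intro i
    have : u' (σ (x i)) = (u (x i), 0) := by
      show (u (p (σ (x i))), σ (x i) - σ (p (σ (x i)))) = _
      rw [hσ', sub_self]
    rw [this, hxy i]
    ext
    · simp [Prod.fst_sum]
    · simp [Prod.snd_sum]
  -- expansion of σ (x i) along T
  have hexp : ∀ i, σ (x i) = ∑ t : T, (σ (x i)) (t : N) • v t := by
    intro i
    have h1 : σ (x i) = ∑ t ∈ T, (σ (x i)) t • Finsupp.single t (1 : R) := by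
      conv_lhs => rw [← Finsupp.sum_single (σ (x i))]
      rw [Finsupp.sum, Finset.sum_subset (hT i)]
      · refine Finset.sum_congr rfl fun t _ => ?_
        rw [Finsupp.smul_single, smul_eq_mul, mul_one]
      · intro t _ ht
        rw [Finsupp.notMem_support_iff.1 ht, Finsupp.single_zero]
    conv_lhs => rw [h1, ← Finset.sum_coe_sort T]
  have hcoord : ∀ i (t : T), (σ (x i)) (t : N) = ∑ j, a i j * L ((y j, 0) : M × (N →₀ R)) t := by
    intro i t
    have h1 : L (u' (σ (x i))) = fun t : T => (σ (x i)) (t : N) := by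
      conv_lhs => rw [hexp i]
      rw [map_sum, map_sum]
      ext t'
      simp only [map_smul, Finset.sum_apply, Pi.smul_apply, smul_eq_mul]
      rw [Finset.sum_eq_single t']
      · have := hL t'
        simp only [Function.comp_apply] at this
        rw [this, Pi.single_eq_same, mul_one]
      · intro b _ hb
        have := hL b
        simp only [Function.comp_apply] at this
        rw [this, Pi.single_eq_of_ne hb.symm, mul_zero]
      · intro h; exact absurd (Finset.mem_univ _) h
    have h2 := congrFun h1 t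
    rw [hux i, map_sum] at h2
    simp only [map_smul, Finset.sum_apply, Pi.smul_apply, smul_eq_mul] at h2
    exact h2.symm
  refine ⟨fun j => ∑ t : T, L ((y j, 0) : M × (N →₀ R)) t • (t : N), fun i => ?_⟩
  have hxi : x i = ∑ t : T, (σ (x i)) (t : N) • (t : N) := by
    conv_lhs => rw [← hσ' (x i), hexp i, map_sum]
    refine Finset.sum_congr rfl fun t _ => ?_
    rw [map_smul]
    show _ • Finsupp.linearCombination R id (Finsupp.single (t : N) 1) = _
    rw [Finsupp.linearCombination_single, one_smul, id]
  rw [hxi]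
  simp_rw [hcoord i, Finset.sum_smul, Finset.smul_sum, smul_smul]
  rw [Finset.sum_comm]

open TensorProduct in
lemma exists_sum_tmul_of_span_eq_top {R : Type u} [CommRing R] {M₁ : Type u} [AddCommGroup M₁] [Module R M₁] {Q : Type*} [AddCommGroup Q] [Module R Q] {s : ℕ}
    (g : Fin s → Q) (hg : Submodule.span R (Set.range g) = ⊤) (t : Q ⊗[R] M₁) :
    ∃ X : Fin s → M₁, t = ∑ i, g i ⊗ₜ[R] X i := by
  induction t with
  | zero => exact ⟨0, by simp⟩
  | tmul q x =>
    have hq : q ∈ Submodule.span R (Set.range g) := hg ▸ Submodule.mem_top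
    obtain ⟨c, rfl⟩ := (Submodule.mem_span_range_iff_exists_fun R).1 hq
    exact ⟨fun i => c i • x, by simp [sum_tmul, smul_tmul]⟩
  | add t t' h h' =>
    obtain ⟨X, rfl⟩ := h
    obtain ⟨X', rfl⟩ := h'
    exact ⟨X + X', by simp [tmul_add, Finset.sum_add_distrib]⟩

open TensorProduct in
/-- (adapted from Helper3's UnivInj library) -/
theorem lTensor_injective_of_eqCrit' {R : Type u} [CommRing R] {M₁ M₂ : Type u} [AddCommGroup M₁] [Module R M₁]
    [AddCommGroup M₂] [Module R M₂] (f : M₁ →ₗ[R] M₂) (h : EqCrit' f) (Q : Type u)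
    [AddCommGroup Q] [Module R Q] : Function.Injective (f.lTensor Q) := by
  rw [injective_iff_map_eq_zero]
  intro t ht
  obtain ⟨P, hP, tP, rfl⟩ := TensorProduct.exists_of_fg t
  have h1 : (P.subtype.rTensor M₂) (f.lTensor P tP) = 0 := by
    rw [← ht, ← LinearMap.comp_apply, ← LinearMap.comp_apply, LinearMap.rTensor_comp_lTensor,
      LinearMap.lTensor_comp_rTensor]
  obtain ⟨Q', hPQ, hQ', h2⟩ := TensorProduct.eq_zero_of_fg_of_subtype_eq_zero hP h1
  set t'' := (Submodule.inclusion hPQ).rTensor M₁ tP with ht''
  have h3 : f.lTensor Q' t'' = 0 := by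
    rw [← h2, ht'', ← LinearMap.comp_apply, ← LinearMap.comp_apply, LinearMap.rTensor_comp_lTensor,
      LinearMap.lTensor_comp_rTensor]
  suffices hsuff : t'' = 0 by
    have : P.subtype.rTensor M₁ tP = Q'.subtype.rTensor M₁ t'' := by
      rw [ht'', ← LinearMap.comp_apply, ← LinearMap.rTensor_comp, Submodule.subtype_comp_inclusion]
    rw [this, hsuff, map_zero]
  have : Module.Finite R Q' := Module.Finite.iff_fg.2 hQ'
  obtain ⟨s, g, hg⟩ := Module.Finite.exists_fin (R := R) (M := Q')
  obtain ⟨X, hX⟩ := exists_sum_tmul_of_span_eq_top g hg t''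
  rw [hX] at h3 ⊢
  simp only [map_sum, LinearMap.lTensor_tmul] at h3
  obtain ⟨k, a, y, hy, ha⟩ := TensorProduct.vanishesTrivially_of_sum_tmul_eq_zero R hg h3
  obtain ⟨z, hz⟩ := h s k X y a hy
  exact TensorProduct.sum_tmul_eq_zero_of_vanishesTrivially R ⟨k, a, z, hz, ha⟩


end Groth.Agent.Helper14
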