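import Mathlib

set_option autoImplicit false
set_option linter.style.haveILetI false
set_option linter.unusedSectionVars false
set_option linter.unusedVariables false
universe u
open CategoryTheory CategoryTheory.Limits AlgebraicGeometry

namespace Groth.Agent.Helper14.Punct1

/-- In a Noetherian local ring, if `dim A/p ≥ 2` and `f ∈ m`, there is a non-maximal prime
containing `p` and `f`. -/
theorem exists_prime_ne_maximal (A : Type u) [CommRing A] [IsNoetherianRing A] [IsLocalRing A]
    (f : A) (hf : f ∈ IsLocalRing.maximalIdeal A) (p : Ideal A) [hp : p.IsPrime]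
    (hdim : (2 : WithBot ℕ∞) ≤ ringKrullDim (A ⧸ p)) :
    ∃ P : Ideal A, P.IsPrime ∧ p ≤ P ∧ f ∈ P ∧ P ≠ IsLocalRing.maximalIdeal A := by
  let mk := Ideal.Quotient.mk p
  have hsurj : Function.Surjective mk := Ideal.Quotient.mk_surjective
  haveI : Nontrivial (A ⧸ p) := Ideal.Quotient.nontrivial_iff.mpr hp.ne_top
  haveI : IsLocalRing (A ⧸ p) := IsLocalRing.of_surjective' mk hsurj
  let I : Ideal (A ⧸ p) := Ideal.span {mk f}
  have hIne : I ≠ ⊤ := by
    intro h
    have h1 : (1 : A ⧸ p) ∈ I := by rw [h]; trivial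
    have hle : I ≤ IsLocalRing.maximalIdeal (A ⧸ p) := by
      rw [Ideal.span_le, Set.singleton_subset_iff]
      have : mk f ∈ (IsLocalRing.maximalIdeal A).map mk := Ideal.mem_map_of_mem _ hf
      have hmap : (IsLocalRing.maximalIdeal A).map mk ≤ IsLocalRing.maximalIdeal (A ⧸ p) := by
        apply IsLocalRing.le_maximalIdeal
        intro htop
        have := Ideal.comap_map_of_surjective mk hsurj (IsLocalRing.maximalIdeal A)
        rw [htop, Ideal.comap_top] at this
        have hle : Ideal.comap mk ⊥ ≤ IsLocalRing.maximalIdeal A := by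
          rw [← RingHom.ker_eq_comap_bot, Ideal.mk_ker]
          exact IsLocalRing.le_maximalIdeal hp.ne_top
        rw [sup_eq_left.mpr hle] at this
        exact (IsLocalRing.maximalIdeal.isMaximal A).ne_top this.symm
      exact hmap this
    exact (IsLocalRing.maximalIdeal.isMaximal (A ⧸ p)).ne_top
      ((Ideal.eq_top_iff_one _).mpr (hle h1))
  obtain ⟨P', hP'⟩ := Ideal.nonempty_minimalPrimes hIne
  haveI hP'prime : P'.IsPrime := hP'.1.1
  haveI : I.IsPrincipal := ⟨⟨mk f, rfl⟩⟩
  have hht : P'.height ≤ 1 := Ideal.height_le_one_of_isPrincipal_of_mem_minimalPrimes I P' hP'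
  refine ⟨P'.comap mk, inferInstance, ?_, ?_, ?_⟩
  · intro a ha
    rw [Ideal.mem_comap]
    have : mk a = 0 := Ideal.Quotient.eq_zero_iff_mem.mpr ha
    rw [this]; exact zero_mem _
  · rw [Ideal.mem_comap]
    exact hP'.1.2 (Ideal.subset_span rfl)
  · intro hmax
    have hmap : P' = (IsLocalRing.maximalIdeal A).map mk := by
      rw [← hmax, Ideal.map_comap_of_surjective mk hsurj]
    have hP'max : P'.IsMaximal := by
      rcases Ideal.map_eq_top_or_isMaximal_of_surjective mk hsurj
        (IsLocalRing.maximalIdeal.isMaximal A) with h | h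
      · exact (hP'prime.ne_top (hmap.trans h)).elim
      · rw [hmap]; exact h
    have heq : P' = IsLocalRing.maximalIdeal (A ⧸ p) := IsLocalRing.eq_maximalIdeal hP'max
    have hdim' : ringKrullDim (A ⧸ p) ≤ 1 := by
      rw [← IsLocalRing.maximalIdeal_height_eq_ringKrullDim, ← heq]
      exact_mod_cast hht
    have : (2 : WithBot ℕ∞) ≤ 1 := hdim.trans hdim'
    exact absurd this (by decide)

end Groth.Agent.Helper14.Punct1
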