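import Mathlib

/-!
# Surjections with pure kernel

A ring hom `π : B → C` has *pure kernel* if every element of the kernel is killed by an element
mapping to `1`.  For a surjection this means `C` is a "localization-like" quotient of `B`:
all the local rings of `C` are local rings of `B`.
-/

namespace Groth.Agent.Helper14.PureQuot

open Function TensorProduct

/-- every element of the kernel is killed by an element mapping to `1`. -/
def PureKer {B C : Type*} [CommRing B] [CommRing C] (π : B →+* C) : Prop :=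
  ∀ b, π b = 0 → ∃ t, π t = 1 ∧ t * b = 0

section basic

variable {B C D : Type*} [CommRing B] [CommRing C] [CommRing D]

theorem pureKer_of_injective (π : B →+* C) (h : Injective π) : PureKer π := by
  intro b hb
  refine ⟨1, map_one _, ?_⟩
  rw [one_mul]
  exact h (hb.trans (map_zero π).symm)

theorem PureKer.comp {π₁ : B →+* C} {π₂ : C →+* D} (h₁ : PureKer π₁) (h₂ : PureKer π₂)
    (hs : Surjective π₁) : PureKer (π₂.comp π₁) := by
  intro b hb
  obtain ⟨t₂, ht₂, ht₂'⟩ := h₂ (π₁ b) hb
  obtain ⟨t₂', rfl⟩ := hs t₂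
  rw [← map_mul] at ht₂'
  obtain ⟨t₁, ht₁, ht₁'⟩ := h₁ _ ht₂'
  refine ⟨t₁ * t₂', ?_, ?_⟩
  · rw [RingHom.comp_apply, map_mul, ht₁, one_mul, ht₂]
  · rw [mul_assoc]; exact ht₁'

/-- A reduced Artinian ring has all quotient maps with pure kernel. -/
theorem pureKer_of_isArtinianRing [IsArtinianRing B] [IsReduced B] (π : B →+* C) :
    PureKer π := by
  intro b hb
  obtain ⟨n, c, hc⟩ := IsArtinian.exists_pow_succ_smul_dvd b (1 : B)
  simp only [smul_eq_mul, mul_one] at hc
  -- b^(n+1) c = b^n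
  have h1 : (b * (1 - c * b)) ^ (n + 1) = 0 := by
    have : b ^ n * (1 - c * b) = 0 := by
      rw [Nat.succ_eq_add_one, pow_succ] at hc
      linear_combination (-1 : B) * hc
    calc (b * (1 - c * b)) ^ (n + 1) = b ^ (n + 1) * (1 - c * b) ^ (n + 1) := mul_pow _ _ _
      _ = b * (1 - c * b) ^ n * (b ^ n * (1 - c * b)) := by rw [pow_succ, pow_succ]; ring
      _ = 0 := by rw [this, mul_zero]
  have h2 : b * (1 - c * b) = 0 := IsReduced.eq_zero _ ⟨n + 1, h1⟩
  refine ⟨1 - c * b, ?_, ?_⟩
  · rw [map_sub, map_mul, hb, mul_zero, sub_zero, map_one]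
  · rw [mul_comm]; exact h2

/-- The local rings of a pure-kernel quotient are local rings of the source. -/
theorem localRingHom_bijective (π : B →+* C) (hs : Surjective π) (hp : PureKer π)
    (Q : Ideal C) [Q.IsPrime] :
    Bijective (Localization.localRingHom (Q.comap π) Q π rfl) := by
  constructor
  · rw [injective_iff_map_eq_zero]
    intro x hx
    obtain ⟨b, s, rfl⟩ := IsLocalization.exists_mk'_eq (Q.comap π).primeCompl x
    rw [Localization.localRingHom_mk', IsLocalization.mk'_eq_zero_iff] at hx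
    obtain ⟨⟨u, hu⟩, hub⟩ := hx
    obtain ⟨u', rfl⟩ := hs u
    rw [← map_mul] at hub
    obtain ⟨t, ht1, ht0⟩ := hp _ hub
    rw [IsLocalization.mk'_eq_zero_iff]
    have htu : t * u' ∈ (Q.comap π).primeCompl := by
      change t * u' ∉ Q.comap π
      rw [Ideal.mem_comap, map_mul, ht1, one_mul]
      exact hu
    exact ⟨⟨t * u', htu⟩, by rw [mul_assoc]; exact ht0⟩
  · intro y
    obtain ⟨c, ⟨s, hsQ⟩, rfl⟩ := IsLocalization.exists_mk'_eq Q.primeCompl y
    obtain ⟨b, rfl⟩ := hs c
    obtain ⟨s', rfl⟩ := hs s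
    have hs' : s' ∈ (Q.comap π).primeCompl := hsQ
    exact ⟨IsLocalization.mk' _ b ⟨s', hs'⟩, Localization.localRingHom_mk' _ _ _ _ _ _⟩

/-- version giving a ring equivalence. -/
noncomputable def localRingEquiv (π : B →+* C) (hs : Surjective π) (hp : PureKer π)
    (Q : Ideal C) [Q.IsPrime] :
    Localization.AtPrime (Q.comap π) ≃+* Localization.AtPrime Q :=
  RingEquiv.ofBijective _ (localRingHom_bijective π hs hp Q)

end basic

section tensor

variable {k A E F : Type*} [CommRing k] [CommRing A] [CommRing E] [CommRing F] [Algebra k A]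
  [Algebra k E] [Algebra k F]

/-- purity of the kernel is preserved by `A ⊗ -`. -/
theorem pureKer_lTensor (π : E →ₐ[k] F) (hs : Surjective π) (hp : PureKer π.toRingHom) :
    PureKer (Algebra.TensorProduct.map (AlgHom.id k A) π).toRingHom := by
  intro x hx
  have hx' : x ∈ RingHom.ker (Algebra.TensorProduct.map (AlgHom.id k A) π) := hx
  rw [Algebra.TensorProduct.lTensor_ker _ hs] at hx'
  -- induction over the span
  have key : ∀ y ∈ Ideal.map (Algebra.TensorProduct.includeRight : E →ₐ[k] A ⊗[k] E)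
      (RingHom.ker π), ∃ t : E, π t = 1 ∧ ((1 : A) ⊗ₜ[k] t) * y = 0 := by
    intro y hy
    rw [Ideal.map] at hy
    induction hy using Submodule.span_induction with
    | mem z hz =>
      obtain ⟨e, he, rfl⟩ := hz
      obtain ⟨t, ht1, ht0⟩ := hp e he
      refine ⟨t, ht1, ?_⟩
      change ((1 : A) ⊗ₜ[k] t) * ((1 : A) ⊗ₜ[k] e) = 0
      rw [Algebra.TensorProduct.tmul_mul_tmul, ht0, tmul_zero]
    | zero => exact ⟨1, map_one _, mul_zero _⟩
    | add z w _ _ hz hw =>
      obtain ⟨t₁, h11, h10⟩ := hz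
      obtain ⟨t₂, h21, h20⟩ := hw
      refine ⟨t₁ * t₂, by rw [map_mul, h11, h21, mul_one], ?_⟩
      have : ((1 : A) ⊗ₜ[k] (t₁ * t₂)) = ((1 : A) ⊗ₜ[k] t₁) * ((1 : A) ⊗ₜ[k] t₂) := by
        rw [Algebra.TensorProduct.tmul_mul_tmul, mul_one]
      rw [this, mul_add, mul_right_comm, h10, zero_mul, mul_assoc, h20, mul_zero, add_zero]
    | smul a z _ hz =>
      obtain ⟨t, h1, h0⟩ := hz
      exact ⟨t, h1, by rw [smul_eq_mul, mul_left_comm, h0, mul_zero]⟩
  obtain ⟨t, ht1, ht0⟩ := key x hx'
  refine ⟨(1 : A) ⊗ₜ[k] t, ?_, ht0⟩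
  change Algebra.TensorProduct.map (AlgHom.id k A) π ((1 : A) ⊗ₜ[k] t) = 1
  rw [Algebra.TensorProduct.map_tmul, ht1]
  rfl

theorem lTensor_surjective (π : E →ₐ[k] F) (hs : Surjective π) :
    Surjective (Algebra.TensorProduct.map (AlgHom.id k A) π) :=
  LinearMap.lTensor_surjective A hs

end tensor

end Groth.Agent.Helper14.PureQuot
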