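import Mathlib
import Groth.Prelude
import Groth.Agent.S5803
import Groth.Agent.Lib.Helper3.RegSpread
import Groth.Agent.Lib.Helper28.RegBC2
import Groth.Agent.Lib.Helper6.QReg
import Groth.Agent.Lib.Helper28.KindMono

/-!
# quasi-regular implies regular on locally Noetherian schemes
-/

set_option autoImplicit false
universe u
open CategoryTheory AlgebraicGeometry TopologicalSpace

namespace Groth.Agent.Helper14.QRegSpread

/-- quasi-regular sequence in the maximal ideal of the localization of a Noetherian ring is weakly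
regular -/
theorem isWeaklyRegular_localization {A : Type u} [CommRing A] [IsNoetherianRing A] (p : Ideal A)
    [p.IsPrime] (rs : List A) (hq : CAlgX.IsQuasiRegular rs.get) (hle : ∀ r ∈ rs, r ∈ p) :
    RingTheory.Sequence.IsWeaklyRegular (Localization.AtPrime p)
      (rs.map (algebraMap A (Localization.AtPrime p))) := by
  have h1 := Groth.Agent.Helper28.RegBC.qr_of_flat (R := A) (R' := Localization.AtPrime p)
    rs.get hq
  have h2 : ∀ i, algebraMap A (Localization.AtPrime p) (rs.get i) ∈
      Ring.jacobson (Localization.AtPrime p) := by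
    intro i
    rw [IsLocalRing.ringJacobson_eq_maximalIdeal]
    rw [IsLocalization.AtPrime.to_map_mem_maximal_iff (Localization.AtPrime p) p]
    exact hle _ (List.get_mem rs i)
  have h3 := Groth.Agent.S5803.result (Localization.AtPrime p) rs.length _ h2 h1
  have h4 : List.ofFn (fun i => algebraMap A (Localization.AtPrime p) (rs.get i)) =
      rs.map (algebraMap A (Localization.AtPrime p)) := by
    have : (fun i => algebraMap A (Localization.AtPrime p) (rs.get i)) =
        (algebraMap A (Localization.AtPrime p)) ∘ rs.get := rfl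
    rw [this, ← List.map_ofFn, List.ofFn_get]
  rw [h4] at h3
  exact h3

variable {X : Scheme.{u}}

theorem mem_primeIdealOf_iff (U : X.Opens) (hU : IsAffineOpen U) (x : X) (hx : x ∈ U)
    (r : Γ(X, U)) : r ∈ (hU.primeIdealOf ⟨x, hx⟩).asIdeal ↔ x ∉ X.basicOpen r := by
  rw [hU.primeIdealOf_eq_map_closedPoint, Scheme.mem_basicOpen _ _ _ hx]
  change (X.presheaf.germ U x hx).hom r ∈ IsLocalRing.maximalIdeal _ ↔ _
  rw [IsLocalRing.mem_maximalIdeal, mem_nonunits_iff]

/-- spreading out a quasi-regular sequence vanishing at `x` to a regular sequence near `x` -/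
theorem exists_basicOpen_isRegular [IsLocallyNoetherian X] (U : X.Opens) (hU : IsAffineOpen U)
    (x : X) (hx : x ∈ U) (rs : List Γ(X, U)) (hq : CAlgX.IsQuasiRegular rs.get)
    (hle : ∀ r ∈ rs, x ∉ X.basicOpen r) :
    ∃ g : Γ(X, U), x ∈ X.basicOpen g ∧
      RingTheory.Sequence.IsRegular Γ(X, X.basicOpen g)
        (rs.map (X.presheaf.map (homOfLE (X.basicOpen_le g)).op).hom) := by
  haveI : IsNoetherianRing Γ(X, U) := IsLocallyNoetherian.component_noetherian ⟨U, hU⟩
  set p : Ideal Γ(X, U) := (hU.primeIdealOf ⟨x, hx⟩).asIdeal with hp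
  have h1 := isWeaklyRegular_localization p rs hq
    (fun r hr => (mem_primeIdealOf_iff U hU x hx r).mpr (hle r hr))
  obtain ⟨g, hg, hspread⟩ :=
    Groth.Agent.Helper3.RegSpread.spread_regular p (Localization.AtPrime p) rs h1
  have hxg : x ∈ X.basicOpen g := by
    by_contra h
    exact hg ((mem_primeIdealOf_iff U hU x hx g).mpr h)
  refine ⟨g, hxg, ?_⟩
  haveI : IsLocalization.Away (g * 1) Γ(X, X.basicOpen g) := by
    rw [mul_one]; exact hU.isLocalization_basicOpen g
  have hw := hspread 1 Γ(X, X.basicOpen g)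
  refine ⟨hw, ?_⟩
  intro htop
  have hxg' : x ∈ X.basicOpen g := hxg
  have hsub : Ideal.ofList (rs.map (algebraMap Γ(X, U) Γ(X, X.basicOpen g))) ≤
      Ideal.comap (X.presheaf.germ (X.basicOpen g) x hxg').hom
        (IsLocalRing.maximalIdeal (X.presheaf.stalk x)) := by
    rw [Ideal.ofList, Ideal.span_le]
    intro r' hr'
    simp only [List.mem_map, Set.mem_setOf_eq] at hr'
    obtain ⟨r, hr, rfl⟩ := hr'
    rw [SetLike.mem_coe, Ideal.mem_comap]
    have : (X.presheaf.germ (X.basicOpen g) x hxg').hom (algebraMap Γ(X, U) Γ(X, X.basicOpen g) r) =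
        (X.presheaf.germ U x hx).hom r :=
      X.presheaf.germ_res_apply (homOfLE (X.basicOpen_le g)) x hxg' r
    rw [this, IsLocalRing.mem_maximalIdeal, mem_nonunits_iff, ← Scheme.mem_basicOpen _ _ _ hx]
    exact hle r hr
  have h1mem : (1 : Γ(X, X.basicOpen g)) ∈
      Ideal.ofList (rs.map (algebraMap Γ(X, U) Γ(X, X.basicOpen g))) := by
    have : (1 : Γ(X, X.basicOpen g)) ∈ (⊤ : Submodule Γ(X, X.basicOpen g) Γ(X, X.basicOpen g)) :=
      Submodule.mem_top
    rw [htop, smul_eq_mul, Ideal.mul_top] at this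
    exact this
  have := hsub h1mem
  rw [Ideal.mem_comap, map_one] at this
  exact (IsLocalRing.maximalIdeal (X.presheaf.stalk x)).ne_top_iff_one.mp
    (IsLocalRing.maximalIdeal.isMaximal _).ne_top this

/-- **S5004** -/
theorem main5004 [IsLocallyNoetherian X] (I : X.IdealSheafData)
    (h : RegImm.IsRegularIdeal RegImm.Kind.quasi I) :
    RegImm.IsRegularIdeal RegImm.Kind.regular I := by
  intro x hx
  obtain ⟨U, hxU, rs, hrs, hI⟩ := h x hx
  have hq : CAlgX.IsQuasiRegular rs.get := hrs
  have hle : ∀ r ∈ rs, x ∉ X.basicOpen r := by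
    intro r hr
    have h1 := (Scheme.IdealSheafData.mem_support_iff_of_mem hxU).mp hx
    rw [Scheme.mem_zeroLocus_iff] at h1
    refine h1 r ?_
    rw [SetLike.mem_coe, hI]
    exact Ideal.subset_span hr
  obtain ⟨g, hxg, hreg⟩ := exists_basicOpen_isRegular U.1 U.2 x hxU rs hq hle
  refine ⟨X.affineBasicOpen g, hxg, rs.map (X.presheaf.map (homOfLE (X.basicOpen_le g)).op).hom,
    hreg, ?_⟩
  rw [← I.map_ideal_basicOpen U g, hI, Ideal.map_ofList]
  rfl

/-- **S5003** -/
theorem main5003 {Y : Scheme.{u}} [IsLocallyNoetherian X] (j : Y ⟶ X) :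
    RegImm.IsRegularImmersion RegImm.Kind.regular j ↔
      RegImm.IsRegularImmersion RegImm.Kind.quasi j := by
  constructor
  · intro h
    refine Groth.Agent.Helper28.KindMono.immersion_mono j .regular .quasi ?_ h
    intro U rs hrs
    have hrs' : RingTheory.Sequence.IsRegular Γ(X, U) rs := hrs
    exact Groth.Agent.Helper6.QReg.isQuasiRegular_of_isWeaklyRegular rs.get
      (by rw [List.ofFn_get]; exact hrs'.toIsWeaklyRegular)
  · intro h
    haveI : IsImmersion j := h.1
    haveI : QuasiCompact j := by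
      rw [← j.liftCoborder_ι]; infer_instance
    refine ⟨h.1, fun z => ?_⟩
    obtain ⟨U, hzU, hcl, rs, hrs, hker⟩ := h.2 z
    have hq : CAlgX.IsQuasiRegular rs.get := hrs
    have hle : ∀ r ∈ rs, j z ∉ X.basicOpen r := by
      intro r hr hmem
      have hr0 : (j.app U.1).hom r = 0 := by
        have : r ∈ RingHom.ker (j.app U.1).hom := by
          rw [hker]; exact Ideal.subset_span hr
        exact this
      have h1 : z ∈ j ⁻¹ᵁ X.basicOpen r := hmem
      rw [Scheme.preimage_basicOpen] at h1
      have h2 : (j.app U.1) r = 0 := hr0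
      rw [h2, Scheme.basicOpen_zero] at h1
      exact h1
    obtain ⟨g, hxg, hreg⟩ := exists_basicOpen_isRegular U.1 U.2 (j z) hzU rs hq hle
    refine ⟨X.affineBasicOpen g, hxg, ?_,
      rs.map (X.presheaf.map (homOfLE (X.basicOpen_le g)).op).hom, hreg, ?_⟩
    · haveI := hcl
      have h3 : IsClosedImmersion (j ∣_ U.1 ∣_
          U.1.toScheme.basicOpen (X.presheaf.map (eqToHom U.1.isOpenEmbedding_obj_top).op g)) :=
        IsZariskiLocalAtTarget.restrict hcl _
      exact (MorphismProperty.arrow_mk_iso_iff @IsClosedImmersion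
        (morphismRestrictRestrictBasicOpen j U.1 g)).mp h3
    · have e1 := j.ker_apply (X.affineBasicOpen g)
      have e2 := j.ker_apply U
      rw [← e1, ← j.ker.map_ideal_basicOpen U g, e2, hker, Ideal.map_ofList]
      rfl

end Groth.Agent.Helper14.QRegSpread
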