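import Mathlib
import Groth.Agent.Lib.Helper14.QSectA
import Groth.Agent.Lib.Helper14.CondWD
import Groth.Agent.Lib.Helper14.CondXC

/-!
# Quasi-finite quasi-sections through a point closed in its fibre (EGA IV 14.5)
-/

set_option autoImplicit false

namespace Groth.Agent.Helper14.QSect
universe u
open AlgebraicGeometry CategoryTheory TopologicalSpace IsLocalRing

set_option backward.isDefEq.respectTransparency false in
theorem main {X S : Scheme.{u}} (f : X ⟶ S) [LocallyOfFiniteType f] [IsLocallyNoetherian S]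
    (x : X) (hcl : IsClosed (Subtype.val ⁻¹' {x} : Set ↑(f ⁻¹' {f x}))) (U : X.Opens)
    (x' : X) (hx'U : x' ∈ U) (hx'x : x' ⤳ x) (hfx' : f x' ≠ f x) :
    ∃ (I : X.IdealSheafData) (z₀ x₀ : ↑I.subscheme), I.subschemeι x₀ = x ∧
      (I.subschemeι ≫ f).QuasiFiniteAt x₀ ∧
      I.subschemeι z₀ ∈ U ∧ I.subschemeι z₀ ⤳ x ∧ f (I.subschemeι z₀) ≠ f x := by
  classical
  haveI : IsLocallyNoetherian X := LocallyOfFiniteType.isLocallyNoetherian f
  obtain ⟨p', hp'⟩ := CondW.exists_fromSpecStalk_eq hx'x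
  -- the open set
  let O : Set (PrimeSpectrum (X.presheaf.stalk x)) :=
    (X.fromSpecStalk x) ⁻¹' (U : Set X) ∩
      (Spec.map (f.stalkMap x)) ⁻¹' ({closedPoint (S.presheaf.stalk (f x))}ᶜ)
  have hO : IsOpen O :=
    (U.isOpen.preimage (X.fromSpecStalk x).continuous).inter
      ((IsLocalRing.isClosed_singleton_closedPoint
        (R := S.presheaf.stalk (f x))).isOpen_compl.preimage (Spec.map (f.stalkMap x)).continuous)
  have hfjx : ∀ r : PrimeSpectrum (X.presheaf.stalk x),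
      f (X.fromSpecStalk x r) = f x ↔ Spec.map (f.stalkMap x) r = closedPoint _ := by
    intro r
    rw [CondW.map_fromSpecStalk, CondW.fromSpecStalk_eq_iff]
  have hp'O : p' ∈ O := by
    refine ⟨by show X.fromSpecStalk x p' ∈ U; rw [hp']; exact hx'U, ?_⟩
    intro hcon
    apply hfx'
    rw [← hp']
    exact (hfjx p').mpr hcon
  have hmO : closedPoint (X.presheaf.stalk x) ∉ O := by
    rintro ⟨-, h2⟩
    exact h2 (IsLocalRing.comap_closedPoint (f.stalkMap x).hom)
  obtain ⟨q, hqO, hpq, hqm, hcov⟩ := exists_prime_covBy_closedPoint O hO p' hp'O hmO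
  set z := X.fromSpecStalk x q with hz
  have hzU : z ∈ U := hqO.1
  have hzx : z ⤳ x := CondW.fromSpecStalk_specializes x q
  have hfz : f z ≠ f x := by
    rw [hz, Ne, hfjx]
    exact hqO.2
  let I : X.IdealSheafData :=
    Scheme.IdealSheafData.vanishingIdeal ⟨closure {z}, isClosed_closure⟩
  have hsupp : (I.support : Set X) = closure {z} :=
    Scheme.IdealSheafData.coe_support_vanishingIdeal _
  have hrange : Set.range I.subschemeι = closure {z} := by
    rw [I.range_subschemeι, hsupp]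
  obtain ⟨x₀, hx₀⟩ : x ∈ Set.range I.subschemeι := by
    rw [hrange]; exact hzx.mem_closure
  obtain ⟨z₀, hz₀⟩ : z ∈ Set.range I.subschemeι := by
    rw [hrange]; exact subset_closure rfl
  refine ⟨I, z₀, x₀, hx₀, ?_, hz₀ ▸ hzU, hz₀ ▸ hzx, hz₀ ▸ hfz⟩
  -- quasi-finiteness at `x₀`
  set h := I.subschemeι ≫ f with hh
  haveI : IsLocallyNoetherian I.subscheme := LocallyOfFiniteType.isLocallyNoetherian h
  obtain ⟨W, hW, hx₀W⟩ : ∃ W : I.subscheme.Opens, IsAffineOpen W ∧ x₀ ∈ W := by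
    obtain ⟨_, ⟨W, hW : IsAffineOpen W, rfl⟩, hxW, -⟩ :=
      I.subscheme.isBasis_affineOpens.exists_subset_of_mem_open (Set.mem_univ x₀) isOpen_univ
    exact ⟨W, hW, hxW⟩
  haveI : IsNoetherianRing Γ(I.subscheme, W) := IsLocallyNoetherian.component_noetherian ⟨W, hW⟩
  haveI : NoetherianSpace ↥(W.toScheme) := noetherianSpace_of_isAffineOpen W hW
  let w₀ : W.toScheme := ⟨x₀, hx₀W⟩
  have hw₀ : W.ι w₀ = x₀ := rfl
  rw [← hw₀, ← Scheme.Hom.quasiFiniteAt_comp_iff_of_isOpenImmersion]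
  set h' := W.ι ≫ h with hh'
  rw [Scheme.Hom.quasiFiniteAt_iff_isOpen_singleton_asFiber,
    ← (h'.fiberHomeo (h' w₀)).isOpen_image]
  simp only [Set.image_singleton, Scheme.Hom.asFiber, Homeomorph.apply_symm_apply]
  haveI : NoetherianSpace ↥(h' ⁻¹' {h' w₀}) := NoetherianSpace.set _
  haveI : QuasiSober ↥(h' ⁻¹' {h' w₀}) :=
    (h'.fiberHomeo (h' w₀)).symm.isOpenEmbedding.quasiSober
  have hh'w₀ : h' w₀ = f x := by
    show f (I.subschemeι x₀) = f x
    rw [hx₀]
  -- points of the fibre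
  have hpt : ∀ t : ↥(h' ⁻¹' {h' w₀}), f (I.subschemeι t.1.1) = f x := by
    intro t
    have h1 : h' t.1 = h' w₀ := t.2
    exact h1.trans hh'w₀
  have hback : ∀ t : ↥(h' ⁻¹' {h' w₀}), I.subschemeι t.1.1 = x → t = ⟨w₀, rfl⟩ := by
    intro t ht
    apply Subtype.ext
    apply Subtype.ext
    apply I.subschemeι.isEmbedding.injective
    rw [ht, ← hx₀]
  apply CondX.isOpen_singleton_of_maximal_of_closed
  · intro t ht
    apply hback
    have h1 : t.1.1 ⤳ x₀ :=
      (subtype_specializes_iff _ _).mp ((subtype_specializes_iff _ _).mp ht)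
    have h2 : I.subschemeι t.1.1 ⤳ x := hx₀ ▸ h1.map I.subschemeι.continuous
    obtain ⟨r, hr⟩ := CondW.exists_fromSpecStalk_eq h2
    have h3 : z ⤳ I.subschemeι t.1.1 := by
      rw [specializes_iff_mem_closure, ← hrange]
      exact ⟨_, rfl⟩
    rw [← hr, hz, CondW.fromSpecStalk_specializes_iff] at h3
    by_cases hrm : r = closedPoint _
    · rw [← hr, hrm, Scheme.fromSpecStalk_closedPoint]
    · exfalso
      rcases eq_or_lt_of_le h3 with heq | hlt
      · apply hfz
        rw [hz, heq, hr]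
        exact hpt t
      · exact hrm (hcov r hlt)
  · intro t ht
    apply hback
    have h1 : x₀ ⤳ t.1.1 :=
      (subtype_specializes_iff _ _).mp ((subtype_specializes_iff _ _).mp ht)
    have h2 : x ⤳ I.subschemeι t.1.1 := hx₀ ▸ h1.map I.subschemeι.continuous
    have h3 : (⟨x, rfl⟩ : ↑(f ⁻¹' {f x})) ⤳ ⟨I.subschemeι t.1.1, hpt t⟩ :=
      (subtype_specializes_iff _ _).mpr h2
    have h4 := h3.mem_closed hcl rfl
    exact h4

end Groth.Agent.Helper14.QSect
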