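import Mathlib
import Groth.Prelude.Def_EGA4Misc
import Groth.Agent.Lib.Helper16.Sch.FibMap3

set_option autoImplicit false
universe u

namespace Groth.Agent.Helper14.RadAt
open AlgebraicGeometry CategoryTheory Limits

section field
variable {F E K : Type*} [Field F] [Field E] [Field K]

theorem pi_of_bijective (φ : F →+* E) (h : Function.Bijective φ) : φ.IsPurelyInseparable := by
  algebraize [φ]
  obtain ⟨q, _⟩ := ExpChar.exists F
  show IsPurelyInseparable F E
  rw [isPurelyInseparable_iff_pow_mem F q]
  intro x
  obtain ⟨y, rfl⟩ := h.2 x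
  exact ⟨0, y, by simp; rfl⟩

theorem pi_tower_top (f : F →+* E) (g : E →+* K) (h : (g.comp f).IsPurelyInseparable) :
    g.IsPurelyInseparable := by
  algebraize [f, g, g.comp f]
  have : IsPurelyInseparable F K := h
  show IsPurelyInseparable E K
  exact IsPurelyInseparable.tower_top F E K

theorem pi_tower_bot (f : F →+* E) (g : E →+* K) (h : (g.comp f).IsPurelyInseparable) :
    f.IsPurelyInseparable := by
  algebraize [f, g, g.comp f]
  have : IsPurelyInseparable F K := h
  show IsPurelyInseparable F E
  exact IsPurelyInseparable.tower_bot F E K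

/-- In a commutative square of fields with two opposite sides bijective, the other sides are
simultaneously purely inseparable. -/
theorem pi_iff_of_square {F' : Type*} [Field F'] (a : F →+* E) (b : E →+* K) (c : F →+* F')
    (d : F' →+* K) (hsq : b.comp a = d.comp c) (hb : Function.Bijective b)
    (hc : Function.Bijective c) : a.IsPurelyInseparable ↔ d.IsPurelyInseparable := by
  constructor
  · intro ha
    have := ha.comp (pi_of_bijective b hb)
    rw [hsq] at this
    exact pi_tower_top c d this
  · intro hd
    have := (pi_of_bijective c hc).comp hd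
    rw [← hsq] at this
    exact pi_tower_bot a b this

end field

theorem bijective_residueFieldMap {S S' : Scheme.{u}} (i : S ⟶ S') [SurjectiveOnStalks i] (s : S) :
    Function.Bijective (i.residueFieldMap s).hom := by
  refine ⟨(i.residueFieldMap s).hom.injective, ?_⟩
  intro z
  obtain ⟨r, rfl⟩ := IsLocalRing.residue_surjective z
  obtain ⟨r', rfl⟩ := i.stalkMap_surjective s r
  exact ⟨IsLocalRing.residue _ r', rfl⟩

theorem fiberι_mem {X Y : Scheme.{u}} (f : X ⟶ Y) (y : Y) (z : f.fiber y) : f (f.fiberι y z) = y := by
  have : f.fiberι y z ∈ Set.range (f.fiberι y) := ⟨z, rfl⟩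
  rw [f.range_fiberι] at this
  exact this

theorem pi_fiber_iff {X Y : Scheme.{u}} (f : X ⟶ Y) (y : Y) (z : f.fiber y) :
    (f.residueFieldMap (f.fiberι y z)).hom.IsPurelyInseparable ↔
      ((f.fiberToSpecResidueField y).residueFieldMap z).hom.IsPurelyInseparable := by
  have e := Scheme.Hom.residueFieldMap_congr (f.fiber_fac y) z
  rw [Scheme.residueFieldMap_comp, Scheme.residueFieldMap_comp] at e
  refine pi_iff_of_square (f.residueFieldMap (f.fiberι y z)).hom
    ((f.fiberι y).residueFieldMap z).hom
    (((Y.fromSpecResidueField y).residueFieldMap (f.fiberToSpecResidueField y z)).hom.comp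
      (Y.residueFieldCongr (by
        rw [← Scheme.Hom.comp_apply, ← Scheme.Hom.comp_apply, f.fiber_fac y])).hom.hom)
    ((f.fiberToSpecResidueField y).residueFieldMap z).hom ?_ ?_ ?_
  · have := congrArg CommRingCat.Hom.hom e
    simpa [RingHom.comp_assoc] using this
  · exact bijective_residueFieldMap _ _
  · refine (bijective_residueFieldMap _ _).comp ?_
    exact ConcreteCategory.bijective_of_isIso (Y.residueFieldCongr _).hom

theorem isRadicialAt_iff {X Y : Scheme.{u}} (f : X ⟶ Y) (y : Y) :
    RadPt.IsRadicialAt f y ↔ UniversallyInjective (f.fiberToSpecResidueField y) := by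
  have htfae := (tfae_universallyInjective (f.fiberToSpecResidueField y)).out 0 2
  rw [htfae]
  unfold RadPt.IsRadicialAt
  refine and_congr ?_ ?_
  · constructor
    · intro h z z' _
      apply (f.fiberι y).isEmbedding.injective
      exact h _ _ (fiberι_mem f y z) (fiberι_mem f y z')
    · intro h x x' hx hx'
      have hx1 : x ∈ Set.range (f.fiberι y) := by rw [f.range_fiberι]; exact hx
      have hx1' : x' ∈ Set.range (f.fiberι y) := by rw [f.range_fiberι]; exact hx'
      obtain ⟨z, rfl⟩ := hx1
      obtain ⟨z', rfl⟩ := hx1'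
      congr 1
      exact h (Subsingleton.elim (α := PrimeSpectrum _) _ _)
  · constructor
    · intro h z
      exact (pi_fiber_iff f y z).mp (h _ (fiberι_mem f y z))
    · intro h x hx
      have hx1 : x ∈ Set.range (f.fiberι y) := by rw [f.range_fiberι]; exact hx
      obtain ⟨z, rfl⟩ := hx1
      exact (pi_fiber_iff f y z).mpr (h z)

theorem ui_fiber_iff {X Y X' Y' : Scheme.{u}} {f : X ⟶ Y} {h : Y' ⟶ Y} {f' : X' ⟶ Y'}
    {h' : X' ⟶ X} (sq : IsPullback h' f' f h) (y' : Y') :
    UniversallyInjective (f.fiberToSpecResidueField (h y')) ↔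
      UniversallyInjective (f'.fiberToSpecResidueField y') := by
  have hsq := isPullback_fiberToSpecResidueField_of_isPullback sq y'
  constructor
  · intro hu
    exact MorphismProperty.of_isPullback (P := @UniversallyInjective) hsq hu
  · intro hu
    rw [UniversallyInjective.iff_diagonal, surjective_iff]
    have key := (Groth.Agent.Helper16.FibMap.universallyInjective_iff_of_isPullback hsq).mp hu
    intro z
    obtain ⟨w, hw⟩ := key z ⟨IsLocalRing.closedPoint _, Subsingleton.elim (α := PrimeSpectrum _) _ _⟩
    exact ⟨w, hw⟩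

theorem main {X Y X' Y' : Scheme.{u}} {f : X ⟶ Y} {h : Y' ⟶ Y} {f' : X' ⟶ Y'} {h' : X' ⟶ X}
    (sq : IsPullback h' f' f h) (y' : Y') :
    RadPt.IsRadicialAt f (h y') ↔ RadPt.IsRadicialAt f' y' := by
  rw [isRadicialAt_iff, isRadicialAt_iff, ui_fiber_iff sq y']

end Groth.Agent.Helper14.RadAt
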