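import Mathlib

/-!
# Radicial ring maps (helper14)

A ring map `R → S` is radicial (injective on spectra with purely inseparable residue field
extensions) iff field-valued points of `S` are determined by their restriction to `R`.
This criterion is stable under base change.
-/

set_option autoImplicit false

namespace Groth.Agent.Helper14.Radicial

open TensorProduct Function

universe u

/-- Field valued points of `S` are determined by their restriction to `R`. -/
def FieldInj (R S : Type u) [CommRing R] [CommRing S] [Algebra R S] : Prop :=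
  ∀ (F : Type u) [Field F] (φ₁ φ₂ : S →+* F),
    φ₁.comp (algebraMap R S) = φ₂.comp (algebraMap R S) → φ₁ = φ₂

variable {R S : Type u} [CommRing R] [CommRing S] [Algebra R S]

/-- The residue field extensions are purely inseparable (elementwise formulation). -/
def ResidueInsep (R S : Type u) [CommRing R] [CommRing S] [Algebra R S] : Prop :=
  ∀ (q : Ideal S) [q.IsPrime] (x : q.ResidueField), ∃ n : ℕ,
    x ^ (ringExpChar (q.comap (algebraMap R S)).ResidueField) ^ n ∈
      Set.range (Ideal.ResidueField.map (q.comap (algebraMap R S)) q (algebraMap R S) rfl)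

theorem fieldInj_of_radicial
    (hinj : Function.Injective (PrimeSpectrum.comap (algebraMap R S)))
    (hpi : ResidueInsep R S) : FieldInj R S := by
  intro F _ φ₁ φ₂ h
  have hker : RingHom.ker φ₁ = RingHom.ker φ₂ := by
    have h1 : (⟨RingHom.ker φ₁, RingHom.ker_isPrime φ₁⟩ : PrimeSpectrum S) =
        ⟨RingHom.ker φ₂, RingHom.ker_isPrime φ₂⟩ := by
      apply hinj
      ext r
      show algebraMap R S r ∈ RingHom.ker φ₁ ↔ algebraMap R S r ∈ RingHom.ker φ₂
      rw [RingHom.mem_ker, RingHom.mem_ker]
      have := congr($h r)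
      simp only [RingHom.comp_apply] at this
      rw [this]
    exact congrArg PrimeSpectrum.asIdeal h1
  have hq : (RingHom.ker φ₁).IsPrime := RingHom.ker_isPrime φ₁
  have hu : ∀ (φ : S →+* F), RingHom.ker φ = RingHom.ker φ₁ →
      (RingHom.ker φ₁).primeCompl ≤ (IsUnit.submonoid F).comap φ := by
    intro φ hφ x hx
    rw [Submonoid.mem_comap]
    show IsUnit (φ x)
    rw [isUnit_iff_ne_zero]
    intro h0
    apply hx
    rw [← hφ]
    exact h0
  let ψ₁ : (RingHom.ker φ₁).ResidueField →+* F :=
    Ideal.ResidueField.lift (RingHom.ker φ₁) φ₁ le_rfl (hu φ₁ rfl)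
  let ψ₂ : (RingHom.ker φ₁).ResidueField →+* F :=
    Ideal.ResidueField.lift (RingHom.ker φ₁) φ₂ hker.le (hu φ₂ hker.symm)
  have hψ₁ : ∀ s, ψ₁ (algebraMap S _ s) = φ₁ s := fun s =>
    Ideal.ResidueField.lift_algebraMap _ _ _ _ s
  have hψ₂ : ∀ s, ψ₂ (algebraMap S _ s) = φ₂ s := fun s =>
    Ideal.ResidueField.lift_algebraMap _ _ _ _ s
  suffices hψ : ψ₁ = ψ₂ by
    ext s
    rw [← hψ₁, ← hψ₂, hψ]
  let _ : Algebra ((RingHom.ker φ₁).comap (algebraMap R S)).ResidueField
      (RingHom.ker φ₁).ResidueField :=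
    (Ideal.ResidueField.map ((RingHom.ker φ₁).comap (algebraMap R S)) (RingHom.ker φ₁)
      (algebraMap R S) rfl).toAlgebra
  have hpi' : IsPurelyInseparable ((RingHom.ker φ₁).comap (algebraMap R S)).ResidueField
      (RingHom.ker φ₁).ResidueField := by
    rw [isPurelyInseparable_iff_pow_mem _
      (ringExpChar ((RingHom.ker φ₁).comap (algebraMap R S)).ResidueField)]
    intro x
    obtain ⟨n, hn⟩ := hpi (RingHom.ker φ₁) x
    exact ⟨n, hn⟩
  apply IsPurelyInseparable.injective_comp_algebraMap
    ((RingHom.ker φ₁).comap (algebraMap R S)).ResidueField (RingHom.ker φ₁).ResidueField F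
  apply Ideal.ResidueField.ringHom_ext
  ext r
  simp only [RingHom.comp_apply]
  have hmap : algebraMap ((RingHom.ker φ₁).comap (algebraMap R S)).ResidueField
      (RingHom.ker φ₁).ResidueField (algebraMap R _ r) = algebraMap S _ (algebraMap R S r) :=
    Ideal.ResidueField.map_algebraMap _ _ _ rfl r
  rw [hmap, hψ₁, hψ₂]
  exact congr($h r)


theorem fieldInj_baseChange (R' : Type u) [CommRing R'] [Algebra R R'] (h : FieldInj R S) :
    FieldInj R' (R' ⊗[R] S) := by
  intro F _ ψ₁ ψ₂ hψ
  have h1 : ∀ a : R', ψ₁ (a ⊗ₜ[R] (1 : S)) = ψ₂ (a ⊗ₜ[R] (1 : S)) := fun a => congr($hψ a)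
  have h2 : ψ₁.comp (Algebra.TensorProduct.includeRight (R := R) (A := R') (B := S)).toRingHom =
      ψ₂.comp (Algebra.TensorProduct.includeRight (R := R) (A := R') (B := S)).toRingHom := by
    apply h
    ext r
    simp only [RingHom.comp_apply, AlgHom.toRingHom_eq_coe, RingHom.coe_coe,
      Algebra.TensorProduct.includeRight_apply]
    have : (1 : R') ⊗ₜ[R] (algebraMap R S r) = (algebraMap R R' r) ⊗ₜ[R] (1 : S) := by
      rw [Algebra.algebraMap_eq_smul_one, Algebra.algebraMap_eq_smul_one, TensorProduct.tmul_smul,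
        TensorProduct.smul_tmul']
    rw [this, h1]
  apply RingHom.ext
  intro x
  induction x using TensorProduct.induction_on with
  | zero => simp
  | tmul a s =>
    have : a ⊗ₜ[R] s = (a ⊗ₜ[R] (1 : S)) * ((1 : R') ⊗ₜ[R] s) := by
      rw [Algebra.TensorProduct.tmul_mul_tmul, mul_one, one_mul]
    rw [this, map_mul, map_mul, h1]
    congr 1
    exact congr($h2 s)
  | add x y hx hy => rw [map_add, map_add, hx, hy]

theorem comap_injective_of_fieldInj (h : FieldInj R S) :
    Function.Injective (PrimeSpectrum.comap (algebraMap R S)) := by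
  intro q₁ q₂ hq
  have hq' : q₁.asIdeal.comap (algebraMap R S) = q₂.asIdeal.comap (algebraMap R S) :=
    congrArg PrimeSpectrum.asIdeal hq
  let _ : Algebra (q₁.asIdeal.comap (algebraMap R S)).ResidueField q₁.asIdeal.ResidueField :=
    (Ideal.ResidueField.map (q₁.asIdeal.comap (algebraMap R S)) q₁.asIdeal
      (algebraMap R S) rfl).toAlgebra
  let _ : Algebra (q₁.asIdeal.comap (algebraMap R S)).ResidueField q₂.asIdeal.ResidueField :=
    (Ideal.ResidueField.map (q₁.asIdeal.comap (algebraMap R S)) q₂.asIdeal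
      (algebraMap R S) hq').toAlgebra
  have hm₁ : ∀ r : R, algebraMap (q₁.asIdeal.comap (algebraMap R S)).ResidueField
      q₁.asIdeal.ResidueField (algebraMap R _ r) = algebraMap S _ (algebraMap R S r) :=
    fun r => Ideal.ResidueField.map_algebraMap _ _ _ rfl r
  have hm₂ : ∀ r : R, algebraMap (q₁.asIdeal.comap (algebraMap R S)).ResidueField
      q₂.asIdeal.ResidueField (algebraMap R _ r) = algebraMap S _ (algebraMap R S r) :=
    fun r => Ideal.ResidueField.map_algebraMap _ _ _ hq' r
  obtain ⟨m, hm⟩ := Ideal.exists_maximal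
    (q₁.asIdeal.ResidueField ⊗[(q₁.asIdeal.comap (algebraMap R S)).ResidueField]
      q₂.asIdeal.ResidueField)
  let _ : Field ((q₁.asIdeal.ResidueField ⊗[(q₁.asIdeal.comap (algebraMap R S)).ResidueField]
      q₂.asIdeal.ResidueField) ⧸ m) := Ideal.Quotient.field m
  let j₁ : q₁.asIdeal.ResidueField →+* ((q₁.asIdeal.ResidueField ⊗[(q₁.asIdeal.comap
      (algebraMap R S)).ResidueField] q₂.asIdeal.ResidueField) ⧸ m) :=
    (Ideal.Quotient.mk m).comp (Algebra.TensorProduct.includeLeft
      (R := (q₁.asIdeal.comap (algebraMap R S)).ResidueField)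
      (S := (q₁.asIdeal.comap (algebraMap R S)).ResidueField)
      (A := q₁.asIdeal.ResidueField) (B := q₂.asIdeal.ResidueField)).toRingHom
  let j₂ : q₂.asIdeal.ResidueField →+* ((q₁.asIdeal.ResidueField ⊗[(q₁.asIdeal.comap
      (algebraMap R S)).ResidueField] q₂.asIdeal.ResidueField) ⧸ m) :=
    (Ideal.Quotient.mk m).comp (Algebra.TensorProduct.includeRight
      (R := (q₁.asIdeal.comap (algebraMap R S)).ResidueField)
      (A := q₁.asIdeal.ResidueField) (B := q₂.asIdeal.ResidueField)).toRingHom
  have hφ : (j₁.comp (algebraMap S q₁.asIdeal.ResidueField)) =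
      (j₂.comp (algebraMap S q₂.asIdeal.ResidueField)) := by
    apply h
    ext r
    simp only [RingHom.comp_apply, j₁, j₂, AlgHom.toRingHom_eq_coe, RingHom.coe_coe,
      Algebra.TensorProduct.includeLeft_apply, Algebra.TensorProduct.includeRight_apply]
    rw [← hm₁, ← hm₂]
    congr 1
    rw [Algebra.algebraMap_eq_smul_one, Algebra.algebraMap_eq_smul_one (A := q₂.asIdeal.ResidueField),
      TensorProduct.tmul_smul, TensorProduct.smul_tmul']
  have hk₁ : RingHom.ker (j₁.comp (algebraMap S q₁.asIdeal.ResidueField)) = q₁.asIdeal := by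
    rw [← RingHom.comap_ker, (RingHom.injective_iff_ker_eq_bot j₁).mp j₁.injective,
      ← RingHom.ker_eq_comap_bot, Ideal.ker_algebraMap_residueField]
  have hk₂ : RingHom.ker (j₂.comp (algebraMap S q₂.asIdeal.ResidueField)) = q₂.asIdeal := by
    rw [← RingHom.comap_ker, (RingHom.injective_iff_ker_eq_bot j₂).mp j₂.injective,
      ← RingHom.ker_eq_comap_bot, Ideal.ker_algebraMap_residueField]
  ext1
  exact hk₁.symm.trans ((congrArg RingHom.ker hφ).trans hk₂)

theorem residueInsep_of_fieldInj (h : FieldInj R S) : ResidueInsep R S := by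
  intro q _ x
  let _ : Algebra (q.comap (algebraMap R S)).ResidueField q.ResidueField :=
    (Ideal.ResidueField.map (q.comap (algebraMap R S)) q (algebraMap R S) rfl).toAlgebra
  have hm : ∀ r : R, algebraMap (q.comap (algebraMap R S)).ResidueField
      q.ResidueField (algebraMap R _ r) = algebraMap S _ (algebraMap R S r) :=
    fun r => Ideal.ResidueField.map_algebraMap _ _ _ rfl r
  have : Nonempty (q.ResidueField →+* AlgebraicClosure q.ResidueField) := ⟨algebraMap _ _⟩
  have hpi : IsPurelyInseparable (q.comap (algebraMap R S)).ResidueField q.ResidueField := by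
    apply IsPurelyInseparable.of_injective_comp_algebraMap _ _ (AlgebraicClosure q.ResidueField)
    intro f g hfg
    apply Ideal.ResidueField.ringHom_ext
    apply h
    ext r
    simp only [RingHom.comp_apply]
    rw [← hm]
    exact congr($hfg (algebraMap R _ r))
  obtain ⟨n, hn⟩ := (isPurelyInseparable_iff_pow_mem _
    (ringExpChar (q.comap (algebraMap R S)).ResidueField)).mp hpi x
  exact ⟨n, hn⟩

end Groth.Agent.Helper14.Radicial
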