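import Mathlib
import Groth.Agent.Lib.Helper14.RegImmLimD

/-!
# Regular immersions and limits: globalization (helper14)
-/

set_option autoImplicit false
universe u
open CategoryTheory CategoryTheory.Limits AlgebraicGeometry TopologicalSpace Opposite
open RingTheory.Sequence

namespace Groth.Agent.Helper14.RegImmLim

open Groth.Agent.Helper14.HomLim Groth.Agent.Helper14.LimMod Groth.Agent.Helper14.SDLim
  Groth.Agent.Helper14.RegLim Groth.Agent.Helper7.LimBC Groth.Agent.Helper28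

/-- flat base change of regularity of an immersion at a point -/
theorem regAt_base_change {Y X X' Y' : Scheme.{u}} (i : Y ⟶ X) (g : X' ⟶ X) [Flat g]
    (i' : Y' ⟶ X') (g' : Y' ⟶ Y) (hsq : IsPullback g' i' i g) (y' : Y')
    (h : RegImm.IsRegularImmersionAt .regular i (g' y')) :
    RegImm.IsRegularImmersionAt .regular i' y' := by
  obtain ⟨U, hgood, hyU⟩ := exists_good_of_regAt i (g' y') h
  have hcond : i (g' y') = g (i' y') := by
    have := congrArg (fun t : Y' ⟶ X => t y') hsq.w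
    exact this
  have hy' : i' y' ∈ g ⁻¹ᵁ U := by
    change g (i' y') ∈ U
    rw [← hcond]; exact hyU
  obtain ⟨_, ⟨W, hW, rfl⟩, hzW, hWle⟩ :=
    (X'.isBasis_affineOpens).exists_subset_of_mem_open hy' (g ⁻¹ᵁ U).isOpen
  exact regAt_of_good i' W (good_base_change i g i' g' hsq U hgood W hW hWle) y' hzW

/-- the locus where a morphism is a regular immersion -/
def regLocus {Y X : Scheme.{u}} (i : Y ⟶ X) : Y.Opens :=
  ⟨{y | RegImm.IsRegularImmersionAt .regular i y}, by
    rw [isOpen_iff_forall_mem_open]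
    intro y hy
    obtain ⟨U, hgood, hyU⟩ := exists_good_of_regAt i y hy
    exact ⟨(i ⁻¹ᵁ U : Y.Opens), fun y' hy' => regAt_of_good i U hgood y' hy', (i ⁻¹ᵁ U).isOpen,
      hyU⟩⟩

theorem mem_regLocus {Y X : Scheme.{u}} (i : Y ⟶ X) (y : Y) :
    y ∈ regLocus i ↔ RegImm.IsRegularImmersionAt .regular i y := Iff.rfl

section Global

variable {I : Type u} [SmallCategory I] [IsCofiltered I] (D : I ⥤ Scheme.{u}) (c : Cone D)
  (hc : IsLimit c) [∀ {i j : I} (f : i ⟶ j), IsAffineHom (D.map f)]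
  (hfl : ∀ {i j : I} (f : i ⟶ j), Flat (D.map f))
  (i₀ : I) {X₀ : Scheme.{u}} (j₀ : X₀ ⟶ D.obj i₀) [IsImmersion j₀] [CompactSpace X₀]

set_option backward.isDefEq.respectTransparency false in
include hc hfl in
theorem exists_stage_forall_regAt
    (hcase : (∀ i : I, IsLocallyNoetherian (D.obj i)) ∨
      (∀ (i j : I) (f : i ⟶ j), Surjective (D.map f)))
    (h : ∀ z : ↥(pullback (c.π.app i₀) j₀),
      RegImm.IsRegularImmersionAt .regular (pullback.fst (c.π.app i₀) j₀) z) :
    ∃ l : Over i₀, ∀ z' : ↥(pullback (D.map l.hom) j₀),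
      RegImm.IsRegularImmersionAt .regular (pullback.fst (D.map l.hom) j₀) z' := by
  classical
  let E := pbDiagram D i₀ j₀
  let cE := pbCone D c i₀ j₀
  have hcE : IsLimit cE := isLimitPbCone D c hc i₀ j₀
  let R : ∀ l : Over i₀, (E.obj l).Opens := fun l => regLocus (pullback.fst (D.map l.hom) j₀)
  have mono : ∀ {l l' : Over i₀} (u : l' ⟶ l), E.map u ⁻¹ᵁ R l ≤ R l' := by
    intro l l' u y hy
    haveI := hfl u.left
    exact regAt_base_change (pullback.fst (D.map l.hom) j₀) (D.map u.left)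
      (pullback.fst (D.map l'.hom) j₀) (E.map u) (isPullback_pbDiagram_map D i₀ j₀ u) y hy
  have cover : ∀ z : cE.pt, ∃ l : Over i₀, z ∈ cE.π.app l ⁻¹ᵁ R l := by
    intro z
    obtain ⟨l, hl⟩ := exists_stage_regAt D c hc hfl i₀ j₀ hcase z (h z)
    exact ⟨l, hl⟩
  haveI : IsAffineHom (c.π.app i₀) := isAffineHom_π_app D c hc i₀
  haveI : CompactSpace cE.pt := by
    haveI h1 : IsAffineHom (pullback.snd (c.π.app i₀) j₀) :=
      MorphismProperty.pullback_snd (P := @IsAffineHom) _ _ inferInstance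
    exact QuasiCompact.compactSpace_of_compactSpace (pullback.snd (c.π.app i₀) j₀)
  obtain ⟨t, ht⟩ := isCompact_univ.elim_finite_subcover
    (fun l : Over i₀ => ((cE.π.app l ⁻¹ᵁ R l : cE.pt.Opens) : Set cE.pt))
    (fun l => (cE.π.app l ⁻¹ᵁ R l).isOpen)
    (fun z _ => by
      obtain ⟨l, hl⟩ := cover z
      exact Set.mem_iUnion.mpr ⟨l, hl⟩)
  obtain ⟨l₀, hl₀⟩ := IsCofiltered.inf_objs_exists t
  have htop : cE.π.app l₀ ⁻¹ᵁ ⊤ ≤ cE.π.app l₀ ⁻¹ᵁ R l₀ := by
    intro z _
    have hz := ht (Set.mem_univ z)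
    simp only [Set.mem_iUnion] at hz
    obtain ⟨l, hlt, hzl⟩ := hz
    obtain ⟨u⟩ := hl₀ hlt
    apply mono u
    change E.map u (cE.π.app l₀ z) ∈ R l
    have hw : cE.π.app l₀ ≫ E.map u = cE.π.app l := cE.w u
    have hw' : E.map u (cE.π.app l₀ z) = cE.π.app l z :=
      congrArg (fun t : cE.pt ⟶ E.obj l => t z) hw
    rw [hw']
    exact hzl
  obtain ⟨l', u, hu⟩ := exists_map_preimage_le_map_preimage E cE hcE (i := l₀) (U := ⊤)
    (V := R l₀) (by rw [Opens.coe_top]; exact isCompact_univ) htop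
  exact ⟨l', fun z' => mono u (hu (show z' ∈ E.map u ⁻¹ᵁ ⊤ from trivial))⟩

end Global

end Groth.Agent.Helper14.RegImmLim
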