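import Mathlib

/-!
# Residue field extensions (EGA 0_III 10.3.1), part A: basic algebra

* `ret s`, `ev s` on `MvPolynomial K R`
* the "minimal monic polynomial" lemma and the kernel of `AdjoinRoot.lift`.
-/

set_option autoImplicit false
universe u
open Classical

namespace Groth.Agent.Helper14.ResExt

section Basic
open MvPolynomial
variable {R K : Type u} [CommRing R] [Field K] [Algebra R K]

/-- retraction onto the variables in `s` (other variables are sent to `0`). -/
noncomputable def ret (s : Set K) : MvPolynomial K R →ₐ[R] MvPolynomial K R :=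
  aeval (fun b => if b ∈ s then X b else 0)

/-- evaluation `X b ↦ b` for `b ∈ s`, other variables to `0`. -/
noncomputable def ev (s : Set K) : MvPolynomial K R →ₐ[R] K :=
  aeval (fun b => if b ∈ s then b else 0)

lemma ret_X_of_mem {s : Set K} {b : K} (hb : b ∈ s) : ret (R := R) s (X b) = X b := by
  simp [ret, hb]

lemma ret_X_of_not_mem {s : Set K} {b : K} (hb : b ∉ s) : ret (R := R) s (X b) = 0 := by
  simp [ret, hb]

lemma ret_C (s : Set K) (r : R) : ret (R := R) s (C r) = C r := by
  simp [ret]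

lemma ev_X_of_mem {s : Set K} {b : K} (hb : b ∈ s) : ev (R := R) s (X b) = b := by
  simp [ev, hb]

lemma ev_X_of_not_mem {s : Set K} {b : K} (hb : b ∉ s) : ev (R := R) s (X b) = 0 := by
  simp [ev, hb]

lemma ev_C (s : Set K) (r : R) : ev (R := R) s (C r) = algebraMap R K r := by
  simp [ev]

lemma ret_mem_supported (s : Set K) (x : MvPolynomial K R) : ret s x ∈ supported R s := by
  induction x using MvPolynomial.induction_on with
  | C r => rw [ret_C]; exact Subalgebra.algebraMap_mem _ r
  | add p q hp hq => rw [map_add]; exact add_mem hp hq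
  | mul_X p b hp =>
    rw [map_mul]
    refine mul_mem hp ?_
    by_cases hb : b ∈ s
    · rw [ret_X_of_mem hb]; exact Algebra.subset_adjoin ⟨b, hb, rfl⟩
    · rw [ret_X_of_not_mem hb]; exact zero_mem _

lemma ret_of_mem_supported {s : Set K} {x : MvPolynomial K R} (hx : x ∈ supported R s) :
    ret s x = x := by
  have hx' := mem_supported.mp hx
  have : ret s x = aeval (fun b => (X b : MvPolynomial K R)) x := by
    unfold ret
    rw [aeval_def, aeval_def]
    refine eval₂Hom_congr' rfl ?_ rfl |> fun h => h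
    intro i hi _
    have : i ∈ s := hx' (by exact_mod_cast hi)
    simp [this]
  rw [this]
  simp

lemma ret_ret (s : Set K) (x : MvPolynomial K R) : ret s (ret s x) = ret s x :=
  ret_of_mem_supported (ret_mem_supported s x)

lemma ev_ret (s : Set K) (x : MvPolynomial K R) : ev s (ret s x) = ev s x := by
  have : (ev (R := R) s).comp (ret s) = ev s := by
    apply MvPolynomial.algHom_ext
    intro b
    by_cases hb : b ∈ s
    · simp [ret_X_of_mem hb]
    · simp [ret_X_of_not_mem hb, ev_X_of_not_mem hb]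
  exact DFunLike.congr_fun this x

lemma ev_eq_of_subset {s t : Set K} (hst : s ⊆ t) {x : MvPolynomial K R}
    (hx : x ∈ supported R s) : ev t x = ev s x := by
  have hx' := mem_supported.mp hx
  unfold ev
  rw [aeval_def, aeval_def]
  refine eval₂Hom_congr' rfl ?_ rfl |> fun h => h
  intro i hi _
  have h1 : i ∈ s := hx' (by exact_mod_cast hi)
  have h2 : i ∈ t := hst h1
  simp [h1, h2]

/-- any `R`-algebra hom preserves the extension of an ideal of `R`. -/
lemma algHom_mem_map_algebraMap {A B : Type*} [CommRing A] [CommRing B] [Algebra R A]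
    [Algebra R B] (φ : A →ₐ[R] B) (I : Ideal R) {x : A} (hx : x ∈ I.map (algebraMap R A)) :
    φ x ∈ I.map (algebraMap R B) := by
  have h := Ideal.mem_map_of_mem (φ : A →+* B) hx
  rw [Ideal.map_map] at h
  have : (φ : A →+* B).comp (algebraMap R A) = algebraMap R B := φ.comp_algebraMap
  rwa [this] at h

end Basic

section Ext
open Polynomial

variable {A K : Type u} [CommRing A] [Field K]

/-- A monic polynomial of minimal degree killing `a` (via `ψ`) has the property that any polynomial
of smaller degree killing `a` has all coefficients in `ker ψ`, provided the image of `ψ` is closed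
under inverses. -/
theorem exists_min_monic (ψ : A →+* K) (hinv : ∀ u, ψ u ≠ 0 → ∃ v, ψ v = (ψ u)⁻¹) (a : K)
    (G₀ : A[X]) (hG₀ : G₀.Monic) (hG₀a : eval₂ ψ a G₀ = 0) :
    ∃ F : A[X], F.Monic ∧ eval₂ ψ a F = 0 ∧
      ∀ g : A[X], g.degree < F.degree → eval₂ ψ a g = 0 → ∀ i, ψ (g.coeff i) = 0 := by
  have hex : ∃ n, ∃ F : A[X], F.Monic ∧ F.natDegree = n ∧ eval₂ ψ a F = 0 :=
    ⟨_, G₀, hG₀, rfl, hG₀a⟩
  obtain ⟨F, hF, hFn, hFa⟩ := Nat.find_spec hex
  refine ⟨F, hF, hFa, ?_⟩
  intro g hg hga
  by_contra hcon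
  have hq0 : g.map ψ ≠ 0 := by
    intro h0
    apply hcon
    intro i
    have := congrArg (fun p => p.coeff i) h0
    simpa [coeff_map] using this
  have hg0 : g ≠ 0 := by
    rintro rfl
    exact hq0 (Polynomial.map_zero _)
  set q₀ := g.map ψ with hq₀
  have hl : q₀.leadingCoeff ≠ 0 := leadingCoeff_ne_zero.mpr hq0
  have hl' : q₀.leadingCoeff = ψ (g.coeff q₀.natDegree) := by
    rw [Polynomial.leadingCoeff, hq₀, coeff_map]
  obtain ⟨v, hv⟩ := hinv (g.coeff q₀.natDegree) (hl' ▸ hl)
  set q₁ := (C v * g).map ψ with hq₁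
  have hq₁' : q₁ = C (q₀.leadingCoeff)⁻¹ * q₀ := by
    rw [hq₁, Polynomial.map_mul, Polynomial.map_C, hv, ← hl']
  have hq₁m : q₁.Monic := by
    rw [hq₁']
    exact monic_C_mul_of_mul_leadingCoeff_eq_one (inv_mul_cancel₀ hl)
  have hq₁l : q₁ ∈ lifts ψ := (mem_lifts _).mpr ⟨_, rfl⟩
  obtain ⟨q, hq1, hq2, hq3⟩ := lifts_and_natDegree_eq_and_monic hq₁l hq₁m
  have hdeg : q.natDegree < F.natDegree := by
    rw [hq2, hq₁', natDegree_C_mul (inv_ne_zero hl)]
    calc q₀.natDegree ≤ g.natDegree := natDegree_map_le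
      _ < F.natDegree := natDegree_lt_natDegree hg0 hg
  have hqa : eval₂ ψ a q = 0 := by
    rw [← eval_map, hq1, hq₁', eval_mul, hq₀, eval_map, hga, mul_zero]
  rw [hFn] at hdeg
  exact Nat.find_min hex hdeg ⟨q, hq3, rfl, hqa⟩

/-- with `F` as in `exists_min_monic`, the kernel of the extended map is extended from `ker ψ`. -/
theorem ker_lift_eq (ψ : A →+* K) (a : K) (F : A[X]) (hF : F.Monic) (hFa : eval₂ ψ a F = 0)
    (hmin : ∀ g : A[X], g.degree < F.degree → eval₂ ψ a g = 0 → ∀ i, ψ (g.coeff i) = 0) :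
    RingHom.ker (AdjoinRoot.lift ψ a hFa) = (RingHom.ker ψ).map (AdjoinRoot.of F) := by
  have : Nontrivial A := ψ.domain_nontrivial
  apply le_antisymm
  · intro y hy
    obtain ⟨g, rfl⟩ := AdjoinRoot.mk_surjective y
    have h1 : AdjoinRoot.mk F g = AdjoinRoot.mk F (g %ₘ F) := by
      rw [AdjoinRoot.mk_eq_mk]
      refine ⟨g /ₘ F, ?_⟩
      have := modByMonic_add_div g F
      linear_combination (-1 : A[X]) * this
    rw [h1] at hy ⊢
    rw [RingHom.mem_ker, AdjoinRoot.lift_mk] at hy
    have h2 := hmin _ (degree_modByMonic_lt g hF) hy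
    have h3 : (g %ₘ F) ∈ (RingHom.ker ψ).map (C : A →+* A[X]) := by
      rw [Ideal.mem_map_C_iff]
      exact fun n => h2 n
    have h4 := Ideal.mem_map_of_mem (AdjoinRoot.mk F) h3
    rwa [Ideal.map_map] at h4
  · rw [Ideal.map_le_iff_le_comap]
    intro u hu
    rw [Ideal.mem_comap, RingHom.mem_ker, AdjoinRoot.lift_of]
    exact hu

/-- `AdjoinRoot.of F` is injective for monic `F` of positive degree. -/
theorem of_injective_of_monic (F : A[X]) (hF : F.Monic) (hdeg : F.degree ≠ 0) :
    Function.Injective (AdjoinRoot.of F) := by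
  rcases subsingleton_or_nontrivial A with h | h
  · intro x y _
    exact Subsingleton.elim x y
  rw [injective_iff_map_eq_zero]
  intro x hx
  have h1 : AdjoinRoot.modByMonicHom hF (AdjoinRoot.mk F (C x)) = 0 := by
    rw [AdjoinRoot.mk_C, hx, map_zero]
  rw [AdjoinRoot.modByMonicHom_mk] at h1
  have hpos : 0 < F.degree := by
    rw [← natDegree_pos_iff_degree_pos]
    rcases Nat.eq_zero_or_pos F.natDegree with h0 | h0
    · exfalso
      apply hdeg
      rw [degree_eq_natDegree hF.ne_zero, h0]
      rfl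
    · exact h0
  have h2 : (C x : A[X]) %ₘ F = C x := by
    rw [modByMonic_eq_self_iff hF]
    exact lt_of_le_of_lt degree_C_le hpos
  rw [h2] at h1
  exact C_eq_zero.mp h1

end Ext

end Groth.Agent.Helper14.ResExt
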