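import Mathlib
import Groth.Agent.Lib.Helper14.ResExtA
import Groth.Agent.Lib.Helper7.FlatColim

/-!
# Residue field extensions (EGA 0_III 10.3.1), part B: the partially ordered set of partial
solutions and its chains.
-/

set_option autoImplicit false
universe u
open MvPolynomial IsLocalRing Classical

namespace Groth.Agent.Helper14.ResExt

variable (R K : Type u) [CommRing R] [IsLocalRing R] [Field K] [Algebra R K]

/-- A partial solution: a set `s ⊆ K` of adjoined elements and an ideal `J` of the big polynomial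
ring such that `P/J` is `R`-flat and `P/(J + 𝔪P)` embeds in `K` via `ev s`. -/
structure Sol where
  s : Set K
  J : Ideal (MvPolynomial K R)
  h0 : ∀ x, x - ret s x ∈ J
  h1 : Module.Flat R (MvPolynomial K R ⧸ J)
  h2 : RingHom.ker (ev (R := R) s) =
    J ⊔ (maximalIdeal R).map (algebraMap R (MvPolynomial K R))

variable {R K}

instance : Preorder (Sol R K) where
  le σ τ := σ.s ⊆ τ.s ∧ ∀ x ∈ supported R σ.s, (x ∈ σ.J ↔ x ∈ τ.J)
  le_refl σ := ⟨subset_rfl, fun _ _ => Iff.rfl⟩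
  le_trans σ τ υ h1 h2 :=
    ⟨h1.1.trans h2.1, fun x hx => (h1.2 x hx).trans (h2.2 x (supported_mono h1.1 hx))⟩

lemma Sol.le_def {σ τ : Sol R K} :
    σ ≤ τ ↔ σ.s ⊆ τ.s ∧ ∀ x ∈ supported R σ.s, (x ∈ σ.J ↔ x ∈ τ.J) := Iff.rfl

lemma Sol.mem_iff_ret_mem (σ : Sol R K) (x : MvPolynomial K R) :
    x ∈ σ.J ↔ ret σ.s x ∈ σ.J := by
  constructor
  · intro h
    have := σ.J.sub_mem h (σ.h0 x)
    simpa using this
  · intro h
    have := σ.J.add_mem (σ.h0 x) h
    simpa using this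

lemma Sol.J_le_ker (σ : Sol R K) : σ.J ≤ RingHom.ker (ev (R := R) σ.s) := by
  rw [σ.h2]; exact le_sup_left

lemma map_maximalIdeal_le_ker (s : Set K) (hker : RingHom.ker (algebraMap R K) = maximalIdeal R) :
    (maximalIdeal R).map (algebraMap R (MvPolynomial K R)) ≤ RingHom.ker (ev (R := R) s) := by
  rw [Ideal.map_le_iff_le_comap]
  intro r hr
  rw [Ideal.mem_comap, RingHom.mem_ker, AlgHom.commutes]
  rw [← hker] at hr
  exact hr

section Chain
variable {c : Set (Sol R K)}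

/-- union of the sets of a chain -/
def sStar (c : Set (Sol R K)) : Set K := ⋃ τ ∈ c, τ.s

lemma subset_sStar {τ : Sol R K} (hτ : τ ∈ c) : τ.s ⊆ sStar c :=
  Set.subset_biUnion_of_mem hτ

lemma exists_supported (hc : IsChain (· ≤ ·) c) (hne : c.Nonempty) {y : MvPolynomial K R}
    (hy : y ∈ supported R (sStar c)) : ∃ τ ∈ c, y ∈ supported R τ.s := by
  have hdir : DirectedOn (fun i j : Sol R K => i.s ⊆ j.s) c := by
    intro x hx y hy
    obtain ⟨z, hz, hxz, hyz⟩ := hc.directedOn x hx y hy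
    exact ⟨z, hz, hxz.1, hyz.1⟩
  obtain ⟨τ, hτ, hsub⟩ :=
    DirectedOn.exists_mem_subset_of_finset_subset_biUnion hne hdir (mem_supported.mp hy)
  exact ⟨τ, hτ, mem_supported.mpr hsub⟩

lemma transfer {τ τ' : Sol R K} (h : τ ≤ τ') {y : MvPolynomial K R} (hy : y ∈ supported R τ.s)
    (hyJ : y ∈ τ.J) : y ∈ supported R τ'.s ∧ y ∈ τ'.J :=
  ⟨supported_mono h.1 hy, (h.2 y hy).mp hyJ⟩

/-- the ideal of the union of a chain -/
def JStar (hc : IsChain (· ≤ ·) c) (hne : c.Nonempty) : Ideal (MvPolynomial K R) where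
  carrier := {x | ∃ τ ∈ c, ret (sStar c) x ∈ supported R τ.s ∧ ret (sStar c) x ∈ τ.J}
  zero_mem' := by
    obtain ⟨τ, hτ⟩ := hne
    exact ⟨τ, hτ, by rw [map_zero]; exact zero_mem _, by rw [map_zero]; exact zero_mem _⟩
  add_mem' := by
    rintro x y ⟨τ₁, h1, hx1, hx2⟩ ⟨τ₂, h2, hy1, hy2⟩
    obtain ⟨τ, hτ, h1τ, h2τ⟩ := hc.directedOn τ₁ h1 τ₂ h2
    obtain ⟨hx1', hx2'⟩ := transfer h1τ hx1 hx2
    obtain ⟨hy1', hy2'⟩ := transfer h2τ hy1 hy2
    exact ⟨τ, hτ, by rw [map_add]; exact add_mem hx1' hy1',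
      by rw [map_add]; exact add_mem hx2' hy2'⟩
  smul_mem' := by
    rintro r x ⟨τ₁, h1, hx1, hx2⟩
    obtain ⟨τ₂, h2, hr⟩ := exists_supported hc hne (ret_mem_supported (sStar c) r)
    obtain ⟨τ, hτ, h1τ, h2τ⟩ := hc.directedOn τ₁ h1 τ₂ h2
    obtain ⟨hx1', hx2'⟩ := transfer h1τ hx1 hx2
    refine ⟨τ, hτ, ?_, ?_⟩
    · rw [smul_eq_mul, map_mul]; exact mul_mem (supported_mono h2τ.1 hr) hx1'
    · rw [smul_eq_mul, map_mul]; exact Ideal.mul_mem_left _ _ hx2'

lemma mem_JStar (hc : IsChain (· ≤ ·) c) (hne : c.Nonempty) {x : MvPolynomial K R} :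
    x ∈ JStar hc hne ↔
      ∃ τ ∈ c, ret (sStar c) x ∈ supported R τ.s ∧ ret (sStar c) x ∈ τ.J := Iff.rfl

lemma mem_JStar_iff (hc : IsChain (· ≤ ·) c) (hne : c.Nonempty) {σ : Sol R K} (hσ : σ ∈ c)
    {x : MvPolynomial K R} (hx : x ∈ supported R σ.s) : x ∈ JStar hc hne ↔ x ∈ σ.J := by
  have hx' : ret (sStar c) x = x :=
    ret_of_mem_supported (supported_mono (subset_sStar hσ) hx)
  constructor
  · rintro ⟨τ, hτ, h1, h2⟩
    rw [hx'] at h1 h2
    rcases hc.total hσ hτ with h | h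
    · exact (h.2 x hx).mpr h2
    · exact (h.2 x h1).mp h2
  · intro h
    exact ⟨σ, hσ, by rwa [hx'], by rwa [hx']⟩

lemma JStar_h0 (hc : IsChain (· ≤ ·) c) (hne : c.Nonempty) (x : MvPolynomial K R) :
    x - ret (sStar c) x ∈ JStar hc hne := by
  obtain ⟨τ, hτ⟩ := hne
  refine ⟨τ, hτ, ?_, ?_⟩ <;>
  · rw [map_sub, ret_ret, sub_self]; exact zero_mem _

lemma mem_JStar_iff_ret (hc : IsChain (· ≤ ·) c) (hne : c.Nonempty) (x : MvPolynomial K R) :
    x ∈ JStar hc hne ↔ ret (sStar c) x ∈ JStar hc hne := by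
  constructor
  · intro h
    have := (JStar hc hne).sub_mem h (JStar_h0 hc hne x)
    simpa using this
  · intro h
    have := (JStar hc hne).add_mem (JStar_h0 hc hne x) h
    simpa using this

lemma JStar_h2 (hc : IsChain (· ≤ ·) c) (hne : c.Nonempty)
    (hker : RingHom.ker (algebraMap R K) = maximalIdeal R) :
    RingHom.ker (ev (R := R) (sStar c)) =
      JStar hc hne ⊔ (maximalIdeal R).map (algebraMap R (MvPolynomial K R)) := by
  apply le_antisymm
  · intro x hx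
    rw [RingHom.mem_ker] at hx
    obtain ⟨y, hy⟩ : ∃ y, y = ret (sStar c) x := ⟨_, rfl⟩
    obtain ⟨τ, hτ, hyτ⟩ := exists_supported hc hne (ret_mem_supported (sStar c) x)
    rw [← hy] at hyτ
    have h1 : ev τ.s y = 0 := by
      rw [← ev_eq_of_subset (subset_sStar hτ) hyτ, hy, ev_ret, hx]
    have h2 : y ∈ τ.J ⊔ (maximalIdeal R).map (algebraMap R (MvPolynomial K R)) := by
      rw [← τ.h2]; exact h1
    obtain ⟨j, hj, m, hm, hjm⟩ := Submodule.mem_sup.mp h2
    have h3 : y = ret τ.s j + ret τ.s m := by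
      rw [← map_add, hjm, ret_of_mem_supported hyτ]
    have h4 : ret τ.s j ∈ JStar hc hne :=
      (mem_JStar_iff hc hne hτ (ret_mem_supported _ _)).mpr ((τ.mem_iff_ret_mem j).mp hj)
    have h5 : ret τ.s m ∈ (maximalIdeal R).map (algebraMap R (MvPolynomial K R)) :=
      algHom_mem_map_algebraMap (ret τ.s) _ hm
    have h6 : x = (x - y) + (ret τ.s j + ret τ.s m) := by rw [← h3]; ring
    rw [h6]
    refine add_mem ?_ (add_mem ?_ ?_)
    · exact Ideal.mem_sup_left (hy ▸ JStar_h0 hc hne x)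
    · exact Ideal.mem_sup_left h4
    · exact Ideal.mem_sup_right h5
  · refine sup_le ?_ (map_maximalIdeal_le_ker _ hker)
    rintro x ⟨τ, hτ, h1, h2⟩
    rw [RingHom.mem_ker, ← ev_ret, ev_eq_of_subset (subset_sStar hτ) h1]
    exact τ.J_le_ker h2

lemma JStar_h1 (hc : IsChain (· ≤ ·) c) (hne : c.Nonempty) :
    Module.Flat R (MvPolynomial K R ⧸ JStar hc hne) := by
  have hwd : ∀ τ : c, ∀ x ∈ τ.1.J,
      ((Ideal.Quotient.mkₐ R (JStar hc hne)).comp (ret τ.1.s)) x = 0 := by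
    intro τ x hx
    rw [AlgHom.comp_apply, Ideal.Quotient.mkₐ_eq_mk, Ideal.Quotient.eq_zero_iff_mem,
      mem_JStar_iff hc hne τ.2 (ret_mem_supported _ _)]
    exact (τ.1.mem_iff_ret_mem x).mp hx
  let π : ∀ τ : c, (MvPolynomial K R ⧸ τ.1.J) →ₗ[R] (MvPolynomial K R ⧸ JStar hc hne) :=
    fun τ => (Ideal.Quotient.liftₐ τ.1.J _ (hwd τ)).toLinearMap
  have hπ : ∀ (τ : c) (x : MvPolynomial K R),
      π τ (Ideal.Quotient.mk τ.1.J x) = Ideal.Quotient.mk (JStar hc hne) (ret τ.1.s x) := by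
    intro τ x
    rfl
  refine Groth.Agent.Helper7.Module.Flat.of_directed (ι := c)
    (fun τ => MvPolynomial K R ⧸ τ.1.J) π (fun τ => τ.1.h1) ?_ ?_
  · intro l x
    choose p hp using fun k => Ideal.Quotient.mk_surjective (x k)
    let t : Finset K := Finset.univ.biUnion fun k => (ret (sStar c) (p k)).vars
    have ht : (t : Set K) ⊆ ⋃ τ ∈ c, τ.s := by
      intro b hb
      simp only [t, Finset.coe_biUnion, Finset.coe_univ, Set.mem_univ, Set.iUnion_true,
        Set.mem_iUnion] at hb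
      obtain ⟨k, hk⟩ := hb
      exact mem_supported.mp (ret_mem_supported (sStar c) (p k)) hk
    have hdir : DirectedOn (fun i j : Sol R K => i.s ⊆ j.s) c := by
      intro x hx y hy
      obtain ⟨z, hz, hxz, hyz⟩ := hc.directedOn x hx y hy
      exact ⟨z, hz, hxz.1, hyz.1⟩
    obtain ⟨τ, hτ, hsub⟩ := DirectedOn.exists_mem_subset_of_finset_subset_biUnion hne hdir ht
    refine ⟨⟨τ, hτ⟩, fun k => Ideal.Quotient.mk τ.J (ret (sStar c) (p k)), fun k => ?_⟩
    have hk : ret (sStar c) (p k) ∈ supported R τ.s := by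
      rw [mem_supported]
      refine subset_trans ?_ hsub
      intro b hb
      simp only [t, Finset.coe_biUnion, Finset.coe_univ, Set.mem_univ, Set.iUnion_true,
        Set.mem_iUnion]
      exact ⟨k, hb⟩
    rw [hπ, ret_of_mem_supported hk, ← hp k, eq_comm, Ideal.Quotient.eq]
    exact JStar_h0 hc hne (p k)
  · intro τ y hy
    refine ⟨τ, LinearMap.id, fun z => rfl, ?_⟩
    obtain ⟨x, rfl⟩ := Ideal.Quotient.mk_surjective y
    rw [hπ, Ideal.Quotient.eq_zero_iff_mem,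
      mem_JStar_iff hc hne τ.2 (ret_mem_supported _ _)] at hy
    rw [LinearMap.id_apply, Ideal.Quotient.eq_zero_iff_mem]
    exact (τ.1.mem_iff_ret_mem x).mpr hy

/-- the upper bound of a nonempty chain -/
def solStar (hc : IsChain (· ≤ ·) c) (hne : c.Nonempty)
    (hker : RingHom.ker (algebraMap R K) = maximalIdeal R) : Sol R K where
  s := sStar c
  J := JStar hc hne
  h0 := JStar_h0 hc hne
  h1 := JStar_h1 hc hne
  h2 := JStar_h2 hc hne hker

lemma le_solStar (hc : IsChain (· ≤ ·) c) (hne : c.Nonempty)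
    (hker : RingHom.ker (algebraMap R K) = maximalIdeal R) {σ : Sol R K} (hσ : σ ∈ c) :
    σ ≤ solStar hc hne hker :=
  ⟨subset_sStar hσ, fun _ hx => (mem_JStar_iff hc hne hσ hx).symm⟩

end Chain

end Groth.Agent.Helper14.ResExt
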