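import Mathlib
import Groth.Agent.Lib.Helper14.ResExtB

/-!
# Residue field extensions (EGA 0_III 10.3.1), part C: extension step, Zorn, algebraic case.
-/

set_option autoImplicit false
universe u
open MvPolynomial IsLocalRing Classical

namespace Groth.Agent.Helper14.ResExt

variable {R K : Type u} [CommRing R] [IsLocalRing R] [Field K] [Algebra R K]

theorem exists_extend (hinv : ∀ (S : Subalgebra R K) (x : K), x ∈ S → x⁻¹ ∈ S)
    (σ : Sol R K) (a : K) (ha : a ∉ σ.s) (hint : IsIntegral R a) :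
    ∃ σ' : Sol R K, σ ≤ σ' ∧ a ∈ σ'.s := by
  let ψ : (MvPolynomial K R ⧸ σ.J) →ₐ[R] K :=
    Ideal.Quotient.liftₐ σ.J (ev σ.s) (fun x hx => σ.J_le_ker hx)
  have hψmk : ∀ x, ψ (Ideal.Quotient.mk σ.J x) = ev σ.s x := fun x => rfl
  let ψr : (MvPolynomial K R ⧸ σ.J) →+* K := (ψ : (MvPolynomial K R ⧸ σ.J) →+* K)
  have hψinv : ∀ u, ψr u ≠ 0 → ∃ v, ψr v = (ψr u)⁻¹ := by
    intro u _
    obtain ⟨v, hv⟩ := hinv ψ.range (ψ u) ⟨u, rfl⟩
    exact ⟨v, hv⟩
  obtain ⟨p, hp, hpa⟩ := hint
  have hG₀ : (p.map (algebraMap R (MvPolynomial K R ⧸ σ.J))).eval₂ ψr a = 0 := by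
    rw [Polynomial.eval₂_map, ψ.comp_algebraMap]; exact hpa
  obtain ⟨F, hF, hFa, hmin⟩ := exists_min_monic ψr hψinv a _ (hp.map _) hG₀
  have hmapA : (maximalIdeal R).map (algebraMap R (MvPolynomial K R ⧸ σ.J)) =
      ((maximalIdeal R).map (algebraMap R (MvPolynomial K R))).map (Ideal.Quotient.mk σ.J) := by
    rw [Ideal.map_map]; rfl
  have hkerψ : RingHom.ker ψr =
      (maximalIdeal R).map (algebraMap R (MvPolynomial K R ⧸ σ.J)) := by
    ext y
    obtain ⟨x, rfl⟩ := Ideal.Quotient.mk_surjective y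
    rw [hmapA, Ideal.mem_quotient_iff_mem_sup, sup_comm, ← σ.h2, RingHom.mem_ker,
      RingHom.mem_ker]
    rfl
  have hdeg : F.degree ≠ 0 := by
    intro h0
    have h1 : F = 1 := (Polynomial.Monic.degree_le_zero_iff_eq_one hF).mp h0.le
    rw [h1, Polynomial.eval₂_one] at hFa
    exact one_ne_zero hFa
  have hkerψ' := ker_lift_eq ψr a F hF hFa hmin
  have hofinj := of_injective_of_monic F hF hdeg
  let Φ : MvPolynomial K R →ₐ[R] AdjoinRoot F :=
    aeval (fun b => if b = a then AdjoinRoot.root F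
      else AdjoinRoot.of F (Ideal.Quotient.mk σ.J (X b)))
  have hΦa : Φ (X a) = AdjoinRoot.root F := by simp [Φ]
  have hΦne : ∀ b, b ≠ a → Φ (X b) = AdjoinRoot.of F (Ideal.Quotient.mk σ.J (X b)) := by
    intro b hb; simp [Φ, hb]
  have hΦC : ∀ r, Φ (C r) = AdjoinRoot.of F (Ideal.Quotient.mk σ.J (C r)) := by
    intro r
    exact Φ.commutes r
  have hmk0 : ∀ b, b ∉ σ.s → Ideal.Quotient.mk σ.J (X b) = 0 := by
    intro b hb
    rw [Ideal.Quotient.eq_zero_iff_mem]
    have := σ.h0 (X b)
    rwa [ret_X_of_not_mem hb, sub_zero] at this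
  have hΦret : ∀ x, Φ (ret σ.s x) = AdjoinRoot.of F (Ideal.Quotient.mk σ.J x) := by
    have : (Φ : MvPolynomial K R →+* AdjoinRoot F).comp ((ret (R := R) σ.s : MvPolynomial K R →ₐ[R] MvPolynomial K R) :
          MvPolynomial K R →+* MvPolynomial K R) =
        (AdjoinRoot.of F).comp (Ideal.Quotient.mk σ.J) := by
      apply MvPolynomial.ringHom_ext
      · intro r
        simp only [RingHom.comp_apply, RingHom.coe_coe, ret_C]
        exact hΦC r
      · intro b
        simp only [RingHom.comp_apply, RingHom.coe_coe]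
        by_cases hb : b ∈ σ.s
        · rw [ret_X_of_mem hb, hΦne b (fun h => ha (h ▸ hb))]
        · rw [ret_X_of_not_mem hb, hmk0 b hb, map_zero, map_zero]
    exact fun x => RingHom.congr_fun this x
  -- surjectivity of Φ
  have hΦsurj : Function.Surjective Φ := by
    intro y
    obtain ⟨g, rfl⟩ := AdjoinRoot.mk_surjective y
    induction g using Polynomial.induction_on with
    | C u =>
      obtain ⟨x, rfl⟩ := Ideal.Quotient.mk_surjective u
      exact ⟨ret σ.s x, by rw [hΦret, AdjoinRoot.mk_C]⟩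
    | add p q hp hq =>
      obtain ⟨x, hx⟩ := hp
      obtain ⟨y, hy⟩ := hq
      exact ⟨x + y, by rw [map_add, map_add, hx, hy]⟩
    | monomial n u h =>
      obtain ⟨x, hx⟩ := h
      refine ⟨x * X a, ?_⟩
      rw [map_mul Φ, hx, hΦa, pow_succ, ← mul_assoc,
        map_mul (AdjoinRoot.mk F) _ Polynomial.X, AdjoinRoot.mk_X]
  -- ψ' ∘ Φ = ev (insert a σ.s)
  have hψ'Φ : ∀ x, AdjoinRoot.lift ψr a hFa (Φ x) = ev (insert a σ.s) x := by
    have : (AdjoinRoot.lift ψr a hFa).comp (Φ : MvPolynomial K R →+* AdjoinRoot F) =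
        ((ev (R := R) (insert a σ.s) : MvPolynomial K R →ₐ[R] K) : MvPolynomial K R →+* K) := by
      apply MvPolynomial.ringHom_ext
      · intro r
        simp only [RingHom.comp_apply, RingHom.coe_coe]
        rw [hΦC, AdjoinRoot.lift_of, ev_C]
        exact ψ.commutes r
      · intro b
        simp only [RingHom.comp_apply, RingHom.coe_coe]
        by_cases hb : b = a
        · subst hb
          rw [hΦa, AdjoinRoot.lift_root, ev_X_of_mem (Set.mem_insert _ _)]
        · rw [hΦne b hb, AdjoinRoot.lift_of]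
          show ev σ.s (X b) = _
          by_cases hbs : b ∈ σ.s
          · rw [ev_X_of_mem hbs, ev_X_of_mem (Set.mem_insert_of_mem _ hbs)]
          · rw [ev_X_of_not_mem hbs,
              ev_X_of_not_mem (fun h => (Set.mem_insert_iff.mp h).elim hb hbs)]
    exact fun x => RingHom.congr_fun this x
  have h0' : ∀ x, x - ret (insert a σ.s) x ∈ RingHom.ker Φ := by
    have : (Φ : MvPolynomial K R →+* AdjoinRoot F).comp
        ((ret (R := R) (insert a σ.s) : MvPolynomial K R →ₐ[R] MvPolynomial K R) :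
          MvPolynomial K R →+* MvPolynomial K R) = (Φ : MvPolynomial K R →+* AdjoinRoot F) := by
      apply MvPolynomial.ringHom_ext
      · intro r
        simp only [RingHom.comp_apply, RingHom.coe_coe, ret_C]
      · intro b
        simp only [RingHom.comp_apply, RingHom.coe_coe]
        by_cases hb : b ∈ insert a σ.s
        · rw [ret_X_of_mem hb]
        · rw [ret_X_of_not_mem hb, map_zero]
          have hba : b ≠ a := fun h => hb (h ▸ Set.mem_insert _ _)
          have hbs : b ∉ σ.s := fun h => hb (Set.mem_insert_of_mem _ h)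
          rw [hΦne b hba, hmk0 b hbs, map_zero]
    intro x
    rw [RingHom.mem_ker, map_sub, sub_eq_zero]
    exact (RingHom.congr_fun this x).symm
  have h1' : Module.Flat R (MvPolynomial K R ⧸ RingHom.ker Φ) := by
    have : Module.Free (MvPolynomial K R ⧸ σ.J) (AdjoinRoot F) := hF.free_adjoinRoot
    have := σ.h1
    have hfl : Module.Flat R (AdjoinRoot F) :=
      Module.Flat.trans R (MvPolynomial K R ⧸ σ.J) (AdjoinRoot F)
    exact Module.Flat.of_linearEquiv
      (Ideal.quotientKerAlgEquivOfSurjective hΦsurj).toLinearEquiv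
  have h2' : RingHom.ker (ev (R := R) (insert a σ.s)) =
      RingHom.ker Φ ⊔ (maximalIdeal R).map (algebraMap R (MvPolynomial K R)) := by
    have e1 : RingHom.ker (ev (R := R) (insert a σ.s)) =
        Ideal.comap (Φ : MvPolynomial K R →+* AdjoinRoot F)
          (RingHom.ker (AdjoinRoot.lift ψr a hFa)) := by
      ext x
      rw [Ideal.mem_comap, RingHom.mem_ker, RingHom.mem_ker]
      exact (by rw [← hψ'Φ x]; rfl)
    have e2 : (AdjoinRoot.of F).comp (algebraMap R (MvPolynomial K R ⧸ σ.J)) =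
        (Φ : MvPolynomial K R →+* AdjoinRoot F).comp (algebraMap R (MvPolynomial K R)) := by
      rw [AlgHom.comp_algebraMap]; rfl
    rw [e1, hkerψ', hkerψ, Ideal.map_map, e2, ← Ideal.map_map,
      Ideal.comap_map_of_surjective (Φ : MvPolynomial K R →+* AdjoinRoot F) hΦsurj, sup_comm]
    rfl
  refine ⟨⟨insert a σ.s, RingHom.ker Φ, h0', h1', h2'⟩, ⟨Set.subset_insert _ _, ?_⟩,
    Set.mem_insert _ _⟩
  intro x hx
  show x ∈ σ.J ↔ x ∈ RingHom.ker Φ
  have h := hΦret x
  rw [ret_of_mem_supported hx] at h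
  rw [RingHom.mem_ker, h, map_eq_zero_iff _ hofinj, Ideal.Quotient.eq_zero_iff_mem]

/-- the base solution `s = ∅`, `P/J = R`. -/
theorem exists_base (hker : RingHom.ker (algebraMap R K) = maximalIdeal R) :
    Nonempty (Sol R K) := by
  let ε : MvPolynomial K R →ₐ[R] R := aeval (fun _ => 0)
  have hεC : ∀ r, ε (C r) = r := fun r => by simp [ε]
  have hεX : ∀ b, ε (X b) = 0 := fun b => by simp [ε]
  have hεsurj : Function.Surjective ε := fun r => ⟨C r, hεC r⟩
  have hεret : ∀ x, ε (ret ∅ x) = ε x := by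
    have : ε.comp (ret ∅) = ε := by
      apply MvPolynomial.algHom_ext
      intro b
      rw [AlgHom.comp_apply, ret_X_of_not_mem (Set.notMem_empty b), map_zero, hεX]
    exact fun x => DFunLike.congr_fun this x
  have hev : ∀ x, ev (R := R) ∅ x = algebraMap R K (ε x) := by
    have : ((ev (R := R) ∅ : MvPolynomial K R →ₐ[R] K) : MvPolynomial K R →+* K) =
        (algebraMap R K).comp (ε : MvPolynomial K R →+* R) := by
      apply MvPolynomial.ringHom_ext
      · intro r
        simp only [RingHom.comp_apply, RingHom.coe_coe, ev_C, hεC]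
      · intro b
        simp only [RingHom.comp_apply, RingHom.coe_coe, hεX, map_zero]
        exact ev_X_of_not_mem (Set.notMem_empty b)
    exact fun x => RingHom.congr_fun this x
  refine ⟨⟨∅, RingHom.ker ε, ?_, ?_, ?_⟩⟩
  · intro x
    rw [RingHom.mem_ker, map_sub, hεret, sub_self]
  · exact Module.Flat.of_linearEquiv
      (Ideal.quotientKerAlgEquivOfSurjective hεsurj).toLinearEquiv
  · have e1 : RingHom.ker (ev (R := R) ∅) =
        Ideal.comap (ε : MvPolynomial K R →+* R) (maximalIdeal R) := by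
      ext x
      rw [Ideal.mem_comap, RingHom.mem_ker, hev, ← hker, RingHom.mem_ker]
      rfl
    have e2 : Ideal.map (ε : MvPolynomial K R →+* R)
        ((maximalIdeal R).map (algebraMap R (MvPolynomial K R))) = maximalIdeal R := by
      rw [Ideal.map_map, AlgHom.comp_algebraMap]
      exact Ideal.map_id _
    rw [e1]
    calc Ideal.comap (ε : MvPolynomial K R →+* R) (maximalIdeal R)
        = Ideal.comap (ε : MvPolynomial K R →+* R) (Ideal.map (ε : MvPolynomial K R →+* R)
          ((maximalIdeal R).map (algebraMap R (MvPolynomial K R)))) := by rw [e2]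
      _ = _ := by
        rw [Ideal.comap_map_of_surjective (ε : MvPolynomial K R →+* R) hεsurj, sup_comm]
        rfl

/-- Zorn: there is a solution with `s = univ`. -/
theorem exists_full (hker : RingHom.ker (algebraMap R K) = maximalIdeal R)
    (hinv : ∀ (S : Subalgebra R K) (x : K), x ∈ S → x⁻¹ ∈ S)
    (hint : ∀ a : K, IsIntegral R a) : ∃ σ : Sol R K, σ.s = Set.univ := by
  haveI : Nonempty (Sol R K) := exists_base hker
  obtain ⟨σ, hσ⟩ := zorn_le_nonempty (α := Sol R K) (fun c hc hne =>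
    ⟨solStar hc hne hker, fun τ hτ => le_solStar hc hne hker hτ⟩)
  refine ⟨σ, Set.eq_univ_of_forall fun a => ?_⟩
  by_contra ha
  obtain ⟨σ', hle, ha'⟩ := exists_extend hinv σ a ha (hint a)
  exact ha ((hσ hle).1 ha')

/-- The algebraic case: if `K` is integral over the local ring `R` (with `ker (R → K) = 𝔪`) then
there is a flat local `R`-algebra `R'` with `𝔪R' = 𝔪'` and a surjection `R' → K` over `R` with
kernel `𝔪'`. -/
theorem exists_of_integral (hker : RingHom.ker (algebraMap R K) = maximalIdeal R)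
    (hinv : ∀ (S : Subalgebra R K) (x : K), x ∈ S → x⁻¹ ∈ S)
    (hint : ∀ a : K, IsIntegral R a) :
    ∃ (R' : Type u) (_ : CommRing R') (_ : IsLocalRing R') (_ : Algebra R R') (θ : R' →+* K),
      Module.Flat R R' ∧ (maximalIdeal R).map (algebraMap R R') = maximalIdeal R' ∧
      Function.Surjective θ ∧ RingHom.ker θ = maximalIdeal R' ∧
      θ.comp (algebraMap R R') = algebraMap R K := by
  obtain ⟨σ, hσ⟩ := exists_full hker hinv hint
  let ψ : (MvPolynomial K R ⧸ σ.J) →ₐ[R] K :=
    Ideal.Quotient.liftₐ σ.J (ev σ.s) (fun x hx => σ.J_le_ker hx)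
  let ψr : (MvPolynomial K R ⧸ σ.J) →+* K := (ψ : (MvPolynomial K R ⧸ σ.J) →+* K)
  have hψsurj : Function.Surjective ψr := by
    intro b
    refine ⟨Ideal.Quotient.mk σ.J (X b), ?_⟩
    show ev σ.s (X b) = b
    exact ev_X_of_mem (hσ ▸ Set.mem_univ b)
  have hmapA : (maximalIdeal R).map (algebraMap R (MvPolynomial K R ⧸ σ.J)) =
      ((maximalIdeal R).map (algebraMap R (MvPolynomial K R))).map (Ideal.Quotient.mk σ.J) := by
    rw [Ideal.map_map]; rfl
  have hkerψ : RingHom.ker ψr =
      (maximalIdeal R).map (algebraMap R (MvPolynomial K R ⧸ σ.J)) := by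
    ext y
    obtain ⟨x, rfl⟩ := Ideal.Quotient.mk_surjective y
    rw [hmapA, Ideal.mem_quotient_iff_mem_sup, sup_comm, ← σ.h2, RingHom.mem_ker,
      RingHom.mem_ker]
    rfl
  haveI hmax : (RingHom.ker ψr).IsMaximal := RingHom.ker_isMaximal_of_surjective ψr hψsurj
  have hunit : ∀ y : (RingHom.ker ψr).primeCompl, IsUnit (ψr y) := by
    intro y
    rw [isUnit_iff_ne_zero]
    exact fun h => y.2 h
  let θ : Localization.AtPrime (RingHom.ker ψr) →+* K := IsLocalization.lift hunit
  have hθ : ∀ y, θ (algebraMap _ _ y) = ψr y := fun y => IsLocalization.lift_eq hunit y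
  have hθsurj : Function.Surjective θ := by
    intro b
    obtain ⟨y, rfl⟩ := hψsurj b
    exact ⟨_, hθ y⟩
  have := σ.h1
  refine ⟨Localization.AtPrime (RingHom.ker ψr), inferInstance, inferInstance, inferInstance, θ,
    inferInstance, ?_, hθsurj, ?_, ?_⟩
  · have h1 := Localization.AtPrime.map_eq_maximalIdeal (I := RingHom.ker ψr)
    have h2 : Ideal.map (algebraMap (MvPolynomial K R ⧸ σ.J)
          (Localization.AtPrime (RingHom.ker ψr))) (RingHom.ker ψr) =
        Ideal.map (algebraMap (MvPolynomial K R ⧸ σ.J) (Localization.AtPrime (RingHom.ker ψr)))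
          ((maximalIdeal R).map (algebraMap R (MvPolynomial K R ⧸ σ.J))) := congrArg _ hkerψ
    rw [← h1, h2, Ideal.map_map, ← IsScalarTower.algebraMap_eq]
  · exact IsLocalRing.eq_maximalIdeal (RingHom.ker_isMaximal_of_surjective θ hθsurj)
  · ext r
    rw [RingHom.comp_apply, IsScalarTower.algebraMap_apply R (MvPolynomial K R ⧸ σ.J), hθ]
    exact ψ.commutes r

end Groth.Agent.Helper14.ResExt
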