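import Mathlib
import Groth.Agent.Lib.Helper14.ResExtC

/-!
# Residue field extensions (EGA 0_III 10.3.1), part D: transcendental step and assembly.
-/

set_option autoImplicit false
universe u
open IsLocalRing Classical

namespace Groth.Agent.Helper14.ResExt

section Inv
variable {R K : Type u} [CommRing R] [IsLocalRing R] [Field K] [Algebra R K]

/-- If `K` is integral over the local ring `R` with `ker (R → K) = 𝔪`, then every `R`-subalgebra
of `K` is closed under inverses. -/
theorem inv_mem_of_integral (hker : RingHom.ker (algebraMap R K) = maximalIdeal R)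
    (hint : ∀ a : K, IsIntegral R a) (S : Subalgebra R K) (x : K) (hx : x ∈ S) : x⁻¹ ∈ S := by
  haveI : IsLocalHom (algebraMap R K) := by
    refine ⟨fun r hr => ?_⟩
    by_contra hru
    have : r ∈ maximalIdeal R := (mem_maximalIdeal r).mpr hru
    rw [← hker, RingHom.mem_ker] at this
    rw [this] at hr
    exact not_isUnit_zero hr
  letI : Algebra (ResidueField R) K := (ResidueField.lift (algebraMap R K)).toAlgebra
  haveI : IsScalarTower R (ResidueField R) K :=
    IsScalarTower.of_algebraMap_eq (fun r => (ResidueField.lift_residue_apply _ r).symm)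
  let S' : Subalgebra (ResidueField R) K :=
    { S.toSubsemiring with
      algebraMap_mem' := fun c => by
        obtain ⟨r, rfl⟩ := residue_surjective c
        have : algebraMap (ResidueField R) K (residue R r) = algebraMap R K r :=
          (IsScalarTower.algebraMap_apply R (ResidueField R) K r).symm
        rw [this]
        exact S.algebraMap_mem r }
  have halg : IsAlgebraic (ResidueField R) x := ((hint x).tower_top).isAlgebraic
  exact S'.inv_mem_of_algebraic (x := ⟨x, hx⟩) halg

end Inv

section Res
variable {R R' K : Type u} [CommRing R] [IsLocalRing R] [CommRing R'] [IsLocalRing R'] [Field K]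
  [Algebra R R'] [IsLocalHom (algebraMap R R')] [Algebra (ResidueField R) K]

/-- A surjection `θ : R' → K` with kernel `𝔪'`, compatible with `k → K`, induces an isomorphism
of the residue field of `R'` with `K` over `k`. -/
theorem nonempty_residueField_algEquiv (θ : R' →+* K) (hsurj : Function.Surjective θ)
    (hker : RingHom.ker θ = maximalIdeal R')
    (hcomp : ∀ r, θ (algebraMap R R' r) = algebraMap (ResidueField R) K (residue R r)) :
    Nonempty (ResidueField R' ≃ₐ[ResidueField R] K) := by
  haveI : IsLocalHom θ := by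
    refine ⟨fun x hx => ?_⟩
    by_contra hxu
    have : x ∈ maximalIdeal R' := (mem_maximalIdeal x).mpr hxu
    rw [← hker, RingHom.mem_ker] at this
    rw [this] at hx
    exact not_isUnit_zero hx
  let e₀ : ResidueField R' →ₐ[ResidueField R] K :=
    { ResidueField.lift θ with
      commutes' := fun c => by
        obtain ⟨r, rfl⟩ := residue_surjective c
        show ResidueField.lift θ (algebraMap (ResidueField R) (ResidueField R') (residue R r)) = _
        rw [ResidueField.algebraMap_residue, ResidueField.lift_residue_apply, hcomp] }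
  refine ⟨AlgEquiv.ofBijective e₀ ⟨(e₀ : ResidueField R' →+* K).injective, ?_⟩⟩
  intro b
  obtain ⟨x, rfl⟩ := hsurj b
  exact ⟨residue R' x, ResidueField.lift_residue_apply θ x⟩

end Res

section Trans
variable {R K : Type u} [CommRing R] [IsLocalRing R] [Field K] [Algebra R K]
  [Algebra (ResidueField R) K] [IsScalarTower R (ResidueField R) K]

omit [IsLocalRing R] in
/-- if the image of `θ` contains the image of the units' inverses, nonzero polynomials with
coefficients in the image of a local-type map can be made monic. -/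
theorem isIntegralElem_of_lifts {R₁ : Type u} [CommRing R₁] (θ : R₁ →+* K)
    (hinv : ∀ u, θ u ≠ 0 → ∃ v, θ v = (θ u)⁻¹) (a : K) (p : Polynomial K) (hp0 : p ≠ 0)
    (hpl : p ∈ Polynomial.lifts θ) (hpa : p.eval a = 0) : θ.IsIntegralElem a := by
  have hl : p.leadingCoeff ≠ 0 := Polynomial.leadingCoeff_ne_zero.mpr hp0
  obtain ⟨u, hu⟩ := (Polynomial.lifts_iff_coeff_lifts p).mp hpl p.natDegree
  obtain ⟨v, hv⟩ := hinv u (by rw [hu]; exact hl)
  have hq : Polynomial.C (θ v) * p ∈ Polynomial.lifts θ :=
    mul_mem (Polynomial.C_mem_lifts θ v) hpl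
  have hqm : (Polynomial.C (θ v) * p).Monic := by
    apply Polynomial.monic_C_mul_of_mul_leadingCoeff_eq_one
    rw [hv, hu]
    exact inv_mul_cancel₀ hl
  obtain ⟨q, hq1, -, hq3⟩ := Polynomial.lifts_and_natDegree_eq_and_monic hq hqm
  refine ⟨q, hq3, ?_⟩
  rw [← Polynomial.eval_map, hq1, Polynomial.eval_mul, hpa, mul_zero]

/-- The transcendental step: a flat local extension `R₁` of `R` with `𝔪R₁ = 𝔪₁` and a map
`R₁ → K` with kernel `𝔪₁` over which `K` is integral. -/
theorem exists_transcendental :
    ∃ (R₁ : Type u) (_ : CommRing R₁) (_ : IsLocalRing R₁) (_ : Algebra R R₁) (θ : R₁ →+* K),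
      Module.Flat R R₁ ∧ (maximalIdeal R).map (algebraMap R R₁) = maximalIdeal R₁ ∧
      RingHom.ker θ = maximalIdeal R₁ ∧ θ.comp (algebraMap R R₁) = algebraMap R K ∧
      ∀ a : K, θ.IsIntegralElem a := by
  obtain ⟨T, hT⟩ := exists_isTranscendenceBasis (ResidueField R) K
  let θ₀ : MvPolynomial T R →ₐ[R] K := MvPolynomial.aeval (fun t : T => (t : K))
  let 𝔭 : Ideal (MvPolynomial T R) := RingHom.ker
    (MvPolynomial.map (residue R) : MvPolynomial T R →+* MvPolynomial T (ResidueField R))
  haveI : 𝔭.IsPrime := RingHom.ker_isPrime _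
  have h𝔭 : 𝔭 = (maximalIdeal R).map (algebraMap R (MvPolynomial T R)) := by
    show RingHom.ker _ = _
    rw [MvPolynomial.ker_map, ker_residue]
    rfl
  have halg : algebraMap R K = (algebraMap (ResidueField R) K).comp (residue R) :=
    IsScalarTower.algebraMap_eq R (ResidueField R) K
  have hθ₀ : ∀ q, θ₀ q = MvPolynomial.aeval (R := ResidueField R) (fun t : T => (t : K))
      (MvPolynomial.map (residue R) q) := by
    intro q
    show MvPolynomial.aeval _ q = _
    rw [MvPolynomial.aeval_def, MvPolynomial.aeval_def, MvPolynomial.eval₂_map, halg]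
  have hunit : ∀ y : 𝔭.primeCompl, IsUnit ((θ₀ : MvPolynomial T R →+* K) y) := by
    intro y
    rw [isUnit_iff_ne_zero]
    intro h
    apply y.2
    show (y : MvPolynomial T R) ∈ RingHom.ker _
    rw [RingHom.mem_ker]
    have h' : θ₀ y = 0 := h
    rw [hθ₀] at h'
    exact (injective_iff_map_eq_zero _).mp hT.1 _ h'
  let θ : Localization.AtPrime 𝔭 →+* K := IsLocalization.lift hunit
  have hθ : ∀ y, θ (algebraMap _ _ y) = θ₀ y := fun y => IsLocalization.lift_eq hunit y
  have hθcomp : θ.comp (algebraMap R (Localization.AtPrime 𝔭)) = algebraMap R K := by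
    ext r
    rw [RingHom.comp_apply, IsScalarTower.algebraMap_apply R (MvPolynomial T R), hθ]
    exact θ₀.commutes r
  have hmax : (maximalIdeal R).map (algebraMap R (Localization.AtPrime 𝔭)) =
      maximalIdeal (Localization.AtPrime 𝔭) := by
    have h1 := Localization.AtPrime.map_eq_maximalIdeal (I := 𝔭)
    have h2 : Ideal.map (algebraMap (MvPolynomial T R) (Localization.AtPrime 𝔭)) 𝔭 =
        Ideal.map (algebraMap (MvPolynomial T R) (Localization.AtPrime 𝔭))
          ((maximalIdeal R).map (algebraMap R (MvPolynomial T R))) := congrArg _ h𝔭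
    rw [← h1, h2, Ideal.map_map, ← IsScalarTower.algebraMap_eq]
  have hkerRK : RingHom.ker (algebraMap R K) = maximalIdeal R := by
    rw [halg, RingHom.ker_comp_of_injective _ (algebraMap (ResidueField R) K).injective,
      ker_residue]
  have hkerθ : RingHom.ker θ = maximalIdeal (Localization.AtPrime 𝔭) := by
    apply le_antisymm
    · apply le_maximalIdeal
      intro htop
      have : (1 : Localization.AtPrime 𝔭) ∈ RingHom.ker θ := htop ▸ Submodule.mem_top
      rw [RingHom.mem_ker, map_one] at this
      exact one_ne_zero this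
    · rw [← hmax, Ideal.map_le_iff_le_comap]
      intro r hr
      rw [Ideal.mem_comap, RingHom.mem_ker, ← RingHom.comp_apply, hθcomp]
      rw [← hkerRK] at hr
      exact hr
  have hθinv : ∀ u, θ u ≠ 0 → ∃ v, θ v = (θ u)⁻¹ := by
    intro u hu
    have huu : IsUnit u := by
      by_contra hnu
      have : u ∈ maximalIdeal (Localization.AtPrime 𝔭) := (mem_maximalIdeal u).mpr hnu
      rw [← hkerθ] at this
      exact hu this
    obtain ⟨w, rfl⟩ := huu
    refine ⟨((w⁻¹ : (Localization.AtPrime 𝔭)ˣ) : Localization.AtPrime 𝔭), ?_⟩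
    have : θ (w : Localization.AtPrime 𝔭) * θ ((w⁻¹ : (Localization.AtPrime 𝔭)ˣ)) = 1 := by
      rw [← map_mul, Units.mul_inv, map_one]
    exact eq_inv_of_mul_eq_one_right this
  -- the image of θ contains the subalgebra generated by T
  have hrange : ∀ y ∈ Algebra.adjoin (ResidueField R) (Set.range ((↑) : T → K)),
      y ∈ Set.range θ := by
    intro y hy
    induction hy using Algebra.adjoin_induction with
    | mem x hx =>
      obtain ⟨t, rfl⟩ := hx
      refine ⟨algebraMap (MvPolynomial T R) (Localization.AtPrime 𝔭) (MvPolynomial.X t), ?_⟩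
      rw [hθ]
      exact MvPolynomial.aeval_X _ t
    | algebraMap c =>
      obtain ⟨r, rfl⟩ := residue_surjective c
      refine ⟨algebraMap R (Localization.AtPrime 𝔭) r, ?_⟩
      rw [← RingHom.comp_apply, hθcomp, halg]
      rfl
    | add x y _ _ hx hy =>
      obtain ⟨x', rfl⟩ := hx
      obtain ⟨y', rfl⟩ := hy
      exact ⟨x' + y', map_add _ _ _⟩
    | mul x y _ _ hx hy =>
      obtain ⟨x', rfl⟩ := hx
      obtain ⟨y', rfl⟩ := hy
      exact ⟨x' * y', map_mul _ _ _⟩
  have hintall : ∀ a : K, θ.IsIntegralElem a := by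
    intro a
    have := hT.isAlgebraic
    obtain ⟨p, hp0, hpa⟩ := Algebra.IsAlgebraic.isAlgebraic
      (R := Algebra.adjoin (ResidueField R) (Set.range ((↑) : T → K))) a
    refine isIntegralElem_of_lifts θ hθinv a
      (p.map (algebraMap (Algebra.adjoin (ResidueField R) (Set.range ((↑) : T → K))) K)) ?_ ?_ ?_
    · intro h0
      apply hp0
      exact (Polynomial.map_eq_zero_iff (FaithfulSMul.algebraMap_injective _ _)).mp h0
    · rw [Polynomial.lifts_iff_coeff_lifts]
      intro n
      rw [Polynomial.coeff_map]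
      exact hrange _ (p.coeff n).2
    · rw [Polynomial.eval_map]
      exact hpa
  exact ⟨Localization.AtPrime 𝔭, inferInstance, inferInstance, inferInstance, θ, inferInstance,
    hmax, hkerθ, hθcomp, hintall⟩

end Trans

/-- EGA 0_III 10.3.1: for a local ring `(R, 𝔪, k)` and a field extension `K/k` there is a flat
local `R`-algebra `R'` with `𝔪R' = 𝔪'` and residue field `K` (over `k`). -/
theorem main {R K : Type u} [CommRing R] [IsLocalRing R] [Field K]
    [Algebra (ResidueField R) K] :
    ∃ (R' : Type u) (_ : CommRing R') (_ : IsLocalRing R') (_ : Algebra R R')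
      (_ : IsLocalHom (algebraMap R R')),
      Module.Flat R R' ∧ (maximalIdeal R).map (algebraMap R R') = maximalIdeal R' ∧
      Nonempty (ResidueField R' ≃ₐ[ResidueField R] K) := by
  letI : Algebra R K := ((algebraMap (ResidueField R) K).comp (residue R)).toAlgebra
  haveI : IsScalarTower R (ResidueField R) K := IsScalarTower.of_algebraMap_eq (fun _ => rfl)
  obtain ⟨R₁, _, _, _, θ₁, hfl₁, hm₁, hk₁, hc₁, hint₁⟩ :=
    exists_transcendental (R := R) (K := K)
  letI : Algebra R₁ K := θ₁.toAlgebra
  have hker₁ : RingHom.ker (algebraMap R₁ K) = maximalIdeal R₁ := hk₁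
  have hint₁' : ∀ a : K, IsIntegral R₁ a := hint₁
  obtain ⟨R₂, _, _, _, θ₂, hfl₂, hm₂, hs₂, hk₂, hc₂⟩ :=
    exists_of_integral hker₁ (inv_mem_of_integral hker₁ hint₁') hint₁'
  letI : Algebra R R₂ := ((algebraMap R₁ R₂).comp (algebraMap R R₁)).toAlgebra
  haveI : IsScalarTower R R₁ R₂ := IsScalarTower.of_algebraMap_eq (fun _ => rfl)
  have hm : (maximalIdeal R).map (algebraMap R R₂) = maximalIdeal R₂ := by
    rw [IsScalarTower.algebraMap_eq R R₁ R₂, ← Ideal.map_map, hm₁, hm₂]
  haveI : IsLocalHom (algebraMap R R₂) := by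
    refine ⟨fun r hr => ?_⟩
    by_contra hru
    have h1 : r ∈ maximalIdeal R := (mem_maximalIdeal r).mpr hru
    have h2 : algebraMap R R₂ r ∈ maximalIdeal R₂ := hm ▸ Ideal.mem_map_of_mem _ h1
    exact (mem_maximalIdeal _).mp h2 hr
  refine ⟨R₂, inferInstance, inferInstance, inferInstance, inferInstance,
    Module.Flat.trans R R₁ R₂, hm, ?_⟩
  apply nonempty_residueField_algEquiv θ₂ hs₂ hk₂
  intro r
  show θ₂ (algebraMap R₁ R₂ (algebraMap R R₁ r)) = _
  rw [← RingHom.comp_apply, hc₂]
  show θ₁ (algebraMap R R₁ r) = _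
  rw [← RingHom.comp_apply, hc₁]
  rfl

end Groth.Agent.Helper14.ResExt
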