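import Mathlib
import Groth.Agent.Lib.Helper14.PureQuot
import Groth.Agent.Lib.Helper14.SepGen

/-!
# Invariance of "geometrically P" under separable algebraic base field extension

`P` is a property of (local) rings invariant under ring isomorphisms.  A ring is `LocallyP` if
all its localizations at primes satisfy `P`.
-/

namespace Groth.Agent.Helper14.SepAlgInvar

open Function TensorProduct PureQuot

universe u

variable (P : ∀ (R : Type u) [CommRing R], Prop)

/-- all localizations at primes satisfy `P`. -/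
def LocallyP (R : Type u) [CommRing R] : Prop :=
  ∀ (p : Ideal R) [p.IsPrime], P (Localization.AtPrime p)

variable {P}
variable (hP : ∀ (R R' : Type u) [CommRing R] [CommRing R'], (R ≃+* R') → P R → P R')

include hP in
theorem locallyP_of_pureKer {B C : Type u} [CommRing B] [CommRing C] (π : B →+* C)
    (hs : Surjective π) (hp : PureKer π) (hB : LocallyP P B) : LocallyP P C :=
  fun Q _ => hP _ _ (localRingEquiv π hs hp Q) (hB (Q.comap π))

include hP in
theorem locallyP_of_ringEquiv {B C : Type u} [CommRing B] [CommRing C] (e : B ≃+* C)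
    (hB : LocallyP P B) : LocallyP P C :=
  locallyP_of_pureKer hP e.toRingHom e.surjective (pureKer_of_injective _ e.injective) hB

include hP in
/-- "Up": `A ⊗ C` is locally `P` if all `A ⊗ C/n` are, for `C` reduced Artinian. -/
theorem locallyP_tensor_of_forall_maximal {k' A C : Type u} [CommRing k'] [CommRing A]
    [Algebra k' A] [CommRing C] [Algebra k' C] [IsArtinianRing C] [IsReduced C]
    (h : ∀ (n : Ideal C) [n.IsMaximal], LocallyP P (A ⊗[k'] (C ⧸ n))) :
    LocallyP P (A ⊗[k'] C) := by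
  intro Q hQ
  set n : Ideal C := Q.comap (Algebra.TensorProduct.includeRight : C →ₐ[k'] A ⊗[k'] C).toRingHom
    with hn
  have hnp : n.IsPrime := Ideal.comap_isPrime _ _
  have hnm : n.IsMaximal := IsArtinianRing.isMaximal_of_isPrime n
  let π₀ : C →ₐ[k'] C ⧸ n := Ideal.Quotient.mkₐ k' n
  have hπ₀ : Surjective π₀ := Ideal.Quotient.mkₐ_surjective k' n
  let π : A ⊗[k'] C →ₐ[k'] A ⊗[k'] (C ⧸ n) := Algebra.TensorProduct.map (AlgHom.id k' A) π₀
  have hπs : Surjective π := lTensor_surjective π₀ hπ₀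
  have hπp : PureKer π.toRingHom :=
    pureKer_lTensor π₀ hπ₀ (pureKer_of_isArtinianRing π₀.toRingHom)
  have hker : RingHom.ker π.toRingHom ≤ Q := by
    have h1 : RingHom.ker π = Ideal.map (Algebra.TensorProduct.includeRight :
        C →ₐ[k'] A ⊗[k'] C) (RingHom.ker π₀) :=
      Algebra.TensorProduct.lTensor_ker _ hπ₀
    have h2 : RingHom.ker π₀ = n := by
      ext x
      rw [RingHom.mem_ker]
      exact Ideal.Quotient.eq_zero_iff_mem
    change RingHom.ker π ≤ Q
    rw [h1, h2, Ideal.map_le_iff_le_comap]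
    exact le_rfl
  have hQ' : (Q.map π.toRingHom).IsPrime := Ideal.map_isPrime_of_surjective hπs hker
  have hcomap : (Q.map π.toRingHom).comap π.toRingHom = Q := by
    rw [Ideal.comap_map_of_surjective π.toRingHom hπs Q, ← RingHom.ker_eq_comap_bot]
    exact sup_eq_left.mpr hker
  have key : ∀ (Q₁ : Ideal (A ⊗[k'] C)) [Q₁.IsPrime] (Q₂ : Ideal (A ⊗[k'] (C ⧸ n))) [Q₂.IsPrime],
      Q₂.comap π.toRingHom = Q₁ → P (Localization.AtPrime Q₁) := by
    rintro Q₁ _ Q₂ _ rfl
    exact hP _ _ (localRingEquiv π.toRingHom hπs hπp Q₂).symm (h n Q₂)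
  exact key Q (Q.map π.toRingHom) hcomap

section fields

variable {k k' A : Type u} [Field k] [Field k'] [Algebra k k'] [Algebra.IsSeparable k k']
  [CommRing A] [Algebra k' A] [Algebra k A] [IsScalarTower k k' A]

theorem isReduced_tensor_left (l : Type u) [Field l] [Algebra k l] : IsReduced (k' ⊗[k] l) := by
  have h1 : IsReduced (l ⊗[k] k') := isReduced_tensor_of_isSeparable (F := k) (K := k') (R' := l)
  exact isReduced_of_injective (Algebra.TensorProduct.comm k k' l).toRingEquiv.toRingHom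
    (Algebra.TensorProduct.comm k k' l).injective

include hP in
/-- From `k'` to `k`. -/
theorem up_dir (l : Type u) [Field l] [Algebra k l] [Module.Finite k l]
    (h : ∀ (D : Type u) [CommRing D] [Algebra k' D] [Module.Finite k' D], IsField D →
      LocallyP P (A ⊗[k'] D)) : LocallyP P (l ⊗[k] A) := by
  haveI : IsReduced (k' ⊗[k] l) := isReduced_tensor_left l
  haveI : IsArtinianRing (k' ⊗[k] l) := IsArtinianRing.of_finite k' _
  have h1 : LocallyP P (A ⊗[k'] (k' ⊗[k] l)) := by
    apply locallyP_tensor_of_forall_maximal hP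
    intro n hn
    haveI : Module.Finite k' ((k' ⊗[k] l) ⧸ n) :=
      Module.Finite.of_surjective (Ideal.Quotient.mkₐ k' n).toLinearMap
        (Ideal.Quotient.mkₐ_surjective k' n)
    exact h _ ((Ideal.Quotient.maximal_ideal_iff_isField_quotient n).mp hn)
  let e1 : l ⊗[k] A ≃+* A ⊗[k] l := (Algebra.TensorProduct.comm k l A).toRingEquiv
  let e2 : A ⊗[k'] (k' ⊗[k] l) ≃+* A ⊗[k] l :=
    (Algebra.TensorProduct.cancelBaseChange k k' k' A l).toRingEquiv
  exact locallyP_of_ringEquiv hP (e2.trans e1.symm) h1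

include hP in
theorem down_dir_aux (l : Type u) [Field l] [Algebra k' l] [Algebra k l] [IsScalarTower k k' l]
    (l₀ : Type u) [Field l₀] [Algebra k l₀] [Module.Finite k l₀] (j : l₀ →ₐ[k] l)
    (hj : Surjective (Algebra.TensorProduct.productLeftAlgHom (Algebra.ofId k' l) j))
    (hl₀ : LocallyP P (l₀ ⊗[k] A)) : LocallyP P (A ⊗[k'] l) := by
  haveI : IsReduced (k' ⊗[k] l₀) := isReduced_tensor_left l₀
  haveI : IsArtinianRing (k' ⊗[k] l₀) := IsArtinianRing.of_finite k' _
  let π₀ : k' ⊗[k] l₀ →ₐ[k'] l :=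
    Algebra.TensorProduct.productLeftAlgHom (Algebra.ofId k' l) j
  let π : A ⊗[k'] (k' ⊗[k] l₀) →ₐ[k'] A ⊗[k'] l := Algebra.TensorProduct.map (AlgHom.id k' A) π₀
  have hπs : Surjective π := lTensor_surjective π₀ hj
  have hπp : PureKer π.toRingHom :=
    pureKer_lTensor π₀ hj (pureKer_of_isArtinianRing π₀.toRingHom)
  let e1 : l₀ ⊗[k] A ≃+* A ⊗[k] l₀ := (Algebra.TensorProduct.comm k l₀ A).toRingEquiv
  let e2 : A ⊗[k'] (k' ⊗[k] l₀) ≃+* A ⊗[k] l₀ :=
    (Algebra.TensorProduct.cancelBaseChange k k' k' A l₀).toRingEquiv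
  have h1 : LocallyP P (A ⊗[k'] (k' ⊗[k] l₀)) :=
    locallyP_of_ringEquiv hP (e1.trans e2.symm) hl₀
  exact locallyP_of_pureKer hP π.toRingHom hπs hπp h1

include hP in
/-- From `k` to `k'`. -/
theorem down_dir (l : Type u) [Field l] [Algebra k' l] [Algebra k l] [IsScalarTower k k' l]
    [Module.Finite k' l]
    (h : ∀ (l₀ : Type u) [Field l₀] [Algebra k l₀], Module.Finite k l₀ →
      LocallyP P (l₀ ⊗[k] A)) : LocallyP P (A ⊗[k'] l) := by
  classical
  let b := Module.finBasis k' l
  haveI : Algebra.IsAlgebraic k l := Algebra.IsAlgebraic.trans k k' l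
  let l₀ : IntermediateField k l := IntermediateField.adjoin k (Set.range b)
  haveI : FiniteDimensional k l₀ :=
    IntermediateField.finiteDimensional_adjoin (S := Set.range b)
      (fun x _ => Algebra.IsIntegral.isIntegral x)
  have hl₀ : LocallyP P (l₀ ⊗[k] A) := h l₀ inferInstance
  refine down_dir_aux hP l l₀ l₀.val ?_ hl₀
  intro y
  have hy : y ∈ Submodule.span k' (Set.range b) := by rw [b.span_eq]; trivial
  induction hy using Submodule.span_induction with
  | mem x hx =>
    refine ⟨(1 : k') ⊗ₜ[k] (⟨x, IntermediateField.subset_adjoin k _ hx⟩ : l₀), ?_⟩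
    simp
  | zero => exact ⟨0, map_zero _⟩
  | add x y _ _ hx hy =>
    obtain ⟨x', rfl⟩ := hx
    obtain ⟨y', rfl⟩ := hy
    exact ⟨x' + y', map_add _ _ _⟩
  | smul a x _ hx =>
    obtain ⟨x', rfl⟩ := hx
    exact ⟨a • x', map_smul _ _ _⟩

end fields

end Groth.Agent.Helper14.SepAlgInvar
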