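import Mathlib

/-!
# Passing from `K ⊗[k] A` to `K ⊗[k'] A` for `k'/k` separable algebraic

The surjection `K ⊗[k] A → K ⊗[k'] A` has "pure" kernel: every element of the kernel is killed by
an element mapping to `1`.  Hence reducedness descends.
-/

namespace Groth.Agent.Helper14.SepTower

open TensorProduct Function Polynomial

variable {k k' A K : Type*} [Field k] [Field k'] [Algebra k k'] [CommRing A] [Algebra k' A]
  [Algebra k A] [IsScalarTower k k' A] [Field K] [Algebra k' K] [Algebra k K]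
  [IsScalarTower k k' K]

variable (k k' A K) in
/-- the canonical surjection `K ⊗[k] A → K ⊗[k'] A`. -/
noncomputable def proj : K ⊗[k] A →ₐ[K] K ⊗[k'] A :=
  Algebra.TensorProduct.mapOfCompatibleSMul k' k K K A

@[simp] theorem proj_tmul (m : K) (n : A) : proj k k' A K (m ⊗ₜ[k] n) = m ⊗ₜ[k'] n := rfl

theorem proj_surjective : Surjective (proj k k' A K) :=
  Algebra.TensorProduct.mapOfCompatibleSMul_surjective k' k K K A

/-- the key element: for `x ∈ k'` separable over `k` there is `t` mapping to `1` and killing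
`x ⊗ 1 - 1 ⊗ x`. -/
theorem exists_t (x : k') (hx : IsSeparable k x) :
    ∃ t : K ⊗[k] A, proj k k' A K t = 1 ∧
      t * ((algebraMap k' K x) ⊗ₜ[k] (1 : A) - (1 : K) ⊗ₜ[k] (algebraMap k' A x)) = 0 := by
  set f := minpoly k x with hf
  set xK := algebraMap k' K x with hxK
  set xA := algebraMap k' A x with hxA
  have hfx : aeval x f = 0 := minpoly.aeval k x
  have hsepK : (f.map (algebraMap k K)).Separable :=
    Polynomial.Separable.map (f := algebraMap k K) hx
  have hroot : (f.map (algebraMap k K)).IsRoot xK := by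
    rw [IsRoot, eval_map_algebraMap, hxK, aeval_algebraMap_apply, hfx, map_zero]
  obtain ⟨q, hq⟩ := dvd_iff_isRoot.mpr hroot
  have hu : q.eval xK ≠ 0 := by
    have h1 := hsepK.eval₂_derivative_ne_zero (RingHom.id K) (x := xK)
      (by rw [eval₂_id]; exact hroot)
    rw [eval₂_id, hq, derivative_mul] at h1
    simpa using h1
  set u := q.eval xK with hu_def
  refine ⟨u⁻¹ • aeval ((1 : K) ⊗ₜ[k] xA) q, ?_, ?_⟩
  · have h1 : proj k k' A K ((1 : K) ⊗ₜ[k] xA) = algebraMap K (K ⊗[k'] A) xK := by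
      rw [proj_tmul, Algebra.TensorProduct.algebraMap_apply, Algebra.algebraMap_self_apply,
        hxA, hxK, Algebra.algebraMap_eq_smul_one x, Algebra.algebraMap_eq_smul_one x,
        TensorProduct.smul_tmul]
    rw [map_smul, ← aeval_algHom_apply, h1, aeval_algebraMap_apply_eq_algebraMap_eval,
      ← hu_def, Algebra.smul_def, ← map_mul, inv_mul_cancel₀ hu, map_one]
  · have h1 : (xK ⊗ₜ[k] (1 : A) - (1 : K) ⊗ₜ[k] xA : K ⊗[k] A) =
        - aeval ((1 : K) ⊗ₜ[k] xA) (X - C xK) := by
      rw [map_sub, aeval_X, aeval_C, Algebra.TensorProduct.algebraMap_apply,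
        Algebra.algebraMap_self_apply, neg_sub]
    have h2 : aeval ((1 : K) ⊗ₜ[k] xA : K ⊗[k] A) (f.map (algebraMap k K)) = 0 := by
      rw [aeval_map_algebraMap]
      have : ((1 : K) ⊗ₜ[k] xA : K ⊗[k] A) =
          (Algebra.TensorProduct.includeRight : A →ₐ[k] K ⊗[k] A) xA := rfl
      rw [this, aeval_algHom_apply, hxA, aeval_algebraMap_apply, hfx, map_zero, map_zero]
    rw [h1, mul_neg, smul_mul_assoc, ← map_mul, mul_comm q, ← hq, h2, smul_zero, neg_zero]

variable [Algebra.IsSeparable k k']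

/-- every element of the kernel is killed by an element mapping to `1`. -/
theorem exists_t_of_mem_ker (y : K ⊗[k] A) (hy : proj k k' A K y = 0) :
    ∃ t : K ⊗[k] A, proj k k' A K t = 1 ∧ t * y = 0 := by
  have hker : y ∈ LinearMap.ker
      (TensorProduct.mapOfCompatibleSMul k' k k' K A) := hy
  rw [TensorProduct.AlgebraTensorModule.ker_mapOfCompatibleSMul] at hker
  clear hy
  induction hker using Submodule.span_induction with
  | mem z hz =>
    obtain ⟨a, m, n, rfl⟩ := hz
    obtain ⟨t, ht1, ht0⟩ := exists_t (A := A) (K := K) a (Algebra.IsSeparable.isSeparable k a)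
    refine ⟨t, ht1, ?_⟩
    have : ((a • m) ⊗ₜ[k] n - m ⊗ₜ[k] (a • n) : K ⊗[k] A) =
        (m ⊗ₜ[k] n) * ((algebraMap k' K a) ⊗ₜ[k] (1 : A) - (1 : K) ⊗ₜ[k] (algebraMap k' A a)) := by
      rw [mul_sub, Algebra.TensorProduct.tmul_mul_tmul, Algebra.TensorProduct.tmul_mul_tmul,
        mul_one, mul_one, Algebra.smul_def, Algebra.smul_def, mul_comm m, mul_comm n]
    rw [this, mul_left_comm, ht0, mul_zero]
  | zero => exact ⟨1, map_one _, mul_zero _⟩
  | add z w _ _ hz hw =>
    obtain ⟨t1, h11, h10⟩ := hz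
    obtain ⟨t2, h21, h20⟩ := hw
    refine ⟨t1 * t2, by rw [map_mul, h11, h21, mul_one], ?_⟩
    rw [mul_add, mul_right_comm, h10, zero_mul, mul_assoc, h20, mul_zero, add_zero]
  | smul a z _ hz =>
    obtain ⟨t, h1, h0⟩ := hz
    exact ⟨t, h1, by rw [mul_smul_comm, h0, smul_zero]⟩

theorem isReduced_of_tower (h : IsReduced (K ⊗[k] A)) : IsReduced (K ⊗[k'] A) := by
  constructor
  rintro c ⟨n, hn⟩
  obtain ⟨b, rfl⟩ := proj_surjective (k := k) (k' := k') (A := A) (K := K) c
  rw [← map_pow] at hn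
  obtain ⟨t, ht1, ht0⟩ := exists_t_of_mem_ker _ hn
  have hnil : IsNilpotent (t * b) := ⟨n + 1, by
    calc (t * b) ^ (n + 1) = t ^ n * b * (t * b ^ n) := by ring
      _ = 0 := by rw [ht0, mul_zero]⟩
  have h0 : t * b = 0 := hnil.eq_zero
  have := congrArg (proj k k' A K) h0
  rwa [map_mul, ht1, one_mul, map_zero] at this

end Groth.Agent.Helper14.SepTower
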