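import Mathlib
import Groth.Agent.Lib.Helper14.SplitReg3

/-!
# Change of generators followed by passage to the quotient (helper14)
-/

set_option autoImplicit false
set_option linter.style.haveILetI false
set_option linter.unusedSectionVars false
set_option linter.unusedVariables false
set_option maxRecDepth 8000
universe u

namespace Groth.Agent.Helper14.SplitReg

open Groth.Agent.Helper2.KindDesc Groth.Agent.Helper21.KL Groth.Agent.Helper26.H1QR

theorem span_range_cast {R : Type u} [CommRing R] (hs : List R) {c : ℕ} (hc : c = hs.length) :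
    Ideal.span (Set.range (fun i : Fin c => hs.get (Fin.cast hc i))) = Ideal.ofList hs := by
  have h1 : Set.range (fun i : Fin c => hs.get (Fin.cast hc i)) = Set.range hs.get := by
    subst hc
    rfl
  rw [h1, Set.range_list_get]

theorem cq (k : RegImm.Kind) (hk : k ≠ RegImm.Kind.regular) {A' B : Type u} [CommRing A']
    [CommRing B] (π : A' →+* B) (hπ : Function.Surjective π) (hs : List A')
    (hhs : k.Seq A' hs) {n m : ℕ} (f : Fin n → A') (g : Fin m → A') (hnm : n + m = hs.length)
    (hker : RingHom.ker π = Ideal.span (Set.range f))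
    (hJ : Ideal.ofList hs = Ideal.span (Set.range f) ⊔ Ideal.span (Set.range g))
    (hfK : k = RegImm.Kind.koszul → LCI.IsKoszulRegularSeq A' (List.ofFn f)) :
    ∃ rs : List B, k.Seq B rs ∧ (Ideal.ofList hs).map π = Ideal.ofList rs := by
  have hmap : (Ideal.ofList hs).map π = Ideal.ofList (List.ofFn (fun j => π (g j))) := by
    rw [hJ, Ideal.map_sup, (Ideal.map_eq_bot_iff_le_ker π).2 (le_of_eq hker.symm), bot_sup_eq,
      ofList_ofFn, Ideal.map_span, ← Set.range_comp]
    rfl
  refine ⟨List.ofFn (fun j => π (g j)), ?_, hmap⟩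
  cases k with
  | regular => exact absurd rfl hk
  | koszul =>
    have hf := hfK rfl
    have hhs' : LCI.IsKoszulRegularSeq A' hs := hhs
    have h1 : LCI.IsKoszulRegularSeq A' (List.ofFn g ++ List.ofFn f) := by
      rw [isKoszulRegularSeq_iff] at hhs' ⊢
      refine Groth.Agent.S18935.lemmaK hs _ ?_ ?_ ?_ hhs'
      · rw [List.length_append, List.length_ofFn, List.length_ofFn]
        omega
      · intro x hx
        have h2 : x ∈ Ideal.ofList hs := Ideal.subset_span hx
        rw [hJ] at h2
        change x ∈ Ideal.ofList (List.ofFn g ++ List.ofFn f)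
        rw [Ideal.ofList_append, ofList_ofFn, ofList_ofFn, sup_comm]
        exact h2
      · intro y hy
        change y ∈ Ideal.ofList hs
        rw [hJ]
        have h2 : y ∈ Ideal.ofList (List.ofFn g ++ List.ofFn f) := Ideal.subset_span hy
        rw [Ideal.ofList_append, ofList_ofFn, ofList_ofFn, sup_comm] at h2
        exact h2
    have h2 := kr_quot_surj π hπ (List.ofFn f) (List.ofFn g) (by rw [hker, ofList_ofFn]) hf h1
    rw [List.map_ofFn] at h2
    exact h2
  | h1 =>
    have h0 : CAlgX.IsH1Regular hs.get := hhs
    have hcast : CAlgX.IsH1Regular (fun i : Fin (n + m) => hs.get (Fin.cast hnm i)) :=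
      (cast_iff (fun c f => CAlgX.IsH1Regular f) hs.get (n + m) hnm _ (fun i => rfl)).2 h0
    have hF : CAlgX.IsH1Regular (Fin.append f g) := by
      refine Groth.Agent.Helper2.H1Desc.h1_span_eq _ _ hcast ?_
      rw [span_range_append, ← hJ, span_range_cast]
    have h3 := h1_quot π hπ f g hker hF
    exact (ofFn_iff (fun c f => CAlgX.IsH1Regular f) _).2 h3
  | quasi =>
    have h0 : CAlgX.IsQuasiRegular hs.get := hhs
    have hcast : CAlgX.IsQuasiRegular (fun i : Fin (n + m) => hs.get (Fin.cast hnm i)) :=
      (cast_iff (fun c f => CAlgX.IsQuasiRegular f) hs.get (n + m) hnm _ (fun i => rfl)).2 h0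
    have hF : CAlgX.IsQuasiRegular (Fin.append f g) := by
      refine Groth.Agent.Helper6.QRegGen.isQuasiRegular_of_span_eq _ _ hcast ?_
      rw [span_range_append, ← hJ, span_range_cast]
    have hL : CAlgX.IsQuasiRegular (List.ofFn f ++ List.ofFn g).get := by
      have h4 := (ofFn_iff (fun c f => CAlgX.IsQuasiRegular f) (Fin.append f g)).2 hF
      rw [List.ofFn_fin_append] at h4
      exact h4
    have h5 := qr_quot_list n A' B π hπ (List.ofFn f) (List.ofFn g) (List.length_ofFn)
      (by rw [hker, ofList_ofFn]) hL
    rw [List.map_ofFn] at h5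
    exact h5

end Groth.Agent.Helper14.SplitReg
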