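import Mathlib
import Groth.Agent.Lib.Helper14.CnH1C

/-!
# Consequences of a splitting of the conormal sequence, on a chart (helper14)
-/

set_option autoImplicit false
set_option linter.style.haveILetI false
set_option linter.unusedSectionVars false
set_option linter.unusedVariables false
set_option maxRecDepth 8000
universe u
open CategoryTheory CategoryTheory.Limits AlgebraicGeometry TopologicalSpace Opposite TensorProduct

namespace Groth.Agent.Helper14.SplitReg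

open OmegaSh Groth.Agent.Helper18.DerLib Groth.Agent.Helper18.OmegaSec
  Groth.Agent.Helper18.Rec Groth.Agent.Helper18.ConormalImm
  Groth.Agent.Helper13.EffCartier Groth.Agent.Helper13.Pullback Groth.Agent.Helper18.CnSeq
  Groth.Agent.Helper18.NrmSeq

section General

theorem injective_app_of_mono {Z : Scheme.{u}} {M N : Z.Modules} (φ : M ⟶ N) [Mono φ]
    (T : Z.Opens) : Function.Injective (φ.app T) := by
  haveI h1 : Mono ((Scheme.Modules.toPresheaf Z).map φ) := inferInstance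
  haveI h2 : Mono (((Scheme.Modules.toPresheaf Z).map φ).app (op T)) := inferInstance
  exact (AddCommGrpCat.mono_iff_injective _).1 h2

theorem exists_app_of_restrict {Z : Scheme.{u}} {M N : Z.Modules} (U : Z.Opens)
    (r : (Scheme.Modules.restrictFunctor U.ι).obj N ⟶ (Scheme.Modules.restrictFunctor U.ι).obj M)
    (T : Z.Opens) (hT : T ≤ U) :
    ∃ rT : Γ(N, T) → Γ(M, T), (∀ x y, rT (x + y) = rT x + rT y) ∧
      (∀ (a : Γ(Z, T)) x, rT (a • x) = a • rT x) ∧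
      (∀ b : M ⟶ N, r ≫ (Scheme.Modules.restrictFunctor U.ι).map b = 𝟙 _ →
        ∀ x, b.app T (rT x) = x) ∧
      (∀ a : M ⟶ N, (Scheme.Modules.restrictFunctor U.ι).map a ≫ r = 𝟙 _ →
        ∀ x, rT (a.app T x) = x) := by
  obtain ⟨W, rfl⟩ : ∃ W : U.toScheme.Opens, T = U.ι ''ᵁ W := by
    refine ⟨U.ι ⁻¹ᵁ T, ?_⟩
    rw [Scheme.Hom.image_preimage_eq_opensRange_inf, Scheme.Opens.opensRange_ι]
    exact (inf_eq_right.2 hT).symm
  refine ⟨fun x => r.app W x, ?_, ?_, ?_, ?_⟩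
  · intro x y
    exact map_add _ x y
  · intro a x
    have h1 := Scheme.Modules.Hom.app_smul r ((U.ι.appIso W).hom a) x
    have h2 : ∀ (P : Z.Modules) (y : Γ(P, U.ι ''ᵁ W)),
        (((U.ι.appIso W).hom a) • (show Γ((Scheme.Modules.restrictFunctor U.ι).obj P, W) from y)) =
          a • y := by
      intro P y
      change (U.ι.appIso W).inv ((U.ι.appIso W).hom a) • y = a • y
      rw [Iso.hom_inv_id_apply]
    rw [h2 N x] at h1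
    exact h1.trans (h2 M _)
  · intro b hb x
    have := congrArg (fun ψ => ψ.app W x) hb
    exact this
  · intro a ha x
    have := congrArg (fun ψ => ψ.app W x) ha
    exact this

end General

section Chart

variable {Y' Y X : Scheme.{u}} (f : Y ⟶ X) [IsImmersion f] [QuasiCompact f]
    (j : Y' ⟶ Y) [IsImmersion j] [QuasiCompact j]
    (φ₁ : (Scheme.Modules.pullback j).obj (Omega.conormal f) ⟶ Omega.conormal (j ≫ f))
    (hφ₁ : OmegaSh.IsConormalMap (j ≫ f) f (𝟙 X) j φ₁)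
    (φ₂ : (Scheme.Modules.pullback (𝟙 Y')).obj (Omega.conormal (j ≫ f)) ⟶ Omega.conormal j)
    (hφ₂ : OmegaSh.IsConormalMap j (j ≫ f) f (𝟙 Y') φ₂)

variable {V : X.Opens} (hV : IsAffineOpen V) (hVf : V ≤ f.coborderRange)
  (hVjf : V ≤ (j ≫ f).coborderRange) (hUj : f ⁻¹ᵁ V ≤ j.coborderRange)

include hV hVf hUj in
/-- every section of `j^* C_f` over the chart is the pullback of a class. -/
theorem exists_pull_eq (n : Γ((Scheme.Modules.pullback j).obj (Omega.conormal f), j ⁻¹ᵁ (f ⁻¹ᵁ V))) :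
    ∃ t : Γ(ClSub.idealMod f.ker, V),
      pullSect j (Omega.conormal f) (f ⁻¹ᵁ V) (conormalSect f V t) = n := by
  have hU : IsAffineOpen (f ⁻¹ᵁ V) := isAffineOpen_preimage f hV hVf
  have hT : IsAffineOpen (j ⁻¹ᵁ (f ⁻¹ᵁ V)) := isAffineOpen_preimage j hU hUj
  letI algBC : Algebra Γ(Y, f ⁻¹ᵁ V) Γ(Y', j ⁻¹ᵁ (f ⁻¹ᵁ V)) :=
    (j.appLE (f ⁻¹ᵁ V) (j ⁻¹ᵁ (f ⁻¹ᵁ V)) le_rfl).hom.toAlgebra
  have halgBC : ∀ b : Γ(Y, f ⁻¹ᵁ V),
      algebraMap Γ(Y, f ⁻¹ᵁ V) Γ(Y', j ⁻¹ᵁ (f ⁻¹ᵁ V)) b = j.app (f ⁻¹ᵁ V) b := fun b => by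
    change j.appLE (f ⁻¹ᵁ V) (j ⁻¹ᵁ (f ⁻¹ᵁ V)) le_rfl b = _
    rw [Scheme.Hom.appLE_eq_app]
  have hBC : Function.Surjective (algebraMap Γ(Y, f ⁻¹ᵁ V) Γ(Y', j ⁻¹ᵁ (f ⁻¹ᵁ V))) := by
    intro c
    obtain ⟨b, hb⟩ := app_surjective j hU hUj c
    exact ⟨b, (halgBC b).trans hb⟩
  haveI qcf : (Omega.conormal f).IsQuasicoherent := inferInstance
  let α := sectionsPullbackEquiv j (Omega.conormal f) hT hU le_rfl
  obtain ⟨m, hm⟩ := TensorProduct.mk_surjective Γ(Y, f ⁻¹ᵁ V) Γ(Omega.conormal f, f ⁻¹ᵁ V)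
    Γ(Y', j ⁻¹ᵁ (f ⁻¹ᵁ V)) hBC (α n)
  have hn_eq : n = pullSect j (Omega.conormal f) (f ⁻¹ᵁ V) m := by
    apply α.injective
    rw [← hm]
    have h1 := sectionsPullbackEquiv_pullRes j (Omega.conormal f) hT hU le_rfl m
    rw [pullRes_refl] at h1
    exact h1.symm
  obtain ⟨t, rfl⟩ := exists_conormalSect_eq f hV hVf m
  exact ⟨t, hn_eq.symm⟩

include hV hVf hUj in
/-- a class of `C_f` whose pullback to `Y'` vanishes comes from `J I`. -/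
theorem ιlin_mem_mul_of_pull_eq_zero (t : Γ(ClSub.idealMod f.ker, V))
    (h : pullSect j (Omega.conormal f) (f ⁻¹ᵁ V) (conormalSect f V t) = 0) :
    ιlin f V t ∈ RingHom.ker ((j ≫ f).app V).hom * RingHom.ker (f.app V).hom := by
  have hU : IsAffineOpen (f ⁻¹ᵁ V) := isAffineOpen_preimage f hV hVf
  have hT : IsAffineOpen (j ⁻¹ᵁ (f ⁻¹ᵁ V)) := isAffineOpen_preimage j hU hUj
  letI algBC : Algebra Γ(Y, f ⁻¹ᵁ V) Γ(Y', j ⁻¹ᵁ (f ⁻¹ᵁ V)) :=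
    (j.appLE (f ⁻¹ᵁ V) (j ⁻¹ᵁ (f ⁻¹ᵁ V)) le_rfl).hom.toAlgebra
  have halgBC : ∀ b : Γ(Y, f ⁻¹ᵁ V),
      algebraMap Γ(Y, f ⁻¹ᵁ V) Γ(Y', j ⁻¹ᵁ (f ⁻¹ᵁ V)) b = j.app (f ⁻¹ᵁ V) b := fun b => by
    change j.appLE (f ⁻¹ᵁ V) (j ⁻¹ᵁ (f ⁻¹ᵁ V)) le_rfl b = _
    rw [Scheme.Hom.appLE_eq_app]
  have hBC : Function.Surjective (algebraMap Γ(Y, f ⁻¹ᵁ V) Γ(Y', j ⁻¹ᵁ (f ⁻¹ᵁ V))) := by
    intro c
    obtain ⟨b, hb⟩ := app_surjective j hU hUj c
    exact ⟨b, (halgBC b).trans hb⟩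
  haveI qcf : (Omega.conormal f).IsQuasicoherent := inferInstance
  have h1 : (1 : Γ(Y', j ⁻¹ᵁ (f ⁻¹ᵁ V))) ⊗ₜ[Γ(Y, f ⁻¹ᵁ V)] (conormalSect f V t) = 0 := by
    have h5 := sectionsPullbackEquiv_pullRes j (Omega.conormal f) hT hU le_rfl (conormalSect f V t)
    rw [pullRes_refl] at h5
    rw [← h5, h, map_zero]
  have hmem := Groth.Agent.Helper18.CnAlg.mem_smul_top_of_one_tmul_eq_zero hBC
    (conormalSect f V t) h1
  have hIJ : RingHom.ker (f.app V).hom ≤ RingHom.ker ((j ≫ f).app V).hom := by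
    intro a ha
    change j.app (f ⁻¹ᵁ V) (f.app V a) = 0
    have ha' : f.app V a = 0 := ha
    rw [ha', map_zero]
  have key : ∀ m ∈ (RingHom.ker (algebraMap Γ(Y, f ⁻¹ᵁ V) Γ(Y', j ⁻¹ᵁ (f ⁻¹ᵁ V)))) •
      (⊤ : Submodule Γ(Y, f ⁻¹ᵁ V) Γ(Omega.conormal f, f ⁻¹ᵁ V)),
      ∃ s : Γ(ClSub.idealMod f.ker, V),
        ιlin f V s ∈ RingHom.ker ((j ≫ f).app V).hom * RingHom.ker (f.app V).hom ∧
        conormalSect f V s = m := by
    intro m hm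
    refine Submodule.smul_induction_on hm ?_ ?_
    · intro κ hκ m' _
      obtain ⟨t', rfl⟩ := exists_conormalSect_eq f hV hVf m'
      obtain ⟨a, ha⟩ := app_surjective f hV hVf κ
      have haJ : a ∈ RingHom.ker ((j ≫ f).app V).hom := by
        change j.app (f ⁻¹ᵁ V) (f.app V a) = 0
        have : (f.app V).hom a = κ := ha
        have h2 : j.app (f ⁻¹ᵁ V) κ = 0 := by
          rw [← halgBC]
          exact hκ
        rw [← h2]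
        exact congrArg _ this
      refine ⟨a • t', ?_, ?_⟩
      · rw [map_smul, smul_eq_mul]
        exact Ideal.mul_mem_mul haJ (Groth.Agent.Helper18.RecCS.app_idealSect f V t')
      · have e1 : conormalSect f V (a • t') = f.app V a • conormalSect f V t' :=
          pullSect_smul f (ClSub.idealMod f.ker) V a t'
        rw [e1]
        congr 1
    · rintro x y ⟨s₁, h1, rfl⟩ ⟨s₂, h2, rfl⟩
      exact ⟨s₁ + s₂, by rw [map_add]; exact Ideal.add_mem _ h1 h2, map_add _ _ _⟩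
  obtain ⟨s, hs1, hs2⟩ := key _ hmem
  have h0 : conormalSect f V (t - s) = 0 := by rw [map_sub, hs2, sub_self]
  have h2 := ιlin_mem_sq f hV hVf (t - s) h0
  have h3 : ιlin f V t = ιlin f V (t - s) + ιlin f V s := by rw [← map_add, sub_add_cancel]
  rw [h3]
  refine Ideal.add_mem _ ?_ hs1
  rw [pow_two] at h2
  exact Ideal.mul_mono_left hIJ h2

include hφ₁ hV hVf hVjf hUj in
theorem star_of_theta
    (θ : Γ(Omega.conormal (j ≫ f), j ⁻¹ᵁ (f ⁻¹ᵁ V)) → Γ(Omega.conormal (j ≫ f), j ⁻¹ᵁ (f ⁻¹ᵁ V)))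
    (hθadd : ∀ x y, θ (x + y) = θ x + θ y)
    (hθsmul : ∀ (a : Γ(Y', j ⁻¹ᵁ (f ⁻¹ᵁ V))) x, θ (a • x) = a • θ x)
    (hθim : ∀ x, ∃ n, θ x = φ₁.app (j ⁻¹ᵁ (f ⁻¹ᵁ V)) n)
    (hθid : ∀ n, θ (φ₁.app (j ⁻¹ᵁ (f ⁻¹ᵁ V)) n) = φ₁.app (j ⁻¹ᵁ (f ⁻¹ᵁ V)) n)
    (hinj : Function.Injective (φ₁.app (j ⁻¹ᵁ (f ⁻¹ᵁ V))))
    (𝔞 : Ideal Γ(X, V)) (h𝔞 : RingHom.ker ((j ≫ f).app V).hom ≤ 𝔞) :
    RingHom.ker (f.app V).hom ⊓ 𝔞 * RingHom.ker ((j ≫ f).app V).hom ≤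
      𝔞 * RingHom.ker (f.app V).hom := by
  rintro y ⟨hyI, hyJ⟩
  have claim : ∀ y' ∈ 𝔞 * RingHom.ker ((j ≫ f).app V).hom,
      ∃ (s' : Γ(ClSub.idealMod (j ≫ f).ker, V)) (t' : Γ(ClSub.idealMod f.ker, V)),
        ιlin (j ≫ f) V s' = y' ∧ ιlin f V t' ∈ 𝔞 * RingHom.ker (f.app V).hom ∧
        θ (conormalSect (j ≫ f) V s') = φ₁.app (j ⁻¹ᵁ (f ⁻¹ᵁ V))
          (pullSect j (Omega.conormal f) (f ⁻¹ᵁ V) (conormalSect f V t')) := by
    intro y' hy'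
    refine Submodule.smul_induction_on hy' ?_ ?_
    · intro a ha x hx
      obtain ⟨sx, hsx⟩ := Groth.Agent.Helper18.RecCS.exists_idealSect_eq (j ≫ f) hV x hx
      obtain ⟨n, hn⟩ := hθim (conormalSect (j ≫ f) V sx)
      obtain ⟨tx, rfl⟩ := exists_pull_eq f j hV hVf hUj n
      refine ⟨a • sx, a • tx, ?_, ?_, ?_⟩
      · rw [map_smul]
        exact congrArg (a • ·) hsx
      · rw [map_smul, smul_eq_mul]
        exact Ideal.mul_mem_mul ha (Groth.Agent.Helper18.RecCS.app_idealSect f V tx)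
      · have e1 : conormalSect (j ≫ f) V (a • sx) =
            (j ≫ f).app V a • conormalSect (j ≫ f) V sx :=
          pullSect_smul (j ≫ f) (ClSub.idealMod (j ≫ f).ker) V a sx
        have e2 : conormalSect f V (a • tx) = f.app V a • conormalSect f V tx :=
          pullSect_smul f (ClSub.idealMod f.ker) V a tx
        have e3 : pullSect j (Omega.conormal f) (f ⁻¹ᵁ V) (f.app V a • conormalSect f V tx) =
            j.app (f ⁻¹ᵁ V) (f.app V a) •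
              pullSect j (Omega.conormal f) (f ⁻¹ᵁ V) (conormalSect f V tx) :=
          pullSect_smul j (Omega.conormal f) (f ⁻¹ᵁ V) (f.app V a) (conormalSect f V tx)
        refine (congrArg θ e1).trans ?_
        refine (hθsmul ((j ≫ f).app V a) (conormalSect (j ≫ f) V sx)).trans ?_
        rw [hn, e2, e3]
        exact (Scheme.Modules.Hom.app_smul φ₁ _ _).symm
    · rintro _ _ ⟨s₁, t₁, rfl, h1, h1'⟩ ⟨s₂, t₂, rfl, h2, h2'⟩
      refine ⟨s₁ + s₂, t₁ + t₂, map_add _ _ _, ?_, ?_⟩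
      · rw [map_add]
        exact Ideal.add_mem _ h1 h2
      · have e : conormalSect (j ≫ f) V (s₁ + s₂) =
            conormalSect (j ≫ f) V s₁ + conormalSect (j ≫ f) V s₂ := map_add _ _ _
        refine (congrArg θ e).trans ((hθadd _ _).trans ?_)
        rw [h1', h2', map_add, map_add, map_add]
  obtain ⟨s', t', hs', ht', hθ⟩ := claim y hyJ
  obtain ⟨t, ht⟩ := Groth.Agent.Helper18.RecCS.exists_idealSect_eq f hV y hyI
  have hlift : idealSect (j ≫ f).ker V s' = idealSect f.ker V t := hs'.trans ht.symm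
  have hp1 := phi1_spec f j φ₁ hφ₁ V t s' hlift
  have h3 : φ₁.app (j ⁻¹ᵁ (f ⁻¹ᵁ V))
        (pullSect j (Omega.conormal f) (f ⁻¹ᵁ V) (conormalSect f V t)) =
      φ₁.app (j ⁻¹ᵁ (f ⁻¹ᵁ V))
        (pullSect j (Omega.conormal f) (f ⁻¹ᵁ V) (conormalSect f V t')) := by
    rw [← hθ, ← hp1, hθid]
  have h4 := hinj h3
  have h5 : pullSect j (Omega.conormal f) (f ⁻¹ᵁ V) (conormalSect f V (t - t')) = 0 := by
    rw [map_sub, map_sub, h4, sub_self]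
  have h6 := ιlin_mem_mul_of_pull_eq_zero f j hV hVf hUj (t - t') h5
  have h7 : y = ιlin f V (t - t') + ιlin f V t' := by
    rw [← map_add, sub_add_cancel]
    exact ht.symm
  rw [h7]
  exact Ideal.add_mem _ (Ideal.mul_mono_left h𝔞 h6) ht'

include hφ₁ hφ₂ hV hVf hVjf hUj in
/-- version for a section of `φ₂` -/
theorem star_of_section
    (r : Γ(Omega.conormal j, j ⁻¹ᵁ (f ⁻¹ᵁ V)) → Γ(Omega.conormal (j ≫ f), j ⁻¹ᵁ (f ⁻¹ᵁ V)))
    (hradd : ∀ x y, r (x + y) = r x + r y)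
    (hrsmul : ∀ (a : Γ(Y', j ⁻¹ᵁ (f ⁻¹ᵁ V))) x, r (a • x) = a • r x)
    (hr : ∀ x, (φ₂' f j φ₂).app (j ⁻¹ᵁ (f ⁻¹ᵁ V)) (r x) = x)
    (hinj : Function.Injective (φ₁.app (j ⁻¹ᵁ (f ⁻¹ᵁ V))))
    (𝔞 : Ideal Γ(X, V)) (h𝔞 : RingHom.ker ((j ≫ f).app V).hom ≤ 𝔞) :
    RingHom.ker (f.app V).hom ⊓ 𝔞 * RingHom.ker ((j ≫ f).app V).hom ≤
      𝔞 * RingHom.ker (f.app V).hom := by
  have hr0 : r 0 = 0 := by
    have := hradd 0 0
    rw [add_zero] at this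
    exact left_eq_add.1 this
  have h12 : ∀ n, (φ₂' f j φ₂).app (j ⁻¹ᵁ (f ⁻¹ᵁ V)) (φ₁.app (j ⁻¹ᵁ (f ⁻¹ᵁ V)) n) = 0 := by
    intro n
    have h0 := congrArg (fun ψ => ψ.app (j ⁻¹ᵁ (f ⁻¹ᵁ V)) n) (phi1_phi2 f j φ₁ hφ₁ φ₂ hφ₂)
    exact h0
  refine star_of_theta f j φ₁ hφ₁ hV hVf hVjf hUj
    (fun m => m - r ((φ₂' f j φ₂).app (j ⁻¹ᵁ (f ⁻¹ᵁ V)) m)) ?_ ?_ ?_ ?_ hinj 𝔞 h𝔞
  · intro x y
    simp only [map_add, hradd]
    abel
  · intro a x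
    simp only [Scheme.Modules.Hom.app_smul, hrsmul, smul_sub]
  · intro x
    obtain ⟨n, hn⟩ := exact_app_chart f j φ₁ hφ₁ φ₂ hφ₂ hV hVf hVjf hUj
      (x - r ((φ₂' f j φ₂).app (j ⁻¹ᵁ (f ⁻¹ᵁ V)) x)) (by rw [map_sub, hr, sub_self])
    exact ⟨n, hn.symm⟩
  · intro n
    simp only [h12, hr0, sub_zero]

include hφ₁ hV hVf hVjf hUj in
/-- version for a retraction of `φ₁` -/
theorem star_of_retraction
    (ρ : Γ(Omega.conormal (j ≫ f), j ⁻¹ᵁ (f ⁻¹ᵁ V)) →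
      Γ((Scheme.Modules.pullback j).obj (Omega.conormal f), j ⁻¹ᵁ (f ⁻¹ᵁ V)))
    (hρadd : ∀ x y, ρ (x + y) = ρ x + ρ y)
    (hρsmul : ∀ (a : Γ(Y', j ⁻¹ᵁ (f ⁻¹ᵁ V))) x, ρ (a • x) = a • ρ x)
    (hρ : ∀ n, ρ (φ₁.app (j ⁻¹ᵁ (f ⁻¹ᵁ V)) n) = n)
    (𝔞 : Ideal Γ(X, V)) (h𝔞 : RingHom.ker ((j ≫ f).app V).hom ≤ 𝔞) :
    RingHom.ker (f.app V).hom ⊓ 𝔞 * RingHom.ker ((j ≫ f).app V).hom ≤
      𝔞 * RingHom.ker (f.app V).hom := by
  have hinj : Function.Injective (φ₁.app (j ⁻¹ᵁ (f ⁻¹ᵁ V))) :=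
    Function.LeftInverse.injective hρ
  refine star_of_theta f j φ₁ hφ₁ hV hVf hVjf hUj
    (fun m => φ₁.app (j ⁻¹ᵁ (f ⁻¹ᵁ V)) (ρ m)) ?_ ?_ ?_ ?_ hinj 𝔞 h𝔞
  · intro x y
    simp only [hρadd, map_add]
  · intro a x
    simp only [hρsmul, Scheme.Modules.Hom.app_smul]
  · intro x
    exact ⟨ρ x, rfl⟩
  · intro n
    simp only [hρ]

end Chart

end Groth.Agent.Helper14.SplitReg
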