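import Mathlib
import Groth.Agent.Lib.Helper14.SplitReg4
import Groth.Agent.Lib.Helper14.SplitReg5
import Groth.Agent.Lib.Helper14.TRLim11
import Groth.Agent.Lib.Helper14.RegImmLimA
import Groth.Agent.Lib.Helper28.RegImmReg
import Groth.Agent.Lib.Helper2.QRDescent2
import Groth.Agent.Lib.Helper2.RegNbhd2

/-!
# From the local splitting condition to regularity of the inner immersion (helper14)
-/

set_option autoImplicit false
set_option linter.style.haveILetI false
set_option linter.unusedSectionVars false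
set_option linter.unusedVariables false
set_option maxRecDepth 8000
universe u
open CategoryTheory CategoryTheory.Limits AlgebraicGeometry TopologicalSpace Opposite TensorProduct

namespace Groth.Agent.Helper14.SplitReg

open Groth.Agent.Helper2.KosDescent Groth.Agent.Helper18.ConormalImm

theorem rel_get_le (k : RegImm.Kind) (hk : k ≠ RegImm.Kind.regular) {R : Type u} [CommRing R]
    (hs : List R) (h : k.Seq R hs) : Rel hs.get ≤ Ideal.ofList hs := by
  cases k with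
  | regular => exact absurd rfl hk
  | koszul => exact rel_le_of_koszulRegular hs h
  | h1 =>
    have := Groth.Agent.Helper2.H1Desc.rel_le_of_h1 hs.get h
    rwa [Set.range_list_get] at this
  | quasi =>
    have := Groth.Agent.Helper2.QRDescent.rel_le_of_qr hs.get h
    rwa [Set.range_list_get] at this

theorem map_eq_of_mul_mem {A A' : Type u} [CommRing A] [CommRing A'] (res : A →+* A')
    (K S : Ideal A) (hSK : S ≤ K) (d : A) (hd : ∀ x ∈ K, d * x ∈ S) (hu : IsUnit (res d)) :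
    K.map res = S.map res := by
  apply le_antisymm
  · rw [Ideal.map_le_iff_le_comap]
    intro x hx
    rw [Ideal.mem_comap]
    have h1 : res (d * x) ∈ S.map res := Ideal.mem_map_of_mem _ (hd x hx)
    rw [map_mul] at h1
    exact (Ideal.unit_mul_mem_iff_mem _ hu).1 h1
  · exact Ideal.map_mono hSK

theorem restrict_chart (k : RegImm.Kind) (hk : k ≠ RegImm.Kind.regular) {P Q : Scheme.{u}}
    (i : P ⟶ Q) (U₀ : Q.Opens) (hU₀ : IsAffineOpen U₀) [hcl : IsClosedImmersion (i ∣_ U₀)]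
    (V : Q.Opens) (hV : IsAffineOpen V) (hle : V ≤ U₀) :
    RingHom.ker (i.app V).hom =
        (RingHom.ker (i.app U₀).hom).map (Q.presheaf.map (homOfLE hle).op).hom ∧
    ∀ (hs₀ : List Γ(Q, U₀)), k.Seq Γ(Q, U₀) hs₀ →
      k.Seq Γ(Q, V) (hs₀.map (Q.presheaf.map (homOfLE hle).op).hom) := by
  obtain ⟨-, hker'⟩ := Groth.Agent.Helper14.RegImmLim.ker_base_change i (𝟙 Q) i (𝟙 P)
    (IsPullback.of_horiz_isIso ⟨by simp⟩) U₀ hU₀ V hV hle
  have hid : ((𝟙 Q : Q ⟶ Q).appLE U₀ V hle) = Q.presheaf.map (homOfLE hle).op :=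
    Groth.Agent.Helper14.TRLim.id_appLE' U₀ V hle
  rw [hid] at hker'
  refine ⟨hker', ?_⟩
  intro hs₀ hhs₀
  letI alg : Algebra Γ(Q, U₀) Γ(Q, V) := (Q.presheaf.map (homOfLE hle).op).hom.toAlgebra
  haveI : Module.Flat Γ(Q, U₀) Γ(Q, V) := by
    have h1 := (𝟙 Q : Q ⟶ Q).flat_appLE hU₀ hV hle
    rw [hid] at h1
    exact h1
  exact Groth.Agent.Helper2.KindDesc.kind_flat k hk hs₀ hhs₀

variable {Y' Y X : Scheme.{u}} (f : Y ⟶ X) [IsImmersion f] [QuasiCompact f]
    (j : Y' ⟶ Y) [IsImmersion j] [QuasiCompact j]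

theorem ker_app_preimage {V' : X.Opens} (hV' : IsAffineOpen V') (hle : V' ≤ f.coborderRange) :
    RingHom.ker (j.app (f ⁻¹ᵁ V')).hom =
      (RingHom.ker ((j ≫ f).app V').hom).map (f.app V').hom := by
  have hsurj := app_surjective f hV' hle
  apply le_antisymm
  · intro b hb
    obtain ⟨a, rfl⟩ := hsurj b
    exact Ideal.mem_map_of_mem _ hb
  · rw [Ideal.map_le_iff_le_comap]
    intro a ha
    exact ha

set_option maxHeartbeats 1600000 in
theorem regularAt_of_star (k : RegImm.Kind) (hk : k ≠ RegImm.Kind.regular) (z : Y')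
    (hjf : RegImm.IsRegularImmersionAt k (j ≫ f) z)
    (W : X.Opens) (hzW : f (j z) ∈ W)
    (hstar : ∀ V : X.Opens, IsAffineOpen V → V ≤ W → V ≤ f.coborderRange →
      V ≤ (j ≫ f).coborderRange → f ⁻¹ᵁ V ≤ j.coborderRange →
      ∀ 𝔞 : Ideal Γ(X, V), RingHom.ker ((j ≫ f).app V).hom ≤ 𝔞 →
        RingHom.ker (f.app V).hom ⊓ 𝔞 * RingHom.ker ((j ≫ f).app V).hom ≤
          𝔞 * RingHom.ker (f.app V).hom)
    (hI : ∀ V : X.Opens, IsAffineOpen V → V ≤ W → V ≤ f.coborderRange →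
      ∃ (s : ℕ) (e : Fin s → Γ(X, V)),
        Ideal.span (Set.range e) = RingHom.ker (f.app V).hom ∧
        (k = RegImm.Kind.koszul → LCI.IsKoszulRegularSeq Γ(X, V) (List.ofFn e))) :
    RegImm.IsRegularImmersionAt k j z := by
  classical
  obtain ⟨⟨U₀, hU₀⟩, hzU₀, hclU₀, hs₀, hhs₀, hker₀⟩ := hjf
  haveI := hclU₀
  obtain ⟨W₁, hW₁⟩ : ∃ W₁ : X.Opens, f ⁻¹ᵁ W₁ = j.coborderRange := by
    obtain ⟨s, hs, hs'⟩ := f.isEmbedding.isInducing.isOpen_iff.1 j.coborderRange.2
    exact ⟨⟨s, hs⟩, Opens.ext hs'⟩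
  have hx : f (j z) ∈ W ⊓ f.coborderRange ⊓ (j ≫ f).coborderRange ⊓ W₁ ⊓ U₀ := by
    refine ⟨⟨⟨⟨hzW, subset_coborder (Set.mem_range_self (j z))⟩, ?_⟩, ?_⟩, hzU₀⟩
    · exact subset_coborder (Set.mem_range_self (f := (j ≫ f)) z)
    · have : j z ∈ f ⁻¹ᵁ W₁ := by
        rw [hW₁]
        exact subset_coborder (Set.mem_range_self z)
      exact this
  obtain ⟨_, ⟨V, hV, rfl⟩, hxV, hVle⟩ :=
    X.isBasis_affineOpens.exists_subset_of_mem_open hx
      (W ⊓ f.coborderRange ⊓ (j ≫ f).coborderRange ⊓ W₁ ⊓ U₀).2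
  have hVW : V ≤ W := fun x hx => (hVle hx).1.1.1.1
  have hVf : V ≤ f.coborderRange := fun x hx => (hVle hx).1.1.1.2
  have hVjf : V ≤ (j ≫ f).coborderRange := fun x hx => (hVle hx).1.1.2
  have hUj : f ⁻¹ᵁ V ≤ j.coborderRange := by
    rw [← hW₁]
    intro y hy
    exact (hVle hy).1.2
  have hVU₀ : V ≤ U₀ := fun x hx => (hVle hx).2
  -- the chart of `j ≫ f` on `V`
  obtain ⟨hkerJ, hseqJ⟩ := restrict_chart k hk (j ≫ f) U₀ hU₀ V hV hVU₀
  have hhs := hseqJ hs₀ hhs₀
  have hJ : RingHom.ker ((j ≫ f).app V).hom =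
      Ideal.ofList (hs₀.map (X.presheaf.map (homOfLE hVU₀).op).hom) := by
    rw [hkerJ, hker₀, Ideal.map_ofList]
  generalize hs₀.map (X.presheaf.map (homOfLE hVU₀).op).hom = hs at hhs hJ
  have hh : Ideal.span (Set.range hs.get) = RingHom.ker ((j ≫ f).app V).hom := by
    rw [hJ, Set.range_list_get]
  have hrelh : Rel hs.get ≤ RingHom.ker ((j ≫ f).app V).hom := by
    rw [hJ]
    exact rel_get_le k hk hs hhs
  -- the prime
  have hIJ : RingHom.ker (f.app V).hom ≤ RingHom.ker ((j ≫ f).app V).hom := by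
    intro a ha
    change j.app (f ⁻¹ᵁ V) (f.app V a) = 0
    have ha' : f.app V a = 0 := ha
    rw [ha', map_zero]
  have hJp : RingHom.ker ((j ≫ f).app V).hom ≤ (hV.primeIdealOf ⟨f (j z), hxV⟩).asIdeal := by
    intro a ha
    by_contra hnot
    have h1 := Groth.Agent.Helper2.RegNbhd.mem_basicOpen_of_notMem hV (f (j z)) hxV a hnot
    have h2 : z ∈ (j ≫ f) ⁻¹ᵁ X.basicOpen a := h1
    rw [Scheme.preimage_basicOpen] at h2
    have ha0 : (j ≫ f).app V a = 0 := ha
    rw [ha0, Scheme.basicOpen_zero] at h2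
    exact h2
  haveI hpprime : (hV.primeIdealOf ⟨f (j z), hxV⟩).asIdeal.IsPrime :=
    (hV.primeIdealOf ⟨f (j z), hxV⟩).isPrime
  -- generators of `I`
  obtain ⟨s, e, he, heK⟩ := hI V hV hVW hVf
  obtain ⟨n, fA, hfI, dI, hdI, hfgen, hfmin, hfK⟩ : ∃ (n : ℕ) (fA : Fin n → Γ(X, V)),
      (∀ i, fA i ∈ RingHom.ker (f.app V).hom) ∧ ∃ dI : Γ(X, V),
        dI ∉ (hV.primeIdealOf ⟨f (j z), hxV⟩).asIdeal ∧
        (∀ x ∈ RingHom.ker (f.app V).hom, dI * x ∈ Ideal.span (Set.range fA)) ∧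
        Rel fA ≤ (hV.primeIdealOf ⟨f (j z), hxV⟩).asIdeal ∧
        (k = RegImm.Kind.koszul → LCI.IsKoszulRegularSeq Γ(X, V) (List.ofFn fA)) := by
    by_cases hkk : k = RegImm.Kind.koszul
    · refine ⟨s, e, fun i => he ▸ Ideal.subset_span ⟨i, rfl⟩, 1, ?_, ?_, ?_, heK⟩
      · exact fun h1 => hpprime.ne_top ((Ideal.eq_top_iff_one _).2 h1)
      · intro x hx
        rw [one_mul, he]
        exact hx
      · refine (rel_le_of_koszulRegular' e (heK hkk)).trans ?_
        rw [he]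
        exact hIJ.trans hJp
    · have hfg : (RingHom.ker (f.app V).hom).FG := by
        rw [← he]
        exact ⟨(Set.finite_range e).toFinset, by simp⟩
      obtain ⟨n, fA, hfI, ⟨dI, hdI, hfgen⟩, hfmin⟩ :=
        exists_minimal_global (hV.primeIdealOf ⟨f (j z), hxV⟩).asIdeal _ hfg
      exact ⟨n, fA, hfI, dI, hdI, hfgen, hfmin, fun h => absurd h hkk⟩
  have hstarV := hstar V hV hVW hVf hVjf hUj _ hJp
  obtain ⟨m, gA, d, hnm, hd, hgJ, hdI', hdJ'⟩ := exists_adapted_final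
    (hV.primeIdealOf ⟨f (j z), hxV⟩).asIdeal _ _ hs.get hh (hrelh.trans hJp) hIJ hstarV fA hfI dI
    hdI hfgen hfmin
  -- the smaller chart
  have hV' : IsAffineOpen (X.basicOpen d) := hV.basicOpen d
  have hV'V : X.basicOpen d ≤ V := X.basicOpen_le d
  have hxV' : f (j z) ∈ X.basicOpen d :=
    Groth.Agent.Helper2.RegNbhd.mem_basicOpen_of_notMem hV (f (j z)) hxV d hd
  have hV'f : X.basicOpen d ≤ f.coborderRange := hV'V.trans hVf
  have hu : IsUnit ((X.presheaf.map (homOfLE hV'V).op).hom d) :=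
    RingedSpace.isUnit_res_basicOpen X.toRingedSpace d
  haveI : IsClosedImmersion (f ∣_ V) :=
    Groth.Agent.Helper28.RegImmReg.isClosedImmersion_restrict_of_le f V hVf
  haveI : IsClosedImmersion ((j ≫ f) ∣_ V) :=
    Groth.Agent.Helper28.RegImmReg.isClosedImmersion_restrict_of_le (j ≫ f) V hVjf
  obtain ⟨hkerI', hseqI'⟩ := restrict_chart k hk f V hV (X.basicOpen d) hV' hV'V
  obtain ⟨hkerJ', hseqJ'⟩ := restrict_chart k hk (j ≫ f) V hV (X.basicOpen d) hV' hV'V
  have hhs' := hseqJ' hs hhs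
  have hI'span : RingHom.ker (f.app (X.basicOpen d)).hom =
      Ideal.span (Set.range (fun i => (X.presheaf.map (homOfLE hV'V).op).hom (fA i))) := by
    rw [hkerI', map_eq_of_mul_mem _ _ (Ideal.span (Set.range fA))
      (by rw [Ideal.span_le]; rintro _ ⟨i, rfl⟩; exact hfI i) d hdI' hu,
      Ideal.map_span, ← Set.range_comp]
    rfl
  have hJ'span : Ideal.ofList (hs.map (X.presheaf.map (homOfLE hV'V).op).hom) =
      Ideal.span (Set.range (fun i => (X.presheaf.map (homOfLE hV'V).op).hom (fA i))) ⊔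
      Ideal.span (Set.range (fun i => (X.presheaf.map (homOfLE hV'V).op).hom (gA i))) := by
    rw [← Ideal.map_ofList, ← hJ, map_eq_of_mul_mem _ _
      (Ideal.span (Set.range fA) ⊔ Ideal.span (Set.range gA))
      (by
        apply sup_le
        · rw [Ideal.span_le]; rintro _ ⟨i, rfl⟩; exact hIJ (hfI i)
        · rw [Ideal.span_le]; rintro _ ⟨i, rfl⟩; exact hgJ i) d hdJ' hu,
      Ideal.map_sup, Ideal.map_span, Ideal.map_span, ← Set.range_comp, ← Set.range_comp]
    rfl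
  have hfK' : k = RegImm.Kind.koszul → LCI.IsKoszulRegularSeq Γ(X, X.basicOpen d)
      (List.ofFn (fun i => (X.presheaf.map (homOfLE hV'V).op).hom (fA i))) := by
    intro hkk
    subst hkk
    have h1 := hseqI' (List.ofFn fA) (hfK rfl)
    rw [List.map_ofFn] at h1
    exact h1
  obtain ⟨rs, hrs, hrsmap⟩ := cq k hk (f.app (X.basicOpen d)).hom (app_surjective f hV' hV'f)
    (hs.map (X.presheaf.map (homOfLE hV'V).op).hom) hhs'
    (fun i => (X.presheaf.map (homOfLE hV'V).op).hom (fA i))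
    (fun i => (X.presheaf.map (homOfLE hV'V).op).hom (gA i))
    (by rw [List.length_map]; exact hnm) hI'span hJ'span hfK'
  refine ⟨⟨f ⁻¹ᵁ X.basicOpen d, isAffineOpen_preimage f hV' hV'f⟩, hxV', ?_, rs, hrs, ?_⟩
  · exact Groth.Agent.Helper28.RegImmReg.isClosedImmersion_restrict_of_le j _
      (le_trans (f.preimage_mono hV'V) hUj)
  · rw [ker_app_preimage f j hV' hV'f, hkerJ', hJ, Ideal.map_ofList]
    exact hrsmap

end Groth.Agent.Helper14.SplitReg
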