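import Mathlib
import Groth.Agent.Lib.Helper14.SplitReg6
import Groth.Agent.Lib.Helper14.TRLim10

/-!
# Regularity of the inner immersion from a locally split conormal sequence (helper14)
-/

set_option autoImplicit false
set_option linter.style.haveILetI false
set_option linter.unusedSectionVars false
set_option linter.unusedVariables false
set_option maxRecDepth 8000
universe u
open CategoryTheory CategoryTheory.Limits AlgebraicGeometry TopologicalSpace Opposite TensorProduct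

namespace Groth.Agent.Helper14.SplitReg

open Groth.Agent.Helper2.KosDescent Groth.Agent.Helper18.ConormalImm Groth.Agent.Helper18.NrmSeq

variable {Y' Y X : Scheme.{u}} (f : Y ⟶ X) [IsImmersion f] [QuasiCompact f]
    (j : Y' ⟶ Y) [IsImmersion j] [QuasiCompact j]
    (φ₁ : (Scheme.Modules.pullback j).obj (Omega.conormal f) ⟶ Omega.conormal (j ≫ f))
    (hφ₁ : OmegaSh.IsConormalMap (j ≫ f) f (𝟙 X) j φ₁)
    (φ₂ : (Scheme.Modules.pullback (𝟙 Y')).obj (Omega.conormal (j ≫ f)) ⟶ Omega.conormal j)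
    (hφ₂ : OmegaSh.IsConormalMap j (j ≫ f) f (𝟙 Y') φ₂)

/-- the finiteness datum from local finite presentation -/
theorem hI_of_lfp [LocallyOfFinitePresentation f] (k : RegImm.Kind)
    (hk : k ≠ RegImm.Kind.koszul) (V : X.Opens) (hV : IsAffineOpen V)
    (hVf : V ≤ f.coborderRange) :
    ∃ (s : ℕ) (e : Fin s → Γ(X, V)),
      Ideal.span (Set.range e) = RingHom.ker (f.app V).hom ∧
      (k = RegImm.Kind.koszul → LCI.IsKoszulRegularSeq Γ(X, V) (List.ofFn e)) := by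
  haveI : IsClosedImmersion (f ∣_ V) :=
    Groth.Agent.Helper28.RegImmReg.isClosedImmersion_restrict_of_le f V hVf
  have hfg := Groth.Agent.Helper14.TRLim.ker_fg f V hV
  obtain ⟨s, e, he⟩ := Submodule.fg_iff_exists_fin_generating_family.1 hfg
  exact ⟨s, e, he, fun h => absurd h hk⟩

/-- the Koszul datum from a Koszul-regular chart -/
theorem hI_of_koszul (k : RegImm.Kind) (y : Y)
    (hf : RegImm.IsRegularImmersionAt RegImm.Kind.koszul f y) :
    ∃ W : X.Opens, f y ∈ W ∧ ∀ V : X.Opens, IsAffineOpen V → V ≤ W → V ≤ f.coborderRange →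
      ∃ (s : ℕ) (e : Fin s → Γ(X, V)),
        Ideal.span (Set.range e) = RingHom.ker (f.app V).hom ∧
        (k = RegImm.Kind.koszul → LCI.IsKoszulRegularSeq Γ(X, V) (List.ofFn e)) := by
  obtain ⟨⟨U₀, hU₀⟩, hyU₀, hclU₀, hs₀, hhs₀, hker₀⟩ := hf
  haveI := hclU₀
  refine ⟨U₀, hyU₀, ?_⟩
  intro V hV hVU₀ hVf
  obtain ⟨hker, hseq⟩ := restrict_chart RegImm.Kind.koszul (by decide) f U₀ hU₀ V hV hVU₀
  have h1 := hseq hs₀ hhs₀
  have h2 : RingHom.ker (f.app V).hom =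
      Ideal.ofList (hs₀.map (X.presheaf.map (homOfLE hVU₀).op).hom) := by
    rw [hker, hker₀, Ideal.map_ofList]
  generalize hs₀.map (X.presheaf.map (homOfLE hVU₀).op).hom = hs at h1 h2
  refine ⟨hs.length, hs.get, ?_, fun _ => ?_⟩
  · rw [h2, Set.range_list_get]
  · rw [List.ofFn_get]
    exact h1

include hφ₁ hφ₂ in
/-- version with a local section of `φ₂` -/
theorem regularAt_of_section [Mono φ₁] (k : RegImm.Kind) (hk : k ≠ RegImm.Kind.regular) (z : Y')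
    (hjf : RegImm.IsRegularImmersionAt k (j ≫ f) z)
    (U : Y'.Opens) (hzU : z ∈ U)
    (r : (Scheme.Modules.restrictFunctor U.ι).obj (Omega.conormal j) ⟶
      (Scheme.Modules.restrictFunctor U.ι).obj (Omega.conormal (j ≫ f)))
    (hr : r ≫ (Scheme.Modules.restrictFunctor U.ι).map
      ((Scheme.Modules.pullbackId Y').inv.app (Omega.conormal (j ≫ f)) ≫ φ₂) = 𝟙 _)
    (W₀ : X.Opens) (hzW₀ : f (j z) ∈ W₀)
    (hI : ∀ V : X.Opens, IsAffineOpen V → V ≤ W₀ → V ≤ f.coborderRange →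
      ∃ (s : ℕ) (e : Fin s → Γ(X, V)),
        Ideal.span (Set.range e) = RingHom.ker (f.app V).hom ∧
        (k = RegImm.Kind.koszul → LCI.IsKoszulRegularSeq Γ(X, V) (List.ofFn e))) :
    RegImm.IsRegularImmersionAt k j z := by
  obtain ⟨W₁, hW₁⟩ : ∃ W₁ : X.Opens, (j ≫ f) ⁻¹ᵁ W₁ = U := by
    obtain ⟨s, hs, hs'⟩ := (j ≫ f).isEmbedding.isInducing.isOpen_iff.1 U.2
    exact ⟨⟨s, hs⟩, Opens.ext hs'⟩
  have hzW₁ : f (j z) ∈ W₁ := by
    have : z ∈ (j ≫ f) ⁻¹ᵁ W₁ := by rw [hW₁]; exact hzU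
    exact this
  refine regularAt_of_star f j k hk z hjf (W₀ ⊓ W₁) ⟨hzW₀, hzW₁⟩ ?_ ?_
  · intro V hV hVW hVf hVjf hUj 𝔞 h𝔞
    have hT : j ⁻¹ᵁ (f ⁻¹ᵁ V) ≤ U := by
      rw [← hW₁]
      intro y hy
      exact (hVW hy).2
    obtain ⟨rT, hadd, hsmul, hsec, -⟩ := exists_app_of_restrict U r (j ⁻¹ᵁ (f ⁻¹ᵁ V)) hT
    exact star_of_section f j φ₁ hφ₁ φ₂ hφ₂ hV hVf hVjf hUj rT hadd hsmul (hsec _ hr)
      (injective_app_of_mono φ₁ _) 𝔞 h𝔞
  · intro V hV hVW hVf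
    exact hI V hV (hVW.trans inf_le_left) hVf

include hφ₁ in
/-- version with a local retraction of `φ₁` -/
theorem regularAt_of_retraction (k : RegImm.Kind) (hk : k ≠ RegImm.Kind.regular) (z : Y')
    (hjf : RegImm.IsRegularImmersionAt k (j ≫ f) z)
    (U : Y'.Opens) (hzU : z ∈ U)
    (ρ : (Scheme.Modules.restrictFunctor U.ι).obj (Omega.conormal (j ≫ f)) ⟶
      (Scheme.Modules.restrictFunctor U.ι).obj
        ((Scheme.Modules.pullback j).obj (Omega.conormal f)))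
    (hρ : (Scheme.Modules.restrictFunctor U.ι).map φ₁ ≫ ρ = 𝟙 _)
    (W₀ : X.Opens) (hzW₀ : f (j z) ∈ W₀)
    (hI : ∀ V : X.Opens, IsAffineOpen V → V ≤ W₀ → V ≤ f.coborderRange →
      ∃ (s : ℕ) (e : Fin s → Γ(X, V)),
        Ideal.span (Set.range e) = RingHom.ker (f.app V).hom ∧
        (k = RegImm.Kind.koszul → LCI.IsKoszulRegularSeq Γ(X, V) (List.ofFn e))) :
    RegImm.IsRegularImmersionAt k j z := by
  obtain ⟨W₁, hW₁⟩ : ∃ W₁ : X.Opens, (j ≫ f) ⁻¹ᵁ W₁ = U := by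
    obtain ⟨s, hs, hs'⟩ := (j ≫ f).isEmbedding.isInducing.isOpen_iff.1 U.2
    exact ⟨⟨s, hs⟩, Opens.ext hs'⟩
  have hzW₁ : f (j z) ∈ W₁ := by
    have : z ∈ (j ≫ f) ⁻¹ᵁ W₁ := by rw [hW₁]; exact hzU
    exact this
  refine regularAt_of_star f j k hk z hjf (W₀ ⊓ W₁) ⟨hzW₀, hzW₁⟩ ?_ ?_
  · intro V hV hVW hVf hVjf hUj 𝔞 h𝔞
    have hT : j ⁻¹ᵁ (f ⁻¹ᵁ V) ≤ U := by
      rw [← hW₁]
      intro y hy
      exact (hVW hy).2
    obtain ⟨ρT, hadd, hsmul, -, hret⟩ := exists_app_of_restrict U ρ (j ⁻¹ᵁ (f ⁻¹ᵁ V)) hT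
    exact star_of_retraction f j φ₁ hφ₁ hV hVf hVjf hUj ρT hadd hsmul (hret _ hρ) 𝔞 h𝔞
  · intro V hV hVW hVf
    exact hI V hV (hVW.trans inf_le_left) hVf

end Groth.Agent.Helper14.SplitReg
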