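import Mathlib
import Groth.Agent.Lib.Helper14.QRegSpread
import Groth.Agent.Lib.Helper28.RegImmIso
import Groth.Agent.Lib.Helper28.KindMono

/-!
# Pointwise comparison of the kinds of regular immersions, locally Noetherian case (helper14)
-/

set_option autoImplicit false
set_option linter.style.haveILetI false
set_option linter.unusedSectionVars false
set_option linter.unusedVariables false
set_option maxRecDepth 8000
universe u
open CategoryTheory CategoryTheory.Limits AlgebraicGeometry TopologicalSpace Opposite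

namespace Groth.Agent.Helper14.SplitReg

open Groth.Agent.Helper14.QRegSpread

theorem h1At_of_koszulAt {Z X : Scheme.{u}} (i : Z ⟶ X) (z : Z)
    (h : RegImm.IsRegularImmersionAt .koszul i z) : RegImm.IsRegularImmersionAt .h1 i z := by
  obtain ⟨U, hU, hcl, rs, hrs, hker⟩ := h
  exact ⟨U, hU, hcl, rs, Groth.Agent.Helper28.KindMono.h1_of_koszul rs hrs, hker⟩

theorem quasiAt_of_h1At {Z X : Scheme.{u}} (i : Z ⟶ X) (z : Z)
    (h : RegImm.IsRegularImmersionAt .h1 i z) : RegImm.IsRegularImmersionAt .quasi i z := by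
  obtain ⟨U, hU, hcl, rs, hrs, hker⟩ := h
  exact ⟨U, hU, hcl, rs, Groth.Agent.Helper28.KindMono.quasi_of_h1 rs hrs, hker⟩

theorem koszulAt_of_regularAt {Z X : Scheme.{u}} (i : Z ⟶ X) (z : Z)
    (h : RegImm.IsRegularImmersionAt .regular i z) : RegImm.IsRegularImmersionAt .koszul i z :=
  Groth.Agent.Helper28.RegImmIso.at_koszul_of_regular i z h

theorem h1At_of_regularAt {Z X : Scheme.{u}} (i : Z ⟶ X) (z : Z)
    (h : RegImm.IsRegularImmersionAt .regular i z) : RegImm.IsRegularImmersionAt .h1 i z :=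
  h1At_of_koszulAt i z (koszulAt_of_regularAt i z h)

theorem quasiAt_of_regularAt {Z X : Scheme.{u}} (i : Z ⟶ X) (z : Z)
    (h : RegImm.IsRegularImmersionAt .regular i z) : RegImm.IsRegularImmersionAt .quasi i z :=
  quasiAt_of_h1At i z (h1At_of_regularAt i z h)

/-- spreading out a sequence which is weakly regular in the local ring at `x` and vanishes at `x`
to a regular sequence near `x` -/
theorem exists_basicOpen_isRegular_of_loc {X : Scheme.{u}} [IsLocallyNoetherian X] (U : X.Opens)
    (hU : IsAffineOpen U) (x : X) (hx : x ∈ U) (rs : List Γ(X, U))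
    (h1 : RingTheory.Sequence.IsWeaklyRegular
      (Localization.AtPrime (hU.primeIdealOf ⟨x, hx⟩).asIdeal)
      (rs.map (algebraMap Γ(X, U) (Localization.AtPrime (hU.primeIdealOf ⟨x, hx⟩).asIdeal))))
    (hle : ∀ r ∈ rs, x ∉ X.basicOpen r) :
    ∃ g : Γ(X, U), x ∈ X.basicOpen g ∧
      RingTheory.Sequence.IsRegular Γ(X, X.basicOpen g)
        (rs.map (X.presheaf.map (homOfLE (X.basicOpen_le g)).op).hom) := by
  haveI : IsNoetherianRing Γ(X, U) := IsLocallyNoetherian.component_noetherian ⟨U, hU⟩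
  set p : Ideal Γ(X, U) := (hU.primeIdealOf ⟨x, hx⟩).asIdeal with hp
  obtain ⟨g, hg, hspread⟩ :=
    Groth.Agent.Helper3.RegSpread.spread_regular p (Localization.AtPrime p) rs h1
  have hxg : x ∈ X.basicOpen g := by
    by_contra h
    exact hg ((mem_primeIdealOf_iff U hU x hx g).mpr h)
  refine ⟨g, hxg, ?_⟩
  haveI : IsLocalization.Away (g * 1) Γ(X, X.basicOpen g) := by
    rw [mul_one]; exact hU.isLocalization_basicOpen g
  have hw := hspread 1 Γ(X, X.basicOpen g)
  refine ⟨hw, ?_⟩
  intro htop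
  have hxg' : x ∈ X.basicOpen g := hxg
  have hsub : Ideal.ofList (rs.map (algebraMap Γ(X, U) Γ(X, X.basicOpen g))) ≤
      Ideal.comap (X.presheaf.germ (X.basicOpen g) x hxg').hom
        (IsLocalRing.maximalIdeal (X.presheaf.stalk x)) := by
    rw [Ideal.ofList, Ideal.span_le]
    intro r' hr'
    simp only [List.mem_map, Set.mem_setOf_eq] at hr'
    obtain ⟨r, hr, rfl⟩ := hr'
    rw [SetLike.mem_coe, Ideal.mem_comap]
    have : (X.presheaf.germ (X.basicOpen g) x hxg').hom (algebraMap Γ(X, U) Γ(X, X.basicOpen g) r) =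
        (X.presheaf.germ U x hx).hom r :=
      X.presheaf.germ_res_apply (homOfLE (X.basicOpen_le g)) x hxg' r
    rw [this, IsLocalRing.mem_maximalIdeal, mem_nonunits_iff, ← Scheme.mem_basicOpen _ _ _ hx]
    exact hle r hr
  have h1mem : (1 : Γ(X, X.basicOpen g)) ∈
      Ideal.ofList (rs.map (algebraMap Γ(X, U) Γ(X, X.basicOpen g))) := by
    have : (1 : Γ(X, X.basicOpen g)) ∈ (⊤ : Submodule Γ(X, X.basicOpen g) Γ(X, X.basicOpen g)) :=
      Submodule.mem_top
    rw [htop, smul_eq_mul, Ideal.mul_top] at this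
    exact this
  have := hsub h1mem
  rw [Ideal.mem_comap, map_one] at this
  exact (IsLocalRing.maximalIdeal (X.presheaf.stalk x)).ne_top_iff_one.mp
    (IsLocalRing.maximalIdeal.isMaximal _).ne_top this

/-- the chart produced by spreading out -/
theorem regularAt_of_chart_loc {Y X : Scheme.{u}} [IsLocallyNoetherian X] (j : Y ⟶ X)
    [IsImmersion j] [QuasiCompact j] (z : Y) (U : X.Opens) (hU : IsAffineOpen U)
    (hzU : j z ∈ U) (hcl : IsClosedImmersion (j ∣_ U)) (rs : List Γ(X, U))
    (hker : RingHom.ker (j.app U).hom = Ideal.ofList rs)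
    (h1 : RingTheory.Sequence.IsWeaklyRegular
      (Localization.AtPrime (hU.primeIdealOf ⟨j z, hzU⟩).asIdeal)
      (rs.map (algebraMap Γ(X, U) (Localization.AtPrime (hU.primeIdealOf ⟨j z, hzU⟩).asIdeal)))) :
    RegImm.IsRegularImmersionAt .regular j z := by
  have hle : ∀ r ∈ rs, j z ∉ X.basicOpen r := by
    intro r hr hmem
    have hr0 : (j.app U).hom r = 0 := by
      have : r ∈ RingHom.ker (j.app U).hom := by
        rw [hker]; exact Ideal.subset_span hr
      exact this
    have h1 : z ∈ j ⁻¹ᵁ X.basicOpen r := hmem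
    rw [Scheme.preimage_basicOpen] at h1
    have h2 : (j.app U) r = 0 := hr0
    rw [h2, Scheme.basicOpen_zero] at h1
    exact h1
  obtain ⟨g, hxg, hreg⟩ := exists_basicOpen_isRegular_of_loc U hU (j z) hzU rs h1 hle
  refine ⟨X.affineBasicOpen (U := ⟨U, hU⟩) g, hxg, ?_,
    rs.map (X.presheaf.map (homOfLE (X.basicOpen_le g)).op).hom, hreg, ?_⟩
  · haveI := hcl
    have h3 : IsClosedImmersion (j ∣_ U ∣_
        U.toScheme.basicOpen (X.presheaf.map (eqToHom U.isOpenEmbedding_obj_top).op g)) :=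
      IsZariskiLocalAtTarget.restrict hcl _
    exact (MorphismProperty.arrow_mk_iso_iff @IsClosedImmersion
      (morphismRestrictRestrictBasicOpen j U g)).mp h3
  · have e1 := j.ker_apply (X.affineBasicOpen (U := ⟨U, hU⟩) g)
    have e2 := j.ker_apply ⟨U, hU⟩
    rw [← e1, ← j.ker.map_ideal_basicOpen ⟨U, hU⟩ g, e2, hker, Ideal.map_ofList]
    rfl

theorem regularAt_of_quasiAt {Y X : Scheme.{u}} [IsLocallyNoetherian X] (j : Y ⟶ X)
    [IsImmersion j] [QuasiCompact j] (z : Y)
    (h : RegImm.IsRegularImmersionAt .quasi j z) : RegImm.IsRegularImmersionAt .regular j z := by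
  obtain ⟨⟨U, hU⟩, hzU, hcl, rs, hrs, hker⟩ := h
  have hq : CAlgX.IsQuasiRegular rs.get := hrs
  haveI : IsNoetherianRing Γ(X, U) := IsLocallyNoetherian.component_noetherian ⟨U, hU⟩
  refine regularAt_of_chart_loc j z U hU hzU hcl rs hker ?_
  refine isWeaklyRegular_localization _ rs hq ?_
  intro r hr
  rw [mem_primeIdealOf_iff U hU (j z) hzU r]
  intro hmem
  have hr0 : (j.app U).hom r = 0 := by
    have : r ∈ RingHom.ker (j.app U).hom := by
      rw [hker]; exact Ideal.subset_span hr
    exact this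
  have h1 : z ∈ j ⁻¹ᵁ X.basicOpen r := hmem
  rw [Scheme.preimage_basicOpen] at h1
  have h2 : (j.app U) r = 0 := hr0
  rw [h2, Scheme.basicOpen_zero] at h1
  exact h1

end Groth.Agent.Helper14.SplitReg
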