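import Mathlib
import Groth.Agent.Lib.Helper14.SplitReg6
import Groth.Agent.Lib.Helper14.SplitReg8

/-!
# Regularity of the outer immersion from the local splitting condition, Noetherian case (helper14)
-/

set_option autoImplicit false
set_option linter.style.haveILetI false
set_option linter.unusedSectionVars false
set_option linter.unusedVariables false
set_option maxRecDepth 8000
universe u
open CategoryTheory CategoryTheory.Limits AlgebraicGeometry TopologicalSpace Opposite TensorProduct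

namespace Groth.Agent.Helper14.SplitReg

open Groth.Agent.Helper2.KosDescent Groth.Agent.Helper18.ConormalImm
open Groth.Agent.Helper2.KindDesc Groth.Agent.Helper21.KL Groth.Agent.Helper26.H1QR

theorem qr_append {A' : Type u} [CommRing A'] (hs : List A')
    (hhs : CAlgX.IsQuasiRegular hs.get) {n m : ℕ} (f : Fin n → A') (g : Fin m → A')
    (hnm : n + m = hs.length)
    (hJ : Ideal.ofList hs = Ideal.span (Set.range f) ⊔ Ideal.span (Set.range g)) :
    CAlgX.IsQuasiRegular (List.ofFn f ++ List.ofFn g).get := by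
  have hcast : CAlgX.IsQuasiRegular (fun i : Fin (n + m) => hs.get (Fin.cast hnm i)) :=
    (cast_iff (fun c f => CAlgX.IsQuasiRegular f) hs.get (n + m) hnm _ (fun i => rfl)).2 hhs
  have hF : CAlgX.IsQuasiRegular (Fin.append f g) := by
    refine Groth.Agent.Helper6.QRegGen.isQuasiRegular_of_span_eq _ _ hcast ?_
    rw [span_range_append, ← hJ, span_range_cast]
  have h4 := (ofFn_iff (fun c f => CAlgX.IsQuasiRegular f) (Fin.append f g)).2 hF
  rw [List.ofFn_fin_append] at h4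
  exact h4

variable {Y' Y X : Scheme.{u}} (f : Y ⟶ X) [IsImmersion f] [QuasiCompact f]
    (j : Y' ⟶ Y) [IsImmersion j] [QuasiCompact j]

set_option maxHeartbeats 1600000 in
theorem outer_regularAt_of_star [IsLocallyNoetherian X] (z : Y')
    (hjf : RegImm.IsRegularImmersionAt RegImm.Kind.quasi (j ≫ f) z)
    (W : X.Opens) (hzW : f (j z) ∈ W)
    (hstar : ∀ V : X.Opens, IsAffineOpen V → V ≤ W → V ≤ f.coborderRange →
      V ≤ (j ≫ f).coborderRange → f ⁻¹ᵁ V ≤ j.coborderRange →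
      ∀ 𝔞 : Ideal Γ(X, V), RingHom.ker ((j ≫ f).app V).hom ≤ 𝔞 →
        RingHom.ker (f.app V).hom ⊓ 𝔞 * RingHom.ker ((j ≫ f).app V).hom ≤
          𝔞 * RingHom.ker (f.app V).hom) :
    RegImm.IsRegularImmersionAt RegImm.Kind.regular f (j z) := by
  classical
  have hk : RegImm.Kind.quasi ≠ RegImm.Kind.regular := by decide
  obtain ⟨⟨U₀, hU₀⟩, hzU₀, hclU₀, hs₀, hhs₀, hker₀⟩ := hjf
  haveI := hclU₀
  obtain ⟨W₁, hW₁⟩ : ∃ W₁ : X.Opens, f ⁻¹ᵁ W₁ = j.coborderRange := by
    obtain ⟨s, hs, hs'⟩ := f.isEmbedding.isInducing.isOpen_iff.1 j.coborderRange.2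
    exact ⟨⟨s, hs⟩, Opens.ext hs'⟩
  have hx : f (j z) ∈ W ⊓ f.coborderRange ⊓ (j ≫ f).coborderRange ⊓ W₁ ⊓ U₀ := by
    refine ⟨⟨⟨⟨hzW, subset_coborder (Set.mem_range_self (j z))⟩, ?_⟩, ?_⟩, hzU₀⟩
    · exact subset_coborder (Set.mem_range_self (f := (j ≫ f)) z)
    · have : j z ∈ f ⁻¹ᵁ W₁ := by
        rw [hW₁]
        exact subset_coborder (Set.mem_range_self z)
      exact this
  obtain ⟨_, ⟨V, hV, rfl⟩, hxV, hVle⟩ :=
    X.isBasis_affineOpens.exists_subset_of_mem_open hx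
      (W ⊓ f.coborderRange ⊓ (j ≫ f).coborderRange ⊓ W₁ ⊓ U₀).2
  have hVW : V ≤ W := fun x hx => (hVle hx).1.1.1.1
  have hVf : V ≤ f.coborderRange := fun x hx => (hVle hx).1.1.1.2
  have hVjf : V ≤ (j ≫ f).coborderRange := fun x hx => (hVle hx).1.1.2
  have hUj : f ⁻¹ᵁ V ≤ j.coborderRange := by
    rw [← hW₁]
    intro y hy
    exact (hVle hy).1.2
  have hVU₀ : V ≤ U₀ := fun x hx => (hVle hx).2
  -- the chart of `j ≫ f` on `V`
  obtain ⟨hkerJ, hseqJ⟩ := restrict_chart RegImm.Kind.quasi hk (j ≫ f) U₀ hU₀ V hV hVU₀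
  have hhs := hseqJ hs₀ hhs₀
  have hJ : RingHom.ker ((j ≫ f).app V).hom =
      Ideal.ofList (hs₀.map (X.presheaf.map (homOfLE hVU₀).op).hom) := by
    rw [hkerJ, hker₀, Ideal.map_ofList]
  generalize hs₀.map (X.presheaf.map (homOfLE hVU₀).op).hom = hs at hhs hJ
  have hh : Ideal.span (Set.range hs.get) = RingHom.ker ((j ≫ f).app V).hom := by
    rw [hJ, Set.range_list_get]
  have hrelh : Rel hs.get ≤ RingHom.ker ((j ≫ f).app V).hom := by
    rw [hJ]
    exact rel_get_le RegImm.Kind.quasi hk hs hhs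
  -- the prime
  have hIJ : RingHom.ker (f.app V).hom ≤ RingHom.ker ((j ≫ f).app V).hom := by
    intro a ha
    change j.app (f ⁻¹ᵁ V) (f.app V a) = 0
    have ha' : f.app V a = 0 := ha
    rw [ha', map_zero]
  have hJp : RingHom.ker ((j ≫ f).app V).hom ≤ (hV.primeIdealOf ⟨f (j z), hxV⟩).asIdeal := by
    intro a ha
    by_contra hnot
    have h1 := Groth.Agent.Helper2.RegNbhd.mem_basicOpen_of_notMem hV (f (j z)) hxV a hnot
    have h2 : z ∈ (j ≫ f) ⁻¹ᵁ X.basicOpen a := h1
    rw [Scheme.preimage_basicOpen] at h2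
    have ha0 : (j ≫ f).app V a = 0 := ha
    rw [ha0, Scheme.basicOpen_zero] at h2
    exact h2
  haveI hpprime : (hV.primeIdealOf ⟨f (j z), hxV⟩).asIdeal.IsPrime :=
    (hV.primeIdealOf ⟨f (j z), hxV⟩).isPrime
  -- generators of `I`
  haveI : IsNoetherianRing Γ(X, V) := IsLocallyNoetherian.component_noetherian ⟨V, hV⟩
  have hfg : (RingHom.ker (f.app V).hom).FG := IsNoetherian.noetherian _
  obtain ⟨n, fA, hfI, ⟨dI, hdI, hfgen⟩, hfmin⟩ :=
    exists_minimal_global (hV.primeIdealOf ⟨f (j z), hxV⟩).asIdeal _ hfg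
  have hstarV := hstar V hV hVW hVf hVjf hUj _ hJp
  obtain ⟨m, gA, d, hnm, hd, hgJ, hdI', hdJ'⟩ := exists_adapted_final
    (hV.primeIdealOf ⟨f (j z), hxV⟩).asIdeal _ _ hs.get hh (hrelh.trans hJp) hIJ hstarV fA hfI dI
    hdI hfgen hfmin
  -- the smaller chart
  have hV' : IsAffineOpen (X.basicOpen d) := hV.basicOpen d
  have hV'V : X.basicOpen d ≤ V := X.basicOpen_le d
  have hxV' : f (j z) ∈ X.basicOpen d :=
    Groth.Agent.Helper2.RegNbhd.mem_basicOpen_of_notMem hV (f (j z)) hxV d hd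
  have hV'f : X.basicOpen d ≤ f.coborderRange := hV'V.trans hVf
  have hu : IsUnit ((X.presheaf.map (homOfLE hV'V).op).hom d) :=
    RingedSpace.isUnit_res_basicOpen X.toRingedSpace d
  haveI : IsClosedImmersion (f ∣_ V) :=
    Groth.Agent.Helper28.RegImmReg.isClosedImmersion_restrict_of_le f V hVf
  haveI : IsClosedImmersion ((j ≫ f) ∣_ V) :=
    Groth.Agent.Helper28.RegImmReg.isClosedImmersion_restrict_of_le (j ≫ f) V hVjf
  obtain ⟨hkerI', hseqI'⟩ := restrict_chart RegImm.Kind.quasi hk f V hV (X.basicOpen d) hV' hV'V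
  obtain ⟨hkerJ', hseqJ'⟩ := restrict_chart RegImm.Kind.quasi hk (j ≫ f) V hV (X.basicOpen d) hV'
    hV'V
  have hhs' := hseqJ' hs hhs
  have hI'span : RingHom.ker (f.app (X.basicOpen d)).hom =
      Ideal.span (Set.range (fun i => (X.presheaf.map (homOfLE hV'V).op).hom (fA i))) := by
    rw [hkerI', map_eq_of_mul_mem _ _ (Ideal.span (Set.range fA))
      (by rw [Ideal.span_le]; rintro _ ⟨i, rfl⟩; exact hfI i) d hdI' hu,
      Ideal.map_span, ← Set.range_comp]
    rfl
  have hJ'span : Ideal.ofList (hs.map (X.presheaf.map (homOfLE hV'V).op).hom) =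
      Ideal.span (Set.range (fun i => (X.presheaf.map (homOfLE hV'V).op).hom (fA i))) ⊔
      Ideal.span (Set.range (fun i => (X.presheaf.map (homOfLE hV'V).op).hom (gA i))) := by
    rw [← Ideal.map_ofList, ← hJ, map_eq_of_mul_mem _ _
      (Ideal.span (Set.range fA) ⊔ Ideal.span (Set.range gA))
      (by
        apply sup_le
        · rw [Ideal.span_le]; rintro _ ⟨i, rfl⟩; exact hIJ (hfI i)
        · rw [Ideal.span_le]; rintro _ ⟨i, rfl⟩; exact hgJ i) d hdJ' hu,
      Ideal.map_sup, Ideal.map_span, Ideal.map_span, ← Set.range_comp, ← Set.range_comp]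
    rfl
  -- the adapted sequence is quasi-regular on the small chart
  have hhs'q : CAlgX.IsQuasiRegular (hs.map (X.presheaf.map (homOfLE hV'V).op).hom).get := hhs'
  have hL := qr_append (hs.map (X.presheaf.map (homOfLE hV'V).op).hom) hhs'q
    (fun i => (X.presheaf.map (homOfLE hV'V).op).hom (fA i))
    (fun i => (X.presheaf.map (homOfLE hV'V).op).hom (gA i))
    (by rw [List.length_map]; exact hnm) hJ'span
  -- all its members vanish at the point
  have hJ'ker : RingHom.ker ((j ≫ f).app (X.basicOpen d)).hom =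
      Ideal.ofList (hs.map (X.presheaf.map (homOfLE hV'V).op).hom) := by
    rw [hkerJ', hJ, Ideal.map_ofList]
  have hJp' : RingHom.ker ((j ≫ f).app (X.basicOpen d)).hom ≤
      (hV'.primeIdealOf ⟨f (j z), hxV'⟩).asIdeal := by
    intro a ha
    by_contra hnot
    have h1 := Groth.Agent.Helper2.RegNbhd.mem_basicOpen_of_notMem hV' (f (j z)) hxV' a hnot
    have h2 : z ∈ (j ≫ f) ⁻¹ᵁ X.basicOpen a := h1
    rw [Scheme.preimage_basicOpen] at h2
    have ha0 : (j ≫ f).app (X.basicOpen d) a = 0 := ha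
    rw [ha0, Scheme.basicOpen_zero] at h2
    exact h2
  haveI : (hV'.primeIdealOf ⟨f (j z), hxV'⟩).asIdeal.IsPrime :=
    (hV'.primeIdealOf ⟨f (j z), hxV'⟩).isPrime
  haveI : IsNoetherianRing Γ(X, X.basicOpen d) :=
    IsLocallyNoetherian.component_noetherian ⟨X.basicOpen d, hV'⟩
  have hle : ∀ r ∈ List.ofFn (fun i => (X.presheaf.map (homOfLE hV'V).op).hom (fA i)) ++
      List.ofFn (fun i => (X.presheaf.map (homOfLE hV'V).op).hom (gA i)),
      r ∈ (hV'.primeIdealOf ⟨f (j z), hxV'⟩).asIdeal := by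
    intro r hr
    apply hJp'
    rw [hJ'ker, hJ'span]
    rw [List.mem_append, List.mem_ofFn, List.mem_ofFn] at hr
    rcases hr with ⟨i, rfl⟩ | ⟨i, rfl⟩
    · exact Ideal.mem_sup_left (Ideal.subset_span ⟨i, rfl⟩)
    · exact Ideal.mem_sup_right (Ideal.subset_span ⟨i, rfl⟩)
  have hw := Groth.Agent.Helper14.QRegSpread.isWeaklyRegular_localization
    (hV'.primeIdealOf ⟨f (j z), hxV'⟩).asIdeal _ hL hle
  rw [List.map_append, RingTheory.Sequence.isWeaklyRegular_append_iff] at hw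
  refine regularAt_of_chart_loc f (j z) (X.basicOpen d) hV' hxV'
    (Groth.Agent.Helper28.RegImmReg.isClosedImmersion_restrict_of_le f _ hV'f)
    (List.ofFn (fun i => (X.presheaf.map (homOfLE hV'V).op).hom (fA i))) ?_ hw.1
  rw [hI'span, ofList_ofFn]

end Groth.Agent.Helper14.SplitReg
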