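import Mathlib
import Groth.Agent.Lib.Helper14.SplitReg7
import Groth.Agent.Lib.Helper14.SplitReg9

/-!
# Both immersions are regular when the conormal sequence splits locally, Noetherian case (helper14)
-/

set_option autoImplicit false
set_option linter.style.haveILetI false
set_option linter.unusedSectionVars false
set_option linter.unusedVariables false
set_option maxRecDepth 8000
universe u
open CategoryTheory CategoryTheory.Limits AlgebraicGeometry TopologicalSpace Opposite TensorProduct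

namespace Groth.Agent.Helper14.SplitReg

open Groth.Agent.Helper2.KosDescent Groth.Agent.Helper18.ConormalImm Groth.Agent.Helper18.NrmSeq

variable {Y' Y X : Scheme.{u}} (f : Y ⟶ X) [IsImmersion f] [QuasiCompact f]
    (j : Y' ⟶ Y) [IsImmersion j] [QuasiCompact j]
    (φ₁ : (Scheme.Modules.pullback j).obj (Omega.conormal f) ⟶ Omega.conormal (j ≫ f))
    (hφ₁ : OmegaSh.IsConormalMap (j ≫ f) f (𝟙 X) j φ₁)

include hφ₁ in
theorem both_regularAt_of_retraction [IsLocallyNoetherian X] (z : Y')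
    (hjf : RegImm.IsRegularImmersionAt RegImm.Kind.regular (j ≫ f) z)
    (U : Y'.Opens) (hzU : z ∈ U)
    (ρ : (Scheme.Modules.restrictFunctor U.ι).obj (Omega.conormal (j ≫ f)) ⟶
      (Scheme.Modules.restrictFunctor U.ι).obj
        ((Scheme.Modules.pullback j).obj (Omega.conormal f)))
    (hρ : (Scheme.Modules.restrictFunctor U.ι).map φ₁ ≫ ρ = 𝟙 _) :
    RegImm.IsRegularImmersionAt RegImm.Kind.regular j z ∧
      RegImm.IsRegularImmersionAt RegImm.Kind.regular f (j z) := by
  have hq := quasiAt_of_regularAt (j ≫ f) z hjf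
  haveI : IsLocallyNoetherian Y := LocallyOfFiniteType.isLocallyNoetherian f
  constructor
  · apply regularAt_of_quasiAt j z
    refine regularAt_of_retraction f j φ₁ hφ₁ RegImm.Kind.quasi (by decide) z hq U hzU ρ hρ ⊤
      trivial ?_
    intro V hV _ hVf
    haveI : IsNoetherianRing Γ(X, V) := IsLocallyNoetherian.component_noetherian ⟨V, hV⟩
    have hfg : (RingHom.ker (f.app V).hom).FG := IsNoetherian.noetherian _
    obtain ⟨s, e, he⟩ := Submodule.fg_iff_exists_fin_generating_family.1 hfg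
    exact ⟨s, e, he, fun h => absurd h (by decide)⟩
  · obtain ⟨W₁, hW₁⟩ : ∃ W₁ : X.Opens, (j ≫ f) ⁻¹ᵁ W₁ = U := by
      obtain ⟨s, hs, hs'⟩ := (j ≫ f).isEmbedding.isInducing.isOpen_iff.1 U.2
      exact ⟨⟨s, hs⟩, Opens.ext hs'⟩
    have hzW₁ : f (j z) ∈ W₁ := by
      have : z ∈ (j ≫ f) ⁻¹ᵁ W₁ := by rw [hW₁]; exact hzU
      exact this
    refine outer_regularAt_of_star f j z hq W₁ hzW₁ ?_
    intro V hV hVW hVf hVjf hUj 𝔞 h𝔞
    have hT : j ⁻¹ᵁ (f ⁻¹ᵁ V) ≤ U := by
      rw [← hW₁]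
      intro y hy
      exact hVW hy
    obtain ⟨ρT, hadd, hsmul, -, hret⟩ := exists_app_of_restrict U ρ (j ⁻¹ᵁ (f ⁻¹ᵁ V)) hT
    exact star_of_retraction f j φ₁ hφ₁ hV hVf hVjf hUj ρT hadd hsmul (hret _ hρ) 𝔞 h𝔞

end Groth.Agent.Helper14.SplitReg
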