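import Mathlib
import Groth.Agent.Lib.Helper14.CnH1E
import Groth.Agent.Lib.Helper14.SplitReg5
import Groth.Agent.Lib.Helper13.GenLocus
import Groth.Agent.Lib.Helper18.QCBasic2

/-!
# Local splitting of the conormal sequence when the inner immersion is `H_1`-regular (helper14)
-/

set_option autoImplicit false
set_option linter.style.haveILetI false
set_option linter.unusedSectionVars false
set_option linter.unusedVariables false
set_option maxRecDepth 8000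
universe u
open CategoryTheory CategoryTheory.Limits AlgebraicGeometry TopologicalSpace Opposite TensorProduct

namespace Groth.Agent.Helper14.SplitReg

open OmegaSh Groth.Agent.Helper18.DerLib Groth.Agent.Helper18.OmegaSec
  Groth.Agent.Helper18.Rec Groth.Agent.Helper18.ConormalImm
  Groth.Agent.Helper13.EffCartier Groth.Agent.Helper13.Pullback Groth.Agent.Helper18.CnSeq
  Groth.Agent.Helper18.NrmSeq Groth.Agent.Helper14.CnH1 Groth.Agent.Helper13.LocFree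

section Free

/-- an epimorphism onto a free module which is surjective on global sections has a section -/
theorem exists_section_of_iso_freeMod {T : Scheme.{u}} {F₂ F₃ : T.Modules} (β : F₂ ⟶ F₃) {n : ℕ}
    (e : F₃ ≅ FlatMod.freeMod T n) (hβ : Function.Surjective (β.app ⊤)) :
    ∃ s : F₃ ⟶ F₂, s ≫ β = 𝟙 F₃ := by
  choose p hp using fun k : Fin n => hβ (e.inv.app ⊤ ((ι n k).app ⊤ (toO ⊤ 1)))
  have key : descSec F₂ p ≫ β = e.inv := by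
    apply Groth.Agent.Helper13.LocFree.hom_ext
    intro k
    rw [← Category.assoc, ι_descSec]
    rw [← Groth.Agent.Helper13.GenLoc.homOfSec_sec F₃ (homOfSec F₂ (p k) ≫ β),
      ← Groth.Agent.Helper13.GenLoc.homOfSec_sec F₃ (ι n k ≫ e.inv)]
    congr 1
    change β.app ⊤ ((homOfSec F₂ (p k)).app ⊤ (toO ⊤ 1)) = e.inv.app ⊤ ((ι n k).app ⊤ (toO ⊤ 1))
    rw [homOfSec_app_one, ← hp k]
    congr 1
    exact congr($(F₂.presheaf.map_id _) (p k))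
  refine ⟨e.hom ≫ descSec F₂ p, ?_⟩
  rw [Category.assoc, key, Iso.hom_inv_id]

end Free

variable {Y' Y X : Scheme.{u}} (f : Y ⟶ X) [IsImmersion f] [QuasiCompact f]
    (j : Y' ⟶ Y) [IsImmersion j] [QuasiCompact j]
    (φ₁ : (Scheme.Modules.pullback j).obj (Omega.conormal f) ⟶ Omega.conormal (j ≫ f))
    (hφ₁ : OmegaSh.IsConormalMap (j ≫ f) f (𝟙 X) j φ₁)
    (φ₂ : (Scheme.Modules.pullback (𝟙 Y')).obj (Omega.conormal (j ≫ f)) ⟶ Omega.conormal j)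
    (hφ₂ : OmegaSh.IsConormalMap j (j ≫ f) f (𝟙 Y') φ₂)

omit [QuasiCompact f] [QuasiCompact j] in
set_option maxHeartbeats 1600000 in
theorem exists_chart_h1_at (y' : Y') (hj : RegImm.IsRegularImmersionAt .h1 j y') :
    ∃ V : X.Opens, IsAffineOpen V ∧ V ≤ f.coborderRange ∧ V ≤ (j ≫ f).coborderRange ∧
      f ⁻¹ᵁ V ≤ j.coborderRange ∧ y' ∈ j ⁻¹ᵁ (f ⁻¹ᵁ V) ∧
      (RingHom.ker (f.app V).hom ⊓ (RingHom.ker ((j ≫ f).app V).hom) ^ 2 ≤
        RingHom.ker ((j ≫ f).app V).hom * RingHom.ker (f.app V).hom) ∧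
      ∃ rs : List Γ(Y, f ⁻¹ᵁ V), CAlgX.IsH1Regular rs.get ∧
        RingHom.ker (j.app (f ⁻¹ᵁ V)).hom = Ideal.ofList rs := by
  obtain ⟨⟨U, hUaff⟩, hzU, hclU, rs, hrs, hker⟩ := hj
  have hrs1 : CAlgX.IsH1Regular rs.get := hrs
  obtain ⟨W₁, hW₁⟩ : ∃ W : X.Opens, f ⁻¹ᵁ W = j.coborderRange := by
    obtain ⟨s, hs, hs'⟩ := f.isEmbedding.isInducing.isOpen_iff.1 j.coborderRange.2
    exact ⟨⟨s, hs⟩, Opens.ext hs'⟩
  obtain ⟨W₂, hW₂⟩ : ∃ W : X.Opens, f ⁻¹ᵁ W = U := by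
    obtain ⟨s, hs, hs'⟩ := f.isEmbedding.isInducing.isOpen_iff.1 U.2
    exact ⟨⟨s, hs⟩, Opens.ext hs'⟩
  have hx : f (j y') ∈ f.coborderRange ⊓ (j ≫ f).coborderRange ⊓ W₁ ⊓ W₂ := by
    refine ⟨⟨⟨subset_coborder (Set.mem_range_self (j y')), ?_⟩, ?_⟩, ?_⟩
    · exact subset_coborder (Set.mem_range_self (f := (j ≫ f)) y')
    · have : j y' ∈ f ⁻¹ᵁ W₁ := by
        rw [hW₁]
        exact subset_coborder (Set.mem_range_self y')
      exact this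
    · have : j y' ∈ f ⁻¹ᵁ W₂ := by
        rw [hW₂]
        exact hzU
      exact this
  obtain ⟨_, ⟨V, hV, rfl⟩, hxV, hVle⟩ :=
    X.isBasis_affineOpens.exists_subset_of_mem_open hx
      (f.coborderRange ⊓ (j ≫ f).coborderRange ⊓ W₁ ⊓ W₂).2
  have hVf : V ≤ f.coborderRange := fun x hx => (hVle hx).1.1.1
  have hVjf : V ≤ (j ≫ f).coborderRange := fun x hx => (hVle hx).1.1.2
  have hUj : f ⁻¹ᵁ V ≤ j.coborderRange := by
    rw [← hW₁]
    intro y hy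
    exact (hVle hy).1.2
  have hle : f ⁻¹ᵁ V ≤ U := by
    rw [← hW₂]
    intro y hy
    exact (hVle hy).2
  have hU' : IsAffineOpen (f ⁻¹ᵁ V) := isAffineOpen_preimage f hV hVf
  haveI := hclU
  obtain ⟨-, hker'⟩ := Groth.Agent.Helper14.RegImmLim.ker_base_change j (𝟙 Y) j (𝟙 Y')
    (IsPullback.of_horiz_isIso ⟨by simp⟩) U hUaff (f ⁻¹ᵁ V) hU' hle
  letI alg : Algebra Γ(Y, U) Γ(Y, f ⁻¹ᵁ V) := ((𝟙 Y : Y ⟶ Y).appLE U (f ⁻¹ᵁ V) hle).hom.toAlgebra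
  haveI : Module.Flat Γ(Y, U) Γ(Y, f ⁻¹ᵁ V) := (𝟙 Y : Y ⟶ Y).flat_appLE hUaff hU' hle
  have hrs' : CAlgX.IsH1Regular (rs.map (algebraMap Γ(Y, U) Γ(Y, f ⁻¹ᵁ V))).get :=
    Groth.Agent.Helper28.RegBC.transport_get (algebraMap Γ(Y, U) Γ(Y, f ⁻¹ᵁ V)) rs
      (fun c f => CAlgX.IsH1Regular f) (Groth.Agent.Helper28.RegBC.h1_of_flat _ hrs1)
  have hk : RingHom.ker (j.app (f ⁻¹ᵁ V)).hom =
      Ideal.ofList (rs.map (algebraMap Γ(Y, U) Γ(Y, f ⁻¹ᵁ V))) := by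
    rw [hker', hker, Ideal.map_ofList]
    rfl
  have hπ : Function.Surjective (f.app V).hom := app_surjective f hV hVf
  have key := inf_sq_le_mul (f.app V).hom hπ
    (rs.map (algebraMap Γ(Y, U) Γ(Y, f ⁻¹ᵁ V))).get hrs'
  have hcomap : (Ideal.span (Set.range (rs.map (algebraMap Γ(Y, U) Γ(Y, f ⁻¹ᵁ V))).get)).comap
      (f.app V).hom = RingHom.ker ((j ≫ f).app V).hom := by
    rw [range_get_eq, ← hk]
    ext a
    rw [Ideal.mem_comap, RingHom.mem_ker, RingHom.mem_ker]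
    rfl
  rw [hcomap] at key
  exact ⟨V, hV, hVf, hVjf, hUj, hxV, key, _, hrs', hk⟩

include hφ₁ hφ₂ in
set_option maxHeartbeats 1600000 in
/-- **Local splitting of the conormal sequence** near a point where `j` is `H_1`-regular. -/
theorem exists_splitting_of_h1At (z : Y') (hj : RegImm.IsRegularImmersionAt .h1 j z) :
    ∃ U : Y'.Opens, z ∈ U ∧
      ∀ w : (Scheme.Modules.restrictFunctor U.ι).map φ₁ ≫
          (Scheme.Modules.restrictFunctor U.ι).map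
            ((Scheme.Modules.pullbackId Y').inv.app (Omega.conormal (j ≫ f)) ≫ φ₂) = 0,
        Nonempty (ShortComplex.mk ((Scheme.Modules.restrictFunctor U.ι).map φ₁)
          ((Scheme.Modules.restrictFunctor U.ι).map
            ((Scheme.Modules.pullbackId Y').inv.app (Omega.conormal (j ≫ f)) ≫ φ₂)) w).Splitting := by
  classical
  obtain ⟨V, hV, hVf, hVjf, hUj, hz, hH, rs, hrs, hker⟩ := exists_chart_h1_at f j z hj
  have hU' : IsAffineOpen (f ⁻¹ᵁ V) := isAffineOpen_preimage f hV hVf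
  have hT : IsAffineOpen (j ⁻¹ᵁ (f ⁻¹ᵁ V)) := isAffineOpen_preimage j hU' hUj
  refine ⟨j ⁻¹ᵁ (f ⁻¹ᵁ V), hz, fun w => ?_⟩
  haveI : IsAffine (j ⁻¹ᵁ (f ⁻¹ᵁ V) : Scheme.{u}) := hT
  haveI q1 : ((Scheme.Modules.pullback j).obj (Omega.conormal f)).IsQuasicoherent :=
    isQuasicoherent_pullback j (Omega.conormal f)
  haveI q2 : (Omega.conormal (j ≫ f)).IsQuasicoherent := CnH1.isQuasicoherent_conormal (j ≫ f)
  haveI q3 : (Omega.conormal j).IsQuasicoherent := CnH1.isQuasicoherent_conormal j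
  -- the free basis
  have hker' : RingHom.ker (j.app (f ⁻¹ᵁ V)).hom = Ideal.span (Set.range rs.get) := by
    rw [range_get_eq]
    exact hker
  obtain ⟨hfin, hfree⟩ := free_conormal_chart j hU' hUj rs.get hrs hker'
  haveI : Nontrivial Γ(Y', j ⁻¹ᵁ (f ⁻¹ᵁ V)) := by
    refine ⟨⟨0, 1, fun h01 => ?_⟩⟩
    have h1 : Y'.basicOpen (1 : Γ(Y', j ⁻¹ᵁ (f ⁻¹ᵁ V))) = j ⁻¹ᵁ (f ⁻¹ᵁ V) :=
      Scheme.basicOpen_of_isUnit _ isUnit_one
    rw [← h01, Scheme.basicOpen_zero] at h1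
    have h2 : z ∈ (⊥ : Y'.Opens) := by
      rw [h1]
      exact hz
    exact h2
  obtain ⟨⟨ι₀, b₀⟩⟩ := Module.Free.exists_basis (R := Γ(Y', j ⁻¹ᵁ (f ⁻¹ᵁ V)))
    (M := Γ(Omega.conormal j, j ⁻¹ᵁ (f ⁻¹ᵁ V)))
  haveI : Finite ι₀ := Module.Finite.finite_basis b₀
  obtain ⟨e⟩ := restrict_iso_freeMod_of_basis (Omega.conormal j) hT
    (b₀.reindex (Finite.equivFin ι₀))
  -- transport along `ι ''ᵁ ⊤ = T`
  have eT : (j ⁻¹ᵁ (f ⁻¹ᵁ V)).ι ''ᵁ ⊤ = j ⁻¹ᵁ (f ⁻¹ᵁ V) := Scheme.Opens.ι_image_top _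
  have hexact : ∀ W : Y'.Opens, W = j ⁻¹ᵁ (f ⁻¹ᵁ V) →
      ∀ m : Γ(Omega.conormal (j ≫ f), W), (φ₂' f j φ₂).app W m = 0 →
        ∃ n : Γ((Scheme.Modules.pullback j).obj (Omega.conormal f), W), φ₁.app W n = m := by
    rintro W rfl m hm
    exact exact_app_chart f j φ₁ hφ₁ φ₂ hφ₂ hV hVf hVjf hUj m hm
  have hinj : ∀ W : Y'.Opens, W = j ⁻¹ᵁ (f ⁻¹ᵁ V) → Function.Injective (φ₁.app W) := by
    rintro W rfl
    exact injective_phi1_app f j φ₁ hφ₁ hV hVf hVjf hUj hH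
  have hsurj : ∀ W : Y'.Opens, W = j ⁻¹ᵁ (f ⁻¹ᵁ V) →
      Function.Surjective ((φ₂' f j φ₂).app W) := by
    rintro W rfl
    exact surjective_phi2_app f j φ₂ hφ₂ hV hVf hUj
  -- the complex
  set S := ShortComplex.mk ((Scheme.Modules.restrictFunctor (j ⁻¹ᵁ (f ⁻¹ᵁ V)).ι).map φ₁)
    ((Scheme.Modules.restrictFunctor (j ⁻¹ᵁ (f ⁻¹ᵁ V)).ι).map
      ((Scheme.Modules.pullbackId Y').inv.app (Omega.conormal (j ≫ f)) ≫ φ₂)) w with hS
  haveI s1 : S.X₁.IsQuasicoherent :=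
    inferInstanceAs ((Scheme.Modules.restrictFunctor (j ⁻¹ᵁ (f ⁻¹ᵁ V)).ι).obj
      ((Scheme.Modules.pullback j).obj (Omega.conormal f))).IsQuasicoherent
  haveI s2 : S.X₂.IsQuasicoherent :=
    inferInstanceAs ((Scheme.Modules.restrictFunctor (j ⁻¹ᵁ (f ⁻¹ᵁ V)).ι).obj
      (Omega.conormal (j ≫ f))).IsQuasicoherent
  haveI s3 : S.X₃.IsQuasicoherent :=
    inferInstanceAs ((Scheme.Modules.restrictFunctor (j ⁻¹ᵁ (f ⁻¹ᵁ V)).ι).obj
      (Omega.conormal j)).IsQuasicoherent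
  have hA : ∀ U ∈ ({⊤} : Set (j ⁻¹ᵁ (f ⁻¹ᵁ V) : Scheme.{u}).Opens), IsAffineOpen U := by
    rintro U rfl
    exact isAffineOpen_top _
  have hcov : ∀ x : (j ⁻¹ᵁ (f ⁻¹ᵁ V) : Scheme.{u}),
      ∃ U ∈ ({⊤} : Set (j ⁻¹ᵁ (f ⁻¹ᵁ V) : Scheme.{u}).Opens), x ∈ U :=
    fun x => ⟨⊤, rfl, trivial⟩
  have hex : S.Exact := by
    apply Groth.Agent.Helper18.QCBasic.exact_of_cover S {⊤} hA hcov
    rintro U rfl m hm
    exact hexact _ eT m hm
  haveI hmono : Mono S.f := by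
    apply Groth.Agent.Helper18.QCBasic.mono_of_cover S.f {⊤} hA hcov
    rintro U rfl
    exact hinj _ eT
  obtain ⟨s, hs⟩ := exists_section_of_iso_freeMod S.g e (hsurj _ eT)
  exact ⟨ShortComplex.Splitting.ofExactOfSection S hex s hs hmono⟩

end Groth.Agent.Helper14.SplitReg
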