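import Mathlib
import Groth.Agent.Lib.Helper16.Sch.UnramLocus

/-!
# Unramifiedness of a stalk map in terms of the maximal ideals and residue fields
-/

set_option autoImplicit false
universe u
open CategoryTheory AlgebraicGeometry

namespace Groth.Agent.Helper14.StalkUnram

variable {X Y : Scheme.{u}}

/-- The stalk map of a morphism locally of finite type is formally unramified iff the maximal
ideal of the target generates that of the source and the residue field extension is finite
separable. -/
theorem formallyUnramified_stalkMap_iff (f : X ⟶ Y) [LocallyOfFiniteType f] (x : X) :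
    (f.stalkMap x).hom.FormallyUnramified ↔
      ((IsLocalRing.maximalIdeal (Y.presheaf.stalk (f.base x))).map (f.stalkMap x).hom =
          IsLocalRing.maximalIdeal (X.presheaf.stalk x) ∧
        letI := (f.residueFieldMap x).hom.toAlgebra
        Module.Finite (Y.residueField (f.base x)) (X.residueField x) ∧
          Algebra.IsSeparable (Y.residueField (f.base x)) (X.residueField x)) := by
  algebraize [(f.stalkMap x).hom]
  have : IsLocalHom (algebraMap (Y.presheaf.stalk (f x)) (X.presheaf.stalk x)) :=
    inferInstanceAs <| IsLocalHom (f.stalkMap x).hom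
  have hess : Algebra.EssFiniteType (Y.presheaf.stalk (f x)) (X.presheaf.stalk x) := by
    rw [← RingHom.essFiniteType_algebraMap, RingHom.algebraMap_toAlgebra]
    exact LocallyOfFiniteType.stalkMap f x
  have halg : (f.residueFieldMap x).hom.toAlgebra =
      (inferInstance : Algebra (IsLocalRing.ResidueField <| Y.presheaf.stalk (f x))
        (IsLocalRing.ResidueField <| X.presheaf.stalk x)) := by
    refine Algebra.algebra_ext _ _ fun r ↦ ?_
    obtain ⟨r, rfl⟩ := IsLocalRing.residue_surjective r
    rfl
  have h1 : (f.stalkMap x).hom.FormallyUnramified ↔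
      Algebra.FormallyUnramified (Y.presheaf.stalk (f x)) (X.presheaf.stalk x) := by
    rw [← RingHom.formallyUnramified_algebraMap, RingHom.algebraMap_toAlgebra]
  rw [h1, Algebra.FormallyUnramified.iff_map_maximalIdeal_eq]
  constructor
  · rintro ⟨hsep, hmap⟩
    haveI : Algebra.FormallyUnramified (Y.presheaf.stalk (f x)) (X.presheaf.stalk x) :=
      Algebra.FormallyUnramified.of_map_maximalIdeal hmap
    refine ⟨hmap, ?_⟩
    rw [halg]
    exact ⟨(inferInstance : Module.Finite (IsLocalRing.ResidueField (Y.presheaf.stalk (f x)))
      (IsLocalRing.ResidueField (X.presheaf.stalk x))), hsep⟩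
  · rintro ⟨hmap, h2⟩
    rw [halg] at h2
    exact ⟨h2.2, hmap⟩

end Groth.Agent.Helper14.StalkUnram
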