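import Mathlib

/-!
# Dimension and surjectivity on spectra for local homomorphisms of Noetherian local rings
-/

namespace Groth.Agent.Helper14.SurjSpecDim
universe u
open IsLocalRing Pointwise

lemma withBot_cancel (x : WithBot ℕ∞) (e : ℕ) (h : x + 1 ≤ ((e + 1 : ℕ) : WithBot ℕ∞)) :
    x ≤ (e : WithBot ℕ∞) := by
  induction x using WithBot.recBotCoe with
  | bot => exact bot_le
  | coe x =>
    induction x using ENat.recTopCoe with
    | top =>
      exfalso
      have h1 : ((⊤ : ℕ∞) : WithBot ℕ∞) + 1 = ((⊤ : ℕ∞) : WithBot ℕ∞) := by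
        rw [show (1 : WithBot ℕ∞) = ((1 : ℕ∞) : WithBot ℕ∞) from rfl, ← WithBot.coe_add, top_add]
      rw [h1] at h
      have h2 : (⊤ : ℕ∞) ≤ ((e + 1 : ℕ) : ℕ∞) := by exact_mod_cast h
      exact absurd h2 (by simp)
    | coe n =>
      have h1 : n + 1 ≤ e + 1 := by exact_mod_cast h
      have : n ≤ e := by omega
      exact_mod_cast this

section quot
variable {R : Type u} [CommRing R] [IsNoetherianRing R]

lemma dim_le_quot_add_one [IsLocalRing R] (a : R) (ha : a ∈ maximalIdeal R) :
    ringKrullDim R ≤ ringKrullDim (R ⧸ Ideal.span {a}) + 1 := by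
  rw [← IsLocalRing.maximalIdeal_height_eq_ringKrullDim]
  exact Ideal.height_le_ringKrullDim_quotient_add_one ha

lemma quot_add_one_le (a : R) (ha : ∀ p ∈ minimalPrimes R, a ∉ p) :
    ringKrullDim (R ⧸ Ideal.span {a}) + 1 ≤ ringKrullDim R := by
  have h : Ideal.span {a} = a • (⊤ : Ideal R) := by simp [← Submodule.ideal_span_singleton_smul]
  rw [ringKrullDim_eq_of_ringEquiv (Ideal.quotientEquivAlgOfEq R h).toRingEquiv]
  rw [← Module.supportDim_quotient_eq_ringKrullDim, ← Module.supportDim_self_eq_ringKrullDim (R := R)]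
  apply Module.supportDim_quotSMulTop_succ_le_of_notMem_minimalPrimes
  intro p hp
  apply ha p
  have : Module.annihilator R R = ⊥ :=
    Module.annihilator_eq_bot.mpr ((faithfulSMul_iff_algebraMap_injective R R).mpr fun {a₁ a₂} a ↦ a)
  rw [this] at hp
  exact hp

end quot

/-- points of the spectrum of a ring of dimension `≤ 0`. -/
lemma eq_closedPoint_of_dim_le_zero {B : Type u} [CommRing B] [IsLocalRing B]
    (hB : ringKrullDim B ≤ 0) (q : PrimeSpectrum B) : q = closedPoint B := by
  haveI : Ring.KrullDimLE 0 B := Ring.krullDimLE_iff.mpr (by exact_mod_cast hB)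
  have hmax : q.asIdeal.IsMaximal := Ring.krullDimLE_zero_iff.mp inferInstance q.asIdeal q.isPrime
  apply PrimeSpectrum.ext
  exact IsLocalRing.eq_maximalIdeal hmax

lemma dim_le_zero_of_forall_eq {A : Type u} [CommRing A] [IsLocalRing A]
    (h : ∀ p : PrimeSpectrum A, p = closedPoint A) : ringKrullDim A ≤ 0 := by
  haveI : Subsingleton (PrimeSpectrum A) := ⟨fun p p' => (h p).trans (h p').symm⟩
  exact Order.krullDim_nonpos_of_subsingleton

theorem dim_le_aux (e : ℕ) : ∀ (A B : Type u) [CommRing A] [CommRing B] [IsLocalRing A]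
    [IsLocalRing B] [IsNoetherianRing A] [IsNoetherianRing B] (φ : A →+* B) [IsLocalHom φ]
    (_ : Function.Surjective (PrimeSpectrum.comap φ))
    (_ : ∀ q : PrimeSpectrum B, PrimeSpectrum.comap φ q = closedPoint A → q = closedPoint B),
    ringKrullDim B ≤ e → ringKrullDim A ≤ e := by
  induction e with
  | zero =>
    intro A B _ _ _ _ _ _ φ _ hsurj hH hB
    apply dim_le_zero_of_forall_eq
    intro p
    obtain ⟨q, rfl⟩ := hsurj p
    rw [eq_closedPoint_of_dim_le_zero (by exact_mod_cast hB) q]
    exact comap_closedPoint φ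
  | succ e ih =>
    intro A B _ _ _ _ _ _ φ _ hsurj hH hB
    by_cases hB0 : ringKrullDim B ≤ 0
    · have : ringKrullDim A ≤ 0 := by
        apply dim_le_zero_of_forall_eq
        intro p
        obtain ⟨q, rfl⟩ := hsurj p
        rw [eq_closedPoint_of_dim_le_zero hB0 q]
        exact comap_closedPoint φ
      exact this.trans (by exact_mod_cast Nat.zero_le _)
    · -- minimal primes of `B` are not the maximal ideal
      have hmin_ne : ∀ q ∈ minimalPrimes B, q ≠ maximalIdeal B := by
        rintro q hq rfl
        apply hB0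
        apply dim_le_zero_of_forall_eq
        intro P
        apply PrimeSpectrum.ext
        have hle : P.asIdeal ≤ maximalIdeal B := IsLocalRing.le_maximalIdeal P.isPrime.ne_top
        rw [minimalPrimes_eq_minimals] at hq
        exact le_antisymm hle (hq.2 P.isPrime hle)
      have hfin : (minimalPrimes B).Finite := minimalPrimes.finite_of_isNoetherianRing B
      -- prime avoidance
      obtain ⟨a, haM, haq⟩ : ∃ a ∈ maximalIdeal A, ∀ q ∈ minimalPrimes B, φ a ∉ q := by
        by_contra hcon
        push_neg at hcon
        have hsub : ((maximalIdeal A : Ideal A) : Set A) ⊆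
            ⋃ q ∈ (hfin.toFinset : Set (Ideal B)), ((q.comap φ : Ideal A) : Set A) := by
          intro a ha
          obtain ⟨q, hq, haq⟩ := hcon a ha
          exact Set.mem_biUnion (by simpa using hq) haq
        have hprime : ∀ q ∈ hfin.toFinset, q ≠ (⊥ : Ideal B) → q ≠ (⊥ : Ideal B) →
            (q.comap φ).IsPrime := by
          intro q hq _ _
          have hq' : q ∈ minimalPrimes B := by simpa using hq
          haveI : q.IsPrime := hq'.1.1
          infer_instance
        obtain ⟨q, hq, hle⟩ := (Ideal.subset_union_prime (⊥ : Ideal B) (⊥ : Ideal B) hprime).mp hsub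
        have hq' : q ∈ minimalPrimes B := by simpa using hq
        haveI : q.IsPrime := hq'.1.1
        have hcomap : q.comap φ = maximalIdeal A :=
          ((maximalIdeal.isMaximal A).eq_of_le (Ideal.IsPrime.ne_top inferInstance) hle).symm
        have := hH ⟨q, inferInstance⟩ (PrimeSpectrum.ext hcomap)
        exact hmin_ne q hq' (congrArg PrimeSpectrum.asIdeal this)
      -- quotients
      set IA : Ideal A := Ideal.span {a} with hIA
      set IB : Ideal B := Ideal.span {φ a} with hIB
      have hIA_ne : IA ≠ ⊤ := by
        intro h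
        have : IA ≤ maximalIdeal A := (Ideal.span_singleton_le_iff_mem _).mpr haM
        rw [h] at this
        exact (maximalIdeal.isMaximal A).ne_top (top_le_iff.mp this)
      have hφaM : φ a ∈ maximalIdeal B := by
        have := (IsLocalRing.local_hom_TFAE φ).out 0 3
        exact (this.mp inferInstance) haM
      have hIB_ne : IB ≠ ⊤ := by
        intro h
        have : IB ≤ maximalIdeal B := (Ideal.span_singleton_le_iff_mem _).mpr hφaM
        rw [h] at this
        exact (maximalIdeal.isMaximal B).ne_top (top_le_iff.mp this)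
      haveI : Nontrivial (A ⧸ IA) := Ideal.Quotient.nontrivial_iff.mpr hIA_ne
      haveI : Nontrivial (B ⧸ IB) := Ideal.Quotient.nontrivial_iff.mpr hIB_ne
      haveI : IsLocalRing (A ⧸ IA) :=
        IsLocalRing.of_surjective' (Ideal.Quotient.mk IA) Ideal.Quotient.mk_surjective
      haveI : IsLocalRing (B ⧸ IB) :=
        IsLocalRing.of_surjective' (Ideal.Quotient.mk IB) Ideal.Quotient.mk_surjective
      haveI : IsLocalHom (Ideal.Quotient.mk IA) :=
        IsLocalHom.of_surjective (Ideal.Quotient.mk IA) Ideal.Quotient.mk_surjective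
      haveI : IsLocalHom (Ideal.Quotient.mk IB) :=
        IsLocalHom.of_surjective (Ideal.Quotient.mk IB) Ideal.Quotient.mk_surjective
      have hle : IA ≤ IB.comap φ := by
        rw [hIA, Ideal.span_singleton_le_iff_mem, Ideal.mem_comap]
        exact Ideal.subset_span rfl
      let φ' : A ⧸ IA →+* B ⧸ IB := Ideal.quotientMap IB φ hle
      have hcomm : φ'.comp (Ideal.Quotient.mk IA) = (Ideal.Quotient.mk IB).comp φ := by
        ext x; rfl
      have hcomap : ∀ q' : PrimeSpectrum (B ⧸ IB),
          PrimeSpectrum.comap (Ideal.Quotient.mk IA) (PrimeSpectrum.comap φ' q') =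
            PrimeSpectrum.comap φ (PrimeSpectrum.comap (Ideal.Quotient.mk IB) q') := by
        intro q'
        rw [← PrimeSpectrum.comap_comp_apply, ← PrimeSpectrum.comap_comp_apply, hcomm]
      have hinjA : Function.Injective (PrimeSpectrum.comap (Ideal.Quotient.mk IA)) :=
        PrimeSpectrum.comap_injective_of_surjective _ Ideal.Quotient.mk_surjective
      have hinjB : Function.Injective (PrimeSpectrum.comap (Ideal.Quotient.mk IB)) :=
        PrimeSpectrum.comap_injective_of_surjective _ Ideal.Quotient.mk_surjective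
      haveI : IsLocalHom φ' := by
        rw [isLocalHom_iff_comap_closedPoint]
        apply hinjA
        rw [hcomap, comap_closedPoint, comap_closedPoint, comap_closedPoint]
      have hsurj' : Function.Surjective (PrimeSpectrum.comap φ') := by
        intro p'
        obtain ⟨q, hq⟩ := hsurj (PrimeSpectrum.comap (Ideal.Quotient.mk IA) p')
        have haq' : φ a ∈ q.asIdeal := by
          have h1 : a ∈ (PrimeSpectrum.comap φ q).asIdeal := by
            rw [hq]
            show Ideal.Quotient.mk IA a ∈ p'.asIdeal
            have : Ideal.Quotient.mk IA a = 0 :=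
              Ideal.Quotient.eq_zero_iff_mem.mpr (Ideal.subset_span rfl)
            rw [this]
            exact zero_mem _
          exact h1
        have hqmem : q ∈ Set.range (PrimeSpectrum.comap (Ideal.Quotient.mk IB)) := by
          rw [range_comap_of_surjective _ _ Ideal.Quotient.mk_surjective,
            PrimeSpectrum.mem_zeroLocus, Ideal.mk_ker, hIB, SetLike.coe_subset_coe,
            Ideal.span_singleton_le_iff_mem]
          exact haq'
        obtain ⟨q', rfl⟩ := hqmem
        refine ⟨q', hinjA ?_⟩
        rw [hcomap, hq]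
      have hH' : ∀ q' : PrimeSpectrum (B ⧸ IB),
          PrimeSpectrum.comap φ' q' = closedPoint (A ⧸ IA) → q' = closedPoint (B ⧸ IB) := by
        intro q' hq'
        apply hinjB
        rw [comap_closedPoint]
        apply hH
        rw [← hcomap, hq', comap_closedPoint]
      have hdimB' : ringKrullDim (B ⧸ IB) ≤ e :=
        withBot_cancel _ e ((quot_add_one_le (φ a) haq).trans hB)
      have hdimA' := ih (A ⧸ IA) (B ⧸ IB) φ' hsurj' hH' hdimB'
      calc ringKrullDim A ≤ ringKrullDim (A ⧸ IA) + 1 := dim_le_quot_add_one a haM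
        _ ≤ (e : WithBot ℕ∞) + 1 := add_le_add_left hdimA' 1
        _ = ((e + 1 : ℕ) : WithBot ℕ∞) := by push_cast; rfl

end Groth.Agent.Helper14.SurjSpecDim
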