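import Mathlib
import Groth.Prelude.Def_RegImm
import Groth.Agent.Lib.Helper14.TRLim11

/-!
# Transversally regular immersions over a cofiltered limit: globalization (helper14)
-/

set_option autoImplicit false
set_option linter.style.haveILetI false
set_option linter.unusedSectionVars false
set_option linter.unusedVariables false

universe u

open CategoryTheory AlgebraicGeometry Limits Opposite TopologicalSpace TensorProduct Function

namespace Groth.Agent.Helper14.TRLim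

section Global

variable {I : Type u} [SmallCategory I] [IsCofiltered I] (D : I ⥤ Scheme.{u}) (c : Cone D)
  (hc : IsLimit c) [∀ (i j : I) (f : i ⟶ j), IsAffineHom (D.map f)]
  (i₀ : I) {X₀ Y₀ : Scheme.{u}} (g₀ : X₀ ⟶ D.obj i₀) (j₀ : Y₀ ⟶ X₀)
  [LocallyOfFinitePresentation g₀] [LocallyOfFinitePresentation j₀] [IsImmersion j₀]
  [CompactSpace Y₀]

include hc in
set_option maxHeartbeats 1600000 in
theorem exists_stage_forall
    (h : ∀ z : (cY D c i₀ g₀ j₀).pt,
      RegImm.IsTransRegularImmersionAt (fXinf D c i₀ g₀) (iYinf D c i₀ g₀ j₀) z) :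
    ∃ m : Over i₀, ∀ z' : (YD D i₀ g₀ j₀).obj m,
      RegImm.IsTransRegularImmersionAt (fX D i₀ g₀ m) (iY D i₀ g₀ j₀ m) z' := by
  classical
  haveI hYaff : ∀ {l' l : Over i₀} (u : l' ⟶ l), IsAffineHom ((YD D i₀ g₀ j₀).map u) :=
    fun u => inferInstance
  let E := YD D i₀ g₀ j₀
  let cE := cY D c i₀ g₀ j₀
  have hcE : IsLimit cE := hcY D c hc i₀ g₀ j₀
  let R : ∀ l : Over i₀, (E.obj l).Opens := fun l => trLocus (fX D i₀ g₀ l) (iY D i₀ g₀ j₀ l)
  have mono : ∀ {l l' : Over i₀} (u : l' ⟶ l), E.map u ⁻¹ᵁ R l ≤ R l' := by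
    intro l l' u y hy
    exact TRIAt_baseChange (H1map D i₀ g₀ u) (H2map D i₀ g₀ j₀ u) y hy
  have cover : ∀ z : cE.pt, ∃ l : Over i₀, z ∈ cE.π.app l ⁻¹ᵁ R l := by
    intro z
    obtain ⟨l, hl⟩ := pointwise D c hc i₀ g₀ j₀ z (h z)
    exact ⟨l, hl⟩
  haveI : CompactSpace cE.pt := cY_compactSpace D c hc i₀ g₀ j₀
  obtain ⟨t, ht⟩ := isCompact_univ.elim_finite_subcover
    (fun l : Over i₀ => ((cE.π.app l ⁻¹ᵁ R l : cE.pt.Opens) : Set cE.pt))
    (fun l => (cE.π.app l ⁻¹ᵁ R l).isOpen)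
    (fun z _ => by
      obtain ⟨l, hl⟩ := cover z
      exact Set.mem_iUnion.mpr ⟨l, hl⟩)
  obtain ⟨l₀, hl₀⟩ := IsCofiltered.inf_objs_exists t
  have htop : cE.π.app l₀ ⁻¹ᵁ ⊤ ≤ cE.π.app l₀ ⁻¹ᵁ R l₀ := by
    intro z _
    have hz := ht (Set.mem_univ z)
    simp only [Set.mem_iUnion] at hz
    obtain ⟨l, hlt, hzl⟩ := hz
    obtain ⟨u⟩ := hl₀ hlt
    apply mono u
    change E.map u (cE.π.app l₀ z) ∈ R l
    have hw' : E.map u (cE.π.app l₀ z) = cE.π.app l z := apply_eq_of_comp_eq (cE.w u) z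
    rw [hw']
    exact hzl
  haveI : CompactSpace (E.obj l₀) := YD_compactSpace D i₀ g₀ j₀ l₀
  obtain ⟨l', u, hu⟩ := exists_map_preimage_le_map_preimage E cE hcE (i := l₀) (U := ⊤)
    (V := R l₀) (by rw [Opens.coe_top]; exact isCompact_univ) htop
  exact ⟨l', fun z' => mono u (hu (show z' ∈ E.map u ⁻¹ᵁ ⊤ from trivial))⟩

include hc in
/-- **Transversally regular immersions descend along cofiltered limits.** -/
theorem mainImm [CompactSpace X₀] :
    RegImm.IsTransRegularImmersion (pullback.snd g₀ (c.π.app i₀))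
        (pullback.snd j₀ (pullback.fst g₀ (c.π.app i₀))) ↔
      ∃ (j : I) (φ : j ⟶ i₀), RegImm.IsTransRegularImmersion (pullback.snd g₀ (D.map φ))
        (pullback.snd j₀ (pullback.fst g₀ (D.map φ))) := by
  constructor
  · rintro ⟨-, h⟩
    obtain ⟨m, hm⟩ := exists_stage_forall D c hc i₀ g₀ j₀ h
    exact ⟨m.left, m.hom, inferInstance, hm⟩
  · rintro ⟨j, φ, -, h⟩
    refine ⟨inferInstance, fun z => ?_⟩
    exact TRIAt_baseChange (H1π D c i₀ g₀ (Over.mk φ)) (H2π D c i₀ g₀ j₀ (Over.mk φ)) z (h _)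

end Global

end Groth.Agent.Helper14.TRLim
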