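import Mathlib

set_option autoImplicit false
universe u

namespace Groth.Agent.Helper14

open TensorProduct

section
variable {R S : Type u} [CommRing R] [CommRing S] [Algebra R S] {N : Type u} [AddCommGroup N]
  [Module S N] [Module R N] [IsScalarTower R S N]
  {M₁ M₂ : Type u} [AddCommGroup M₁] [Module R M₁] [AddCommGroup M₂] [Module R M₂]

theorem lTensor_smul_left (f : M₁ →ₗ[R] M₂) (s : S) (w : N ⊗[R] M₁) :
    LinearMap.lTensor N f (s • w) = s • LinearMap.lTensor N f w := by
  induction w using TensorProduct.induction_on with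
  | zero => simp
  | tmul n m => simp [TensorProduct.smul_tmul']
  | add a b ha hb => rw [smul_add, map_add, ha, hb, map_add, smul_add]

end

section
variable {R : Type u} [CommRing R] {N M : Type u} [AddCommGroup N] [Module R N]
  [AddCommGroup M] [Module R M]

/-- Vanishing in `N ⊗ M` of an element of `N ⊗ M₀` (`M₀` f.g.) happens at a finite stage. -/
theorem exists_fg_lTensor_inclusion_eq_zero {M₀ : Submodule R M} (hM₀ : M₀.FG)
    {w : N ⊗[R] M₀} (hw : LinearMap.lTensor N M₀.subtype w = 0) :
    ∃ M' : Submodule R M, M'.FG ∧ ∃ h : M₀ ≤ M',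
      LinearMap.lTensor N (Submodule.inclusion h) w = 0 := by
  have key : ∀ {A B : Type u} [AddCommGroup A] [Module R A] [AddCommGroup B] [Module R B]
      (f : A →ₗ[R] B) (x : N ⊗[R] A),
      LinearMap.rTensor N f (TensorProduct.comm R N A x) =
        TensorProduct.comm R N B (LinearMap.lTensor N f x) := by
    intro A B _ _ _ _ f x
    induction x using TensorProduct.induction_on with
    | zero => simp
    | tmul n m => simp
    | add a b ha hb => simp only [map_add, ha, hb]
  have h1 : M₀.subtype.rTensor N (TensorProduct.comm R N M₀ w) = M₀.subtype.rTensor N 0 := by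
    rw [key, hw, map_zero, map_zero]
  obtain ⟨M', hfg, hle, h2⟩ := Submodule.FG.exists_rTensor_fg_inclusion_eq hM₀ h1
  refine ⟨M', hfg, hle, ?_⟩
  rw [key, map_zero] at h2
  exact (TensorProduct.comm R N M').injective (h2.trans (map_zero _).symm)

end

end Groth.Agent.Helper14
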