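import Mathlib

/-!
# Field-theoretic lemmas on transcendence degree and tensor products (helper14)
-/

set_option autoImplicit false
universe u
open TensorProduct

namespace Groth.Agent.Helper14.Trdeg

/-- For a field extension `K/E`, an element `a` with `a ⊗ 1 = 1 ⊗ a` in `K ⊗[E] K` lies in `E`. -/
theorem mem_range_of_tmul_eq {E K : Type*} [Field E] [Field K] [Algebra E K] (a : K)
    (h : a ⊗ₜ[E] (1 : K) = (1 : K) ⊗ₜ[E] a) : a ∈ Set.range (algebraMap E K) := by
  by_contra hne
  let p : Submodule E K := Submodule.span E {1}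
  have hap : a ∉ p := by
    intro ha
    obtain ⟨c, hc⟩ := Submodule.mem_span_singleton.mp ha
    exact hne ⟨c, by rw [Algebra.algebraMap_eq_smul_one]; exact hc⟩
  obtain ⟨f, hfa, hfp⟩ := Submodule.exists_le_ker_of_notMem hap
  have h1 : f 1 = 0 := hfp (Submodule.subset_span rfl)
  have h2 := congrArg (fun z => TensorProduct.lid E K (LinearMap.rTensor K f z)) h
  simp only [LinearMap.rTensor_tmul, TensorProduct.lid_tmul, h1, zero_smul] at h2
  have h3 : f a = 0 := by
    by_contra h0
    have : (f a) • (1 : K) ≠ 0 := by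
      rw [← Algebra.algebraMap_eq_smul_one]
      exact (map_ne_zero (algebraMap E K)).mpr h0
    exact this h2
  exact hfa h3

/-- **Free compositum**: given algebraically independent `b₁, …, bₙ` in `K` over `k` and another
extension `L` of `k`, there is a field `Ω` receiving `K` and `L` compatibly over `k` in which
the images of the `bᵢ` are algebraically independent over `L`. -/
theorem exists_field_algIndep {k K L : Type u} [Field k] [Field K] [Field L] [Algebra k K]
    [Algebra k L] {n : ℕ} (b : Fin n → K) (hb : AlgebraicIndependent k b) :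
    ∃ (Ω : Type u) (_ : Field Ω) (α : K →+* Ω) (β : L →+* Ω),
      α.comp (algebraMap k K) = β.comp (algebraMap k L) ∧
      letI := β.toAlgebra
      AlgebraicIndependent L (α ∘ b) := by
  classical
  let R := L ⊗[k] K
  let ψ₀ : MvPolynomial (Fin n) k →ₐ[k] K := MvPolynomial.aeval b
  have hψ₀ : Function.Injective ψ₀ := hb
  let φ : MvPolynomial (Fin n) L →ₐ[L] R :=
    (Algebra.TensorProduct.map (AlgHom.id L L) ψ₀).comp
      (MvPolynomial.algebraTensorAlgEquiv k L).symm.toAlgHom
  have hφ : Function.Injective φ := by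
    have h1 : Function.Injective (Algebra.TensorProduct.map (AlgHom.id L L) ψ₀) := by
      have := Module.Flat.lTensor_preserves_injective_linearMap (M := L) ψ₀.toLinearMap hψ₀
      intro x y hxy
      apply this
      exact hxy
    exact h1.comp (MvPolynomial.algebraTensorAlgEquiv k L).symm.injective
  have hφX : ∀ i, φ (MvPolynomial.X i) = (1 : L) ⊗ₜ[k] b i := by
    intro i
    change (Algebra.TensorProduct.map (AlgHom.id L L) ψ₀)
      ((MvPolynomial.algebraTensorAlgEquiv k L).symm (MvPolynomial.X i)) = _
    rw [MvPolynomial.algebraTensorAlgEquiv_symm_X, Algebra.TensorProduct.map_tmul]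
    simp [ψ₀]
  -- the multiplicative set of images of nonzero polynomials
  let S : Submonoid R := Submonoid.map φ.toRingHom.toMonoidHom
    (nonZeroDivisors (MvPolynomial (Fin n) L))
  have hS : Disjoint ((⊥ : Ideal R) : Set R) (S : Set R) := by
    rw [Set.disjoint_left]
    rintro x hx ⟨q, hq, rfl⟩
    have hx0 : φ q = 0 := hx
    have : q = 0 := hφ (by rw [hx0, map_zero])
    exact (nonZeroDivisors.ne_zero hq) this
  obtain ⟨P, hP, -, hPS⟩ := Ideal.exists_le_prime_disjoint (⊥ : Ideal R) S hS
  let Ω := FractionRing (R ⧸ P)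
  let π : R →+* Ω := (algebraMap (R ⧸ P) Ω).comp (Ideal.Quotient.mk P)
  have hπ : ∀ x : R, π x = 0 → x ∈ P := by
    intro x hx
    have : (Ideal.Quotient.mk P) x = 0 :=
      (IsFractionRing.injective (R ⧸ P) Ω) (by rw [map_zero]; exact hx)
    exact Ideal.Quotient.eq_zero_iff_mem.mp this
  let α : K →+* Ω := π.comp (Algebra.TensorProduct.includeRight (R := k) (A := L) (B := K)).toRingHom
  let β : L →+* Ω := π.comp (Algebra.TensorProduct.includeLeftRingHom (R := k) (A := L) (B := K))
  refine ⟨Ω, inferInstance, α, β, ?_, ?_⟩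
  · ext c
    change π ((1 : L) ⊗ₜ[k] (algebraMap k K c)) = π ((algebraMap k L c) ⊗ₜ[k] (1 : K))
    rw [Algebra.TensorProduct.tmul_one_eq_one_tmul]
  · letI := β.toAlgebra
    rw [algebraicIndependent_iff_injective_aeval]
    have hcomp : (MvPolynomial.aeval (α ∘ b) : MvPolynomial (Fin n) L →ₐ[L] Ω).toRingHom =
        π.comp φ.toRingHom := by
      apply MvPolynomial.ringHom_ext
      · intro l
        change (MvPolynomial.aeval (α ∘ b)) (MvPolynomial.C l) = π (φ (MvPolynomial.C l))
        rw [MvPolynomial.aeval_C]
        have : φ (MvPolynomial.C l) = l ⊗ₜ[k] (1 : K) := by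
          have h1 : (MvPolynomial.C l : MvPolynomial (Fin n) L) =
              algebraMap L (MvPolynomial (Fin n) L) l := rfl
          rw [h1, AlgHom.commutes]
          rfl
        rw [this]
        rfl
      · intro i
        change (MvPolynomial.aeval (α ∘ b)) (MvPolynomial.X i) = π (φ (MvPolynomial.X i))
        rw [MvPolynomial.aeval_X, hφX]
        rfl
    rw [injective_iff_map_eq_zero]
    intro q hq
    by_contra hq0
    have h1 : π (φ q) = 0 := by
      have := congrArg (fun r : MvPolynomial (Fin n) L →+* Ω => r q) hcomp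
      exact this.symm.trans hq
    have h2 : φ q ∈ P := hπ _ h1
    have h3 : φ q ∈ S := ⟨q, mem_nonZeroDivisors_of_ne_zero hq0, rfl⟩
    exact Set.disjoint_left.mp hPS h2 h3

end Groth.Agent.Helper14.Trdeg
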