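import Mathlib
import Groth.Agent.Lib.Helper14.TrdegA

/-!
# Residue fields of points of a fibre product and transcendence degrees (helper14)
-/

set_option autoImplicit false
universe u
open CategoryTheory CategoryTheory.Limits AlgebraicGeometry TensorProduct

namespace Groth.Agent.Helper14.Trdeg

variable {P X Y S : Scheme.{u}} {fst : P ⟶ X} {snd : P ⟶ Y} {f : X ⟶ S} {g : Y ⟶ S}

/-- The residue field of a point of a fibre product is generated, as a field, by the residue
fields of its two projections: a subfield containing both images is everything. -/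
theorem subfield_eq_top (sq : IsPullback fst snd f g) (p : P) (F : Subfield (P.residueField p))
    (h1 : ∀ a, (fst.residueFieldMap p).hom a ∈ F) (h2 : ∀ a, (snd.residueFieldMap p).hom a ∈ F) :
    F = ⊤ := by
  let K := P.residueField p
  let T := K ⊗[F] K
  let u : K →+* T := Algebra.TensorProduct.includeLeftRingHom
  let v : K →+* T := (Algebra.TensorProduct.includeRight (R := F) (A := K) (B := K)).toRingHom
  have huv : ∀ a : K, a ∈ F → u a = v a := by
    intro a ha
    change a ⊗ₜ[F] (1 : K) = (1 : K) ⊗ₜ[F] a
    exact Algebra.TensorProduct.tmul_one_eq_one_tmul (⟨a, ha⟩ : F)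
  have hmain : Spec.map (CommRingCat.ofHom u) ≫ P.fromSpecResidueField p =
      Spec.map (CommRingCat.ofHom v) ≫ P.fromSpecResidueField p := by
    apply sq.hom_ext
    · rw [Category.assoc, Category.assoc, ← Scheme.Hom.SpecMap_residueFieldMap_fromSpecResidueField,
        ← Spec.map_comp_assoc, ← Spec.map_comp_assoc]
      congr 2
      ext a
      exact huv _ (h1 a)
    · rw [Category.assoc, Category.assoc, ← Scheme.Hom.SpecMap_residueFieldMap_fromSpecResidueField,
        ← Spec.map_comp_assoc, ← Spec.map_comp_assoc]
      congr 2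
      ext a
      exact huv _ (h2 a)
  have huv' : CommRingCat.ofHom u = CommRingCat.ofHom v :=
    Spec.map_injective ((cancel_mono _).mp hmain)
  rw [eq_top_iff]
  intro a _
  have h3 : u a = v a := congrArg (fun w => w.hom a) huv'
  obtain ⟨c, hc⟩ := mem_range_of_tmul_eq (E := F) (K := K) a h3
  rw [← hc]
  exact c.2

open Cardinal in
/-- **Transcendence degree does not grow under base change**: for a point `p` of a fibre product,
`trdeg κ(p)/κ(snd p) ≤ trdeg κ(fst p)/κ(f (fst p))` (stated with a finite bound). -/
theorem trdeg_lt_of_isPullback (sq : IsPullback fst snd f g) (p : P) (n : ℕ)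
    (h : letI := (f.residueFieldMap (fst p)).hom.toAlgebra
      Algebra.trdeg (S.residueField (f (fst p))) (X.residueField (fst p)) < (n : Cardinal.{u})) :
    letI := (snd.residueFieldMap p).hom.toAlgebra
    Algebra.trdeg (Y.residueField (snd p)) (P.residueField p) < (n : Cardinal.{u}) := by
  letI algK₀ : Algebra (S.residueField (f (fst p))) (X.residueField (fst p)) :=
    (f.residueFieldMap (fst p)).hom.toAlgebra
  letI algK : Algebra (Y.residueField (snd p)) (P.residueField p) :=
    (snd.residueFieldMap p).hom.toAlgebra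
  change Algebra.trdeg (S.residueField (f (fst p))) (X.residueField (fst p)) < n at h
  change Algebra.trdeg (Y.residueField (snd p)) (P.residueField p) < n
  let σ : X.residueField (fst p) →+* P.residueField p := (fst.residueFieldMap p).hom
  have hpt : (fst ≫ f) p = (snd ≫ g) p := by rw [sq.w]
  have hsq : f.residueFieldMap (fst p) ≫ fst.residueFieldMap p =
      (S.residueFieldCongr hpt).hom ≫ g.residueFieldMap (snd p) ≫ snd.residueFieldMap p := by
    have e1 := Scheme.residueFieldMap_comp fst f p
    have e2 := Scheme.residueFieldMap_comp snd g p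
    have e3 := Scheme.Hom.residueFieldMap_congr sq.w p
    exact e1.symm.trans (e3.trans (congrArg (fun w => (S.residueFieldCongr hpt).hom ≫ w) e2))
  let γ : S.residueField (f (fst p)) →+* Y.residueField (snd p) :=
    ((S.residueFieldCongr hpt).hom ≫ g.residueFieldMap (snd p)).hom
  have hσγ : ∀ c : S.residueField (f (fst p)),
      σ (algebraMap (S.residueField (f (fst p))) (X.residueField (fst p)) c) =
        algebraMap (Y.residueField (snd p)) (P.residueField p) (γ c) := by
    intro c
    exact congrArg (fun w => w.hom c) hsq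
  obtain ⟨s, hs⟩ := exists_isTranscendenceBasis (S.residueField (f (fst p)))
    (X.residueField (fst p))
  have hcard : #s < (n : Cardinal.{u}) := by rw [hs.cardinalMk_eq_trdeg]; exact h
  let B' : Set (P.residueField p) := σ '' s
  have hB' : #B' < (n : Cardinal.{u}) := lt_of_le_of_lt Cardinal.mk_image_le hcard
  let R₁ : Subalgebra (Y.residueField (snd p)) (P.residueField p) :=
    Algebra.adjoin (Y.residueField (snd p)) B'
  let F : Subfield (P.residueField p) :=
    { (Subalgebra.algebraicClosure R₁ (P.residueField p)).toSubring with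
      inv_mem' := fun a ha => IsAlgebraic.inv ha }
  have hFmem : ∀ a : P.residueField p, a ∈ F ↔ IsAlgebraic R₁ a := fun a => Iff.rfl
  -- the subalgebra generated by the transcendence basis
  let A₁ : Subalgebra (S.residueField (f (fst p))) (X.residueField (fst p)) :=
    Algebra.adjoin (S.residueField (f (fst p))) (Set.range ((↑) : s → X.residueField (fst p)))
  have halg : Algebra.IsAlgebraic A₁ (X.residueField (fst p)) := hs.isAlgebraic
  have hmem : ∀ x : A₁, (σ.comp A₁.val.toRingHom) x ∈ R₁ := by
    rintro ⟨x, hx⟩
    change σ x ∈ R₁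
    induction hx using Algebra.adjoin_induction with
    | mem x hx =>
      obtain ⟨⟨y, hy⟩, rfl⟩ := hx
      exact Algebra.subset_adjoin ⟨y, hy, rfl⟩
    | algebraMap c =>
      rw [hσγ]
      exact Subalgebra.algebraMap_mem R₁ (γ c)
    | add x y _ _ hx hy => rw [map_add]; exact R₁.add_mem hx hy
    | mul x y _ _ hx hy => rw [map_mul]; exact R₁.mul_mem hx hy
  let ρ : A₁ →+* R₁ := (σ.comp A₁.val.toRingHom).codRestrict R₁ hmem
  have hρinj : Function.Injective ρ := by
    intro x y hxy
    have : σ x.1 = σ y.1 := congrArg Subtype.val hxy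
    exact Subtype.ext (σ.injective this)
  have h1 : ∀ a, (fst.residueFieldMap p).hom a ∈ F := by
    intro a
    rw [hFmem]
    exact (halg.isAlgebraic a).ringHom_of_comp_eq ρ σ hρinj (by ext x; rfl)
  have h2 : ∀ l, (snd.residueFieldMap p).hom l ∈ F := by
    intro l
    rw [hFmem]
    exact isAlgebraic_algebraMap (algebraMap (Y.residueField (snd p)) R₁ l)
  have hF : F = ⊤ := subfield_eq_top sq p F h1 h2
  haveI : Algebra.IsAlgebraic R₁ (P.residueField p) :=
    ⟨fun a => (hFmem a).mp (hF ▸ Subfield.mem_top a)⟩
  exact lt_of_le_of_lt (Algebra.IsAlgebraic.trdeg_le_cardinalMk (Y.residueField (snd p)) B') hB'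

open Cardinal in
/-- from a lower bound on the transcendence degree, an algebraically independent family. -/
theorem exists_algIndep_of_le_trdeg {k K : Type u} [Field k] [Field K] [Algebra k K] (n : ℕ)
    (h : (n : Cardinal.{u}) ≤ Algebra.trdeg k K) :
    ∃ b : Fin n → K, AlgebraicIndependent k b := by
  obtain ⟨s, hs⟩ := exists_isTranscendenceBasis k K
  rw [← hs.cardinalMk_eq_trdeg] at h
  have h' : lift.{u} #(Fin n) ≤ lift.{0} #s := by
    rw [Cardinal.mk_fin, Cardinal.lift_natCast, Cardinal.lift_uzero]
    exact h
  obtain ⟨e⟩ := Cardinal.lift_mk_le'.mp h'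
  exact ⟨fun i => (e i : K), hs.1.comp e e.injective⟩

open Cardinal in
/-- **A point of the fibre product with no drop of transcendence degree**: over `x` and `y`
there is a point `p` with `trdeg κ(p)/κ(y) ≥ n` as soon as `trdeg κ(x)/κ(f x) ≥ n`. -/
theorem exists_point_trdeg_ge (sq : IsPullback fst snd f g) (x : X) (y : Y) (hxy : f x = g y)
    (n : ℕ)
    (h : letI := (f.residueFieldMap x).hom.toAlgebra
      (n : Cardinal.{u}) ≤ Algebra.trdeg (S.residueField (f x)) (X.residueField x)) :
    ∃ p : P, fst p = x ∧ snd p = y ∧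
      letI := (snd.residueFieldMap p).hom.toAlgebra
      (n : Cardinal.{u}) ≤ Algebra.trdeg (Y.residueField (snd p)) (P.residueField p) := by
  letI algK : Algebra (S.residueField (f x)) (X.residueField x) :=
    (f.residueFieldMap x).hom.toAlgebra
  letI algL : Algebra (S.residueField (f x)) (Y.residueField y) :=
    ((S.residueFieldCongr hxy).hom ≫ g.residueFieldMap y).hom.toAlgebra
  change (n : Cardinal.{u}) ≤ Algebra.trdeg (S.residueField (f x)) (X.residueField x) at h
  obtain ⟨b, hb⟩ := exists_algIndep_of_le_trdeg n h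
  obtain ⟨Ω, _, α, β, hαβ, hind⟩ := exists_field_algIndep (L := Y.residueField y) b hb
  -- the morphism `Spec Ω ⟶ P`
  have hαβ' : f.residueFieldMap x ≫ CommRingCat.ofHom α =
      (S.residueFieldCongr hxy).hom ≫ g.residueFieldMap y ≫ CommRingCat.ofHom β := by
    ext c
    exact congrArg (fun w => w c) hαβ
  have hcompat : (Spec.map (CommRingCat.ofHom α) ≫ X.fromSpecResidueField x) ≫ f =
      (Spec.map (CommRingCat.ofHom β) ≫ Y.fromSpecResidueField y) ≫ g := by
    rw [Category.assoc, Category.assoc,
      ← Scheme.Hom.SpecMap_residueFieldMap_fromSpecResidueField,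
      ← Scheme.Hom.SpecMap_residueFieldMap_fromSpecResidueField,
      ← Scheme.residueFieldCongr_fromSpecResidueField hxy,
      ← Spec.map_comp_assoc, ← Spec.map_comp_assoc, ← Spec.map_comp_assoc]
    exact congrArg (fun w => Spec.map w ≫ S.fromSpecResidueField (f x)) hαβ'
  let φ : Spec (CommRingCat.of Ω) ⟶ P := sq.lift _ _ hcompat
  have hφ1 : φ ≫ fst = Spec.map (CommRingCat.ofHom α) ≫ X.fromSpecResidueField x :=
    sq.lift_fst _ _ _
  have hφ2 : φ ≫ snd = Spec.map (CommRingCat.ofHom β) ≫ Y.fromSpecResidueField y :=
    sq.lift_snd _ _ _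
  let pt : Spec (CommRingCat.of Ω) := IsLocalRing.closedPoint Ω
  let p : P := φ pt
  have hx : fst p = x := by
    change (φ ≫ fst) pt = x
    rw [hφ1, Scheme.Hom.comp_apply, Scheme.fromSpecResidueField_apply]
  have hy : snd p = y := by
    change (φ ≫ snd) pt = y
    rw [hφ2, Scheme.Hom.comp_apply, Scheme.fromSpecResidueField_apply]
  let ω : P.residueField p ⟶ CommRingCat.of Ω :=
    Scheme.descResidueField (Scheme.stalkClosedPointTo φ)
  have hω : Spec.map ω ≫ P.fromSpecResidueField p = φ :=
    Scheme.descResidueField_stalkClosedPointTo_fromSpecResidueField Ω P φ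
  have ha : snd.residueFieldMap p ≫ ω = (Y.residueFieldCongr hy).hom ≫ CommRingCat.ofHom β := by
    apply Spec.map_injective
    apply (cancel_mono (Y.fromSpecResidueField (snd p))).mp
    rw [Spec.map_comp, Category.assoc, Scheme.Hom.SpecMap_residueFieldMap_fromSpecResidueField,
      ← Category.assoc, hω, hφ2, Spec.map_comp, Category.assoc,
      Scheme.residueFieldCongr_fromSpecResidueField]
    rfl
  have hb' : fst.residueFieldMap p ≫ ω = (X.residueFieldCongr hx).hom ≫ CommRingCat.ofHom α := by
    apply Spec.map_injective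
    apply (cancel_mono (X.fromSpecResidueField (fst p))).mp
    rw [Spec.map_comp, Category.assoc, Scheme.Hom.SpecMap_residueFieldMap_fromSpecResidueField,
      ← Category.assoc, hω, hφ1, Spec.map_comp, Category.assoc,
      Scheme.residueFieldCongr_fromSpecResidueField]
    rfl
  refine ⟨p, hx, hy, ?_⟩
  letI algP : Algebra (Y.residueField (snd p)) (P.residueField p) :=
    (snd.residueFieldMap p).hom.toAlgebra
  change (n : Cardinal.{u}) ≤ Algebra.trdeg (Y.residueField (snd p)) (P.residueField p)
  let c : Fin n → P.residueField p :=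
    fun i => (fst.residueFieldMap p).hom ((X.residueFieldCongr hx).inv.hom (b i))
  have hωc : ∀ i, ω.hom (c i) = α (b i) := by
    intro i
    have h1 := congrArg (fun w => w.hom ((X.residueFieldCongr hx).inv.hom (b i))) hb'
    have h2 : (X.residueFieldCongr hx).hom.hom ((X.residueFieldCongr hx).inv.hom (b i)) = b i := by
      rw [← CommRingCat.comp_apply, Iso.inv_hom_id]; rfl
    change ω.hom (c i) = α ((X.residueFieldCongr hx).hom.hom _) at h1
    rw [h2] at h1
    exact h1
  letI algΩ : Algebra (Y.residueField y) Ω := β.toAlgebra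
  have hc : AlgebraicIndependent (Y.residueField (snd p)) c := by
    refine AlgebraicIndependent.of_ringHom_of_comp_eq (S := Y.residueField y) (B := Ω)
      (f := (Y.residueFieldCongr hy).hom.hom) (g := ω.hom) ?_ ?_ ?_
    · have : (ω.hom ∘ c) = α ∘ b := funext hωc
      rw [this]
      exact hind
    · exact (ConcreteCategory.bijective_of_isIso (Y.residueFieldCongr hy).hom).1
    · ext l
      exact (congrArg (fun w => w.hom l) ha).symm
  have := hc.lift_cardinalMk_le_trdeg
  rw [Cardinal.mk_fin, Cardinal.lift_natCast, Cardinal.lift_uzero] at this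
  exact this

end Groth.Agent.Helper14.Trdeg
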