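import Mathlib
import Groth.Prelude.Def_FlatFun
import Groth.Agent.Lib.Helper14.TrdegB
import Groth.Agent.Lib.Helper14.FlatDescI

/-!
# `F_n` (flatness in dimensions `≥ n`) is a sheaf for the fpqc topology (helper14)
-/

set_option autoImplicit false
universe u
open CategoryTheory CategoryTheory.Limits AlgebraicGeometry

namespace Groth.Agent.Helper14.Trdeg

open Groth.Agent.Helper14.FlatDesc

variable {X S : Scheme.{u}} (f : X ⟶ S) (F : X.Modules) [F.IsQuasicoherent]

theorem isSheaf_dimFibres (n : ℕ) :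
    Presheaf.IsSheaf (QuotSh.J Scheme.fpqcPrecoverage S)
      (FlatFun.genPSp S (fun T => FlatFun.DimFibresLT n (PicF.XTproj f T)
        {x | ¬ FlatMod.IsFlatOverAt (PicF.XTproj f T) (FGA.ET f F T) x})) := by
  apply isSheaf_genPSp
  · intro T T₀ k hk x hx
    have hx₀ : bc f k x ∈ {x | ¬ FlatMod.IsFlatOverAt (PicF.XTproj f T₀) (FGA.ET f F T₀) x} := by
      intro hflat
      apply hx
      have h1 := Groth.Agent.Helper12.FlatModBC.isFlatOverAt_baseChange (isPullback_bc f k)
        (FGA.ET f F T₀) x hflat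
      exact isFlatOverAt_of_iso _ ((pullbackBcIso f k).app F) x h1
    have h2 := hk _ hx₀
    exact trdeg_lt_of_isPullback (isPullback_bc f k) x n h2
  · intro T ι Ti g hcov hQ x hx
    obtain ⟨hsurj, hflat⟩ := (Scheme.ofArrows_mem_precoverage_iff (P := @Flat)).1 hcov.2
    haveI : ∀ i, Flat (g i).left := hflat
    by_contra hlt
    have hge := not_lt.mp hlt
    obtain ⟨i, ti, hti⟩ := hsurj (PicF.XTproj f T x)
    obtain ⟨p, hp1, hp2, hp3⟩ :=
      exists_point_trdeg_ge (isPullback_bc f (g i)) x ti hti.symm n hge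
    have hpnf : p ∈ {x | ¬ FlatMod.IsFlatOverAt (PicF.XTproj f (Ti i)) (FGA.ET f F (Ti i)) x} := by
      intro hflat'
      apply hx
      have h1 : FlatMod.IsFlatOverAt (PicF.XTproj f (Ti i))
          ((Scheme.Modules.pullback (bc f (g i))).obj (FGA.ET f F T)) p :=
        isFlatOverAt_of_iso _ ((pullbackBcIso f (g i)).app F).symm p hflat'
      have h2 := Groth.Agent.Helper12.FlatModBC.isFlatOverAt_of_baseChange
        (isPullback_bc f (g i)) (FGA.ET f F T) p (Flat.stalkMap (g i).left _) h1
      rw [hp1] at h2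
      exact h2
    have h3 := hQ i p hpnf
    exact absurd h3 (not_lt.mpr hp3)

end Groth.Agent.Helper14.Trdeg
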