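import Mathlib
import Groth.Prelude.Def_FlatFun
import Groth.Agent.Lib.Helper14.TrdegB
import Groth.Agent.Lib.Helper14.FlatDescI

/-!
# Flatness in dimensions `≥ n` and étale localisation on the source (helper14)
-/

set_option autoImplicit false
universe u
open CategoryTheory CategoryTheory.Limits AlgebraicGeometry TensorProduct

namespace Groth.Agent.Helper14.Trdeg

open Groth.Agent.Helper14.FlatDesc

/-- flatness over the base passes to the pullback along a flat morphism of the source. -/
theorem isFlatOverAt_pullback_of_flat {X' X T : Scheme.{u}} (h : X' ⟶ X) [Flat h] (q : X ⟶ T)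
    (G : X.Modules) [G.IsQuasicoherent] (x' : X')
    (hfl : FlatMod.IsFlatOverAt q G (h x')) :
    FlatMod.IsFlatOverAt (h ≫ q) ((Scheme.Modules.pullback h).obj G) x' := by
  letI iAC : Algebra (T.presheaf.stalk (q (h x'))) (X.presheaf.stalk (h x')) :=
    (q.stalkMap (h x')).hom.toAlgebra
  letI iCB' : Algebra (X.presheaf.stalk (h x')) (X'.presheaf.stalk x') :=
    (h.stalkMap x').hom.toAlgebra
  letI iAB' : Algebra (T.presheaf.stalk (q (h x'))) (X'.presheaf.stalk x') :=
    ((h ≫ q).stalkMap x').hom.toAlgebra
  haveI : IsScalarTower (T.presheaf.stalk (q (h x'))) (X.presheaf.stalk (h x'))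
      (X'.presheaf.stalk x') := IsScalarTower.of_algebraMap_eq fun r => by
    change ((h ≫ q).stalkMap x').hom r = (h.stalkMap x').hom ((q.stalkMap (h x')).hom r)
    rw [Scheme.Hom.stalkMap_comp]
    rfl
  letI iAN : Module (T.presheaf.stalk (q (h x'))) (G.presheaf.stalk (h x')) :=
    FlatMod.moduleStalkOver q G (h x')
  haveI : IsScalarTower (T.presheaf.stalk (q (h x'))) (X.presheaf.stalk (h x'))
      (G.presheaf.stalk (h x')) := IsScalarTower.of_algebraMap_smul fun r x => rfl
  haveI : Module.Flat (T.presheaf.stalk (q (h x'))) (G.presheaf.stalk (h x')) := hfl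
  haveI : Module.Flat (X.presheaf.stalk (h x')) (X'.presheaf.stalk x') := Flat.stalkMap h x'
  have key : Module.Flat (T.presheaf.stalk (q (h x')))
      ((X'.presheaf.stalk x') ⊗[X.presheaf.stalk (h x')] (G.presheaf.stalk (h x'))) :=
    Groth.Agent.Helper12.FlatModBC.flat_tensor_of_flat (G.presheaf.stalk (h x'))
      (X'.presheaf.stalk x')
  obtain ⟨e⟩ := Groth.Agent.Helper13.Pullback.exists_stalk_pullback_equiv h G x'
  letI iAM' : Module (T.presheaf.stalk (q (h x')))
      (((Scheme.Modules.pullback h).obj G).presheaf.stalk x') :=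
    FlatMod.moduleStalkOver (h ≫ q) _ x'
  haveI : IsScalarTower (T.presheaf.stalk (q (h x'))) (X'.presheaf.stalk x')
      (((Scheme.Modules.pullback h).obj G).presheaf.stalk x') :=
    IsScalarTower.of_algebraMap_smul fun r x => rfl
  have hfin : @Module.Flat (T.presheaf.stalk (q (h x')))
      (((Scheme.Modules.pullback h).obj G).presheaf.stalk x') _ _ iAM' :=
    Module.Flat.of_linearEquiv (e.restrictScalars (T.presheaf.stalk (q (h x'))))
  exact hfin

/-- an algebraic residue field extension on the source does not change the transcendence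
degree over the base. -/
theorem trdeg_lt_comp_of_isAlgebraic {X' X T : Scheme.{u}} (h : X' ⟶ X) (q : X ⟶ T) (x' : X')
    (n : ℕ)
    (halg : letI := (h.residueFieldMap x').hom.toAlgebra
      Algebra.IsAlgebraic (X.residueField (h x')) (X'.residueField x'))
    (hlt : letI := (q.residueFieldMap (h x')).hom.toAlgebra
      Algebra.trdeg (T.residueField (q (h x'))) (X.residueField (h x')) < (n : Cardinal.{u})) :
    letI := ((h ≫ q).residueFieldMap x').hom.toAlgebra
    Algebra.trdeg (T.residueField ((h ≫ q) x')) (X'.residueField x') < (n : Cardinal.{u}) := by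
  letI a1 : Algebra (X.residueField (h x')) (X'.residueField x') :=
    (h.residueFieldMap x').hom.toAlgebra
  letI a2 : Algebra (T.residueField (q (h x'))) (X.residueField (h x')) :=
    (q.residueFieldMap (h x')).hom.toAlgebra
  letI a3 : Algebra (T.residueField (q (h x'))) (X'.residueField x') :=
    ((h ≫ q).residueFieldMap x').hom.toAlgebra
  haveI : IsScalarTower (T.residueField (q (h x'))) (X.residueField (h x'))
      (X'.residueField x') := IsScalarTower.of_algebraMap_eq fun r => by
    change ((h ≫ q).residueFieldMap x').hom r =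
      (h.residueFieldMap x').hom ((q.residueFieldMap (h x')).hom r)
    rw [Scheme.residueFieldMap_comp]
    rfl
  haveI : Algebra.IsAlgebraic (X.residueField (h x')) (X'.residueField x') := halg
  have h1 := trdeg_add_eq (T.residueField (q (h x'))) (X.residueField (h x'))
    (A := X'.residueField x')
  rw [trdeg_eq_zero (R := X.residueField (h x')) (A := X'.residueField x'),
    add_zero] at h1
  change Algebra.trdeg (T.residueField (q (h x'))) (X'.residueField x') < (n : Cardinal.{u})
  rw [← h1]
  exact hlt

end Groth.Agent.Helper14.Trdeg
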