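import Mathlib

set_option autoImplicit false
set_option linter.style.haveILetI false
set_option linter.unusedSectionVars false
set_option linter.unusedVariables false
set_option maxRecDepth 8000

universe u

open CategoryTheory CategoryTheory.Limits MonoidalCategory CartesianMonoidalCategory MonObj GrpObj AlgebraicGeometry

namespace Groth.Agent.Helper14.UnitSec

/-- (U1): the diagonal of a group scheme is a base change of its unit section. -/
theorem diag_isPullback {S : Scheme.{u}} (G : Over S) [GrpObj G] :
    IsPullback (pullback.diagonal G.hom) G.hom ((fst G G)⁻¹ * snd G G : G ⊗ G ⟶ G).left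
      η[G].left := by
  let d : G ⊗ G ⟶ G := (fst G G)⁻¹ * snd G G
  have hΔ : pullback.diagonal G.hom = (lift (𝟙 G) (𝟙 G)).left := by
    apply pullback.hom_ext
    · rw [pullback.diagonal_fst, Over.lift_left, pullback.lift_fst]; rfl
    · rw [pullback.diagonal_snd, Over.lift_left, pullback.lift_snd]; rfl
  have hw : lift (𝟙 G) (𝟙 G) ≫ d = toUnit G ≫ η[G] := by
    simp only [d]
    rw [MonObj.comp_mul, GrpObj.comp_inv, lift_fst, lift_snd, inv_mul_cancel]
    rfl
  have key : ∀ {T : Scheme.{u}} (a : T ⟶ pullback G.hom G.hom) (b : T ⟶ S),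
      a ≫ d.left = b ≫ η[G].left → a ≫ pullback.fst _ _ = a ≫ pullback.snd _ _ := by
    intro T a b hab
    let T' : Over S := Over.mk (a ≫ (G ⊗ G).hom)
    let a' : T' ⟶ G ⊗ G := Over.homMk a rfl
    have hb : b = T'.hom := by
      have h1 := congrArg (· ≫ G.hom) hab
      simp only [Category.assoc] at h1
      rw [Over.w d, Over.w η[G]] at h1
      change a ≫ (G ⊗ G).hom = b ≫ 𝟙 S at h1
      rw [Category.comp_id] at h1
      exact h1.symm
    have h1 : a' ≫ d = 1 := by
      apply Over.OverMorphism.ext
      change a ≫ d.left = (toUnit T' ≫ η[G]).left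
      rw [hab, hb]
      rfl
    have h2 : (a' ≫ fst G G)⁻¹ * (a' ≫ snd G G) = 1 := by
      rw [← h1]
      simp only [d]
      rw [MonObj.comp_mul, GrpObj.comp_inv]
    have h3 : a' ≫ fst G G = a' ≫ snd G G := by
      have := inv_mul_eq_one.mp h2
      exact this
    exact congrArg CommaMorphism.left h3
  refine ⟨⟨?_⟩, ⟨PullbackCone.IsLimit.mk _ (fun s => s.fst ≫ pullback.fst _ _) ?_ ?_ ?_⟩⟩
  · rw [hΔ]
    have := congrArg CommaMorphism.left hw
    exact this
  · intro s
    have hk := key s.fst s.snd s.condition
    apply pullback.hom_ext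
    · simp
    · simp [hk]
  · intro s
    have h1 := congrArg (· ≫ G.hom) s.condition
    simp only [Category.assoc] at h1
    rw [Over.w d, Over.w η[G]] at h1
    change s.fst ≫ (pullback.fst G.hom G.hom ≫ G.hom) = s.snd ≫ 𝟙 S at h1
    rw [Category.comp_id] at h1
    rw [Category.assoc]
    exact h1
  · intro s m hm1 hm2
    have := congrArg (· ≫ pullback.fst G.hom G.hom) hm1
    simpa using this

theorem diag_of_unit {S : Scheme.{u}} (G : Over S) [GrpObj G] (h : IsOpenImmersion η[G].left) :
    IsOpenImmersion (pullback.diagonal G.hom) :=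
  MorphismProperty.of_isPullback (P := @IsOpenImmersion) (diag_isPullback G).flip h

end Groth.Agent.Helper14.UnitSec
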