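import Mathlib
import Groth.Agent.Lib.Helper14.LftGrpField
import Groth.Agent.Lib.Helper14.UnitSecDiag
import Groth.Agent.Lib.Helper27.SecOpen
import Groth.Agent.Lib.Helper11.UnitFibre
import Groth.Agent.Lib.Helper3.FuFibres

set_option autoImplicit false
set_option linter.style.haveILetI false
set_option linter.unusedSectionVars false
set_option linter.unusedVariables false
set_option maxRecDepth 8000

universe u

open CategoryTheory CategoryTheory.Limits MonoidalCategory CartesianMonoidalCategory MonObj GrpObj AlgebraicGeometry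

namespace Groth.Agent.Helper14.UnitSec

theorem unit_w {S : Scheme.{u}} (G : Over S) [GrpObj G] : η[G].left ≫ G.hom = 𝟙 S :=
  Over.w η[G]

/-- the range of an open-immersion unit section is an open, isomorphic to the base. -/
theorem range_lfp {S : Scheme.{u}} (G : Over S) [GrpObj G] (h : IsOpenImmersion η[G].left) :
    IsIso ((η[G].left.opensRange).ι ≫ G.hom) := by
  let e := IsOpenImmersion.isoOfRangeEq η[G].left (η[G].left.opensRange).ι
    (by simp)
  have he : e.hom ≫ (η[G].left.opensRange).ι = η[G].left :=
    IsOpenImmersion.isoOfRangeEq_hom_fac _ _ _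
  have : (η[G].left.opensRange).ι ≫ G.hom = e.inv := by
    rw [← cancel_epi e.hom, ← Category.assoc, he, e.hom_inv_id]
    exact unit_w G
  rw [this]
  infer_instance

theorem main5318 (S : Scheme.{u}) (G : Over S) [GrpObj G] :
    (IsOpenImmersion η[G].left ↔
      ((∃ W : G.left.Opens, (∀ p : ↥(𝟙_ (Over S)).left, η[G].left.base p ∈ W) ∧
          LocallyOfFinitePresentation (W.ι ≫ G.hom)) ∧
        ∀ s : S, FormallyUnramified (G.hom.fiberToSpecResidueField s) ∧
          LocallyOfFinitePresentation (G.hom.fiberToSpecResidueField s))) ∧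
    (LocallyOfFinitePresentation G.hom → (IsOpenImmersion η[G].left ↔ FormallyUnramified G.hom)) := by
  refine ⟨⟨fun h => ⟨⟨η[G].left.opensRange, fun p => ⟨p, rfl⟩, ?_⟩, fun s => ?_⟩, ?_⟩, ?_⟩
  · have := range_lfp G h
    infer_instance
  · -- the fibre group
    let φ : Spec (S.residueField s) ⟶ S := S.fromSpecResidueField s
    let H : Over (Spec (S.residueField s)) := (Over.pullback φ).obj G
    letI : GrpObj H := Functor.grpObjObj (F := Over.pullback φ) (G := G)
    have hη : IsOpenImmersion η[H].left := Groth.Agent.Helper11.UnitFibre.unit_fibre G h φ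
    have hΔ : IsOpenImmersion (pullback.diagonal H.hom) := diag_of_unit H hη
    have hfu : FormallyUnramified H.hom := inferInstance
    have hiso := range_lfp H hη
    have hne : ((η[H].left.opensRange : H.left.Opens) : Set H.left).Nonempty := by
      have : Nonempty (Spec (S.residueField s)) :=
        inferInstanceAs (Nonempty (PrimeSpectrum (S.residueField s)))
      obtain ⟨p⟩ := this
      exact ⟨η[H].left p, ⟨p, rfl⟩⟩
    have hlft : LocallyOfFiniteType ((η[H].left.opensRange).ι ≫ H.hom) := inferInstance
    have hH : LocallyOfFiniteType H.hom :=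
      Groth.Agent.Helper14.LftGrp.field_case (S.residueField s) H _ hne
    have hHfp : LocallyOfFinitePresentation H.hom :=
      LocallyOfFinitePresentation.iff_locallyOfFiniteType.mpr hH
    exact ⟨hfu, hHfp⟩
  · rintro ⟨⟨W, hW, hWfp⟩, hfib⟩
    have hlft : LocallyOfFiniteType (W.ι ≫ G.hom) := inferInstance
    have hfu : FormallyUnramified (W.ι ≫ G.hom) := by
      apply Groth.Agent.Lib.Helper3.FuFibres.fu_of_fibres
      intro s
      have h1 := (hfib s).1
      let i : (W.ι ≫ G.hom).fiber s ⟶ G.hom.fiber s :=
        pullback.map _ _ _ _ W.ι (𝟙 _) (𝟙 _) (by simp) (by simp)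
      have hi : IsOpenImmersion i :=
        Scheme.pullback_map_isOpenImmersion _ _ _ _ _ _ _ _ _
      have e : (W.ι ≫ G.hom).fiberToSpecResidueField s =
          i ≫ G.hom.fiberToSpecResidueField s := by
        exact ((pullback.lift_snd _ _ _).trans (Category.comp_id _)).symm
      rw [e]
      exact IsZariskiLocalAtSource.comp (P := @FormallyUnramified) h1 i
    have hsub : Set.range η[G].left ⊆ Set.range W.ι := by
      rintro _ ⟨p, rfl⟩
      rw [Scheme.Opens.range_ι]
      exact hW p
    let σ : S ⟶ W := IsOpenImmersion.lift W.ι η[G].left hsub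
    have hσ : σ ≫ W.ι = η[G].left := IsOpenImmersion.lift_fac _ _ _
    have hσf : σ ≫ (W.ι ≫ G.hom) = 𝟙 S := by
      rw [← Category.assoc, hσ, unit_w]
    have := Groth.Agent.Helper27.SecOpen.section_isOpenImmersion (W.ι ≫ G.hom) σ hσf
    rw [← hσ]
    infer_instance
  · intro hfp
    constructor
    · intro h
      have := diag_of_unit G h
      infer_instance
    · intro hfu
      exact Groth.Agent.Helper27.SecOpen.section_isOpenImmersion G.hom η[G].left (unit_w G)

end Groth.Agent.Helper14.UnitSec
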