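import Mathlib
import Groth.Prelude.Def_Omega3
open TensorProduct
universe u
set_option autoImplicit false
set_option linter.style.haveILetI false
set_option linter.unusedVariables false
/-!
# Universal first order thickenings and derivations
-/
namespace Groth.Agent.Helper14.UnivThick

section
variable {R A B B' : Type u} [CommRing R] [CommRing A] [CommRing B] [CommRing B'] [Algebra R A]
  [Algebra A B] [Algebra A B'] [Algebra R B'] [IsScalarTower R A B']
  (π : B' →ₐ[A] B)
  (M : Type u) [AddCommGroup M] [Module B' M] [Module A M] [Module R M] [IsScalarTower A B' M]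
  [IsScalarTower R B' M]

/-- the twisted structure map `a ↦ (a, δ₀ a)` -/
noncomputable def tau [Module B'ᵐᵒᵖ M] [IsCentralScalar B' M] (δ₀ : Derivation R A M) :
    A →+* TrivSqZeroExt B' M where
  toFun a := TrivSqZeroExt.inl (algebraMap A B' a) + TrivSqZeroExt.inr (δ₀ a)
  map_one' := by
    ext <;> simp
  map_mul' a b := by
    ext
    · simp
    · simp only [TrivSqZeroExt.snd_add, TrivSqZeroExt.snd_inl, TrivSqZeroExt.snd_inr, zero_add,
        TrivSqZeroExt.snd_mul, TrivSqZeroExt.fst_add, TrivSqZeroExt.fst_inl, TrivSqZeroExt.fst_inr,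
        add_zero, Derivation.leibniz, op_smul_eq_smul, algebraMap_smul]
  map_zero' := by
    ext <;> simp
  map_add' a b := by
    ext
    · simp
    · simp only [TrivSqZeroExt.snd_add, TrivSqZeroExt.snd_inl, TrivSqZeroExt.snd_inr, zero_add,
        map_add]

theorem exists_derivation_extension (h : OmegaSh.IsUnivThickeningRing A B B' π)
    (hK : ∀ k ∈ RingHom.ker π.toRingHom, ∀ m : M, k • m = 0) (δ₀ : Derivation R A M) :
    ∃ δ : Derivation R B' M, ∀ a, δ (algebraMap A B' a) = δ₀ a := by
  obtain ⟨hsurj, hsq, huniv⟩ := h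
  letI : Module B'ᵐᵒᵖ M := Module.compHom M ((RingHom.id B').fromOpposite mul_comm)
  haveI : IsCentralScalar B' M := ⟨fun r m => rfl⟩
  letI : Algebra A (TrivSqZeroExt B' M) := (tau M δ₀).toAlgebra
  have halg : ∀ a, algebraMap A (TrivSqZeroExt B' M) a =
      TrivSqZeroExt.inl (algebraMap A B' a) + TrivSqZeroExt.inr (δ₀ a) := fun a => rfl
  let g : TrivSqZeroExt B' M →ₐ[A] B :=
    { toRingHom := π.toRingHom.comp (TrivSqZeroExt.fstHom B' B' M).toRingHom
      commutes' := fun a => by
        change π ((algebraMap A (TrivSqZeroExt B' M) a).fst) = _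
        rw [halg]
        simp }
  have hg : ∀ x, g x = π x.fst := fun x => rfl
  have hgsurj : Function.Surjective g := by
    intro b
    obtain ⟨b', rfl⟩ := hsurj b
    exact ⟨TrivSqZeroExt.inl b', by rw [hg, TrivSqZeroExt.fst_inl]⟩
  have hI : (RingHom.ker g) ^ 2 = ⊥ := by
    rw [eq_bot_iff, pow_two, Ideal.mul_le]
    intro x hx y hy
    have hx' : x.fst ∈ RingHom.ker π.toRingHom := hx
    have hy' : y.fst ∈ RingHom.ker π.toRingHom := hy
    rw [Ideal.mem_bot]
    ext
    · rw [TrivSqZeroExt.fst_mul, TrivSqZeroExt.fst_zero, ← Ideal.mem_bot, ← hsq, pow_two]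
      exact Ideal.mul_mem_mul hx' hy'
    · rw [TrivSqZeroExt.snd_mul, TrivSqZeroExt.snd_zero, hK _ hx', op_smul_eq_smul, hK _ hy',
        add_zero]
  let e : (TrivSqZeroExt B' M ⧸ RingHom.ker g) ≃ₐ[A] B :=
    Ideal.quotientKerAlgEquivOfSurjective hgsurj
  obtain ⟨a', ha', -⟩ := huniv (TrivSqZeroExt B' M) (RingHom.ker g) hI e.symm.toAlgHom
  have h1 : ∀ x, π (a' x).fst = π x := by
    intro x
    have h0 := congrArg (fun f => f x) ha'
    change Ideal.Quotient.mk _ (a' x) = e.symm (π x) at h0
    exact (AlgEquiv.eq_symm_apply e).mp h0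
  -- `fst ∘ a' = id`
  have h2 : ∀ x, (a' x).fst = x := by
    let e₀ : (B' ⧸ RingHom.ker π) ≃ₐ[A] B := Ideal.quotientKerAlgEquivOfSurjective hsurj
    obtain ⟨a₀, ha₀, huniq₀⟩ := huniv B' (RingHom.ker π) hsq e₀.symm.toAlgHom
    have hid : AlgHom.id A B' = a₀ := by
      apply huniq₀
      apply AlgHom.ext
      intro x
      change Ideal.Quotient.mk _ x = e₀.symm (π x)
      rw [AlgEquiv.eq_symm_apply]
      rfl
    let φ : B' →ₐ[A] B' :=
      { toRingHom := (TrivSqZeroExt.fstHom B' B' M).toRingHom.comp a'.toRingHom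
        commutes' := fun a => by
          change (a' (algebraMap A B' a)).fst = _
          rw [a'.commutes, halg]
          simp }
    have hφ : φ = a₀ := by
      apply huniq₀
      apply AlgHom.ext
      intro x
      change Ideal.Quotient.mk _ (a' x).fst = e₀.symm (π x)
      rw [AlgEquiv.eq_symm_apply]
      exact h1 x
    intro x
    exact congrArg (fun f => f x) (hφ.trans hid.symm)
  -- the derivation
  let δl : B' →ₗ[R] M :=
    { toFun := fun x => (a' x).snd
      map_add' := fun x y => by rw [map_add, TrivSqZeroExt.snd_add]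
      map_smul' := fun r x => by
        have h3 : r • x = algebraMap A B' (algebraMap R A r) * x := by
          rw [← IsScalarTower.algebraMap_apply R A B', Algebra.smul_def]
        rw [RingHom.id_apply, h3, map_mul, a'.commutes, halg,
          TrivSqZeroExt.snd_mul, Derivation.map_algebraMap]
        simp only [TrivSqZeroExt.fst_add, TrivSqZeroExt.fst_inl, TrivSqZeroExt.fst_inr, add_zero,
          TrivSqZeroExt.snd_add, TrivSqZeroExt.snd_inl, TrivSqZeroExt.snd_inr, smul_zero]
        rw [← IsScalarTower.algebraMap_apply R A B', algebraMap_smul] }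
  refine ⟨Derivation.mk' δl ?_, ?_⟩
  · intro x y
    change (a' (x * y)).snd = x • (a' y).snd + y • (a' x).snd
    rw [map_mul, TrivSqZeroExt.snd_mul, h2, h2, op_smul_eq_smul]
  · intro a
    change (a' (algebraMap A B' a)).snd = _
    rw [a'.commutes, halg]
    simp

end

section
variable {A B B' : Type u} [CommRing A] [CommRing B] [CommRing B']
  [Algebra A B] [Algebra A B'] (π : B' →ₐ[A] B)
  (M : Type u) [AddCommGroup M] [Module B' M] [Module A M] [IsScalarTower A B' M]

theorem derivation_eq_zero (h : OmegaSh.IsUnivThickeningRing A B B' π)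
    (hK : ∀ k ∈ RingHom.ker π.toRingHom, ∀ m : M, k • m = 0) (δ : Derivation A B' M) :
    δ = 0 := by
  obtain ⟨hsurj, hsq, huniv⟩ := h
  letI : Module B'ᵐᵒᵖ M := Module.compHom M ((RingHom.id B').fromOpposite mul_comm)
  haveI : IsCentralScalar B' M := ⟨fun r m => rfl⟩
  letI : Algebra A (TrivSqZeroExt B' M) := (tau M (0 : Derivation A A M)).toAlgebra
  have halg : ∀ a, algebraMap A (TrivSqZeroExt B' M) a =
      TrivSqZeroExt.inl (algebraMap A B' a) := fun a => by
    change TrivSqZeroExt.inl (algebraMap A B' a) + TrivSqZeroExt.inr ((0 : Derivation A A M) a) = _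
    simp
  let g : TrivSqZeroExt B' M →ₐ[A] B :=
    { toRingHom := π.toRingHom.comp (TrivSqZeroExt.fstHom B' B' M).toRingHom
      commutes' := fun a => by
        change π ((algebraMap A (TrivSqZeroExt B' M) a).fst) = _
        rw [halg]
        simp }
  have hg : ∀ x, g x = π x.fst := fun x => rfl
  have hgsurj : Function.Surjective g := by
    intro b
    obtain ⟨b', rfl⟩ := hsurj b
    exact ⟨TrivSqZeroExt.inl b', by rw [hg, TrivSqZeroExt.fst_inl]⟩
  have hI : (RingHom.ker g) ^ 2 = ⊥ := by
    rw [eq_bot_iff, pow_two, Ideal.mul_le]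
    intro x hx y hy
    have hx' : x.fst ∈ RingHom.ker π.toRingHom := hx
    have hy' : y.fst ∈ RingHom.ker π.toRingHom := hy
    rw [Ideal.mem_bot]
    ext
    · rw [TrivSqZeroExt.fst_mul, TrivSqZeroExt.fst_zero, ← Ideal.mem_bot, ← hsq, pow_two]
      exact Ideal.mul_mem_mul hx' hy'
    · rw [TrivSqZeroExt.snd_mul, TrivSqZeroExt.snd_zero, hK _ hx', op_smul_eq_smul, hK _ hy',
        add_zero]
  let e : (TrivSqZeroExt B' M ⧸ RingHom.ker g) ≃ₐ[A] B :=
    Ideal.quotientKerAlgEquivOfSurjective hgsurj
  obtain ⟨a', ha', huniq⟩ := huniv (TrivSqZeroExt B' M) (RingHom.ker g) hI e.symm.toAlgHom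
  let a₁ : B' →ₐ[A] TrivSqZeroExt B' M :=
    { toRingHom := TrivSqZeroExt.inlHom B' M
      commutes' := fun a => (halg a).symm }
  let a₂ : B' →ₐ[A] TrivSqZeroExt B' M :=
    { toFun := fun x => TrivSqZeroExt.inl x + TrivSqZeroExt.inr (δ x)
      map_one' := by ext <;> simp
      map_mul' := fun x y => by
        ext
        · simp
        · simp only [TrivSqZeroExt.snd_add, TrivSqZeroExt.snd_inl, TrivSqZeroExt.snd_inr, zero_add,
            TrivSqZeroExt.snd_mul, TrivSqZeroExt.fst_add, TrivSqZeroExt.fst_inl,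
            TrivSqZeroExt.fst_inr, add_zero, Derivation.leibniz, op_smul_eq_smul]
      map_zero' := by ext <;> simp
      map_add' := fun x y => by
        ext
        · simp
        · simp only [TrivSqZeroExt.snd_add, TrivSqZeroExt.snd_inl, TrivSqZeroExt.snd_inr, zero_add,
            map_add]
      commutes' := fun a => by
        rw [halg, Derivation.map_algebraMap]
        simp }
  have h₁ : a₁ = a' := by
    apply huniq
    apply AlgHom.ext
    intro x
    change Ideal.Quotient.mk _ (a₁ x) = e.symm (π x)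
    rw [AlgEquiv.eq_symm_apply]
    change π (TrivSqZeroExt.inl x : TrivSqZeroExt B' M).fst = π x
    rw [TrivSqZeroExt.fst_inl]
  have h₂ : a₂ = a' := by
    apply huniq
    apply AlgHom.ext
    intro x
    change Ideal.Quotient.mk _ (a₂ x) = e.symm (π x)
    rw [AlgEquiv.eq_symm_apply]
    change π (TrivSqZeroExt.inl x + TrivSqZeroExt.inr (δ x) : TrivSqZeroExt B' M).fst = π x
    simp
  ext x
  have := congrArg (fun f => (f x).snd) (h₂.trans h₁.symm)
  change (TrivSqZeroExt.inl x + TrivSqZeroExt.inr (δ x) : TrivSqZeroExt B' M).snd =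
    (TrivSqZeroExt.inl x : TrivSqZeroExt B' M).snd at this
  simpa using this

end
end Groth.Agent.Helper14.UnivThick
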