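import Mathlib
import Groth.Prelude.Def_WeilRes
import Groth.Agent.Lib.Helper18.DSPts

/-!
# Sections of the Weil restriction of `G_m` over a semilocal ring lift residue sections
(scheme-level reduction to a unit-lifting statement for `B → (A/m) ⊗_A B`)
-/

set_option autoImplicit false
set_option linter.style.haveILetI false
set_option linter.unusedSectionVars false
set_option linter.unusedVariables false
set_option maxRecDepth 8000

universe u

open CategoryTheory CategoryTheory.Limits AlgebraicGeometry TensorProduct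

namespace Groth.Agent.Helper14.WeilGm

open Groth.Agent.Helper18

/-- the ring-level input -/
def UnitLift (A B : Type u) [CommRing A] [CommRing B] [Algebra A B] : Prop :=
  ∀ c : ∀ m : MaximalSpectrum A, ((A ⧸ m.asIdeal) ⊗[A] B)ˣ, ∃ b : Bˣ,
    ∀ m : MaximalSpectrum A,
      (Algebra.TensorProduct.includeRight (R := A) (A := A ⧸ m.asIdeal) (b : B)) =
        (c m : (A ⧸ m.asIdeal) ⊗[A] B)

section

variable (A B : Type u) [CommRing A] [CommRing B] [Algebra A B]

/-- comparison `Γ(Spec (A/I) ×_A Spec B) → (A/I) ⊗_A B` -/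
noncomputable def theta (I : Ideal A) :
    Γ(pullback (Spec.map (CommRingCat.ofHom (algebraMap A (A ⧸ I))))
      (Spec.map (CommRingCat.ofHom (algebraMap A B))), ⊤) ⟶
      CommRingCat.of ((A ⧸ I) ⊗[A] B) :=
  (pullbackSpecIso A (A ⧸ I) B).inv.appTop ≫ (Scheme.ΓSpecIso (CommRingCat.of ((A ⧸ I) ⊗[A] B))).hom

noncomputable def thetaInv (I : Ideal A) :
    CommRingCat.of ((A ⧸ I) ⊗[A] B) ⟶
    Γ(pullback (Spec.map (CommRingCat.ofHom (algebraMap A (A ⧸ I))))
      (Spec.map (CommRingCat.ofHom (algebraMap A B))), ⊤) :=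
  (Scheme.ΓSpecIso (CommRingCat.of ((A ⧸ I) ⊗[A] B))).inv ≫ (pullbackSpecIso A (A ⧸ I) B).hom.appTop

theorem theta_thetaInv (I : Ideal A) : theta A B I ≫ thetaInv A B I = 𝟙 _ := by
  unfold theta thetaInv
  rw [Category.assoc, Iso.hom_inv_id_assoc, ← Scheme.Hom.comp_appTop, Iso.hom_inv_id]
  rfl

theorem theta_injective (I : Ideal A) : Function.Injective (theta A B I).hom := by
  intro x y h
  have h1 := congrArg (thetaInv A B I).hom h
  have h2 : ∀ z, (thetaInv A B I).hom ((theta A B I).hom z) = z := by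
    intro z
    have := congrArg (fun φ => φ.hom z) (theta_thetaInv A B I)
    exact this
  rwa [h2, h2] at h1

theorem theta_snd (I : Ideal A) (b : B) :
    (theta A B I).hom ((pullback.snd (Spec.map (CommRingCat.ofHom (algebraMap A (A ⧸ I))))
      (Spec.map (CommRingCat.ofHom (algebraMap A B)))).appTop.hom
        ((Scheme.ΓSpecIso (CommRingCat.of B)).inv.hom b)) =
      Algebra.TensorProduct.includeRight (R := A) (A := A ⧸ I) b := by
  have h1 := congrArg Scheme.Hom.appTop (pullbackSpecIso_inv_snd A (A ⧸ I) B)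
  rw [Scheme.Hom.comp_appTop] at h1
  have h2 := Scheme.ΓSpecIso_naturality
    (CommRingCat.ofHom (R := B) (S := (A ⧸ I) ⊗[A] B)
      (RingHomClass.toRingHom (Algebra.TensorProduct.includeRight (R := A) (A := A ⧸ I) (B := B))))
  have h3 : (pullback.snd (Spec.map (CommRingCat.ofHom (algebraMap A (A ⧸ I))))
      (Spec.map (CommRingCat.ofHom (algebraMap A B)))).appTop ≫ theta A B I =
      (Scheme.ΓSpecIso (CommRingCat.of B)).hom ≫
        CommRingCat.ofHom (R := B) (S := (A ⧸ I) ⊗[A] B)
          (RingHomClass.toRingHom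
            (Algebra.TensorProduct.includeRight (R := A) (A := A ⧸ I) (B := B))) := by
    unfold theta
    rw [← Category.assoc, h1, h2]
  have h4 := congrArg (fun φ => φ.hom ((Scheme.ΓSpecIso (CommRingCat.of B)).inv.hom b)) h3
  have h5 : (Scheme.ΓSpecIso (CommRingCat.of B)).hom.hom
      ((Scheme.ΓSpecIso (CommRingCat.of B)).inv.hom b) = b := by
    have := congrArg (fun φ => φ.hom b) (Scheme.ΓSpecIso (CommRingCat.of B)).inv_hom_id
    exact this
  refine h4.trans ?_
  show (RingHomClass.toRingHom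
    (Algebra.TensorProduct.includeRight (R := A) (A := A ⧸ I) (B := B)))
      ((Scheme.ΓSpecIso (CommRingCat.of B)).hom.hom
        ((Scheme.ΓSpecIso (CommRingCat.of B)).inv.hom b)) = _
  rw [h5]
  rfl

end

theorem main (A : Type u) [CommRing A] (B : Type u) [CommRing B] [Algebra A B]
    (hUL : UnitLift A B)
    (P : Over (Spec (CommRingCat.of A)))
    (q : Red.bc (Spec.map (CommRingCat.ofHom (algebraMap A B))) P ⟶
      Red.Gm (Spec (CommRingCat.of B)))
    (hP : WeilRes.IsWeilRes (Spec.map (CommRingCat.ofHom (algebraMap A B)))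
      (Red.Gm (Spec (CommRingCat.of B))) P q)
    (u : ∀ m : MaximalSpectrum A, Spec (CommRingCat.of (A ⧸ m.asIdeal)) ⟶ P.left)
    (hu : ∀ m : MaximalSpectrum A,
      u m ≫ P.hom = (Spec.map (CommRingCat.ofHom (Ideal.Quotient.mk m.asIdeal)))) :
    ∃ s : Spec (CommRingCat.of A) ⟶ P.left, s ≫ P.hom = 𝟙 (Spec (CommRingCat.of A)) ∧
      ∀ m : MaximalSpectrum A,
        (Spec.map (CommRingCat.ofHom (Ideal.Quotient.mk m.asIdeal))) ≫ s = u m := by
  let S : Scheme.{u} := Spec (CommRingCat.of A)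
  let S' : Scheme.{u} := Spec (CommRingCat.of B)
  let f : S' ⟶ S := Spec.map (CommRingCat.ofHom (algebraMap A B))
  let T₀ : Over S := Over.mk (𝟙 S)
  let Tm : MaximalSpectrum A → Over S := fun m =>
    Over.mk (Spec.map (CommRingCat.ofHom (algebraMap A (A ⧸ m.asIdeal))))
  let im : ∀ m, Tm m ⟶ T₀ := fun m =>
    Over.homMk (Spec.map (CommRingCat.ofHom (algebraMap A (A ⧸ m.asIdeal)))) (Category.comp_id _)
  let um : ∀ m, Tm m ⟶ P := fun m => Over.homMk (u m) (hu m)
  let xm : ∀ m, Red.bc f (Tm m) ⟶ Red.Gm S' := fun m => WeilRes.restr f q (Tm m) (um m)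
  -- the units downstairs
  have hcu : ∀ m, IsUnit ((theta A B m.asIdeal).hom
      (DSPts.charOfPt (xm m) (Multiplicative.ofAdd (1 : ℤ)))) := by
    intro m
    exact ((Group.isUnit (Multiplicative.ofAdd (1 : ℤ))).map (DSPts.charOfPt (xm m))).map
      (theta A B m.asIdeal).hom
  obtain ⟨b, hb⟩ := hUL (fun m => (hcu m).unit)
  -- the unit upstairs
  let β : B →+* Γ(pullback T₀.hom f, ⊤) :=
    (pullback.snd T₀.hom f).appTop.hom.comp (Scheme.ΓSpecIso (CommRingCat.of B)).inv.hom
  let b₀ : (Γ(pullback T₀.hom f, ⊤))ˣ := Units.map (β : B →* Γ(pullback T₀.hom f, ⊤)) b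
  let χ : Multiplicative ℤ →* Γ(pullback T₀.hom f, ⊤) :=
    (Units.coeHom _).comp (zpowersHom _ b₀)
  have hχ1 : χ (Multiplicative.ofAdd (1 : ℤ)) = β b := by
    show ((zpowersHom _ b₀) (Multiplicative.ofAdd (1 : ℤ)) : Γ(pullback T₀.hom f, ⊤)) = β b
    rw [zpowersHom_apply]
    simp [b₀]
  let x : Red.bc f T₀ ⟶ Red.Gm S' := DSPts.ptOfChar χ
  obtain ⟨s, hs⟩ := (hP T₀).2 x
  have hsm : ∀ m, im m ≫ s = um m := by
    intro m
    apply (hP (Tm m)).1
    show WeilRes.restr f q (Tm m) (im m ≫ s) = xm m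
    rw [WeilRes.restr_comp, hs]
    apply DSPts.charOfPt_injective
    rw [DSPts.charOfPt_comp, DSPts.charOfPt_ptOfChar]
    apply MonoidHom.ext_mint
    show ((Over.pullback f).map (im m)).left.appTop.hom (χ (Multiplicative.ofAdd (1 : ℤ))) = _
    rw [hχ1]
    apply theta_injective A B m.asIdeal
    have h1 : ((Over.pullback f).map (im m)).left ≫ pullback.snd T₀.hom f =
        pullback.snd (Tm m).hom f := by
      show pullback.lift _ _ _ ≫ _ = _
      exact pullback.lift_snd _ _ _
    have h2 := congrArg Scheme.Hom.appTop h1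
    rw [Scheme.Hom.comp_appTop] at h2
    have h3 : ((Over.pullback f).map (im m)).left.appTop.hom (β b) =
        (pullback.snd (Tm m).hom f).appTop.hom
          ((Scheme.ΓSpecIso (CommRingCat.of B)).inv.hom b) :=
      congrArg (fun φ => φ.hom ((Scheme.ΓSpecIso (CommRingCat.of B)).inv.hom b)) h2
    rw [h3]
    have h4 := theta_snd A B m.asIdeal (b : B)
    refine h4.trans ?_
    rw [hb m]
    exact (hcu m).unit_spec
  refine ⟨s.left, Over.w s, fun m => ?_⟩
  have := congrArg (fun t => CommaMorphism.left t) (hsm m)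
  exact this

end Groth.Agent.Helper14.WeilGm
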